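import Groth.Agent.Lib.Helper10.Horseshoe

set_option backward.isDefEq.respectTransparency false
set_option backward.isDefEq.respectTransparency.types false
set_option autoImplicit false

universe v u v' u'

open CategoryTheory CategoryTheory.Limits

noncomputable section

namespace H10SES

open RDer

variable {C : Type u} [Category.{v} C] [Abelian C] [HasInjectiveResolutions C]
  {D : Type u'} [Category.{v'} D] [Abelian D] (F : C ⥤ D) [F.Additive]

section

variable {S : ShortComplex C} (T : SESRes S)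

theorem delta_indep (T' : SESRes S) (n₀ n₁ : ℕ) (h : n₀ + 1 = n₁) :
    T.delta F n₀ n₁ h = T'.delta F n₀ n₁ h := by
  have hS : S.ShortExact := shortExact_of_sesRes T
  have key := delta_natural F hS (𝟙 S) T T' n₀ n₁ h
  simp only [ShortComplex.id_τ₃, ShortComplex.id_τ₁, CategoryTheory.Functor.map_id,
    Category.id_comp, Category.comp_id] at key
  exact key.symm

lemma nat_f (n : ℕ) : (F.rightDerived n).map S.f ≫ (T.I₂.isoRightDerivedObj F n).hom =
    (T.I₁.isoRightDerivedObj F n).hom ≫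
      HomologicalComplex.homologyMap ((F.mapHomologicalComplex (ComplexShape.up ℕ)).map T.f) n :=
  InjectiveResolution.isoRightDerivedObj_hom_naturality S.f T.I₁ T.I₂ T.f (aug_f T) F n

lemma nat_g (n : ℕ) : (F.rightDerived n).map S.g ≫ (T.I₃.isoRightDerivedObj F n).hom =
    (T.I₂.isoRightDerivedObj F n).hom ≫
      HomologicalComplex.homologyMap ((F.mapHomologicalComplex (ComplexShape.up ℕ)).map T.g) n :=
  InjectiveResolution.isoRightDerivedObj_hom_naturality S.g T.I₂ T.I₃ T.g (aug_g T) F n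

include T in
lemma les_exact₂ (n : ℕ) :
    (ShortComplex.mk ((F.rightDerived n).map S.f) ((F.rightDerived n).map S.g)
      (by rw [← Functor.map_comp, S.zero, Functor.map_zero])).Exact := by
  refine (ShortComplex.exact_iff_of_iso ?_).2 ((T.map_shortExact F).homology_exact₂ n)
  exact ShortComplex.isoMk (T.I₁.isoRightDerivedObj F n) (T.I₂.isoRightDerivedObj F n)
    (T.I₃.isoRightDerivedObj F n) (nat_f F T n).symm (nat_g F T n).symm

variable (n₀ n₁ : ℕ) (h : n₀ + 1 = n₁)

lemma les_comp_δ : (F.rightDerived n₀).map S.g ≫ T.delta F n₀ n₁ h = 0 := by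
  have e := (T.map_shortExact F).comp_δ n₀ n₁ h
  rw [← cancel_mono (T.I₁.isoRightDerivedObj F n₁).hom, Category.assoc,
    SESRes.delta_comp_isoRightDerivedObj_hom, reassoc_of% (nat_g F T n₀), zero_comp]
  exact (congrArg (fun x => (T.I₂.isoRightDerivedObj F n₀).hom ≫ x) e).trans comp_zero

lemma les_δ_comp : T.delta F n₀ n₁ h ≫ (F.rightDerived n₁).map S.f = 0 := by
  have e := (T.map_shortExact F).δ_comp n₀ n₁ h
  rw [← cancel_mono (T.I₂.isoRightDerivedObj F n₁).hom, Category.assoc, nat_f F T n₁,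
    ← Category.assoc, SESRes.delta_comp_isoRightDerivedObj_hom, Category.assoc, zero_comp]
  exact (congrArg (fun x => (T.I₃.isoRightDerivedObj F n₀).hom ≫ x) e).trans comp_zero

lemma les_exact₃ : (ShortComplex.mk ((F.rightDerived n₀).map S.g) (T.delta F n₀ n₁ h)
    (les_comp_δ F T n₀ n₁ h)).Exact := by
  refine (ShortComplex.exact_iff_of_iso ?_).2 ((T.map_shortExact F).homology_exact₃ n₀ n₁ h)
  exact ShortComplex.isoMk (T.I₂.isoRightDerivedObj F n₀) (T.I₃.isoRightDerivedObj F n₀)
    (T.I₁.isoRightDerivedObj F n₁) (nat_g F T n₀).symm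
    (SESRes.delta_comp_isoRightDerivedObj_hom T F n₀ n₁ h).symm

lemma les_exact₁ : (ShortComplex.mk (T.delta F n₀ n₁ h) ((F.rightDerived n₁).map S.f)
    (les_δ_comp F T n₀ n₁ h)).Exact := by
  refine (ShortComplex.exact_iff_of_iso ?_).2 ((T.map_shortExact F).homology_exact₁ n₀ n₁ h)
  exact ShortComplex.isoMk (T.I₃.isoRightDerivedObj F n₀) (T.I₁.isoRightDerivedObj F n₁)
    (T.I₂.isoRightDerivedObj F n₁)
    (SESRes.delta_comp_isoRightDerivedObj_hom T F n₀ n₁ h).symm (nat_f F T n₁).symm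

end

/-- the connecting morphisms of the right derived functors -/
def derivedLES : RDer.DerivedLES F where
  δ S hS n₀ n₁ h := (nonempty_sesRes hS).some.delta F n₀ n₁ h
  δ_eq S hS T n₀ n₁ h := delta_indep F _ T n₀ n₁ h
  δ_natural hS hS' φ n₀ n₁ h := delta_natural F hS φ _ _ n₀ n₁ h
  exact₂ S hS n := les_exact₂ F (nonempty_sesRes hS).some n
  comp_δ S hS n₀ n₁ h := les_comp_δ F _ n₀ n₁ h
  exact₃ S hS n₀ n₁ h := les_exact₃ F _ n₀ n₁ h
  δ_comp S hS n₀ n₁ h := les_δ_comp F _ n₀ n₁ h
  exact₁ S hS n₀ n₁ h := les_exact₁ F _ n₀ n₁ h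

end H10SES
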