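import Mathlib
import Groth.Prelude.Def_Koszul

/-!
# Low degrees of the Koszul complex (mapping cone model) and `H_1`-regularity (helper10)

`K(l)^0 ≃ A`, `K(l)^{-1} ≃ A^n`, `d(e a) = ι (Σ aᵢ lᵢ)`, and the image of `d : K^{-2} → K^{-1}`
consists of combinations of the trivial relations.  Consequence: a Koszul-regular sequence
(`H^{-1} = 0`) is `H_1`-regular.
-/

set_option autoImplicit false
universe u

namespace H10KL

open CategoryTheory CategoryTheory.Limits CochainComplex HomComplex

section ConeEl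
variable {A : Type u} [CommRing A] {F G : CochainComplex (ModuleCat.{u} A) ℤ} (φ : F ⟶ G)

noncomputable def inlG (p q : ℤ) (h : q + 1 = p) : F.X p →ₗ[A] (mappingCone φ).X q :=
  ((mappingCone.inl φ).v p q (by omega)).hom

noncomputable def inrG (q : ℤ) : G.X q →ₗ[A] (mappingCone φ).X q :=
  ((mappingCone.inr φ).f q).hom

noncomputable def fstG (q p : ℤ) (h : q + 1 = p) : (mappingCone φ).X q →ₗ[A] F.X p :=
  ((mappingCone.fst φ).1.v q p h).hom

noncomputable def sndG (q : ℤ) : (mappingCone φ).X q →ₗ[A] G.X q :=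
  ((mappingCone.snd φ).v q q (add_zero q)).hom

lemma decompG (q p : ℤ) (h : q + 1 = p) (z : (mappingCone φ).X q) :
    z = inlG φ p q h (fstG φ q p h z) + inrG φ q (sndG φ q z) := by
  have h1 := congrArg (fun ψ => ψ.hom z) (mappingCone.id_X φ q p h)
  simp only [ModuleCat.hom_add, ModuleCat.hom_comp, LinearMap.add_apply, LinearMap.comp_apply,
    ModuleCat.hom_id, LinearMap.id_apply] at h1
  exact h1.symm

lemma d_inlG (n m k : ℤ) (hnm : n + 1 = m) (hmk : m + 1 = k) (a : F.X m) :
    ((mappingCone φ).d n m).hom (inlG φ m n hnm a) =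
      inrG φ m ((φ.f m).hom a) - inlG φ k m hmk ((F.d m k).hom a) := by
  have h := congrArg (fun ψ => ψ.hom a)
    (mappingCone.inl_v_d φ m n k (by omega) (by omega))
  simp only [ModuleCat.hom_comp, ModuleCat.hom_sub, LinearMap.comp_apply,
    LinearMap.sub_apply] at h
  exact h

lemma d_inrG (n m : ℤ) (b : G.X n) :
    ((mappingCone φ).d n m).hom (inrG φ n b) = inrG φ m ((G.d n m).hom b) := by
  have h := congrArg (fun ψ => ψ.hom b) (mappingCone.inr_f_d φ n m)
  simp only [ModuleCat.hom_comp, LinearMap.comp_apply] at h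
  exact h

lemma fst_inlG (q p : ℤ) (h : q + 1 = p) (a : F.X p) : fstG φ q p h (inlG φ p q h a) = a := by
  have h1 := congrArg (fun ψ => ψ.hom a) (mappingCone.inl_v_fst_v φ p q h)
  simp only [ModuleCat.hom_comp, LinearMap.comp_apply, ModuleCat.hom_id,
    LinearMap.id_apply] at h1
  exact h1

lemma snd_inlG (q p : ℤ) (h : q + 1 = p) (a : F.X p) : sndG φ q (inlG φ p q h a) = 0 := by
  have h1 := congrArg (fun ψ => ψ.hom a) (mappingCone.inl_v_snd_v φ p q (by omega))
  simp only [ModuleCat.hom_comp, LinearMap.comp_apply, ModuleCat.hom_zero,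
    LinearMap.zero_apply] at h1
  exact h1

lemma fst_inrG (q p : ℤ) (h : q + 1 = p) (b : G.X q) : fstG φ q p h (inrG φ q b) = 0 := by
  have h1 := congrArg (fun ψ => ψ.hom b) (mappingCone.inr_f_fst_v φ q p h)
  simp only [ModuleCat.hom_comp, LinearMap.comp_apply, ModuleCat.hom_zero,
    LinearMap.zero_apply] at h1
  exact h1

lemma snd_inrG (q : ℤ) (b : G.X q) : sndG φ q (inrG φ q b) = b := by
  have h1 := congrArg (fun ψ => ψ.hom b) (mappingCone.inr_f_snd_v φ q)
  simp only [ModuleCat.hom_comp, LinearMap.comp_apply, ModuleCat.hom_id,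
    LinearMap.id_apply] at h1
  exact h1

lemma smulId_apply (c : A) (K : CochainComplex (ModuleCat.{u} A) ℤ) (j : ℤ) (w : K.X j) :
    ((c • 𝟙 K : K ⟶ K).f j).hom w = c • w := by
  rw [HomologicalComplex.smul_f_apply, HomologicalComplex.id_f, ModuleCat.hom_smul,
    ModuleCat.hom_id, LinearMap.smul_apply, LinearMap.id_apply]

end ConeEl

variable (A : Type u) [CommRing A]

/-- the submodule of trivial (Koszul) relations -/
def triv {c : ℕ} (f : Fin c → A) : Submodule A (Fin c → A) :=
  Submodule.span A {v | ∃ i j : Fin c, v = Pi.single i (f j) - Pi.single j (f i)}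

/-- the Koszul complex vanishes in positive degrees -/
theorem subsingleton_X_pos (l : List A) :
    ∀ (q : ℤ), 0 < q → Subsingleton ((Koszul.koszul A l).X q) := by
  induction l with
  | nil =>
    intro q hq
    exact ModuleCat.subsingleton_of_isZero
      (HomologicalComplex.isZero_single_obj_X (ComplexShape.up ℤ) 0 (ModuleCat.of A A) q
        (by omega))
  | cons f l ih =>
    intro q hq
    haveI := ih q hq
    haveI := ih (q + 1) (by omega)
    refine ⟨fun z w => ?_⟩
    have hz := decompG (f • 𝟙 (Koszul.koszul A l)) q (q + 1) rfl z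
    have hw := decompG (f • 𝟙 (Koszul.koszul A l)) q (q + 1) rfl w
    rw [hz, hw, Subsingleton.elim (fstG _ q (q + 1) rfl z) (fstG _ q (q + 1) rfl w),
      Subsingleton.elim (sndG _ q z) (sndG _ q w)]

/-- low-degree description of the Koszul complex -/
structure LowData (l : List A) where
  ι : A ≃ₗ[A] (Koszul.koszul A l).X 0
  e : (Fin l.length → A) ≃ₗ[A] (Koszul.koszul A l).X (-1)
  h4 : ∀ a : Fin l.length → A,
    ((Koszul.koszul A l).d (-1) 0).hom (e a) = ι (∑ i, a i * l.get i)
  h5 : ∀ y : (Koszul.koszul A l).X (-2),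
    e.symm (((Koszul.koszul A l).d (-2) (-1)).hom y) ∈ triv A l.get

noncomputable def LowData.nil : LowData A [] where
  ι := (HomologicalComplex.singleObjXSelf (ComplexShape.up ℤ) (0 : ℤ)
    (ModuleCat.of A A)).symm.toLinearEquiv
  e :=
    haveI : Subsingleton ((Koszul.koszul A []).X (-1)) :=
      ModuleCat.subsingleton_of_isZero
        (HomologicalComplex.isZero_single_obj_X (ComplexShape.up ℤ) 0 (ModuleCat.of A A) (-1)
          (by omega))
    { toFun := fun _ => 0
      map_add' := fun _ _ => (add_zero _).symm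
      map_smul' := fun _ _ => (smul_zero _).symm
      invFun := fun _ => 0
      left_inv := fun _ => funext fun i => i.elim0
      right_inv := fun _ => Subsingleton.elim _ _ }
  h4 := by
    intro a
    have h0 : (Koszul.koszul A []).d (-1) 0 = 0 := by
      show ((CochainComplex.singleFunctor (ModuleCat.{u} A) 0).obj (ModuleCat.of A A)).d (-1) 0 = 0
      exact HomologicalComplex.single_obj_d _ _ _ _ _
    rw [h0]
    simp
  h5 := by
    intro y
    have h0 : (Koszul.koszul A []).d (-2) (-1) = 0 := by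
      show ((CochainComplex.singleFunctor (ModuleCat.{u} A) 0).obj (ModuleCat.of A A)).d (-2) (-1)
        = 0
      exact HomologicalComplex.single_obj_d _ _ _ _ _
    rw [h0]
    simp

variable {A}

/-- prepend a zero coordinate -/
def consZero (n : ℕ) : (Fin n → A) →ₗ[A] (Fin (n + 1) → A) where
  toFun v := Fin.cons 0 v
  map_add' v w := by
    funext k
    refine Fin.cases ?_ (fun i => ?_) k
    · simp
    · simp
  map_smul' c v := by
    funext k
    refine Fin.cases ?_ (fun i => ?_) k
    · simp
    · simp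

theorem consZero_mem_triv {n : ℕ} (f : A) (g : Fin n → A) (t : Fin n → A) (ht : t ∈ triv A g) :
    consZero n t ∈ triv A (Fin.cons f g : Fin (n + 1) → A) := by
  have hle : (triv A g).map (consZero n) ≤ triv A (Fin.cons f g : Fin (n + 1) → A) := by
    rw [triv, Submodule.map_span, Submodule.span_le]
    rintro _ ⟨_, ⟨i, j, rfl⟩, rfl⟩
    refine Submodule.subset_span ⟨i.succ, j.succ, ?_⟩
    funext k
    refine Fin.cases ?_ (fun k' => ?_) k
    · simp [consZero, Pi.single_apply, Fin.succ_ne_zero, (Fin.succ_ne_zero _).symm]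
    · simp [consZero, Pi.single_apply, Fin.succ_inj]
  exact hle (Submodule.mem_map_of_mem ht)

theorem cons_mem_triv {n : ℕ} (f : A) (g : Fin n → A) (b : Fin n → A) :
    (Fin.cons (-∑ i, b i * g i) (f • b) : Fin (n + 1) → A) ∈
      triv A (Fin.cons f g : Fin (n + 1) → A) := by
  have h : (Fin.cons (-∑ i, b i * g i) (f • b) : Fin (n + 1) → A) =
      ∑ i : Fin n, b i • (Pi.single i.succ ((Fin.cons f g : Fin (n + 1) → A) 0) -
        Pi.single 0 ((Fin.cons f g : Fin (n + 1) → A) i.succ)) := by
    funext k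
    refine Fin.cases ?_ (fun k' => ?_) k
    · simp [Pi.single_apply, Fin.succ_ne_zero, (Fin.succ_ne_zero _).symm, Finset.sum_apply]
    · simp [Pi.single_apply, Fin.succ_ne_zero, (Fin.succ_ne_zero _).symm, Finset.sum_apply,
        Fin.succ_inj, mul_comm]
  rw [h]
  refine Submodule.sum_mem _ fun i _ => Submodule.smul_mem _ _ (Submodule.subset_span ?_)
  exact ⟨i.succ, 0, rfl⟩

theorem get_cons (f : A) (l : List A) :
    ((f :: l).get : Fin (l.length + 1) → A) = Fin.cons f l.get := by
  funext k
  refine Fin.cases ?_ (fun k' => ?_) k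
  · rfl
  · rfl

variable (A)

noncomputable def LowData.cons {l : List A} (D : LowData A l) (f : A) : LowData A (f :: l) := by
  classical
  let K := Koszul.koszul A l
  let φ : K ⟶ K := f • 𝟙 K
  haveI h1 : Subsingleton (K.X 1) := subsingleton_X_pos A l 1 (by omega)
  -- degree 0
  let ι' : A ≃ₗ[A] (mappingCone φ).X 0 :=
    LinearEquiv.ofLinear (inrG φ 0 ∘ₗ D.ι.toLinearMap) (D.ι.symm.toLinearMap ∘ₗ sndG φ 0)
      (LinearMap.ext fun z => by
        have hz := decompG φ 0 1 rfl z
        have h0 : fstG φ 0 1 rfl z = 0 := Subsingleton.elim _ _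
        rw [h0, map_zero, zero_add] at hz
        simp only [LinearMap.comp_apply, LinearEquiv.coe_coe, LinearEquiv.apply_symm_apply,
          LinearMap.id_apply]
        exact hz.symm)
      (LinearMap.ext fun a => by
        simp only [LinearMap.comp_apply, LinearEquiv.coe_coe, LinearMap.id_apply]
        rw [snd_inrG, LinearEquiv.symm_apply_apply])
  -- degree -1
  let toF : (Fin (l.length + 1) → A) →ₗ[A] (mappingCone φ).X (-1) :=
    inlG φ 0 (-1) (by omega) ∘ₗ D.ι.toLinearMap ∘ₗ LinearMap.proj 0 +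
      inrG φ (-1) ∘ₗ D.e.toLinearMap ∘ₗ LinearMap.funLeft A A Fin.succ
  let ofF : (mappingCone φ).X (-1) →ₗ[A] (Fin (l.length + 1) → A) :=
    LinearMap.pi (fun k => Fin.cases (D.ι.symm.toLinearMap ∘ₗ fstG φ (-1) 0 (by omega))
      (fun i => LinearMap.proj i ∘ₗ D.e.symm.toLinearMap ∘ₗ sndG φ (-1)) k)
  have toF_apply : ∀ v, toF v = inlG φ 0 (-1) (by omega) (D.ι (v 0)) +
      inrG φ (-1) (D.e (fun i => v i.succ)) := fun v => rfl
  have ofF_zero : ∀ z, ofF z 0 = D.ι.symm (fstG φ (-1) 0 (by omega) z) := fun z => rfl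
  have ofF_succ : ∀ z (i : Fin l.length), ofF z i.succ = D.e.symm (sndG φ (-1) z) i :=
    fun z i => rfl
  let e' : (Fin (l.length + 1) → A) ≃ₗ[A] (mappingCone φ).X (-1) :=
    LinearEquiv.ofLinear toF ofF
      (LinearMap.ext fun z => by
        rw [LinearMap.comp_apply, LinearMap.id_apply, toF_apply, ofF_zero,
          LinearEquiv.apply_symm_apply]
        have : (fun i : Fin l.length => ofF z i.succ) = D.e.symm (sndG φ (-1) z) :=
          funext fun i => ofF_succ z i
        rw [this, LinearEquiv.apply_symm_apply]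
        exact (decompG φ (-1) 0 (by omega) z).symm)
      (LinearMap.ext fun v => by
        rw [LinearMap.comp_apply, LinearMap.id_apply]
        funext k
        refine Fin.cases ?_ (fun i => ?_) k
        · rw [ofF_zero, toF_apply, map_add, fst_inlG, fst_inrG, add_zero,
            LinearEquiv.symm_apply_apply]
        · rw [ofF_succ, toF_apply, map_add, snd_inlG, snd_inrG, zero_add,
            LinearEquiv.symm_apply_apply])
  have e'_apply : ∀ v, e' v = inlG φ 0 (-1) (by omega) (D.ι (v 0)) +
      inrG φ (-1) (D.e (fun i => v i.succ)) := toF_apply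
  have e'_symm_zero : ∀ z, e'.symm z 0 = D.ι.symm (fstG φ (-1) 0 (by omega) z) := ofF_zero
  have e'_symm_succ : ∀ z (i : Fin l.length), e'.symm z i.succ = D.e.symm (sndG φ (-1) z) i :=
    ofF_succ
  refine ⟨ι', e', ?_, ?_⟩
  · -- h4
    intro a
    show ((mappingCone φ).d (-1) 0).hom (e' a) = ι' (∑ i, a i * (f :: l).get i)
    rw [e'_apply, map_add, d_inlG φ (-1) 0 1 (by omega) (by omega), d_inrG, D.h4,
      Subsingleton.elim ((K.d 0 1).hom (D.ι (a 0))) 0, map_zero, sub_zero, smulId_apply]
    show _ = inrG φ 0 (D.ι (∑ i, a i * (f :: l).get i))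
    have key : D.ι (f • a 0) + D.ι (∑ i, a i.succ * l.get i) =
        D.ι (∑ i, a i * (f :: l).get i) := by
      rw [← map_add, get_cons]
      show D.ι (f • a 0 + ∑ i, a i.succ * l.get i) = D.ι (∑ i : Fin (l.length + 1),
        a i * (Fin.cons f l.get : Fin (l.length + 1) → A) i)
      rw [Fin.sum_univ_succ]
      simp only [Fin.cons_zero, Fin.cons_succ, smul_eq_mul, mul_comm f]
    rw [← map_smul, ← map_add, key]
  · -- h5
    intro y
    show e'.symm (((mappingCone φ).d (-2) (-1)).hom y) ∈ triv A (f :: l).get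
    rw [get_cons]
    obtain ⟨a, y₀, rfl⟩ : ∃ (a : K.X (-1)) (y₀ : K.X (-2)),
        y = inlG φ (-1) (-2) (by omega) a + inrG φ (-2) y₀ :=
      ⟨_, _, decompG φ (-2) (-1) (by omega) y⟩
    have hvec : e'.symm (((mappingCone φ).d (-2) (-1)).hom
        (inlG φ (-1) (-2) (by omega) a + inrG φ (-2) y₀)) =
        (Fin.cons (-∑ i, D.e.symm a i * l.get i) (f • D.e.symm a) : Fin (l.length + 1) → A) +
          consZero l.length (D.e.symm ((K.d (-2) (-1)).hom y₀)) := by
      rw [map_add, d_inlG φ (-2) (-1) 0 (by omega) (by omega), d_inrG, smulId_apply]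
      funext k
      refine Fin.cases ?_ (fun i => ?_) k
      · rw [e'_symm_zero]
        simp only [map_add, map_sub, fst_inrG, fst_inlG, zero_sub, add_zero, map_neg,
          Pi.add_apply, Fin.cons_zero, consZero, LinearMap.coe_mk, AddHom.coe_mk]
        have h4 := D.h4 (D.e.symm a)
        rw [LinearEquiv.apply_symm_apply] at h4
        rw [h4, LinearEquiv.symm_apply_apply]
      · rw [e'_symm_succ]
        simp only [map_add, map_sub, snd_inrG, snd_inlG, sub_zero, map_smul, Pi.add_apply,
          Fin.cons_succ, consZero, LinearMap.coe_mk, AddHom.coe_mk, Pi.smul_apply]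
    rw [hvec]
    exact Submodule.add_mem _ (cons_mem_triv f l.get _)
      (consZero_mem_triv f l.get _ (D.h5 y₀))

theorem nonempty_lowData (l : List A) : Nonempty (LowData A l) := by
  induction l with
  | nil => exact ⟨LowData.nil A⟩
  | cons f l ih =>
    obtain ⟨D⟩ := ih
    exact ⟨D.cons A f⟩

/-- Koszul-regular (`H^{-1} = 0`) implies `H_1`-regular -/
theorem h1_of_isZero_homology (l : List A)
    (hz : IsZero ((Koszul.koszul A l).homology (-1))) (a : Fin l.length → A)
    (ha : ∑ i, a i * l.get i = 0) : a ∈ triv A l.get := by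
  obtain ⟨D⟩ := nonempty_lowData A l
  have h1 : (Koszul.koszul A l).ExactAt (-1) :=
    (HomologicalComplex.exactAt_iff_isZero_homology _ _).2 hz
  rw [HomologicalComplex.exactAt_iff' _ (-2) (-1) 0 (by simp) (by simp)] at h1
  have h2 := (ShortComplex.moduleCat_exact_iff_range_eq_ker _).1 h1
  have h3 : D.e a ∈ LinearMap.ker ((Koszul.koszul A l).d (-1) 0).hom := by
    rw [LinearMap.mem_ker, D.h4, ha, map_zero]
  have h4 : D.e a ∈ LinearMap.range ((Koszul.koszul A l).d (-2) (-1)).hom := by
    show D.e a ∈ LinearMap.range ((Koszul.koszul A l).sc' (-2) (-1) 0).f.hom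
    rw [h2]
    exact h3
  obtain ⟨y, hy⟩ := h4
  have := D.h5 y
  rw [hy, LinearEquiv.symm_apply_apply] at this
  exact this

end H10KL
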