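import Mathlib

/-!
# Building projective resolutions in `ModuleCat` from concrete exact sequences
-/

universe u

open CategoryTheory

namespace Groth.Agent.Lib.Helper10

variable (R : Type u) [CommRing R]

section

variable (X : ℕ → ModuleCat.{u} R) (d : ∀ n, X (n + 1) ⟶ X n)
  (sq : ∀ n, d (n + 1) ≫ d n = 0) (M : ModuleCat.{u} R) (ε : X 0 ⟶ M) (hε0 : d 0 ≫ ε = 0)

/-- The augmentation map from the complex `X` to `M` in degree `0`. -/
noncomputable def augmentation :
    ChainComplex.of X d sq ⟶ (ChainComplex.single₀ (ModuleCat.{u} R)).obj M :=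
  ((ChainComplex.of X d sq).toSingle₀Equiv M).symm ⟨ε, by
    rw [show (ChainComplex.of X d sq).d 1 0 = d 0 from ChainComplex.of_d X d 0]
    exact hε0⟩

lemma augmentation_f_zero : (augmentation R X d sq M ε hε0).f 0 = ε := by
  unfold augmentation
  exact ChainComplex.toSingle₀Equiv_symm_apply_f_zero _ _

lemma quasiIso_augmentation (hsurj : Function.Surjective ε) (hex0 : Function.Exact (d 0) ε)
    (hex : ∀ n, Function.Exact (d (n + 1)) (d n)) :
    QuasiIso (augmentation R X d sq M ε hε0) where
  quasiIsoAt m := by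
    induction m with
    | zero =>
      rw [ChainComplex.quasiIsoAt₀_iff,
        ShortComplex.quasiIso_iff_of_zeros' _
          (ChainComplex.of_d_ne (X := X) (d := d) (i := 0) (j := 0) (by omega))
          rfl rfl]
      constructor
      · rw [ShortComplex.ShortExact.moduleCat_exact_iff_function_exact]
        simp only [HomologicalComplex.shortComplexFunctor'_obj_f,
          HomologicalComplex.shortComplexFunctor'_map_τ₂, ChainComplex.of_d,
          augmentation_f_zero]
        exact hex0
      · simp only [HomologicalComplex.shortComplexFunctor'_map_τ₂, augmentation_f_zero]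
        exact (ModuleCat.epi_iff_surjective _).2 hsurj
    | succ m _ =>
      rw [quasiIsoAt_iff_exactAt' (hL := ChainComplex.exactAt_succ_single_obj ..),
        HomologicalComplex.exactAt_iff' _ (m + 2) (m + 1) m (by simp) (by simp)]
      rw [ShortComplex.ShortExact.moduleCat_exact_iff_function_exact]
      simp only [HomologicalComplex.sc', HomologicalComplex.shortComplexFunctor'_obj_f,
        HomologicalComplex.shortComplexFunctor'_obj_g, ChainComplex.of_d]
      rw [show ChainComplex.of.d X d (m + 2) (m + 1) = d (m + 1) from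
        ChainComplex.of_d X d (m + 1)]
      exact hex m

include hε0 in
/-- A concrete exact sequence of projective modules gives a projective resolution. -/
theorem exists_projectiveResolution [∀ n, Projective (X n)] (hsurj : Function.Surjective ε)
    (hex0 : Function.Exact (d 0) ε) (hex : ∀ n, Function.Exact (d (n + 1)) (d n)) :
    ∃ P : ProjectiveResolution M, P.complex = ChainComplex.of X d sq :=
  ⟨{ complex := ChainComplex.of X d sq
     projective := fun n => by
       show Projective (X n)
       infer_instance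
     π := augmentation R X d sq M ε hε0
     quasiIso := quasiIso_augmentation R X d sq M ε hε0 hsurj hex0 hex }, rfl⟩

end


section free

variable {R : Type u} [CommRing R]

/-- The free module on the elements of `Z`. -/
noncomputable abbrev fr (Z : ModuleCat.{u} R) : ModuleCat.{u} R := ModuleCat.of R (Z →₀ R)

/-- The canonical surjection from the free module on the elements. -/
noncomputable def pr (Z : ModuleCat.{u} R) : (Z →₀ R) →ₗ[R] Z := Finsupp.linearCombination R id

lemma pr_surj (Z : ModuleCat.{u} R) : Function.Surjective (pr Z) :=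
  fun z => ⟨Finsupp.single z 1, by simp [pr]⟩

/-- The first syzygy. -/
noncomputable abbrev nextZ (Z : ModuleCat.{u} R) : ModuleCat.{u} R := ModuleCat.of R (LinearMap.ker (pr Z))

/-- The iterated syzygies. -/
noncomputable def syz (Z₀ : ModuleCat.{u} R) : ℕ → ModuleCat.{u} R
  | 0 => Z₀
  | n + 1 => nextZ (syz Z₀ n)

/-- The differential of the canonical free resolution. -/
noncomputable def dm (Z : ModuleCat.{u} R) : (nextZ Z →₀ R) →ₗ[R] (Z →₀ R) :=
  (LinearMap.ker (pr Z)).subtype ∘ₗ pr (nextZ Z)

lemma exact_dm_pr (Z : ModuleCat.{u} R) : Function.Exact (dm Z) (pr Z) := by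
  intro y
  constructor
  · intro hy
    obtain ⟨x, hx⟩ := pr_surj (nextZ Z) (⟨y, hy⟩ : LinearMap.ker (pr Z))
    refine ⟨x, ?_⟩
    show (LinearMap.ker (pr Z)).subtype (pr (nextZ Z) x) = y
    rw [hx]
    rfl
  · rintro ⟨x, rfl⟩
    exact (show ∀ z : LinearMap.ker (pr Z), pr Z ((LinearMap.ker (pr Z)).subtype z) = 0 from
      fun z => z.2) (pr (nextZ Z) x)

lemma exact_dm_dm (Z : ModuleCat.{u} R) : Function.Exact (dm (nextZ Z)) (dm Z) := by
  intro y
  have h1 : dm Z y = 0 ↔ pr (nextZ Z) y = 0 := by
    constructor
    · intro h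
      apply Subtype.ext
      exact h
    · intro h
      show (LinearMap.ker (pr Z)).subtype (pr (nextZ Z) y) = 0
      rw [h]
      exact map_zero (LinearMap.ker (pr Z)).subtype
  rw [h1]
  exact exact_dm_pr (nextZ Z) y

/-- The objects of the spliced resolution. -/
noncomputable def spliceX (P₀ K : ModuleCat.{u} R) : ℕ → ModuleCat.{u} R
  | 0 => P₀
  | n + 1 => fr (syz K n)

/-- The differentials of the spliced resolution. -/
noncomputable def spliceD (P₀ K : ModuleCat.{u} R) (ι : K ⟶ P₀) :
    ∀ n, spliceX P₀ K (n + 1) ⟶ spliceX P₀ K n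
  | 0 => ModuleCat.ofHom (ι.hom ∘ₗ pr K)
  | n + 1 => ModuleCat.ofHom (dm (syz K n))

lemma spliceD_exact (P₀ K : ModuleCat.{u} R) (ι : K ⟶ P₀) (hι : Function.Injective ι) (n : ℕ) :
    Function.Exact (spliceD P₀ K ι (n + 1)) (spliceD P₀ K ι n) := by
  cases n with
  | zero =>
    intro y
    have h1 : spliceD P₀ K ι 0 y = 0 ↔ pr K y = 0 := by
      constructor
      · intro h
        apply hι
        rw [map_zero]
        exact h
      · intro h
        show ι.hom (pr K y) = 0
        rw [h, map_zero]
    rw [h1]
    exact exact_dm_pr K y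
  | succ n => exact exact_dm_dm (syz K n)

lemma spliceD_exact_zero (P₀ K M : ModuleCat.{u} R) (ι : K ⟶ P₀) (π₀ : P₀ ⟶ M)
    (hex : Function.Exact ι π₀) : Function.Exact (spliceD P₀ K ι 0) π₀ := by
  intro y
  rw [hex y]
  constructor
  · rintro ⟨k, rfl⟩
    obtain ⟨x, rfl⟩ := pr_surj K k
    exact ⟨x, rfl⟩
  · rintro ⟨x, rfl⟩
    exact ⟨pr K x, rfl⟩

instance spliceX_projective (P₀ K : ModuleCat.{u} R) [Projective P₀] (n : ℕ) :
    Projective (spliceX P₀ K n) := by
  cases n with
  | zero => exact ‹Projective P₀›
  | succ n => exact ModuleCat.projective_of_categoryTheory_projective (fr (syz K n))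

/-- Any presentation `0 → K → P₀ → M → 0` with `P₀` projective extends to a projective
resolution of `M` whose first two differentials are known. -/
theorem exists_splice (P₀ K M : ModuleCat.{u} R) [Projective P₀] (ι : K ⟶ P₀) (π₀ : P₀ ⟶ M)
    (hι : Function.Injective ι) (hπ : Function.Surjective π₀) (hex : Function.Exact ι π₀) :
    ∃ (sq : ∀ n, spliceD P₀ K ι (n + 1) ≫ spliceD P₀ K ι n = 0) (P : ProjectiveResolution M),
      P.complex = ChainComplex.of (spliceX P₀ K) (spliceD P₀ K ι) sq := by
  have sq : ∀ n, spliceD P₀ K ι (n + 1) ≫ spliceD P₀ K ι n = 0 := by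
    intro n
    apply ModuleCat.hom_ext
    apply LinearMap.ext
    intro x
    exact (spliceD_exact P₀ K ι hι n).apply_apply_eq_zero x
  have hε0 : spliceD P₀ K ι 0 ≫ π₀ = 0 := by
    apply ModuleCat.hom_ext
    apply LinearMap.ext
    intro x
    exact (spliceD_exact_zero P₀ K M ι π₀ hex).apply_apply_eq_zero x
  obtain ⟨P, hP⟩ := exists_projectiveResolution R (spliceX P₀ K) (spliceD P₀ K ι) sq M π₀ hε0 hπ
    (spliceD_exact_zero P₀ K M ι π₀ hex) (spliceD_exact P₀ K ι hι)
  exact ⟨sq, P, hP⟩

end free

end Groth.Agent.Lib.Helper10
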