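import Mathlib
import Groth.Prelude.Def_KZero

/-!
# K₀ of a Serre quotient (helper10)

Exactness of `K₀(P) → K₀(A) → K₀(A/P) → 0` and the description of the kernel of
`K₀(P) → K₀(A)` by 2-periodic complexes.
-/

set_option autoImplicit false
universe v v' u u'
open CategoryTheory CategoryTheory.Limits KZero ZeroObject

namespace H10K0

section Basic
variable {A : Type u} [Category.{v} A] [Abelian A]

lemma cl_ses (S : ShortComplex A) (hS : S.ShortExact) : cl S.X₂ = cl S.X₁ + cl S.X₃ := by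
  have h : (FreeAbelianGroup.of S.X₂ - FreeAbelianGroup.of S.X₁ - FreeAbelianGroup.of S.X₃)
      ∈ relAb A := AddSubgroup.subset_closure ⟨S, hS, rfl⟩
  have h2 := (QuotientAddGroup.eq_zero_iff _).mpr h
  rw [QuotientAddGroup.mk_sub, QuotientAddGroup.mk_sub, sub_sub, sub_eq_zero] at h2
  exact h2

lemma ses_of_isZero {X : A} (h : IsZero X) :
    (ShortComplex.mk (𝟙 X) (0 : X ⟶ X) comp_zero).ShortExact := by
  refine ShortComplex.ShortExact.mk' ?_ (by dsimp; infer_instance) ?_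
  · exact (ShortComplex.exact_iff_epi _ rfl).2 (by dsimp; infer_instance)
  · dsimp
    rw [h.eq_of_src (0 : X ⟶ X) (𝟙 X)]
    infer_instance

lemma cl_isZero {X : A} (h : IsZero X) : cl X = 0 := by
  have h2 : cl X = cl X + cl X := cl_ses _ (ses_of_isZero h)
  simpa using h2

lemma ses_of_iso {X Y : A} (e : X ≅ Y) :
    (ShortComplex.mk e.hom (cokernel.π e.hom) (cokernel.condition _)).ShortExact :=
  ShortComplex.ShortExact.mk' (ShortComplex.exact_cokernel e.hom)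
    (by dsimp; infer_instance) (by dsimp; infer_instance)

lemma cl_iso {X Y : A} (e : X ≅ Y) : cl X = cl Y := by
  have h2 : cl Y = cl X + cl (cokernel e.hom) := cl_ses _ (ses_of_iso e)
  rw [h2, cl_isZero (isZero_cokernel_of_epi e.hom), add_zero]

lemma cl_ker_coker {X Y : A} (f : X ⟶ Y) :
    cl X + cl (cokernel f) = cl Y + cl (kernel f) := by
  have h1 : cl X = cl (kernel f) + cl (Abelian.coimage f) :=
    cl_ses (ShortComplex.mk (kernel.ι f) (cokernel.π (kernel.ι f)) (cokernel.condition _))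
      (ShortComplex.ShortExact.mk' (ShortComplex.exact_cokernel _)
        (by dsimp; infer_instance) (by dsimp; infer_instance))
  have h2 : cl Y = cl (Abelian.image f) + cl (cokernel f) :=
    cl_ses (ShortComplex.mk (kernel.ι (cokernel.π f)) (cokernel.π f) (kernel.condition _))
      (ShortComplex.ShortExact.mk' (ShortComplex.exact_kernel _)
        (by dsimp; infer_instance) (by dsimp; infer_instance))
  have h3 : cl (Abelian.coimage f) = cl (Abelian.image f) := cl_iso (Abelian.coimageIsoImage f)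
  rw [h1, h2, h3]
  abel

lemma cl_homology (S : ShortComplex A) :
    cl S.X₁ + cl S.homology = cl (kernel S.g) + cl (kernel S.f) := by
  have h := cl_ker_coker (kernel.lift S.g S.f S.zero)
  have e1 : cl S.homology = cl (cokernel (kernel.lift S.g S.f S.zero)) :=
    cl_iso S.homologyIsoCokernelLift
  have e2 : cl (kernel (kernel.lift S.g S.f S.zero)) = cl (kernel S.f) :=
    cl_iso ((kernelCompMono (kernel.lift S.g S.f S.zero) (kernel.ι S.g)).symm ≪≫
      kernelIsoOfEq (kernel.lift_ι _ _ _))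
  rw [e1, h, e2]

lemma cl_homology_eq {M : A} (φ ψ : M ⟶ M) (h₁ : φ ≫ ψ = 0) (h₂ : ψ ≫ φ = 0) :
    cl (ShortComplex.mk φ ψ h₁).homology = cl (ShortComplex.mk ψ φ h₂).homology := by
  have a1 : cl M + cl (ShortComplex.mk φ ψ h₁).homology = cl (kernel ψ) + cl (kernel φ) :=
    cl_homology (ShortComplex.mk φ ψ h₁)
  have a2 : cl M + cl (ShortComplex.mk ψ φ h₂).homology = cl (kernel φ) + cl (kernel ψ) :=
    cl_homology (ShortComplex.mk ψ φ h₂)
  have : cl M + cl (ShortComplex.mk φ ψ h₁).homology =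
      cl M + cl (ShortComplex.mk ψ φ h₂).homology := by
    rw [a1, a2, add_comm]
  exact add_left_cancel this

lemma K0_induction {motive : K0 A → Prop} (x : K0 A) (h0 : motive 0)
    (hcl : ∀ X, motive (cl X)) (hneg : ∀ X, motive (- cl X))
    (hadd : ∀ x y, motive x → motive y → motive (x + y)) : motive x := by
  obtain ⟨y, rfl⟩ := QuotientAddGroup.mk_surjective x
  induction y using FreeAbelianGroup.induction_on with
  | zero => exact h0
  | of X => exact hcl X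
  | neg X _ => exact hneg X
  | add a b ha hb => exact hadd _ _ ha hb

lemma ses_biprod (X Y : A) :
    (ShortComplex.mk (biprod.inl : X ⟶ X ⊞ Y) biprod.snd biprod.inl_snd).ShortExact :=
  (ShortComplex.Splitting.ofHasBinaryBiproduct X Y).shortExact

variable (P : ObjectProperty A)

lemma clSub_of {X : A} (h : P X) :
    clSub P X = QuotientAddGroup.mk (FreeAbelianGroup.of ⟨X, h⟩) := by
  unfold clSub
  rw [dif_pos h]

lemma clSub_ses (S : ShortComplex A) (hS : S.ShortExact) (h₁ : P S.X₁) (h₂ : P S.X₂)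
    (h₃ : P S.X₃) : clSub P S.X₂ = clSub P S.X₁ + clSub P S.X₃ := by
  have h : (FreeAbelianGroup.of (⟨S.X₂, h₂⟩ : Subtype P) - FreeAbelianGroup.of ⟨S.X₁, h₁⟩
      - FreeAbelianGroup.of ⟨S.X₃, h₃⟩) ∈ relSub P :=
    AddSubgroup.subset_closure ⟨S, h₁, h₂, h₃, hS, rfl⟩
  have h2 := (QuotientAddGroup.eq_zero_iff _).mpr h
  rw [QuotientAddGroup.mk_sub, QuotientAddGroup.mk_sub, sub_sub, sub_eq_zero] at h2
  rw [clSub_of P h₁, clSub_of P h₂, clSub_of P h₃]
  exact h2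

lemma clSub_isZero {X : A} (h : IsZero X) (hX : P X) : clSub P X = 0 := by
  have h2 : clSub P X = clSub P X + clSub P X := clSub_ses P _ (ses_of_isZero h) hX hX hX
  simpa using h2

lemma K0sub_induction {motive : K0sub P → Prop} (x : K0sub P) (h0 : motive 0)
    (hcl : ∀ (X : A) (_ : P X), motive (clSub P X))
    (hneg : ∀ (X : A) (_ : P X), motive (- clSub P X))
    (hadd : ∀ x y, motive x → motive y → motive (x + y)) : motive x := by
  obtain ⟨y, rfl⟩ := QuotientAddGroup.mk_surjective x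
  induction y using FreeAbelianGroup.induction_on with
  | zero => exact h0
  | of X =>
    obtain ⟨X, hX⟩ := X
    have := hcl X hX
    rw [clSub_of P hX] at this
    exact this
  | neg X _ =>
    obtain ⟨X, hX⟩ := X
    have := hneg X hX
    rw [clSub_of P hX] at this
    exact this
  | add a b ha hb => exact hadd _ _ ha hb

variable [P.IsSerreClass]

lemma clSub_iso {X Y : A} (e : X ≅ Y) (hX : P X) : clSub P X = clSub P Y := by
  have hY : P Y := P.prop_of_iso e hX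
  have hC : P (cokernel e.hom) := P.prop_of_isZero (isZero_cokernel_of_epi e.hom)
  have h2 : clSub P Y = clSub P X + clSub P (cokernel e.hom) :=
    clSub_ses P _ (ses_of_iso e) hX hY hC
  rw [h2, clSub_isZero P (isZero_cokernel_of_epi e.hom) hC, add_zero]

lemma prop_biprod' {X Y : A} (hX : P X) (hY : P Y) : P (X ⊞ Y) :=
  P.prop_X₂_of_shortExact (ses_biprod X Y) hX hY

lemma clSub_biprod {X Y : A} (hX : P X) (hY : P Y) :
    clSub P (X ⊞ Y) = clSub P X + clSub P Y :=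
  clSub_ses P _ (ses_biprod X Y) hX (prop_biprod' P hX hY) hY

lemma K0sub_diff (x : K0sub P) :
    ∃ N N' : A, P N ∧ P N' ∧ x = clSub P N - clSub P N' := by
  have h0 : P (0 : A) := P.prop_of_isZero (isZero_zero A)
  have hz : clSub P (0 : A) = 0 := clSub_isZero P (isZero_zero A) h0
  refine K0sub_induction
    (motive := fun x => ∃ N N' : A, P N ∧ P N' ∧ x = clSub P N - clSub P N') P x ?_ ?_ ?_ ?_
  · exact ⟨0, 0, h0, h0, (sub_self _).symm⟩
  · intro X hX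
    exact ⟨X, 0, hX, h0, by rw [hz, sub_zero]⟩
  · intro X hX
    exact ⟨0, X, h0, hX, by rw [hz, zero_sub]⟩
  · rintro _ _ ⟨N₁, N₁', p₁, p₁', rfl⟩ ⟨N₂, N₂', p₂, p₂', rfl⟩
    refine ⟨N₁ ⊞ N₂, N₁' ⊞ N₂', prop_biprod' P p₁ p₂, prop_biprod' P p₁' p₂', ?_⟩
    rw [clSub_biprod P p₁ p₂, clSub_biprod P p₁' p₂']
    abel

end Basic

section Maps
variable {A : Type u} [Category.{v} A] [Abelian A] (P : ObjectProperty A) [P.IsSerreClass]

noncomputable def iotaAux : FreeAbelianGroup (Subtype P) →+ K0 A :=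
  FreeAbelianGroup.lift (fun X => cl X.1)

lemma relSub_le : relSub P ≤ (iotaAux P).ker := by
  refine (AddSubgroup.closure_le _).2 ?_
  rintro x ⟨S, h₁, h₂, h₃, hS, rfl⟩
  rw [SetLike.mem_coe, AddMonoidHom.mem_ker]
  simp only [iotaAux, map_sub, FreeAbelianGroup.lift_apply_of]
  rw [cl_ses S hS]
  abel

noncomputable def iota : K0sub P →+ K0 A :=
  QuotientAddGroup.lift (relSub P) (iotaAux P) (relSub_le P)

lemma iota_clSub {X : A} (hX : P X) : iota P (clSub P X) = cl X := by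
  rw [clSub_of P hX]
  show QuotientAddGroup.lift (relSub P) (iotaAux P) (relSub_le P) (QuotientAddGroup.mk _) = _
  rw [QuotientAddGroup.lift_mk]
  exact FreeAbelianGroup.lift_apply_of _ _

/-- the subgroup of `K₀(A)` generated by classes of objects of `P` -/
def R : AddSubgroup (K0 A) := AddSubgroup.closure {x | ∃ X : A, P X ∧ x = cl X}

lemma cl_mem_R {X : A} (hX : P X) : cl X ∈ R P := AddSubgroup.subset_closure ⟨X, hX, rfl⟩

lemma range_iota : (iota P).range = R P := by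
  apply le_antisymm
  · rintro _ ⟨x, rfl⟩
    refine K0sub_induction (motive := fun x => iota P x ∈ R P) P x ?_ ?_ ?_ ?_
    · rw [map_zero]; exact (R P).zero_mem
    · intro X hX; rw [iota_clSub P hX]; exact cl_mem_R P hX
    · intro X hX; rw [map_neg, iota_clSub P hX]; exact (R P).neg_mem (cl_mem_R P hX)
    · intro a b ha hb; rw [map_add]; exact (R P).add_mem ha hb
  · refine (AddSubgroup.closure_le _).2 ?_
    rintro _ ⟨X, hX, rfl⟩
    exact ⟨clSub P X, iota_clSub P hX⟩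

lemma sub_mem_of_isoModSerre {X Y : A} (g : X ⟶ Y) (hg : P.isoModSerre g) :
    cl X - cl Y ∈ R P := by
  have h := cl_ker_coker g
  have h' : cl X - cl Y = cl (kernel g) - cl (cokernel g) := by
    rw [sub_eq_sub_iff_add_eq_add, h]
    exact add_comm _ _
  rw [h']
  exact (R P).sub_mem (cl_mem_R P ((P.monoModSerre_iff g).1 hg.1))
    (cl_mem_R P ((P.epiModSerre_iff g).1 hg.2))

variable {Q : Type u'} [Category.{v'} Q] [Abelian Q] (L : A ⥤ Q) [L.Additive]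
  [PreservesFiniteLimits L] [PreservesFiniteColimits L]

noncomputable def lamAux : FreeAbelianGroup A →+ K0 Q :=
  FreeAbelianGroup.lift (fun X => cl (L.obj X))

lemma relAb_le : relAb A ≤ (lamAux L).ker := by
  refine (AddSubgroup.closure_le _).2 ?_
  rintro x ⟨S, hS, rfl⟩
  rw [SetLike.mem_coe, AddMonoidHom.mem_ker]
  simp only [lamAux, map_sub, FreeAbelianGroup.lift_apply_of]
  have h' : cl (L.obj S.X₂) = cl (L.obj S.X₁) + cl (L.obj S.X₃) :=
    cl_ses (S.map L) (hS.map_of_exact L)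
  rw [h']
  abel

noncomputable def lam : K0 A →+ K0 Q :=
  QuotientAddGroup.lift (relAb A) (lamAux L) (relAb_le L)

lemma lam_cl (X : A) : lam L (cl X) = cl (L.obj X) := by
  show QuotientAddGroup.lift (relAb A) (lamAux L) (relAb_le L) (QuotientAddGroup.mk _) = _
  rw [QuotientAddGroup.lift_mk]
  exact FreeAbelianGroup.lift_apply_of _ _

lemma lam_surjective [L.EssSurj] : Function.Surjective (lam L) := by
  intro y
  refine K0_induction (motive := fun y => ∃ x, lam L x = y) y ⟨0, map_zero _⟩ ?_ ?_ ?_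
  · intro Y
    exact ⟨cl (L.objPreimage Y), by rw [lam_cl]; exact cl_iso (L.objObjPreimageIso Y)⟩
  · intro Y
    exact ⟨- cl (L.objPreimage Y), by
      rw [map_neg, lam_cl]; exact congrArg _ (cl_iso (L.objObjPreimageIso Y))⟩
  · rintro _ _ ⟨a, rfl⟩ ⟨b, rfl⟩
    exact ⟨a + b, map_add _ _ _⟩

variable [L.IsLocalization P.isoModSerre]

lemma R_le_ker : R P ≤ (lam L).ker := by
  refine (AddSubgroup.closure_le _).2 ?_
  rintro _ ⟨X, hX, rfl⟩
  rw [SetLike.mem_coe, AddMonoidHom.mem_ker, lam_cl]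
  exact cl_isZero ((ObjectProperty.SerreClassLocalization.isZero_obj_iff L P X).2 hX)

lemma sub_mem_of_iso {X X' : A} (e : L.obj X ≅ L.obj X') : cl X - cl X' ∈ R P := by
  obtain ⟨φ, hφ⟩ := Localization.exists_rightFraction L P.isoModSerre e.hom
  haveI : IsIso (L.map φ.s) := Localization.inverts L P.isoModSerre φ.s φ.hs
  have hsb : L.map φ.s ≫ e.hom = L.map φ.f := by
    rw [hφ, MorphismProperty.RightFraction.map_s_comp_map]
  haveI : IsIso (L.map φ.f) := by rw [← hsb]; infer_instance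
  have hf : P.isoModSerre φ.f :=
    (ObjectProperty.SerreClassLocalization.isIso_map_iff L P φ.f).1 inferInstance
  have h1 := sub_mem_of_isoModSerre P φ.s φ.hs
  have h2 := sub_mem_of_isoModSerre P φ.f hf
  have := (R P).sub_mem h2 h1
  rwa [sub_sub_sub_cancel_left] at this

lemma key_ses {X₁ X₂ X₃ : A} (a : L.obj X₁ ⟶ L.obj X₂) (b : L.obj X₂ ⟶ L.obj X₃)
    (w : a ≫ b = 0) (hT : (ShortComplex.mk a b w).ShortExact) :
    cl X₂ - (cl X₁ + cl X₃) ∈ R P := by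
  obtain ⟨φ, hφ⟩ := Localization.exists_rightFraction L P.isoModSerre b
  haveI : IsIso (L.map φ.s) := Localization.inverts L P.isoModSerre φ.s φ.hs
  have hsb : L.map φ.s ≫ b = L.map φ.f := by
    rw [hφ, MorphismProperty.RightFraction.map_s_comp_map]
  haveI : Epi b := hT.epi_g
  haveI : Mono a := hT.mono_f
  haveI : Mono (ShortComplex.mk a b w).f := hT.mono_f
  haveI : Epi (L.map φ.f) := by rw [← hsb]; infer_instance
  have hcok : P (cokernel φ.f) :=
    (ObjectProperty.SerreClassLocalization.epi_map_iff L P φ.f).1 inferInstance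
  have hS' : ((ShortComplex.mk (kernel.ι φ.f) φ.f (kernel.condition _)).map L).Exact :=
    (ShortComplex.exact_kernel φ.f).map L
  haveI : Mono (L.map (kernel.ι φ.f)) := inferInstance
  haveI : Mono ((ShortComplex.mk (kernel.ι φ.f) φ.f (kernel.condition _)).map L).f :=
    inferInstanceAs (Mono (L.map (kernel.ι φ.f)))
  have h1 : (L.map (kernel.ι φ.f) ≫ L.map φ.s) ≫ b = 0 := by
    rw [Category.assoc, hsb, ← L.map_comp, kernel.condition, L.map_zero]
  have h2 : (a ≫ inv (L.map φ.s)) ≫ L.map φ.f = 0 := by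
    rw [← hsb, Category.assoc, IsIso.inv_hom_id_assoc, w]
  obtain ⟨θ, hθ⟩ : ∃ θ : L.obj (kernel φ.f) ⟶ L.obj X₁,
      θ ≫ a = L.map (kernel.ι φ.f) ≫ L.map φ.s :=
    ⟨hT.exact.lift _ h1, hT.exact.lift_f _ h1⟩
  obtain ⟨ρ, hρ⟩ : ∃ ρ : L.obj X₁ ⟶ L.obj (kernel φ.f),
      ρ ≫ L.map (kernel.ι φ.f) = a ≫ inv (L.map φ.s) :=
    ⟨hS'.lift _ h2, hS'.lift_f _ h2⟩
  have e : L.obj (kernel φ.f) ≅ L.obj X₁ :=
    { hom := θ
      inv := ρ
      hom_inv_id := by
        rw [← cancel_mono (L.map (kernel.ι φ.f)), Category.assoc, hρ, ← Category.assoc, hθ,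
          Category.assoc, IsIso.hom_inv_id, Category.comp_id, Category.id_comp]
      inv_hom_id := by
        rw [← cancel_mono a, Category.assoc, hθ, ← Category.assoc, hρ,
          Category.assoc, IsIso.inv_hom_id, Category.comp_id, Category.id_comp] }
  have hK := sub_mem_of_iso P L e
  have hs := sub_mem_of_isoModSerre P φ.s φ.hs
  have hW := cl_ker_coker φ.f
  have hc := cl_mem_R P hcok
  have hZ : cl φ.X' = cl X₃ + cl (kernel φ.f) - cl (cokernel φ.f) := by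
    rw [← hW]; abel
  have : cl X₂ - (cl X₁ + cl X₃) =
      -(cl φ.X' - cl X₂) + (cl (kernel φ.f) - cl X₁) - cl (cokernel φ.f) := by
    rw [hZ]; abel
  rw [this]
  exact (R P).sub_mem ((R P).add_mem ((R P).neg_mem hs) hK) hc

noncomputable def muAux [L.EssSurj] : FreeAbelianGroup Q →+ K0 A ⧸ R P :=
  FreeAbelianGroup.lift
    (fun Y => (QuotientAddGroup.mk (cl (L.objPreimage Y)) : K0 A ⧸ R P))

lemma relAbQ_le [L.EssSurj] : relAb Q ≤ (muAux P L).ker := by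
  refine (AddSubgroup.closure_le _).2 ?_
  rintro x ⟨T, hT, rfl⟩
  rw [SetLike.mem_coe, AddMonoidHom.mem_ker]
  simp only [muAux, map_sub, FreeAbelianGroup.lift_apply_of]
  have hkey : cl (L.objPreimage T.X₂) - (cl (L.objPreimage T.X₁) + cl (L.objPreimage T.X₃))
      ∈ R P := by
    refine key_ses P L
      ((L.objObjPreimageIso T.X₁).hom ≫ T.f ≫ (L.objObjPreimageIso T.X₂).inv)
      ((L.objObjPreimageIso T.X₂).hom ≫ T.g ≫ (L.objObjPreimageIso T.X₃).inv) (by simp) ?_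
    exact ShortComplex.shortExact_of_iso
      (ShortComplex.isoMk (L.objObjPreimageIso T.X₁).symm (L.objObjPreimageIso T.X₂).symm
        (L.objObjPreimageIso T.X₃).symm (by simp) (by simp)) hT
  have h0 := (QuotientAddGroup.eq_zero_iff _).2 hkey
  rw [QuotientAddGroup.mk_sub, QuotientAddGroup.mk_add] at h0
  rw [sub_sub]
  exact h0

noncomputable def mu [L.EssSurj] : K0 Q →+ K0 A ⧸ R P :=
  QuotientAddGroup.lift (relAb Q) (muAux P L) (relAbQ_le P L)

lemma mu_cl [L.EssSurj] (Y : Q) :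
    mu P L (cl Y) = (QuotientAddGroup.mk (cl (L.objPreimage Y)) : K0 A ⧸ R P) := by
  show QuotientAddGroup.lift (relAb Q) (muAux P L) (relAbQ_le P L) (QuotientAddGroup.mk _) = _
  rw [QuotientAddGroup.lift_mk]
  exact FreeAbelianGroup.lift_apply_of _ _

lemma mu_lam_cl [L.EssSurj] (X : A) :
    mu P L (lam L (cl X)) = (QuotientAddGroup.mk (cl X) : K0 A ⧸ R P) := by
  rw [lam_cl, mu_cl]
  exact QuotientAddGroup.eq_iff_sub_mem.2 (sub_mem_of_iso P L (L.objObjPreimageIso (L.obj X)))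

lemma mu_lam [L.EssSurj] (x : K0 A) :
    mu P L (lam L x) = (QuotientAddGroup.mk x : K0 A ⧸ R P) := by
  refine K0_induction
    (motive := fun x => mu P L (lam L x) = (QuotientAddGroup.mk x : K0 A ⧸ R P)) x ?_ ?_ ?_ ?_
  · rw [map_zero, map_zero]; rfl
  · intro X; exact mu_lam_cl P L X
  · intro X; rw [map_neg, map_neg, mu_lam_cl P L X]; rfl
  · intro a b ha hb; rw [map_add, map_add, ha, hb]; rfl

lemma ker_lam_le [L.EssSurj] : (lam L).ker ≤ R P := by
  intro x hx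
  rw [AddMonoidHom.mem_ker] at hx
  have h := mu_lam P L x
  rw [hx, map_zero] at h
  exact (QuotientAddGroup.eq_zero_iff x).1 h.symm

end Maps

section IsoMonoid
variable (A : Type u) [Category.{v} A] [Abelian A]

/-- isomorphism classes of objects -/
def IC : Type u := Quotient (isIsomorphicSetoid A)

variable {A}

def icMk (X : A) : IC A := Quotient.mk (isIsomorphicSetoid A) X

lemma icMk_eq_iff {X Y : A} : icMk X = icMk Y ↔ Nonempty (X ≅ Y) :=
  ⟨fun h => Quotient.exact h, fun h => Quotient.sound h⟩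

lemma icMk_surj (a : IC A) : ∃ X, icMk X = a := Quotient.exists_rep a

noncomputable def icAdd : IC A → IC A → IC A :=
  Quotient.map₂ (sa := isIsomorphicSetoid A) (sb := isIsomorphicSetoid A)
    (sc := isIsomorphicSetoid A) (fun X Y => X ⊞ Y) (by
    rintro X X' ⟨e⟩ Y Y' ⟨e'⟩
    exact ⟨biprod.mapIso e e'⟩)

noncomputable instance : AddCommMonoid (IC A) where
  add := icAdd
  zero := icMk 0
  add_assoc a b c := by
    obtain ⟨X, rfl⟩ := icMk_surj a
    obtain ⟨Y, rfl⟩ := icMk_surj b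
    obtain ⟨Z, rfl⟩ := icMk_surj c
    exact icMk_eq_iff.2 ⟨biprod.associator X Y Z⟩
  zero_add a := by
    obtain ⟨X, rfl⟩ := icMk_surj a
    exact icMk_eq_iff.2 ⟨(isoZeroBiprod (isZero_zero A)).symm⟩
  add_zero a := by
    obtain ⟨X, rfl⟩ := icMk_surj a
    exact icMk_eq_iff.2 ⟨(isoBiprodZero (isZero_zero A)).symm⟩
  add_comm a b := by
    obtain ⟨X, rfl⟩ := icMk_surj a
    obtain ⟨Y, rfl⟩ := icMk_surj b
    exact icMk_eq_iff.2 ⟨biprod.braiding X Y⟩
  nsmul := @nsmulRec _ ⟨icMk 0⟩ ⟨icAdd⟩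
  nsmul_zero _ := rfl
  nsmul_succ _ _ := rfl

lemma icMk_add (X Y : A) : icMk X + icMk Y = icMk (X ⊞ Y) := rfl

noncomputable def cls (X : A) : Algebra.GrothendieckAddGroup (IC A) :=
  Algebra.GrothendieckAddGroup.of (icMk X)

lemma cls_biprod (X Y : A) : cls (X ⊞ Y) = cls X + cls Y := by
  unfold cls
  rw [← icMk_add, map_add]

lemma cls_eq_iff {X Y : A} : cls X = cls Y ↔ ∃ T : A, Nonempty (T ⊞ X ≅ T ⊞ Y) := by
  have key := (AddLocalization.addMonoidOf (⊤ : AddSubmonoid (IC A))).eq_iff_exists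
    (x := icMk X) (y := icMk Y)
  constructor
  · intro h
    obtain ⟨c, hc⟩ := key.1 h
    obtain ⟨T, hT⟩ := icMk_surj (c : IC A)
    rw [← hT, icMk_add, icMk_add] at hc
    exact ⟨T, icMk_eq_iff.1 hc⟩
  · rintro ⟨T, hT⟩
    refine key.2 ⟨⟨icMk T, AddSubmonoid.mem_top _⟩, ?_⟩
    show icMk T + icMk X = icMk T + icMk Y
    rw [icMk_add, icMk_add]
    exact icMk_eq_iff.2 hT

/-- two objects are linked if they are related by an exact 2-periodic complex -/
def Linked (U V : A) : Prop :=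
  ∃ (β : U ⟶ V) (α : V ⟶ U) (h₁ : β ≫ α = 0) (h₂ : α ≫ β = 0),
    (ShortComplex.mk β α h₁).Exact ∧ (ShortComplex.mk α β h₂).Exact

lemma Linked.symm {U V : A} (h : Linked U V) : Linked V U := by
  obtain ⟨β, α, h₁, h₂, e₁, e₂⟩ := h
  exact ⟨α, β, h₂, h₁, e₂, e₁⟩

lemma linked_refl (T : A) : Linked T T :=
  ⟨𝟙 T, 0, comp_zero, zero_comp,
    (ShortComplex.exact_iff_epi _ rfl).2 (by dsimp; infer_instance),
    (ShortComplex.exact_iff_mono _ rfl).2 (by dsimp; infer_instance)⟩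

lemma biprod_map_comp_zero {X₁ X₂ X₃ Y₁ Y₂ Y₃ : A} (f : X₁ ⟶ X₂) (g : X₂ ⟶ X₃) (w : f ≫ g = 0)
    (f' : Y₁ ⟶ Y₂) (g' : Y₂ ⟶ Y₃) (w' : f' ≫ g' = 0) :
    biprod.map f f' ≫ biprod.map g g' = 0 := by
  apply biprod.hom_ext <;> simp [w, w']

lemma exact_biprod_map {X₁ X₂ X₃ Y₁ Y₂ Y₃ : A} (f : X₁ ⟶ X₂) (g : X₂ ⟶ X₃) (w : f ≫ g = 0)
    (f' : Y₁ ⟶ Y₂) (g' : Y₂ ⟶ Y₃) (w' : f' ≫ g' = 0)
    (h : (ShortComplex.mk f g w).Exact) (h' : (ShortComplex.mk f' g' w').Exact) :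
    (ShortComplex.mk (biprod.map f f') (biprod.map g g')
      (biprod_map_comp_zero f g w f' g' w')).Exact := by
  rw [ShortComplex.exact_iff_exact_up_to_refinements] at h h' ⊢
  intro W (x : W ⟶ X₂ ⊞ Y₂) (hx : x ≫ biprod.map g g' = 0)
  have hx1 : (x ≫ biprod.fst) ≫ g = 0 := by
    have h3 := hx =≫ biprod.fst
    simpa using h3
  have hx2 : x ≫ biprod.snd ≫ g' = 0 := by
    have h3 := hx =≫ biprod.snd
    simpa using h3
  obtain ⟨W₁, π₁, hπ₁, y₁, hy₁⟩ : ∃ (W₁ : A) (π₁ : W₁ ⟶ W) (_ : Epi π₁) (y₁ : W₁ ⟶ X₁),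
      π₁ ≫ x ≫ biprod.fst = y₁ ≫ f := h (x ≫ biprod.fst) hx1
  obtain ⟨W₂, π₂, hπ₂, y₂, hy₂⟩ : ∃ (W₂ : A) (π₂ : W₂ ⟶ W₁) (_ : Epi π₂) (y₂ : W₂ ⟶ Y₁),
      π₂ ≫ π₁ ≫ x ≫ biprod.snd = y₂ ≫ f' :=
    h' (π₁ ≫ x ≫ biprod.snd) (by
      show (π₁ ≫ x ≫ biprod.snd) ≫ g' = 0
      rw [Category.assoc, Category.assoc, hx2, comp_zero])
  refine ⟨W₂, π₂ ≫ π₁, epi_comp _ _, biprod.lift (π₂ ≫ y₁) y₂, ?_⟩
  show (π₂ ≫ π₁) ≫ x = biprod.lift (π₂ ≫ y₁) y₂ ≫ biprod.map f f'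
  apply biprod.hom_ext
  · simp [hy₁]
  · simp [hy₂]

lemma Linked.biprod {U V U' V' : A} (h : Linked U V) (h' : Linked U' V') :
    Linked (U ⊞ U') (V ⊞ V') := by
  obtain ⟨β, α, h₁, h₂, e₁, e₂⟩ := h
  obtain ⟨β', α', h₁', h₂', e₁', e₂'⟩ := h'
  exact ⟨biprod.map β β', biprod.map α α', biprod_map_comp_zero β α h₁ β' α' h₁',
    biprod_map_comp_zero α β h₂ α' β' h₂', exact_biprod_map β α h₁ β' α' h₁' e₁ e₁',
    exact_biprod_map α β h₂ α' β' h₂' e₂ e₂'⟩

lemma linked_of_ses (S : ShortComplex A) (hS : S.ShortExact) :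
    Linked (S.X₁ ⊞ S.X₃) S.X₂ := by
  haveI := hS.mono_f
  haveI := hS.epi_g
  have w₁ : (biprod.fst ≫ S.f : S.X₁ ⊞ S.X₃ ⟶ S.X₂) ≫
      (S.g ≫ biprod.inr : S.X₂ ⟶ S.X₁ ⊞ S.X₃) = 0 := by simp
  have w₂ : (S.g ≫ biprod.inr : S.X₂ ⟶ S.X₁ ⊞ S.X₃) ≫
      (biprod.fst ≫ S.f : S.X₁ ⊞ S.X₃ ⟶ S.X₂) = 0 := by simp
  refine ⟨biprod.fst ≫ S.f, S.g ≫ biprod.inr, w₁, w₂, ?_, ?_⟩
  · rw [ShortComplex.exact_iff_exact_up_to_refinements]
    intro W (x : W ⟶ S.X₂) (hx : x ≫ S.g ≫ biprod.inr = 0)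
    have hx' : x ≫ S.g = 0 := by
      have h := hx =≫ (biprod.snd : S.X₁ ⊞ S.X₃ ⟶ S.X₃)
      simpa using h
    refine ⟨W, 𝟙 W, inferInstance, hS.exact.lift x hx' ≫ biprod.inl, ?_⟩
    show 𝟙 W ≫ x = (hS.exact.lift x hx' ≫ biprod.inl) ≫ biprod.fst ≫ S.f
    simp
  · rw [ShortComplex.exact_iff_exact_up_to_refinements]
    intro W (x : W ⟶ S.X₁ ⊞ S.X₃) (hx : x ≫ biprod.fst ≫ S.f = 0)
    have hx' : x ≫ biprod.fst = 0 := by
      rw [← cancel_mono S.f]
      simpa using hx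
    obtain ⟨W', π, hπ, y, hy⟩ :=
      (epi_iff_surjective_up_to_refinements S.g).1 inferInstance (x ≫ biprod.snd)
    refine ⟨W', π, hπ, y, ?_⟩
    show π ≫ x = y ≫ S.g ≫ biprod.inr
    apply biprod.hom_ext
    · simp [hx']
    · simp [hy]

/-- the subgroup of the split Grothendieck group generated by linked pairs -/
noncomputable def LinkSub : AddSubgroup (Algebra.GrothendieckAddGroup (IC A)) where
  carrier := {g | ∃ U V : A, Linked U V ∧ g = cls U - cls V}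
  zero_mem' := ⟨0, 0, linked_refl 0, (sub_self _).symm⟩
  add_mem' := by
    rintro _ _ ⟨U, V, h, rfl⟩ ⟨U', V', h', rfl⟩
    exact ⟨U ⊞ U', V ⊞ V', h.biprod h', by rw [cls_biprod, cls_biprod]; abel⟩
  neg_mem' := by
    rintro _ ⟨U, V, h, rfl⟩
    exact ⟨V, U, h.symm, neg_sub _ _⟩

lemma mem_LinkSub {g : Algebra.GrothendieckAddGroup (IC A)} :
    g ∈ LinkSub (A := A) ↔ ∃ U V : A, Linked U V ∧ g = cls U - cls V := Iff.rfl

noncomputable def Phi : FreeAbelianGroup A →+ Algebra.GrothendieckAddGroup (IC A) :=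
  FreeAbelianGroup.lift cls

lemma relAb_le_comap : relAb A ≤ (LinkSub (A := A)).comap Phi := by
  refine (AddSubgroup.closure_le _).2 ?_
  rintro x ⟨S, hS, rfl⟩
  rw [SetLike.mem_coe, AddSubgroup.mem_comap, mem_LinkSub]
  simp only [Phi, map_sub, FreeAbelianGroup.lift_apply_of]
  refine ⟨S.X₂, S.X₁ ⊞ S.X₃, (linked_of_ses S hS).symm, ?_⟩
  rw [cls_biprod]
  abel

lemma exists_linked_iso {N N' : A} (h : cl N = cl N') :
    ∃ U V : A, Linked U V ∧ Nonempty (N ⊞ U ≅ N' ⊞ V) := by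
  have h1 : FreeAbelianGroup.of N - FreeAbelianGroup.of N' ∈ relAb A :=
    QuotientAddGroup.eq_iff_sub_mem.1 h
  have h2 := relAb_le_comap h1
  rw [AddSubgroup.mem_comap, mem_LinkSub] at h2
  obtain ⟨U, V, hUV, hg⟩ := h2
  simp only [Phi, map_sub, FreeAbelianGroup.lift_apply_of] at hg
  have h3 : cls (N ⊞ V) = cls (N' ⊞ U) := by
    rw [cls_biprod, cls_biprod]
    rw [sub_eq_sub_iff_add_eq_add] at hg
    rw [hg, add_comm]
  obtain ⟨T, ⟨e⟩⟩ := cls_eq_iff.1 h3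
  refine ⟨V ⊞ T, U ⊞ T, (hUV.symm).biprod (linked_refl T), ?_⟩
  rw [← icMk_eq_iff]
  have he := icMk_eq_iff.2 ⟨e⟩
  simp only [← icMk_add] at he ⊢
  calc icMk N + (icMk V + icMk T) = icMk T + (icMk N + icMk V) := by abel
    _ = icMk T + (icMk N' + icMk U) := he
    _ = icMk N' + (icMk U + icMk T) := by abel

lemma homology_biprod_iso {N N' N'' U V V' : A} (α : V ⟶ U) (β : U ⟶ V') (w : α ≫ β = 0)
    (hex : (ShortComplex.mk α β w).Exact)
    (wab : (biprod.snd ≫ α ≫ biprod.inr : N' ⊞ V ⟶ N ⊞ U) ≫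
      (biprod.snd ≫ β ≫ biprod.inr : N ⊞ U ⟶ N'' ⊞ V') = 0) :
    Nonempty ((ShortComplex.mk (biprod.snd ≫ α ≫ biprod.inr : N' ⊞ V ⟶ N ⊞ U)
      (biprod.snd ≫ β ≫ biprod.inr : N ⊞ U ⟶ N'' ⊞ V') wab).homology ≅ N) := by
  haveI : Epi (kernel.lift β α w) := hex.epi_kernelLift
  have wi : biprod.map (𝟙 N) (kernel.ι β) ≫
      (biprod.snd ≫ β ≫ biprod.inr : N ⊞ U ⟶ N'' ⊞ V') = 0 := by simp
  have hi : IsLimit (KernelFork.ofι (biprod.map (𝟙 N) (kernel.ι β)) wi) :=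
    KernelFork.IsLimit.ofι' _ _ (fun {W} k hk =>
      ⟨biprod.lift (k ≫ biprod.fst) (kernel.lift β (k ≫ biprod.snd) (by
          have h := hk =≫ (biprod.snd : N'' ⊞ V' ⟶ V')
          simpa using h)), by
        apply biprod.hom_ext <;> simp⟩)
  have hfac : hi.lift (KernelFork.ofι (biprod.snd ≫ α ≫ biprod.inr : N' ⊞ V ⟶ N ⊞ U) wab) ≫
      biprod.map (𝟙 N) (kernel.ι β) = biprod.snd ≫ α ≫ biprod.inr :=
    hi.fac _ WalkingParallelPair.zero
  have wπ : hi.lift (KernelFork.ofι (biprod.snd ≫ α ≫ biprod.inr : N' ⊞ V ⟶ N ⊞ U) wab) ≫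
      (biprod.fst : N ⊞ kernel β ⟶ N) = 0 := by
    calc hi.lift (KernelFork.ofι (biprod.snd ≫ α ≫ biprod.inr : N' ⊞ V ⟶ N ⊞ U) wab) ≫
          (biprod.fst : N ⊞ kernel β ⟶ N)
        = (hi.lift (KernelFork.ofι (biprod.snd ≫ α ≫ biprod.inr : N' ⊞ V ⟶ N ⊞ U) wab) ≫
            biprod.map (𝟙 N) (kernel.ι β)) ≫ biprod.fst := by simp
      _ = 0 := by rw [hfac]; simp
  have hinr : (biprod.inr : V ⟶ N' ⊞ V) ≫
      hi.lift (KernelFork.ofι (biprod.snd ≫ α ≫ biprod.inr : N' ⊞ V ⟶ N ⊞ U) wab) =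
      kernel.lift β α w ≫ biprod.inr := by
    rw [← cancel_mono (biprod.map (𝟙 N) (kernel.ι β)), Category.assoc, hfac]
    simp
  have hπ : IsColimit (CokernelCofork.ofπ (biprod.fst : N ⊞ kernel β ⟶ N) wπ) :=
    CokernelCofork.IsColimit.ofπ' _ _ (fun {W} k hk => ⟨biprod.inl ≫ k, by
      have h0 : (biprod.inr : kernel β ⟶ N ⊞ kernel β) ≫ k = 0 := by
        rw [← cancel_epi (kernel.lift β α w), ← Category.assoc, ← hinr, Category.assoc, hk,
          comp_zero, comp_zero]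
      apply biprod.hom_ext'
      · simp
      · simp [h0]⟩)
  exact ⟨ShortComplex.LeftHomologyData.homologyIso
    (S := ShortComplex.mk (biprod.snd ≫ α ≫ biprod.inr : N' ⊞ V ⟶ N ⊞ U)
      (biprod.snd ≫ β ≫ biprod.inr : N ⊞ U ⟶ N'' ⊞ V') wab)
    ⟨N ⊞ kernel β, N, biprod.map (𝟙 N) (kernel.ι β), biprod.fst, wi, hi, wπ, hπ⟩⟩

lemma exists_complex (N N' U V : A) (β : U ⟶ V) (α : V ⟶ U) (h₁ : β ≫ α = 0) (h₂ : α ≫ β = 0)
    (e₁ : (ShortComplex.mk β α h₁).Exact) (e₂ : (ShortComplex.mk α β h₂).Exact)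
    (Θ : N ⊞ U ≅ N' ⊞ V) :
    ∃ (M : A) (φ ψ : M ⟶ M) (w₁ : φ ≫ ψ = 0) (w₂ : ψ ≫ φ = 0),
      Nonempty ((ShortComplex.mk φ ψ w₁).homology ≅ N) ∧
      Nonempty ((ShortComplex.mk ψ φ w₂).homology ≅ N') := by
  have wab : (biprod.snd ≫ α ≫ biprod.inr : N' ⊞ V ⟶ N ⊞ U) ≫
      (biprod.snd ≫ β ≫ biprod.inr : N ⊞ U ⟶ N' ⊞ V) = 0 := by
    simp [reassoc_of% h₂]
  have wba : (biprod.snd ≫ β ≫ biprod.inr : N ⊞ U ⟶ N' ⊞ V) ≫
      (biprod.snd ≫ α ≫ biprod.inr : N' ⊞ V ⟶ N ⊞ U) = 0 := by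
    simp [reassoc_of% h₁]
  have w₁ : (Θ.hom ≫ biprod.snd ≫ α ≫ biprod.inr : N ⊞ U ⟶ N ⊞ U) ≫
      ((biprod.snd ≫ β ≫ biprod.inr) ≫ Θ.inv) = 0 := by
    simp [reassoc_of% h₂]
  have w₂ : ((biprod.snd ≫ β ≫ biprod.inr) ≫ Θ.inv : N ⊞ U ⟶ N ⊞ U) ≫
      (Θ.hom ≫ biprod.snd ≫ α ≫ biprod.inr : N ⊞ U ⟶ N ⊞ U) = 0 := by
    simp [reassoc_of% h₁]
  obtain ⟨i₁⟩ := homology_biprod_iso (N := N) (N' := N') (N'' := N') α β h₂ e₂ wab
  obtain ⟨i₂⟩ := homology_biprod_iso (N := N') (N' := N) (N'' := N) β α h₁ e₁ wba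
  refine ⟨N ⊞ U, Θ.hom ≫ biprod.snd ≫ α ≫ biprod.inr,
    (biprod.snd ≫ β ≫ biprod.inr) ≫ Θ.inv, w₁, w₂, ⟨?_ ≪≫ i₁⟩, ⟨?_ ≪≫ i₂⟩⟩
  · exact ShortComplex.homologyMapIso
      (ShortComplex.isoMk (S₁ := ShortComplex.mk _ _ w₁) (S₂ := ShortComplex.mk _ _ wab)
        Θ (Iso.refl _) Θ (by simp) (by simp))
  · exact ShortComplex.homologyMapIso
      (ShortComplex.isoMk (S₁ := ShortComplex.mk _ _ w₂) (S₂ := ShortComplex.mk _ _ wba)
        (Iso.refl _) Θ (Iso.refl _) (by simp) (by simp))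

end IsoMonoid

section Main
variable {A : Type u} [Category.{v} A] [Abelian A] (P : ObjectProperty A) [P.IsSerreClass]
  {Q : Type u'} [Category.{v'} Q] [Abelian Q]
  (L : A ⥤ Q) [L.IsLocalization P.isoModSerre] [L.Additive] [PreservesFiniteLimits L]
  [PreservesFiniteColimits L]

theorem main :
    ∃ (ι : KZero.K0sub P →+ KZero.K0 A) (lam : KZero.K0 A →+ KZero.K0 Q),
      (∀ X : A, P X → ι (KZero.clSub P X) = KZero.cl X) ∧
      (∀ X : A, lam (KZero.cl X) = KZero.cl (L.obj X)) ∧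
      Function.Surjective lam ∧ lam.ker = ι.range ∧
      ∀ x : KZero.K0sub P, ι x = 0 ↔
        ∃ (M : A) (φ ψ : M ⟶ M) (h₁ : φ ≫ ψ = 0) (h₂ : ψ ≫ φ = 0),
          P (ShortComplex.mk φ ψ h₁).homology ∧ P (ShortComplex.mk ψ φ h₂).homology ∧
          x = KZero.clSub P (ShortComplex.mk φ ψ h₁).homology -
            KZero.clSub P (ShortComplex.mk ψ φ h₂).homology := by
  haveI : L.EssSurj := Localization.essSurj L P.isoModSerre
  refine ⟨iota P, lam L, fun X hX => iota_clSub P hX, fun X => lam_cl L X,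
    lam_surjective L, ?_, ?_⟩
  · rw [range_iota]
    exact le_antisymm (ker_lam_le P L) (R_le_ker P L)
  · intro x
    constructor
    · intro hx
      obtain ⟨N, N', hN, hN', rfl⟩ := K0sub_diff P x
      rw [map_sub, iota_clSub P hN, iota_clSub P hN', sub_eq_zero] at hx
      obtain ⟨U, V, ⟨β, α, h₁, h₂, e₁, e₂⟩, ⟨Θ⟩⟩ := exists_linked_iso hx
      obtain ⟨M, φ, ψ, w₁, w₂, ⟨i₁⟩, ⟨i₂⟩⟩ := exists_complex N N' U V β α h₁ h₂ e₁ e₂ Θ
      refine ⟨M, φ, ψ, w₁, w₂, P.prop_of_iso i₁.symm hN, P.prop_of_iso i₂.symm hN', ?_⟩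
      rw [clSub_iso P i₁.symm hN, clSub_iso P i₂.symm hN']
    · rintro ⟨M, φ, ψ, h₁, h₂, p₁, p₂, rfl⟩
      rw [map_sub, iota_clSub P p₁, iota_clSub P p₂, sub_eq_zero]
      exact cl_homology_eq φ ψ h₁ h₂

end Main

end H10K0
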