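import Groth.Agent.Lib.Helper10.BPQ1

/-!
# Helper library (helper10): points of a quotient stack over an algebraically closed field

* `exists_section_of_etale_cover`: an étale covering of the spectrum of an algebraically closed field has a
  member with a section.
* `iso_iff_orbit`: two objects of a fibre of `[X/G]` with sections are isomorphic iff the corresponding points
  of `X` are in one orbit.
-/

set_option autoImplicit false
set_option linter.style.haveILetI false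
set_option backward.isDefEq.respectTransparency false
set_option backward.isDefEq.respectTransparency.types false
universe v₀ u₀ u
open CategoryTheory CategoryTheory.Limits AlgebraicGeometry Opposite Functor MonoidalCategory
  CartesianMonoidalCategory MonObj GrpObj

namespace H10PT.ACP

open H10PT.BPQ AlgSt Groth.Agent.Lib.Helper28.QuotSt.Iso

theorem exists_section_of_etale_cover {K : Type u} [Field K] [IsAlgClosed K]
    (R : Presieve (Spec (CommRingCat.of K)))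
    (hR : R ∈ Scheme.etalePrecoverage (Spec (CommRingCat.of K))) :
    ∃ (U : Scheme.{u}) (f : U ⟶ Spec (CommRingCat.of K)) (_ : R f)
      (τ : Spec (CommRingCat.of K) ⟶ U), τ ≫ f = 𝟙 _ := by
  obtain ⟨κ, Y, c, rfl⟩ := R.exists_eq_ofArrows
  rw [Scheme.etalePrecoverage, Scheme.ofArrows_mem_precoverage_iff] at hR
  obtain ⟨hsurj, hP⟩ := hR
  have x₀ : ↥(Spec (CommRingCat.of K)) := ⟨⊥, Ideal.isPrime_bot⟩
  obtain ⟨l, v, -⟩ := hsurj x₀
  haveI : Etale (c l) := hP l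
  haveI : LocallyOfFiniteType (c l) := inferInstance
  haveI : JacobsonSpace (Y l) := LocallyOfFiniteType.jacobsonSpace (c l)
  have hcl : (closedPoints (Y l)).Nonempty := by
    by_contra hcon
    rw [Set.not_nonempty_iff_eq_empty] at hcon
    have h1 := closure_closedPoints (X := Y l)
    rw [hcon, closure_empty] at h1
    have h2 : v ∈ (∅ : Set (Y l)) := by rw [h1]; exact Set.mem_univ v
    exact h2
  obtain ⟨x, hx⟩ := hcl
  have hx' : IsClosed ({x} : Set (Y l)) := hx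
  exact ⟨Y l, c l, Presieve.ofArrows.mk l, pointOfClosedPoint (c l) x hx',
    pointOfClosedPoint_comp (c l) x hx'⟩

variable {S : Scheme.{u}} {K : Precoverage Scheme.{u}} {G X : Over S} [GrpObj G]
  {aX : AlgGrp.Action G X}

/-- a locally trivial torsor over a base all of whose coverings have a member with a section has a section -/
theorem exists_section_of_loc (A : QuotObj K G aX)
    (h : ∀ R ∈ K A.base.left, ∃ (U : Scheme.{u}) (f : U ⟶ A.base.left) (_ : R f)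
      (τ : A.base.left ⟶ U), τ ≫ f = 𝟙 _) :
    ∃ t : A.base ⟶ A.P, t ≫ A.π = 𝟙 _ := by
  obtain ⟨R, hR, hsec⟩ := A.loc
  obtain ⟨U, f, hf, τ, hτ⟩ := h R hR
  obtain ⟨s, hs⟩ := hsec f hf
  have hs' : s ≫ A.π.left = f := hs
  refine ⟨Over.homMk (τ ≫ s) ?_, ?_⟩
  · have hw : A.π.left ≫ A.base.hom = A.P.hom := Over.w A.π
    rw [← hw, Category.assoc, ← Category.assoc s, hs', ← Category.assoc, hτ, Category.id_comp]
  · ext
    show (τ ≫ s) ≫ A.π.left = 𝟙 _
    rw [Category.assoc, hs', hτ]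

section Orbit

variable [K.HasIsos] {T : Over S}

theorem orbit_of_iso (A B : (QuotObj.forget K G aX).Fiber T) (tA : T ⟶ A.1.P) (tB : T ⟶ B.1.P)
    (hA : tA ≫ A.1.π = eqToHom A.2.symm) (hB : tB ≫ B.1.π = eqToHom B.2.symm) (e : A ⟶ B) :
    ∃ g : T ⟶ G, lift g (tA ≫ A.1.φ) ≫ aX.act = tB ≫ B.1.φ := by
  have hm : (QuotObj.forget K G aX).IsHomLift (𝟙 T) e.1 := e.2
  have hb : (e.1 : A.1 ⟶ B.1).base = eqToHom A.2 ≫ 𝟙 T ≫ eqToHom B.2.symm :=
    @IsHomLift.fac' _ _ _ _ (QuotObj.forget K G aX) _ _ _ _ _ _ hm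
  have h1 : tB ≫ B.1.π = (tA ≫ (e.1 : A.1 ⟶ B.1).top) ≫ B.1.π := by
    rw [Category.assoc, (e.1 : A.1 ⟶ B.1).cart.w, ← Category.assoc, hA, hb, hB]
    simp
  obtain ⟨g, hg, -⟩ := tor_diff B.1.act B.1.π B.1.cart tB (tA ≫ (e.1 : A.1 ⟶ B.1).top) h1
  refine ⟨g, ?_⟩
  show sm aX g (tA ≫ A.1.φ) = tB ≫ B.1.φ
  rw [← hg, sm_comp_of_eqv B.1.act aX B.1.φ B.1.eqv, Category.assoc, (e.1 : A.1 ⟶ B.1).wφ]

theorem iso_of_orbit (A B : (QuotObj.forget K G aX).Fiber T) (tA : T ⟶ A.1.P) (tB : T ⟶ B.1.P)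
    (hA : tA ≫ A.1.π = eqToHom A.2.symm) (hB : tB ≫ B.1.π = eqToHom B.2.symm)
    (g : T ⟶ G) (hg : lift g (tA ≫ A.1.φ) ≫ aX.act = tB ≫ B.1.φ) : Nonempty (A ≅ B) := by
  let qA : QuotObj K G aX := (quotMap K G aX).obj (⟨T, ⟨tA ≫ A.1.φ⟩⟩ : (ofSch X).obj)
  let mA : qA ⟶ A.1 := trivHom' A.1 tA (tA ≫ A.1.φ) rfl
  let mB : (quotMap K G aX).obj (⟨T, ⟨tB ≫ B.1.φ⟩⟩ : (ofSch X).obj) ⟶ B.1 :=
    trivHom' B.1 tB (tB ≫ B.1.φ) rfl
  have hgw : lift g (𝟙 T) ≫ qA.φ = tB ≫ B.1.φ := by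
    show lift g (𝟙 T) ≫ (G ◁ (tA ≫ A.1.φ)) ≫ aX.act = _
    rw [← Category.assoc, lift_whiskerLeft, Category.id_comp, hg]
  let mg : (quotMap K G aX).obj (⟨T, ⟨tB ≫ B.1.φ⟩⟩ : (ofSch X).obj) ⟶ qA :=
    trivHom' qA (lift g (𝟙 T)) (tB ≫ B.1.φ) hgw
  have hbA : mA.base = eqToHom A.2.symm := by
    rw [trivHom'_base, hA]
  have hbB : mB.base = eqToHom B.2.symm := by
    rw [trivHom'_base, hB]
  have hbg : mg.base = 𝟙 T := by
    rw [trivHom'_base]
    exact lift_snd _ _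
  haveI : IsIso mA.base := by rw [hbA]; infer_instance
  haveI : IsIso mg.base := by rw [hbg]; exact IsIso.id T
  haveI : IsIso mA := isIso_of_isIso_base mA
  haveI : IsIso mg := isIso_of_isIso_base mg
  have hlift : (QuotObj.forget K G aX).IsHomLift (𝟙 T) (inv mA ≫ inv mg ≫ mB) := by
    apply IsHomLift.of_fac' _ _ _ A.2 B.2
    rw [Functor.map_comp, Functor.map_comp, Functor.map_inv, Functor.map_inv]
    show inv mA.base ≫ inv mg.base ≫ mB.base = _
    rw [IsIso.inv_comp_eq, IsIso.inv_comp_eq, hbB, hbA, hbg]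
    simp
    exact (Category.id_comp _).symm
  exact fiberIso_of_hom (A := A) (B := B) ⟨inv mA ≫ inv mg ≫ mB, hlift⟩

theorem exists_obj_of_pt (x : T ⟶ X) :
    ∃ (A : (QuotObj.forget K G aX).Fiber T) (t : T ⟶ A.1.P),
      t ≫ A.1.π = eqToHom A.2.symm ∧ t ≫ A.1.φ = x := by
  refine ⟨⟨(quotMap K G aX).obj (⟨T, ⟨x⟩⟩ : (ofSch X).obj), rfl⟩, lift 1 (𝟙 T), ?_, ?_⟩
  · exact lift_snd _ _
  · show lift 1 (𝟙 T) ≫ (G ◁ x) ≫ aX.act = x
    rw [← Category.assoc, lift_whiskerLeft, Category.id_comp]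
    exact one_sm aX x

end Orbit

end H10PT.ACP
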