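import Mathlib.CategoryTheory.Abelian.RightDerived
import Mathlib.CategoryTheory.Abelian.Injective.Resolution
import Mathlib.CategoryTheory.ObjectProperty.Basic

/-!
# Objects of an adapted class are acyclic for the right derived functors

An injective resolution `I` of `X` and a resolution `K` of `X` by objects of the class are built
simultaneously, stage by stage, so that `I` is a retract of `K` (as complexes under `X`).
-/

set_option autoImplicit false

namespace H10AC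

open CategoryTheory CategoryTheory.Limits

universe v v' u u'

section General

variable {V : Type u} [Category.{v} V] [Abelian V]

lemma exact_of_retract {S₁ S₂ : ShortComplex V} (φ : S₁ ⟶ S₂) (ψ : S₂ ⟶ S₁)
    (h : φ ≫ ψ = 𝟙 S₁) (h₂ : S₂.Exact) : S₁.Exact := by
  rw [ShortComplex.exact_iff_isZero_homology] at h₂ ⊢
  rw [IsZero.iff_id_eq_zero]
  have h3 : 𝟙 S₁.homology = ShortComplex.homologyMap φ ≫ ShortComplex.homologyMap ψ := by
    rw [← ShortComplex.homologyMap_comp, h, ShortComplex.homologyMap_id]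
  rw [h3, h₂.eq_of_tgt (ShortComplex.homologyMap φ) 0, zero_comp]

lemma exact_cokernel_mono {Q R T : V} (u : Q ⟶ R) (w : cokernel u ⟶ T) [Mono w] :
    (ShortComplex.mk u (cokernel.π u ≫ w)
      (by rw [cokernel.condition_assoc, zero_comp])).Exact := by
  have h0 : (ShortComplex.mk u (cokernel.π u) (cokernel.condition u)).Exact :=
    ShortComplex.exact_of_g_is_cokernel _ (cokernelIsCokernel u)
  let α : ShortComplex.mk u (cokernel.π u) (cokernel.condition u) ⟶
      ShortComplex.mk u (cokernel.π u ≫ w) (by rw [cokernel.condition_assoc, zero_comp]) :=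
    ShortComplex.homMk (𝟙 _) (𝟙 _) w (by simp) (by simp)
  haveI : Epi α.τ₁ := show Epi (𝟙 Q) from inferInstance
  haveI : IsIso α.τ₂ := show IsIso (𝟙 R) from inferInstance
  haveI : Mono α.τ₃ := show Mono w from inferInstance
  exact (ShortComplex.exact_iff_of_epi_of_isIso_of_mono α).1 h0

lemma exact_comp_cokernel {P Q R T : V} (p : P ⟶ Q) [Epi p] (u : Q ⟶ R) (w : cokernel u ⟶ T)
    [Mono w] :
    (ShortComplex.mk (p ≫ u) (cokernel.π u ≫ w)
      (by rw [Category.assoc, cokernel.condition_assoc, zero_comp, comp_zero])).Exact := by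
  have h1 := exact_cokernel_mono u w
  let β : ShortComplex.mk (p ≫ u) (cokernel.π u ≫ w)
      (by rw [Category.assoc, cokernel.condition_assoc, zero_comp, comp_zero]) ⟶
      ShortComplex.mk u (cokernel.π u ≫ w) (by rw [cokernel.condition_assoc, zero_comp]) :=
    ShortComplex.homMk p (𝟙 _) (𝟙 _) (by simp) (by simp)
  haveI : Epi β.τ₁ := show Epi p from inferInstance
  haveI : IsIso β.τ₂ := show IsIso (𝟙 R) from inferInstance
  haveI : Mono β.τ₃ := show Mono (𝟙 T) from inferInstance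
  exact (ShortComplex.exact_iff_of_epi_of_isIso_of_mono β).2 h1

lemma exactAt_succ_of {K : CochainComplex V ℕ} (i : ℕ) (f : K.X i ⟶ K.X (i + 1))
    (g : K.X (i + 1) ⟶ K.X (i + 1 + 1))
    (hf : K.d i (i + 1) = f) (hg : K.d (i + 1) (i + 1 + 1) = g) (w : f ≫ g = 0)
    (h : (ShortComplex.mk f g w).Exact) : K.ExactAt (i + 1) := by
  subst hf hg
  rw [HomologicalComplex.exactAt_iff' K i (i + 1) (i + 1 + 1) (by simp) (by simp)]
  exact h

lemma exact_of_exactAt_succ {K : CochainComplex V ℕ} (i : ℕ) (f : K.X i ⟶ K.X (i + 1))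
    (g : K.X (i + 1) ⟶ K.X (i + 1 + 1))
    (hf : K.d i (i + 1) = f) (hg : K.d (i + 1) (i + 1 + 1) = g) (w : f ≫ g = 0)
    (h : K.ExactAt (i + 1)) : (ShortComplex.mk f g w).Exact := by
  subst hf hg
  exact (HomologicalComplex.exactAt_iff' K i (i + 1) (i + 1 + 1) (by simp) (by simp)).1 h

lemma exactAt_zero_of {K : CochainComplex V ℕ} (f : K.X 0 ⟶ K.X 1) (hf : K.d 0 1 = f)
    [Mono f] : K.ExactAt 0 := by
  subst hf
  rw [HomologicalComplex.exactAt_iff' K 0 0 1 (by simp) (by simp)]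
  exact (ShortComplex.exact_iff_mono _ (K.shape 0 0 (by simp))).2 ‹_›

end General

variable {A : Type u} [Category.{v} A] [Abelian A] [EnoughInjectives A]

/-- A stage: a split monomorphism `s : X ⟶ Z` with a chosen retraction. -/
structure Stage (A : Type u) [Category.{v} A] where
  X : A
  Z : A
  s : X ⟶ Z
  r : Z ⟶ X
  sr : s ≫ r = 𝟙 X

variable {𝒪 : ObjectProperty A} (h2 : ∀ X : A, ∃ (Y : A) (i : X ⟶ Y), 𝒪 Y ∧ Mono i)

namespace Stage

variable (σ : Stage A)

noncomputable def I : A := Injective.under σ.X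

instance : Injective σ.I := Injective.injective_under σ.X

noncomputable def a : σ.X ⟶ σ.I := Injective.ι σ.X

instance : Mono σ.a := Injective.ι_mono σ.X

noncomputable def L : A := Injective.under σ.Z

instance : Injective σ.L := Injective.injective_under σ.Z

noncomputable def j : σ.Z ⟶ σ.L := Injective.ι σ.Z

instance : Mono σ.j := Injective.ι_mono σ.Z

noncomputable abbrev P : A := σ.I ⊞ σ.L

noncomputable def Y : A := (h2 σ.P).choose

noncomputable def m : σ.P ⟶ σ.Y h2 := (h2 σ.P).choose_spec.choose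

lemma Y_mem : 𝒪 (σ.Y h2) := (h2 σ.P).choose_spec.choose_spec.1

instance : Mono (σ.m h2) := (h2 σ.P).choose_spec.choose_spec.2

noncomputable def b : σ.Z ⟶ σ.Y h2 := biprod.lift (σ.r ≫ σ.a) σ.j ≫ σ.m h2

instance : Mono (σ.b h2) := by
  unfold b
  haveI : Mono (biprod.lift (σ.r ≫ σ.a) σ.j) := mono_of_mono_fac (biprod.lift_snd _ _)
  exact mono_comp _ _

noncomputable def t : σ.I ⟶ σ.L := Injective.factorThru (σ.s ≫ σ.j) σ.a

lemma a_t : σ.a ≫ σ.t = σ.s ≫ σ.j := Injective.comp_factorThru _ _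

noncomputable def sI : σ.I ⟶ σ.Y h2 := biprod.lift (𝟙 _) σ.t ≫ σ.m h2

noncomputable def ρ : σ.Y h2 ⟶ σ.P := Injective.factorThru (𝟙 σ.P) (σ.m h2)

lemma m_ρ : σ.m h2 ≫ σ.ρ h2 = 𝟙 _ := Injective.comp_factorThru _ _

noncomputable def rI : σ.Y h2 ⟶ σ.I := σ.ρ h2 ≫ biprod.fst

lemma a_sI : σ.a ≫ σ.sI h2 = σ.s ≫ σ.b h2 := by
  unfold sI b
  rw [← Category.assoc, ← Category.assoc]
  congr 1
  apply biprod.hom_ext
  · rw [Category.assoc, Category.assoc, biprod.lift_fst, biprod.lift_fst, Category.comp_id,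
      ← Category.assoc, σ.sr, Category.id_comp]
  · rw [Category.assoc, Category.assoc, biprod.lift_snd, biprod.lift_snd]
    exact σ.a_t

lemma b_rI : σ.b h2 ≫ σ.rI h2 = σ.r ≫ σ.a := by
  unfold b rI
  rw [Category.assoc, ← Category.assoc (σ.m h2), σ.m_ρ h2, Category.id_comp, biprod.lift_fst]

lemma sI_rI : σ.sI h2 ≫ σ.rI h2 = 𝟙 _ := by
  unfold sI rI
  rw [Category.assoc, ← Category.assoc (σ.m h2), σ.m_ρ h2, Category.id_comp, biprod.lift_fst]

/-- The next stage: the cokernels. -/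
@[reducible] noncomputable def next : Stage A where
  X := cokernel σ.a
  Z := cokernel (σ.b h2)
  s := cokernel.desc σ.a (σ.sI h2 ≫ cokernel.π (σ.b h2))
    (by rw [← Category.assoc, σ.a_sI h2, Category.assoc, cokernel.condition, comp_zero])
  r := cokernel.desc (σ.b h2) (σ.rI h2 ≫ cokernel.π σ.a)
    (by rw [← Category.assoc, σ.b_rI h2, Category.assoc, cokernel.condition, comp_zero])
  sr := by
    rw [← cancel_epi (cokernel.π σ.a), cokernel.π_desc_assoc, Category.assoc, cokernel.π_desc,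
      ← Category.assoc, σ.sI_rI h2, Category.id_comp, Category.comp_id]

lemma π_next_s : cokernel.π σ.a ≫ (σ.next h2).s = σ.sI h2 ≫ cokernel.π (σ.b h2) :=
  cokernel.π_desc _ _ _

lemma π_next_r : cokernel.π (σ.b h2) ≫ (σ.next h2).r = σ.rI h2 ≫ cokernel.π σ.a :=
  cokernel.π_desc _ _ _

noncomputable def dI : σ.I ⟶ (σ.next h2).I := cokernel.π σ.a ≫ (σ.next h2).a

noncomputable def dY : σ.Y h2 ⟶ (σ.next h2).Y h2 := cokernel.π (σ.b h2) ≫ (σ.next h2).b h2

lemma a_dI : σ.a ≫ σ.dI h2 = 0 := by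
  unfold dI
  rw [cokernel.condition_assoc, zero_comp]

lemma b_dY : σ.b h2 ≫ σ.dY h2 = 0 := by
  unfold dY
  rw [cokernel.condition_assoc, zero_comp]

lemma dI_dI : σ.dI h2 ≫ (σ.next h2).dI h2 = 0 := by
  unfold dI
  rw [Category.assoc, cokernel.condition_assoc, zero_comp, comp_zero]

lemma dY_dY : σ.dY h2 ≫ (σ.next h2).dY h2 = 0 := by
  unfold dY
  rw [Category.assoc, cokernel.condition_assoc, zero_comp, comp_zero]

lemma sI_dY : σ.sI h2 ≫ σ.dY h2 = σ.dI h2 ≫ (σ.next h2).sI h2 := by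
  calc σ.sI h2 ≫ σ.dY h2
      = (σ.sI h2 ≫ cokernel.π (σ.b h2)) ≫ (σ.next h2).b h2 := by
        unfold dY; rw [Category.assoc]
    _ = (cokernel.π σ.a ≫ (σ.next h2).s) ≫ (σ.next h2).b h2 := by rw [σ.π_next_s h2]
    _ = cokernel.π σ.a ≫ ((σ.next h2).a ≫ (σ.next h2).sI h2) := by
        rw [Category.assoc, (σ.next h2).a_sI h2]
    _ = σ.dI h2 ≫ (σ.next h2).sI h2 := by unfold dI; rw [Category.assoc]

lemma rI_dI : σ.rI h2 ≫ σ.dI h2 = σ.dY h2 ≫ (σ.next h2).rI h2 := by
  calc σ.rI h2 ≫ σ.dI h2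
      = (σ.rI h2 ≫ cokernel.π σ.a) ≫ (σ.next h2).a := by unfold dI; rw [Category.assoc]
    _ = (cokernel.π (σ.b h2) ≫ (σ.next h2).r) ≫ (σ.next h2).a := by rw [σ.π_next_r h2]
    _ = cokernel.π (σ.b h2) ≫ ((σ.next h2).b h2 ≫ (σ.next h2).rI h2) := by
        rw [Category.assoc, (σ.next h2).b_rI h2]
    _ = σ.dY h2 ≫ (σ.next h2).rI h2 := by unfold dY; rw [Category.assoc]

lemma exact_a_dI : (ShortComplex.mk σ.a (σ.dI h2) (σ.a_dI h2)).Exact :=
  exact_cokernel_mono σ.a (σ.next h2).a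

lemma exact_b_dY : (ShortComplex.mk (σ.b h2) (σ.dY h2) (σ.b_dY h2)).Exact :=
  exact_cokernel_mono (σ.b h2) ((σ.next h2).b h2)

lemma exact_dI : (ShortComplex.mk (σ.dI h2) ((σ.next h2).dI h2) (σ.dI_dI h2)).Exact :=
  exact_comp_cokernel (cokernel.π σ.a) (σ.next h2).a ((σ.next h2).next h2).a

lemma exact_dY : (ShortComplex.mk (σ.dY h2) ((σ.next h2).dY h2) (σ.dY_dY h2)).Exact :=
  exact_comp_cokernel (cokernel.π (σ.b h2)) ((σ.next h2).b h2) (((σ.next h2).next h2).b h2)

end Stage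

/-- The sequence of stages. -/
noncomputable def stg (σ₀ : Stage A) : ℕ → Stage A
  | 0 => σ₀
  | n + 1 => (stg σ₀ n).next h2

noncomputable def IX (σ₀ : Stage A) (n : ℕ) : A := (stg h2 σ₀ n).I

noncomputable def Id (σ₀ : Stage A) (n : ℕ) : IX h2 σ₀ n ⟶ IX h2 σ₀ (n + 1) :=
  (stg h2 σ₀ n).dI h2

/-- The injective complex. -/
noncomputable abbrev Icx (σ₀ : Stage A) : CochainComplex A ℕ :=
  CochainComplex.of (IX h2 σ₀) (Id h2 σ₀) (fun n => (stg h2 σ₀ n).dI_dI h2)

noncomputable def KX (σ₀ : Stage A) : ℕ → A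
  | 0 => σ₀.Z
  | n + 1 => (stg h2 σ₀ n).Y h2

noncomputable def Kd (σ₀ : Stage A) : ∀ n, KX h2 σ₀ n ⟶ KX h2 σ₀ (n + 1)
  | 0 => σ₀.b h2
  | n + 1 => (stg h2 σ₀ n).dY h2

lemma Kd_sq (σ₀ : Stage A) : ∀ n, Kd h2 σ₀ n ≫ Kd h2 σ₀ (n + 1) = 0
  | 0 => σ₀.b_dY h2
  | n + 1 => (stg h2 σ₀ n).dY_dY h2

/-- The augmented complex of objects of the class. -/
noncomputable abbrev Kcx (σ₀ : Stage A) : CochainComplex A ℕ :=
  CochainComplex.of (KX h2 σ₀) (Kd h2 σ₀) (Kd_sq h2 σ₀)

lemma KX_mem (σ₀ : Stage A) (h0 : 𝒪 σ₀.Z) : ∀ n, 𝒪 (KX h2 σ₀ n)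
  | 0 => h0
  | n + 1 => (stg h2 σ₀ n).Y_mem h2

lemma Kcx_acyclic (σ₀ : Stage A) : (Kcx h2 σ₀).Acyclic := by
  intro i
  match i with
  | 0 =>
    have hm : Mono (Kd h2 σ₀ 0) := inferInstanceAs (Mono (σ₀.b h2))
    exact @exactAt_zero_of _ _ _ (Kcx h2 σ₀) (Kd h2 σ₀ 0) (CochainComplex.of_d _ _ 0) hm
  | 1 =>
    exact exactAt_succ_of (K := Kcx h2 σ₀) 0 (Kd h2 σ₀ 0) (Kd h2 σ₀ 1)
      (CochainComplex.of_d _ _ 0) (CochainComplex.of_d _ _ 1) (Kd_sq h2 σ₀ 0)
      (σ₀.exact_b_dY h2)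
  | n + 2 =>
    exact exactAt_succ_of (K := Kcx h2 σ₀) (n + 1) (Kd h2 σ₀ (n + 1)) (Kd h2 σ₀ (n + 1 + 1))
      (CochainComplex.of_d _ _ (n + 1)) (CochainComplex.of_d _ _ (n + 1 + 1))
      (Kd_sq h2 σ₀ (n + 1)) ((stg h2 σ₀ n).exact_dY h2)

lemma Icx_exactAt_succ (σ₀ : Stage A) (n : ℕ) : (Icx h2 σ₀).ExactAt (n + 1) :=
  exactAt_succ_of (K := Icx h2 σ₀) n (Id h2 σ₀ n) (Id h2 σ₀ (n + 1))
    (CochainComplex.of_d _ _ n) (CochainComplex.of_d _ _ (n + 1))
    ((stg h2 σ₀ n).dI_dI h2) ((stg h2 σ₀ n).exact_dI h2)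

/-- The initial stage. -/
@[reducible] def stage₀ (X : A) : Stage A := ⟨X, X, 𝟙 X, 𝟙 X, Category.id_comp _⟩

instance (σ₀ : Stage A) (n : ℕ) : Injective ((Icx h2 σ₀).X n) :=
  inferInstanceAs (Injective (stg h2 σ₀ n).I)

/-- The injective resolution built from the stages. -/
noncomputable def J (X : A) : InjectiveResolution X where
  cocomplex := Icx h2 (stage₀ X)
  injective := fun n => inferInstanceAs (Injective (stg h2 (stage₀ X) n).I)
  ι := (CochainComplex.fromSingle₀Equiv _ _).symm ⟨(stage₀ X).a,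
    Eq.trans (congrArg (CategoryStruct.comp (stage₀ X).a) (CochainComplex.of_d _ _ 0))
      ((stage₀ X).a_dI h2)⟩
  quasiIso := ⟨fun n => by
    cases n
    · rw [CochainComplex.quasiIsoAt₀_iff, ShortComplex.quasiIso_iff_of_zeros]
      · refine (ShortComplex.exact_and_mono_f_iff_of_iso ?_).2
          ⟨(stage₀ X).exact_a_dI h2, by dsimp; infer_instance⟩
        exact ShortComplex.isoMk (Iso.refl _) (Iso.refl _) (Iso.refl _)
          (by
            erw [Category.id_comp, Category.comp_id]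
            exact (CochainComplex.fromSingle₀Equiv_symm_apply_f_zero
              (C := Icx h2 (stage₀ X)) _ _).symm)
          ((Category.id_comp _).trans
            ((CochainComplex.of_d (IX h2 (stage₀ X)) (Id h2 (stage₀ X)) 0).symm.trans
              (Category.comp_id _).symm))
      all_goals rfl
    · rw [quasiIsoAt_iff_exactAt]
      · apply Icx_exactAt_succ
      · apply CochainComplex.exactAt_succ_single_obj⟩

include h2 in
theorem main {B : Type u'} [Category.{v'} B] [Abelian B] (f : A ⥤ B) [f.Additive]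
    (h1 : ∀ K : CochainComplex A ℕ, (∀ i, 𝒪 (K.X i)) → K.Acyclic →
      ((f.mapHomologicalComplex (ComplexShape.up ℕ)).obj K).Acyclic)
    (X : A) (hX : 𝒪 X) (m : ℕ) : IsZero ((f.rightDerived (m + 1)).obj X) := by
  refine IsZero.of_iso ?_ ((J h2 X).isoRightDerivedObj f (m + 1))
  erw [← HomologicalComplex.exactAt_iff_isZero_homology]
  have hK := h1 (Kcx h2 (stage₀ X)) (KX_mem h2 (stage₀ X) hX) (Kcx_acyclic h2 (stage₀ X))
    (m + 1 + 1)
  have wK : f.map (Kd h2 (stage₀ X) (m + 1)) ≫ f.map (Kd h2 (stage₀ X) (m + 1 + 1)) = 0 := by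
    rw [← f.map_comp, Kd_sq, f.map_zero]
  have wI : f.map (Id h2 (stage₀ X) m) ≫ f.map (Id h2 (stage₀ X) (m + 1)) = 0 := by
    rw [← f.map_comp]
    have := (stg h2 (stage₀ X) m).dI_dI h2
    exact (congrArg f.map this).trans (f.map_zero _ _)
  have eK : (ShortComplex.mk _ _ wK).Exact :=
    exact_of_exactAt_succ (K := (f.mapHomologicalComplex _).obj (Kcx h2 (stage₀ X))) (m + 1)
      (f.map (Kd h2 (stage₀ X) (m + 1))) (f.map (Kd h2 (stage₀ X) (m + 1 + 1)))
      (by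
        exact congrArg f.map
          (CochainComplex.of_d (KX h2 (stage₀ X)) (Kd h2 (stage₀ X)) (m + 1)))
      (by
        exact congrArg f.map
          (CochainComplex.of_d (KX h2 (stage₀ X)) (Kd h2 (stage₀ X)) (m + 1 + 1))) wK hK
  refine exactAt_succ_of (K := (f.mapHomologicalComplex _).obj (Icx h2 (stage₀ X))) m
      (f.map (Id h2 (stage₀ X) m)) (f.map (Id h2 (stage₀ X) (m + 1)))
      (by
        exact congrArg f.map
          (CochainComplex.of_d (IX h2 (stage₀ X)) (Id h2 (stage₀ X)) m))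
      (by
        exact congrArg f.map
          (CochainComplex.of_d (IX h2 (stage₀ X)) (Id h2 (stage₀ X)) (m + 1))) wI ?_
  let φ : ShortComplex.mk _ _ wI ⟶ ShortComplex.mk _ _ wK :=
    ShortComplex.homMk (f.map ((stg h2 (stage₀ X) m).sI h2))
      (f.map ((stg h2 (stage₀ X) (m + 1)).sI h2))
      (f.map ((stg h2 (stage₀ X) (m + 1 + 1)).sI h2))
      (by
        show f.map _ ≫ f.map _ = f.map _ ≫ f.map _
        rw [← f.map_comp, ← f.map_comp]
        exact congrArg f.map ((stg h2 (stage₀ X) m).sI_dY h2))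
      (by
        show f.map _ ≫ f.map _ = f.map _ ≫ f.map _
        rw [← f.map_comp, ← f.map_comp]
        exact congrArg f.map ((stg h2 (stage₀ X) (m + 1)).sI_dY h2))
  let ψ : ShortComplex.mk _ _ wK ⟶ ShortComplex.mk _ _ wI :=
    ShortComplex.homMk (f.map ((stg h2 (stage₀ X) m).rI h2))
      (f.map ((stg h2 (stage₀ X) (m + 1)).rI h2))
      (f.map ((stg h2 (stage₀ X) (m + 1 + 1)).rI h2))
      (by
        show f.map _ ≫ f.map _ = f.map _ ≫ f.map _
        rw [← f.map_comp, ← f.map_comp]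
        exact congrArg f.map ((stg h2 (stage₀ X) m).rI_dI h2))
      (by
        show f.map _ ≫ f.map _ = f.map _ ≫ f.map _
        rw [← f.map_comp, ← f.map_comp]
        exact congrArg f.map ((stg h2 (stage₀ X) (m + 1)).rI_dI h2))
  refine exact_of_retract φ ψ ?_ eK
  apply ShortComplex.hom_ext
  · exact (f.map_comp _ _).symm.trans
      ((congrArg f.map (Stage.sI_rI h2 (stg h2 (stage₀ X) m))).trans (f.map_id _))
  · exact (f.map_comp _ _).symm.trans
      ((congrArg f.map (Stage.sI_rI h2 (stg h2 (stage₀ X) (m + 1)))).trans (f.map_id _))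
  · exact (f.map_comp _ _).symm.trans
      ((congrArg f.map (Stage.sI_rI h2 (stg h2 (stage₀ X) (m + 1 + 1)))).trans (f.map_id _))

end H10AC
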