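import Mathlib

/-!
# Lifting idempotent endomorphisms of finite projective modules over adically complete rings
-/

set_option autoImplicit false

namespace H10Adic

variable {A : Type*} [CommRing A] (I : Ideal A)

theorem map_mem_smul_top {M N : Type*} [AddCommGroup M] [Module A M] [AddCommGroup N] [Module A N]
    (J : Ideal A) (g : M →ₗ[A] N) {x : M} (hx : x ∈ J • (⊤ : Submodule A M)) :
    g x ∈ J • (⊤ : Submodule A N) := by
  refine Submodule.smul_induction_on hx (fun r hr n _ => ?_) (fun x y hx hy => ?_)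
  · rw [map_smul]; exact Submodule.smul_mem_smul hr Submodule.mem_top
  · rw [map_add]; exact Submodule.add_mem _ hx hy

theorem isAdicComplete_of_retract {M P : Type*} [AddCommGroup M] [Module A M] [AddCommGroup P]
    [Module A P] [IsAdicComplete I M] (i : P →ₗ[A] M) (r : M →ₗ[A] P)
    (h : r ∘ₗ i = LinearMap.id) : IsAdicComplete I P := by
  have hri : ∀ x, r (i x) = x := fun x => by
    have := LinearMap.congr_fun h x
    rwa [LinearMap.comp_apply, LinearMap.id_apply] at this
  refine { toIsHausdorff := ⟨fun x hx => ?_⟩, toIsPrecomplete := ⟨fun f hf => ?_⟩ }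
  · have h1 : i x = 0 := by
      apply IsHausdorff.haus (inferInstance : IsHausdorff I M)
      intro n
      rw [SModEq.zero]
      exact map_mem_smul_top _ i ((SModEq.zero).mp (hx n))
    rw [← hri x, h1, map_zero]
  · obtain ⟨L, hL⟩ := IsPrecomplete.prec (inferInstance : IsPrecomplete I M)
      (f := fun n => i (f n)) (fun {m n} hmn => by
        rw [SModEq.sub_mem, ← map_sub]
        exact map_mem_smul_top _ i ((SModEq.sub_mem).mp (hf hmn)))
    refine ⟨r L, fun n => ?_⟩
    rw [SModEq.sub_mem]
    have h2 : f n - r L = r (i (f n) - L) := by rw [map_sub, hri]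
    rw [h2]
    exact map_mem_smul_top _ r ((SModEq.sub_mem).mp (hL n))

theorem mem_smul_top_pi {n : ℕ} (J : Ideal A) (f : Fin n → A) :
    f ∈ J • (⊤ : Submodule A (Fin n → A)) ↔ ∀ i, f i ∈ J := by
  constructor
  · intro h i
    have := map_mem_smul_top J (LinearMap.proj i : (Fin n → A) →ₗ[A] A) h
    rwa [smul_eq_mul, Ideal.mul_top] at this
  · intro h
    rw [pi_eq_sum_univ f]
    exact Submodule.sum_mem _ (fun i _ => Submodule.smul_mem_smul (h i) Submodule.mem_top)

theorem isAdicComplete_pi (n : ℕ) [IsAdicComplete I A] : IsAdicComplete I (Fin n → A) := by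
  refine { toIsHausdorff := ⟨fun x hx => ?_⟩, toIsPrecomplete := ⟨fun f hf => ?_⟩ }
  · funext i
    apply IsHausdorff.haus (inferInstance : IsHausdorff I A)
    intro k
    rw [SModEq.zero, smul_eq_mul, Ideal.mul_top]
    exact (mem_smul_top_pi (I ^ k) x).mp ((SModEq.zero).mp (hx k)) i
  · have h1 : ∀ i, ∃ L : A, ∀ k, f k i ≡ L [SMOD (I ^ k • ⊤ : Submodule A A)] := by
      intro i
      apply IsPrecomplete.prec (inferInstance : IsPrecomplete I A) (f := fun k => f k i)
      intro m k hmk
      rw [SModEq.sub_mem, smul_eq_mul, Ideal.mul_top]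
      exact (mem_smul_top_pi (I ^ m) (f m - f k)).mp ((SModEq.sub_mem).mp (hf hmk)) i
    choose L hL using h1
    refine ⟨L, fun k => ?_⟩
    rw [SModEq.sub_mem, mem_smul_top_pi]
    intro i
    have := hL i k
    rwa [SModEq.sub_mem, smul_eq_mul, Ideal.mul_top] at this

theorem isAdicComplete_of_finite_projective [IsAdicComplete I A] (P : Type*) [AddCommGroup P]
    [Module A P] [Module.Finite A P] [Module.Projective A P] : IsAdicComplete I P := by
  obtain ⟨n, f, g, _, _, hfg⟩ := Module.Finite.exists_comp_eq_id_of_projective A P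
  haveI := isAdicComplete_pi I n
  exact isAdicComplete_of_retract I g f hfg

section newton

variable {P : Type*} [AddCommGroup P] [Module A P]

/-- `f` maps `P` into `I^k P`. -/
def DD (k : ℕ) (f : Module.End A P) : Prop := ∀ x, f x ∈ (I ^ k) • (⊤ : Submodule A P)

theorem DD_mono {k l : ℕ} (h : k ≤ l) {f : Module.End A P} (hf : DD I l f) : DD I k f :=
  fun x => Submodule.smul_mono_left (Ideal.pow_le_pow_right h) (hf x)

theorem DD_mul_right {k : ℕ} {f : Module.End A P} (hf : DD I k f) (g : Module.End A P) :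
    DD I k (f * g) := fun x => hf (g x)

theorem DD_mul {k l : ℕ} {f g : Module.End A P} (hf : DD I k f) (hg : DD I l g) :
    DD I (k + l) (f * g) := by
  intro x
  show f (g x) ∈ _
  refine Submodule.smul_induction_on (hg x) (fun r hr n _ => ?_) (fun x y hx hy => ?_)
  · rw [map_smul, pow_add, mul_comm, Submodule.mul_smul]
    exact Submodule.smul_mem_smul hr (hf n)
  · rw [map_add]; exact Submodule.add_mem _ hx hy

/-- The Newton step `e ↦ 3e² - 2e³`. -/
def newt (e : Module.End A P) : Module.End A P := 3 • (e * e) - 2 • (e * e * e)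

theorem newt_sub (e : Module.End A P) : newt e - e = (e * e - e) * (1 - 2 • e) := by
  unfold newt; noncomm_ring

theorem newt_idem (e : Module.End A P) :
    newt e * newt e - newt e = (e * e - e) * (e * e - e) * (4 • (e * e - e) - 3) := by
  unfold newt; noncomm_ring

/-- The Newton sequence. -/
def seq (e₀ : Module.End A P) : ℕ → Module.End A P
  | 0 => e₀
  | n + 1 => newt (seq e₀ n)

theorem seq_idem (e₀ : Module.End A P) (h0 : DD I 1 (e₀ * e₀ - e₀)) (n : ℕ) :
    DD I (n + 1) (seq e₀ n * seq e₀ n - seq e₀ n) := by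
  induction n with
  | zero => exact h0
  | succ n ih =>
    show DD I (n + 1 + 1) (newt (seq e₀ n) * newt (seq e₀ n) - newt (seq e₀ n))
    rw [newt_idem]
    exact DD_mono I (by omega) (DD_mul_right I (DD_mul I ih ih) _)

theorem seq_sub (e₀ : Module.End A P) (h0 : DD I 1 (e₀ * e₀ - e₀)) (n : ℕ) :
    DD I (n + 1) (seq e₀ (n + 1) - seq e₀ n) := by
  show DD I (n + 1) (newt (seq e₀ n) - seq e₀ n)
  rw [newt_sub]
  exact DD_mul_right I (seq_idem I e₀ h0 n) _

theorem exists_idempotent_lift [IsAdicComplete I P] (e₀ : Module.End A P)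
    (h0 : DD I 1 (e₀ * e₀ - e₀)) :
    ∃ e : Module.End A P, e * e = e ∧ DD I 1 (e - e₀) := by
  have hC : ∀ x m n, m ≤ n → seq e₀ m x - seq e₀ n x ∈ I ^ m • (⊤ : Submodule A P) := by
    intro x m n hmn
    induction n, hmn using Nat.le_induction with
    | base => rw [sub_self]; exact Submodule.zero_mem _
    | succ n hmn ih =>
      have h1 := seq_sub I e₀ h0 n x
      have h2 : seq e₀ m x - seq e₀ (n + 1) x =
          (seq e₀ m x - seq e₀ n x) - (seq e₀ (n + 1) - seq e₀ n) x := by
        rw [LinearMap.sub_apply]; abel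
      rw [h2]
      exact Submodule.sub_mem _ ih
        (Submodule.smul_mono_left (Ideal.pow_le_pow_right (by omega)) h1)
  have hlim : ∀ x, ∃ L : P, ∀ n, seq e₀ n x - L ∈ I ^ n • (⊤ : Submodule A P) := by
    intro x
    obtain ⟨L, hL⟩ := IsPrecomplete.prec (inferInstance : IsPrecomplete I P)
      (f := fun n => seq e₀ n x) (fun {m n} hmn => (SModEq.sub_mem).mpr (hC x m n hmn))
    exact ⟨L, fun n => (SModEq.sub_mem).mp (hL n)⟩
  choose L hL using hlim
  have huniq : ∀ y : P, (∀ n, y ∈ I ^ n • (⊤ : Submodule A P)) → y = 0 := fun y hy =>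
    IsHausdorff.haus (inferInstance : IsHausdorff I P) y (fun n => (SModEq.zero).mpr (hy n))
  let e : Module.End A P :=
    { toFun := L
      map_add' := fun x y => by
        rw [← sub_eq_zero]
        apply huniq
        intro n
        have : L (x + y) - (L x + L y) =
            -(seq e₀ n (x + y) - L (x + y)) + (seq e₀ n x - L x) + (seq e₀ n y - L y) := by
          rw [map_add]; abel
        rw [this]
        exact add_mem (add_mem (neg_mem (hL _ n)) (hL _ n)) (hL _ n)
      map_smul' := fun a x => by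
        rw [RingHom.id_apply, ← sub_eq_zero]
        apply huniq
        intro n
        have : L (a • x) - a • L x =
            -(seq e₀ n (a • x) - L (a • x)) + a • (seq e₀ n x - L x) := by
          rw [map_smul, smul_sub]; abel
        rw [this]
        exact add_mem (neg_mem (hL _ n)) (Submodule.smul_mem _ a (hL _ n)) }
  have he : ∀ x, e x = L x := fun x => rfl
  refine ⟨e, ?_, ?_⟩
  · apply LinearMap.ext
    intro x
    show e (e x) = e x
    rw [← sub_eq_zero]
    apply huniq
    intro n
    have h1 := hL (L x) n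
    have h2 : seq e₀ n (L x - seq e₀ n x) ∈ I ^ n • (⊤ : Submodule A P) := by
      apply map_mem_smul_top
      rw [← neg_sub]
      exact neg_mem (hL x n)
    have h3 := DD_mono I (Nat.le_succ n) (seq_idem I e₀ h0 n) x
    have h4 := hL x n
    have : e (e x) - e x = -(seq e₀ n (L x) - L (L x)) + seq e₀ n (L x - seq e₀ n x) +
        (seq e₀ n * seq e₀ n - seq e₀ n) x + (seq e₀ n x - L x) := by
      rw [he, he, map_sub, LinearMap.sub_apply, Module.End.mul_apply]; abel
    rw [this]
    exact add_mem (add_mem (add_mem (neg_mem h1) h2) h3) h4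
  · intro x
    have h1 := hL x 1
    have h2 := seq_sub I e₀ h0 0 x
    have : (e - e₀) x = -(seq e₀ 1 x - L x) + (seq e₀ (0 + 1) - seq e₀ 0) x := by
      rw [LinearMap.sub_apply, LinearMap.sub_apply, he]
      show _ = -(_ - _) + (_ - e₀ x)
      abel
    rw [this]
    exact add_mem (neg_mem h1) h2

end newton

theorem exists_normal_decomposition [IsAdicComplete I A] (P : Type*) [AddCommGroup P]
    [Module A P] [Module.Finite A P] [Module.Projective A P] (Q C : Submodule A P)
    (h1 : Q ⊔ C = ⊤) (h2 : Q ⊓ C = I • (⊤ : Submodule A P)) :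
    ∃ L T : Submodule A P, IsCompl L T ∧ Q = L ⊔ I • T := by
  haveI := isAdicComplete_of_finite_projective I P
  have hNQ : I • (⊤ : Submodule A P) ≤ Q := h2 ▸ inf_le_left
  have hmemN : ∀ x, x ∈ Q → x ∈ C → x ∈ I • (⊤ : Submodule A P) := fun x hq hc =>
    h2 ▸ (Submodule.mem_inf.mpr ⟨hq, hc⟩)
  have hφ : Function.Surjective (Q.subtype.coprod C.subtype) := by
    intro x
    have : x ∈ Q ⊔ C := h1 ▸ Submodule.mem_top
    obtain ⟨q, hq, c, hc, rfl⟩ := Submodule.mem_sup.mp this
    exact ⟨(⟨q, hq⟩, ⟨c, hc⟩), by simp⟩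
  obtain ⟨h, hh⟩ := Module.projective_lifting_property (Q.subtype.coprod C.subtype)
    LinearMap.id hφ
  let e₀ : Module.End A P := Q.subtype ∘ₗ (LinearMap.fst A Q C) ∘ₗ h
  have he₀ : ∀ x, e₀ x = ((h x).1 : P) := fun x => rfl
  have key : ∀ x, ((h x).1 : P) + ((h x).2 : P) = x := by
    intro x
    have := LinearMap.congr_fun hh x
    simpa using this
  have ha : ∀ x, e₀ x ∈ Q := fun x => ((h x).1).2
  have hb : ∀ x, x - e₀ x ∈ C := by
    intro x
    have : x - e₀ x = ((h x).2 : P) := by
      rw [he₀]; exact sub_eq_of_eq_add' (key x).symm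
    rw [this]; exact ((h x).2).2
  have hc : ∀ x ∈ Q, x - e₀ x ∈ I • (⊤ : Submodule A P) := fun x hx =>
    hmemN _ (Q.sub_mem hx (ha x)) (hb x)
  have h0 : DD I 1 (e₀ * e₀ - e₀) := by
    intro x
    rw [pow_one]
    have : (e₀ * e₀ - e₀) x = -(e₀ x - e₀ (e₀ x)) := by
      rw [LinearMap.sub_apply, Module.End.mul_apply]; abel
    rw [this]
    exact neg_mem (hc _ (ha x))
  obtain ⟨e, hee, hd⟩ := exists_idempotent_lift I e₀ h0
  have hd' : ∀ x, e x - e₀ x ∈ I • (⊤ : Submodule A P) := by
    intro x
    have := hd x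
    rwa [pow_one, LinearMap.sub_apply] at this
  have hee' : ∀ x, e (e x) = e x := fun x => by
    have := LinearMap.congr_fun hee x
    rwa [Module.End.mul_apply] at this
  refine ⟨LinearMap.range e, LinearMap.range (1 - e), ?_, ?_⟩
  · refine IsCompl.of_eq ?_ ?_
    · rw [Submodule.eq_bot_iff]
      rintro x ⟨⟨a, rfl⟩, ⟨b, hb⟩⟩
      have h3 : e (e a) = 0 := by
        rw [← hb, LinearMap.sub_apply, Module.End.one_apply, map_sub, hee', sub_self]
      rw [← hee' a, h3]
    · rw [eq_top_iff]
      intro x _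
      refine Submodule.mem_sup.mpr ⟨e x, ⟨x, rfl⟩, (1 - e) x, ⟨x, rfl⟩, ?_⟩
      rw [LinearMap.sub_apply, Module.End.one_apply]; abel
  · apply le_antisymm
    · intro x hx
      have hy : x - e x ∈ I • (⊤ : Submodule A P) := by
        have : x - e x = (x - e₀ x) - (e x - e₀ x) := by abel
        rw [this]
        exact sub_mem (hc x hx) (hd' x)
      have hy2 : x - e x ∈ I • LinearMap.range (1 - e) := by
        have h4 : (1 - e) (x - e x) = x - e x := by
          rw [LinearMap.sub_apply, Module.End.one_apply, map_sub, hee', sub_self, sub_zero]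
        rw [← h4, ← Submodule.map_top, ← Submodule.map_smul'']
        exact Submodule.mem_map_of_mem hy
      refine Submodule.mem_sup.mpr ⟨e x, ⟨x, rfl⟩, x - e x, hy2, ?_⟩
      abel
    · refine sup_le ?_ ?_
      · rintro _ ⟨y, rfl⟩
        have : e y = e₀ y + (e y - e₀ y) := by abel
        rw [this]
        exact Q.add_mem (ha y) (hNQ (hd' y))
      · exact (Submodule.smul_mono le_rfl le_top).trans hNQ

end H10Adic
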