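import Mathlib
import Groth.Agent.Lib.Helper10.AdicIdem

/-!
# Finite projectivity over an adically complete ring from finite projectivity of the quotients
-/

set_option autoImplicit false

namespace H10AP

open H10Adic

universe u v

section basics

variable {A : Type*} [CommRing A] (J : Ideal A)

/-- componentwise reduction -/
def piJ (r : ℕ) : (Fin r → A) →+ (Fin r → A ⧸ J) where
  toFun x i := Ideal.Quotient.mk J (x i)
  map_zero' := by funext i; exact map_zero _
  map_add' x y := by funext i; exact map_add _ _ _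

theorem piJ_smul (r : ℕ) (a : A) (x : Fin r → A) :
    piJ J r (a • x) = Ideal.Quotient.mk J a • piJ J r x := by
  funext i
  show Ideal.Quotient.mk J (a * x i) = Ideal.Quotient.mk J a * Ideal.Quotient.mk J (x i)
  exact map_mul _ _ _

theorem piJ_surjective (r : ℕ) : Function.Surjective (piJ J r) := by
  intro c
  choose x hx using fun i => Ideal.Quotient.mk_surjective (c i)
  exact ⟨x, funext hx⟩

theorem piJ_eq_zero_iff (r : ℕ) (x : Fin r → A) :
    piJ J r x = 0 ↔ x ∈ J • (⊤ : Submodule A (Fin r → A)) := by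
  rw [mem_smul_top_pi]
  constructor
  · intro h i
    have := congrFun h i
    exact Ideal.Quotient.eq_zero_iff_mem.mp this
  · intro h
    funext i
    exact Ideal.Quotient.eq_zero_iff_mem.mpr (h i)

variable {M : Type*} [AddCommGroup M] [Module A M] {M' : Type*} [AddCommGroup M']
  [Module (A ⧸ J) M']

/-- The `A ⧸ J`-linear map out of `(A ⧸ J)^r` induced by an `A`-linear map out of `A^r`. -/
noncomputable def bar {r : ℕ} (q : M →+ M') (φ : (Fin r → A) →ₗ[A] M) :
    (Fin r → A ⧸ J) →ₗ[A ⧸ J] M' :=
  Fintype.linearCombination (A ⧸ J) (fun i => q (φ (fun j => if i = j then 1 else 0)))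

theorem bar_pi {r : ℕ} (q : M →+ M')
    (hq : ∀ (a : A) (m : M), q (a • m) = Ideal.Quotient.mk J a • q m)
    (φ : (Fin r → A) →ₗ[A] M) (x : Fin r → A) : bar J q φ (piJ J r x) = q (φ x) := by
  rw [bar, Fintype.linearCombination_apply, LinearMap.pi_apply_eq_sum_univ φ x, map_sum]
  refine Finset.sum_congr rfl (fun i _ => ?_)
  rw [hq]
  rfl

/-- The `A ⧸ J`-linear map out of `M ⧸ J M` induced by a semilinear additive map. -/
noncomputable def quotLift (q : M →+ M')
    (hq : ∀ (a : A) (m : M), q (a • m) = Ideal.Quotient.mk J a • q m) :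
    (M ⧸ J • (⊤ : Submodule A M)) →ₗ[A ⧸ J] M' where
  toFun := Submodule.liftQ (J • (⊤ : Submodule A M))
    ({ toFun := q, map_add' := q.map_add, map_smul' := hq } : M →ₛₗ[Ideal.Quotient.mk J] M')
    (by
      intro x hx
      rw [LinearMap.mem_ker]
      show q x = 0
      refine Submodule.smul_induction_on hx (fun a ha m _ => ?_) (fun x y hx hy => ?_)
      · rw [hq, Ideal.Quotient.eq_zero_iff_mem.mpr ha, zero_smul]
      · rw [map_add, hx, hy, add_zero])
  map_add' x y := map_add _ x y
  map_smul' c z := by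
    obtain ⟨a, rfl⟩ := Ideal.Quotient.mk_surjective c
    obtain ⟨y, rfl⟩ := Submodule.Quotient.mk_surjective _ z
    show q (a • y) = Ideal.Quotient.mk J a • q y
    exact hq a y

theorem quotLift_mk (q : M →+ M')
    (hq : ∀ (a : A) (m : M), q (a • m) = Ideal.Quotient.mk J a • q m) (y : M) :
    quotLift J q hq (Submodule.Quotient.mk y) = q y := rfl

theorem projective_quotient (P : Type*) [AddCommGroup P] [Module A P] [Module.Finite A P]
    [Module.Projective A P] : Module.Projective (A ⧸ J) (P ⧸ J • (⊤ : Submodule A P)) := by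
  obtain ⟨r, ρ, i, _, _, hρi⟩ := Module.Finite.exists_comp_eq_id_of_projective A P
  have hmk : ∀ (a : A) (m : P),
      (Submodule.mkQ (J • (⊤ : Submodule A P))).toAddMonoidHom (a • m) =
      Ideal.Quotient.mk J a • (Submodule.mkQ (J • (⊤ : Submodule A P))).toAddMonoidHom m :=
    fun a m => rfl
  have hi : ∀ (a : A) (m : P), ((piJ J r).comp i.toAddMonoidHom) (a • m) =
      Ideal.Quotient.mk J a • ((piJ J r).comp i.toAddMonoidHom) m := by
    intro a m
    show piJ J r (i (a • m)) = Ideal.Quotient.mk J a • piJ J r (i m)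
    rw [map_smul, piJ_smul]
  refine Module.Projective.of_split (quotLift J _ hi)
    (bar J (Submodule.mkQ (J • (⊤ : Submodule A P))).toAddMonoidHom ρ) ?_
  apply LinearMap.ext
  intro z
  obtain ⟨y, rfl⟩ := Submodule.Quotient.mk_surjective _ z
  show bar J (Submodule.mkQ (J • (⊤ : Submodule A P))).toAddMonoidHom ρ (piJ J r (i y)) = _
  rw [bar_pi J _ hmk]
  have := LinearMap.congr_fun hρi y
  rw [LinearMap.comp_apply, LinearMap.id_apply] at this
  rw [this]
  rfl

theorem iInf_smul_top_eq_bot (K : ℕ → Ideal A) (hK : ⨅ n, K n = ⊥) (P : Type*)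
    [AddCommGroup P] [Module A P] [Module.Finite A P] [Module.Projective A P] :
    ⨅ n, K n • (⊤ : Submodule A P) = ⊥ := by
  obtain ⟨r, ρ, i, _, _, hρi⟩ := Module.Finite.exists_comp_eq_id_of_projective A P
  rw [eq_bot_iff]
  intro x hx
  rw [Submodule.mem_iInf] at hx
  have h0 : i x = 0 := by
    funext j
    have : i x j ∈ ⨅ n, K n := by
      rw [Ideal.mem_iInf]
      intro n
      exact (mem_smul_top_pi (K n) (i x)).mp (map_mem_smul_top (K n) i (hx n)) j
    rw [hK] at this
    exact (Submodule.mem_bot A).mp this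
  have := LinearMap.congr_fun hρi x
  rw [LinearMap.comp_apply, LinearMap.id_apply, h0, map_zero] at this
  rw [Submodule.mem_bot]
  exact this.symm

theorem isAdicComplete_of_pow_eq_bot (K : Ideal A) (N : ℕ) (hK : K ^ N = ⊥) (M : Type*)
    [AddCommGroup M] [Module A M] : IsAdicComplete K M := by
  refine { toIsHausdorff := ⟨fun x hx => ?_⟩, toIsPrecomplete := ⟨fun f hf => ?_⟩ }
  · have := hx N
    rw [hK, Submodule.bot_smul, SModEq.bot] at this
    exact this
  · refine ⟨f N, fun n => ?_⟩
    rcases le_total n N with h | h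
    · exact hf h
    · have := hf h
      rw [hK, Submodule.bot_smul, SModEq.bot] at this
      exact this ▸ SModEq.rfl

end basics

section surj

variable {A : Type*} [CommRing A] (I : Ideal A)

theorem surjective_of_mod {r : ℕ} [IsPrecomplete I (Fin r → A)]
    {P : Type*} [AddCommGroup P] [Module A P]
    (hsep : ∀ y : P, (∀ m : ℕ, y ∈ I ^ m • (⊤ : Submodule A P)) → y = 0)
    (g : (Fin r → A) →ₗ[A] P) (hg : ∀ y : P, ∃ x, y - g x ∈ I • (⊤ : Submodule A P)) :
    Function.Surjective g := by
  have step : ∀ (k : ℕ) (y : P), y ∈ I ^ k • (⊤ : Submodule A P) →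
      ∃ x : Fin r → A, x ∈ I ^ k • (⊤ : Submodule A (Fin r → A)) ∧
        y - g x ∈ I ^ (k + 1) • (⊤ : Submodule A P) := by
    intro k y hy
    refine Submodule.smul_induction_on hy (fun a ha m _ => ?_) (fun y₁ y₂ h₁ h₂ => ?_)
    · obtain ⟨x, hx⟩ := hg m
      refine ⟨a • x, Submodule.smul_mem_smul ha Submodule.mem_top, ?_⟩
      rw [map_smul, ← smul_sub, pow_succ, Submodule.mul_smul]
      exact Submodule.smul_mem_smul ha hx
    · obtain ⟨x₁, hx₁, h₁'⟩ := h₁
      obtain ⟨x₂, hx₂, h₂'⟩ := h₂
      refine ⟨x₁ + x₂, Submodule.add_mem _ hx₁ hx₂, ?_⟩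
      have e : y₁ + y₂ - g (x₁ + x₂) = (y₁ - g x₁) + (y₂ - g x₂) := by rw [map_add]; abel
      rw [e]
      exact Submodule.add_mem _ h₁' h₂'
  choose! stp hstp1 hstp2 using step
  intro y
  let w : ℕ → (Fin r → A) := fun k =>
    Nat.rec (motive := fun _ => Fin r → A) 0 (fun k wk => wk + stp k (y - g wk)) k
  have wS : ∀ k, w (k + 1) = w k + stp k (y - g (w k)) := fun k => rfl
  have hw : ∀ k, y - g (w k) ∈ I ^ k • (⊤ : Submodule A P) := by
    intro k
    induction k with
    | zero => rw [pow_zero, Ideal.one_eq_top, Submodule.top_smul]; exact Submodule.mem_top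
    | succ k ih =>
      have e : y - g (w (k + 1)) = (y - g (w k)) - g (stp k (y - g (w k))) := by
        rw [wS, map_add]; abel
      rw [e]
      exact hstp2 k _ ih
  have hd : ∀ k, w (k + 1) - w k ∈ I ^ k • (⊤ : Submodule A (Fin r → A)) := by
    intro k
    rw [wS, add_sub_cancel_left]
    exact hstp1 k _ (hw k)
  have hC : ∀ m n, m ≤ n → w n - w m ∈ I ^ m • (⊤ : Submodule A (Fin r → A)) := by
    intro m n hmn
    induction n, hmn using Nat.le_induction with
    | base => rw [sub_self]; exact Submodule.zero_mem _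
    | succ n hmn ih =>
      have e : w (n + 1) - w m = (w (n + 1) - w n) + (w n - w m) := by abel
      rw [e]
      exact Submodule.add_mem _
        (Submodule.smul_mono_left (Ideal.pow_le_pow_right hmn) (hd n)) ih
  obtain ⟨L, hL⟩ := IsPrecomplete.prec (inferInstance : IsPrecomplete I (Fin r → A)) (f := w)
    (fun {m n} hmn => (SModEq.sub_mem.mpr (hC m n hmn)).symm)
  refine ⟨L, ?_⟩
  have h0 : y - g L = 0 := by
    apply hsep
    intro m
    have e : y - g L = (y - g (w m)) + g (w m - L) := by rw [map_sub]; abel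
    rw [e]
    exact Submodule.add_mem _ (hw m) (map_mem_smul_top _ g (SModEq.sub_mem.mp (hL m)))
  exact (sub_eq_zero.mp h0).symm

end surj

section main

theorem finite_projective_of_quotients {A : Type u} [CommRing A] (I : Ideal A)
    [IsAdicComplete I A] (J : ℕ → Ideal A) (hJI : ∀ n, J n ≤ I) (hIJ : ∀ n, ∃ m, I ^ m ≤ J n)
    (hJ : ⨅ n, J n = ⊥) (P : Type v) [AddCommGroup P] [Module A P]
    (hsep : ⨅ n, J n • (⊤ : Submodule A P) = ⊥)
    [Module.Finite (A ⧸ I) (P ⧸ I • (⊤ : Submodule A P))]
    [Module.Projective (A ⧸ I) (P ⧸ I • (⊤ : Submodule A P))]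
    (hproj : ∀ n, Module.Projective (A ⧸ J n) (P ⧸ J n • (⊤ : Submodule A P))) :
    Module.Finite A P ∧ Module.Projective A P := by
  classical
  obtain ⟨r, γ, hγ⟩ := Module.Finite.exists_fin' (A ⧸ I) (P ⧸ I • (⊤ : Submodule A P))
  have hl : ∀ i : Fin r, ∃ y : P, (Submodule.Quotient.mk y : P ⧸ I • (⊤ : Submodule A P)) =
      γ (fun j => if i = j then 1 else 0) := fun i => Submodule.Quotient.mk_surjective _ _
  choose v hv using hl
  let f : (Fin r → A) →ₗ[A] P := Fintype.linearCombination A v
  have hfb : ∀ i, f (fun j => if i = j then 1 else 0) = v i := by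
    intro i
    show Fintype.linearCombination A v _ = _
    rw [Fintype.linearCombination_apply]
    simp only [ite_smul, one_smul, zero_smul]
    rw [Finset.sum_ite_eq, if_pos (Finset.mem_univ i)]
  let q : P →+ (P ⧸ I • (⊤ : Submodule A P)) :=
    (Submodule.mkQ (I • (⊤ : Submodule A P))).toAddMonoidHom
  have hq : ∀ (a : A) (m : P), q (a • m) = Ideal.Quotient.mk I a • q m := fun a m => rfl
  have hγ' : ∀ c, bar I q f c = γ c := by
    intro c
    rw [LinearMap.pi_apply_eq_sum_univ γ c]
    show Fintype.linearCombination (A ⧸ I) _ c = _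
    rw [Fintype.linearCombination_apply]
    refine Finset.sum_congr rfl (fun i _ => ?_)
    rw [hfb i]
    show c i • (Submodule.Quotient.mk (v i) : P ⧸ I • (⊤ : Submodule A P)) = _
    rw [hv i]
  have hgs : Function.Surjective (bar I q f) := fun z => by
    obtain ⟨c, hc⟩ := hγ z
    exact ⟨c, (hγ' c).trans hc⟩
  obtain ⟨s, hs⟩ := Module.projective_lifting_property (bar I q f) LinearMap.id hgs
  have hs' : ∀ z, bar I q f (s z) = z := fun z => by
    have := LinearMap.congr_fun hs z
    rwa [LinearMap.comp_apply, LinearMap.id_apply] at this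
  have hl2 : ∀ i : Fin r, ∃ x : Fin r → A,
      piJ I r x = s (bar I q f (piJ I r (fun j => if i = j then 1 else 0))) :=
    fun i => piJ_surjective I r _
  choose u hu using hl2
  let e₀ : Module.End A (Fin r → A) := Fintype.linearCombination A u
  have he₀ : ∀ x, piJ I r (e₀ x) = s (bar I q f (piJ I r x)) := by
    intro x
    show piJ I r (Fintype.linearCombination A u x) = _
    rw [Fintype.linearCombination_apply, map_sum]
    conv_rhs => rw [pi_eq_sum_univ x, map_sum, map_sum, map_sum]
    refine Finset.sum_congr rfl (fun i _ => ?_)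
    rw [piJ_smul, piJ_smul, map_smul, map_smul, hu i]
  have hDD : DD I 1 (e₀ * e₀ - e₀) := by
    intro x
    rw [pow_one, ← piJ_eq_zero_iff]
    show piJ I r (e₀ (e₀ x) - e₀ x) = 0
    rw [map_sub, he₀ (e₀ x), he₀ x, hs', sub_self]
  haveI : IsAdicComplete I (Fin r → A) := isAdicComplete_pi I r
  obtain ⟨e, hee, hed⟩ := exists_idempotent_lift I e₀ hDD
  have hee' : ∀ x, e (e x) = e x := fun x => LinearMap.congr_fun hee x
  have he : ∀ x, piJ I r (e x) = s (bar I q f (piJ I r x)) := by
    intro x
    have h1 : piJ I r (e x - e₀ x) = 0 := by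
      rw [piJ_eq_zero_iff]
      have := hed x
      rwa [pow_one] at this
    rw [map_sub, sub_eq_zero] at h1
    rw [h1, he₀]
  have hclaim : ∀ x, e x = x → f x ∈ I • (⊤ : Submodule A P) →
      x ∈ I • (⊤ : Submodule A (Fin r → A)) := by
    intro x hx hfx
    rw [← piJ_eq_zero_iff, ← hx, he, bar_pi I q hq]
    have : q (f x) = 0 := (Submodule.Quotient.mk_eq_zero _).mpr hfx
    rw [this, map_zero]
  have hsepI : ∀ y : P, (∀ m : ℕ, y ∈ I ^ m • (⊤ : Submodule A P)) → y = 0 := by
    intro y hy
    have : y ∈ ⨅ n, J n • (⊤ : Submodule A P) := by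
      rw [Submodule.mem_iInf]
      intro n
      obtain ⟨m, hm⟩ := hIJ n
      exact Submodule.smul_mono_left hm (hy m)
    rw [hsep] at this
    exact (Submodule.mem_bot A).mp this
  have hgmod : ∀ y : P, ∃ x, y - (f ∘ₗ e) x ∈ I • (⊤ : Submodule A P) := by
    intro y
    obtain ⟨x, hx⟩ := piJ_surjective I r (s (q y))
    refine ⟨x, ?_⟩
    rw [← Submodule.Quotient.mk_eq_zero]
    show q (y - f (e x)) = 0
    rw [map_sub, ← bar_pi I q hq f (e x), he, hx, hs', hs', sub_self]
  have hgsurj : Function.Surjective (f ∘ₗ e) := surjective_of_mod I hsepI (f ∘ₗ e) hgmod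
  have hker : ∀ x, e x = x → f x = 0 → x = 0 := by
    intro x hx hfx
    have hn : ∀ n, x ∈ J n • (⊤ : Submodule A (Fin r → A)) := by
      intro n
      haveI := hproj n
      let qn : P →+ (P ⧸ J n • (⊤ : Submodule A P)) :=
        (Submodule.mkQ (J n • (⊤ : Submodule A P))).toAddMonoidHom
      have hqn : ∀ (a : A) (m : P), qn (a • m) = Ideal.Quotient.mk (J n) a • qn m :=
        fun a m => rfl
      let gb : (Fin r → A ⧸ J n) →ₗ[A ⧸ J n] (P ⧸ J n • (⊤ : Submodule A P)) :=
        bar (J n) qn f
      let eb : Module.End (A ⧸ J n) (Fin r → A ⧸ J n) := bar (J n) (piJ (J n) r) e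
      have heb : ∀ x, eb (piJ (J n) r x) = piJ (J n) r (e x) :=
        fun x => bar_pi (J n) _ (piJ_smul (J n) r) e x
      have hgb : ∀ x, gb (piJ (J n) r x) = qn (f x) := fun x => bar_pi (J n) qn hqn f x
      have hhs : Function.Surjective (gb ∘ₗ eb) := by
        intro z
        obtain ⟨y, rfl⟩ := Submodule.Quotient.mk_surjective _ z
        obtain ⟨x', hx'⟩ := hgsurj y
        refine ⟨piJ (J n) r x', ?_⟩
        rw [LinearMap.comp_apply, heb, hgb, ← hx']
        rfl
      obtain ⟨t, ht⟩ := Module.projective_lifting_property (gb ∘ₗ eb) LinearMap.id hhs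
      have ht' : ∀ z, gb (eb (t z)) = z := fun z => by
        have := LinearMap.congr_fun ht z
        rwa [LinearMap.comp_apply, LinearMap.id_apply, LinearMap.comp_apply] at this
      let N : Ideal (A ⧸ J n) := I.map (Ideal.Quotient.mk (J n))
      let k : Module.End (A ⧸ J n) (Fin r → A ⧸ J n) := eb - eb ∘ₗ t ∘ₗ gb ∘ₗ eb
      have hk1 : DD N 1 k := by
        intro c
        rw [pow_one]
        obtain ⟨x₁, rfl⟩ := piJ_surjective (J n) r c
        obtain ⟨x₂, hx₂⟩ := piJ_surjective (J n) r (t (gb (eb (piJ (J n) r x₁))))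
        have hkc : k (piJ (J n) r x₁) = piJ (J n) r (e x₁ - e x₂) := by
          show eb (piJ (J n) r x₁) - eb (t (gb (eb (piJ (J n) r x₁)))) = _
          rw [← hx₂, heb, heb, map_sub]
        have hz1 : e (e x₁ - e x₂) = e x₁ - e x₂ := by rw [map_sub, hee', hee']
        have hz2 : f (e x₁ - e x₂) ∈ J n • (⊤ : Submodule A P) := by
          rw [← Submodule.Quotient.mk_eq_zero]
          show qn (f (e x₁ - e x₂)) = 0
          rw [← hgb, ← hkc]
          show gb (eb (piJ (J n) r x₁) - eb (t (gb (eb (piJ (J n) r x₁))))) = 0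
          rw [map_sub, ht', sub_self]
        have hz3 := hclaim _ hz1 (Submodule.smul_mono_left (hJI n) hz2)
        rw [hkc, mem_smul_top_pi]
        intro i
        rw [mem_smul_top_pi] at hz3
        exact Ideal.mem_map_of_mem _ (hz3 i)
      have hk2 : ∀ c, eb c = c → gb c = 0 → ∀ m, (k ^ m) c = c := by
        intro c hc1 hc2 m
        induction m with
        | zero => rw [pow_zero]; rfl
        | succ m ih =>
          rw [pow_succ, Module.End.mul_apply]
          have : k c = c := by
            show eb c - eb (t (gb (eb c))) = c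
            rw [hc1, hc2, map_zero, map_zero, sub_zero]
          rw [this, ih]
      have hk3 : ∀ m, DD N m (k ^ m) := by
        intro m
        induction m with
        | zero =>
          intro c
          rw [pow_zero N, Ideal.one_eq_top, Submodule.top_smul]
          exact Submodule.mem_top
        | succ m ih => rw [pow_succ]; exact DD_mul N ih hk1
      obtain ⟨m, hm⟩ := hIJ n
      have hNm : N ^ m = ⊥ := by
        show (I.map (Ideal.Quotient.mk (J n))) ^ m = ⊥
        rw [← Ideal.map_pow, Ideal.map_eq_bot_iff_le_ker, Ideal.mk_ker]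
        exact hm
      have hc1 : eb (piJ (J n) r x) = piJ (J n) r x := by rw [heb, hx]
      have hc2 : gb (piJ (J n) r x) = 0 := by rw [hgb, hfx, map_zero]
      have h0 := hk3 m (piJ (J n) r x)
      rw [hk2 _ hc1 hc2 m, hNm, Submodule.bot_smul] at h0
      rw [← piJ_eq_zero_iff]
      exact (Submodule.mem_bot _).mp h0
    funext i
    have : x i ∈ ⨅ n, J n := by
      rw [Ideal.mem_iInf]
      intro n
      exact (mem_smul_top_pi (J n) x).mp (hn n) i
    rw [hJ] at this
    exact (Submodule.mem_bot A).mp this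
  let φ : LinearMap.range e →ₗ[A] P := f.domRestrict (LinearMap.range e)
  have hfix : ∀ z : LinearMap.range e, e z.1 = z.1 := by
    rintro ⟨z, hz⟩
    obtain ⟨x, rfl⟩ := LinearMap.mem_range.mp hz
    exact hee' x
  have hφi : Function.Injective φ := by
    rw [← LinearMap.ker_eq_bot, LinearMap.ker_eq_bot']
    intro z hz
    apply Subtype.ext
    exact hker z.1 (hfix z) hz
  have hφs : Function.Surjective φ := by
    intro y
    obtain ⟨x, hx⟩ := hgsurj y
    exact ⟨⟨e x, LinearMap.mem_range.mpr ⟨x, rfl⟩⟩, hx⟩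
  let Φ := LinearEquiv.ofBijective φ ⟨hφi, hφs⟩
  refine ⟨Module.Finite.of_surjective (f ∘ₗ e) hgsurj, ?_⟩
  refine Module.Projective.of_split ((LinearMap.range e).subtype ∘ₗ Φ.symm.toLinearMap)
    (f ∘ₗ e) ?_
  apply LinearMap.ext
  intro y
  show f (e (Φ.symm y).1) = y
  rw [hfix]
  exact Φ.apply_symm_apply y

end main

end H10AP
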