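import Mathlib

/-!
# Helper library (helper10): conjugating two embeddings into a big algebraically closed field
-/

set_option autoImplicit false
universe u
open Cardinal

namespace H10PT

/-- The cardinality of an algebraically closed field that is big over `k` equals that of any transcendence basis. -/
theorem card_eq_card_transcendenceBasis {k K : Type u} [Field k] [Field K] [Algebra k K] [IsAlgClosed K]
    {ι : Type u} (v : ι → K) (hv : IsTranscendenceBasis k v) (hk : #k < #K) (hK : ℵ₀ < #K) : #K = #ι := by
  apply le_antisymm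
  · have h := IsAlgClosed.cardinal_le_max_transcendence_basis' v hv
    by_contra hlt
    have hlt' : #ι < #K := not_le.1 hlt
    have : max (max #k #ι) ℵ₀ < #K := max_lt (max_lt hk hlt') hK
    exact absurd h (not_le.2 this)
  · exact Cardinal.mk_le_of_injective hv.1.injective

/-- Two big algebraically closed extensions of `k` of the same cardinality are isomorphic over `k`. -/
theorem exists_ringEquiv_of_card {k K L : Type u} [Field k] [Field K] [Field L] [Algebra k K] [Algebra k L]
    [IsAlgClosed K] [IsAlgClosed L] (hKL : #K = #L) (hk : #k < #K) (hK : ℵ₀ < #K) :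
    ∃ β : K ≃+* L, ∀ x, β (algebraMap k K x) = algebraMap k L x := by
  obtain ⟨ι, v, hv⟩ := exists_isTranscendenceBasis' k K
  obtain ⟨κ, w, hw⟩ := exists_isTranscendenceBasis' k L
  have h1 : #K = #ι := card_eq_card_transcendenceBasis v hv hk hK
  have h2 : #L = #κ := card_eq_card_transcendenceBasis w hw (hKL ▸ hk) (hKL ▸ hK)
  obtain ⟨e⟩ := Cardinal.eq.1 (h1.symm.trans (hKL.trans h2))
  letI := IsAlgClosed.isAlgClosure_of_transcendence_basis v hv
  letI := IsAlgClosed.isAlgClosure_of_transcendence_basis w hw
  let e' : Algebra.adjoin k (Set.range v) ≃ₐ[k] Algebra.adjoin k (Set.range w) :=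
    hv.1.aevalEquiv.symm.trans ((MvPolynomial.renameEquiv k e).trans hw.1.aevalEquiv)
  refine ⟨IsAlgClosure.equivOfEquiv K L e'.toRingEquiv, fun x => ?_⟩
  have hx : algebraMap k K x = algebraMap (Algebra.adjoin k (Set.range v)) K
      (algebraMap k (Algebra.adjoin k (Set.range v)) x) := rfl
  rw [hx, IsAlgClosure.equivOfEquiv_algebraMap]
  have : e'.toRingEquiv (algebraMap k (Algebra.adjoin k (Set.range v)) x) =
      algebraMap k (Algebra.adjoin k (Set.range w)) x := e'.commutes x
  rw [this]
  rfl

/-- Two embeddings of a small field into a big algebraically closed field are conjugate. -/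
theorem exists_ringEquiv_comp_eq {k L : Type u} [Field k] [Field L] [IsAlgClosed L]
    (f g : k →+* L) (hk : #k < #L) (hL : ℵ₀ < #L) : ∃ β : L ≃+* L, ∀ x, β (f x) = g x :=
  @exists_ringEquiv_of_card k L L _ _ _ f.toAlgebra g.toAlgebra _ _ rfl hk hL

/-- Every field embeds in an algebraically closed field of strictly bigger, uncountable cardinality. -/
theorem exists_big_algClosed (K : Type u) [Field K] :
    ∃ (L : Type u) (_ : Field L) (_ : K →+* L), IsAlgClosed L ∧ #K < #L ∧ ℵ₀ < #L := by
  let I : Type u := Set (K ⊕ ULift.{u} ℕ)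
  let P := MvPolynomial I K
  let F := FractionRing P
  let L := AlgebraicClosure F
  have hinj : Function.Injective (fun i : I => algebraMap F L (algebraMap P F (MvPolynomial.X i))) := by
    intro a b hab
    have h1 := (algebraMap F L).injective hab
    have h2 := IsFractionRing.injective P F h1
    exact MvPolynomial.X_injective h2
  have hI : #I ≤ #L := Cardinal.mk_le_of_injective hinj
  have hI2 : #(K ⊕ ULift.{u} ℕ) < #I := by
    rw [Cardinal.mk_set]
    exact Cardinal.cantor _
  have hK : #K ≤ #(K ⊕ ULift.{u} ℕ) := Cardinal.mk_le_of_injective Sum.inl_injective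
  have hN : ℵ₀ ≤ #(K ⊕ ULift.{u} ℕ) := by
    have : #(ULift.{u} ℕ) ≤ #(K ⊕ ULift.{u} ℕ) := Cardinal.mk_le_of_injective Sum.inr_injective
    simpa using this
  exact ⟨L, inferInstance, (algebraMap F L).comp ((algebraMap P F).comp MvPolynomial.C), inferInstance,
    (hK.trans_lt hI2).trans_le hI, (hN.trans_lt hI2).trans_le hI⟩

end H10PT
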