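import Mathlib
import Groth.Prelude.Def_FibCat2
import Groth.Prelude.Def_W4stkcategoriessitesFib

/-!
# Basics on strongly cartesian morphisms and categories fibred in groupoids

* `sc_map`, `sc_of_map`: change of the base morphism for strongly cartesian morphisms.
* `isHomLift_comp`: lifts along a composite functor.
* `IsFibGrpd.sc`, `IsFibGrpd.isFibered`, `IsFibGrpd.isIso_of_isHomLift_id`,
  `IsFibGrpd.isGroupoid_fiber`, `isFibGrpd_of_isFibered_of_isGroupoid`.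
-/

set_option autoImplicit false

universe v₁ u₁ v₂ u₂ v₃ u₃

open CategoryTheory Functor

namespace Groth.Agent.Lib.Helper10.Fib

section

variable {𝒮 : Type u₁} {𝒳 : Type u₂} [Category.{v₁} 𝒮] [Category.{v₂} 𝒳] (p : 𝒳 ⥤ 𝒮)

lemma sc_map {R S : 𝒮} {a b : 𝒳} (f : R ⟶ S) (φ : a ⟶ b) [p.IsStronglyCartesian f φ] :
    p.IsStronglyCartesian (p.map φ) φ := by
  subst_hom_lift p f φ
  infer_instance

lemma sc_of_map {R S : 𝒮} {a b : 𝒳} (f : R ⟶ S) (φ : a ⟶ b) [p.IsHomLift f φ]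
    (h : p.IsStronglyCartesian (p.map φ) φ) : p.IsStronglyCartesian f φ := by
  subst_hom_lift p f φ
  exact h

lemma isHomLift_of_eq {a b : 𝒳} (f : p.obj a ⟶ p.obj b) (φ : a ⟶ b) (h : f = p.map φ) :
    p.IsHomLift f φ := by
  subst h
  infer_instance

end

section

variable {𝒜 : Type u₁} [Category.{v₁} 𝒜] {ℬ : Type u₂} [Category.{v₂} ℬ] {𝒞 : Type u₃}
  [Category.{v₃} 𝒞] (F : 𝒜 ⥤ ℬ) (G : ℬ ⥤ 𝒞)

lemma isHomLift_comp {R S : 𝒞} {b b' : ℬ} {a a' : 𝒜} (f : R ⟶ S) (ψ : b ⟶ b') (φ : a ⟶ a')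
    [F.IsHomLift ψ φ] [G.IsHomLift f ψ] : (F ⋙ G).IsHomLift f φ := by
  subst_hom_lift F ψ φ
  subst_hom_lift G f (F.map φ)
  exact IsHomLift.map (F ⋙ G) φ

lemma isHomLift_comp_map {R S : 𝒞} {a a' : 𝒜} (f : R ⟶ S) (φ : a ⟶ a')
    [G.IsHomLift f (F.map φ)] : (F ⋙ G).IsHomLift f φ :=
  isHomLift_comp F G f (F.map φ) φ

lemma isHomLift_map_of_comp {R S : 𝒞} {a a' : 𝒜} (f : R ⟶ S) (φ : a ⟶ a')
    [(F ⋙ G).IsHomLift f φ] : G.IsHomLift f (F.map φ) := by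
  subst_hom_lift (F ⋙ G) f φ
  exact IsHomLift.map G (F.map φ)

end

section

variable {𝒮 : Type u₁} {𝒳 : Type u₂} [Category.{v₁} 𝒮] [Category.{v₂} 𝒳] {p : 𝒳 ⥤ 𝒮}

lemma IsFibGrpd.sc (h : FibCat.IsFibGrpd p) {R S : 𝒮} {a b : 𝒳} (f : R ⟶ S) (φ : a ⟶ b)
    [p.IsHomLift f φ] : p.IsStronglyCartesian f φ :=
  sc_of_map p f φ (h.isStronglyCartesian φ)

lemma IsFibGrpd.isFibered (h : FibCat.IsFibGrpd p) : p.IsFibered := by
  apply Functor.IsFibered.of_exists_isStronglyCartesian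
  intro a R f
  obtain ⟨y, φ, hφ⟩ := h.exists_lift f
  exact ⟨y, φ, IsFibGrpd.sc h f φ⟩

lemma IsFibGrpd.isIso_of_isHomLift_id (h : FibCat.IsFibGrpd p) {U : 𝒮} {a b : 𝒳} (φ : a ⟶ b)
    [p.IsHomLift (𝟙 U) φ] : IsIso φ := by
  haveI := IsFibGrpd.sc h (𝟙 U) φ
  exact Functor.IsStronglyCartesian.isIso_of_base_isIso p (𝟙 U) φ

lemma IsFibGrpd.isIso_of_isIso_map (h : FibCat.IsFibGrpd p) {a b : 𝒳} (φ : a ⟶ b)
    [IsIso (p.map φ)] : IsIso φ := by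
  haveI := h.isStronglyCartesian φ
  exact Functor.IsStronglyCartesian.isIso_of_base_isIso p (p.map φ) φ

lemma IsFibGrpd.isGroupoid_fiber (h : FibCat.IsFibGrpd p) (U : 𝒮) : IsGroupoid (p.Fiber U) := by
  refine ⟨fun {X Y} f => ?_⟩
  haveI := f.2
  haveI : IsIso f.1 := IsFibGrpd.isIso_of_isHomLift_id h (U := U) f.1
  exact ⟨⟨⟨inv f.1, inferInstance⟩, Subtype.ext (IsIso.hom_inv_id f.1),
    Subtype.ext (IsIso.inv_hom_id f.1)⟩⟩

lemma isFibGrpd_of_isFibered_of_isGroupoid [p.IsFibered] (hg : ∀ U, IsGroupoid (p.Fiber U)) :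
    FibCat.IsFibGrpd p where
  exists_lift := by
    intro x V f
    obtain ⟨y, φ, hφ⟩ := Functor.IsPreFibered.exists_isCartesian' (p := p) f
    exact ⟨y, φ, inferInstance⟩
  isStronglyCartesian := by
    intro y x φ
    obtain ⟨y', ψ, hψ⟩ := Functor.IsPreFibered.exists_isCartesian' (p := p) (p.map φ)
    obtain ⟨χ, ⟨hχ1, hχ2⟩, -⟩ := hψ.universal_property φ
    haveI : IsIso χ := by
      haveI := (hg (p.obj y)).all_isIso (Functor.Fiber.homMk p (p.obj y) χ)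
      exact (inferInstance :
        IsIso (Functor.Fiber.fiberInclusion.map (Functor.Fiber.homMk p (p.obj y) χ)))
    haveI : p.IsStronglyCartesian (p.map φ) ψ := inferInstance
    haveI : p.IsStronglyCartesian (𝟙 (p.obj y)) χ := inferInstance
    have h1 : p.IsStronglyCartesian (𝟙 (p.obj y) ≫ p.map φ) (χ ≫ ψ) := inferInstance
    have h2 : p.IsStronglyCartesian (p.map (χ ≫ ψ)) (χ ≫ ψ) := by
      haveI := h1
      exact sc_map p (𝟙 (p.obj y) ≫ p.map φ) (χ ≫ ψ)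
    rw [hχ2] at h2
    exact h2

end

end Groth.Agent.Lib.Helper10.Fib
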