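import Mathlib
import Groth.Prelude.Def_FibCat2
import Groth.Prelude.Def_W4stkcategoriessitesFib
import Groth.Agent.Lib.Helper10.FibGrpd

/-!
# More basics on strongly cartesian morphisms

* `isHomLift_iff_eq`, `isHomLift_unique`, `sc_map_iff` (the universal property with equalities of
  morphisms of the base instead of `IsHomLift`), `exists_sc`.
* `sc_of_comp_faithful`, `over_ext`, `over_isHomLift`: functors to a slice category.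
* `sc_of_comp_fibGrpd`: if `q` and `r ⋙ q` are fibred in groupoids every morphism is
  strongly cartesian for `r`.
* `IsEquivOver` API: `IsEquivOver.isEquivalence`, `IsEquivOver.exists_iso`, `sc_map_of_ff`,
  `isFibered_of_ff`.
-/

set_option autoImplicit false

universe v₁ u₁ v₂ u₂ v₃ u₃ v u

open CategoryTheory Functor

namespace Groth.Agent.Lib.Helper10.Fib

section

variable {𝒮 : Type u₁} {𝒳 : Type u₂} [Category.{v₁} 𝒮] [Category.{v₂} 𝒳] (p : 𝒳 ⥤ 𝒮)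

lemma isHomLift_iff_eq {a b : 𝒳} (f : p.obj a ⟶ p.obj b) (φ : a ⟶ b) :
    p.IsHomLift f φ ↔ p.map φ = f := by
  constructor
  · intro h
    exact (IsHomLift.eq_of_isHomLift p f φ).symm
  · intro h
    exact isHomLift_of_eq p f φ h.symm

lemma isHomLift_unique {R S : 𝒮} {a b : 𝒳} (f f' : R ⟶ S) (φ : a ⟶ b) [p.IsHomLift f φ]
    [p.IsHomLift f' φ] : f = f' := by
  have h1 := IsHomLift.fac p f φ
  have h2 := IsHomLift.fac p f' φ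
  exact h1.trans h2.symm

lemma isHomLift_id_of_eq {S S' : 𝒮} (h : S = S') {a b : 𝒳} (φ : a ⟶ b) [p.IsHomLift (𝟙 S) φ] :
    p.IsHomLift (𝟙 S') φ := by
  subst h
  infer_instance

lemma sc_map_iff {a b : 𝒳} (φ : a ⟶ b) :
    p.IsStronglyCartesian (p.map φ) φ ↔
      ∀ ⦃c : 𝒳⦄ (g : p.obj c ⟶ p.obj a) (φ' : c ⟶ b), p.map φ' = g ≫ p.map φ →
        ∃! χ : c ⟶ a, p.map χ = g ∧ χ ≫ φ = φ' := by
  constructor
  · intro h c g φ' hφ'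
    have : p.IsHomLift (g ≫ p.map φ) φ' := isHomLift_of_eq p _ φ' hφ'.symm
    obtain ⟨χ, ⟨h1, h2⟩, h3⟩ := h.universal_property' g φ'
    have := h1
    refine ⟨χ, ⟨(IsHomLift.eq_of_isHomLift p g χ).symm, h2⟩, ?_⟩
    rintro χ' ⟨h1', h2'⟩
    exact h3 χ' ⟨isHomLift_of_eq p g χ' h1'.symm, h2'⟩
  · intro h
    refine { universal_property' := ?_ }
    intro c g φ' hφ'
    have e : p.map φ' = g ≫ p.map φ := (IsHomLift.eq_of_isHomLift p (g ≫ p.map φ) φ').symm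
    obtain ⟨χ, ⟨h1, h2⟩, h3⟩ := h g φ' e
    refine ⟨χ, ⟨isHomLift_of_eq p g χ h1.symm, h2⟩, ?_⟩
    rintro χ' ⟨h1', h2'⟩
    have := h1'
    exact h3 χ' ⟨(IsHomLift.eq_of_isHomLift p g χ').symm, h2'⟩

lemma exists_sc [p.IsFibered] {a : 𝒳} {R : 𝒮} (f : R ⟶ p.obj a) :
    ∃ (b : 𝒳) (φ : b ⟶ a), p.IsStronglyCartesian f φ := by
  obtain ⟨b, φ, hφ⟩ := Functor.IsPreFibered.exists_isCartesian' (p := p) f
  exact ⟨b, φ, inferInstance⟩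

lemma exists_sc' [p.IsFibered] {a : 𝒳} {R S : 𝒮} (ha : p.obj a = S) (f : R ⟶ S) :
    ∃ (b : 𝒳) (φ : b ⟶ a), p.IsStronglyCartesian f φ := by
  subst ha
  exact exists_sc p f

variable {p} in
lemma IsFibGrpd.exists_lift' (h : FibCat.IsFibGrpd p) {a : 𝒳} {R S : 𝒮} (ha : p.obj a = S)
    (f : R ⟶ S) : ∃ (b : 𝒳) (φ : b ⟶ a), p.IsStronglyCartesian f φ := by
  subst ha
  obtain ⟨b, φ, hφ⟩ := h.exists_lift f
  exact ⟨b, φ, IsFibGrpd.sc h f φ⟩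

end

section

variable {𝒜 : Type u₁} [Category.{v₁} 𝒜] {ℬ : Type u₂} [Category.{v₂} ℬ] {𝒞 : Type u₃}
  [Category.{v₃} 𝒞] (F : 𝒜 ⥤ ℬ) (G : ℬ ⥤ 𝒞)

lemma sc_of_comp_faithful [G.Faithful] {a a' : 𝒜} (φ : a ⟶ a')
    (h : (F ⋙ G).IsStronglyCartesian ((F ⋙ G).map φ) φ) :
    F.IsStronglyCartesian (F.map φ) φ := by
  rw [sc_map_iff] at h ⊢
  intro c g φ' hφ'
  obtain ⟨χ, ⟨h1, h2⟩, h3⟩ := h (G.map g) φ' (by
    rw [Functor.comp_map, Functor.comp_map, hφ', G.map_comp])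
  refine ⟨χ, ⟨G.map_injective h1, h2⟩, ?_⟩
  rintro χ' ⟨h1', h2'⟩
  exact h3 χ' ⟨by rw [Functor.comp_map, h1'], h2'⟩

lemma sc_of_comp_fibGrpd (hG : FibCat.IsFibGrpd G) (h : FibCat.IsFibGrpd (F ⋙ G)) {a a' : 𝒜}
    (φ : a ⟶ a') : F.IsStronglyCartesian (F.map φ) φ := by
  have h1 := (sc_map_iff (F ⋙ G) φ).1 (h.isStronglyCartesian φ)
  have h2 := (sc_map_iff G (F.map φ)).1 (hG.isStronglyCartesian (F.map φ))
  rw [sc_map_iff]
  intro c g φ' hφ'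
  obtain ⟨χ, ⟨hχ1, hχ2⟩, hχ3⟩ := h1 (G.map g) φ' (by
    rw [Functor.comp_map, Functor.comp_map, hφ', G.map_comp])
  obtain ⟨ξ, -, hξ⟩ := h2 (G.map g) (F.map φ') (by rw [hφ', G.map_comp])
  have e1 : F.map χ = ξ := hξ _ ⟨hχ1, by rw [← F.map_comp, hχ2]⟩
  have e2 : g = ξ := hξ _ ⟨rfl, hφ'.symm⟩
  refine ⟨χ, ⟨e1.trans e2.symm, hχ2⟩, ?_⟩
  rintro χ' ⟨h1', h2'⟩
  exact hχ3 χ' ⟨by rw [Functor.comp_map, h1'], h2'⟩

end

section Over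

variable {𝒮 : Type u₁} [Category.{v₁} 𝒮] {C : Type u₂} [Category.{v₂} C] {U : C}

lemma over_ext (A B : Over U) (h : A.left = B.left) (h' : A.hom = eqToHom h ≫ B.hom) : A = B := by
  obtain ⟨Al, ⟨⟨⟩⟩, Ah⟩ := A
  obtain ⟨Bl, ⟨⟨⟩⟩, Bh⟩ := B
  have h0 : Al = Bl := h
  subst h0
  have h1 : Ah = Bh := by
    have h2 : Ah = eqToHom h ≫ Bh := h'
    rw [h2]
    exact (Category.id_comp Bh)
  subst h1
  rfl

lemma over_isHomLift (p' : 𝒮 ⥤ Over U) {x y : 𝒮} {V : Over U} (f : V ⟶ p'.obj x) (φ : y ⟶ x)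
    [(p' ⋙ Over.forget U).IsHomLift f.left φ] : p'.IsHomLift f φ := by
  have h1 : (p'.obj y).left = V.left := IsHomLift.domain_eq (p' ⋙ Over.forget U) f.left φ
  have h2 := IsHomLift.fac' (p' ⋙ Over.forget U) f.left φ
  have hV : p'.obj y = V := by
    apply over_ext _ _ h1
    have e1 := Over.w (p'.map φ)
    have e2 := Over.w f
    rw [← e1, ← e2]
    rw [Functor.comp_map, Over.forget_map] at h2
    rw [h2]
    simp
  have hinst : (p' ⋙ Over.forget U).IsHomLift f.left φ := inferInstance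
  clear h2
  subst hV
  apply isHomLift_of_eq
  apply Over.OverMorphism.ext
  exact @IsHomLift.eq_of_isHomLift _ _ _ _ (p' ⋙ Over.forget U) _ _ f.left φ hinst

end Over

section EquivOver

variable {C : Type u} [Category.{v} C] {𝒳 : BasedCategory.{v₂, u₂} C}
  {𝒴 : BasedCategory.{v₃, u₃} C}

/-- The underlying natural isomorphism of an isomorphism of functors over the base. -/
def natIsoOfBased {F G : 𝒳 ⥤ᵇ 𝒴} (e : F ≅ G) : F.toFunctor ≅ G.toFunctor :=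
  (BasedNatTrans.forgetful 𝒳 𝒴).mapIso e

lemma IsEquivOver.isEquivalence {F : 𝒳 ⥤ᵇ 𝒴} (hF : FibCat.IsEquivOver F) :
    F.toFunctor.IsEquivalence := by
  obtain ⟨G, ⟨η⟩, ⟨ε⟩⟩ := hF
  exact Functor.IsEquivalence.mk' G.toFunctor (natIsoOfBased η).symm (natIsoOfBased ε)

lemma IsEquivOver.exists_iso {F : 𝒳 ⥤ᵇ 𝒴} (hF : FibCat.IsEquivOver F) (y : 𝒴.obj) :
    ∃ (x : 𝒳.obj) (e : F.obj x ≅ y), 𝒴.p.IsHomLift (𝟙 (𝒴.p.obj y)) e.hom := by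
  obtain ⟨G, ⟨η⟩, ⟨ε⟩⟩ := hF
  exact ⟨G.obj y, (natIsoOfBased ε).app y, ε.hom.isHomLift' y⟩

lemma sc_map_of_ff (F : 𝒳 ⥤ᵇ 𝒴) [F.toFunctor.Full] [F.toFunctor.Faithful]
    (hE : ∀ y : 𝒴.obj, ∃ (x : 𝒳.obj) (e : F.obj x ≅ y), 𝒴.p.IsHomLift (𝟙 (𝒴.p.obj y)) e.hom)
    {R S : C} (f : R ⟶ S) {a b : 𝒳.obj} (φ : a ⟶ b) [𝒳.p.IsStronglyCartesian f φ] :
    𝒴.p.IsStronglyCartesian f (F.map φ) := by
  refine { universal_property' := ?_ }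
  intro c g φ' hφ'
  obtain ⟨c₀, e, he⟩ := hE c
  have := he
  obtain ⟨θ, hθ⟩ := F.toFunctor.map_surjective (e.hom ≫ φ')
  have : 𝒴.p.IsHomLift (g ≫ f) (F.map θ) := by
    rw [hθ]
    infer_instance
  have : 𝒳.p.IsHomLift (g ≫ f) θ := BasedFunctor.isHomLift_map F (g ≫ f) θ
  obtain ⟨χ, ⟨hχ1, hχ2⟩, hχ3⟩ :=
    IsStronglyCartesian.universal_property 𝒳.p f φ g (g ≫ f) rfl θ
  have := hχ1
  refine ⟨e.inv ≫ F.map χ, ⟨inferInstance, ?_⟩, ?_⟩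
  · rw [Category.assoc, ← F.toFunctor.map_comp, hχ2, hθ, Iso.inv_hom_id_assoc]
  · rintro χ'' ⟨h1, h2⟩
    have := h1
    obtain ⟨χ₁, hχ₁⟩ := F.toFunctor.map_surjective (e.hom ≫ χ'')
    have : 𝒴.p.IsHomLift g (F.map χ₁) := by
      rw [hχ₁]
      infer_instance
    have : 𝒳.p.IsHomLift g χ₁ := BasedFunctor.isHomLift_map F g χ₁
    have e1 : χ₁ = χ := hχ3 χ₁ ⟨inferInstance, by
      apply F.toFunctor.map_injective
      rw [F.toFunctor.map_comp, hχ₁, hθ, Category.assoc, h2]⟩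
    rw [← e1, hχ₁, Iso.inv_hom_id_assoc]

lemma isFibered_of_ff (F : 𝒳 ⥤ᵇ 𝒴) [F.toFunctor.Full] [F.toFunctor.Faithful]
    (hE : ∀ y : 𝒴.obj, ∃ (x : 𝒳.obj) (e : F.obj x ≅ y), 𝒴.p.IsHomLift (𝟙 (𝒴.p.obj y)) e.hom)
    [𝒳.p.IsFibered] : 𝒴.p.IsFibered := by
  apply Functor.IsFibered.of_exists_isStronglyCartesian
  intro y R f
  obtain ⟨x, e, he⟩ := hE y
  have := he
  have hx : 𝒳.p.obj x = 𝒴.p.obj y :=
    (F.w_obj x).symm.trans (IsHomLift.domain_eq 𝒴.p (𝟙 (𝒴.p.obj y)) e.hom)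
  obtain ⟨x', φ, hφ⟩ := exists_sc' 𝒳.p hx f
  have : 𝒴.p.IsStronglyCartesian f (F.map φ) := sc_map_of_ff F hE f φ
  have h : 𝒴.p.IsStronglyCartesian (f ≫ 𝟙 (𝒴.p.obj y)) (F.map φ ≫ e.hom) := inferInstance
  rw [Category.comp_id] at h
  exact ⟨F.obj x', F.map φ ≫ e.hom, h⟩

end EquivOver

end Groth.Agent.Lib.Helper10.Fib
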