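import Mathlib
import Groth.Prelude.Def_FibCat2
import Groth.Prelude.Def_W4stkcategoriessitesFib
import Groth.Agent.Lib.Helper10.Fib2

/-!
# Fibre products over the base, slices and inertia: strongly cartesian morphisms

* `fp_sc`, `fp_exists_sc`: strongly cartesian morphisms of `FibCat.fp F G`.
* `isFibGrpd_overForget`: slices are fibred in groupoids.
* `inertia_map_aut`, `inertia_sc`, `inertia_exists_sc`: the relative inertia.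
* `basedFunctor_ext`.
-/

set_option autoImplicit false

universe v₅ u₅ v₄ u₄ v₃ u₃ v₂ u₂ v u

open CategoryTheory Functor CategoryTheory.Limits

namespace Groth.Agent.Lib.Helper10.Fib

section

variable {C : Type u} [Category.{v} C] {𝒳 : BasedCategory.{v₂, u₂} C}
  {𝒴 : BasedCategory.{v₃, u₃} C}

lemma basedFunctor_ext (F G : 𝒳 ⥤ᵇ 𝒴) (h : F.toFunctor = G.toFunctor) : F = G := by
  obtain ⟨F', wF⟩ := F
  obtain ⟨G', wG⟩ := G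
  have h' : F' = G' := h
  subst h'
  rfl

end

section fp

variable {C : Type u} [Category.{v} C] {𝒳 : BasedCategory.{v₂, u₂} C}
  {𝒴 : BasedCategory.{v₃, u₃} C} {𝒮 : BasedCategory.{v₄, u₄} C} (F : 𝒳 ⥤ᵇ 𝒮) (G : 𝒴 ⥤ᵇ 𝒮)

lemma fp_sc {x y : (FibCat.fp F G).obj} (φ : y ⟶ x)
    (h₁ : 𝒳.p.IsStronglyCartesian (𝒳.p.map φ.hom.fst) φ.hom.fst)
    (h₂ : 𝒴.p.IsStronglyCartesian (𝒳.p.map φ.hom.fst) φ.hom.snd)
    (h₃ : 𝒮.p.IsStronglyCartesian (𝒳.p.map φ.hom.fst) (G.map φ.hom.snd)) :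
    (FibCat.fp F G).p.IsStronglyCartesian ((FibCat.fp F G).p.map φ) φ := by
  rw [sc_map_iff]
  intro c g φ' hφ'
  change 𝒳.p.obj c.obj.fst ⟶ 𝒳.p.obj y.obj.fst at g
  have hφ'1 : 𝒳.p.map φ'.hom.fst = g ≫ 𝒳.p.map φ.hom.fst := hφ'
  obtain ⟨χ₁, ⟨h11, h12⟩, h13⟩ :=
    (sc_map_iff 𝒳.p φ.hom.fst).1 h₁ (c := c.obj.fst) g φ'.hom.fst hφ'1
  have l0 : 𝒴.p.IsHomLift (𝒳.p.map φ'.hom.fst) φ'.hom.snd := FibCat.fp_isHomLift_snd F G φ'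
  rw [hφ'1] at l0
  obtain ⟨χ₂, ⟨h21, h22⟩, h23⟩ := IsStronglyCartesian.universal_property 𝒴.p
    (𝒳.p.map φ.hom.fst) φ.hom.snd g (g ≫ 𝒳.p.map φ.hom.fst) rfl φ'.hom.snd
  have := h21
  have hx : 𝒮.p.IsHomLift (𝟙 (𝒳.p.obj x.obj.fst)) x.obj.iso.hom := x.property
  have hy : 𝒮.p.IsHomLift (𝟙 (𝒳.p.obj y.obj.fst)) y.obj.iso.hom := y.property
  have hc : 𝒮.p.IsHomLift (𝟙 (𝒳.p.obj c.obj.fst)) c.obj.iso.hom := c.property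
  have hχ₁ : 𝒳.p.IsHomLift g χ₁ := isHomLift_of_eq 𝒳.p g χ₁ h11.symm
  have w : F.map χ₁ ≫ y.obj.iso.hom = c.obj.iso.hom ≫ G.map χ₂ := by
    have l1 : 𝒮.p.IsHomLift g (F.map χ₁ ≫ y.obj.iso.hom) := inferInstance
    have l2 : 𝒮.p.IsHomLift g (c.obj.iso.hom ≫ G.map χ₂) := inferInstance
    apply IsStronglyCartesian.ext 𝒮.p (𝒳.p.map φ.hom.fst) (G.map φ.hom.snd) g
    rw [Category.assoc, Category.assoc, ← G.toFunctor.map_comp, h22, ← φ.hom.w,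
      ← Category.assoc, ← F.toFunctor.map_comp, h12, φ'.hom.w]
  refine ⟨ObjectProperty.homMk ⟨χ₁, χ₂, w⟩, ⟨h11, ?_⟩, ?_⟩
  · apply ObjectProperty.hom_ext
    apply CategoricalPullback.hom_ext
    · exact h12
    · exact h22
  · rintro χ' ⟨h1', h2'⟩
    have h2'' : χ'.hom ≫ φ.hom = φ'.hom := congrArg InducedCategory.Hom.hom h2'
    apply ObjectProperty.hom_ext
    apply CategoricalPullback.hom_ext
    · exact h13 χ'.hom.fst ⟨h1', congrArg CategoricalPullback.Hom.fst h2''⟩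
    · have l3 : 𝒴.p.IsHomLift (𝒳.p.map χ'.hom.fst) χ'.hom.snd := FibCat.fp_isHomLift_snd F G χ'
      have h1'' : 𝒳.p.map χ'.hom.fst = g := h1'
      rw [h1''] at l3
      exact h23 χ'.hom.snd ⟨l3, congrArg CategoricalPullback.Hom.snd h2''⟩

lemma fp_exists_sc (x : (FibCat.fp F G).obj) {y₁ : 𝒳.obj} {y₂ : 𝒴.obj} (φ₁ : y₁ ⟶ x.obj.fst)
    (φ₂ : y₂ ⟶ x.obj.snd)
    (h₁ : 𝒳.p.IsStronglyCartesian (𝒳.p.map φ₁) φ₁)
    (h₂ : 𝒴.p.IsStronglyCartesian (𝒳.p.map φ₁) φ₂)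
    (h₃ : 𝒮.p.IsStronglyCartesian (𝒳.p.map φ₁) (F.map φ₁))
    (h₄ : 𝒮.p.IsStronglyCartesian (𝒳.p.map φ₁) (G.map φ₂)) :
    ∃ (y : (FibCat.fp F G).obj) (φ : y ⟶ x),
      (FibCat.fp F G).p.IsStronglyCartesian (𝒳.p.map φ₁) φ := by
  have hx : 𝒮.p.IsHomLift (𝟙 (𝒳.p.obj x.obj.fst)) x.obj.iso.hom := x.property
  have h5 : 𝒮.p.IsStronglyCartesian (𝒳.p.map φ₁ ≫ 𝟙 (𝒳.p.obj x.obj.fst))
      (F.map φ₁ ≫ x.obj.iso.hom) := inferInstance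
  obtain ⟨j, ⟨hj1, hj2⟩, -⟩ := IsStronglyCartesian.universal_property 𝒮.p (𝒳.p.map φ₁)
    (G.map φ₂) (𝟙 (𝒳.p.obj y₁)) (𝒳.p.map φ₁) (Category.id_comp _).symm
    (F.map φ₁ ≫ x.obj.iso.hom)
  have h6 : 𝒮.p.IsStronglyCartesian (𝟙 (𝒳.p.obj y₁) ≫ 𝒳.p.map φ₁) (j ≫ G.map φ₂) := by
    rw [hj2, Category.id_comp]
    have h7 := h5
    rwa [Category.comp_id] at h7
  have := hj1
  have hjsc : 𝒮.p.IsStronglyCartesian (𝟙 (𝒳.p.obj y₁)) j :=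
    IsStronglyCartesian.of_comp 𝒮.p (f := 𝟙 _) (g := 𝒳.p.map φ₁) (φ := j) (ψ := G.map φ₂)
  have hjiso : IsIso j := IsStronglyCartesian.isIso_of_base_isIso 𝒮.p (𝟙 (𝒳.p.obj y₁)) j
  let y : (FibCat.fp F G).obj := ⟨⟨y₁, y₂, asIso j⟩, hj1⟩
  let φ : y ⟶ x := ObjectProperty.homMk ⟨φ₁, φ₂, hj2.symm⟩
  exact ⟨y, φ, fp_sc F G φ h₁ h₂ h₄⟩

end fp

section overS

variable {C : Type u} [Category.{v} C]

lemma isFibGrpd_overForget (U : C) : FibCat.IsFibGrpd (Over.forget U) := by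
  constructor
  · intro x V f
    change V ⟶ x.left at f
    refine ⟨Over.mk (f ≫ x.hom), Over.homMk f rfl, ?_⟩
    apply isHomLift_of_eq
    rfl
  · intro y x φ
    rw [sc_map_iff]
    intro c g φ' hφ'
    change c.left ⟶ y.left at g
    have hφ'1 : φ'.left = g ≫ φ.left := hφ'
    refine ⟨Over.homMk g (by
      rw [← Over.w φ, ← Category.assoc, ← hφ'1, Over.w φ']), ⟨rfl, ?_⟩, ?_⟩
    · apply Over.OverMorphism.ext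
      exact hφ'1.symm
    · rintro χ' ⟨h1', h2'⟩
      apply Over.OverMorphism.ext
      exact h1'

end overS

section inertia

variable {C : Type u} [Category.{v} C] {𝒳 : BasedCategory.{v₂, u₂} C}
  {𝒴 : BasedCategory.{v₃, u₃} C} (F : 𝒳 ⥤ᵇ 𝒴)

lemma inertia_map_aut (z : FibCat.InertiaObj F) : 𝒳.p.map z.aut.hom = 𝟙 (𝒳.p.obj z.pt) := by
  have h1 : 𝒴.p.IsHomLift (𝟙 (𝒳.p.obj z.pt)) (F.map z.aut.hom) := by
    rw [z.map_aut]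
    infer_instance
  have h2 : 𝒳.p.IsHomLift (𝟙 (𝒳.p.obj z.pt)) z.aut.hom := BasedFunctor.isHomLift_map F _ _
  exact (IsHomLift.eq_of_isHomLift 𝒳.p (𝟙 (𝒳.p.obj z.pt)) z.aut.hom).symm

lemma inertia_map_aut_inv (z : FibCat.InertiaObj F) :
    𝒳.p.map z.aut.inv = 𝟙 (𝒳.p.obj z.pt) := by
  have h := inertia_map_aut F z
  have h' : 𝒳.p.map z.aut.hom ≫ 𝒳.p.map z.aut.inv = 𝟙 _ := by
    rw [← 𝒳.p.map_comp, Iso.hom_inv_id, 𝒳.p.map_id]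
  rw [h, Category.id_comp] at h'
  exact h'

lemma inertia_sc {x y : FibCat.InertiaObj F} (φ : y ⟶ x)
    (h : 𝒳.p.IsStronglyCartesian (𝒳.p.map φ.hom) φ.hom) :
    (FibCat.inertia F).p.IsStronglyCartesian ((FibCat.inertia F).p.map φ) φ := by
  rw [sc_map_iff]
  intro c g φ' hφ'
  change 𝒳.p.obj c.pt ⟶ 𝒳.p.obj y.pt at g
  have hφ'1 : 𝒳.p.map φ'.hom = g ≫ 𝒳.p.map φ.hom := hφ'
  have H := (sc_map_iff 𝒳.p φ.hom).1 h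
  obtain ⟨χ, ⟨h1, h2⟩, h3⟩ := H g φ'.hom hφ'1
  have comm : c.aut.hom ≫ χ = χ ≫ y.aut.hom := by
    obtain ⟨ξ, -, hξ⟩ := H g (c.aut.hom ≫ φ'.hom) (by
      rw [𝒳.p.map_comp, inertia_map_aut F, Category.id_comp, hφ'1])
    have e1 : c.aut.hom ≫ χ = ξ := hξ _ ⟨by
      rw [𝒳.p.map_comp, inertia_map_aut F, Category.id_comp, h1], by rw [Category.assoc, h2]⟩
    have e2 : χ ≫ y.aut.hom = ξ := hξ _ ⟨by
      rw [𝒳.p.map_comp, inertia_map_aut F, Category.comp_id, h1], by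
      rw [Category.assoc, φ.comm, ← Category.assoc, h2, φ'.comm]⟩
    rw [e1, e2]
  refine ⟨⟨χ, comm⟩, ⟨h1, ?_⟩, ?_⟩
  · exact FibCat.InertiaObj.Hom.ext h2
  · rintro χ' ⟨h1', h2'⟩
    apply FibCat.InertiaObj.Hom.ext
    exact h3 χ'.hom ⟨h1', congrArg FibCat.InertiaObj.Hom.hom h2'⟩

lemma inertia_exists_sc (x : FibCat.InertiaObj F) {y₀ : 𝒳.obj} (φ₀ : y₀ ⟶ x.pt)
    (hsc : 𝒳.p.IsStronglyCartesian (𝒳.p.map φ₀) φ₀)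
    (hβ : ∀ β : y₀ ⟶ y₀, 𝒳.p.map β = 𝟙 _ → β ≫ φ₀ = φ₀ ≫ x.aut.hom → F.map β = 𝟙 (F.obj y₀)) :
    ∃ (y : FibCat.InertiaObj F) (φ : y ⟶ x),
      (FibCat.inertia F).p.IsStronglyCartesian (𝒳.p.map φ₀) φ := by
  have H := (sc_map_iff 𝒳.p φ₀).1 hsc
  obtain ⟨β, ⟨hβ1, hβ2⟩, -⟩ := H (𝟙 _) (φ₀ ≫ x.aut.hom) (by
    rw [𝒳.p.map_comp, inertia_map_aut F, Category.comp_id, Category.id_comp])
  obtain ⟨β', ⟨hβ'1, hβ'2⟩, -⟩ := H (𝟙 _) (φ₀ ≫ x.aut.inv) (by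
    rw [𝒳.p.map_comp, inertia_map_aut_inv F, Category.comp_id, Category.id_comp])
  obtain ⟨ξ, -, hξ⟩ := H (𝟙 _) φ₀ (Category.id_comp _).symm
  have e0 : 𝟙 y₀ = ξ := hξ _ ⟨𝒳.p.map_id _, Category.id_comp _⟩
  have e1 : β ≫ β' = 𝟙 y₀ := (hξ _ ⟨by
    rw [𝒳.p.map_comp, hβ1, hβ'1, Category.id_comp], by
    rw [Category.assoc, hβ'2, ← Category.assoc, hβ2, Category.assoc, Iso.hom_inv_id,
      Category.comp_id]⟩).trans e0.symm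
  have e2 : β' ≫ β = 𝟙 y₀ := (hξ _ ⟨by
    rw [𝒳.p.map_comp, hβ1, hβ'1, Category.id_comp], by
    rw [Category.assoc, hβ2, ← Category.assoc, hβ'2, Category.assoc, Iso.inv_hom_id,
      Category.comp_id]⟩).trans e0.symm
  let y : FibCat.InertiaObj F := ⟨y₀, ⟨β, β', e1, e2⟩, hβ β hβ1 hβ2⟩
  let φ : y ⟶ x := ⟨φ₀, hβ2⟩
  exact ⟨y, φ, inertia_sc F φ hsc⟩

end inertia

end Groth.Agent.Lib.Helper10.Fib
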