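import Mathlib
import Groth.Prelude.Def_FibCat2
import Groth.Prelude.Def_W4stkcategoriessitesFib
import Groth.Agent.Lib.Helper10.Fib3

/-!
# A criterion for equivalences over the base

* `isEquivOver_of_ff`: a fully faithful functor over the base which is essentially surjective
  through isomorphisms lying over identities is an equivalence over the base.
* `exists_iso_over_of_essSurj`: for a fibred source, essential surjectivity suffices.
-/

set_option autoImplicit false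

universe v₅ u₅ v₄ u₄ v₃ u₃ v₂ u₂ v u

open CategoryTheory Functor CategoryTheory.Limits

namespace Groth.Agent.Lib.Helper10.Fib

section

variable {C : Type u} [Category.{v} C] {𝒳 : BasedCategory.{v₂, u₂} C}
  {𝒴 : BasedCategory.{v₃, u₃} C}

/-- The inverse functor built from chosen preimages. -/
noncomputable def invFunctor (F : 𝒳 ⥤ᵇ 𝒴) [F.toFunctor.Full] [F.toFunctor.Faithful]
    (X : 𝒴.obj → 𝒳.obj) (E : ∀ y, F.obj (X y) ≅ y) : 𝒴.obj ⥤ 𝒳.obj where
  obj := X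
  map {y y'} h := F.toFunctor.preimage ((E y).hom ≫ h ≫ (E y').inv)
  map_id y := by
    apply F.toFunctor.map_injective
    simp
  map_comp h h' := by
    apply F.toFunctor.map_injective
    simp

lemma map_invFunctor_map (F : 𝒳 ⥤ᵇ 𝒴) [F.toFunctor.Full] [F.toFunctor.Faithful]
    (X : 𝒴.obj → 𝒳.obj) (E : ∀ y, F.obj (X y) ≅ y) {y y' : 𝒴.obj} (h : y ⟶ y') :
    F.map ((invFunctor F X E).map h) = (E y).hom ≫ h ≫ (E y').inv :=
  F.toFunctor.map_preimage _

theorem isEquivOver_of_ff (F : 𝒳 ⥤ᵇ 𝒴) [F.toFunctor.Full] [F.toFunctor.Faithful]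
    (hE : ∀ y : 𝒴.obj, ∃ (x : 𝒳.obj) (e : F.obj x ≅ y), 𝒴.p.IsHomLift (𝟙 (𝒴.p.obj y)) e.hom) :
    FibCat.IsEquivOver F := by
  choose X E hE' using hE
  have hE'' : ∀ y, 𝒴.p.IsHomLift (𝟙 (𝒴.p.obj y)) (E y).inv := fun y => by
    have := hE' y
    infer_instance
  have hobj : ∀ y, 𝒳.p.obj (X y) = 𝒴.p.obj y := fun y => by
    have := hE' y
    exact (F.w_obj (X y)).symm.trans (IsHomLift.domain_eq 𝒴.p (𝟙 (𝒴.p.obj y)) (E y).hom)
  have hlift : ∀ {y y' : 𝒴.obj} (h : y ⟶ y'),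
      𝒳.p.IsHomLift (𝒴.p.map h) ((invFunctor F X E).map h) := by
    intro y y' h
    have := hE' y
    have := hE'' y'
    have l0 : 𝒴.p.IsHomLift (𝒴.p.map h) ((E y).hom ≫ h ≫ (E y').inv) := inferInstance
    have l : 𝒴.p.IsHomLift (𝒴.p.map h) (F.map ((invFunctor F X E).map h)) := by
      rw [map_invFunctor_map]
      exact l0
    exact BasedFunctor.isHomLift_map F _ _
  let G : 𝒴 ⥤ᵇ 𝒳 :=
    { toFunctor := invFunctor F X E
      w := CategoryTheory.Functor.ext hobj (fun y y' h => by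
        have := hlift h
        exact IsHomLift.fac' 𝒳.p (𝒴.p.map h) ((invFunctor F X E).map h)) }
  let ε : BasedFunctor.comp G F ≅ BasedFunctor.id 𝒴 := BasedNatIso.mkNatIso
    (NatIso.ofComponents (fun y => E y) (fun {y y'} h => by
      change F.map ((invFunctor F X E).map h) ≫ (E y').hom = (E y).hom ≫ h
      have e := map_invFunctor_map F X E h
      have c : ((E y).hom ≫ h ≫ (E y').inv) ≫ (E y').hom = (E y).hom ≫ h := by simp
      exact (congrArg (fun t => t ≫ (E y').hom) e).trans c))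
    (fun y => hE' y)
  let η : BasedFunctor.comp F G ≅ BasedFunctor.id 𝒳 := BasedNatIso.mkNatIso
    (NatIso.ofComponents (fun x => F.toFunctor.preimageIso (E (F.obj x))) (fun {x x'} φ => by
      apply F.toFunctor.map_injective
      change F.map ((invFunctor F X E).map (F.map φ) ≫ F.toFunctor.preimage (E (F.obj x')).hom) =
        F.map (F.toFunctor.preimage (E (F.obj x)).hom ≫ φ)
      have e1 := map_invFunctor_map F X E (F.map φ)
      have e2 : F.map (F.toFunctor.preimage (E (F.obj x')).hom) = (E (F.obj x')).hom :=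
        F.toFunctor.map_preimage _
      have e3 : F.map (F.toFunctor.preimage (E (F.obj x)).hom) = (E (F.obj x)).hom :=
        F.toFunctor.map_preimage _
      have c : ((E (F.obj x)).hom ≫ F.map φ ≫ (E (F.obj x')).inv) ≫ (E (F.obj x')).hom =
          (E (F.obj x)).hom ≫ F.map φ := by simp
      exact (F.toFunctor.map_comp _ _).trans ((congrArg₂ (fun s t => s ≫ t) e1 e2).trans
        (c.trans ((congrArg (fun t => t ≫ F.map φ) e3).symm.trans
          (F.toFunctor.map_comp _ _).symm)))))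
    (fun x => by
      change 𝒳.p.IsHomLift (𝟙 (𝒳.p.obj x)) (F.toFunctor.preimage (E (F.obj x)).hom)
      have h0 := hE' (F.obj x)
      have h1 : 𝒴.p.IsHomLift (𝟙 (𝒳.p.obj x)) (E (F.obj x)).hom :=
        isHomLift_id_of_eq 𝒴.p (F.w_obj x) _
      have h2 : 𝒴.p.IsHomLift (𝟙 (𝒳.p.obj x))
          (F.map (F.toFunctor.preimage (E (F.obj x)).hom)) := by
        rw [F.toFunctor.map_preimage]
        exact h1
      exact BasedFunctor.isHomLift_map F _ _)
  exact ⟨G, ⟨η⟩, ⟨ε⟩⟩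

theorem exists_iso_over_of_essSurj (F : 𝒳 ⥤ᵇ 𝒴) [F.toFunctor.EssSurj] [𝒳.p.IsFibered]
    (y : 𝒴.obj) :
    ∃ (x : 𝒳.obj) (e : F.obj x ≅ y), 𝒴.p.IsHomLift (𝟙 (𝒴.p.obj y)) e.hom := by
  let x₀ := F.toFunctor.objPreimage y
  let e₀ : F.obj x₀ ≅ y := F.toFunctor.objObjPreimageIso y
  obtain ⟨g, hg⟩ : ∃ g : 𝒳.p.obj x₀ ⟶ 𝒴.p.obj y, 𝒴.p.IsHomLift g e₀.hom :=
    ⟨_, IsHomLift.of_fac 𝒴.p _ e₀.hom (F.w_obj x₀) rfl rfl⟩
  have := hg
  have hgiso : IsIso g := IsHomLift.isIso_of_lift_isIso 𝒴.p g e₀.hom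
  obtain ⟨x, ψ, hψ⟩ := exists_sc 𝒳.p (inv g)
  have := hψ
  have hψiso : IsIso ψ := IsStronglyCartesian.isIso_of_base_isIso 𝒳.p (inv g) ψ
  have hl : 𝒴.p.IsHomLift (𝟙 (𝒴.p.obj y)) (F.map ψ ≫ e₀.hom) := by
    have h0 : 𝒴.p.IsHomLift (inv g ≫ g) (F.map ψ ≫ e₀.hom) := inferInstance
    rwa [IsIso.inv_hom_id] at h0
  exact ⟨x, F.toFunctor.mapIso (asIso ψ) ≪≫ e₀, hl⟩

theorem isEquivOver_of_isEquivalence (F : 𝒳 ⥤ᵇ 𝒴) [F.toFunctor.IsEquivalence] [𝒳.p.IsFibered] :
    FibCat.IsEquivOver F :=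
  isEquivOver_of_ff F (exists_iso_over_of_essSurj F)

end

end Groth.Agent.Lib.Helper10.Fib
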