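import Mathlib
import Groth.Prelude.Def_FibCat2
import Groth.Prelude.Def_W4stkcategoriessitesFib
import Groth.Agent.Lib.Helper10.Fib4

/-!
# Fibrewise criteria for functors over the base

* `eq_fiberFunctor`: a functor between fibres commuting with the fibre inclusions is
  `FibCat.fiberFunctor`.
* `fiberFunctor_full`, `fiberFunctor_faithful`, `fiberFunctor_essSurj`.
* `ff_of_fiberwise`: for a fibred source and a functor preserving strongly cartesian morphisms,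
  fibrewise fully faithful implies fully faithful.
* `exists_iso_over_of_fiberwise_essSurj`.
-/

set_option autoImplicit false

universe v₃ u₃ v₂ u₂ v u

open CategoryTheory Functor CategoryTheory.Limits

namespace Groth.Agent.Lib.Helper10.Fib

section

variable {C : Type u} [Category.{v} C] {𝒳 : BasedCategory.{v₂, u₂} C}
  {𝒴 : BasedCategory.{v₃, u₃} C} (G : 𝒳 ⥤ᵇ 𝒴)

lemma eq_fiberFunctor (U : C) (GU : 𝒳.p.Fiber U ⥤ 𝒴.p.Fiber U)
    (h : GU ⋙ Functor.Fiber.fiberInclusion = Functor.Fiber.fiberInclusion ⋙ G.toFunctor) :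
    GU = FibCat.fiberFunctor G U := by
  refine CategoryTheory.Functor.ext
    (fun x => Functor.Fiber.fiberInclusion_obj_inj (Functor.congr_obj h x)) (fun x y φ => ?_)
  apply Functor.Fiber.hom_ext
  have h1 := Functor.congr_hom h φ
  simp only [Functor.comp_map] at h1
  rw [Functor.map_comp, Functor.map_comp, eqToHom_map, eqToHom_map]
  exact h1

lemma fiberFunctor_faithful [G.toFunctor.Faithful] (U : C) :
    (FibCat.fiberFunctor G U).Faithful := by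
  constructor
  intro x y φ ψ h
  apply Functor.Fiber.hom_ext
  apply G.toFunctor.map_injective
  exact congrArg (fun t => Functor.Fiber.fiberInclusion.map t) h

lemma fiberFunctor_full [G.toFunctor.Full] (U : C) : (FibCat.fiberFunctor G U).Full := by
  constructor
  intro x y h
  obtain ⟨φ, hφ⟩ := G.toFunctor.map_surjective
    (show G.toFunctor.obj x.1 ⟶ G.toFunctor.obj y.1 from h.1)
  have : 𝒴.p.IsHomLift (𝟙 U) (G.map φ) := by
    rw [hφ]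
    exact h.2
  have hl : 𝒳.p.IsHomLift (𝟙 U) φ := BasedFunctor.isHomLift_map G (𝟙 U) φ
  exact ⟨⟨φ, hl⟩, Functor.Fiber.hom_ext hφ⟩

lemma fiberFunctor_essSurj
    (hE : ∀ y : 𝒴.obj, ∃ (x : 𝒳.obj) (e : G.obj x ≅ y), 𝒴.p.IsHomLift (𝟙 (𝒴.p.obj y)) e.hom)
    (U : C) : (FibCat.fiberFunctor G U).EssSurj := by
  constructor
  intro y
  obtain ⟨x, e, he⟩ := hE y.1
  have := he
  have hx : 𝒳.p.obj x = U :=
    ((G.w_obj x).symm.trans (IsHomLift.domain_eq 𝒴.p (𝟙 (𝒴.p.obj y.1)) e.hom)).trans y.2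
  have he' : 𝒴.p.IsHomLift (𝟙 U) e.hom := isHomLift_id_of_eq 𝒴.p y.2 e.hom
  have he'' : 𝒴.p.IsHomLift (𝟙 U) e.inv := inferInstance
  let x' : 𝒳.p.Fiber U := ⟨x, hx⟩
  exact ⟨x', ⟨⟨⟨e.hom, he'⟩, ⟨e.inv, he''⟩, Functor.Fiber.hom_ext e.hom_inv_id,
    Functor.Fiber.hom_ext e.inv_hom_id⟩⟩⟩

lemma exists_iso_over_of_fiberwise_essSurj (hE : ∀ U : C, (FibCat.fiberFunctor G U).EssSurj)
    (y : 𝒴.obj) :
    ∃ (x : 𝒳.obj) (e : G.obj x ≅ y), 𝒴.p.IsHomLift (𝟙 (𝒴.p.obj y)) e.hom := by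
  let y' : 𝒴.p.Fiber (𝒴.p.obj y) := ⟨y, rfl⟩
  have := hE (𝒴.p.obj y)
  let e := (FibCat.fiberFunctor G (𝒴.p.obj y)).objObjPreimageIso y'
  exact ⟨((FibCat.fiberFunctor G (𝒴.p.obj y)).objPreimage y').1,
    Functor.Fiber.fiberInclusion.mapIso e, e.hom.2⟩

theorem ff_of_fiberwise [𝒳.p.IsFibered]
    (hG : ∀ ⦃a b : 𝒳.obj⦄ (φ : a ⟶ b), 𝒳.p.IsStronglyCartesian (𝒳.p.map φ) φ →
      𝒴.p.IsStronglyCartesian (𝒳.p.map φ) (G.toFunctor.map φ))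
    (hfull : ∀ U, (FibCat.fiberFunctor G U).Full)
    (hfaith : ∀ U, (FibCat.fiberFunctor G U).Faithful) :
    G.toFunctor.Full ∧ G.toFunctor.Faithful := by
  have hGsc : ∀ {a b : 𝒳.obj} (f : 𝒳.p.obj a ⟶ 𝒳.p.obj b) {a' : 𝒳.obj} (θ : a' ⟶ b),
      𝒳.p.IsStronglyCartesian f θ → 𝒴.p.IsStronglyCartesian f (G.map θ) := by
    intro a b f a' θ hθ
    have := hθ
    have h1 : 𝒳.p.IsStronglyCartesian (𝒳.p.map θ) θ := sc_map 𝒳.p f θ
    have h2 := hG θ h1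
    have h3 : 𝒴.p.IsStronglyCartesian (𝒴.p.map (G.map θ)) (G.map θ) :=
      sc_map 𝒴.p (𝒳.p.map θ) (G.map θ)
    exact sc_of_map 𝒴.p f (G.map θ) h3
  constructor
  · constructor
    intro a b h
    obtain ⟨f, hf⟩ : ∃ f : 𝒳.p.obj a ⟶ 𝒳.p.obj b, 𝒴.p.IsHomLift f h :=
      ⟨_, IsHomLift.of_fac 𝒴.p _ h (G.w_obj a) (G.w_obj b) rfl⟩
    have := hf
    obtain ⟨a', θ, hθ⟩ := exists_sc 𝒳.p f
    have := hθ
    have hsc : 𝒴.p.IsStronglyCartesian f (G.map θ) := hGsc f θ hθ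
    obtain ⟨χ, ⟨hχ1, hχ2⟩, -⟩ := IsStronglyCartesian.universal_property 𝒴.p f
      (G.map θ) (𝟙 (𝒳.p.obj a)) f (Category.id_comp _).symm h
    let x : 𝒳.p.Fiber (𝒳.p.obj a) := ⟨a, rfl⟩
    let y : 𝒳.p.Fiber (𝒳.p.obj a) := ⟨a', IsHomLift.domain_eq 𝒳.p f θ⟩
    let χ' : (FibCat.fiberFunctor G (𝒳.p.obj a)).obj x ⟶
        (FibCat.fiberFunctor G (𝒳.p.obj a)).obj y := ⟨χ, hχ1⟩
    have := hfull (𝒳.p.obj a)
    obtain ⟨χ₀, hχ₀⟩ := (FibCat.fiberFunctor G (𝒳.p.obj a)).map_surjective χ'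
    have e : G.map χ₀.1 = χ := congrArg (fun t => Functor.Fiber.fiberInclusion.map t) hχ₀
    refine ⟨χ₀.1 ≫ θ, ?_⟩
    rw [G.toFunctor.map_comp, e, hχ2]
  · constructor
    intro a b φ ψ h
    have hφ : 𝒳.p.IsHomLift (𝒳.p.map ψ) φ := by
      have : 𝒴.p.IsHomLift (𝒳.p.map ψ) (G.map φ) := by
        rw [h]
        infer_instance
      exact BasedFunctor.isHomLift_map G (𝒳.p.map ψ) φ
    obtain ⟨a', θ, hθ⟩ := exists_sc 𝒳.p (𝒳.p.map ψ)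
    have := hθ
    have hsc : 𝒴.p.IsStronglyCartesian (𝒳.p.map ψ) (G.map θ) := hGsc (𝒳.p.map ψ) θ hθ
    obtain ⟨χ, ⟨hχ1, hχ2⟩, -⟩ := IsStronglyCartesian.universal_property 𝒳.p
      (𝒳.p.map ψ) θ (𝟙 (𝒳.p.obj a)) (𝒳.p.map ψ) (Category.id_comp _).symm φ
    obtain ⟨χ', ⟨hχ'1, hχ'2⟩, -⟩ := IsStronglyCartesian.universal_property 𝒳.p
      (𝒳.p.map ψ) θ (𝟙 (𝒳.p.obj a)) (𝒳.p.map ψ) (Category.id_comp _).symm ψ
    have := hχ1
    have := hχ'1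
    have e1 : G.map χ = G.map χ' := by
      apply IsStronglyCartesian.ext 𝒴.p (𝒳.p.map ψ) (G.map θ) (𝟙 (𝒳.p.obj a))
      rw [← G.toFunctor.map_comp, ← G.toFunctor.map_comp, hχ2, hχ'2, h]
    let x : 𝒳.p.Fiber (𝒳.p.obj a) := ⟨a, rfl⟩
    let y : 𝒳.p.Fiber (𝒳.p.obj a) := ⟨a', IsHomLift.domain_eq 𝒳.p (𝒳.p.map ψ) θ⟩
    let c : x ⟶ y := ⟨χ, hχ1⟩
    let c' : x ⟶ y := ⟨χ', hχ'1⟩
    have e2 : (FibCat.fiberFunctor G (𝒳.p.obj a)).map c =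
        (FibCat.fiberFunctor G (𝒳.p.obj a)).map c' := Functor.Fiber.hom_ext e1
    have e3 : c = c' := (hfaith (𝒳.p.obj a)).map_injective e2
    have e4 : χ = χ' := congrArg (fun t => Functor.Fiber.fiberInclusion.map t) e3
    rw [← hχ2, ← hχ'2, e4]

end

end Groth.Agent.Lib.Helper10.Fib
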