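import Mathlib
import Groth.Prelude.Def_FibCat2
import Groth.Prelude.Def_W4stkcategoriessitesFib
import Groth.Agent.Lib.Helper10.Fib6

/-!
# Universe-general versions of facts on 2-fibre products fibred in groupoids

* `isFibGrpd_fp`, `isFibGrpd_selfOver`, `isFibGrpd_fp_self`, `isFibGrpd_of_comp_overForget`,
  `isFibGrpd_fpFst_overCat`.
-/

set_option autoImplicit false

universe v₅ u₅ v₄ u₄ v₃ u₃ v₂ u₂ v₁ u₁ v u

open CategoryTheory Functor CategoryTheory.Limits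

namespace Groth.Agent.Lib.Helper10.Fib

section

variable {C : Type u} [Category.{v} C] {𝒳 : BasedCategory.{v₂, u₂} C}
  {𝒴 : BasedCategory.{v₃, u₃} C} {𝒮 : BasedCategory.{v₄, u₄} C}

theorem isFibGrpd_fp (F : 𝒳 ⥤ᵇ 𝒮) (G : 𝒴 ⥤ᵇ 𝒮) (h𝒳 : FibCat.IsFibGrpd 𝒳.p)
    (h𝒴 : FibCat.IsFibGrpd 𝒴.p) (h𝒮 : FibCat.IsFibGrpd 𝒮.p) :
    FibCat.IsFibGrpd (FibCat.fp F G).p := by
  constructor
  · intro x V f
    change V ⟶ 𝒳.p.obj x.obj.fst at f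
    obtain ⟨y₁, φ₁, hφ₁⟩ := h𝒳.exists_lift f
    have := hφ₁
    have e : 𝒳.p.obj y₁ = V := IsHomLift.domain_eq 𝒳.p f φ₁
    subst e
    have e2 : f = 𝒳.p.map φ₁ := IsHomLift.eq_of_isHomLift 𝒳.p f φ₁
    subst e2
    have hx : 𝒮.p.IsHomLift (𝟙 (𝒳.p.obj x.obj.fst)) x.obj.iso.hom := x.property
    have hx2 : 𝒴.p.obj x.obj.snd = 𝒳.p.obj x.obj.fst :=
      (G.w_obj x.obj.snd).symm.trans
        (IsHomLift.codomain_eq 𝒮.p (𝟙 (𝒳.p.obj x.obj.fst)) x.obj.iso.hom)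
    obtain ⟨y₂, φ₂, hφ₂⟩ := IsFibGrpd.exists_lift' h𝒴 hx2 (𝒳.p.map φ₁)
    have := hφ₂
    obtain ⟨y, φ, hφ⟩ := fp_exists_sc F G x φ₁ φ₂
      (h𝒳.isStronglyCartesian φ₁) hφ₂
      (IsFibGrpd.sc h𝒮 (𝒳.p.map φ₁) (F.map φ₁))
      (IsFibGrpd.sc h𝒮 (𝒳.p.map φ₁) (G.map φ₂))
    exact ⟨y, φ, hφ.toIsHomLift⟩
  · intro y x φ
    have l : 𝒴.p.IsHomLift (𝒳.p.map φ.hom.fst) φ.hom.snd := FibCat.fp_isHomLift_snd F G φ
    exact fp_sc F G φ (h𝒳.isStronglyCartesian _)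
      (IsFibGrpd.sc h𝒴 (𝒳.p.map φ.hom.fst) φ.hom.snd)
      (IsFibGrpd.sc h𝒮 (𝒳.p.map φ.hom.fst) (G.map φ.hom.snd))

variable (C) in
theorem isFibGrpd_selfOver : FibCat.IsFibGrpd (FibCat.selfOver C).p := by
  constructor
  · intro x V f
    exact ⟨V, f, isHomLift_of_eq (𝟭 C) f f rfl⟩
  · intro y x φ
    rw [sc_map_iff]
    intro c g φ' hφ'
    exact ⟨g, ⟨rfl, hφ'.symm⟩, fun χ' h => h.1⟩

theorem isFibGrpd_fp_self (h𝒳 : FibCat.IsFibGrpd 𝒳.p) (h𝒴 : FibCat.IsFibGrpd 𝒴.p) :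
    FibCat.IsFibGrpd (FibCat.fp (FibCat.toSelf 𝒳) (FibCat.toSelf 𝒴)).p :=
  isFibGrpd_fp _ _ h𝒳 h𝒴 (isFibGrpd_selfOver C)

end

section

variable {𝒮 : Type u₁} [Category.{v₁} 𝒮] {C : Type u₂} [Category.{v₂} C] {U : C}

theorem isFibGrpd_of_comp_overForget (p' : 𝒮 ⥤ Over U)
    (h : FibCat.IsFibGrpd (p' ⋙ Over.forget U)) : FibCat.IsFibGrpd p' := by
  constructor
  · intro x V f
    obtain ⟨y, φ, hφ⟩ := h.exists_lift (x := x) (V := V.left) f.left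
    exact ⟨y, φ, @over_isHomLift _ _ _ _ _ p' _ _ _ f φ hφ⟩
  · intro y x φ
    exact sc_of_comp_faithful p' (Over.forget U) φ (h.isStronglyCartesian φ)

end

section

variable {C : Type u} [Category.{v} C] {𝒳 : BasedCategory.{v₂, u₂} C}
  {𝒴 : BasedCategory.{v₃, u₃} C}

theorem isFibGrpd_fpFst_overCat (h𝒳 : FibCat.IsFibGrpd 𝒳.p) (h𝒴 : FibCat.IsFibGrpd 𝒴.p)
    (F : 𝒳 ⥤ᵇ 𝒴) (U : C) (G : FibCat.overCat U ⥤ᵇ 𝒴) :
    FibCat.IsFibGrpd (FibCat.fpFst G F).toFunctor := by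
  have hO : FibCat.IsFibGrpd (FibCat.overCat U).p := isFibGrpd_overForget U
  have h1 : FibCat.IsFibGrpd (FibCat.fp G F).p := isFibGrpd_fp G F hO h𝒳 h𝒴
  exact isFibGrpd_of_comp_overForget (FibCat.fpFst G F).toFunctor h1

end

end Groth.Agent.Lib.Helper10.Fib
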