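import Mathlib
import Groth.Prelude.Def_FibCat2
import Groth.Prelude.Def_W4stkcategoriessitesFib
import Groth.Agent.Lib.Helper10.Fib3
import Groth.Agent.Lib.Helper10.Fib7

/-!
# Cartesian (not necessarily strongly cartesian) morphisms

* `cart_map`, `cart_of_map`: change of the base morphism.
* `cart_of_map_ff`, `cart_map_of_ff`: cartesian morphisms and equivalences over the base.
* `fp_isHomLift_iff`, `fp_isHomLift_snd'`: lifts in a 2-fibre product over the base.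
* `fpSelfObj`, `fpSelfHom`: objects and morphisms of the strict fibre product over the base.
* `fpSelf_cart`, `fpSelf_cart_fst`, `fpSelf_cart_snd`: cartesian morphisms of the strict fibre
  product are the componentwise cartesian ones.
* `isFibered_fp`, `isPreFibered_fpSelf`.
-/

set_option autoImplicit false

universe v₅ u₅ v₄ u₄ v₃ u₃ v₂ u₂ v₁ u₁ v u

open CategoryTheory Functor CategoryTheory.Limits

namespace Groth.Agent.Lib.Helper10.Fib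

section

variable {𝒮 : Type u₁} {𝒳 : Type u₂} [Category.{v₁} 𝒮] [Category.{v₂} 𝒳] (p : 𝒳 ⥤ 𝒮)

lemma cart_map {R S : 𝒮} {a b : 𝒳} (f : R ⟶ S) (φ : a ⟶ b) [p.IsCartesian f φ] :
    p.IsCartesian (p.map φ) φ := by
  subst_hom_lift p f φ
  infer_instance

lemma cart_of_map {R S : 𝒮} {a b : 𝒳} (f : R ⟶ S) (φ : a ⟶ b) [p.IsHomLift f φ]
    (h : p.IsCartesian (p.map φ) φ) : p.IsCartesian f φ := by
  subst_hom_lift p f φ
  exact h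

lemma exists_cart' [p.IsPreFibered] {a : 𝒳} {R S : 𝒮} (ha : p.obj a = S) (f : R ⟶ S) :
    ∃ (b : 𝒳) (φ : b ⟶ a), p.IsCartesian f φ := by
  subst ha
  exact Functor.IsPreFibered.exists_isCartesian' (p := p) f

end

section EquivOver

variable {C : Type u} [Category.{v} C] {𝒳 : BasedCategory.{v₂, u₂} C}
  {𝒴 : BasedCategory.{v₃, u₃} C}

lemma cart_of_map_ff (F : 𝒳 ⥤ᵇ 𝒴) [F.toFunctor.Full] [F.toFunctor.Faithful]
    {R S : C} (f : R ⟶ S) {a b : 𝒳.obj} (φ : a ⟶ b) [𝒴.p.IsCartesian f (F.map φ)] :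
    𝒳.p.IsCartesian f φ := by
  have hφ : 𝒳.p.IsHomLift f φ := BasedFunctor.isHomLift_map F f φ
  refine { universal_property := ?_ }
  intro c φ' hφ'
  obtain ⟨χ, ⟨h1, h2⟩, h3⟩ := Functor.IsCartesian.universal_property (p := 𝒴.p) (f := f)
    (φ := F.map φ) (F.map φ')
  obtain ⟨χ₀, rfl⟩ := F.toFunctor.map_surjective χ
  have := h1
  refine ⟨χ₀, ⟨BasedFunctor.isHomLift_map F (𝟙 R) χ₀, ?_⟩, ?_⟩
  · apply F.toFunctor.map_injective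
    rw [F.toFunctor.map_comp]
    exact h2
  · rintro χ' ⟨h1', h2'⟩
    have := h1'
    apply F.toFunctor.map_injective
    exact h3 (F.map χ') ⟨inferInstance, by rw [← F.toFunctor.map_comp, h2']⟩

lemma cart_map_of_ff (F : 𝒳 ⥤ᵇ 𝒴) [F.toFunctor.Full] [F.toFunctor.Faithful]
    (hE : ∀ y : 𝒴.obj, ∃ (x : 𝒳.obj) (e : F.obj x ≅ y), 𝒴.p.IsHomLift (𝟙 (𝒴.p.obj y)) e.hom)
    {R S : C} (f : R ⟶ S) {a b : 𝒳.obj} (φ : a ⟶ b) [𝒳.p.IsCartesian f φ] :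
    𝒴.p.IsCartesian f (F.map φ) := by
  refine { universal_property := ?_ }
  intro c φ' hφ'
  obtain ⟨c₀, e, he⟩ := hE c
  have := he
  have hc : 𝒴.p.obj c = R := IsHomLift.domain_eq 𝒴.p f φ'
  have he' : 𝒴.p.IsHomLift (𝟙 R) e.hom := isHomLift_id_of_eq 𝒴.p hc e.hom
  obtain ⟨θ, hθ⟩ := F.toFunctor.map_surjective (e.hom ≫ φ')
  have : 𝒴.p.IsHomLift f (F.map θ) := by
    rw [hθ]
    infer_instance
  have : 𝒳.p.IsHomLift f θ := BasedFunctor.isHomLift_map F f θ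
  obtain ⟨χ, ⟨hχ1, hχ2⟩, hχ3⟩ := Functor.IsCartesian.universal_property (p := 𝒳.p) (f := f)
    (φ := φ) θ
  have := hχ1
  refine ⟨e.inv ≫ F.map χ, ⟨inferInstance, ?_⟩, ?_⟩
  · rw [Category.assoc, ← F.toFunctor.map_comp, hχ2, hθ, Iso.inv_hom_id_assoc]
  · rintro χ'' ⟨h1, h2⟩
    have := h1
    obtain ⟨χ₁, hχ₁⟩ := F.toFunctor.map_surjective (e.hom ≫ χ'')
    have : 𝒴.p.IsHomLift (𝟙 R) (F.map χ₁) := by
      rw [hχ₁]
      infer_instance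
    have : 𝒳.p.IsHomLift (𝟙 R) χ₁ := BasedFunctor.isHomLift_map F (𝟙 R) χ₁
    have e1 : χ₁ = χ := hχ3 χ₁ ⟨inferInstance, by
      apply F.toFunctor.map_injective
      rw [F.toFunctor.map_comp, hχ₁, hθ, Category.assoc, h2]⟩
    rw [← e1, hχ₁, Iso.inv_hom_id_assoc]

end EquivOver

section fpGeneral

variable {C : Type u} [Category.{v} C] {𝒳 : BasedCategory.{v₂, u₂} C}
  {𝒴 : BasedCategory.{v₃, u₃} C} {𝒮 : BasedCategory.{v₄, u₄} C} (F : 𝒳 ⥤ᵇ 𝒮) (G : 𝒴 ⥤ᵇ 𝒮)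

lemma fp_isHomLift_iff {x y : (FibCat.fp F G).obj} (ψ : x ⟶ y) {R S : C} (f : R ⟶ S) :
    (FibCat.fp F G).p.IsHomLift f ψ ↔ 𝒳.p.IsHomLift f ψ.hom.fst :=
  (BasedFunctor.isHomLift_iff (FibCat.fpFst F G) f ψ).symm

lemma fp_isHomLift_snd' {x y : (FibCat.fp F G).obj} (ψ : x ⟶ y) {R S : C} (f : R ⟶ S)
    [(FibCat.fp F G).p.IsHomLift f ψ] : 𝒴.p.IsHomLift f ψ.hom.snd :=
  BasedFunctor.preserves_isHomLift (FibCat.fpSnd F G) f ψ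

theorem isFibered_fp [𝒳.p.IsFibered] [𝒴.p.IsFibered] (h𝒮 : FibCat.IsFibGrpd 𝒮.p) :
    (FibCat.fp F G).p.IsFibered := by
  apply Functor.IsFibered.of_exists_isStronglyCartesian
  intro x V f
  change V ⟶ 𝒳.p.obj x.obj.fst at f
  obtain ⟨y₁, φ₁, hφ₁⟩ := exists_sc 𝒳.p f
  have := hφ₁
  have e : 𝒳.p.obj y₁ = V := IsHomLift.domain_eq 𝒳.p f φ₁
  subst e
  have e2 : f = 𝒳.p.map φ₁ := IsHomLift.eq_of_isHomLift 𝒳.p f φ₁
  subst e2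
  have hx : 𝒮.p.IsHomLift (𝟙 (𝒳.p.obj x.obj.fst)) x.obj.iso.hom := x.property
  have hx2 : 𝒴.p.obj x.obj.snd = 𝒳.p.obj x.obj.fst :=
    (G.w_obj x.obj.snd).symm.trans
      (IsHomLift.codomain_eq 𝒮.p (𝟙 (𝒳.p.obj x.obj.fst)) x.obj.iso.hom)
  obtain ⟨y₂, φ₂, hφ₂⟩ := exists_sc' 𝒴.p hx2 (𝒳.p.map φ₁)
  have := hφ₂
  obtain ⟨y, φ, hφ⟩ := fp_exists_sc F G x φ₁ φ₂ hφ₁ hφ₂
    (IsFibGrpd.sc h𝒮 (𝒳.p.map φ₁) (F.map φ₁))
    (IsFibGrpd.sc h𝒮 (𝒳.p.map φ₁) (G.map φ₂))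
  exact ⟨y, φ, hφ⟩

end fpGeneral

section fpSelf

variable {C : Type u} [Category.{v} C] {𝒳 : BasedCategory.{v₂, u₂} C}
  {𝒴 : BasedCategory.{v₃, u₃} C}

lemma selfLift_unique {R S a b : C} (f : R ⟶ S) (m m' : a ⟶ b) [(𝟭 C).IsHomLift f m]
    [(𝟭 C).IsHomLift f m'] : m = m' := by
  have h1 := IsHomLift.fac' (𝟭 C) f m
  have h2 := IsHomLift.fac' (𝟭 C) f m'
  simp only [Functor.id_map] at h1 h2
  exact h1.trans h2.symm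

/-- Objects of the strict fibre product over the base. -/
def fpSelfObj (z₁ : 𝒳.obj) (z₂ : 𝒴.obj) (h : 𝒳.p.obj z₁ = 𝒴.p.obj z₂) :
    (FibCat.fp (FibCat.toSelf 𝒳) (FibCat.toSelf 𝒴)).obj :=
  ⟨⟨z₁, z₂, eqToIso h⟩, by
    show (𝟭 C).IsHomLift (𝟙 (𝒳.p.obj z₁)) (eqToHom h)
    exact IsHomLift.eqToHom_domain_lift_id h rfl⟩

/-- Morphisms of the strict fibre product over the base: pairs of morphisms over the same
morphism of the base. -/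
def fpSelfHom {Z X : (FibCat.fp (FibCat.toSelf 𝒳) (FibCat.toSelf 𝒴)).obj} {R S : C} (f : R ⟶ S)
    (ψ₁ : Z.obj.fst ⟶ X.obj.fst) (ψ₂ : Z.obj.snd ⟶ X.obj.snd)
    (h₁ : 𝒳.p.IsHomLift f ψ₁) (h₂ : 𝒴.p.IsHomLift f ψ₂) : Z ⟶ X :=
  ObjectProperty.homMk ⟨ψ₁, ψ₂, by
    have hX : (𝟭 C).IsHomLift (𝟙 (𝒳.p.obj X.obj.fst)) X.obj.iso.hom := X.property
    have hZ : (𝟭 C).IsHomLift (𝟙 (𝒳.p.obj Z.obj.fst)) Z.obj.iso.hom := Z.property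
    have h1 : (𝟭 C).IsHomLift f ((FibCat.toSelf 𝒳).map ψ₁) :=
      BasedFunctor.preserves_isHomLift (FibCat.toSelf 𝒳) f ψ₁
    have h2 : (𝟭 C).IsHomLift f ((FibCat.toSelf 𝒴).map ψ₂) :=
      BasedFunctor.preserves_isHomLift (FibCat.toSelf 𝒴) f ψ₂
    have h3 : (𝟭 C).IsHomLift f ((FibCat.toSelf 𝒳).map ψ₁ ≫ X.obj.iso.hom) :=
      IsHomLift.comp_lift_id_right' (𝟭 C) f ((FibCat.toSelf 𝒳).map ψ₁) (𝒳.p.obj X.obj.fst)
        X.obj.iso.hom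
    have h4 : (𝟭 C).IsHomLift f (Z.obj.iso.hom ≫ (FibCat.toSelf 𝒴).map ψ₂) :=
      IsHomLift.comp_lift_id_left' (𝟭 C) (𝒳.p.obj Z.obj.fst) Z.obj.iso.hom f
        ((FibCat.toSelf 𝒴).map ψ₂)
    exact @selfLift_unique C _ R S _ _ f _ _ h3 h4⟩

lemma fpSelf_cart {x y : (FibCat.fp (FibCat.toSelf 𝒳) (FibCat.toSelf 𝒴)).obj} (φ : x ⟶ y)
    {R S : C} (f : R ⟶ S) [𝒳.p.IsCartesian f φ.hom.fst] [𝒴.p.IsCartesian f φ.hom.snd] :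
    (FibCat.fp (FibCat.toSelf 𝒳) (FibCat.toSelf 𝒴)).p.IsCartesian f φ := by
  have hφ : (FibCat.fp (FibCat.toSelf 𝒳) (FibCat.toSelf 𝒴)).p.IsHomLift f φ :=
    (fp_isHomLift_iff _ _ φ f).2 inferInstance
  refine { universal_property := ?_ }
  intro c φ' hφ'
  have l1 : 𝒳.p.IsHomLift f φ'.hom.fst := (fp_isHomLift_iff _ _ φ' f).1 hφ'
  have l2 : 𝒴.p.IsHomLift f φ'.hom.snd := fp_isHomLift_snd' _ _ φ' f
  obtain ⟨χ₁, ⟨h11, h12⟩, h13⟩ := Functor.IsCartesian.universal_property (p := 𝒳.p) (f := f)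
    (φ := φ.hom.fst) φ'.hom.fst
  obtain ⟨χ₂, ⟨h21, h22⟩, h23⟩ := Functor.IsCartesian.universal_property (p := 𝒴.p) (f := f)
    (φ := φ.hom.snd) φ'.hom.snd
  refine ⟨fpSelfHom (𝟙 R) χ₁ χ₂ h11 h21, ⟨(fp_isHomLift_iff _ _ _ _).2 h11, ?_⟩, ?_⟩
  · apply ObjectProperty.hom_ext
    apply CategoricalPullback.hom_ext
    · exact h12
    · exact h22
  · rintro χ' ⟨h1', h2'⟩
    have h2'' : χ'.hom ≫ φ.hom = φ'.hom := congrArg InducedCategory.Hom.hom h2'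
    have := h1'
    apply ObjectProperty.hom_ext
    apply CategoricalPullback.hom_ext
    · exact h13 χ'.hom.fst ⟨(fp_isHomLift_iff _ _ χ' _).1 h1',
        congrArg CategoricalPullback.Hom.fst h2''⟩
    · exact h23 χ'.hom.snd ⟨fp_isHomLift_snd' _ _ χ' _,
        congrArg CategoricalPullback.Hom.snd h2''⟩

lemma fpSelf_cart_fst {x y : (FibCat.fp (FibCat.toSelf 𝒳) (FibCat.toSelf 𝒴)).obj} (φ : x ⟶ y)
    {R S : C} (f : R ⟶ S) [(FibCat.fp (FibCat.toSelf 𝒳) (FibCat.toSelf 𝒴)).p.IsCartesian f φ] :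
    𝒳.p.IsCartesian f φ.hom.fst := by
  have l1 : 𝒳.p.IsHomLift f φ.hom.fst := (fp_isHomLift_iff _ _ φ f).1 inferInstance
  have l2 : 𝒴.p.IsHomLift f φ.hom.snd := fp_isHomLift_snd' _ _ φ f
  refine { universal_property := ?_ }
  intro z₁ ψ₁ hψ₁
  have hR : 𝒴.p.obj x.obj.snd = R := IsHomLift.domain_eq 𝒴.p f φ.hom.snd
  have hz : 𝒳.p.obj z₁ = 𝒴.p.obj x.obj.snd :=
    (IsHomLift.domain_eq 𝒳.p f ψ₁).trans hR.symm
  have hΨ : (FibCat.fp (FibCat.toSelf 𝒳) (FibCat.toSelf 𝒴)).p.IsHomLift f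
      (fpSelfHom (Z := fpSelfObj z₁ x.obj.snd hz) (X := y) f ψ₁ φ.hom.snd hψ₁ l2) :=
    (fp_isHomLift_iff _ _ _ _).2 hψ₁
  obtain ⟨X, ⟨hX1, hX2⟩, hX3⟩ := Functor.IsCartesian.universal_property
    (p := (FibCat.fp (FibCat.toSelf 𝒳) (FibCat.toSelf 𝒴)).p) (f := f) (φ := φ)
    (a' := fpSelfObj z₁ x.obj.snd hz)
    (fpSelfHom (Z := fpSelfObj z₁ x.obj.snd hz) (X := y) f ψ₁ φ.hom.snd hψ₁ l2)
  have hX2' := congrArg InducedCategory.Hom.hom hX2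
  refine ⟨X.hom.fst, ⟨(fp_isHomLift_iff _ _ X _).1 hX1,
    congrArg CategoricalPullback.Hom.fst hX2'⟩, ?_⟩
  rintro χ₁' ⟨h1', h2'⟩
  have hid : 𝒴.p.IsHomLift (𝟙 R) (𝟙 x.obj.snd) := IsHomLift.id hR
  have hX' : fpSelfHom (Z := fpSelfObj z₁ x.obj.snd hz) (X := x) (𝟙 R) χ₁' (𝟙 x.obj.snd) h1' hid
      = X := by
    apply hX3
    refine ⟨(fp_isHomLift_iff _ _ _ _).2 h1', ?_⟩
    apply ObjectProperty.hom_ext
    apply CategoricalPullback.hom_ext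
    · exact h2'
    · exact Category.id_comp _
  exact congrArg (fun t => t.hom.fst) hX'

lemma fpSelf_cart_snd {x y : (FibCat.fp (FibCat.toSelf 𝒳) (FibCat.toSelf 𝒴)).obj} (φ : x ⟶ y)
    {R S : C} (f : R ⟶ S) [(FibCat.fp (FibCat.toSelf 𝒳) (FibCat.toSelf 𝒴)).p.IsCartesian f φ] :
    𝒴.p.IsCartesian f φ.hom.snd := by
  have l1 : 𝒳.p.IsHomLift f φ.hom.fst := (fp_isHomLift_iff _ _ φ f).1 inferInstance
  have l2 : 𝒴.p.IsHomLift f φ.hom.snd := fp_isHomLift_snd' _ _ φ f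
  refine { universal_property := ?_ }
  intro z₂ ψ₂ hψ₂
  have hR : 𝒳.p.obj x.obj.fst = R := IsHomLift.domain_eq 𝒳.p f φ.hom.fst
  have hz : 𝒳.p.obj x.obj.fst = 𝒴.p.obj z₂ :=
    hR.trans (IsHomLift.domain_eq 𝒴.p f ψ₂).symm
  have hΨ : (FibCat.fp (FibCat.toSelf 𝒳) (FibCat.toSelf 𝒴)).p.IsHomLift f
      (fpSelfHom (Z := fpSelfObj x.obj.fst z₂ hz) (X := y) f φ.hom.fst ψ₂ l1 hψ₂) :=
    (fp_isHomLift_iff _ _ _ _).2 l1
  obtain ⟨X, ⟨hX1, hX2⟩, hX3⟩ := Functor.IsCartesian.universal_property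
    (p := (FibCat.fp (FibCat.toSelf 𝒳) (FibCat.toSelf 𝒴)).p) (f := f) (φ := φ)
    (a' := fpSelfObj x.obj.fst z₂ hz)
    (fpSelfHom (Z := fpSelfObj x.obj.fst z₂ hz) (X := y) f φ.hom.fst ψ₂ l1 hψ₂)
  have hX2' := congrArg InducedCategory.Hom.hom hX2
  have := hX1
  refine ⟨X.hom.snd, ⟨fp_isHomLift_snd' _ _ X _,
    congrArg CategoricalPullback.Hom.snd hX2'⟩, ?_⟩
  rintro χ₂' ⟨h1', h2'⟩
  have hid : 𝒳.p.IsHomLift (𝟙 R) (𝟙 x.obj.fst) := IsHomLift.id hR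
  have hX' : fpSelfHom (Z := fpSelfObj x.obj.fst z₂ hz) (X := x) (𝟙 R) (𝟙 x.obj.fst) χ₂' hid h1'
      = X := by
    apply hX3
    refine ⟨(fp_isHomLift_iff _ _ _ _).2 hid, ?_⟩
    apply ObjectProperty.hom_ext
    apply CategoricalPullback.hom_ext
    · exact Category.id_comp _
    · exact h2'
  exact congrArg (fun t => t.hom.snd) hX'

theorem isPreFibered_fpSelf [𝒳.p.IsPreFibered] [𝒴.p.IsPreFibered] :
    (FibCat.fp (FibCat.toSelf 𝒳) (FibCat.toSelf 𝒴)).p.IsPreFibered := by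
  refine { exists_isCartesian' := ?_ }
  intro x R f
  change R ⟶ 𝒳.p.obj x.obj.fst at f
  obtain ⟨b₁, φ₁, hφ₁⟩ := Functor.IsPreFibered.exists_isCartesian' (p := 𝒳.p) f
  have hx2 : 𝒴.p.obj x.obj.snd = 𝒳.p.obj x.obj.fst :=
    (FibCat.fpSnd (FibCat.toSelf 𝒳) (FibCat.toSelf 𝒴)).w_obj x
  obtain ⟨b₂, φ₂, hφ₂⟩ := exists_cart' 𝒴.p hx2 f
  have hb : 𝒳.p.obj b₁ = 𝒴.p.obj b₂ :=
    (IsHomLift.domain_eq 𝒳.p f φ₁).trans (IsHomLift.domain_eq 𝒴.p f φ₂).symm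
  have h1 : 𝒳.p.IsCartesian f (fpSelfHom (Z := fpSelfObj b₁ b₂ hb) (X := x) f φ₁ φ₂
      hφ₁.toIsHomLift hφ₂.toIsHomLift).hom.fst := hφ₁
  have h2 : 𝒴.p.IsCartesian f (fpSelfHom (Z := fpSelfObj b₁ b₂ hb) (X := x) f φ₁ φ₂
      hφ₁.toIsHomLift hφ₂.toIsHomLift).hom.snd := hφ₂
  exact ⟨fpSelfObj b₁ b₂ hb, fpSelfHom (Z := fpSelfObj b₁ b₂ hb) (X := x) f φ₁ φ₂
      hφ₁.toIsHomLift hφ₂.toIsHomLift, fpSelf_cart _ f⟩

end fpSelf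

end Groth.Agent.Lib.Helper10.Fib
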