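import Mathlib
import Groth.Prelude.Def_FibCat2
import Groth.Prelude.Def_W4stkcategoriessitesFib
import Groth.Agent.Lib.Helper10.Fib4

/-!
# The 2-Yoneda lemma for categories over a base

* `yoneda_existsUnique`: a morphism of the fibre over `U` between the values at `𝟙 U` of two
  functors `C/U ⟶ 𝒳` over `C` extends uniquely to a 2-morphism, if the target functor sends the
  canonical morphisms `A ⟶ 𝟙_U` of the slice to strongly cartesian morphisms.
* `yoneda_essSurj`: an object of the fibre over `U` with enough strongly cartesian lifts is, up to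
  isomorphism in the fibre, the value at `𝟙 U` of a functor `C/U ⟶ 𝒳` over `C` sending every
  morphism to a strongly cartesian morphism.
-/

set_option autoImplicit false

universe v₅ u₅ v₄ u₄ v₃ u₃ v₂ u₂ v u

open CategoryTheory Functor CategoryTheory.Limits

namespace Groth.Agent.Lib.Helper10.Fib

section Yoneda

variable {C : Type u} [Category.{v} C] (U : C)

/-- The structure morphism of an object of the slice, with a clean type. -/
def homU (A : Over U) : A.left ⟶ U := A.hom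

lemma homU_w {A B : Over U} (k : A ⟶ B) : k.left ≫ homU U B = homU U A := Over.w k

/-- The canonical morphism to the terminal object of the slice. -/
def toTerminal (A : Over U) : A ⟶ Over.mk (𝟙 U) := Over.homMk A.hom (by simp)

lemma toTerminal_comp {A B : Over U} (k : A ⟶ B) : k ≫ toTerminal U B = toTerminal U A := by
  apply Over.OverMorphism.ext
  simp [toTerminal]

lemma toTerminal_self : toTerminal U (Over.mk (𝟙 U)) = 𝟙 (Over.mk (𝟙 U)) := by
  apply Over.OverMorphism.ext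
  simp [toTerminal]

variable {𝒳 : BasedCategory.{v₂, u₂} C}

lemma isHomLift_map_over (G : FibCat.overCat U ⥤ᵇ 𝒳) {A B : Over U} (k : A ⟶ B) :
    𝒳.p.IsHomLift k.left (G.map k) := by
  have : (FibCat.overCat U).p.IsHomLift k.left k := IsHomLift.map (Over.forget U) k
  exact BasedFunctor.preserves_isHomLift G k.left k

lemma isHomLift_toTerminal (G : FibCat.overCat U ⥤ᵇ 𝒳) (A : Over U) :
    𝒳.p.IsHomLift (homU U A) (G.map (toTerminal U A)) :=
  isHomLift_map_over U G (toTerminal U A)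

lemma map_toTerminal_comp (G : FibCat.overCat U ⥤ᵇ 𝒳) {A B : Over U} (k : A ⟶ B) :
    G.map k ≫ G.map (toTerminal U B) = G.map (toTerminal U A) := by
  rw [← G.toFunctor.map_comp]
  exact congrArg (fun t => G.map t) (toTerminal_comp U k)

lemma map_toTerminal_self (G : FibCat.overCat U ⥤ᵇ 𝒳) :
    G.map (toTerminal U (Over.mk (𝟙 U))) = 𝟙 (G.obj (Over.mk (𝟙 U))) :=
  (congrArg (fun t => G.map t) (toTerminal_self U)).trans (G.toFunctor.map_id _)

theorem yoneda_existsUnique (G H : FibCat.overCat U ⥤ᵇ 𝒳)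
    (hH : ∀ A : Over U, 𝒳.p.IsStronglyCartesian (homU U A) (H.map (toTerminal U A)))
    (m : G.obj (Over.mk (𝟙 U)) ⟶ H.obj (Over.mk (𝟙 U))) (hm : 𝒳.p.IsHomLift (𝟙 U) m) :
    ∃! α : G ⟶ H, α.toNatTrans.app (Over.mk (𝟙 U)) = m := by
  have hG1 : ∀ A : Over U, 𝒳.p.IsHomLift (homU U A) (G.map (toTerminal U A)) :=
    isHomLift_toTerminal U G
  have hl : ∀ A : Over U, 𝒳.p.IsHomLift (homU U A) (G.map (toTerminal U A) ≫ m) := by
    intro A
    have := hG1 A
    infer_instance
  have ex : ∀ A : Over U, ∃! χ : G.obj A ⟶ H.obj A, 𝒳.p.IsHomLift (𝟙 A.left) χ ∧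
      χ ≫ H.map (toTerminal U A) = G.map (toTerminal U A) ≫ m := by
    intro A
    have := hH A
    have := hl A
    exact IsStronglyCartesian.universal_property 𝒳.p (homU U A) (H.map (toTerminal U A))
      (𝟙 A.left) (homU U A) (Category.id_comp _).symm (G.map (toTerminal U A) ≫ m)
  let a : ∀ A : Over U, G.obj A ⟶ H.obj A := fun A => Classical.choose (ex A)
  have ha1 : ∀ A, 𝒳.p.IsHomLift (𝟙 A.left) (a A) := fun A => (Classical.choose_spec (ex A)).1.1
  have ha2 : ∀ A, a A ≫ H.map (toTerminal U A) = G.map (toTerminal U A) ≫ m :=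
    fun A => (Classical.choose_spec (ex A)).1.2
  have ha3 : ∀ A (χ : G.obj A ⟶ H.obj A), 𝒳.p.IsHomLift (𝟙 A.left) χ →
      χ ≫ H.map (toTerminal U A) = G.map (toTerminal U A) ≫ m → χ = a A :=
    fun A χ h1 h2 => (Classical.choose_spec (ex A)).2 χ ⟨h1, h2⟩
  have nat : ∀ {A B : Over U} (k : A ⟶ B), G.map k ≫ a B = a A ≫ H.map k := by
    intro A B k
    have := hH B
    have := ha1 A
    have := ha1 B
    have := isHomLift_map_over U G k
    have := isHomLift_map_over U H k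
    have l1 : 𝒳.p.IsHomLift k.left (G.map k ≫ a B) := inferInstance
    have l2 : 𝒳.p.IsHomLift k.left (a A ≫ H.map k) := inferInstance
    apply IsStronglyCartesian.ext 𝒳.p (homU U B) (H.map (toTerminal U B)) k.left
    rw [Category.assoc, ha2 B, ← Category.assoc, map_toTerminal_comp U G k, Category.assoc,
      map_toTerminal_comp U H k, ha2 A]
  let α : G ⟶ H :=
    { toNatTrans := { app := a, naturality := fun {A B} k => nat k }
      isHomLift' := fun A => ha1 A }
  have hT : a (Over.mk (𝟙 U)) = m := by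
    have h := ha2 (Over.mk (𝟙 U))
    rw [map_toTerminal_self U H, map_toTerminal_self U G, Category.comp_id,
      Category.id_comp] at h
    exact h
  refine ⟨α, hT, ?_⟩
  intro α' hα'
  apply BasedNatTrans.ext
  apply NatTrans.ext
  funext A
  refine ha3 A _ (α'.isHomLift' A) ?_
  have h := α'.toNatTrans.naturality (toTerminal U A)
  rw [hα'] at h
  exact h.symm

theorem yoneda_essSurj (x : 𝒳.p.Fiber U)
    (hx : ∀ (V : C) (f : V ⟶ U), ∃ (y : 𝒳.obj) (φ : y ⟶ x.1), 𝒳.p.IsStronglyCartesian f φ) :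
    ∃ G : FibCat.overCat U ⥤ᵇ 𝒳,
      (∀ {A B : Over U} (k : A ⟶ B), 𝒳.p.IsStronglyCartesian k.left (G.map k)) ∧
      Nonempty ((FibCat.evalAtId 𝒳 U).obj G ≅ x) := by
  choose Y Φ hΦ using fun A : Over U => hx A.left (homU U A)
  have hobj : ∀ A, 𝒳.p.obj (Y A) = A.left := fun A => by
    have := hΦ A
    exact IsHomLift.domain_eq 𝒳.p (homU U A) (Φ A)
  have ex : ∀ {A B : Over U} (k : A ⟶ B), ∃! χ : Y A ⟶ Y B,
      𝒳.p.IsHomLift k.left χ ∧ χ ≫ Φ B = Φ A := by
    intro A B k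
    have := hΦ A
    have := hΦ B
    exact IsStronglyCartesian.universal_property 𝒳.p (homU U B) (Φ B) k.left (homU U A)
      (homU_w U k).symm (Φ A)
  let mp : ∀ {A B : Over U} (_ : A ⟶ B), Y A ⟶ Y B := fun k => Classical.choose (ex k)
  have mp1 : ∀ {A B : Over U} (k : A ⟶ B), 𝒳.p.IsHomLift k.left (mp k) :=
    fun k => (Classical.choose_spec (ex k)).1.1
  have mp2 : ∀ {A B : Over U} (k : A ⟶ B), mp k ≫ Φ B = Φ A :=
    fun k => (Classical.choose_spec (ex k)).1.2
  have mp3 : ∀ {A B : Over U} (k : A ⟶ B) (χ : Y A ⟶ Y B), 𝒳.p.IsHomLift k.left χ →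
      χ ≫ Φ B = Φ A → χ = mp k := fun k χ h1 h2 => (Classical.choose_spec (ex k)).2 χ ⟨h1, h2⟩
  let G₀ : Over U ⥤ 𝒳.obj :=
    { obj := Y
      map := fun k => mp k
      map_id := fun A => by
        symm
        apply mp3 (𝟙 A)
        · exact IsHomLift.id (hobj A)
        · exact Category.id_comp _
      map_comp := fun {A B D} k l => by
        symm
        apply mp3 (k ≫ l)
        · have := mp1 k
          have := mp1 l
          exact (inferInstance : 𝒳.p.IsHomLift (k.left ≫ l.left) (mp k ≫ mp l))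
        · rw [Category.assoc, mp2 l, mp2 k] }
  let G : FibCat.overCat U ⥤ᵇ 𝒳 :=
    { toFunctor := G₀
      w := CategoryTheory.Functor.ext hobj (fun A B k => by
        have := mp1 k
        exact IsHomLift.fac' 𝒳.p k.left (mp k)) }
  have hsc : ∀ {A B : Over U} (k : A ⟶ B), 𝒳.p.IsStronglyCartesian k.left (mp k) := by
    intro A B k
    have := hΦ B
    have := mp1 k
    have h0 : 𝒳.p.IsStronglyCartesian (k.left ≫ homU U B) (mp k ≫ Φ B) := by
      rw [mp2 k, homU_w U k]
      exact hΦ A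
    exact IsStronglyCartesian.of_comp 𝒳.p (f := k.left) (g := homU U B) (φ := mp k) (ψ := Φ B)
  have hΦT : 𝒳.p.IsStronglyCartesian (𝟙 U) (Φ (Over.mk (𝟙 U))) := hΦ (Over.mk (𝟙 U))
  have hiso : IsIso (Φ (Over.mk (𝟙 U))) :=
    IsStronglyCartesian.isIso_of_base_isIso 𝒳.p (𝟙 U) (Φ (Over.mk (𝟙 U)))
  have hlift : 𝒳.p.IsHomLift (𝟙 U) (Φ (Over.mk (𝟙 U))) := inferInstance
  obtain ⟨ψ, hψ0, hψ1, hψ2⟩ : ∃ ψ : x.1 ⟶ Y (Over.mk (𝟙 U)), 𝒳.p.IsHomLift (𝟙 U) ψ ∧
      Φ (Over.mk (𝟙 U)) ≫ ψ = 𝟙 _ ∧ ψ ≫ Φ (Over.mk (𝟙 U)) = 𝟙 _ :=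
    ⟨CategoryTheory.inv (Φ (Over.mk (𝟙 U))), inferInstance, IsIso.hom_inv_id _,
      IsIso.inv_hom_id _⟩
  refine ⟨G, fun k => hsc k, ⟨⟨⟨Φ (Over.mk (𝟙 U)), hlift⟩, ⟨ψ, hψ0⟩, ?_, ?_⟩⟩⟩
  · apply Functor.Fiber.hom_ext
    exact hψ1
  · apply Functor.Fiber.hom_ext
    exact hψ2

end Yoneda

end Groth.Agent.Lib.Helper10.Fib
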