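import Mathlib
import Groth.Prelude.Def_FibCat2
import Groth.Prelude.Def_W4stkcategoriessitesFib
import Groth.Agent.Lib.Helper10.Fib5
import Groth.Agent.Lib.Helper10.FibCart

/-!
# Representable categories over the base and terminal objects

* `toOverOfTerminal`, `isEquivOver_toOverOfTerminal`, `isRepresentable_of_terminal`,
  `exists_terminal_of_isRepresentable`, `isRepresentable_of_functor_equivalence`: a category
  fibred in groupoids over the base is representable iff it has a terminal object.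
* `isHomLift_of_eqToHom`, `selfIso`.
* `th1`, `th2`, `mkHomD`, `mkObjD`: the 2-fibre product of a functor to `𝒮 ×_C 𝒮` with the
  diagonal of `𝒮`.
-/

set_option autoImplicit false

universe v₅ u₅ v₄ u₄ v₃ u₃ v₂ u₂ v₁ u₁ v u

open CategoryTheory Functor CategoryTheory.Limits

namespace Groth.Agent.Lib.Helper10.Fib

section

variable {𝒮 : Type u₁} {𝒳 : Type u₂} [Category.{v₁} 𝒮] [Category.{v₂} 𝒳] (p : 𝒳 ⥤ 𝒮)

lemma isHomLift_of_eqToHom {R S : 𝒮} (h : R = S) {a b : 𝒳} (ψ : a ⟶ b)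
    [inst : p.IsHomLift (eqToHom h) ψ] : p.IsHomLift (𝟙 R) ψ := by
  subst h
  simpa using inst

lemma lift_inv_of_lift {S : 𝒮} {a b : 𝒳} (φ : a ≅ b) (h : p.IsHomLift (𝟙 S) φ.hom) :
    p.IsHomLift (𝟙 S) φ.inv := by
  have := h
  infer_instance

end

section Terminal

variable {C : Type u} [Category.{v} C] {𝒳 : BasedCategory.{v₂, u₂} C}

/-- The functor over the base to the slice induced by a terminal object. -/
def toOverOfTerminal {t : 𝒳.obj} (ht : IsTerminal t) : 𝒳 ⥤ᵇ FibCat.overCat (𝒳.p.obj t) where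
  toFunctor :=
    { obj := fun x => Over.mk (𝒳.p.map (ht.from x))
      map := fun {x y} φ => Over.homMk (𝒳.p.map φ) (by
        show 𝒳.p.map φ ≫ 𝒳.p.map (ht.from y) = 𝒳.p.map (ht.from x)
        rw [← 𝒳.p.map_comp, ht.hom_ext (φ ≫ ht.from y) (ht.from x)])
      map_id := fun x => by
        apply Over.OverMorphism.ext
        exact 𝒳.p.map_id x
      map_comp := fun f g => by
        apply Over.OverMorphism.ext
        exact 𝒳.p.map_comp f g }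
  w := rfl

theorem isEquivOver_toOverOfTerminal (h : FibCat.IsFibGrpd 𝒳.p) {t : 𝒳.obj} (ht : IsTerminal t) :
    FibCat.IsEquivOver (toOverOfTerminal ht) := by
  have key : ∀ {x x' : 𝒳.obj} (g : 𝒳.p.obj x ⟶ 𝒳.p.obj x'),
      g ≫ 𝒳.p.map (ht.from x') = 𝒳.p.map (ht.from x) → ∃! χ : x ⟶ x', 𝒳.p.map χ = g := by
    intro x x' g hg
    obtain ⟨χ, ⟨h1, h2⟩, h3⟩ := (sc_map_iff 𝒳.p (ht.from x')).1
      (h.isStronglyCartesian (ht.from x')) g (ht.from x) hg.symm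
    exact ⟨χ, h1, fun χ' h' => h3 χ' ⟨h', ht.hom_ext _ _⟩⟩
  haveI : (toOverOfTerminal ht).toFunctor.Faithful := ⟨fun {x x'} φ φ' hφ => by
    have e : 𝒳.p.map φ = 𝒳.p.map φ' := congrArg (fun k => k.left) hφ
    obtain ⟨χ, -, hχ⟩ := key (𝒳.p.map φ)
      (by rw [← 𝒳.p.map_comp, ht.hom_ext (φ ≫ ht.from x') (ht.from x)])
    exact (hχ φ rfl).trans (hχ φ' e.symm).symm⟩
  haveI : (toOverOfTerminal ht).toFunctor.Full := ⟨fun {x x'} k => by
    obtain ⟨χ, hχ, -⟩ := key k.left (Over.w k)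
    exact ⟨χ, Over.OverMorphism.ext hχ⟩⟩
  apply isEquivOver_of_ff
  intro A
  obtain ⟨x, φ, hφ⟩ := h.exists_lift (x := t) (homU (𝒳.p.obj t) A)
  have hx : 𝒳.p.obj x = A.left := IsHomLift.domain_eq 𝒳.p (homU (𝒳.p.obj t) A) φ
  have hφ' : φ = ht.from x := ht.hom_ext _ _
  have hw : eqToHom hx ≫ A.hom = 𝒳.p.map (ht.from x) := by
    rw [← hφ', IsHomLift.fac' 𝒳.p (homU (𝒳.p.obj t) A) φ]
    simp [homU]
  refine ⟨x, Over.isoMk (eqToIso hx) hw, ?_⟩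
  apply IsHomLift.of_fac (Over.forget (𝒳.p.obj t)) (𝟙 A.left)
    (Over.isoMk (eqToIso hx) hw).hom
    (show (Over.forget (𝒳.p.obj t)).obj ((toOverOfTerminal ht).obj x) = A.left from hx) rfl
  simp

theorem isRepresentable_of_terminal (h : FibCat.IsFibGrpd 𝒳.p) {t : 𝒳.obj} (ht : IsTerminal t) :
    FibCat.IsRepresentable 𝒳 :=
  ⟨𝒳.p.obj t, toOverOfTerminal ht, isEquivOver_toOverOfTerminal h ht⟩

theorem exists_terminal_of_isRepresentable (h : FibCat.IsRepresentable 𝒳) :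
    ∃ t : 𝒳.obj, Nonempty (IsTerminal t) := by
  obtain ⟨U, F, hF⟩ := h
  haveI := IsEquivOver.isEquivalence hF
  exact ⟨F.toFunctor.inv.obj (Over.mk (𝟙 U)),
    ⟨IsTerminal.isTerminalObj F.toFunctor.inv _ Over.mkIdTerminal⟩⟩

theorem isRepresentable_of_functor_equivalence {𝒳' : BasedCategory.{v₃, u₃} C}
    (h' : FibCat.IsFibGrpd 𝒳'.p) (Φ : 𝒳.obj ⥤ 𝒳'.obj) [Φ.IsEquivalence]
    (h : FibCat.IsRepresentable 𝒳) : FibCat.IsRepresentable 𝒳' := by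
  obtain ⟨t, ⟨ht⟩⟩ := exists_terminal_of_isRepresentable h
  exact isRepresentable_of_terminal h' (IsTerminal.isTerminalObj Φ t ht)

/-- Any two functors over the base to the base itself are canonically isomorphic. -/
def selfIso {𝒲 : BasedCategory.{v₃, u₃} C} (K₁ K₂ : 𝒲 ⥤ᵇ FibCat.selfOver C) : K₁ ≅ K₂ :=
  have e : ∀ w : 𝒲.obj, K₁.obj w = K₂.obj w := fun w => (K₁.w_obj w).trans (K₂.w_obj w).symm
  BasedNatIso.mkNatIso
    (NatIso.ofComponents (fun w => eqToIso (e w))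
      (fun {w w'} k => by
        have h1 : (𝟭 C).IsHomLift (𝒲.p.map k) (K₁.map k) :=
          BasedFunctor.preserves_isHomLift K₁ (𝒲.p.map k) k
        have h2 : (𝟭 C).IsHomLift (𝒲.p.map k) (K₂.map k) :=
          BasedFunctor.preserves_isHomLift K₂ (𝒲.p.map k) k
        have h3 : (𝟭 C).IsHomLift (𝒲.p.map k) (K₁.map k ≫ eqToHom (e w')) :=
          IsHomLift.eqToHom_comp_lift (𝟭 C) (𝒲.p.map k) (K₁.map k) (e w')
        have h4 : (𝟭 C).IsHomLift (𝒲.p.map k) (eqToHom (e w) ≫ K₂.map k) :=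
          IsHomLift.comp_eqToHom_lift (𝟭 C) (𝒲.p.map k) (K₂.map k) (e w)
        exact @selfLift_unique C _ _ _ _ _ (𝒲.p.map k) _ _ h3 h4))
    (fun w => IsHomLift.eqToHom_domain_lift_id (e w) (K₁.w_obj w))

end Terminal

section DiagFp

variable {C : Type u} [Category.{v} C] {𝒮 : BasedCategory.{v₂, u₂} C}
  {𝒲 : BasedCategory.{v₃, u₃} C}
  (H : 𝒲 ⥤ᵇ FibCat.fp (FibCat.toSelf 𝒮) (FibCat.toSelf 𝒮))

/-- First component of the structure isomorphism of an object of `𝒲 ×_{𝒮 × 𝒮} 𝒮`. -/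
def th1 (z : (FibCat.fp H (FibCat.diag (FibCat.toSelf 𝒮))).obj) :
    (H.obj z.obj.fst).obj.fst ≅ z.obj.snd :=
  (FibCat.fpFst (FibCat.toSelf 𝒮) (FibCat.toSelf 𝒮)).toFunctor.mapIso z.obj.iso

/-- Second component of the structure isomorphism of an object of `𝒲 ×_{𝒮 × 𝒮} 𝒮`. -/
def th2 (z : (FibCat.fp H (FibCat.diag (FibCat.toSelf 𝒮))).obj) :
    (H.obj z.obj.fst).obj.snd ≅ z.obj.snd :=
  (FibCat.fpSnd (FibCat.toSelf 𝒮) (FibCat.toSelf 𝒮)).toFunctor.mapIso z.obj.iso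

lemma th1_lift (z : (FibCat.fp H (FibCat.diag (FibCat.toSelf 𝒮))).obj) :
    𝒮.p.IsHomLift (𝟙 (𝒲.p.obj z.obj.fst)) (th1 H z).hom := by
  have hz : (FibCat.fp (FibCat.toSelf 𝒮) (FibCat.toSelf 𝒮)).p.IsHomLift
    (𝟙 (𝒲.p.obj z.obj.fst)) z.obj.iso.hom := z.property
  exact (fp_isHomLift_iff _ _ z.obj.iso.hom _).1 hz

lemma th2_lift (z : (FibCat.fp H (FibCat.diag (FibCat.toSelf 𝒮))).obj) :
    𝒮.p.IsHomLift (𝟙 (𝒲.p.obj z.obj.fst)) (th2 H z).hom := by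
  have hz : (FibCat.fp (FibCat.toSelf 𝒮) (FibCat.toSelf 𝒮)).p.IsHomLift
    (𝟙 (𝒲.p.obj z.obj.fst)) z.obj.iso.hom := z.property
  exact fp_isHomLift_snd' _ _ z.obj.iso.hom _

lemma hom_w1 {z z' : (FibCat.fp H (FibCat.diag (FibCat.toSelf 𝒮))).obj} (m : z ⟶ z') :
    (H.map m.hom.fst).hom.fst ≫ (th1 H z').hom = (th1 H z).hom ≫ m.hom.snd :=
  congrArg (fun t => t.hom.fst) m.hom.w

lemma hom_w2 {z z' : (FibCat.fp H (FibCat.diag (FibCat.toSelf 𝒮))).obj} (m : z ⟶ z') :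
    (H.map m.hom.fst).hom.snd ≫ (th2 H z').hom = (th2 H z).hom ≫ m.hom.snd :=
  congrArg (fun t => t.hom.snd) m.hom.w

/-- Constructor for morphisms of `𝒲 ×_{𝒮 × 𝒮} 𝒮`. -/
def mkHomD {z z' : (FibCat.fp H (FibCat.diag (FibCat.toSelf 𝒮))).obj}
    (k : z.obj.fst ⟶ z'.obj.fst) (σ : z.obj.snd ⟶ z'.obj.snd)
    (h1 : (H.map k).hom.fst ≫ (th1 H z').hom = (th1 H z).hom ≫ σ)
    (h2 : (H.map k).hom.snd ≫ (th2 H z').hom = (th2 H z).hom ≫ σ) : z ⟶ z' :=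
  ObjectProperty.homMk ⟨k, σ, by
    apply ObjectProperty.hom_ext
    apply CategoricalPullback.hom_ext
    · exact h1
    · exact h2⟩

/-- Constructor for objects of `𝒲 ×_{𝒮 × 𝒮} 𝒮`. -/
def mkObjD (A : 𝒲.obj) (s : 𝒮.obj) (θ₁ : (H.obj A).obj.fst ≅ s) (θ₂ : (H.obj A).obj.snd ≅ s)
    (h₁ : 𝒮.p.IsHomLift (𝟙 (𝒲.p.obj A)) θ₁.hom) (h₂ : 𝒮.p.IsHomLift (𝟙 (𝒲.p.obj A)) θ₂.hom) :
    (FibCat.fp H (FibCat.diag (FibCat.toSelf 𝒮))).obj :=
  ⟨⟨A, s,
    { hom := fpSelfHom (Z := H.obj A) (X := (FibCat.diag (FibCat.toSelf 𝒮)).obj s)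
        (𝟙 (𝒲.p.obj A)) θ₁.hom θ₂.hom h₁ h₂
      inv := fpSelfHom (Z := (FibCat.diag (FibCat.toSelf 𝒮)).obj s) (X := H.obj A)
        (𝟙 (𝒲.p.obj A)) θ₁.inv θ₂.inv
        (lift_inv_of_lift 𝒮.p θ₁ h₁) (lift_inv_of_lift 𝒮.p θ₂ h₂)
      hom_inv_id := by
        apply ObjectProperty.hom_ext
        apply CategoricalPullback.hom_ext
        · exact θ₁.hom_inv_id
        · exact θ₂.hom_inv_id
      inv_hom_id := by
        apply ObjectProperty.hom_ext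
        apply CategoricalPullback.hom_ext
        · exact θ₁.inv_hom_id
        · exact θ₂.inv_hom_id }⟩,
    (fp_isHomLift_iff _ _ _ _).2 h₁⟩

end DiagFp

end Groth.Agent.Lib.Helper10.Fib
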