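import Mathlib
import Groth.Prelude.Def_AlgSt
import Groth.Agent.Lib.Helper10.Fib2

/-!
# Postcomposition of functors over the base, and invariance of the stack conditions under
# equivalences over the base

* `isFibGrpd_of_isEquivOver`, `isFibSetoid_of_isEquivOver`.
* `post 𝒜 F : (𝒜 ⥤ᵇ 𝒳) ⥤ (𝒜 ⥤ᵇ 𝒴)` (universe polymorphic), `post_isEquivalence`,
  `restrPostIso` (restriction commutes with postcomposition).
* `isStackFor_iff_of_isEquivOver`, `isPrestackFor_iff_of_isEquivOver`,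
  `isStack_iff_of_isEquivOver`, `isPrestack_iff_of_isEquivOver`.
-/

set_option autoImplicit false
set_option backward.isDefEq.respectTransparency false
set_option backward.isDefEq.respectTransparency.types false

universe v₂ u₂ v₃ u₃ v₄ u₄ v₅ u₅ v u

open CategoryTheory

namespace Groth.Agent.Lib.Helper10.StkPost

open Groth.Agent.Lib.Helper10.Fib

variable {C : Type u} [Category.{v} C]

section Transfer

variable {𝒳 : BasedCategory.{v₂, u₂} C} {𝒴 : BasedCategory.{v₃, u₃} C}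

lemma isEquivOver_symm {F : 𝒳 ⥤ᵇ 𝒴} (hF : FibCat.IsEquivOver F) :
    ∃ G : 𝒴 ⥤ᵇ 𝒳, FibCat.IsEquivOver G := by
  obtain ⟨G, h1, h2⟩ := hF
  exact ⟨G, F, h2, h1⟩

theorem isFibGrpd_of_isEquivOver (F : 𝒳 ⥤ᵇ 𝒴) (hF : FibCat.IsEquivOver F)
    (h : FibCat.IsFibGrpd 𝒳.p) : FibCat.IsFibGrpd 𝒴.p := by
  haveI := IsEquivOver.isEquivalence hF
  haveI := IsFibGrpd.isFibered h
  haveI : 𝒴.p.IsFibered := isFibered_of_ff F (IsEquivOver.exists_iso hF)
  obtain ⟨G, h1, h2⟩ := hF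
  haveI : G.toFunctor.IsEquivalence := IsEquivOver.isEquivalence ⟨F, h2, h1⟩
  apply isFibGrpd_of_isFibered_of_isGroupoid
  intro U
  refine ⟨fun {X Y} ψ => ?_⟩
  haveI := ψ.2
  haveI : 𝒳.p.IsHomLift (𝟙 U) (G.toFunctor.map ψ.1) := inferInstance
  haveI : IsIso (G.toFunctor.map ψ.1) :=
    IsFibGrpd.isIso_of_isHomLift_id h (U := U) (G.toFunctor.map ψ.1)
  haveI : IsIso ψ.1 := isIso_of_reflects_iso ψ.1 G.toFunctor
  exact ⟨⟨⟨inv ψ.1, inferInstance⟩, Subtype.ext (IsIso.hom_inv_id ψ.1),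
    Subtype.ext (IsIso.inv_hom_id ψ.1)⟩⟩

theorem isFibSetoid_of_isEquivOver (F : 𝒳 ⥤ᵇ 𝒴) (hF : FibCat.IsEquivOver F)
    (h : FibCat.IsFibSetoid 𝒳.p) : FibCat.IsFibSetoid 𝒴.p := by
  refine ⟨isFibGrpd_of_isEquivOver F hF h.1, fun U X Y => ⟨fun ψ₁ ψ₂ => ?_⟩⟩
  obtain ⟨G, h1, h2⟩ := hF
  haveI : G.toFunctor.IsEquivalence := IsEquivOver.isEquivalence ⟨F, h2, h1⟩
  haveI := ψ₁.2
  haveI := ψ₂.2
  have hX : 𝒳.p.obj (G.obj X.1) = U := (G.w_obj X.1).trans X.2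
  have hY : 𝒳.p.obj (G.obj Y.1) = U := (G.w_obj Y.1).trans Y.2
  have h3 : (⟨G.toFunctor.map ψ₁.1, inferInstance⟩ :
        (Functor.Fiber.mk hX : 𝒳.p.Fiber U) ⟶ (Functor.Fiber.mk hY : 𝒳.p.Fiber U)) =
      ⟨G.toFunctor.map ψ₂.1, inferInstance⟩ := (h.2 U _ _).elim _ _
  exact Subtype.ext (G.toFunctor.map_injective (congrArg Subtype.val h3))

end Transfer

section Post

variable (𝒜 : BasedCategory.{v₂, u₂} C) {ℬ : BasedCategory.{v₃, u₃} C}
  {𝒳 : BasedCategory.{v₄, u₄} C} {𝒴 : BasedCategory.{v₅, u₅} C}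

/-- Postcomposition with a functor over the base. -/
def post (F : 𝒳 ⥤ᵇ 𝒴) : (𝒜 ⥤ᵇ 𝒳) ⥤ (𝒜 ⥤ᵇ 𝒴) where
  obj G := BasedFunctor.comp G F
  map α := BasedCategory.whiskerRight α F
  map_id G := by
    apply BasedNatTrans.homCategory.ext
    ext x
    show F.toFunctor.map (𝟙 (G.obj x)) = 𝟙 (F.obj (G.obj x))
    exact F.toFunctor.map_id _
  map_comp {G₁ G₂ G₃} α β := by
    apply BasedNatTrans.homCategory.ext
    ext x
    show F.toFunctor.map (α.toNatTrans.app x ≫ β.toNatTrans.app x) =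
      F.toFunctor.map (α.toNatTrans.app x) ≫ F.toFunctor.map (β.toNatTrans.app x)
    exact F.toFunctor.map_comp _ _

/-- If `F ⋙ G ≅ 𝟭` over the base then `post F ⋙ post G ≅ 𝟭`. -/
def postInvIso (F : 𝒳 ⥤ᵇ 𝒴) (G : 𝒴 ⥤ᵇ 𝒳)
    (e : BasedFunctor.comp F G ≅ BasedFunctor.id 𝒳) :
    post 𝒜 F ⋙ post 𝒜 G ≅ 𝟭 (𝒜 ⥤ᵇ 𝒳) :=
  NatIso.ofComponents (fun H => (Stk.restr H 𝒳).mapIso e) (by
    intro H H' β
    apply BasedNatTrans.homCategory.ext
    ext x
    exact e.hom.toNatTrans.naturality (β.toNatTrans.app x))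

theorem post_isEquivalence (F : 𝒳 ⥤ᵇ 𝒴) (hF : FibCat.IsEquivOver F) :
    (post 𝒜 F).IsEquivalence := by
  obtain ⟨G, ⟨e1⟩, ⟨e2⟩⟩ := hF
  exact Functor.IsEquivalence.mk' (post 𝒜 G) (postInvIso 𝒜 F G e1).symm (postInvIso 𝒜 G F e2)

theorem post_faithful (F : 𝒳 ⥤ᵇ 𝒴) [F.toFunctor.Faithful] : (post 𝒜 F).Faithful := by
  constructor
  intro G G' α β h
  apply BasedNatTrans.homCategory.ext
  ext x
  apply F.toFunctor.map_injective
  exact congrArg (fun t => t.toNatTrans.app x) h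

theorem post_full (F : 𝒳 ⥤ᵇ 𝒴) [F.toFunctor.Full] [F.toFunctor.Faithful] :
    (post 𝒜 F).Full := by
  constructor
  intro G G' β
  refine ⟨{ toNatTrans :=
              { app := fun x => F.toFunctor.preimage (X := G.obj x) (Y := G'.obj x)
                  (β.toNatTrans.app x)
                naturality := ?_ }
            isHomLift' := ?_ }, ?_⟩
  · intro x y f
    apply F.toFunctor.map_injective
    rw [F.toFunctor.map_comp, F.toFunctor.map_comp, F.toFunctor.map_preimage,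
      F.toFunctor.map_preimage]
    exact β.toNatTrans.naturality f
  · intro x
    have h : 𝒴.p.IsHomLift (𝟙 (𝒜.p.obj x)) (F.toFunctor.map
        (F.toFunctor.preimage (X := G.obj x) (Y := G'.obj x) (β.toNatTrans.app x))) := by
      rw [F.toFunctor.map_preimage]
      exact β.isHomLift' x
    exact (BasedFunctor.isHomLift_iff F _ _).mp h
  · apply BasedNatTrans.homCategory.ext
    ext x
    exact F.toFunctor.map_preimage _

variable {𝒜}

/-- Restriction along `ι` commutes with postcomposition with `F`. -/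
def restrPostIso (ι : 𝒜 ⥤ᵇ ℬ) (F : 𝒳 ⥤ᵇ 𝒴) :
    Stk.restr ι 𝒳 ⋙ post 𝒜 F ≅ post ℬ F ⋙ Stk.restr ι 𝒴 :=
  NatIso.ofComponents (fun H => Iso.refl _) (by
    intro H H' β
    apply BasedNatTrans.homCategory.ext
    ext x
    show F.toFunctor.map (β.toNatTrans.app (ι.obj x)) ≫ 𝟙 _ =
      𝟙 _ ≫ F.toFunctor.map (β.toNatTrans.app (ι.obj x))
    rw [Category.comp_id, Category.id_comp])

end Post

section StackInvariance

variable {𝒳 : BasedCategory.{v₂, u₂} C} {𝒴 : BasedCategory.{v₃, u₃} C}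

theorem isStackFor_iff_of_isEquivOver (F : 𝒳 ⥤ᵇ 𝒴) (hF : FibCat.IsEquivOver F) {U : C}
    (R : Sieve U) : Stk.IsStackFor R 𝒳 ↔ Stk.IsStackFor R 𝒴 := by
  haveI := post_isEquivalence (Stk.sieveCat R) F hF
  haveI := post_isEquivalence (FibCat.overCat U) F hF
  have e := restrPostIso (Stk.sieveIncl R) F
  constructor
  · intro h
    haveI : (Stk.restr (Stk.sieveIncl R) 𝒳).IsEquivalence := h
    haveI : (post (FibCat.overCat U) F ⋙ Stk.restr (Stk.sieveIncl R) 𝒴).IsEquivalence :=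
      Functor.isEquivalence_of_iso e
    exact Functor.isEquivalence_of_comp_left (post (FibCat.overCat U) F) _
  · intro h
    haveI : (Stk.restr (Stk.sieveIncl R) 𝒴).IsEquivalence := h
    haveI : (Stk.restr (Stk.sieveIncl R) 𝒳 ⋙ post (Stk.sieveCat R) F).IsEquivalence :=
      Functor.isEquivalence_of_iso e.symm
    exact Functor.isEquivalence_of_comp_right _ (post (Stk.sieveCat R) F)

theorem isPrestackFor_iff_of_isEquivOver (F : 𝒳 ⥤ᵇ 𝒴) (hF : FibCat.IsEquivOver F) {U : C}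
    (R : Sieve U) : Stk.IsPrestackFor R 𝒳 ↔ Stk.IsPrestackFor R 𝒴 := by
  haveI := post_isEquivalence (Stk.sieveCat R) F hF
  haveI := post_isEquivalence (FibCat.overCat U) F hF
  have e := restrPostIso (Stk.sieveIncl R) F
  constructor
  · rintro ⟨h1, h2⟩
    haveI : (Stk.restr (Stk.sieveIncl R) 𝒳).Full := h1
    haveI : (Stk.restr (Stk.sieveIncl R) 𝒳).Faithful := h2
    haveI : (post (FibCat.overCat U) F ⋙ Stk.restr (Stk.sieveIncl R) 𝒴).Full :=
      Functor.Full.of_iso e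
    haveI : (post (FibCat.overCat U) F ⋙ Stk.restr (Stk.sieveIncl R) 𝒴).Faithful :=
      Functor.Faithful.of_iso e
    let E := (post (FibCat.overCat U) F).asEquivalence
    have i : Stk.restr (Stk.sieveIncl R) 𝒴 ≅
        E.inverse ⋙ (post (FibCat.overCat U) F ⋙ Stk.restr (Stk.sieveIncl R) 𝒴) :=
      (Functor.leftUnitor _).symm ≪≫
        Functor.isoWhiskerRight E.counitIso.symm (Stk.restr (Stk.sieveIncl R) 𝒴) ≪≫
        Functor.associator _ _ _
    exact ⟨Functor.Full.of_iso i.symm, Functor.Faithful.of_iso i.symm⟩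
  · rintro ⟨h1, h2⟩
    haveI : (Stk.restr (Stk.sieveIncl R) 𝒴).Full := h1
    haveI : (Stk.restr (Stk.sieveIncl R) 𝒴).Faithful := h2
    haveI : (Stk.restr (Stk.sieveIncl R) 𝒳 ⋙ post (Stk.sieveCat R) F).Full :=
      Functor.Full.of_iso e.symm
    haveI : (Stk.restr (Stk.sieveIncl R) 𝒳 ⋙ post (Stk.sieveCat R) F).Faithful :=
      Functor.Faithful.of_iso e.symm
    exact ⟨Functor.Full.of_comp_faithful (Stk.restr (Stk.sieveIncl R) 𝒳)
      (post (Stk.sieveCat R) F),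
      Functor.Faithful.of_comp (Stk.restr (Stk.sieveIncl R) 𝒳) (post (Stk.sieveCat R) F)⟩

theorem isStack_iff_of_isEquivOver (J : GrothendieckTopology C) (F : 𝒳 ⥤ᵇ 𝒴)
    (hF : FibCat.IsEquivOver F) : Stk.IsStack J 𝒳 ↔ Stk.IsStack J 𝒴 := by
  obtain ⟨G, hG⟩ := isEquivOver_symm hF
  constructor
  · rintro ⟨h1, h2⟩
    exact ⟨isFibGrpd_of_isEquivOver F hF h1,
      fun U R hR => (isStackFor_iff_of_isEquivOver F hF R).mp (h2 R hR)⟩
  · rintro ⟨h1, h2⟩
    exact ⟨isFibGrpd_of_isEquivOver G hG h1,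
      fun U R hR => (isStackFor_iff_of_isEquivOver F hF R).mpr (h2 R hR)⟩

theorem isPrestack_iff_of_isEquivOver (J : GrothendieckTopology C) (F : 𝒳 ⥤ᵇ 𝒴)
    (hF : FibCat.IsEquivOver F) : Stk.IsPrestack J 𝒳 ↔ Stk.IsPrestack J 𝒴 := by
  obtain ⟨G, hG⟩ := isEquivOver_symm hF
  constructor
  · rintro ⟨h1, h2⟩
    exact ⟨isFibGrpd_of_isEquivOver F hF h1,
      fun U R hR => (isPrestackFor_iff_of_isEquivOver F hF R).mp (h2 R hR)⟩
  · rintro ⟨h1, h2⟩
    exact ⟨isFibGrpd_of_isEquivOver G hG h1,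
      fun U R hR => (isPrestackFor_iff_of_isEquivOver F hF R).mpr (h2 R hR)⟩

end StackInvariance

end Groth.Agent.Lib.Helper10.StkPost
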