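import Mathlib
import Groth.Prelude.Def_FibCat2
import Groth.Agent.Lib.Helper10.Fib4
import Groth.Agent.Lib.Helper10.FibCart
import Groth.Agent.Lib.Helper10.FibRep
import Groth.Agent.Lib.Helper10.StkPost

/-!
# Base change and pasting for 2-fibre products over the base

* `isEquivOver_comp`, `isEquivOver_id`, `isRepresentable_of_isEquivOver(')`.
* `paste1 G g f : fp G (fpFst g f) ⥤ᵇ fp (G ⋙ g) f` and `isEquivOver_paste1`.
* `paste2 G g f : fp (fpSnd G g) f ⥤ᵇ fp G (f ⋙ g)` and `isEquivOver_paste2`.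
* `fpMap` : functoriality of the 2-fibre product in all three arguments, and
  `isEquivOver_fpMap`.
-/

set_option autoImplicit false

universe v₇ u₇ v₆ u₆ v₅ u₅ v₄ u₄ v₃ u₃ v₂ u₂ v u

open CategoryTheory Functor CategoryTheory.Limits

namespace Groth.Agent.Lib.Helper10.Fib

section Comp

variable {C : Type u} [Category.{v} C] {𝒳 : BasedCategory.{v₂, u₂} C}
  {𝒴 : BasedCategory.{v₃, u₃} C} {𝒵 : BasedCategory.{v₄, u₄} C}

theorem isEquivOver_comp (F : 𝒳 ⥤ᵇ 𝒴) (G : 𝒴 ⥤ᵇ 𝒵) (hF : FibCat.IsEquivOver F)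
    (hG : FibCat.IsEquivOver G) : FibCat.IsEquivOver (BasedFunctor.comp F G) := by
  haveI := IsEquivOver.isEquivalence hF
  haveI := IsEquivOver.isEquivalence hG
  haveI : (BasedFunctor.comp F G).toFunctor.Full := by
    change (F.toFunctor ⋙ G.toFunctor).Full
    infer_instance
  haveI : (BasedFunctor.comp F G).toFunctor.Faithful := by
    change (F.toFunctor ⋙ G.toFunctor).Faithful
    infer_instance
  apply isEquivOver_of_ff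
  intro z
  obtain ⟨y, e, he⟩ := IsEquivOver.exists_iso hG z
  obtain ⟨x, e', he'⟩ := IsEquivOver.exists_iso hF y
  have := he
  have := he'
  have hyz : 𝒴.p.obj y = 𝒵.p.obj z :=
    (G.w_obj y).symm.trans (IsHomLift.domain_eq 𝒵.p (𝟙 (𝒵.p.obj z)) e.hom)
  have he'' : 𝒴.p.IsHomLift (𝟙 (𝒵.p.obj z)) e'.hom := isHomLift_id_of_eq 𝒴.p hyz _
  have h1 : 𝒵.p.IsHomLift (𝟙 (𝒵.p.obj z)) (G.map e'.hom) := inferInstance
  refine ⟨x, G.toFunctor.mapIso e' ≪≫ e, ?_⟩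
  have h0 : 𝒵.p.IsHomLift (𝟙 (𝒵.p.obj z) ≫ 𝟙 (𝒵.p.obj z)) (G.map e'.hom ≫ e.hom) :=
    inferInstance
  rw [Category.comp_id] at h0
  exact h0

theorem isEquivOver_id (𝒳 : BasedCategory.{v₂, u₂} C) :
    FibCat.IsEquivOver (BasedFunctor.id 𝒳) :=
  ⟨BasedFunctor.id 𝒳, ⟨Iso.refl _⟩, ⟨Iso.refl _⟩⟩

theorem isRepresentable_of_isEquivOver (F : 𝒳 ⥤ᵇ 𝒴) (hF : FibCat.IsEquivOver F)
    (h : FibCat.IsRepresentable 𝒴) : FibCat.IsRepresentable 𝒳 := by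
  obtain ⟨U, K, hK⟩ := h
  exact ⟨U, BasedFunctor.comp F K, isEquivOver_comp F K hF hK⟩

theorem isRepresentable_of_isEquivOver' (F : 𝒳 ⥤ᵇ 𝒴) (hF : FibCat.IsEquivOver F)
    (h : FibCat.IsRepresentable 𝒳) : FibCat.IsRepresentable 𝒴 := by
  obtain ⟨G, hG⟩ := Groth.Agent.Lib.Helper10.StkPost.isEquivOver_symm hF
  exact isRepresentable_of_isEquivOver G hG h

end Comp

section Paste1

variable {C : Type u} [Category.{v} C] {𝒳 : BasedCategory.{v₂, u₂} C}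
  {𝒴 : BasedCategory.{v₃, u₃} C} {𝒵 : BasedCategory.{v₄, u₄} C} {𝒲 : BasedCategory.{v₅, u₅} C}
  (G : 𝒲 ⥤ᵇ 𝒵) (g : 𝒵 ⥤ᵇ 𝒴) (f : 𝒳 ⥤ᵇ 𝒴)

/-- The isomorphism `G A ≅ z` of an object `(A, (z, x, θ), η)`. -/
def p1η (P : (FibCat.fp G (FibCat.fpFst g f)).obj) : G.obj P.obj.fst ≅ P.obj.snd.obj.fst :=
  P.obj.iso

/-- The isomorphism `g z ≅ f x` of an object `(A, (z, x, θ), η)`. -/
def p1θ (P : (FibCat.fp G (FibCat.fpFst g f)).obj) :
    g.obj P.obj.snd.obj.fst ≅ f.obj P.obj.snd.obj.snd :=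
  P.obj.snd.obj.iso

lemma p1_lift (P : (FibCat.fp G (FibCat.fpFst g f)).obj) :
    𝒴.p.IsHomLift (𝟙 (𝒲.p.obj P.obj.fst)) (g.map (p1η G g f P).hom ≫ (p1θ G g f P).hom) := by
  have hP : 𝒵.p.IsHomLift (𝟙 (𝒲.p.obj P.obj.fst)) (p1η G g f P).hom := P.property
  have hQ : 𝒴.p.IsHomLift (𝟙 (𝒵.p.obj P.obj.snd.obj.fst)) (p1θ G g f P).hom :=
    P.obj.snd.property
  have heq : 𝒵.p.obj P.obj.snd.obj.fst = 𝒲.p.obj P.obj.fst :=
    IsHomLift.codomain_eq 𝒵.p (𝟙 (𝒲.p.obj P.obj.fst)) (p1η G g f P).hom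
  have hQ' : 𝒴.p.IsHomLift (𝟙 (𝒲.p.obj P.obj.fst)) (p1θ G g f P).hom :=
    isHomLift_id_of_eq 𝒴.p heq _
  have h0 : 𝒴.p.IsHomLift (𝟙 (𝒲.p.obj P.obj.fst) ≫ 𝟙 (𝒲.p.obj P.obj.fst))
      (g.map (p1η G g f P).hom ≫ (p1θ G g f P).hom) := inferInstance
  rw [Category.comp_id] at h0
  exact h0

/-- Object map of `paste1`. -/
def paste1Obj (P : (FibCat.fp G (FibCat.fpFst g f)).obj) :
    (FibCat.fp (BasedFunctor.comp G g) f).obj :=
  ⟨⟨P.obj.fst, P.obj.snd.obj.snd, g.toFunctor.mapIso (p1η G g f P) ≪≫ p1θ G g f P⟩,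
    p1_lift G g f P⟩

lemma p1_w1 {P P' : (FibCat.fp G (FibCat.fpFst g f)).obj} (m : P ⟶ P') :
    G.map m.hom.fst ≫ (p1η G g f P').hom = (p1η G g f P).hom ≫ m.hom.snd.hom.fst :=
  m.hom.w

lemma p1_w2 {P P' : (FibCat.fp G (FibCat.fpFst g f)).obj} (m : P ⟶ P') :
    g.map m.hom.snd.hom.fst ≫ (p1θ G g f P').hom =
      (p1θ G g f P).hom ≫ f.map m.hom.snd.hom.snd :=
  m.hom.snd.hom.w

/-- Morphism map of `paste1`. -/
def paste1Map {P P' : (FibCat.fp G (FibCat.fpFst g f)).obj} (m : P ⟶ P') :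
    paste1Obj G g f P ⟶ paste1Obj G g f P' :=
  ObjectProperty.homMk ⟨m.hom.fst, m.hom.snd.hom.snd, by
    show g.map (G.map m.hom.fst) ≫ (g.map (p1η G g f P').hom ≫ (p1θ G g f P').hom) =
      (g.map (p1η G g f P).hom ≫ (p1θ G g f P).hom) ≫ f.map m.hom.snd.hom.snd
    calc g.map (G.map m.hom.fst) ≫ (g.map (p1η G g f P').hom ≫ (p1θ G g f P').hom)
        = g.map (G.map m.hom.fst ≫ (p1η G g f P').hom) ≫ (p1θ G g f P').hom := by
          rw [g.toFunctor.map_comp, Category.assoc]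
      _ = g.map ((p1η G g f P).hom ≫ m.hom.snd.hom.fst) ≫ (p1θ G g f P').hom := by
          rw [p1_w1]
      _ = g.map (p1η G g f P).hom ≫ (g.map m.hom.snd.hom.fst ≫ (p1θ G g f P').hom) := by
          rw [g.toFunctor.map_comp, Category.assoc]
      _ = g.map (p1η G g f P).hom ≫ ((p1θ G g f P).hom ≫ f.map m.hom.snd.hom.snd) := by
          rw [p1_w2]
      _ = (g.map (p1η G g f P).hom ≫ (p1θ G g f P).hom) ≫ f.map m.hom.snd.hom.snd :=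
          (Category.assoc _ _ _).symm⟩

/-- The pasting functor `𝒲 ×_𝒵 (𝒵 ×_𝒴 𝒳) ⟶ 𝒲 ×_𝒴 𝒳`. -/
def paste1 : FibCat.fp G (FibCat.fpFst g f) ⥤ᵇ FibCat.fp (BasedFunctor.comp G g) f where
  toFunctor :=
    { obj := paste1Obj G g f
      map := paste1Map G g f
      map_id := fun P => by
        apply ObjectProperty.hom_ext
        apply CategoricalPullback.hom_ext <;> rfl
      map_comp := fun m m' => by
        apply ObjectProperty.hom_ext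
        apply CategoricalPullback.hom_ext <;> rfl }
  w := rfl

theorem paste1_faithful : (paste1 G g f).toFunctor.Faithful := ⟨fun {P P'} m m' hm => by
  have h1 : m.hom.fst = m'.hom.fst := congrArg (fun t => t.hom.fst) hm
  have h2 : m.hom.snd.hom.snd = m'.hom.snd.hom.snd := congrArg (fun t => t.hom.snd) hm
  have h3 : m.hom.snd.hom.fst = m'.hom.snd.hom.fst := by
    have e : (p1η G g f P).hom ≫ m.hom.snd.hom.fst = (p1η G g f P).hom ≫ m'.hom.snd.hom.fst := by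
      rw [← p1_w1, ← p1_w1, h1]
    exact (cancel_epi (p1η G g f P).hom).1 e
  apply ObjectProperty.hom_ext
  apply CategoricalPullback.hom_ext
  · exact h1
  · apply ObjectProperty.hom_ext
    apply CategoricalPullback.hom_ext
    · exact h3
    · exact h2⟩

theorem paste1_full : (paste1 G g f).toFunctor.Full := ⟨fun {P P'} n => by
  have nw : g.map (G.map n.hom.fst) ≫ (g.map (p1η G g f P').hom ≫ (p1θ G g f P').hom) =
      (g.map (p1η G g f P).hom ≫ (p1θ G g f P).hom) ≫ f.map n.hom.snd := n.hom.w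
  have e2 : g.map (p1η G g f P).inv ≫ g.map (p1η G g f P).hom = 𝟙 _ := by
    rw [← g.toFunctor.map_comp, Iso.inv_hom_id, g.toFunctor.map_id]
  have hζ : g.map ((p1η G g f P).inv ≫ G.map n.hom.fst ≫ (p1η G g f P').hom) ≫
      (p1θ G g f P').hom = (p1θ G g f P).hom ≫ f.map n.hom.snd := by
    calc g.map ((p1η G g f P).inv ≫ G.map n.hom.fst ≫ (p1η G g f P').hom) ≫ (p1θ G g f P').hom
        = g.map (p1η G g f P).inv ≫ (g.map (G.map n.hom.fst) ≫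
            (g.map (p1η G g f P').hom ≫ (p1θ G g f P').hom)) := by
          rw [g.toFunctor.map_comp, g.toFunctor.map_comp]
          simp only [Category.assoc]
      _ = g.map (p1η G g f P).inv ≫ ((g.map (p1η G g f P).hom ≫ (p1θ G g f P).hom) ≫
            f.map n.hom.snd) := congrArg (fun t => g.map (p1η G g f P).inv ≫ t) nw
      _ = (g.map (p1η G g f P).inv ≫ g.map (p1η G g f P).hom) ≫ (p1θ G g f P).hom ≫
            f.map n.hom.snd := by simp only [Category.assoc]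
      _ = (p1θ G g f P).hom ≫ f.map n.hom.snd := by rw [e2, Category.id_comp]
  let m₂ : P.obj.snd ⟶ P'.obj.snd :=
    ObjectProperty.homMk ⟨(p1η G g f P).inv ≫ G.map n.hom.fst ≫ (p1η G g f P').hom,
      n.hom.snd, hζ⟩
  have hw : G.map n.hom.fst ≫ (p1η G g f P').hom = (p1η G g f P).hom ≫
      ((p1η G g f P).inv ≫ G.map n.hom.fst ≫ (p1η G g f P').hom) :=
    (Iso.hom_inv_id_assoc _ _).symm
  let m : P ⟶ P' := ObjectProperty.homMk ⟨n.hom.fst, m₂, hw⟩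
  refine ⟨m, ?_⟩
  apply ObjectProperty.hom_ext
  apply CategoricalPullback.hom_ext <;> rfl⟩

theorem paste1_ess (y : (FibCat.fp (BasedFunctor.comp G g) f).obj) :
    ∃ (P : (FibCat.fp G (FibCat.fpFst g f)).obj) (e : (paste1 G g f).obj P ≅ y),
      (FibCat.fp (BasedFunctor.comp G g) f).p.IsHomLift
        (𝟙 ((FibCat.fp (BasedFunctor.comp G g) f).p.obj y)) e.hom := by
  have hy : 𝒴.p.IsHomLift (𝟙 (𝒲.p.obj y.obj.fst)) y.obj.iso.hom := y.property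
  have hy' : 𝒴.p.IsHomLift (𝟙 (𝒵.p.obj (G.obj y.obj.fst))) y.obj.iso.hom :=
    isHomLift_id_of_eq 𝒴.p (G.w_obj y.obj.fst).symm _
  let Q : (FibCat.fp g f).obj := ⟨⟨G.obj y.obj.fst, y.obj.snd, y.obj.iso⟩, hy'⟩
  have hP : 𝒵.p.IsHomLift (𝟙 (𝒲.p.obj y.obj.fst)) (𝟙 (G.obj y.obj.fst)) :=
    IsHomLift.id (G.w_obj y.obj.fst)
  let P : (FibCat.fp G (FibCat.fpFst g f)).obj := ⟨⟨y.obj.fst, Q, Iso.refl _⟩, hP⟩
  let e : (paste1 G g f).obj P ≅ y :=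
    (FibCat.fpProp (BasedFunctor.comp G g) f).isoMk (X := (paste1 G g f).obj P) (Y := y)
      (CategoricalPullback.mkIso (Iso.refl _) (Iso.refl _) (by
        show g.map (G.map (𝟙 y.obj.fst)) ≫ y.obj.iso.hom =
          (g.map (𝟙 (G.obj y.obj.fst)) ≫ y.obj.iso.hom) ≫ f.map (𝟙 y.obj.snd)
        simp))
  refine ⟨P, e, ?_⟩
  rw [fp_isHomLift_iff]
  show 𝒲.p.IsHomLift (𝟙 (𝒲.p.obj y.obj.fst)) (𝟙 y.obj.fst)
  infer_instance

theorem isEquivOver_paste1 : FibCat.IsEquivOver (paste1 G g f) := by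
  have := paste1_faithful G g f
  have := paste1_full G g f
  exact isEquivOver_of_ff _ (paste1_ess G g f)

end Paste1

section Paste2

variable {C : Type u} [Category.{v} C] {𝒳 : BasedCategory.{v₂, u₂} C}
  {𝒴 : BasedCategory.{v₃, u₃} C} {𝒵 : BasedCategory.{v₄, u₄} C} {𝒲 : BasedCategory.{v₅, u₅} C}
  (G : 𝒲 ⥤ᵇ 𝒵) (g : 𝒴 ⥤ᵇ 𝒵) (f : 𝒳 ⥤ᵇ 𝒴)

/-- The isomorphism `G A ≅ g y` of an object `((A, y, θ), x, η)`. -/
def p2θ (Q : (FibCat.fp (FibCat.fpSnd G g) f).obj) :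
    G.obj Q.obj.fst.obj.fst ≅ g.obj Q.obj.fst.obj.snd :=
  Q.obj.fst.obj.iso

/-- The isomorphism `y ≅ f x` of an object `((A, y, θ), x, η)`. -/
def p2η (Q : (FibCat.fp (FibCat.fpSnd G g) f).obj) : Q.obj.fst.obj.snd ≅ f.obj Q.obj.snd :=
  Q.obj.iso

lemma p2_lift (Q : (FibCat.fp (FibCat.fpSnd G g) f).obj) :
    𝒵.p.IsHomLift (𝟙 (𝒲.p.obj Q.obj.fst.obj.fst))
      ((p2θ G g f Q).hom ≫ g.map (p2η G g f Q).hom) := by
  have hθ : 𝒵.p.IsHomLift (𝟙 (𝒲.p.obj Q.obj.fst.obj.fst)) (p2θ G g f Q).hom :=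
    Q.obj.fst.property
  have hη : 𝒴.p.IsHomLift (𝟙 (𝒲.p.obj Q.obj.fst.obj.fst)) (p2η G g f Q).hom := Q.property
  have h1 : 𝒵.p.IsHomLift (𝟙 (𝒲.p.obj Q.obj.fst.obj.fst)) (g.map (p2η G g f Q).hom) :=
    inferInstance
  have h0 : 𝒵.p.IsHomLift (𝟙 (𝒲.p.obj Q.obj.fst.obj.fst) ≫ 𝟙 (𝒲.p.obj Q.obj.fst.obj.fst))
      ((p2θ G g f Q).hom ≫ g.map (p2η G g f Q).hom) := inferInstance
  rw [Category.comp_id] at h0
  exact h0

/-- Object map of `paste2`. -/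
def paste2Obj (Q : (FibCat.fp (FibCat.fpSnd G g) f).obj) :
    (FibCat.fp G (BasedFunctor.comp f g)).obj :=
  ⟨⟨Q.obj.fst.obj.fst, Q.obj.snd, p2θ G g f Q ≪≫ g.toFunctor.mapIso (p2η G g f Q)⟩,
    p2_lift G g f Q⟩

lemma p2_w1 {Q Q' : (FibCat.fp (FibCat.fpSnd G g) f).obj} (m : Q ⟶ Q') :
    G.map m.hom.fst.hom.fst ≫ (p2θ G g f Q').hom =
      (p2θ G g f Q).hom ≫ g.map m.hom.fst.hom.snd :=
  m.hom.fst.hom.w

lemma p2_w2 {Q Q' : (FibCat.fp (FibCat.fpSnd G g) f).obj} (m : Q ⟶ Q') :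
    m.hom.fst.hom.snd ≫ (p2η G g f Q').hom = (p2η G g f Q).hom ≫ f.map m.hom.snd :=
  m.hom.w

/-- Morphism map of `paste2`. -/
def paste2Map {Q Q' : (FibCat.fp (FibCat.fpSnd G g) f).obj} (m : Q ⟶ Q') :
    paste2Obj G g f Q ⟶ paste2Obj G g f Q' :=
  ObjectProperty.homMk ⟨m.hom.fst.hom.fst, m.hom.snd, by
    show G.map m.hom.fst.hom.fst ≫ ((p2θ G g f Q').hom ≫ g.map (p2η G g f Q').hom) =
      ((p2θ G g f Q).hom ≫ g.map (p2η G g f Q).hom) ≫ g.map (f.map m.hom.snd)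
    calc G.map m.hom.fst.hom.fst ≫ ((p2θ G g f Q').hom ≫ g.map (p2η G g f Q').hom)
        = (G.map m.hom.fst.hom.fst ≫ (p2θ G g f Q').hom) ≫ g.map (p2η G g f Q').hom :=
          (Category.assoc _ _ _).symm
      _ = ((p2θ G g f Q).hom ≫ g.map m.hom.fst.hom.snd) ≫ g.map (p2η G g f Q').hom := by
          rw [p2_w1]
      _ = (p2θ G g f Q).hom ≫ g.map (m.hom.fst.hom.snd ≫ (p2η G g f Q').hom) := by
          rw [g.toFunctor.map_comp, Category.assoc]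
      _ = (p2θ G g f Q).hom ≫ g.map ((p2η G g f Q).hom ≫ f.map m.hom.snd) := by
          rw [p2_w2]
      _ = ((p2θ G g f Q).hom ≫ g.map (p2η G g f Q).hom) ≫ g.map (f.map m.hom.snd) := by
          rw [g.toFunctor.map_comp, Category.assoc]⟩

/-- The pasting functor `(𝒲 ×_𝒵 𝒴) ×_𝒴 𝒳 ⟶ 𝒲 ×_𝒵 𝒳`. -/
def paste2 : FibCat.fp (FibCat.fpSnd G g) f ⥤ᵇ FibCat.fp G (BasedFunctor.comp f g) where
  toFunctor :=
    { obj := paste2Obj G g f
      map := paste2Map G g f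
      map_id := fun P => by
        apply ObjectProperty.hom_ext
        apply CategoricalPullback.hom_ext <;> rfl
      map_comp := fun m m' => by
        apply ObjectProperty.hom_ext
        apply CategoricalPullback.hom_ext <;> rfl }
  w := rfl

theorem paste2_faithful : (paste2 G g f).toFunctor.Faithful := ⟨fun {Q Q'} m m' hm => by
  have h1 : m.hom.fst.hom.fst = m'.hom.fst.hom.fst := congrArg (fun t => t.hom.fst) hm
  have h2 : m.hom.snd = m'.hom.snd := congrArg (fun t => t.hom.snd) hm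
  have h3 : m.hom.fst.hom.snd = m'.hom.fst.hom.snd := by
    have e : m.hom.fst.hom.snd ≫ (p2η G g f Q').hom = m'.hom.fst.hom.snd ≫ (p2η G g f Q').hom := by
      rw [p2_w2, p2_w2, h2]
    exact (cancel_mono (p2η G g f Q').hom).1 e
  apply ObjectProperty.hom_ext
  apply CategoricalPullback.hom_ext
  · apply ObjectProperty.hom_ext
    apply CategoricalPullback.hom_ext
    · exact h1
    · exact h3
  · exact h2⟩

theorem paste2_full : (paste2 G g f).toFunctor.Full := ⟨fun {Q Q'} n => by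
  obtain ⟨n₁, hn₁⟩ : ∃ n₁ : Q.obj.fst.obj.fst ⟶ Q'.obj.fst.obj.fst, n₁ = n.hom.fst := ⟨_, rfl⟩
  obtain ⟨n₂, hn₂⟩ : ∃ n₂ : Q.obj.snd ⟶ Q'.obj.snd, n₂ = n.hom.snd := ⟨_, rfl⟩
  have nw : G.map n₁ ≫ ((p2θ G g f Q').hom ≫ g.map (p2η G g f Q').hom) =
      ((p2θ G g f Q).hom ≫ g.map (p2η G g f Q).hom) ≫ g.map (f.map n₂) := by
    rw [hn₁, hn₂]
    exact n.hom.w
  have e2 : g.map (p2η G g f Q').hom ≫ g.map (p2η G g f Q').inv = 𝟙 _ := by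
    rw [← g.toFunctor.map_comp, Iso.hom_inv_id, g.toFunctor.map_id]
  have hζ : G.map n₁ ≫ (p2θ G g f Q').hom = (p2θ G g f Q).hom ≫
      g.map ((p2η G g f Q).hom ≫ f.map n₂ ≫ (p2η G g f Q').inv) := by
    symm
    calc (p2θ G g f Q).hom ≫ g.map ((p2η G g f Q).hom ≫ f.map n₂ ≫ (p2η G g f Q').inv)
        = (((p2θ G g f Q).hom ≫ g.map (p2η G g f Q).hom) ≫ g.map (f.map n₂)) ≫
            g.map (p2η G g f Q').inv := by
          rw [g.toFunctor.map_comp, g.toFunctor.map_comp]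
          simp only [Category.assoc]
      _ = (G.map n₁ ≫ ((p2θ G g f Q').hom ≫ g.map (p2η G g f Q').hom)) ≫
            g.map (p2η G g f Q').inv :=
          congrArg (fun t => t ≫ g.map (p2η G g f Q').inv) nw.symm
      _ = G.map n₁ ≫ (p2θ G g f Q').hom ≫
            (g.map (p2η G g f Q').hom ≫ g.map (p2η G g f Q').inv) := by
          simp only [Category.assoc]
      _ = G.map n₁ ≫ (p2θ G g f Q').hom := by rw [e2, Category.comp_id]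
  let m₁ : Q.obj.fst ⟶ Q'.obj.fst :=
    ObjectProperty.homMk ⟨n₁, (p2η G g f Q).hom ≫ f.map n₂ ≫ (p2η G g f Q').inv, hζ⟩
  have hw : ((p2η G g f Q).hom ≫ f.map n₂ ≫ (p2η G g f Q').inv) ≫ (p2η G g f Q').hom =
      (p2η G g f Q).hom ≫ f.map n₂ := by
    simp only [Category.assoc, Iso.inv_hom_id, Category.comp_id]
  let m : Q ⟶ Q' := ObjectProperty.homMk ⟨m₁, n₂, hw⟩
  refine ⟨m, ?_⟩
  apply ObjectProperty.hom_ext
  apply CategoricalPullback.hom_ext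
  · exact hn₁
  · exact hn₂⟩

theorem paste2_ess (y : (FibCat.fp G (BasedFunctor.comp f g)).obj) :
    ∃ (Q : (FibCat.fp (FibCat.fpSnd G g) f).obj) (e : (paste2 G g f).obj Q ≅ y),
      (FibCat.fp G (BasedFunctor.comp f g)).p.IsHomLift
        (𝟙 ((FibCat.fp G (BasedFunctor.comp f g)).p.obj y)) e.hom := by
  have hy : 𝒵.p.IsHomLift (𝟙 (𝒲.p.obj y.obj.fst)) y.obj.iso.hom := y.property
  have hx : 𝒳.p.obj y.obj.snd = 𝒲.p.obj y.obj.fst :=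
    (FibCat.fpSnd G (BasedFunctor.comp f g)).w_obj y
  let Q₁ : (FibCat.fp G g).obj := ⟨⟨y.obj.fst, f.obj y.obj.snd, y.obj.iso⟩, hy⟩
  have hQ : 𝒴.p.IsHomLift (𝟙 (𝒲.p.obj y.obj.fst)) (𝟙 (f.obj y.obj.snd)) :=
    IsHomLift.id ((f.w_obj y.obj.snd).trans hx)
  let Q : (FibCat.fp (FibCat.fpSnd G g) f).obj := ⟨⟨Q₁, y.obj.snd, Iso.refl _⟩, hQ⟩
  let e : (paste2 G g f).obj Q ≅ y :=
    (FibCat.fpProp G (BasedFunctor.comp f g)).isoMk (X := (paste2 G g f).obj Q) (Y := y)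
      (CategoricalPullback.mkIso (Iso.refl _) (Iso.refl _) (by
        show G.map (𝟙 y.obj.fst) ≫ y.obj.iso.hom =
          (y.obj.iso.hom ≫ g.map (𝟙 (f.obj y.obj.snd))) ≫ g.map (f.map (𝟙 y.obj.snd))
        rw [G.toFunctor.map_id, f.toFunctor.map_id, g.toFunctor.map_id]
        exact (Category.id_comp _).trans
          ((Category.comp_id _).trans (Category.comp_id _)).symm))
  refine ⟨Q, e, ?_⟩
  rw [fp_isHomLift_iff]
  show 𝒲.p.IsHomLift (𝟙 (𝒲.p.obj y.obj.fst)) (𝟙 y.obj.fst)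
  infer_instance

theorem isEquivOver_paste2 : FibCat.IsEquivOver (paste2 G g f) := by
  have := paste2_faithful G g f
  have := paste2_full G g f
  exact isEquivOver_of_ff _ (paste2_ess G g f)

end Paste2

section FpMap

variable {C : Type u} [Category.{v} C]
  {𝒲 : BasedCategory.{v₂, u₂} C} {𝒳 : BasedCategory.{v₃, u₃} C} {𝒮 : BasedCategory.{v₄, u₄} C}
  {𝒲' : BasedCategory.{v₅, u₅} C} {𝒳' : BasedCategory.{v₆, u₆} C} {𝒮' : BasedCategory.{v₇, u₇} C}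

section Components

variable {F : 𝒲 ⥤ᵇ 𝒮} {F' : 𝒲' ⥤ᵇ 𝒮'} {α : 𝒲' ⥤ᵇ 𝒲} {γ : 𝒮' ⥤ᵇ 𝒮}
  (e : BasedFunctor.comp F' γ ≅ BasedFunctor.comp α F)

/-- Component of a 2-isomorphism `F' ⋙ γ ≅ α ⋙ F`. -/
def fmC (a : 𝒲'.obj) : γ.obj (F'.obj a) ≅ F.obj (α.obj a) := (natIsoOfBased e).app a

lemma fmC_nat {a a' : 𝒲'.obj} (k : a ⟶ a') :
    γ.map (F'.map k) ≫ (fmC e a').hom = (fmC e a).hom ≫ F.map (α.map k) :=
  (natIsoOfBased e).hom.naturality k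

lemma fmC_lift (a : 𝒲'.obj) : 𝒮.p.IsHomLift (𝟙 (𝒲'.p.obj a)) (fmC e a).hom :=
  e.hom.isHomLift' a

lemma fmC_nat_inv {a a' : 𝒲'.obj} (k : a ⟶ a') :
    F.map (α.map k) ≫ (fmC e a').inv = (fmC e a).inv ≫ γ.map (F'.map k) := by
  rw [Iso.comp_inv_eq, Category.assoc, Iso.eq_inv_comp]
  exact (fmC_nat e k).symm

end Components

variable {G : 𝒲 ⥤ᵇ 𝒮} {f : 𝒳 ⥤ᵇ 𝒮} {G' : 𝒲' ⥤ᵇ 𝒮'} {f' : 𝒳' ⥤ᵇ 𝒮'}
  {α : 𝒲' ⥤ᵇ 𝒲} {β : 𝒳' ⥤ᵇ 𝒳} {γ : 𝒮' ⥤ᵇ 𝒮}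
  (e₁ : BasedFunctor.comp G' γ ≅ BasedFunctor.comp α G)
  (e₂ : BasedFunctor.comp f' γ ≅ BasedFunctor.comp β f)

lemma fpMap_lift (P : (FibCat.fp G' f').obj) :
    𝒮.p.IsHomLift (𝟙 (𝒲.p.obj (α.obj P.obj.fst)))
      ((fmC e₁ P.obj.fst).inv ≫ γ.map P.obj.iso.hom ≫ (fmC e₂ P.obj.snd).hom) := by
  have hP : 𝒮'.p.IsHomLift (𝟙 (𝒲'.p.obj P.obj.fst)) P.obj.iso.hom := P.property
  have h1 : 𝒮.p.IsHomLift (𝟙 (𝒲'.p.obj P.obj.fst)) (fmC e₁ P.obj.fst).inv :=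
    lift_inv_of_lift 𝒮.p _ (fmC_lift e₁ P.obj.fst)
  have h2 : 𝒮.p.IsHomLift (𝟙 (𝒲'.p.obj P.obj.fst)) (γ.map P.obj.iso.hom) := inferInstance
  have hx : 𝒳'.p.obj P.obj.snd = 𝒲'.p.obj P.obj.fst := (FibCat.fpSnd G' f').w_obj P
  have h3' := fmC_lift e₂ P.obj.snd
  have h3 : 𝒮.p.IsHomLift (𝟙 (𝒲'.p.obj P.obj.fst)) (fmC e₂ P.obj.snd).hom :=
    isHomLift_id_of_eq 𝒮.p hx _
  have h0 : 𝒮.p.IsHomLift (𝟙 (𝒲'.p.obj P.obj.fst) ≫ 𝟙 (𝒲'.p.obj P.obj.fst) ≫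
      𝟙 (𝒲'.p.obj P.obj.fst))
      ((fmC e₁ P.obj.fst).inv ≫ γ.map P.obj.iso.hom ≫ (fmC e₂ P.obj.snd).hom) := inferInstance
  rw [Category.comp_id, Category.comp_id] at h0
  exact isHomLift_id_of_eq 𝒮.p (α.w_obj P.obj.fst).symm _

/-- Object map of `fpMap`. -/
def fpMapObj (P : (FibCat.fp G' f').obj) : (FibCat.fp G f).obj :=
  ⟨⟨α.obj P.obj.fst, β.obj P.obj.snd,
    (fmC e₁ P.obj.fst).symm ≪≫ γ.toFunctor.mapIso P.obj.iso ≪≫ fmC e₂ P.obj.snd⟩,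
    fpMap_lift e₁ e₂ P⟩

/-- Morphism map of `fpMap`. -/
def fpMapMap {P P' : (FibCat.fp G' f').obj} (m : P ⟶ P') :
    fpMapObj e₁ e₂ P ⟶ fpMapObj e₁ e₂ P' :=
  ObjectProperty.homMk ⟨α.map m.hom.fst, β.map m.hom.snd, by
    have h2 : γ.map (G'.map m.hom.fst) ≫ γ.map P'.obj.iso.hom =
        γ.map P.obj.iso.hom ≫ γ.map (f'.map m.hom.snd) := by
      rw [← γ.toFunctor.map_comp, ← γ.toFunctor.map_comp]
      exact congrArg (fun t => γ.map t) m.hom.w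
    show G.map (α.map m.hom.fst) ≫
        ((fmC e₁ P'.obj.fst).inv ≫ γ.map P'.obj.iso.hom ≫ (fmC e₂ P'.obj.snd).hom) =
      ((fmC e₁ P.obj.fst).inv ≫ γ.map P.obj.iso.hom ≫ (fmC e₂ P.obj.snd).hom) ≫
        f.map (β.map m.hom.snd)
    calc G.map (α.map m.hom.fst) ≫
          ((fmC e₁ P'.obj.fst).inv ≫ γ.map P'.obj.iso.hom ≫ (fmC e₂ P'.obj.snd).hom)
        = (G.map (α.map m.hom.fst) ≫ (fmC e₁ P'.obj.fst).inv) ≫
            γ.map P'.obj.iso.hom ≫ (fmC e₂ P'.obj.snd).hom := (Category.assoc _ _ _).symm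
      _ = ((fmC e₁ P.obj.fst).inv ≫ γ.map (G'.map m.hom.fst)) ≫
            γ.map P'.obj.iso.hom ≫ (fmC e₂ P'.obj.snd).hom := by rw [fmC_nat_inv]
      _ = (fmC e₁ P.obj.fst).inv ≫ (γ.map (G'.map m.hom.fst) ≫ γ.map P'.obj.iso.hom) ≫
            (fmC e₂ P'.obj.snd).hom := by simp only [Category.assoc]
      _ = (fmC e₁ P.obj.fst).inv ≫ (γ.map P.obj.iso.hom ≫ γ.map (f'.map m.hom.snd)) ≫
            (fmC e₂ P'.obj.snd).hom := by rw [h2]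
      _ = (fmC e₁ P.obj.fst).inv ≫ γ.map P.obj.iso.hom ≫
            (γ.map (f'.map m.hom.snd) ≫ (fmC e₂ P'.obj.snd).hom) := by
          simp only [Category.assoc]
      _ = (fmC e₁ P.obj.fst).inv ≫ γ.map P.obj.iso.hom ≫
            ((fmC e₂ P.obj.snd).hom ≫ f.map (β.map m.hom.snd)) := by rw [fmC_nat]
      _ = ((fmC e₁ P.obj.fst).inv ≫ γ.map P.obj.iso.hom ≫ (fmC e₂ P.obj.snd).hom) ≫
            f.map (β.map m.hom.snd) := by simp only [Category.assoc]⟩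

/-- Functoriality of the 2-fibre product over the base: from `α : 𝒲' ⟶ 𝒲`, `β : 𝒳' ⟶ 𝒳`,
`γ : 𝒮' ⟶ 𝒮` and 2-isomorphisms filling the two squares, the functor
`𝒲' ×_𝒮' 𝒳' ⟶ 𝒲 ×_𝒮 𝒳`. -/
def fpMap : FibCat.fp G' f' ⥤ᵇ FibCat.fp G f where
  toFunctor :=
    { obj := fpMapObj e₁ e₂
      map := fpMapMap e₁ e₂
      map_id := fun P => by
        apply ObjectProperty.hom_ext
        apply CategoricalPullback.hom_ext
        · exact α.toFunctor.map_id _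
        · exact β.toFunctor.map_id _
      map_comp := fun m m' => by
        apply ObjectProperty.hom_ext
        apply CategoricalPullback.hom_ext
        · exact α.toFunctor.map_comp _ _
        · exact β.toFunctor.map_comp _ _ }
  w := CategoryTheory.Functor.ext (fun P => α.w_obj P.obj.fst)
    (fun P P' m => Functor.congr_hom α.w m.hom.fst)

theorem fpMap_faithful [α.toFunctor.Faithful] [β.toFunctor.Faithful] :
    (fpMap e₁ e₂).toFunctor.Faithful := ⟨fun {P P'} m m' hm => by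
  have h1 : α.map m.hom.fst = α.map m'.hom.fst := congrArg (fun t => t.hom.fst) hm
  have h2 : β.map m.hom.snd = β.map m'.hom.snd := congrArg (fun t => t.hom.snd) hm
  apply ObjectProperty.hom_ext
  apply CategoricalPullback.hom_ext
  · exact α.toFunctor.map_injective h1
  · exact β.toFunctor.map_injective h2⟩

theorem fpMap_full [α.toFunctor.Full] [β.toFunctor.Full] [γ.toFunctor.Faithful] :
    (fpMap e₁ e₂).toFunctor.Full := ⟨fun {P P'} n => by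
  obtain ⟨n₁, hn₁⟩ : ∃ n₁ : α.obj P.obj.fst ⟶ α.obj P'.obj.fst, n₁ = n.hom.fst := ⟨_, rfl⟩
  obtain ⟨n₂, hn₂⟩ : ∃ n₂ : β.obj P.obj.snd ⟶ β.obj P'.obj.snd, n₂ = n.hom.snd := ⟨_, rfl⟩
  obtain ⟨m₁, hm₁⟩ := α.toFunctor.map_surjective n₁
  obtain ⟨m₂, hm₂⟩ := β.toFunctor.map_surjective n₂
  have nw : G.map n₁ ≫
        ((fmC e₁ P'.obj.fst).inv ≫ γ.map P'.obj.iso.hom ≫ (fmC e₂ P'.obj.snd).hom) =
      ((fmC e₁ P.obj.fst).inv ≫ γ.map P.obj.iso.hom ≫ (fmC e₂ P.obj.snd).hom) ≫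
        f.map n₂ := by
    rw [hn₁, hn₂]
    exact n.hom.w
  have w : G'.map m₁ ≫ P'.obj.iso.hom = P.obj.iso.hom ≫ f'.map m₂ := by
    apply γ.toFunctor.map_injective
    have h1 : γ.map (G'.map m₁) =
        (fmC e₁ P.obj.fst).hom ≫ G.map n₁ ≫ (fmC e₁ P'.obj.fst).inv := by
      rw [← hm₁, ← Category.assoc, Iso.eq_comp_inv]
      exact fmC_nat e₁ m₁
    have h3 : γ.map (f'.map m₂) =
        (fmC e₂ P.obj.snd).hom ≫ f.map n₂ ≫ (fmC e₂ P'.obj.snd).inv := by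
      rw [← hm₂, ← Category.assoc, Iso.eq_comp_inv]
      exact fmC_nat e₂ m₂
    have key := congrArg (fun t => (fmC e₁ P.obj.fst).hom ≫ t ≫ (fmC e₂ P'.obj.snd).inv) nw
    simp only [Category.assoc, Iso.hom_inv_id, Category.comp_id, Iso.hom_inv_id_assoc] at key
    change γ.map (G'.map m₁ ≫ P'.obj.iso.hom) = γ.map (P.obj.iso.hom ≫ f'.map m₂)
    rw [γ.toFunctor.map_comp, γ.toFunctor.map_comp, h1, h3]
    simp only [Category.assoc]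
    exact key
  refine ⟨ObjectProperty.homMk ⟨m₁, m₂, w⟩, ?_⟩
  apply ObjectProperty.hom_ext
  apply CategoricalPullback.hom_ext
  · exact hm₁.trans hn₁
  · exact hm₂.trans hn₂⟩

theorem fpMap_ess [γ.toFunctor.Full] [γ.toFunctor.Faithful]
    (hα : ∀ A : 𝒲.obj, ∃ (A' : 𝒲'.obj) (i : α.obj A' ≅ A),
      𝒲.p.IsHomLift (𝟙 (𝒲.p.obj A)) i.hom)
    (hβ : ∀ x : 𝒳.obj, ∃ (x' : 𝒳'.obj) (j : β.obj x' ≅ x),
      𝒳.p.IsHomLift (𝟙 (𝒳.p.obj x)) j.hom)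
    (y : (FibCat.fp G f).obj) :
    ∃ (P : (FibCat.fp G' f').obj) (e : (fpMap e₁ e₂).obj P ≅ y),
      (FibCat.fp G f).p.IsHomLift (𝟙 ((FibCat.fp G f).p.obj y)) e.hom := by
  obtain ⟨A', i, hi⟩ := hα y.obj.fst
  obtain ⟨x', j, hj⟩ := hβ y.obj.snd
  have hy : 𝒮.p.IsHomLift (𝟙 (𝒲.p.obj y.obj.fst)) y.obj.iso.hom := y.property
  have hx : 𝒳.p.obj y.obj.snd = 𝒲.p.obj y.obj.fst := (FibCat.fpSnd G f).w_obj y
  have hA : 𝒲'.p.obj A' = 𝒲.p.obj y.obj.fst :=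
    (α.w_obj A').symm.trans (IsHomLift.domain_eq 𝒲.p (𝟙 (𝒲.p.obj y.obj.fst)) i.hom)
  have hx' : 𝒳'.p.obj x' = 𝒲.p.obj y.obj.fst :=
    ((β.w_obj x').symm.trans
      (IsHomLift.domain_eq 𝒳.p (𝟙 (𝒳.p.obj y.obj.snd)) j.hom)).trans hx
  have l1 : 𝒮.p.IsHomLift (𝟙 (𝒲.p.obj y.obj.fst)) (fmC e₁ A').hom := by
    have := fmC_lift e₁ A'
    exact isHomLift_id_of_eq 𝒮.p hA _
  have l2 : 𝒮.p.IsHomLift (𝟙 (𝒲.p.obj y.obj.fst)) (G.map i.hom) := inferInstance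
  have l4 : 𝒮.p.IsHomLift (𝟙 (𝒲.p.obj y.obj.fst)) (f.map j.inv) := by
    have h1 : 𝒳.p.IsHomLift (𝟙 (𝒳.p.obj y.obj.snd)) j.inv := lift_inv_of_lift 𝒳.p j hj
    have h2 : 𝒳.p.IsHomLift (𝟙 (𝒲.p.obj y.obj.fst)) j.inv := isHomLift_id_of_eq 𝒳.p hx _
    infer_instance
  have l5 : 𝒮.p.IsHomLift (𝟙 (𝒲.p.obj y.obj.fst)) (fmC e₂ x').inv := by
    have h1 : 𝒮.p.IsHomLift (𝟙 (𝒳'.p.obj x')) (fmC e₂ x').inv :=
      lift_inv_of_lift 𝒮.p _ (fmC_lift e₂ x')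
    exact isHomLift_id_of_eq 𝒮.p hx' _
  obtain ⟨θ', hθ'⟩ : ∃ θ' : G'.obj A' ≅ f'.obj x', γ.map θ'.hom =
      (fmC e₁ A').hom ≫ G.map i.hom ≫ y.obj.iso.hom ≫ f.map j.inv ≫ (fmC e₂ x').inv :=
    ⟨γ.toFunctor.preimageIso (fmC e₁ A' ≪≫ G.toFunctor.mapIso i ≪≫ y.obj.iso ≪≫
      (f.toFunctor.mapIso j).symm ≪≫ (fmC e₂ x').symm), γ.toFunctor.map_preimage _⟩
  have hθl : 𝒮'.p.IsHomLift (𝟙 (𝒲'.p.obj A')) θ'.hom := by
    have h0 : 𝒮.p.IsHomLift (𝟙 (𝒲.p.obj y.obj.fst) ≫ 𝟙 (𝒲.p.obj y.obj.fst) ≫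
        𝟙 (𝒲.p.obj y.obj.fst) ≫ 𝟙 (𝒲.p.obj y.obj.fst) ≫ 𝟙 (𝒲.p.obj y.obj.fst))
        ((fmC e₁ A').hom ≫ G.map i.hom ≫ y.obj.iso.hom ≫ f.map j.inv ≫ (fmC e₂ x').inv) :=
      inferInstance
    simp only [Category.comp_id] at h0
    rw [← hθ'] at h0
    have h1 : 𝒮.p.IsHomLift (𝟙 (𝒲'.p.obj A')) (γ.map θ'.hom) :=
      isHomLift_id_of_eq 𝒮.p hA.symm _
    exact BasedFunctor.isHomLift_map γ _ _
  let P : (FibCat.fp G' f').obj := ⟨⟨A', x', θ'⟩, hθl⟩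
  have hw : G.map i.hom ≫ y.obj.iso.hom =
      ((fmC e₁ A').inv ≫ γ.map θ'.hom ≫ (fmC e₂ x').hom) ≫ f.map j.hom := by
    rw [hθ']
    simp
  let e : (fpMap e₁ e₂).obj P ≅ y :=
    (FibCat.fpProp G f).isoMk (X := (fpMap e₁ e₂).obj P) (Y := y)
      (CategoricalPullback.mkIso i j hw)
  refine ⟨P, e, ?_⟩
  rw [fp_isHomLift_iff]
  exact hi

theorem isEquivOver_fpMap (hα : FibCat.IsEquivOver α) (hβ : FibCat.IsEquivOver β)
    [γ.toFunctor.Full] [γ.toFunctor.Faithful] : FibCat.IsEquivOver (fpMap e₁ e₂) := by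
  have := IsEquivOver.isEquivalence hα
  have := IsEquivOver.isEquivalence hβ
  have := fpMap_faithful e₁ e₂
  have := fpMap_full e₁ e₂
  exact isEquivOver_of_ff _
    (fpMap_ess e₁ e₂ (IsEquivOver.exists_iso hα) (IsEquivOver.exists_iso hβ))

/-- `(G ⋙ b') ⋙ b ≅ 𝟭 ⋙ G` from `b' ⋙ b ≅ 𝟭`. -/
def compInvIso (G : 𝒲 ⥤ᵇ 𝒮) (b' : 𝒮 ⥤ᵇ 𝒮') (b : 𝒮' ⥤ᵇ 𝒮)
    (ε : BasedFunctor.comp b' b ≅ BasedFunctor.id 𝒮) :
    BasedFunctor.comp (BasedFunctor.comp G b') b ≅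
      BasedFunctor.comp (BasedFunctor.id 𝒲) G :=
  BasedNatIso.mkNatIso (isoWhiskerLeft G.toFunctor (natIsoOfBased ε))
    (fun A => BasedNatTrans.isHomLift ε.hom (G.w_obj A))

end FpMap

end Groth.Agent.Lib.Helper10.Fib
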