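import Mathlib
import Groth.Prelude.Def_AlgSt3
import Groth.Agent.Lib.Helper10.FibBC
import Groth.Agent.Lib.Helper10.StkPost

/-!
# Representability by algebraic spaces with a property: invariance under equivalences

* `secHom_eq_of_hom`, `spMapOfOver_congr`: the map of sheaves `F ⟶ h_U` attached to a functor
  `ofSp F ⟶ (Sch/U)` over the base only depends on the functor up to morphisms over identities.
* `repWith_of_equiv`, `repWith_of_equiv'`: transport of "representable by an algebraic space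
  whose map to `U` has `P`" along an equivalence over the base compatible with projections to
  `(Sch/U)`.
-/

set_option autoImplicit false
set_option backward.isDefEq.respectTransparency false
set_option backward.isDefEq.respectTransparency.types false

universe w' v' w v u

open CategoryTheory CategoryTheory.Limits AlgebraicGeometry Opposite

namespace Groth.Agent.Lib.Helper10.AlgStRep

open Groth.Agent.Lib.Helper10.Fib

variable {S : Scheme.{u}}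

lemma secHom_eq_of_hom {F : AlgSp.Sp S} {U : Over S}
    (Φ Φ' : AlgSt.ofSp F ⥤ᵇ FibCat.overCat U) (a : (AlgSt.ofSp F).obj)
    (k : Φ.obj a ⟶ Φ'.obj a) (hk : (FibCat.overCat U).p.IsHomLift (𝟙 a.base) k) :
    AlgSt.secHom Φ a = AlgSt.secHom Φ' a := by
  have h1 : k.left ≫ (Φ'.obj a).hom = (Φ.obj a).hom := Over.w k
  have h2 : k.left = eqToHom (Φ.w_obj a) ≫ 𝟙 a.base ≫ eqToHom (Φ'.w_obj a).symm :=
    IsHomLift.fac' (FibCat.overCat U).p (𝟙 a.base) k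
  simp only [AlgSt.secHom, ← h1, h2, Category.assoc, Category.id_comp, eqToHom_trans_assoc,
    eqToHom_refl]
  exact Category.id_comp _

theorem spMapOfOver_congr {F : AlgSp.Sp S} {U : Over S}
    (Φ Φ' : AlgSt.ofSp F ⥤ᵇ FibCat.overCat U)
    (h : ∀ a : (AlgSt.ofSp F).obj, ∃ k : Φ.obj a ⟶ Φ'.obj a,
      (FibCat.overCat U).p.IsHomLift (𝟙 a.base) k) :
    AlgSt.spMapOfOver Φ = AlgSt.spMapOfOver Φ' := by
  apply ObjectProperty.hom_ext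
  apply NatTrans.ext
  funext T
  ext x
  obtain ⟨T⟩ := T
  obtain ⟨k, hk⟩ := h ⟨T, x⟩
  exact (AlgSt.spMapOfOver_app Φ T x).trans
    ((congrArg ULift.up (secHom_eq_of_hom Φ Φ' ⟨T, x⟩ k hk)).trans
      (AlgSt.spMapOfOver_app Φ' T x).symm)

section Transport

variable {U : Over S} {𝒜 : BasedCategory.{v, w} (Over S)} {ℬ : BasedCategory.{v', w'} (Over S)}

theorem repWith_of_equiv (P : MorphismProperty (AlgSp.Sp S)) (M : 𝒜 ⥤ᵇ ℬ)
    (hM : FibCat.IsEquivOver M) (pA : 𝒜 ⥤ᵇ FibCat.overCat U) (pB : ℬ ⥤ᵇ FibCat.overCat U)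
    (h : ∀ Q : 𝒜.obj, ∃ k : pB.obj (M.obj Q) ≅ pA.obj Q,
      (FibCat.overCat U).p.IsHomLift (𝟙 (𝒜.p.obj Q)) k.hom)
    (hA : ∃ (F : AlgSp.Space S) (e : AlgSt.ofSp F.obj ⥤ᵇ 𝒜),
      FibCat.IsEquivOver e ∧ P (AlgSt.spMapOfOver (BasedFunctor.comp e pA))) :
    ∃ (F : AlgSp.Space S) (e : AlgSt.ofSp F.obj ⥤ᵇ ℬ),
      FibCat.IsEquivOver e ∧ P (AlgSt.spMapOfOver (BasedFunctor.comp e pB)) := by
  obtain ⟨F, e, he, hP⟩ := hA
  refine ⟨F, BasedFunctor.comp e M, isEquivOver_comp e M he hM, ?_⟩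
  have key : AlgSt.spMapOfOver (BasedFunctor.comp (BasedFunctor.comp e M) pB) =
      AlgSt.spMapOfOver (BasedFunctor.comp e pA) := by
    apply spMapOfOver_congr
    intro a
    obtain ⟨k, hk⟩ := h (e.obj a)
    have := hk
    exact ⟨k.hom, isHomLift_id_of_eq _ (e.w_obj a) k.hom⟩
  rw [key]
  exact hP

theorem repWith_of_equiv' (P : MorphismProperty (AlgSp.Sp S)) (M : 𝒜 ⥤ᵇ ℬ)
    (hM : FibCat.IsEquivOver M) (pA : 𝒜 ⥤ᵇ FibCat.overCat U) (pB : ℬ ⥤ᵇ FibCat.overCat U)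
    (h : ∀ Q : 𝒜.obj, ∃ k : pB.obj (M.obj Q) ≅ pA.obj Q,
      (FibCat.overCat U).p.IsHomLift (𝟙 (𝒜.p.obj Q)) k.hom)
    (hB : ∃ (F : AlgSp.Space S) (e : AlgSt.ofSp F.obj ⥤ᵇ ℬ),
      FibCat.IsEquivOver e ∧ P (AlgSt.spMapOfOver (BasedFunctor.comp e pB))) :
    ∃ (F : AlgSp.Space S) (e : AlgSt.ofSp F.obj ⥤ᵇ 𝒜),
      FibCat.IsEquivOver e ∧ P (AlgSt.spMapOfOver (BasedFunctor.comp e pA)) := by
  obtain ⟨M', ⟨η⟩, ⟨ε⟩⟩ := hM
  refine repWith_of_equiv P M' ⟨M, ⟨ε⟩, ⟨η⟩⟩ pB pA ?_ hB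
  intro z
  obtain ⟨k, hk⟩ := h (M'.obj z)
  have hk' : (FibCat.overCat U).p.IsHomLift (𝟙 (ℬ.p.obj z)) k.hom :=
    isHomLift_id_of_eq _ (M'.w_obj z) k.hom
  have hk'' : (FibCat.overCat U).p.IsHomLift (𝟙 (ℬ.p.obj z)) k.inv :=
    lift_inv_of_lift _ k hk'
  have hε : ℬ.p.IsHomLift (𝟙 (ℬ.p.obj z)) ((natIsoOfBased ε).app z).hom := ε.hom.isHomLift' z
  have hε' : (FibCat.overCat U).p.IsHomLift (𝟙 (ℬ.p.obj z))
      (pB.map ((natIsoOfBased ε).app z).hom) := inferInstance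
  refine ⟨k.symm ≪≫ pB.toFunctor.mapIso ((natIsoOfBased ε).app z), ?_⟩
  have h0 : (FibCat.overCat U).p.IsHomLift (𝟙 (ℬ.p.obj z) ≫ 𝟙 (ℬ.p.obj z))
      (k.inv ≫ pB.map ((natIsoOfBased ε).app z).hom) := inferInstance
  rw [Category.comp_id] at h0
  exact h0

end Transport

section Setoid

theorem isFibSetoid_ofPsh {C : Type u} [Category.{v} C] (P : Cᵒᵖ ⥤ Type w) :
    FibCat.IsFibSetoid (Stk.ofPsh P).p := by
  refine ⟨Stk.isFibGrpd_ofPsh _, fun U X Y => ⟨fun ψ₁ ψ₂ => ?_⟩⟩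
  apply Subtype.ext
  apply Stk.EltObj.hom_ext
  have h1 := ψ₁.2
  have h2 := ψ₂.2
  exact (IsHomLift.fac' (Stk.EltObj.forget P) (𝟙 U) ψ₁.1).trans
    (IsHomLift.fac' (Stk.EltObj.forget P) (𝟙 U) ψ₂.1).symm

theorem isFibSetoid_of_repByAlgSp {𝒳 : BasedCategory.{v, w} (Over S)}
    (hr : AlgSt.RepByAlgSp 𝒳) : FibCat.IsFibSetoid 𝒳.p := by
  obtain ⟨F, e, he⟩ := hr
  exact Groth.Agent.Lib.Helper10.StkPost.isFibSetoid_of_isEquivOver e he (isFibSetoid_ofPsh _)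

end Setoid

section Faithful

variable {C : Type u} [Category.{v} C] {𝒳 : BasedCategory.{v, w} C}
  {𝒴 : BasedCategory.{v', w'} C}

/-- A functor over the base between categories fibred in groupoids is faithful as soon as every
endomorphism over an identity that it sends to an identity is an identity. -/
theorem faithful_of_aut (h𝒳 : FibCat.IsFibGrpd 𝒳.p) (h𝒴 : FibCat.IsFibGrpd 𝒴.p) (f : 𝒳 ⥤ᵇ 𝒴)
    (H : ∀ (x : 𝒳.obj) (χ : x ⟶ x), 𝒳.p.IsHomLift (𝟙 (𝒳.p.obj x)) χ → f.map χ = 𝟙 (f.obj x) →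
      χ = 𝟙 x) : f.toFunctor.Faithful := by
  constructor
  intro a b φ ψ h
  have hφ : 𝒳.p.IsHomLift (𝒳.p.map ψ) φ := by
    have : 𝒴.p.IsHomLift (𝒳.p.map ψ) (f.map φ) := by
      rw [h]
      infer_instance
    exact BasedFunctor.isHomLift_map f (𝒳.p.map ψ) φ
  have hsc : 𝒳.p.IsStronglyCartesian (𝒳.p.map ψ) ψ := IsFibGrpd.sc h𝒳 (𝒳.p.map ψ) ψ
  obtain ⟨χ, ⟨hχ1, hχ2⟩, -⟩ := Functor.IsStronglyCartesian.universal_property 𝒳.p
    (𝒳.p.map ψ) ψ (𝟙 (𝒳.p.obj a)) (𝒳.p.map ψ) (Category.id_comp _).symm φ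
  have := hχ1
  have hsc' : 𝒴.p.IsStronglyCartesian (𝒳.p.map ψ) (f.map ψ) :=
    IsFibGrpd.sc h𝒴 (𝒳.p.map ψ) (f.map ψ)
  have hid : 𝒴.p.IsHomLift (𝟙 (𝒳.p.obj a)) (𝟙 (f.obj a)) := IsHomLift.id (f.w_obj a)
  have e1 : f.map χ = 𝟙 (f.obj a) := by
    apply Functor.IsStronglyCartesian.ext 𝒴.p (𝒳.p.map ψ) (f.map ψ) (𝟙 (𝒳.p.obj a))
    rw [← f.toFunctor.map_comp, hχ2, Category.id_comp, h]
  have e2 := H a χ hχ1 e1
  rw [← hχ2, e2, Category.id_comp]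

end Faithful

section Mono

variable {S : Scheme.{u}}

lemma injective_of_mono {F G : AlgSp.Sp S} (a : F ⟶ G) [Mono a] (T : (Over S)ᵒᵖ) :
    Function.Injective (a.hom.app T) := by
  have h1 : Mono a.hom := inferInstance
  have h2 : Mono (a.hom.app T) := inferInstance
  exact (mono_iff_injective _).1 h2

lemma secHom_eq_id {F : AlgSp.Sp S} {T : Over S} (Φ : AlgSt.ofSp F ⥤ᵇ FibCat.overCat T)
    (s : F.obj.obj (op T)) (k : Φ.obj ⟨T, s⟩ ⟶ Over.mk (𝟙 T))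
    (hk : (FibCat.overCat T).p.IsHomLift (𝟙 T) k) :
    AlgSt.secHom Φ ⟨T, s⟩ = 𝟙 T := by
  have h1 : k.left ≫ (Over.mk (𝟙 T)).hom = (Φ.obj ⟨T, s⟩).hom := Over.w k
  have h2 : k.left = eqToHom (Φ.w_obj ⟨T, s⟩) ≫ 𝟙 T ≫ eqToHom rfl :=
    IsHomLift.fac' (FibCat.overCat T).p (𝟙 T) k
  simp only [AlgSt.secHom, ← h1, h2]
  simp

/-- The core of "monomorphisms are fully faithful": a morphism `j x ⟶ j x'` over an identity
is the image of a morphism `x ⟶ x'`. -/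
theorem exists_preimage_of_isMono {𝒳 : BasedCategory.{v, w} (Over S)}
    {𝒴 : BasedCategory.{v', w'} (Over S)} (h𝒴 : FibCat.IsFibGrpd 𝒴.p) (j : 𝒳 ⥤ᵇ 𝒴)
    (hj : AlgSt.IsMono j) (x x' : 𝒳.obj) (h : j.obj x ⟶ j.obj x')
    (hh : 𝒴.p.IsHomLift (𝟙 (𝒳.p.obj x')) h) : ∃ ψ : x ⟶ x', j.map ψ = h := by
  obtain ⟨y, -, ⟨i⟩⟩ := yoneda_essSurj (𝒳.p.obj x')
    (⟨j.obj x', j.w_obj x'⟩ : 𝒴.p.Fiber (𝒳.p.obj x'))
    (fun V g => IsFibGrpd.exists_lift' h𝒴 (j.w_obj x') g)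
  let I : y.obj (Over.mk (𝟙 (𝒳.p.obj x'))) ≅ j.obj x' := Functor.Fiber.fiberInclusion.mapIso i
  have hI : 𝒴.p.IsHomLift (𝟙 (𝒳.p.obj x')) I.hom := i.hom.2
  have hiso : IsIso h := IsFibGrpd.isIso_of_isHomLift_id h𝒴 (U := 𝒳.p.obj x') h
  let H : j.obj x ≅ j.obj x' := asIso h
  have hHinv : 𝒴.p.IsHomLift (𝟙 (𝒳.p.obj x')) H.inv := lift_inv_of_lift 𝒴.p H hh
  have hI' : 𝒴.p.IsHomLift (𝟙 (𝒳.p.obj x')) (I.hom ≫ H.inv) := by
    have h0 : 𝒴.p.IsHomLift (𝟙 (𝒳.p.obj x') ≫ 𝟙 (𝒳.p.obj x')) (I.hom ≫ H.inv) := inferInstance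
    rw [Category.comp_id] at h0
    exact h0
  let Z : (FibCat.fp y j).obj := ⟨⟨Over.mk (𝟙 (𝒳.p.obj x')), x', I⟩, hI⟩
  let Z' : (FibCat.fp y j).obj := ⟨⟨Over.mk (𝟙 (𝒳.p.obj x')), x, I ≪≫ H.symm⟩, hI'⟩
  obtain ⟨F, e, he, hmono⟩ := hj (𝒳.p.obj x') y
  have hmono' : Mono (AlgSt.spMapOfOver (BasedFunctor.comp e (FibCat.fpFst y j))) := hmono
  obtain ⟨a, κ, hκ⟩ := IsEquivOver.exists_iso he Z
  obtain ⟨a', κ', hκ'⟩ := IsEquivOver.exists_iso he Z'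
  have hκ1 : (FibCat.fp y j).p.IsHomLift (𝟙 (𝒳.p.obj x')) κ.hom := hκ
  have hκ'1 : (FibCat.fp y j).p.IsHomLift (𝟙 (𝒳.p.obj x')) κ'.hom := hκ'
  have hb : a.base = 𝒳.p.obj x' :=
    (e.w_obj a).symm.trans (IsHomLift.domain_eq (FibCat.fp y j).p (𝟙 (𝒳.p.obj x')) κ.hom)
  have hb' : a'.base = 𝒳.p.obj x' :=
    (e.w_obj a').symm.trans (IsHomLift.domain_eq (FibCat.fp y j).p (𝟙 (𝒳.p.obj x')) κ'.hom)
  obtain ⟨B, s⟩ := a
  obtain ⟨B', s'⟩ := a'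
  change B = 𝒳.p.obj x' at hb
  change B' = 𝒳.p.obj x' at hb'
  subst hb
  subst hb'
  have hk : (FibCat.overCat (𝒳.p.obj x')).p.IsHomLift (𝟙 (𝒳.p.obj x')) κ.hom.hom.fst :=
    (fp_isHomLift_iff y j κ.hom (𝟙 (𝒳.p.obj x'))).1 hκ1
  have hk' : (FibCat.overCat (𝒳.p.obj x')).p.IsHomLift (𝟙 (𝒳.p.obj x')) κ'.hom.hom.fst :=
    (fp_isHomLift_iff y j κ'.hom (𝟙 (𝒳.p.obj x'))).1 hκ'1
  have e1 := secHom_eq_id (BasedFunctor.comp e (FibCat.fpFst y j)) s κ.hom.hom.fst hk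
  have e2 := secHom_eq_id (BasedFunctor.comp e (FibCat.fpFst y j)) s' κ'.hom.hom.fst hk'
  have hs : (AlgSt.spMapOfOver (BasedFunctor.comp e (FibCat.fpFst y j))).hom.app
        (op (𝒳.p.obj x')) s =
      (AlgSt.spMapOfOver (BasedFunctor.comp e (FibCat.fpFst y j))).hom.app
        (op (𝒳.p.obj x')) s' :=
    (AlgSt.spMapOfOver_app _ _ s).trans ((congrArg ULift.up (e1.trans e2.symm)).trans
      (AlgSt.spMapOfOver_app _ _ s').symm)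
  have hss : s = s' := injective_of_mono _ _ hs
  subst hss
  let lam : Z' ≅ Z := κ'.symm ≪≫ κ
  have w : y.map lam.hom.hom.fst ≫ I.hom = (I.hom ≫ inv h) ≫ j.map lam.hom.hom.snd :=
    lam.hom.hom.w
  have e3 : lam.hom.hom.fst = 𝟙 (Over.mk (𝟙 (𝒳.p.obj x'))) := by
    apply Over.OverMorphism.ext
    have h3 := Over.w lam.hom.hom.fst
    exact (Category.comp_id _).symm.trans h3
  have w' : I.hom = (I.hom ≫ inv h) ≫ j.map lam.hom.hom.snd :=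
    ((Category.id_comp I.hom).symm.trans (congrArg (fun t => t ≫ I.hom)
      ((y.toFunctor.map_id _).symm.trans (congrArg (fun t => y.map t) e3.symm)))).trans w
  have e4 : 𝟙 _ = inv h ≫ j.map lam.hom.hom.snd :=
    (cancel_epi I.hom).1 ((Category.comp_id _).trans (w'.trans (Category.assoc _ _ _)))
  refine ⟨lam.hom.hom.snd, ?_⟩
  have e5 : h ≫ 𝟙 _ = h ≫ inv h ≫ j.map lam.hom.hom.snd := congrArg (fun t => h ≫ t) e4
  rw [Category.comp_id, IsIso.hom_inv_id_assoc] at e5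
  exact e5.symm

end Mono

end Groth.Agent.Lib.Helper10.AlgStRep
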