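import Mathlib
import Groth.Prelude.Def_AlgSt2
import Groth.Agent.Lib.Helper10.AlgStRep
import Groth.Agent.Lib.Helper10.StkPost

/-!
# Algebraic stacks: invariance under equivalences over the base

* `repByAlgSp_of_isEquivOver`, `repByAlgSp1_of_square`, `repByAlgSpWith_of_square`,
  `hasAtlas_of_isEquivOver`.
* `prodMap e = e × e`, `isEquivOver_prodMap`, `diagSquare`, `repByAlgSp1_diag_of_isEquivOver`.
* `isAlgStack_of_isEquivOver`, `isDM_of_isEquivOver`.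
-/

set_option autoImplicit false
set_option backward.isDefEq.respectTransparency false
set_option backward.isDefEq.respectTransparency.types false

universe w₄ v₄ w₃ v₃ w₂ v₂ w₁ v₁ v₀ u₀ u

open CategoryTheory CategoryTheory.Limits AlgebraicGeometry Opposite

namespace Groth.Agent.Lib.Helper10.AlgStRep

open Groth.Agent.Lib.Helper10.Fib

section Square

variable {S : Scheme.{u}} {𝒳 : BasedCategory.{v₁, w₁} (Over S)} {𝒴 : BasedCategory.{v₂, w₂} (Over S)}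
  {𝒳' : BasedCategory.{v₃, w₃} (Over S)} {𝒴' : BasedCategory.{v₄, w₄} (Over S)}

theorem repByAlgSp_of_isEquivOver (M : 𝒳 ⥤ᵇ 𝒴) (hM : FibCat.IsEquivOver M)
    (h : AlgSt.RepByAlgSp 𝒳) : AlgSt.RepByAlgSp 𝒴 := by
  obtain ⟨F, e, he⟩ := h
  exact ⟨F, BasedFunctor.comp e M, isEquivOver_comp e M he hM⟩

theorem repByAlgSp1_of_square (f : 𝒳 ⥤ᵇ 𝒴) (f' : 𝒳' ⥤ᵇ 𝒴') (a : 𝒳' ⥤ᵇ 𝒳) (b : 𝒴' ⥤ᵇ 𝒴)
    (ha : FibCat.IsEquivOver a) (hb : FibCat.IsEquivOver b)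
    (e : BasedFunctor.comp f' b ≅ BasedFunctor.comp a f) (hf' : AlgSt.RepByAlgSp1 f') :
    AlgSt.RepByAlgSp1 f := by
  intro U y
  have := IsEquivOver.isEquivalence hb
  obtain ⟨b', ⟨η⟩, ⟨ε⟩⟩ := hb
  let e₁ := compInvIso y b' b ε
  have h2 := isEquivOver_fpMap e₁ e (isEquivOver_id _) ha
  exact repByAlgSp_of_isEquivOver (fpMap e₁ e) h2 (hf' U (BasedFunctor.comp y b'))

theorem repByAlgSpWith_of_square (P : MorphismProperty (AlgSp.Sp S)) (f : 𝒳 ⥤ᵇ 𝒴)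
    (f' : 𝒳' ⥤ᵇ 𝒴') (a : 𝒳' ⥤ᵇ 𝒳) (b : 𝒴' ⥤ᵇ 𝒴)
    (ha : FibCat.IsEquivOver a) (hb : FibCat.IsEquivOver b)
    (e : BasedFunctor.comp f' b ≅ BasedFunctor.comp a f) (hf' : AlgSt.RepByAlgSpWith P f') :
    AlgSt.RepByAlgSpWith P f := by
  intro U y
  have := IsEquivOver.isEquivalence hb
  obtain ⟨b', ⟨η⟩, ⟨ε⟩⟩ := hb
  let e₁ := compInvIso y b' b ε
  have h2 := isEquivOver_fpMap e₁ e (isEquivOver_id _) ha
  exact repWith_of_equiv P (fpMap e₁ e) h2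
    (FibCat.fpFst (BasedFunctor.comp y b') f') (FibCat.fpFst y f)
    (fun Q => ⟨Iso.refl _, IsHomLift.id rfl⟩) (hf' U (BasedFunctor.comp y b'))

theorem repByAlgSpWith_comp_equiv (P : MorphismProperty (AlgSp.Sp S)) {U : Over S}
    (x : FibCat.overCat U ⥤ᵇ 𝒳) (e : 𝒳 ⥤ᵇ 𝒴) (he : FibCat.IsEquivOver e)
    (hx : AlgSt.RepByAlgSpWith P x) : AlgSt.RepByAlgSpWith P (BasedFunctor.comp x e) :=
  repByAlgSpWith_of_square P (BasedFunctor.comp x e) x (BasedFunctor.id _) e (isEquivOver_id _) he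
    (Iso.refl _) hx

theorem hasAtlas_of_isEquivOver (P : MorphismProperty (AlgSp.Sp S)) (e : 𝒳 ⥤ᵇ 𝒴)
    (he : FibCat.IsEquivOver e) (h : AlgSt.HasAtlas P 𝒳) : AlgSt.HasAtlas P 𝒴 := by
  obtain ⟨U, x, h1, h2⟩ := h
  exact ⟨U, BasedFunctor.comp x e, repByAlgSpWith_comp_equiv P x e he h1,
    repByAlgSpWith_comp_equiv _ x e he h2⟩

end Square

section Diag

variable {C : Type u₀} [Category.{v₀} C] {𝒳 : BasedCategory.{v₁, w₁} C}
  {𝒴 : BasedCategory.{v₂, w₂} C} (e : 𝒳 ⥤ᵇ 𝒴)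

lemma id_full (𝒮 : BasedCategory.{v₃, w₃} C) : (BasedFunctor.id 𝒮).toFunctor.Full := by
  change (𝟭 𝒮.obj).Full
  infer_instance

lemma id_faithful (𝒮 : BasedCategory.{v₃, w₃} C) : (BasedFunctor.id 𝒮).toFunctor.Faithful := by
  change (𝟭 𝒮.obj).Faithful
  infer_instance

/-- The functor `e × e : 𝒳 ×_C 𝒳 ⟶ 𝒴 ×_C 𝒴`. -/
def prodMap : FibCat.fp (FibCat.toSelf 𝒳) (FibCat.toSelf 𝒳) ⥤ᵇ
    FibCat.fp (FibCat.toSelf 𝒴) (FibCat.toSelf 𝒴) :=
  fpMap (γ := BasedFunctor.id (FibCat.selfOver C))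
    (selfIso (BasedFunctor.comp (FibCat.toSelf 𝒳) (BasedFunctor.id (FibCat.selfOver C)))
      (BasedFunctor.comp e (FibCat.toSelf 𝒴)))
    (selfIso (BasedFunctor.comp (FibCat.toSelf 𝒳) (BasedFunctor.id (FibCat.selfOver C)))
      (BasedFunctor.comp e (FibCat.toSelf 𝒴)))

theorem isEquivOver_prodMap (he : FibCat.IsEquivOver e) : FibCat.IsEquivOver (prodMap e) := by
  have := id_full (FibCat.selfOver C)
  have := id_faithful (FibCat.selfOver C)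
  exact isEquivOver_fpMap _ _ he he

/-- Component of `diagSquare`. -/
def diagSquareApp (x : 𝒳.obj) :
    (prodMap e).obj ((FibCat.diag (FibCat.toSelf 𝒳)).obj x) ≅
      (FibCat.diag (FibCat.toSelf 𝒴)).obj (e.obj x) where
  hom := fpSelfHom (Z := (prodMap e).obj ((FibCat.diag (FibCat.toSelf 𝒳)).obj x))
    (X := (FibCat.diag (FibCat.toSelf 𝒴)).obj (e.obj x)) (𝟙 (𝒴.p.obj (e.obj x)))
    (𝟙 (e.obj x)) (𝟙 (e.obj x)) (IsHomLift.id rfl) (IsHomLift.id rfl)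
  inv := fpSelfHom (Z := (FibCat.diag (FibCat.toSelf 𝒴)).obj (e.obj x))
    (X := (prodMap e).obj ((FibCat.diag (FibCat.toSelf 𝒳)).obj x)) (𝟙 (𝒴.p.obj (e.obj x)))
    (𝟙 (e.obj x)) (𝟙 (e.obj x)) (IsHomLift.id rfl) (IsHomLift.id rfl)
  hom_inv_id := by
    apply ObjectProperty.hom_ext
    apply CategoricalPullback.hom_ext
    · exact Category.id_comp _
    · exact Category.id_comp _
  inv_hom_id := by
    apply ObjectProperty.hom_ext
    apply CategoricalPullback.hom_ext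
    · exact Category.id_comp _
    · exact Category.id_comp _

/-- The square `Δ_𝒳 ⋙ (e × e) ≅ e ⋙ Δ_𝒴`. -/
def diagSquare : BasedFunctor.comp (FibCat.diag (FibCat.toSelf 𝒳)) (prodMap e) ≅
    BasedFunctor.comp e (FibCat.diag (FibCat.toSelf 𝒴)) :=
  BasedNatIso.mkNatIso
    (NatIso.ofComponents (fun x => diagSquareApp e x) (fun {x x'} k => by
      apply ObjectProperty.hom_ext
      apply CategoricalPullback.hom_ext
      · exact (Category.comp_id _).trans (Category.id_comp _).symm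
      · exact (Category.comp_id _).trans (Category.id_comp _).symm))
    (fun x => by
      rw [fp_isHomLift_iff]
      exact IsHomLift.id (e.w_obj x))

end Diag

section AlgStack

variable {S : Scheme.{u}} {𝒳 : BasedCategory.{v₁, w₁} (Over S)} {𝒴 : BasedCategory.{v₂, w₂} (Over S)}

theorem repByAlgSp1_diag_of_isEquivOver (e : 𝒳 ⥤ᵇ 𝒴) (he : FibCat.IsEquivOver e)
    (h : AlgSt.RepByAlgSp1 (FibCat.diag (FibCat.toSelf 𝒳))) :
    AlgSt.RepByAlgSp1 (FibCat.diag (FibCat.toSelf 𝒴)) :=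
  repByAlgSp1_of_square (FibCat.diag (FibCat.toSelf 𝒴)) (FibCat.diag (FibCat.toSelf 𝒳)) e
    (prodMap e) he (isEquivOver_prodMap e he) (diagSquare e) h

theorem isAlgStack_of_isEquivOver (K : Precoverage Scheme.{u}) (e : 𝒳 ⥤ᵇ 𝒴)
    (he : FibCat.IsEquivOver e) (h : AlgSt.IsAlgStack K 𝒳) : AlgSt.IsAlgStack K 𝒴 :=
  ⟨(Groth.Agent.Lib.Helper10.StkPost.isStack_iff_of_isEquivOver _ e he).1 h.isStack,
    repByAlgSp1_diag_of_isEquivOver e he h.diag,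
    hasAtlas_of_isEquivOver _ e he h.atlas⟩

theorem isDM_of_isEquivOver (K : Precoverage Scheme.{u}) (e : 𝒳 ⥤ᵇ 𝒴)
    (he : FibCat.IsEquivOver e) (h : AlgSt.IsDM K 𝒳) : AlgSt.IsDM K 𝒴 :=
  ⟨isAlgStack_of_isEquivOver K e he h.1, hasAtlas_of_isEquivOver _ e he h.2⟩

end AlgStack

end Groth.Agent.Lib.Helper10.AlgStRep
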