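import Mathlib
import Groth.Prelude.Def_FibCat2
import Groth.Agent.Lib.Helper10.FibBC
import Groth.Agent.Lib.Helper10.Fib7

/-!
# The diagonal of a base change is a base change of the diagonal

For `f : 𝒳 ⟶ 𝒴`, `g : 𝒵 ⟶ 𝒴` over the base, with `π : 𝒵 ×_𝒴 𝒳 ⟶ 𝒵` the first projection, the square

    𝒵 ×_𝒴 𝒳 ──Δ_π──▶ (𝒵 ×_𝒴 𝒳) ×_𝒵 (𝒵 ×_𝒴 𝒳)
        │                      │ diagN
        ▼                      ▼
        𝒳 ─────Δ_f────▶ 𝒳 ×_𝒴 𝒳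

is 2-cartesian (for categories fibred in groupoids): `diagLam f g` is the comparison functor to
the 2-fibre product, and `isEquivOver_diagLam` says it is an equivalence over the base.
-/

set_option autoImplicit false

universe v₅ u₅ v₄ u₄ v₃ u₃ v₂ u₂ v u

open CategoryTheory Functor CategoryTheory.Limits

namespace Groth.Agent.Lib.Helper10.Fib

section DiagBC

variable {C : Type u} [Category.{v} C] {𝒳 : BasedCategory.{v₂, u₂} C}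
  {𝒴 : BasedCategory.{v₃, u₃} C} {𝒵 : BasedCategory.{v₄, u₄} C}
  (f : 𝒳 ⥤ᵇ 𝒴) (g : 𝒵 ⥤ᵇ 𝒴)

/-- `pr₂ × pr₂ : (𝒵 ×_𝒴 𝒳) ×_𝒵 (𝒵 ×_𝒴 𝒳) ⟶ 𝒳 ×_𝒴 𝒳`. -/
def diagN : FibCat.fp (FibCat.fpFst g f) (FibCat.fpFst g f) ⥤ᵇ FibCat.fp f f :=
  fpMap (FibCat.fpIso g f) (FibCat.fpIso g f)

/-- The structure isomorphism of an object of `𝒵 ×_𝒴 𝒳`. -/
def pθ (p : (FibCat.fp g f).obj) : g.obj p.obj.fst ≅ f.obj p.obj.snd := p.obj.iso

lemma diagN_iso_hom (q : (FibCat.fp (FibCat.fpFst g f) (FibCat.fpFst g f)).obj) :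
    ((diagN f g).obj q).obj.iso.hom =
      (pθ f g q.obj.fst).inv ≫ g.map q.obj.iso.hom ≫ (pθ f g q.obj.snd).hom := rfl

/-- The 2-isomorphism of the square, at an object. -/
def diagJ (w : (FibCat.fp g f).obj) :
    (diagN f g).obj ((FibCat.diag (FibCat.fpFst g f)).obj w) ≅
      (FibCat.diag f).obj ((FibCat.fpSnd g f).obj w) :=
  (FibCat.fpProp f f).isoMk
    (X := (diagN f g).obj ((FibCat.diag (FibCat.fpFst g f)).obj w))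
    (Y := (FibCat.diag f).obj ((FibCat.fpSnd g f).obj w))
    (CategoricalPullback.mkIso (Iso.refl _) (Iso.refl _) (by
      show f.map (𝟙 w.obj.snd) ≫ 𝟙 (f.obj w.obj.snd) =
        ((pθ f g w).inv ≫ g.map (𝟙 w.obj.fst) ≫ (pθ f g w).hom) ≫ f.map (𝟙 w.obj.snd)
      rw [g.toFunctor.map_id, Category.id_comp, Iso.inv_hom_id, f.toFunctor.map_id]))

lemma diagJ_lift (w : (FibCat.fp g f).obj) :
    (FibCat.fp f f).p.IsHomLift (𝟙 ((FibCat.fp g f).p.obj w)) (diagJ f g w).hom := by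
  rw [fp_isHomLift_iff]
  exact IsHomLift.id ((FibCat.fpSnd g f).w_obj w)

/-- Object map of the comparison functor. -/
def diagLamObj (w : (FibCat.fp g f).obj) : (FibCat.fp (diagN f g) (FibCat.diag f)).obj :=
  ⟨⟨(FibCat.diag (FibCat.fpFst g f)).obj w, (FibCat.fpSnd g f).obj w, diagJ f g w⟩,
    diagJ_lift f g w⟩

/-- Morphism map of the comparison functor. -/
def diagLamMap {w w' : (FibCat.fp g f).obj} (m : w ⟶ w') :
    diagLamObj f g w ⟶ diagLamObj f g w' :=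
  ObjectProperty.homMk ⟨(FibCat.diag (FibCat.fpFst g f)).map m, (FibCat.fpSnd g f).map m, by
    apply ObjectProperty.hom_ext
    apply CategoricalPullback.hom_ext
    · exact (Category.comp_id _).trans (Category.id_comp _).symm
    · exact (Category.comp_id _).trans (Category.id_comp _).symm⟩

/-- The comparison functor `𝒵 ×_𝒴 𝒳 ⟶ ((𝒵 ×_𝒴 𝒳) ×_𝒵 (𝒵 ×_𝒴 𝒳)) ×_{𝒳 ×_𝒴 𝒳} 𝒳`. -/
def diagLam : FibCat.fp g f ⥤ᵇ FibCat.fp (diagN f g) (FibCat.diag f) where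
  toFunctor :=
    { obj := diagLamObj f g
      map := diagLamMap f g
      map_id := fun w => by
        apply ObjectProperty.hom_ext
        apply CategoricalPullback.hom_ext
        · exact (FibCat.diag (FibCat.fpFst g f)).toFunctor.map_id _
        · exact (FibCat.fpSnd g f).toFunctor.map_id _
      map_comp := fun m m' => by
        apply ObjectProperty.hom_ext
        apply CategoricalPullback.hom_ext
        · exact (FibCat.diag (FibCat.fpFst g f)).toFunctor.map_comp _ _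
        · exact (FibCat.fpSnd g f).toFunctor.map_comp _ _ }
  w := rfl

theorem diagLam_faithful : (diagLam f g).toFunctor.Faithful := ⟨fun {w w'} m m' hm =>
  congrArg (fun t => t.hom.fst.hom.fst) hm⟩

theorem diagLam_full : (diagLam f g).toFunctor.Full := ⟨fun {w w'} n => by
  obtain ⟨n₁, hn₁⟩ : ∃ n₁ : w ⟶ w', n₁ = n.hom.fst.hom.fst := ⟨_, rfl⟩
  obtain ⟨n₂, hn₂⟩ : ∃ n₂ : w ⟶ w', n₂ = n.hom.fst.hom.snd := ⟨_, rfl⟩
  obtain ⟨r, hr⟩ : ∃ r : w.obj.snd ⟶ w'.obj.snd, r = n.hom.snd := ⟨_, rfl⟩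
  have h1 : n₁.hom.fst ≫ 𝟙 _ = 𝟙 _ ≫ n₂.hom.fst := by
    rw [hn₁, hn₂]
    exact n.hom.fst.hom.w
  have h2 : n₁.hom.snd ≫ 𝟙 _ = 𝟙 _ ≫ r := by
    rw [hn₁, hr]
    exact congrArg (fun t => t.hom.fst) n.hom.w
  have h3 : n₂.hom.snd ≫ 𝟙 _ = 𝟙 _ ≫ r := by
    rw [hn₂, hr]
    exact congrArg (fun t => t.hom.snd) n.hom.w
  rw [Category.comp_id, Category.id_comp] at h1 h2 h3
  have h12 : n₁ = n₂ := by
    apply ObjectProperty.hom_ext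
    apply CategoricalPullback.hom_ext
    · exact h1
    · exact h2.trans h3.symm
  refine ⟨n₁, ?_⟩
  apply ObjectProperty.hom_ext
  apply CategoricalPullback.hom_ext
  · apply ObjectProperty.hom_ext
    apply CategoricalPullback.hom_ext
    · exact hn₁
    · exact h12.trans hn₂
  · exact h2.trans hr⟩

theorem diagLam_ess (h𝒳 : FibCat.IsFibGrpd 𝒳.p) (h𝒴 : FibCat.IsFibGrpd 𝒴.p)
    (h𝒵 : FibCat.IsFibGrpd 𝒵.p) (y₀ : (FibCat.fp (diagN f g) (FibCat.diag f)).obj) :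
    ∃ (w : (FibCat.fp g f).obj) (e : (diagLam f g).obj w ≅ y₀),
      (FibCat.fp (diagN f g) (FibCat.diag f)).p.IsHomLift
        (𝟙 ((FibCat.fp (diagN f g) (FibCat.diag f)).p.obj y₀)) e.hom := by
  have h𝒫 : FibCat.IsFibGrpd (FibCat.fp g f).p := isFibGrpd_fp g f h𝒵 h𝒳 h𝒴
  have hPP : FibCat.IsFibGrpd (FibCat.fp (FibCat.fpFst g f) (FibCat.fpFst g f)).p :=
    isFibGrpd_fp _ _ h𝒫 h𝒫 h𝒵
  have hXX : FibCat.IsFibGrpd (FibCat.fp f f).p := isFibGrpd_fp f f h𝒳 h𝒳 h𝒴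
  have hT : FibCat.IsFibGrpd (FibCat.fp (diagN f g) (FibCat.diag f)).p :=
    isFibGrpd_fp _ _ hPP h𝒳 hXX
  -- components
  let p₁ : (FibCat.fp g f).obj := y₀.obj.fst.obj.fst
  let p₂ : (FibCat.fp g f).obj := y₀.obj.fst.obj.snd
  let ζ : p₁.obj.fst ≅ p₂.obj.fst := y₀.obj.fst.obj.iso
  let B₁ : p₁.obj.snd ≅ y₀.obj.snd := (FibCat.fpFst f f).toFunctor.mapIso y₀.obj.iso
  let B₂ : p₂.obj.snd ≅ y₀.obj.snd := (FibCat.fpSnd f f).toFunctor.mapIso y₀.obj.iso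
  have hι : f.map B₁.hom ≫ 𝟙 (f.obj y₀.obj.snd) =
      ((pθ f g p₁).inv ≫ g.map ζ.hom ≫ (pθ f g p₂).hom) ≫ f.map B₂.hom := y₀.obj.iso.hom.hom.w
  have e2 : f.map B₂.hom ≫ f.map B₂.inv = 𝟙 _ := by
    rw [← f.toFunctor.map_comp, Iso.hom_inv_id, f.toFunctor.map_id]
  have hu : g.map ζ.hom ≫ (pθ f g p₂).hom = (pθ f g p₁).hom ≫ f.map (B₁.hom ≫ B₂.inv) := by
    rw [Category.comp_id] at hι
    rw [f.toFunctor.map_comp, hι]
    simp only [Category.assoc, Iso.hom_inv_id_assoc]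
    rw [e2, Category.comp_id]
  let u₂ : p₁ ⟶ p₂ := ObjectProperty.homMk ⟨ζ.hom, B₁.hom ≫ B₂.inv, hu⟩
  let U₀ : (FibCat.diag (FibCat.fpFst g f)).obj p₁ ⟶ y₀.obj.fst :=
    ObjectProperty.homMk ⟨𝟙 p₁, u₂, by
      show 𝟙 p₁.obj.fst ≫ ζ.hom = 𝟙 p₁.obj.fst ≫ ζ.hom
      rfl⟩
  let Φ : (diagLam f g).obj p₁ ⟶ y₀ := ObjectProperty.homMk ⟨U₀, B₁.hom, by
    apply ObjectProperty.hom_ext
    apply CategoricalPullback.hom_ext
    · show 𝟙 p₁.obj.snd ≫ B₁.hom = 𝟙 p₁.obj.snd ≫ B₁.hom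
      rfl
    · show (B₁.hom ≫ B₂.inv) ≫ B₂.hom = 𝟙 p₁.obj.snd ≫ B₁.hom
      rw [Category.assoc, Iso.inv_hom_id, Category.comp_id, Category.id_comp]⟩
  have hy₀ : (FibCat.fp f f).p.IsHomLift (𝟙 ((FibCat.fp g f).p.obj p₁)) y₀.obj.iso.hom :=
    y₀.property
  have hΦ : (FibCat.fp (diagN f g) (FibCat.diag f)).p.IsHomLift
      (𝟙 ((FibCat.fp g f).p.obj p₁)) Φ := by
    rw [fp_isHomLift_iff, fp_isHomLift_iff]
    exact IsHomLift.id rfl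
  have hiso : IsIso Φ := IsFibGrpd.isIso_of_isHomLift_id hT (U := (FibCat.fp g f).p.obj p₁) Φ
  exact ⟨p₁, asIso Φ, hΦ⟩

theorem isEquivOver_diagLam (h𝒳 : FibCat.IsFibGrpd 𝒳.p) (h𝒴 : FibCat.IsFibGrpd 𝒴.p)
    (h𝒵 : FibCat.IsFibGrpd 𝒵.p) : FibCat.IsEquivOver (diagLam f g) := by
  have := diagLam_faithful f g
  have := diagLam_full f g
  exact isEquivOver_of_ff _ (diagLam_ess f g h𝒳 h𝒴 h𝒵)

end DiagBC

section DiagMono

variable {C : Type u} [Category.{v} C] {𝒳 : BasedCategory.{v₂, u₂} C}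
  {𝒳' : BasedCategory.{v₃, u₃} C} {𝒴 : BasedCategory.{v₄, u₄} C}
  (i : 𝒳 ⥤ᵇ 𝒳') (g : 𝒳' ⥤ᵇ 𝒴)

/-- `i × i : 𝒳 ×_𝒴 𝒳 ⟶ 𝒳' ×_𝒴 𝒳'`. -/
def diagM : FibCat.fp (BasedFunctor.comp i g) (BasedFunctor.comp i g) ⥤ᵇ FibCat.fp g g :=
  FibCat.fpLift
    (BasedFunctor.comp (FibCat.fpFst (BasedFunctor.comp i g) (BasedFunctor.comp i g)) i)
    (BasedFunctor.comp (FibCat.fpSnd (BasedFunctor.comp i g) (BasedFunctor.comp i g)) i)
    (FibCat.fpIso (BasedFunctor.comp i g) (BasedFunctor.comp i g))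

/-- The comparison functor of the square `Δ_{g ∘ i}`, `i`, `i × i`, `Δ_g`. -/
def diagMonoLift : 𝒳 ⥤ᵇ FibCat.fp (diagM i g) (FibCat.diag g) :=
  FibCat.fpLift (F := diagM i g) (G := FibCat.diag g) (FibCat.diag (BasedFunctor.comp i g)) i
    (Iso.refl _)

theorem diagMonoLift_faithful : (diagMonoLift i g).toFunctor.Faithful :=
  ⟨fun {w w'} m m' hm => congrArg (fun t => t.hom.fst.hom.fst) hm⟩

theorem diagMonoLift_full [i.toFunctor.Faithful] : (diagMonoLift i g).toFunctor.Full :=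
  ⟨fun {x x'} n => by
  obtain ⟨n₁, hn₁⟩ : ∃ n₁ : x ⟶ x', n₁ = n.hom.fst.hom.fst := ⟨_, rfl⟩
  obtain ⟨n₂, hn₂⟩ : ∃ n₂ : x ⟶ x', n₂ = n.hom.fst.hom.snd := ⟨_, rfl⟩
  obtain ⟨r, hr⟩ : ∃ r : i.obj x ⟶ i.obj x', r = n.hom.snd := ⟨_, rfl⟩
  have h2 : i.map n₁ ≫ 𝟙 (i.obj x') = 𝟙 (i.obj x) ≫ r := by
    rw [hn₁, hr]
    exact congrArg (fun t => t.hom.fst) n.hom.w
  have h3 : i.map n₂ ≫ 𝟙 (i.obj x') = 𝟙 (i.obj x) ≫ r := by
    rw [hn₂, hr]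
    exact congrArg (fun t => t.hom.snd) n.hom.w
  rw [Category.comp_id, Category.id_comp] at h2 h3
  have h12 : n₁ = n₂ := i.toFunctor.map_injective (h2.trans h3.symm)
  refine ⟨n₁, ?_⟩
  apply ObjectProperty.hom_ext
  apply CategoricalPullback.hom_ext
  · apply ObjectProperty.hom_ext
    apply CategoricalPullback.hom_ext
    · exact hn₁
    · exact h12.trans hn₂
  · exact h2.trans hr⟩

theorem diagMonoLift_ess [i.toFunctor.Full] [i.toFunctor.Faithful]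
    (h𝒳 : FibCat.IsFibGrpd 𝒳.p) (h𝒳' : FibCat.IsFibGrpd 𝒳'.p) (h𝒴 : FibCat.IsFibGrpd 𝒴.p)
    (y₀ : (FibCat.fp (diagM i g) (FibCat.diag g)).obj) :
    ∃ (x : 𝒳.obj) (e : (diagMonoLift i g).obj x ≅ y₀),
      (FibCat.fp (diagM i g) (FibCat.diag g)).p.IsHomLift
        (𝟙 ((FibCat.fp (diagM i g) (FibCat.diag g)).p.obj y₀)) e.hom := by
  have hHH : FibCat.IsFibGrpd
      (FibCat.fp (BasedFunctor.comp i g) (BasedFunctor.comp i g)).p :=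
    isFibGrpd_fp _ _ h𝒳 h𝒳 h𝒴
  have hGG : FibCat.IsFibGrpd (FibCat.fp g g).p := isFibGrpd_fp g g h𝒳' h𝒳' h𝒴
  have hT : FibCat.IsFibGrpd (FibCat.fp (diagM i g) (FibCat.diag g)).p :=
    isFibGrpd_fp _ _ hHH h𝒳' hGG
  let x₁ : 𝒳.obj := y₀.obj.fst.obj.fst
  let x₂ : 𝒳.obj := y₀.obj.fst.obj.snd
  let τ : g.obj (i.obj x₁) ≅ g.obj (i.obj x₂) := y₀.obj.fst.obj.iso
  let B₁ : i.obj x₁ ≅ y₀.obj.snd := (FibCat.fpFst g g).toFunctor.mapIso y₀.obj.iso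
  let B₂ : i.obj x₂ ≅ y₀.obj.snd := (FibCat.fpSnd g g).toFunctor.mapIso y₀.obj.iso
  have hι : g.map B₁.hom ≫ 𝟙 (g.obj y₀.obj.snd) = τ.hom ≫ g.map B₂.hom :=
    y₀.obj.iso.hom.hom.w
  have e2 : g.map B₂.hom ≫ g.map B₂.inv = 𝟙 _ := by
    rw [← g.toFunctor.map_comp, Iso.hom_inv_id, g.toFunctor.map_id]
  obtain ⟨u₂, hu₂⟩ : ∃ u₂ : x₁ ⟶ x₂, i.map u₂ = B₁.hom ≫ B₂.inv :=
    ⟨i.toFunctor.preimage (B₁.hom ≫ B₂.inv), i.toFunctor.map_preimage _⟩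
  have hu : g.map (i.map (𝟙 x₁)) ≫ τ.hom = 𝟙 (g.obj (i.obj x₁)) ≫ g.map (i.map u₂) := by
    rw [Category.comp_id] at hι
    rw [hu₂, g.toFunctor.map_comp, hι, i.toFunctor.map_id, g.toFunctor.map_id,
      Category.id_comp, Category.id_comp, Category.assoc, e2, Category.comp_id]
  let U₀ : (FibCat.diag (BasedFunctor.comp i g)).obj x₁ ⟶ y₀.obj.fst :=
    ObjectProperty.homMk ⟨𝟙 x₁, u₂, hu⟩
  let Φ : (diagMonoLift i g).obj x₁ ⟶ y₀ := ObjectProperty.homMk ⟨U₀, B₁.hom, by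
    apply ObjectProperty.hom_ext
    apply CategoricalPullback.hom_ext
    · show i.map (𝟙 x₁) ≫ B₁.hom = 𝟙 (i.obj x₁) ≫ B₁.hom
      rw [i.toFunctor.map_id]
    · show i.map u₂ ≫ B₂.hom = 𝟙 (i.obj x₁) ≫ B₁.hom
      rw [hu₂, Category.assoc, Iso.inv_hom_id, Category.comp_id, Category.id_comp]⟩
  have hΦ : (FibCat.fp (diagM i g) (FibCat.diag g)).p.IsHomLift (𝟙 (𝒳.p.obj x₁)) Φ := by
    rw [fp_isHomLift_iff, fp_isHomLift_iff]
    exact IsHomLift.id rfl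
  have hiso : IsIso Φ := IsFibGrpd.isIso_of_isHomLift_id hT (U := 𝒳.p.obj x₁) Φ
  exact ⟨x₁, asIso Φ, hΦ⟩

theorem isEquivOver_diagMonoLift [i.toFunctor.Full] [i.toFunctor.Faithful]
    (h𝒳 : FibCat.IsFibGrpd 𝒳.p) (h𝒳' : FibCat.IsFibGrpd 𝒳'.p) (h𝒴 : FibCat.IsFibGrpd 𝒴.p) :
    FibCat.IsEquivOver (diagMonoLift i g) := by
  have := diagMonoLift_faithful i g
  have := diagMonoLift_full i g
  exact isEquivOver_of_ff _ (diagMonoLift_ess i g h𝒳 h𝒳' h𝒴)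

end DiagMono

end Groth.Agent.Lib.Helper10.Fib
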