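import Mathlib
import Groth.Prelude.Def_FibCat2
import Groth.Agent.Lib.Helper10.FibBC
import Groth.Agent.Lib.Helper10.Fib7

/-!
# A section of `f` is a base change of the diagonal of `f`

For `f : 𝒳 ⟶ 𝒯`, `s : 𝒯 ⟶ 𝒳` over the base and a 2-isomorphism `e : s ⋙ f ≅ 𝟭`, the square

    𝒯 ───s───▶ 𝒳
    │s          │ sectG = (1, s ∘ f)
    ▼           ▼
    𝒳 ──Δ_f─▶ 𝒳 ×_𝒯 𝒳

is 2-cartesian (categories fibred in groupoids): `sectLam f s e : 𝒯 ⟶ 𝒳 ×_{𝒳 ×_𝒯 𝒳} 𝒳` is an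
equivalence over the base (`isEquivOver_sectLam`), and it commutes strictly with `s` and the
first projection.
-/

set_option autoImplicit false

universe v₅ u₅ v₄ u₄ v₃ u₃ v₂ u₂ v u

open CategoryTheory Functor CategoryTheory.Limits

namespace Groth.Agent.Lib.Helper10.Fib

section Sect

variable {C : Type u} [Category.{v} C] {𝒳 : BasedCategory.{v₂, u₂} C}
  {𝒯 : BasedCategory.{v₃, u₃} C} (f : 𝒳 ⥤ᵇ 𝒯) (s : 𝒯 ⥤ᵇ 𝒳)
  (e : BasedFunctor.comp s f ≅ BasedFunctor.id 𝒯)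

/-- Component of `e`. -/
def secE (t : 𝒯.obj) : f.obj (s.obj t) ≅ t := (natIsoOfBased e).app t

lemma secE_nat {t t' : 𝒯.obj} (m : t ⟶ t') :
    f.map (s.map m) ≫ (secE f s e t').hom = (secE f s e t).hom ≫ m :=
  (natIsoOfBased e).hom.naturality m

lemma secE_lift (t : 𝒯.obj) : 𝒯.p.IsHomLift (𝟙 (𝒯.p.obj t)) (secE f s e t).hom :=
  e.hom.isHomLift' t

lemma secE_self (t : 𝒯.obj) :
    f.map (s.map (secE f s e t).hom) = (secE f s e (f.obj (s.obj t))).hom :=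
  (cancel_mono (secE f s e t).hom).1 (secE_nat f s e (secE f s e t).hom)

lemma secE_nat_inv {t t' : 𝒯.obj} (m : t ⟶ t') :
    m ≫ (secE f s e t').inv = (secE f s e t).inv ≫ f.map (s.map m) := by
  rw [Iso.comp_inv_eq, Category.assoc, Iso.eq_inv_comp]
  exact (secE_nat f s e m).symm

lemma sectG_lift (x : 𝒳.obj) :
    𝒯.p.IsHomLift (𝟙 (𝒳.p.obj x)) (secE f s e (f.obj x)).inv := by
  have h1 : 𝒯.p.IsHomLift (𝟙 (𝒯.p.obj (f.obj x))) (secE f s e (f.obj x)).inv :=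
    lift_inv_of_lift 𝒯.p _ (secE_lift f s e (f.obj x))
  exact isHomLift_id_of_eq 𝒯.p (f.w_obj x) _

/-- The functor `(1, s ∘ f) : 𝒳 ⟶ 𝒳 ×_𝒯 𝒳`. -/
def sectG : 𝒳 ⥤ᵇ FibCat.fp f f where
  toFunctor :=
    { obj := fun x => ⟨⟨x, s.obj (f.obj x), (secE f s e (f.obj x)).symm⟩, sectG_lift f s e x⟩
      map := fun {x x'} m => ObjectProperty.homMk ⟨m, s.map (f.map m),
        secE_nat_inv f s e (f.map m)⟩
      map_id := fun x => by
        apply ObjectProperty.hom_ext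
        apply CategoricalPullback.hom_ext
        · rfl
        · exact (congrArg (fun t => s.map t) (f.toFunctor.map_id x)).trans
            (s.toFunctor.map_id _)
      map_comp := fun m m' => by
        apply ObjectProperty.hom_ext
        apply CategoricalPullback.hom_ext
        · rfl
        · exact (congrArg (fun t => s.map t) (f.toFunctor.map_comp m m')).trans
            (s.toFunctor.map_comp _ _) }
  w := rfl

/-- The 2-isomorphism of the square at an object. -/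
def sectI (t : 𝒯.obj) : (sectG f s e).obj (s.obj t) ≅ (FibCat.diag f).obj (s.obj t) :=
  (FibCat.fpProp f f).isoMk (X := (sectG f s e).obj (s.obj t))
    (Y := (FibCat.diag f).obj (s.obj t))
    (CategoricalPullback.mkIso (Iso.refl (s.obj t)) (s.toFunctor.mapIso (secE f s e t)) (by
      show f.map (𝟙 (s.obj t)) ≫ 𝟙 (f.obj (s.obj t)) =
        (secE f s e (f.obj (s.obj t))).inv ≫ f.map (s.map (secE f s e t).hom)
      rw [secE_self, Iso.inv_hom_id, f.toFunctor.map_id, Category.comp_id]))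

lemma sectI_lift (t : 𝒯.obj) :
    (FibCat.fp f f).p.IsHomLift (𝟙 (𝒳.p.obj (s.obj t))) (sectI f s e t).hom := by
  rw [fp_isHomLift_iff]
  exact IsHomLift.id rfl

/-- Object map of the comparison functor. -/
def sectLamObj (t : 𝒯.obj) : (FibCat.fp (sectG f s e) (FibCat.diag f)).obj :=
  ⟨⟨s.obj t, s.obj t, sectI f s e t⟩, sectI_lift f s e t⟩

/-- Morphism map of the comparison functor. -/
def sectLamMap {t t' : 𝒯.obj} (m : t ⟶ t') : sectLamObj f s e t ⟶ sectLamObj f s e t' :=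
  ObjectProperty.homMk ⟨s.map m, s.map m, by
    apply ObjectProperty.hom_ext
    apply CategoricalPullback.hom_ext
    · exact (Category.comp_id _).trans (Category.id_comp _).symm
    · show s.map (f.map (s.map m)) ≫ s.map (secE f s e t').hom =
        s.map (secE f s e t).hom ≫ s.map m
      rw [← s.toFunctor.map_comp, ← s.toFunctor.map_comp]
      exact congrArg (fun k => s.map k) (secE_nat f s e m)⟩

/-- The comparison functor `𝒯 ⟶ 𝒳 ×_{𝒳 ×_𝒯 𝒳} 𝒳`. -/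
def sectLam : 𝒯 ⥤ᵇ FibCat.fp (sectG f s e) (FibCat.diag f) where
  toFunctor :=
    { obj := sectLamObj f s e
      map := sectLamMap f s e
      map_id := fun t => by
        apply ObjectProperty.hom_ext
        apply CategoricalPullback.hom_ext
        · exact s.toFunctor.map_id _
        · exact s.toFunctor.map_id _
      map_comp := fun m m' => by
        apply ObjectProperty.hom_ext
        apply CategoricalPullback.hom_ext
        · exact s.toFunctor.map_comp _ _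
        · exact s.toFunctor.map_comp _ _ }
  w := CategoryTheory.Functor.ext (fun t => s.w_obj t)
    (fun t t' m => Functor.congr_hom s.w m)

theorem sectLam_faithful : (sectLam f s e).toFunctor.Faithful := ⟨fun {t t'} m m' hm => by
  have h1 : s.map m = s.map m' := congrArg (fun k => k.hom.fst) hm
  have h2 := secE_nat f s e m
  have h3 := secE_nat f s e m'
  rw [h1] at h2
  exact (cancel_epi (secE f s e t).hom).1 (h2.symm.trans h3)⟩

theorem sectLam_full : (sectLam f s e).toFunctor.Full := ⟨fun {t t'} n => by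
  obtain ⟨a, ha⟩ : ∃ a : s.obj t ⟶ s.obj t', a = n.hom.fst := ⟨_, rfl⟩
  obtain ⟨b, hb⟩ : ∃ b : s.obj t ⟶ s.obj t', b = n.hom.snd := ⟨_, rfl⟩
  have h1 : a ≫ 𝟙 (s.obj t') = 𝟙 (s.obj t) ≫ b := by
    rw [ha, hb]
    exact congrArg (fun k => k.hom.fst) n.hom.w
  have h2 : s.map (f.map a) ≫ s.map (secE f s e t').hom = s.map (secE f s e t).hom ≫ b := by
    rw [ha, hb]
    exact congrArg (fun k => k.hom.snd) n.hom.w
  rw [Category.comp_id, Category.id_comp] at h1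
  have e1 : s.map (secE f s e t).inv ≫ s.map (secE f s e t).hom = 𝟙 _ := by
    rw [← s.toFunctor.map_comp, Iso.inv_hom_id, s.toFunctor.map_id]
  have h3 : s.map ((secE f s e t).inv ≫ f.map a ≫ (secE f s e t').hom) = b := by
    rw [s.toFunctor.map_comp, s.toFunctor.map_comp, h2, ← Category.assoc, e1, Category.id_comp]
  refine ⟨(secE f s e t).inv ≫ f.map a ≫ (secE f s e t').hom, ?_⟩
  apply ObjectProperty.hom_ext
  apply CategoricalPullback.hom_ext
  · exact h3.trans (h1.symm.trans ha)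
  · exact h3.trans hb⟩

theorem sectLam_ess (h𝒳 : FibCat.IsFibGrpd 𝒳.p) (h𝒯 : FibCat.IsFibGrpd 𝒯.p)
    (y₀ : (FibCat.fp (sectG f s e) (FibCat.diag f)).obj) :
    ∃ (t : 𝒯.obj) (i : (sectLam f s e).obj t ≅ y₀),
      (FibCat.fp (sectG f s e) (FibCat.diag f)).p.IsHomLift
        (𝟙 ((FibCat.fp (sectG f s e) (FibCat.diag f)).p.obj y₀)) i.hom := by
  have hXX : FibCat.IsFibGrpd (FibCat.fp f f).p := isFibGrpd_fp f f h𝒳 h𝒳 h𝒯
  have hT : FibCat.IsFibGrpd (FibCat.fp (sectG f s e) (FibCat.diag f)).p :=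
    isFibGrpd_fp _ _ h𝒳 h𝒳 hXX
  let x : 𝒳.obj := y₀.obj.fst
  let B₁ : x ≅ y₀.obj.snd := (FibCat.fpFst f f).toFunctor.mapIso y₀.obj.iso
  let B₂ : s.obj (f.obj x) ≅ y₀.obj.snd := (FibCat.fpSnd f f).toFunctor.mapIso y₀.obj.iso
  have hι : f.map B₁.hom ≫ 𝟙 (f.obj y₀.obj.snd) =
      (secE f s e (f.obj x)).inv ≫ f.map B₂.hom := y₀.obj.iso.hom.hom.w
  have hy₀ : (FibCat.fp f f).p.IsHomLift (𝟙 (𝒳.p.obj x)) y₀.obj.iso.hom := y₀.property
  have hB₁ : 𝒳.p.IsHomLift (𝟙 (𝒳.p.obj x)) B₁.hom :=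
    (fp_isHomLift_iff f f y₀.obj.iso.hom (𝟙 (𝒳.p.obj x))).1 hy₀
  have hB₂ : 𝒳.p.IsHomLift (𝟙 (𝒳.p.obj x)) B₂.hom :=
    fp_isHomLift_snd' f f y₀.obj.iso.hom (𝟙 (𝒳.p.obj x))
  have hB₁' : 𝒳.p.IsHomLift (𝟙 (𝒳.p.obj x)) B₁.inv := lift_inv_of_lift 𝒳.p B₁ hB₁
  have hu : 𝒳.p.IsHomLift (𝟙 (𝒳.p.obj x)) (B₂.hom ≫ B₁.inv) := by
    have h0 : 𝒳.p.IsHomLift (𝟙 (𝒳.p.obj x) ≫ 𝟙 (𝒳.p.obj x)) (B₂.hom ≫ B₁.inv) := inferInstance
    rw [Category.comp_id] at h0
    exact h0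
  have e1 : f.map B₁.hom ≫ f.map B₁.inv = 𝟙 _ := by
    rw [← f.toFunctor.map_comp, Iso.hom_inv_id, f.toFunctor.map_id]
  have hfu : f.map (B₂.hom ≫ B₁.inv) = (secE f s e (f.obj x)).hom := by
    rw [Category.comp_id] at hι
    have h4 : f.map B₂.hom = (secE f s e (f.obj x)).hom ≫ f.map B₁.hom := by
      rw [hι, Iso.hom_inv_id_assoc]
    rw [f.toFunctor.map_comp, h4, Category.assoc, e1, Category.comp_id]
  let Φ : (sectLam f s e).obj (f.obj x) ⟶ y₀ :=
    ObjectProperty.homMk ⟨B₂.hom ≫ B₁.inv, B₂.hom, by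
      apply ObjectProperty.hom_ext
      apply CategoricalPullback.hom_ext
      · show (B₂.hom ≫ B₁.inv) ≫ B₁.hom = 𝟙 (s.obj (f.obj x)) ≫ B₂.hom
        rw [Category.assoc, Iso.inv_hom_id, Category.comp_id, Category.id_comp]
      · show s.map (f.map (B₂.hom ≫ B₁.inv)) ≫ B₂.hom =
          s.map (secE f s e (f.obj x)).hom ≫ B₂.hom
        rw [hfu]⟩
  have hΦ : (FibCat.fp (sectG f s e) (FibCat.diag f)).p.IsHomLift (𝟙 (𝒳.p.obj x)) Φ := by
    rw [fp_isHomLift_iff]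
    exact hu
  have hiso : IsIso Φ := IsFibGrpd.isIso_of_isHomLift_id hT (U := 𝒳.p.obj x) Φ
  exact ⟨f.obj x, asIso Φ, hΦ⟩

theorem isEquivOver_sectLam (h𝒳 : FibCat.IsFibGrpd 𝒳.p) (h𝒯 : FibCat.IsFibGrpd 𝒯.p) :
    FibCat.IsEquivOver (sectLam f s e) := by
  have := sectLam_faithful f s e
  have := sectLam_full f s e
  exact isEquivOver_of_ff _ (sectLam_ess f s e h𝒳 h𝒯)

end Sect

end Groth.Agent.Lib.Helper10.Fib
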