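import Mathlib
import Groth.Prelude.Def_AlgSt3
import Groth.Agent.Lib.Helper10.AlgStEquiv
import Groth.Agent.Lib.Helper10.FibDiagBC
import Groth.Agent.Lib.Helper10.FibSection

/-!
# Base change of properties of the diagonal

* `repByAlgSpWith_fpFst`: base change of `RepByAlgSpWith P`.
* `repByAlgSpWith_of_square'`: transport along a 2-commutative square with equivalences
  (from the target side to the source side).
* `repByAlgSpWith_diag_fpFst`: if the diagonal of `f` is representable with `P`, so is the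
  diagonal of every base change of `f` (categories fibred in groupoids).
-/

set_option autoImplicit false
set_option backward.isDefEq.respectTransparency false
set_option backward.isDefEq.respectTransparency.types false

universe w₄ v₄ w₃ v₃ w₂ v₂ w₁ v₁ u

open CategoryTheory CategoryTheory.Limits AlgebraicGeometry Opposite

namespace Groth.Agent.Lib.Helper10.AlgStRep

open Groth.Agent.Lib.Helper10.Fib

section

variable {S : Scheme.{u}} {𝒳 : BasedCategory.{v₁, w₁} (Over S)} {𝒴 : BasedCategory.{v₂, w₂} (Over S)}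
  {𝒳' : BasedCategory.{v₃, w₃} (Over S)} {𝒴' : BasedCategory.{v₄, w₄} (Over S)}

theorem repByAlgSpWith_fpFst (P : MorphismProperty (AlgSp.Sp S)) (f : 𝒳 ⥤ᵇ 𝒴) (g : 𝒴' ⥤ᵇ 𝒴)
    (hf : AlgSt.RepByAlgSpWith P f) : AlgSt.RepByAlgSpWith P (FibCat.fpFst g f) := by
  intro U y
  exact repWith_of_equiv' P (paste1 y g f) (isEquivOver_paste1 y g f)
    (FibCat.fpFst y (FibCat.fpFst g f)) (FibCat.fpFst (BasedFunctor.comp y g) f)
    (fun Q => ⟨Iso.refl _, IsHomLift.id rfl⟩) (hf U (BasedFunctor.comp y g))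

theorem repByAlgSpWith_of_square' (P : MorphismProperty (AlgSp.Sp S)) (f : 𝒳 ⥤ᵇ 𝒴)
    (f' : 𝒳' ⥤ᵇ 𝒴') (a : 𝒳' ⥤ᵇ 𝒳) (b : 𝒴' ⥤ᵇ 𝒴)
    (ha : FibCat.IsEquivOver a) (hb : FibCat.IsEquivOver b)
    (e : BasedFunctor.comp f' b ≅ BasedFunctor.comp a f) (hf : AlgSt.RepByAlgSpWith P f) :
    AlgSt.RepByAlgSpWith P f' := by
  intro U y'
  let e₁ : BasedFunctor.comp y' b ≅
      BasedFunctor.comp (BasedFunctor.id (FibCat.overCat U)) (BasedFunctor.comp y' b) :=
    Iso.refl _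
  have := IsEquivOver.isEquivalence hb
  have h2 := isEquivOver_fpMap e₁ e (isEquivOver_id _) ha
  exact repWith_of_equiv' P (fpMap e₁ e) h2
    (FibCat.fpFst y' f') (FibCat.fpFst (BasedFunctor.comp y' b) f)
    (fun Q => ⟨Iso.refl _, IsHomLift.id rfl⟩) (hf U (BasedFunctor.comp y' b))

theorem repByAlgSpWith_diag_fpFst (P : MorphismProperty (AlgSp.Sp S))
    (h𝒳 : FibCat.IsFibGrpd 𝒳.p) (h𝒴 : FibCat.IsFibGrpd 𝒴.p) (h𝒴' : FibCat.IsFibGrpd 𝒴'.p)
    (f : 𝒳 ⥤ᵇ 𝒴) (g : 𝒴' ⥤ᵇ 𝒴) (hf : AlgSt.RepByAlgSpWith P (FibCat.diag f)) :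
    AlgSt.RepByAlgSpWith P (FibCat.diag (FibCat.fpFst g f)) := by
  have h1 : AlgSt.RepByAlgSpWith P (FibCat.fpFst (diagN f g) (FibCat.diag f)) :=
    repByAlgSpWith_fpFst P (FibCat.diag f) (diagN f g) hf
  exact repByAlgSpWith_of_square' P (FibCat.fpFst (diagN f g) (FibCat.diag f))
    (FibCat.diag (FibCat.fpFst g f)) (diagLam f g) (BasedFunctor.id _)
    (isEquivOver_diagLam f g h𝒳 h𝒴 h𝒴') (isEquivOver_id _) (Iso.refl _) h1

end

section Section

variable {S : Scheme.{u}} {𝒳 : BasedCategory.{v₁, w₁} (Over S)} {𝒯 : BasedCategory.{v₂, w₂} (Over S)}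

theorem repByAlgSpWith_section (P : MorphismProperty (AlgSp.Sp S))
    (h𝒳 : FibCat.IsFibGrpd 𝒳.p) (h𝒯 : FibCat.IsFibGrpd 𝒯.p)
    (f : 𝒳 ⥤ᵇ 𝒯) (s : 𝒯 ⥤ᵇ 𝒳) (e : BasedFunctor.comp s f ≅ BasedFunctor.id 𝒯)
    (hf : AlgSt.RepByAlgSpWith P (FibCat.diag f)) : AlgSt.RepByAlgSpWith P s := by
  have h1 : AlgSt.RepByAlgSpWith P (FibCat.fpFst (sectG f s e) (FibCat.diag f)) :=
    repByAlgSpWith_fpFst P (FibCat.diag f) (sectG f s e) hf
  exact repByAlgSpWith_of_square' P (FibCat.fpFst (sectG f s e) (FibCat.diag f)) s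
    (sectLam f s e) (BasedFunctor.id _) (isEquivOver_sectLam f s e h𝒳 h𝒯) (isEquivOver_id _)
    (Iso.refl _) h1

end Section

end Groth.Agent.Lib.Helper10.AlgStRep
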