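import Mathlib
import Groth.Prelude.Def_FibCat2
import Groth.Agent.Lib.Helper10.FibBC
import Groth.Agent.Lib.Helper10.Fib7

/-!
# The graph square

For `p : 𝒳 ⟶ 𝒯`, `q : 𝒴 ⟶ 𝒯`, `g : 𝒳 ⟶ 𝒴` over the base with a 2-isomorphism `e : p ≅ g ⋙ q`,
and `Γ : 𝒳 ⟶ 𝒳 ×_𝒯 𝒴` the graph of `g`, the square

        𝒳 ──────Γ─────▶ 𝒳 ×_𝒯 𝒴
        │ g                │ grN = g × id
        ▼                  ▼
        𝒴 ─────Δ_q────▶ 𝒴 ×_𝒯 𝒴

is 2-cartesian (for categories fibred in groupoids): `grLam` is the comparison functor to the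
2-fibre product and `isEquivOver_grLam` says that it is an equivalence over the base.
-/

set_option autoImplicit false

universe v₅ u₅ v₄ u₄ v₃ u₃ v₂ u₂ v u

open CategoryTheory Functor CategoryTheory.Limits

namespace Groth.Agent.Lib.Helper10.Fib

section Graph

variable {C : Type u} [Category.{v} C] {𝒳 : BasedCategory.{v₂, u₂} C}
  {𝒴 : BasedCategory.{v₃, u₃} C} {𝒯 : BasedCategory.{v₄, u₄} C}
  (p : 𝒳 ⥤ᵇ 𝒯) (q : 𝒴 ⥤ᵇ 𝒯) (g : 𝒳 ⥤ᵇ 𝒴)
  (e : BasedFunctor.comp (BasedFunctor.id 𝒳) p ≅ BasedFunctor.comp g q)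

/-- `e` retyped for `fpMap`. -/
def grE : BasedFunctor.comp p (BasedFunctor.id 𝒯) ≅ BasedFunctor.comp g q := e

/-- The trivial 2-isomorphism `q ⋙ 𝟭 ≅ 𝟭 ⋙ q`. -/
def grR : BasedFunctor.comp q (BasedFunctor.id 𝒯) ≅ BasedFunctor.comp (BasedFunctor.id 𝒴) q :=
  Iso.refl _

/-- `g × id : 𝒳 ×_𝒯 𝒴 ⟶ 𝒴 ×_𝒯 𝒴`. -/
def grN : FibCat.fp p q ⥤ᵇ FibCat.fp q q := fpMap (grE p q g e) (grR q)

/-- Component of `e`. -/
def grC (x : 𝒳.obj) : p.obj x ≅ q.obj (g.obj x) := fmC (grE p q g e) x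

/-- The 2-isomorphism of the graph square, at an object. -/
def grJ (x : 𝒳.obj) :
    (grN p q g e).obj ((FibCat.fpLift (BasedFunctor.id 𝒳) g e).obj x) ≅
      (FibCat.diag q).obj (g.obj x) :=
  (FibCat.fpProp q q).isoMk
    (X := (grN p q g e).obj ((FibCat.fpLift (BasedFunctor.id 𝒳) g e).obj x))
    (Y := (FibCat.diag q).obj (g.obj x))
    (CategoricalPullback.mkIso (Iso.refl _) (Iso.refl _) (by
      show q.map (𝟙 (g.obj x)) ≫ 𝟙 (q.obj (g.obj x)) =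
        ((grC p q g e x).inv ≫ (grC p q g e x).hom ≫ 𝟙 (q.obj (g.obj x))) ≫
          q.map (𝟙 (g.obj x))
      simp only [Category.comp_id, Iso.inv_hom_id, Category.id_comp]))

lemma grJ_lift (x : 𝒳.obj) :
    (FibCat.fp q q).p.IsHomLift (𝟙 (𝒳.p.obj x)) (grJ p q g e x).hom := by
  rw [fp_isHomLift_iff]
  exact IsHomLift.id (g.w_obj x)

/-- Object map of the comparison functor. -/
def grLamObj (x : 𝒳.obj) : (FibCat.fp (grN p q g e) (FibCat.diag q)).obj :=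
  ⟨⟨(FibCat.fpLift (BasedFunctor.id 𝒳) g e).obj x, g.obj x, grJ p q g e x⟩,
    grJ_lift p q g e x⟩

/-- Morphism map of the comparison functor. -/
def grLamMap {x x' : 𝒳.obj} (m : x ⟶ x') : grLamObj p q g e x ⟶ grLamObj p q g e x' :=
  ObjectProperty.homMk ⟨(FibCat.fpLift (BasedFunctor.id 𝒳) g e).map m, g.map m, by
    apply ObjectProperty.hom_ext
    apply CategoricalPullback.hom_ext
    · show g.map m ≫ 𝟙 _ = 𝟙 _ ≫ g.map m
      exact (Category.comp_id _).trans (Category.id_comp _).symm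
    · show g.map m ≫ 𝟙 _ = 𝟙 _ ≫ g.map m
      exact (Category.comp_id _).trans (Category.id_comp _).symm⟩

/-- The comparison functor `𝒳 ⟶ (𝒳 ×_𝒯 𝒴) ×_{𝒴 ×_𝒯 𝒴} 𝒴`. -/
def grLam : 𝒳 ⥤ᵇ FibCat.fp (grN p q g e) (FibCat.diag q) where
  toFunctor :=
    { obj := grLamObj p q g e
      map := grLamMap p q g e
      map_id := fun x => by
        apply ObjectProperty.hom_ext
        apply CategoricalPullback.hom_ext
        · exact (FibCat.fpLift (BasedFunctor.id 𝒳) g e).toFunctor.map_id _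
        · exact g.toFunctor.map_id _
      map_comp := fun m m' => by
        apply ObjectProperty.hom_ext
        apply CategoricalPullback.hom_ext
        · exact (FibCat.fpLift (BasedFunctor.id 𝒳) g e).toFunctor.map_comp _ _
        · exact g.toFunctor.map_comp _ _ }
  w := rfl

theorem grLam_faithful : (grLam p q g e).toFunctor.Faithful := ⟨fun {x x'} m m' hm =>
  congrArg (fun s => s.hom.fst.hom.fst) hm⟩

theorem grLam_full : (grLam p q g e).toFunctor.Full := ⟨fun {x x'} n => by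
  obtain ⟨a, ha⟩ : ∃ a : x ⟶ x', a = n.hom.fst.hom.fst := ⟨_, rfl⟩
  obtain ⟨b, hb⟩ : ∃ b : g.obj x ⟶ g.obj x', b = n.hom.fst.hom.snd := ⟨_, rfl⟩
  obtain ⟨r, hr⟩ : ∃ r : g.obj x ⟶ g.obj x', r = n.hom.snd := ⟨_, rfl⟩
  have h1 : g.map a ≫ 𝟙 _ = 𝟙 _ ≫ r := by
    rw [ha, hr]
    exact congrArg (fun s => s.hom.fst) n.hom.w
  have h2 : b ≫ 𝟙 _ = 𝟙 _ ≫ r := by
    rw [hb, hr]
    exact congrArg (fun s => s.hom.snd) n.hom.w
  rw [Category.comp_id, Category.id_comp] at h1 h2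
  refine ⟨a, ?_⟩
  apply ObjectProperty.hom_ext
  apply CategoricalPullback.hom_ext
  · apply ObjectProperty.hom_ext
    apply CategoricalPullback.hom_ext
    · exact ha
    · exact (h1.trans h2.symm).trans hb
  · exact h1.trans hr⟩

theorem grLam_ess (h𝒳 : FibCat.IsFibGrpd 𝒳.p) (h𝒴 : FibCat.IsFibGrpd 𝒴.p)
    (h𝒯 : FibCat.IsFibGrpd 𝒯.p)
    (y₀ : (FibCat.fp (grN p q g e) (FibCat.diag q)).obj) :
    ∃ (x : 𝒳.obj) (ε : (grLam p q g e).obj x ≅ y₀),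
      (FibCat.fp (grN p q g e) (FibCat.diag q)).p.IsHomLift
        (𝟙 ((FibCat.fp (grN p q g e) (FibCat.diag q)).p.obj y₀)) ε.hom := by
  have hXY : FibCat.IsFibGrpd (FibCat.fp p q).p := isFibGrpd_fp p q h𝒳 h𝒴 h𝒯
  have hYY : FibCat.IsFibGrpd (FibCat.fp q q).p := isFibGrpd_fp q q h𝒴 h𝒴 h𝒯
  have hT : FibCat.IsFibGrpd (FibCat.fp (grN p q g e) (FibCat.diag q)).p :=
    isFibGrpd_fp _ _ hXY h𝒴 hYY
  let P : (FibCat.fp p q).obj := y₀.obj.fst
  let z : 𝒴.obj := y₀.obj.snd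
  let θ : p.obj P.obj.fst ≅ q.obj P.obj.snd := P.obj.iso
  let A : g.obj P.obj.fst ≅ z := (FibCat.fpFst q q).toFunctor.mapIso y₀.obj.iso
  let B : P.obj.snd ≅ z := (FibCat.fpSnd q q).toFunctor.mapIso y₀.obj.iso
  have hι : q.map A.hom ≫ 𝟙 (q.obj z) =
      ((grC p q g e P.obj.fst).inv ≫ θ.hom ≫ 𝟙 _) ≫ q.map B.hom := y₀.obj.iso.hom.hom.w
  simp only [Category.comp_id, Category.assoc] at hι
  have e2 : q.map B.hom ≫ q.map B.inv = 𝟙 _ := by
    rw [← q.toFunctor.map_comp, Iso.hom_inv_id, q.toFunctor.map_id]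
  have hθ : p.map (𝟙 P.obj.fst) ≫ θ.hom =
      (grC p q g e P.obj.fst).hom ≫ q.map (A.hom ≫ B.inv) := by
    rw [p.toFunctor.map_id, Category.id_comp, q.toFunctor.map_comp, hι]
    simp only [Category.assoc, Iso.hom_inv_id_assoc]
    rw [e2, Category.comp_id]
  let U₀ : (FibCat.fpLift (BasedFunctor.id 𝒳) g e).obj P.obj.fst ⟶ P :=
    ObjectProperty.homMk ⟨𝟙 P.obj.fst, A.hom ≫ B.inv, hθ⟩
  let Φ : (grLam p q g e).obj P.obj.fst ⟶ y₀ := ObjectProperty.homMk ⟨U₀, A.hom, by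
    apply ObjectProperty.hom_ext
    apply CategoricalPullback.hom_ext
    · show g.map (𝟙 P.obj.fst) ≫ A.hom = 𝟙 (g.obj P.obj.fst) ≫ A.hom
      rw [g.toFunctor.map_id]
    · show (A.hom ≫ B.inv) ≫ B.hom = 𝟙 (g.obj P.obj.fst) ≫ A.hom
      rw [Category.assoc, Iso.inv_hom_id, Category.comp_id, Category.id_comp]⟩
  have hΦ : (FibCat.fp (grN p q g e) (FibCat.diag q)).p.IsHomLift
      (𝟙 (𝒳.p.obj P.obj.fst)) Φ := by
    rw [fp_isHomLift_iff, fp_isHomLift_iff]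
    exact IsHomLift.id rfl
  have hiso : IsIso Φ := IsFibGrpd.isIso_of_isHomLift_id hT (U := 𝒳.p.obj P.obj.fst) Φ
  exact ⟨P.obj.fst, asIso Φ, hΦ⟩

theorem isEquivOver_grLam (h𝒳 : FibCat.IsFibGrpd 𝒳.p) (h𝒴 : FibCat.IsFibGrpd 𝒴.p)
    (h𝒯 : FibCat.IsFibGrpd 𝒯.p) : FibCat.IsEquivOver (grLam p q g e) := by
  have := grLam_faithful p q g e
  have := grLam_full p q g e
  exact isEquivOver_of_ff _ (grLam_ess p q g e h𝒳 h𝒴 h𝒯)

end Graph

end Groth.Agent.Lib.Helper10.Fib
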