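import Mathlib
import Groth.Prelude.Def_AlgSt2
import Groth.Agent.Lib.Helper10.FibGraph
import Groth.Agent.Lib.Helper10.AlgStDiag

/-!
# The graph `𝒳 ⟶ 𝒳 ×_𝒯 𝒴` of a morphism over `𝒯` is a base change of the diagonal of `𝒴 ⟶ 𝒯`
-/

set_option autoImplicit false

universe w₄ v₄ w₃ v₃ w₂ v₂ w₁ v₁ u

open CategoryTheory CategoryTheory.Limits AlgebraicGeometry Opposite

namespace Groth.Agent.Lib.Helper10.AlgStRep

open Groth.Agent.Lib.Helper10.Fib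

variable {S : Scheme.{u}} {𝒳 : BasedCategory.{v₁, w₁} (Over S)} {𝒴 : BasedCategory.{v₂, w₂} (Over S)}
  {𝒯 : BasedCategory.{v₄, w₄} (Over S)}

theorem repByAlgSpWith_graph (P : MorphismProperty (AlgSp.Sp S))
    (h𝒳 : FibCat.IsFibGrpd 𝒳.p) (h𝒴 : FibCat.IsFibGrpd 𝒴.p) (h𝒯 : FibCat.IsFibGrpd 𝒯.p)
    (p : 𝒳 ⥤ᵇ 𝒯) (q : 𝒴 ⥤ᵇ 𝒯) (g : 𝒳 ⥤ᵇ 𝒴)
    (e : BasedFunctor.comp (BasedFunctor.id 𝒳) p ≅ BasedFunctor.comp g q)
    (hq : AlgSt.RepByAlgSpWith P (FibCat.diag q)) :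
    AlgSt.RepByAlgSpWith P (FibCat.fpLift (BasedFunctor.id 𝒳) g e) := by
  have h1 : AlgSt.RepByAlgSpWith P (FibCat.fpFst (grN p q g e) (FibCat.diag q)) :=
    repByAlgSpWith_fpFst P (FibCat.diag q) (grN p q g e) hq
  exact repByAlgSpWith_of_square' P (FibCat.fpFst (grN p q g e) (FibCat.diag q))
    (FibCat.fpLift (BasedFunctor.id 𝒳) g e) (grLam p q g e)
    (BasedFunctor.id _) (isEquivOver_grLam p q g e h𝒳 h𝒴 h𝒯) (isEquivOver_id _)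
    (Iso.refl _) h1

end Groth.Agent.Lib.Helper10.AlgStRep
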