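import Mathlib
import Groth.Prelude.Def_AlgSt4
import Groth.Agent.Lib.Helper10.FibBC

/-!
# Functoriality of the points of a category over `(Sch/S)`

* `points_map_comp`, `points_map_id`, `points_map_eq_of_natTrans`, `points_map_eq_of_iso`.
* `points_map_bijective_of_isEquivOver`: an equivalence over the base is bijective on points.
-/

set_option autoImplicit false

universe w₃ v₃ w₂ v₂ w₁ v₁ u

open CategoryTheory CategoryTheory.Limits AlgebraicGeometry Opposite

namespace Groth.Agent.Lib.Helper10.AlgStRep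

open Groth.Agent.Lib.Helper10.Fib

variable {S : Scheme.{u}} {𝒳 : BasedCategory.{v₁, w₁} (Over S)} {𝒴 : BasedCategory.{v₂, w₂} (Over S)}
  {𝒵 : BasedCategory.{v₃, w₃} (Over S)}

theorem points_map_comp (F : 𝒳 ⥤ᵇ 𝒴) (G : 𝒴 ⥤ᵇ 𝒵) :
    AlgSt.Points.map (BasedFunctor.comp F G) = AlgSt.Points.map G ∘ AlgSt.Points.map F := by
  funext x
  induction x using Quot.ind with
  | _ p => rfl

theorem points_map_id (𝒳 : BasedCategory.{v₁, w₁} (Over S)) :
    AlgSt.Points.map (BasedFunctor.id 𝒳) = id := by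
  funext x
  induction x using Quot.ind with
  | _ p => rfl

theorem points_map_eq_of_natTrans {F F' : 𝒳 ⥤ᵇ 𝒴} (η : F ⟶ F') :
    AlgSt.Points.map F = AlgSt.Points.map F' := by
  funext x
  induction x using Quot.ind with
  | _ p => exact AlgSt.Points.sound ⟨p.map F, 𝟙 _, η.toNatTrans.app p.obj, trivial⟩

theorem points_map_eq_of_iso {F F' : 𝒳 ⥤ᵇ 𝒴} (η : F ≅ F') :
    AlgSt.Points.map F = AlgSt.Points.map F' :=
  points_map_eq_of_natTrans η.hom

theorem points_map_bijective_of_isEquivOver (E : 𝒳 ⥤ᵇ 𝒴) (hE : FibCat.IsEquivOver E) :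
    Function.Bijective (AlgSt.Points.map E) := by
  obtain ⟨G, ⟨η⟩, ⟨ε⟩⟩ := hE
  have h1 : AlgSt.Points.map G ∘ AlgSt.Points.map E = id := by
    rw [← points_map_comp, points_map_eq_of_iso η, points_map_id]
  have h2 : AlgSt.Points.map E ∘ AlgSt.Points.map G = id := by
    rw [← points_map_comp, points_map_eq_of_iso ε, points_map_id]
  exact ⟨Function.LeftInverse.injective (g := AlgSt.Points.map G) (congrFun h1),
    Function.RightInverse.surjective (g := AlgSt.Points.map G) (congrFun h2)⟩

end Groth.Agent.Lib.Helper10.AlgStRep
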