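import Mathlib
import Groth.Prelude.Def_AlgSt4
import Groth.Agent.Lib.Helper10.Fib2
import Groth.Agent.Lib.Helper10.AlgStPts

/-!
# Field-valued points of categories fibred in groupoids over `(Sch/S)`

* `exists_compositum`: two field extensions of a field embed in a common field.
* `exists_common_refinement`: two field-valued points mapping to a third one are dominated by a
  common field-valued point (in a category fibred in groupoids).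
* `rel_equivalence`: the relation defining the points of `𝒳` is an equivalence relation.
* `exists_fp_point`: `|𝒵 ×_𝒴 𝒳| → |𝒵| ×_{|𝒴|} |𝒳|` is surjective.
-/

set_option autoImplicit false

universe w₃ v₃ w₂ v₂ w₁ v₁ u

open CategoryTheory CategoryTheory.Limits AlgebraicGeometry Opposite TensorProduct

namespace H10PT

open Groth.Agent.Lib.Helper10.Fib

lemma exists_compositum (k K L : Type u) [Field k] [Field K] [Field L] (a : k →+* K) (b : k →+* L) :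
    ∃ (M : Type u) (_ : Field M) (i : K →+* M) (j : L →+* M), i.comp a = j.comp b := by
  letI := a.toAlgebra
  letI := b.toAlgebra
  haveI : Nontrivial (K ⊗[k] L) :=
    Algebra.TensorProduct.nontrivial_of_algebraMap_injective_of_isDomain k K L
      (RingHom.injective _) (RingHom.injective _)
  obtain ⟨m, hm⟩ := Ideal.exists_maximal (K ⊗[k] L)
  letI := Ideal.Quotient.field m
  refine ⟨(K ⊗[k] L) ⧸ m, inferInstance,
    (Ideal.Quotient.mk m).comp (Algebra.TensorProduct.includeLeftRingHom),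
    (Ideal.Quotient.mk m).comp
      (Algebra.TensorProduct.includeRight (R := k) (A := K) (B := L)).toRingHom, ?_⟩
  ext x
  simp only [RingHom.comp_apply]
  congr 1
  show (a x) ⊗ₜ[k] (1 : L) = (1 : K) ⊗ₜ[k] (b x)
  have h1 : a x = algebraMap k K x := rfl
  have h2 : b x = algebraMap k L x := rfl
  rw [h1, h2, Algebra.algebraMap_eq_smul_one, Algebra.algebraMap_eq_smul_one, TensorProduct.smul_tmul]

variable {S : Scheme.{u}} {𝒳 : BasedCategory.{v₁, w₁} (Over S)} {𝒴 : BasedCategory.{v₂, w₂} (Over S)}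
  {𝒵 : BasedCategory.{v₃, w₃} (Over S)}

/-- the morphism of the base under a morphism of `𝒳`, between prescribed objects -/
lemma exists_baseHom {a b : 𝒳.obj} {A B : Over S} (ha : 𝒳.p.obj a = A) (hb : 𝒳.p.obj b = B)
    (φ : a ⟶ b) : ∃ f : A ⟶ B, 𝒳.p.IsHomLift f φ := by
  subst ha hb
  exact ⟨𝒳.p.map φ, inferInstance⟩

theorem exists_common_refinement (h𝒳 : FibCat.IsFibGrpd 𝒳.p) {q r r' : AlgSt.FPt 𝒳}
    (b : r.obj ⟶ q.obj) (c : r'.obj ⟶ q.obj) :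
    ∃ (t : AlgSt.FPt 𝒳) (φ : t.obj ⟶ r.obj) (χ : t.obj ⟶ r'.obj), φ ≫ b = χ ≫ c := by
  obtain ⟨fb, hfb⟩ := exists_baseHom r.lies q.lies b
  obtain ⟨fc, hfc⟩ := exists_baseHom r'.lies q.lies c
  obtain ⟨M, _, i, j, hij⟩ := exists_compositum q.K r.K r'.K
    (Spec.preimage fb.left).hom (Spec.preimage fc.left).hom
  have key : Spec.map (CommRingCat.ofHom i) ≫ fb.left =
      Spec.map (CommRingCat.ofHom j) ≫ fc.left := by
    have e1 := Spec.map_preimage fb.left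
    have e2 := Spec.map_preimage fc.left
    rw [← e1, ← e2, ← Spec.map_comp, ← Spec.map_comp]
    congr 1
    ext x
    exact RingHom.congr_fun hij x
  have wb : fb.left ≫ q.str = r.str := Over.w fb
  have wc : fc.left ≫ q.str = r'.str := Over.w fc
  have hm' : Spec.map (CommRingCat.ofHom j) ≫ r'.str = Spec.map (CommRingCat.ofHom i) ≫ r.str := by
    rw [← wb, ← wc, ← Category.assoc, ← Category.assoc, key]
  obtain ⟨μ, hμl⟩ : ∃ μ : Over.mk (Spec.map (CommRingCat.ofHom i) ≫ r.str) ⟶ Over.mk r.str,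
      μ.left = Spec.map (CommRingCat.ofHom i) := ⟨Over.homMk (Spec.map (CommRingCat.ofHom i)) rfl, rfl⟩
  obtain ⟨μ', hμ'l⟩ : ∃ μ' : Over.mk (Spec.map (CommRingCat.ofHom i) ≫ r.str) ⟶ Over.mk r'.str,
      μ'.left = Spec.map (CommRingCat.ofHom j) := ⟨Over.homMk (Spec.map (CommRingCat.ofHom j)) hm', rfl⟩
  have hμ : μ ≫ fb = μ' ≫ fc := by
    apply Over.OverMorphism.ext
    rw [Over.comp_left, Over.comp_left, hμl, hμ'l]
    exact key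
  obtain ⟨y, φ, hφ⟩ := IsFibGrpd.exists_lift' h𝒳 r.lies μ
  have hφb : 𝒳.p.IsHomLift (μ ≫ fb) (φ ≫ b) := inferInstance
  have hsc : 𝒳.p.IsStronglyCartesian fc c := IsFibGrpd.sc h𝒳 fc c
  obtain ⟨χ, ⟨hχ1, hχ2⟩, -⟩ :=
    Functor.IsStronglyCartesian.universal_property 𝒳.p fc c μ' (μ ≫ fb) hμ (φ ≫ b)
  exact ⟨⟨M, Spec.map (CommRingCat.ofHom i) ≫ r.str, y, IsHomLift.domain_eq 𝒳.p μ φ⟩, φ, χ,
    hχ2.symm⟩

theorem rel_equivalence (h𝒳 : FibCat.IsFibGrpd 𝒳.p) : _root_.Equivalence (@AlgSt.FPt.Rel S 𝒳) where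
  refl p := ⟨p, 𝟙 _, 𝟙 _, trivial⟩
  symm := fun ⟨r, a, b, _⟩ => ⟨r, b, a, trivial⟩
  trans := fun ⟨r, a, b, _⟩ ⟨r', c, d, _⟩ => by
    obtain ⟨t, φ, χ, -⟩ := exists_common_refinement h𝒳 b c
    exact ⟨t, φ ≫ a, χ ≫ d, trivial⟩

theorem exists_fp_point (h𝒳 : FibCat.IsFibGrpd 𝒳.p) (h𝒴 : FibCat.IsFibGrpd 𝒴.p)
    (h𝒵 : FibCat.IsFibGrpd 𝒵.p) (f : 𝒳 ⥤ᵇ 𝒴) (g : 𝒵 ⥤ᵇ 𝒴)
    (z : AlgSt.Points 𝒵) (x : AlgSt.Points 𝒳) (h : AlgSt.Points.map g z = AlgSt.Points.map f x) :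
    ∃ w : AlgSt.Points (FibCat.fp g f),
      AlgSt.Points.map (FibCat.fpFst g f) w = z ∧ AlgSt.Points.map (FibCat.fpSnd g f) w = x := by
  obtain ⟨z₀, rfl⟩ := AlgSt.Points.mk_surjective z
  obtain ⟨x₀, rfl⟩ := AlgSt.Points.mk_surjective x
  have hrel : AlgSt.FPt.Rel (z₀.map g) (x₀.map f) := by
    have h' : Relation.EqvGen (@AlgSt.FPt.Rel S 𝒴) (z₀.map g) (x₀.map f) := Quot.eqvGen_exact h
    exact (rel_equivalence h𝒴).eqvGen_iff.mp h'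
  obtain ⟨r, α, β, -⟩ : ∃ (r : AlgSt.FPt 𝒴) (_ : r.obj ⟶ g.obj z₀.obj) (_ : r.obj ⟶ f.obj x₀.obj),
    True := hrel
  obtain ⟨fα, hfα⟩ : ∃ fα : Over.mk r.str ⟶ Over.mk z₀.str, 𝒴.p.IsHomLift fα α :=
    exists_baseHom r.lies (z₀.map g).lies α
  obtain ⟨fβ, hfβ⟩ : ∃ fβ : Over.mk r.str ⟶ Over.mk x₀.str, 𝒴.p.IsHomLift fβ β :=
    exists_baseHom r.lies (x₀.map f).lies β
  obtain ⟨z', ζ, hζ⟩ := IsFibGrpd.exists_lift' h𝒵 z₀.lies fα
  obtain ⟨x', ξ, hξ⟩ := IsFibGrpd.exists_lift' h𝒳 x₀.lies fβ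
  have hζ' : 𝒵.p.IsHomLift fα ζ := inferInstance
  have hξ' : 𝒳.p.IsHomLift fβ ξ := inferInstance
  have hgζ : 𝒴.p.IsHomLift fα (g.map ζ) := BasedFunctor.preserves_isHomLift g fα ζ
  have hfξ : 𝒴.p.IsHomLift fβ (f.map ξ) := BasedFunctor.preserves_isHomLift f fβ ξ
  have scα : 𝒴.p.IsStronglyCartesian fα α := IsFibGrpd.sc h𝒴 fα α
  have scξ : 𝒴.p.IsStronglyCartesian fβ (f.map ξ) := IsFibGrpd.sc h𝒴 fβ (f.map ξ)
  obtain ⟨χ₁, ⟨h11, h12⟩, -⟩ := Functor.IsStronglyCartesian.universal_property 𝒴.p fα α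
    (𝟙 _) fα (Category.id_comp _).symm (g.map ζ)
  obtain ⟨χ₂, ⟨h21, h22⟩, -⟩ := Functor.IsStronglyCartesian.universal_property 𝒴.p fβ (f.map ξ)
    (𝟙 _) fβ (Category.id_comp _).symm β
  have hθ : 𝒴.p.IsHomLift (𝟙 (Over.mk r.str)) (χ₁ ≫ χ₂) := inferInstance
  have hiso : IsIso (χ₁ ≫ χ₂) :=
    IsFibGrpd.isIso_of_isHomLift_id h𝒴 (U := Over.mk r.str) (χ₁ ≫ χ₂)
  have hz' : 𝒵.p.obj z' = Over.mk r.str := IsHomLift.domain_eq 𝒵.p fα ζ
  obtain ⟨o, ho1, ho2⟩ : ∃ o : (FibCat.fp g f).obj, o.obj.fst = z' ∧ o.obj.snd = x' := by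
    refine ⟨⟨⟨z', x', asIso (χ₁ ≫ χ₂)⟩, ?_⟩, rfl, rfl⟩
    show 𝒴.p.IsHomLift (𝟙 (𝒵.p.obj z')) (χ₁ ≫ χ₂)
    rw [hz']
    exact hθ
  subst ho1 ho2
  have ho : (FibCat.fp g f).p.obj o = Over.mk r.str := hz'
  refine ⟨AlgSt.Points.mk ⟨r.K, r.str, o, ho⟩, ?_, ?_⟩
  · exact AlgSt.Points.sound
      ⟨(⟨r.K, r.str, o, ho⟩ : AlgSt.FPt (FibCat.fp g f)).map (FibCat.fpFst g f), 𝟙 _, ζ, trivial⟩
  · exact AlgSt.Points.sound
      ⟨(⟨r.K, r.str, o, ho⟩ : AlgSt.FPt (FibCat.fp g f)).map (FibCat.fpSnd g f), 𝟙 _, ξ, trivial⟩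

end H10PT

namespace H10PT

open Groth.Agent.Lib.Helper10.Fib

variable {S : Scheme.{u}} {𝒳 : BasedCategory.{v₁, w₁} (Over S)} {𝒴 : BasedCategory.{v₂, w₂} (Over S)}

/-- A full functor between categories fibred in groupoids is injective on points. -/
theorem points_map_injective_of_full (h𝒳 : FibCat.IsFibGrpd 𝒳.p) (h𝒴 : FibCat.IsFibGrpd 𝒴.p)
    (f : 𝒳 ⥤ᵇ 𝒴) [f.toFunctor.Full] : Function.Injective (AlgSt.Points.map f) := by
  intro x₁ x₂ h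
  obtain ⟨a₁, rfl⟩ := AlgSt.Points.mk_surjective x₁
  obtain ⟨a₂, rfl⟩ := AlgSt.Points.mk_surjective x₂
  have hrel : AlgSt.FPt.Rel (a₁.map f) (a₂.map f) := by
    have h' : Relation.EqvGen (@AlgSt.FPt.Rel S 𝒴) (a₁.map f) (a₂.map f) := Quot.eqvGen_exact h
    exact (rel_equivalence h𝒴).eqvGen_iff.mp h'
  obtain ⟨r, α, β, -⟩ : ∃ (r : AlgSt.FPt 𝒴) (_ : r.obj ⟶ f.obj a₁.obj) (_ : r.obj ⟶ f.obj a₂.obj),
    True := hrel
  obtain ⟨fα, hfα⟩ : ∃ fα : Over.mk r.str ⟶ Over.mk a₁.str, 𝒴.p.IsHomLift fα α :=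
    exists_baseHom r.lies (a₁.map f).lies α
  obtain ⟨x', ξ, hξ⟩ := IsFibGrpd.exists_lift' h𝒳 a₁.lies fα
  have hξ' : 𝒳.p.IsHomLift fα ξ := inferInstance
  have hfξ : 𝒴.p.IsHomLift fα (f.map ξ) := BasedFunctor.preserves_isHomLift f fα ξ
  have scα : 𝒴.p.IsStronglyCartesian fα α := IsFibGrpd.sc h𝒴 fα α
  obtain ⟨χ, ⟨h1, h2⟩, -⟩ := Functor.IsStronglyCartesian.universal_property 𝒴.p fα α
    (𝟙 _) fα (Category.id_comp _).symm (f.map ξ)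
  obtain ⟨δ, hδ⟩ := f.toFunctor.map_surjective (χ ≫ β)
  exact AlgSt.Points.sound
    ⟨⟨r.K, r.str, x', IsHomLift.domain_eq 𝒳.p fα ξ⟩, ξ, δ, trivial⟩

end H10PT
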