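import Groth.Agent.Lib.Helper10.FibRep

/-!
# Functors over the base into a slice (helper10)

* `overIso`: two functors over the base into a slice `C/X` whose structure morphisms agree are
  2-isomorphic.
-/

set_option autoImplicit false

universe v₃ u₃ v₂ u₂ v u

open CategoryTheory Functor CategoryTheory.Limits

namespace Groth.Agent.Lib.Helper10.Fib

variable {C : Type u} [Category.{v} C]

lemma eqToHom_sandwich {a a' b b' c c' : C} (f : c ⟶ c') (ha : a = c) (ha' : a' = c')
    (hb : b = c) (hb' : b' = c') :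
    (eqToHom ha ≫ f ≫ eqToHom ha'.symm) ≫ eqToHom (ha'.trans hb'.symm)
      = eqToHom (ha.trans hb.symm) ≫ (eqToHom hb ≫ f ≫ eqToHom hb'.symm) := by
  subst ha ha' hb hb'
  simp

lemma eqToHom_sandwich_id {a b c : C} (ha : a = c) (hb : b = c) :
    eqToHom (ha.trans hb.symm) = eqToHom ha ≫ 𝟙 c ≫ eqToHom hb.symm := by
  subst ha hb
  simp

/-- Two functors over the base to a slice are 2-isomorphic as soon as their structure
morphisms agree. -/
def overIso {X : C} {𝒲 : BasedCategory.{v₃, u₃} C} (K₁ K₂ : 𝒲 ⥤ᵇ FibCat.overCat X)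
    (h : ∀ w : 𝒲.obj, (K₁.obj w).hom
      = eqToHom ((K₁.w_obj w).trans (K₂.w_obj w).symm) ≫ (K₂.obj w).hom) : K₁ ≅ K₂ :=
  BasedNatIso.mkNatIso
    (NatIso.ofComponents
      (fun w => Over.isoMk (eqToIso ((K₁.w_obj w).trans (K₂.w_obj w).symm)) (h w).symm)
      (fun {w w'} k => by
        apply Over.OverMorphism.ext
        have h1 : (K₁.map k).left
            = eqToHom (K₁.w_obj w) ≫ 𝒲.p.map k ≫ eqToHom (K₁.w_obj w').symm :=
          Functor.congr_hom K₁.w k
        have h2 : (K₂.map k).left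
            = eqToHom (K₂.w_obj w) ≫ 𝒲.p.map k ≫ eqToHom (K₂.w_obj w').symm :=
          Functor.congr_hom K₂.w k
        show (K₁.map k).left ≫ eqToHom ((K₁.w_obj w').trans (K₂.w_obj w').symm)
          = eqToHom ((K₁.w_obj w).trans (K₂.w_obj w).symm) ≫ (K₂.map k).left
        refine (congrArg (fun t => t ≫ eqToHom ((K₁.w_obj w').trans (K₂.w_obj w').symm)) h1).trans
          ?_
        refine Eq.trans ?_
          (congrArg (fun t => eqToHom ((K₁.w_obj w).trans (K₂.w_obj w).symm) ≫ t) h2).symm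
        exact eqToHom_sandwich (𝒲.p.map k) (K₁.w_obj w) (K₁.w_obj w') (K₂.w_obj w) (K₂.w_obj w')))
    (fun w => by
      apply IsHomLift.of_fac' _ _ _ (K₁.w_obj w) (K₂.w_obj w)
      exact eqToHom_sandwich_id (K₁.w_obj w) (K₂.w_obj w))

end Groth.Agent.Lib.Helper10.Fib
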