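import Mathlib
import Groth.Prelude.Def_AlgSt
import Groth.Agent.Lib.Helper10.Fib2
import Groth.Agent.Lib.Helper10.Fib7
import Groth.Agent.Lib.Helper10.StkPost

/-!
# Restriction of functors over the base into a 2-fibre product

For `ι : 𝒜 ⥤ᵇ ℬ` and `F : 𝒳 ⥤ᵇ 𝒮`, `G : 𝒴 ⥤ᵇ 𝒮`: the restriction functor
`Stk.restr ι (fp F G)` is faithful / full / essentially surjective as soon as the restriction
functors for `𝒳`, `𝒴` are and the one for `𝒮` is faithful / fully faithful.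
Consequences: `isStackFor_fp`, `isPrestackFor_fp`, `isStack_fp`, `isFibSetoid_fp`.
-/

set_option autoImplicit false
set_option backward.isDefEq.respectTransparency false
set_option backward.isDefEq.respectTransparency.types false

universe v₂ u₂ v₃ u₃ v₄ u₄ v₅ u₅ v₆ u₆ v u

open CategoryTheory CategoryTheory.Limits

namespace Groth.Agent.Lib.Helper10.StkFp

open Groth.Agent.Lib.Helper10.Fib Groth.Agent.Lib.Helper10.StkPost FibCat

variable {C : Type u} [Category.{v} C]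
variable {𝒜 : BasedCategory.{v₂, u₂} C} {ℬ : BasedCategory.{v₃, u₃} C}
  {𝒳 : BasedCategory.{v₄, u₄} C} {𝒴 : BasedCategory.{v₅, u₅} C} {𝒮 : BasedCategory.{v₆, u₆} C}
  (ι : 𝒜 ⥤ᵇ ℬ) (F : 𝒳 ⥤ᵇ 𝒮) (G : 𝒴 ⥤ᵇ 𝒮)

/-- 2-morphisms into a fibre product are determined by their two projections. -/
lemma fp_hom_ext {H H' : ℬ ⥤ᵇ fp F G} (α β : H ⟶ H')
    (h1 : (post ℬ (fpFst F G)).map α = (post ℬ (fpFst F G)).map β)
    (h2 : (post ℬ (fpSnd F G)).map α = (post ℬ (fpSnd F G)).map β) : α = β := by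
  apply BasedNatTrans.homCategory.ext
  ext x
  · exact congrArg (fun t => t.toNatTrans.app x) h1
  · exact congrArg (fun t => t.toNatTrans.app x) h2

theorem restr_fp_faithful [(Stk.restr ι 𝒳).Faithful] [(Stk.restr ι 𝒴).Faithful] :
    (Stk.restr ι (fp F G)).Faithful := by
  constructor
  intro H H' α β hαβ
  apply fp_hom_ext
  · apply (Stk.restr ι 𝒳).map_injective
    apply BasedNatTrans.homCategory.ext
    ext a
    exact congrArg (fun t => (t.toNatTrans.app a).hom.fst) hαβ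
  · apply (Stk.restr ι 𝒴).map_injective
    apply BasedNatTrans.homCategory.ext
    ext a
    exact congrArg (fun t => (t.toNatTrans.app a).hom.snd) hαβ

theorem restr_fp_full [(Stk.restr ι 𝒳).Full] [(Stk.restr ι 𝒴).Full]
    [(Stk.restr ι 𝒮).Faithful] : (Stk.restr ι (fp F G)).Full := by
  constructor
  intro H H' γ
  obtain ⟨α₁, hα₁⟩ := (Stk.restr ι 𝒳).map_surjective
    (X := (post ℬ (fpFst F G)).obj H) (Y := (post ℬ (fpFst F G)).obj H')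
    ((post 𝒜 (fpFst F G)).map γ)
  obtain ⟨α₂, hα₂⟩ := (Stk.restr ι 𝒴).map_surjective
    (X := (post ℬ (fpSnd F G)).obj H) (Y := (post ℬ (fpSnd F G)).obj H')
    ((post 𝒜 (fpSnd F G)).map γ)
  have e1 : ∀ a : 𝒜.obj, α₁.toNatTrans.app (ι.obj a) = (γ.toNatTrans.app a).hom.fst :=
    fun a => congrArg (fun t => t.toNatTrans.app a) hα₁
  have e2 : ∀ a : 𝒜.obj, α₂.toNatTrans.app (ι.obj a) = (γ.toNatTrans.app a).hom.snd :=
    fun a => congrArg (fun t => t.toNatTrans.app a) hα₂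
  have key : ((post ℬ F).map α₁ ≫
      (show BasedFunctor.comp (BasedFunctor.comp H' (fpFst F G)) F ⟶
          BasedFunctor.comp (BasedFunctor.comp H' (fpSnd F G)) G from
        (Stk.restr H' 𝒮).map (fpIso F G).hom)) =
      (show BasedFunctor.comp (BasedFunctor.comp H (fpFst F G)) F ⟶
          BasedFunctor.comp (BasedFunctor.comp H (fpSnd F G)) G from
        (Stk.restr H 𝒮).map (fpIso F G).hom) ≫ (post ℬ G).map α₂ := by
    apply (Stk.restr ι 𝒮).map_injective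
    apply BasedNatTrans.homCategory.ext
    ext a
    show F.toFunctor.map (α₁.toNatTrans.app (ι.obj a)) ≫ (H'.obj (ι.obj a)).obj.iso.hom =
      (H.obj (ι.obj a)).obj.iso.hom ≫ G.toFunctor.map (α₂.toNatTrans.app (ι.obj a))
    rw [e1, e2]
    exact (γ.toNatTrans.app a).hom.w
  have kx : ∀ x : ℬ.obj, F.toFunctor.map (α₁.toNatTrans.app x) ≫ (H'.obj x).obj.iso.hom =
      (H.obj x).obj.iso.hom ≫ G.toFunctor.map (α₂.toNatTrans.app x) :=
    fun x => congrArg (fun t => t.toNatTrans.app x) key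
  let α : H ⟶ H' :=
    { toNatTrans :=
        { app := fun x => ObjectProperty.homMk
            ⟨α₁.toNatTrans.app x, α₂.toNatTrans.app x, kx x⟩
          naturality := fun x y f => by
            apply ObjectProperty.hom_ext
            apply CategoricalPullback.hom_ext
            · exact α₁.toNatTrans.naturality f
            · exact α₂.toNatTrans.naturality f }
      isHomLift' := fun x => by
        haveI : 𝒳.p.IsHomLift (𝟙 (ℬ.p.obj x)) ((fpFst F G).toFunctor.map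
            (ObjectProperty.homMk (P := fpProp F G) (X := H.obj x) (Y := H'.obj x)
              ⟨α₁.toNatTrans.app x, α₂.toNatTrans.app x, kx x⟩)) := α₁.isHomLift' x
        exact BasedFunctor.isHomLift_map (fpFst F G) _ _ }
  refine ⟨α, ?_⟩
  apply BasedNatTrans.homCategory.ext
  ext a
  · exact e1 a
  · exact e2 a

omit ι in
lemma comp_aux {D : Type*} [Category D] {X Y Z W : D} (a : X ⟶ Y) (k : Y ⟶ Z) (gi : Z ⟶ W)
    (gh : W ⟶ Z) (E : X ⟶ W) (hE : E = a ≫ k ≫ gi) (h : gi ≫ gh = 𝟙 Z) :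
    a ≫ k = E ≫ gh := by
  subst hE
  simp [h]

/-- The isomorphism `ι ⋙ fpLift A B E ≅ K` built from isomorphisms of the two projections. -/
def liftIso (K : 𝒜 ⥤ᵇ fp F G) (A : ℬ ⥤ᵇ 𝒳) (B : ℬ ⥤ᵇ 𝒴)
    (E : BasedFunctor.comp A F ≅ BasedFunctor.comp B G)
    (i₁ : BasedFunctor.comp ι A ≅ BasedFunctor.comp K (fpFst F G))
    (i₂ : BasedFunctor.comp ι B ≅ BasedFunctor.comp K (fpSnd F G))
    (w : ∀ x : 𝒜.obj, F.toFunctor.map (i₁.hom.toNatTrans.app x) ≫ (K.obj x).obj.iso.hom =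
      E.hom.toNatTrans.app (ι.obj x) ≫ G.toFunctor.map (i₂.hom.toNatTrans.app x)) :
    BasedFunctor.comp ι (fpLift A B E) ≅ K :=
  BasedNatIso.mkNatIso
    (NatIso.ofComponents
      (fun x => (fpProp F G).isoMk (X := (fpLift A B E).obj (ι.obj x)) (Y := K.obj x)
        (CategoricalPullback.mkIso (x := ((fpLift A B E).obj (ι.obj x)).obj) (y := (K.obj x).obj)
          ((natIsoOfBased i₁).app x) ((natIsoOfBased i₂).app x) (w x)))
      (by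
        intro x y f
        apply ObjectProperty.hom_ext
        apply CategoricalPullback.hom_ext
        · exact i₁.hom.toNatTrans.naturality f
        · exact i₂.hom.toNatTrans.naturality f))
    (fun x => by
      have h : 𝒳.p.IsHomLift (𝟙 (𝒜.p.obj x)) (i₁.hom.toNatTrans.app x) := i₁.hom.isHomLift' x
      refine (BasedFunctor.isHomLift_iff (fpFst F G) _ _).mp ?_
      exact h)

theorem restr_fp_essSurj [(Stk.restr ι 𝒳).EssSurj] [(Stk.restr ι 𝒴).EssSurj]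
    [(Stk.restr ι 𝒮).Full] [(Stk.restr ι 𝒮).Faithful] : (Stk.restr ι (fp F G)).EssSurj := by
  constructor
  intro K
  obtain ⟨A, ⟨i₁⟩⟩ : ∃ A : ℬ ⥤ᵇ 𝒳,
      Nonempty ((Stk.restr ι 𝒳).obj A ≅ BasedFunctor.comp K (fpFst F G)) :=
    ⟨_, ⟨(Stk.restr ι 𝒳).objObjPreimageIso _⟩⟩
  obtain ⟨B, ⟨i₂⟩⟩ : ∃ B : ℬ ⥤ᵇ 𝒴,
      Nonempty ((Stk.restr ι 𝒴).obj B ≅ BasedFunctor.comp K (fpSnd F G)) :=
    ⟨_, ⟨(Stk.restr ι 𝒴).objObjPreimageIso _⟩⟩
  let e₀ : (Stk.restr ι 𝒮).obj (BasedFunctor.comp A F) ≅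
      (Stk.restr ι 𝒮).obj (BasedFunctor.comp B G) :=
    (show (Stk.restr ι 𝒮).obj (BasedFunctor.comp A F) ≅
        BasedFunctor.comp K (BasedFunctor.comp (fpFst F G) F) from (post 𝒜 F).mapIso i₁) ≪≫
      (Stk.restr K 𝒮).mapIso (fpIso F G) ≪≫
      (show BasedFunctor.comp K (BasedFunctor.comp (fpSnd F G) G) ≅
        (Stk.restr ι 𝒮).obj (BasedFunctor.comp B G) from ((post 𝒜 G).mapIso i₂).symm)
  let E : BasedFunctor.comp A F ≅ BasedFunctor.comp B G := (Stk.restr ι 𝒮).preimageIso e₀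
  have hE : ∀ x : 𝒜.obj, E.hom.toNatTrans.app (ι.obj x) =
      F.toFunctor.map (i₁.hom.toNatTrans.app x) ≫ (K.obj x).obj.iso.hom ≫
        G.toFunctor.map (i₂.inv.toNatTrans.app x) :=
    fun x => congrArg (fun t => t.toNatTrans.app x) ((Stk.restr ι 𝒮).map_preimage e₀.hom)
  have hi₂ : ∀ x : 𝒜.obj, i₂.inv.toNatTrans.app x ≫ i₂.hom.toNatTrans.app x = 𝟙 _ :=
    fun x => congrArg (fun t => t.toNatTrans.app x) i₂.inv_hom_id
  have w : ∀ x : 𝒜.obj, F.toFunctor.map (i₁.hom.toNatTrans.app x) ≫ (K.obj x).obj.iso.hom =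
      E.hom.toNatTrans.app (ι.obj x) ≫ G.toFunctor.map (i₂.hom.toNatTrans.app x) := by
    intro x
    have h3 : G.toFunctor.map (i₂.inv.toNatTrans.app x) ≫
        G.toFunctor.map (i₂.hom.toNatTrans.app x) = 𝟙 _ := by
      rw [← G.toFunctor.map_comp, hi₂ x]
      exact G.toFunctor.map_id _
    exact comp_aux _ _ _ _ _ (hE x) h3
  exact ⟨fpLift A B E, ⟨liftIso ι F G K A B E i₁ i₂ w⟩⟩

omit ι in
theorem isStackFor_fp {U : C} (R : Sieve U) (h𝒳 : Stk.IsStackFor R 𝒳) (h𝒴 : Stk.IsStackFor R 𝒴)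
    (h𝒮 : Stk.IsPrestackFor R 𝒮) : Stk.IsStackFor R (fp F G) := by
  haveI : (Stk.restr (Stk.sieveIncl R) 𝒳).IsEquivalence := h𝒳
  haveI : (Stk.restr (Stk.sieveIncl R) 𝒴).IsEquivalence := h𝒴
  haveI : (Stk.restr (Stk.sieveIncl R) 𝒮).Full := h𝒮.1
  haveI : (Stk.restr (Stk.sieveIncl R) 𝒮).Faithful := h𝒮.2
  haveI := restr_fp_faithful (Stk.sieveIncl R) F G
  haveI := restr_fp_full (Stk.sieveIncl R) F G
  haveI := restr_fp_essSurj (Stk.sieveIncl R) F G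
  show (Stk.restr (Stk.sieveIncl R) (fp F G)).IsEquivalence
  exact { }

omit ι in
theorem isPrestackFor_fp {U : C} (R : Sieve U) (h𝒳 : Stk.IsPrestackFor R 𝒳)
    (h𝒴 : Stk.IsPrestackFor R 𝒴) (h𝒮 : (Stk.restr (Stk.sieveIncl R) 𝒮).Faithful) :
    Stk.IsPrestackFor R (fp F G) := by
  haveI : (Stk.restr (Stk.sieveIncl R) 𝒳).Full := h𝒳.1
  haveI : (Stk.restr (Stk.sieveIncl R) 𝒳).Faithful := h𝒳.2
  haveI : (Stk.restr (Stk.sieveIncl R) 𝒴).Full := h𝒴.1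
  haveI : (Stk.restr (Stk.sieveIncl R) 𝒴).Faithful := h𝒴.2
  haveI := h𝒮
  exact ⟨restr_fp_full (Stk.sieveIncl R) F G, restr_fp_faithful (Stk.sieveIncl R) F G⟩

omit ι in
theorem isStack_fp (J : GrothendieckTopology C) (h𝒳 : Stk.IsStack J 𝒳) (h𝒴 : Stk.IsStack J 𝒴)
    (h𝒮 : Stk.IsPrestack J 𝒮) : Stk.IsStack J (fp F G) :=
  ⟨isFibGrpd_fp F G h𝒳.1 h𝒴.1 h𝒮.1,
    fun _ R hR => isStackFor_fp F G R (h𝒳.2 R hR) (h𝒴.2 R hR) (h𝒮.2 R hR)⟩

omit ι in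
theorem isPrestack_fp (J : GrothendieckTopology C) (h𝒳 : Stk.IsPrestack J 𝒳)
    (h𝒴 : Stk.IsPrestack J 𝒴) (h𝒮 : Stk.IsPrestack J 𝒮) : Stk.IsPrestack J (fp F G) :=
  ⟨isFibGrpd_fp F G h𝒳.1 h𝒴.1 h𝒮.1,
    fun _ R hR => isPrestackFor_fp F G R (h𝒳.2 R hR) (h𝒴.2 R hR) (h𝒮.2 R hR).2⟩

omit ι in
theorem isFibSetoid_fp (h𝒳 : IsFibSetoid 𝒳.p) (h𝒴 : IsFibSetoid 𝒴.p) (h𝒮 : IsFibGrpd 𝒮.p) :
    IsFibSetoid (fp F G).p := by
  refine ⟨isFibGrpd_fp F G h𝒳.1 h𝒴.1 h𝒮, fun U X Y => ⟨fun ψ₁ ψ₂ => ?_⟩⟩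
  haveI := ψ₁.2
  haveI := ψ₂.2
  apply Subtype.ext
  apply ObjectProperty.hom_ext
  apply CategoricalPullback.hom_ext
  · have hX : 𝒳.p.obj X.1.obj.fst = U := X.2
    have hY : 𝒳.p.obj Y.1.obj.fst = U := Y.2
    have l1 : 𝒳.p.IsHomLift (𝟙 U) ψ₁.1.hom.fst :=
      BasedFunctor.preserves_isHomLift (fpFst F G) (𝟙 U) ψ₁.1
    have l2 : 𝒳.p.IsHomLift (𝟙 U) ψ₂.1.hom.fst :=
      BasedFunctor.preserves_isHomLift (fpFst F G) (𝟙 U) ψ₂.1
    have h3 : (⟨ψ₁.1.hom.fst, l1⟩ :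
        (Functor.Fiber.mk hX : 𝒳.p.Fiber U) ⟶ (Functor.Fiber.mk hY : 𝒳.p.Fiber U)) =
        ⟨ψ₂.1.hom.fst, l2⟩ := (h𝒳.2 U _ _).elim _ _
    exact congrArg Subtype.val h3
  · have hX : 𝒴.p.obj X.1.obj.snd = U := ((fpSnd F G).w_obj X.1).trans X.2
    have hY : 𝒴.p.obj Y.1.obj.snd = U := ((fpSnd F G).w_obj Y.1).trans Y.2
    have l1 : 𝒴.p.IsHomLift (𝟙 U) ψ₁.1.hom.snd :=
      BasedFunctor.preserves_isHomLift (fpSnd F G) (𝟙 U) ψ₁.1
    have l2 : 𝒴.p.IsHomLift (𝟙 U) ψ₂.1.hom.snd :=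
      BasedFunctor.preserves_isHomLift (fpSnd F G) (𝟙 U) ψ₂.1
    have h3 : (⟨ψ₁.1.hom.snd, l1⟩ :
        (Functor.Fiber.mk hX : 𝒴.p.Fiber U) ⟶ (Functor.Fiber.mk hY : 𝒴.p.Fiber U)) =
        ⟨ψ₂.1.hom.snd, l2⟩ := (h𝒴.2 U _ _).elim _ _
    exact congrArg Subtype.val h3

end Groth.Agent.Lib.Helper10.StkFp
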