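import Groth.Agent.Lib.Helper10.LiftSqLib
import Groth.Agent.Lib.Helper10.FibCart

/-!
# Unique lifting against `j` is stable under 2-fibre product base change (helper10)

* `fpTwoHom`, `fpTwoIso`, `fpTwoHom_ext`: 2-morphisms between functors into a 2-fibre product.
* `liftsUniquely_fpFst`: if `f` lifts uniquely against `j`, so does `fpFst y f`.
-/

set_option autoImplicit false

universe v₈ u₈ v₇ u₇ v₆ u₆ v₅ u₅ v₄ u₄ v₃ u₃ v₂ u₂ v u

open CategoryTheory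

namespace Groth.Agent.Lib.Helper10.LiftSqBC

open LiftSq Groth.Agent.Lib.Helper10.LiftSqLib Groth.Agent.Lib.Helper10.Fib

section Abstract

variable {D : Type u₂} [Category.{v₂} D] {E : Type u₃} [Category.{v₃} E]

lemma sq_inv {a b c d : D} (p : a ⟶ b) (p' : b ⟶ a) (q : c ⟶ d) (q' : d ⟶ c) (i : a ⟶ c)
    (i' : b ⟶ d) (hp : p' ≫ p = 𝟙 _) (hq : q ≫ q' = 𝟙 _) (h : p ≫ i' = i ≫ q) :
    p' ≫ i = i' ≫ q' := by
  calc p' ≫ i = p' ≫ i ≫ q ≫ q' := by rw [hq, Category.comp_id]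
    _ = p' ≫ (p ≫ i') ≫ q' := by rw [h, Category.assoc]
    _ = i' ≫ q' := by rw [Category.assoc, ← Category.assoc, hp, Category.id_comp]

lemma absA2 (Y : D ⥤ E) {p q r : D} (b : p ⟶ q) (t : q ⟶ r) (s : p ⟶ r) (h1 : b ≫ t = s)
    {z z' : E} (iq : Y.obj q ⟶ z) (ir : Y.obj r ⟶ z') (ft : z ⟶ z')
    (h2 : Y.map t ≫ ir = iq ≫ ft) : (Y.map b ≫ iq) ≫ ft = Y.map s ≫ ir := by
  subst h1
  rw [Y.map_comp, Category.assoc, Category.assoc, h2]

lemma absA3 (Y : D ⥤ E) {p q r : D} (u : q ⟶ p) (u' : p ⟶ q) (v : p ⟶ r) {z1 z2 : E}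
    (i1 : Y.obj q ⟶ z1) (i2 : Y.obj r ⟶ z2) (fm : z1 ⟶ z2) (h2 : u ≫ u' = 𝟙 q)
    (h1 : (Y.map u' ≫ i1) ≫ fm = Y.map v ≫ i2) : Y.map (u ≫ v) ≫ i2 = i1 ≫ fm := by
  rw [Y.map_comp, Category.assoc, ← h1]
  simp only [Category.assoc]
  rw [← Y.map_comp_assoc, h2, Y.map_id, Category.id_comp]

lemma absA4 {p q r s : D} (u : q ⟶ p) (u' : p ⟶ q) (v : p ⟶ r) (t1 : q ⟶ s) (t2 : r ⟶ s)
    (σ : p ⟶ s) (e1 : u' ≫ t1 = σ) (e2 : v ≫ t2 = σ) (e3 : u ≫ u' = 𝟙 q) :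
    (u ≫ v) ≫ t2 = t1 := by
  rw [Category.assoc, e2, ← e1, ← Category.assoc, e3, Category.id_comp]

lemma absA5 {p q r : D} (u : q ⟶ p) (u' : p ⟶ q) (v : p ⟶ r) (t : q ⟶ r)
    (e3 : u ≫ u' = 𝟙 q) (h : u' ≫ t = v) : t = u ≫ v := by
  rw [← h, ← Category.assoc, e3, Category.id_comp]

end Abstract

variable {C : Type u} [Category.{v} C]

/-- component of a 2-morphism -/
abbrev cmp {𝒳 : BasedCategory.{v₆, u₆} C} {𝒴 : BasedCategory.{v₇, u₇} C} {A B : 𝒳 ⥤ᵇ 𝒴}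
    (α : A ⟶ B) (x : 𝒳.obj) : A.obj x ⟶ B.obj x := α.toNatTrans.app x

theorem app_eq {𝒳 : BasedCategory.{v₆, u₆} C} {𝒴 : BasedCategory.{v₇, u₇} C} {A B : 𝒳 ⥤ᵇ 𝒴}
    {α β : A ⟶ B} (h : α = β) (x : 𝒳.obj) : cmp α x = cmp β x := by rw [h]

section TwoCells

variable {𝒰 : BasedCategory.{v₂, u₂} C} {𝒱 : BasedCategory.{v₃, u₃} C}
  {𝒮 : BasedCategory.{v₄, u₄} C} {𝒲 : BasedCategory.{v₅, u₅} C} (F : 𝒰 ⥤ᵇ 𝒮) (G : 𝒱 ⥤ᵇ 𝒮)

/-- A 2-morphism between functors into the 2-fibre product, from its two components. -/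
def fpTwoHom {A B : 𝒲 ⥤ᵇ FibCat.fp F G}
    (α₁ : BasedFunctor.comp A (FibCat.fpFst F G) ⟶ BasedFunctor.comp B (FibCat.fpFst F G))
    (α₂ : BasedFunctor.comp A (FibCat.fpSnd F G) ⟶ BasedFunctor.comp B (FibCat.fpSnd F G))
    (h : ∀ w : 𝒲.obj, F.map (cmp α₁ w) ≫ (B.obj w).obj.iso.hom
        = (A.obj w).obj.iso.hom ≫ G.map (cmp α₂ w)) : A ⟶ B where
  toNatTrans :=
    { app := fun w => ObjectProperty.homMk ⟨cmp α₁ w, cmp α₂ w, h w⟩
      naturality := fun w w' k => by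
        apply ObjectProperty.hom_ext
        apply CategoryTheory.Limits.CategoricalPullback.hom_ext
        · exact α₁.toNatTrans.naturality k
        · exact α₂.toNatTrans.naturality k }
  isHomLift' := fun w => (fp_isHomLift_iff F G _ _).2 (α₁.isHomLift' w)

theorem fpTwoHom_fst {A B : 𝒲 ⥤ᵇ FibCat.fp F G}
    (α₁ : BasedFunctor.comp A (FibCat.fpFst F G) ⟶ BasedFunctor.comp B (FibCat.fpFst F G))
    (α₂ : BasedFunctor.comp A (FibCat.fpSnd F G) ⟶ BasedFunctor.comp B (FibCat.fpSnd F G))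
    (h : ∀ w : 𝒲.obj, F.map (cmp α₁ w) ≫ (B.obj w).obj.iso.hom
        = (A.obj w).obj.iso.hom ≫ G.map (cmp α₂ w)) :
    BasedCategory.whiskerRight (fpTwoHom F G α₁ α₂ h) (FibCat.fpFst F G) = α₁ :=
  hom_ext' fun _ => rfl

theorem fpTwoHom_snd {A B : 𝒲 ⥤ᵇ FibCat.fp F G}
    (α₁ : BasedFunctor.comp A (FibCat.fpFst F G) ⟶ BasedFunctor.comp B (FibCat.fpFst F G))
    (α₂ : BasedFunctor.comp A (FibCat.fpSnd F G) ⟶ BasedFunctor.comp B (FibCat.fpSnd F G))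
    (h : ∀ w : 𝒲.obj, F.map (cmp α₁ w) ≫ (B.obj w).obj.iso.hom
        = (A.obj w).obj.iso.hom ≫ G.map (cmp α₂ w)) :
    BasedCategory.whiskerRight (fpTwoHom F G α₁ α₂ h) (FibCat.fpSnd F G) = α₂ :=
  hom_ext' fun _ => rfl

theorem fpTwoHom_ext {A B : 𝒲 ⥤ᵇ FibCat.fp F G} {α β : A ⟶ B}
    (h₁ : BasedCategory.whiskerRight α (FibCat.fpFst F G)
      = BasedCategory.whiskerRight β (FibCat.fpFst F G))
    (h₂ : BasedCategory.whiskerRight α (FibCat.fpSnd F G)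
      = BasedCategory.whiskerRight β (FibCat.fpSnd F G)) : α = β := by
  apply hom_ext'
  intro w
  apply ObjectProperty.hom_ext
  apply CategoryTheory.Limits.CategoricalPullback.hom_ext
  · exact app_eq h₁ w
  · exact app_eq h₂ w

/-- A 2-isomorphism between functors into the 2-fibre product, from its two components. -/
def fpTwoIso {A B : 𝒲 ⥤ᵇ FibCat.fp F G}
    (α₁ : BasedFunctor.comp A (FibCat.fpFst F G) ≅ BasedFunctor.comp B (FibCat.fpFst F G))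
    (α₂ : BasedFunctor.comp A (FibCat.fpSnd F G) ≅ BasedFunctor.comp B (FibCat.fpSnd F G))
    (h : ∀ w : 𝒲.obj, F.map (cmp α₁.hom w) ≫ (B.obj w).obj.iso.hom
        = (A.obj w).obj.iso.hom ≫ G.map (cmp α₂.hom w)) : A ≅ B where
  hom := fpTwoHom F G α₁.hom α₂.hom h
  inv := fpTwoHom F G α₁.inv α₂.inv (fun w => by
    have h1 : cmp α₁.inv w ≫ cmp α₁.hom w = 𝟙 _ := app_eq α₁.inv_hom_id w
    have h2 : cmp α₂.hom w ≫ cmp α₂.inv w = 𝟙 _ := app_eq α₂.hom_inv_id w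
    have hp : F.map (cmp α₁.inv w) ≫ F.map (cmp α₁.hom w) = 𝟙 _ :=
      (F.toFunctor.map_comp _ _).symm.trans ((congrArg F.toFunctor.map h1).trans
        (F.toFunctor.map_id _))
    have hq : G.map (cmp α₂.hom w) ≫ G.map (cmp α₂.inv w) = 𝟙 _ :=
      (G.toFunctor.map_comp _ _).symm.trans ((congrArg G.toFunctor.map h2).trans
        (G.toFunctor.map_id _))
    exact sq_inv _ _ _ _ _ _ hp hq (h w))
  hom_inv_id := by
    apply fpTwoHom_ext F G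
    · rw [whiskerRight_comp', fpTwoHom_fst, fpTwoHom_fst, whiskerRight_id']
      exact α₁.hom_inv_id
    · rw [whiskerRight_comp', fpTwoHom_snd, fpTwoHom_snd, whiskerRight_id']
      exact α₂.hom_inv_id
  inv_hom_id := by
    apply fpTwoHom_ext F G
    · rw [whiskerRight_comp', fpTwoHom_fst, fpTwoHom_fst, whiskerRight_id']
      exact α₁.inv_hom_id
    · rw [whiskerRight_comp', fpTwoHom_snd, fpTwoHom_snd, whiskerRight_id']
      exact α₂.inv_hom_id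

end TwoCells

section BC

variable {𝒜 : BasedCategory.{v₂, u₂} C} {ℬ : BasedCategory.{v₃, u₃} C}
  {𝒳 : BasedCategory.{v₄, u₄} C} {𝒴 : BasedCategory.{v₅, u₅} C} {𝒴' : BasedCategory.{v₆, u₆} C}
  (j : 𝒜 ⥤ᵇ ℬ) (f : 𝒳 ⥤ᵇ 𝒴) (y : 𝒴' ⥤ᵇ 𝒴)

/-- the square for `f` derived from a square for the base change of `f` -/
def sqBC (sq : Sq j (FibCat.fpFst y f)) : Sq j f where
  top := BasedFunctor.comp sq.top (FibCat.fpSnd y f)
  bot := BasedFunctor.comp sq.bot y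
  iso := wrIso sq.iso y ≪≫ wlIso sq.top (FibCat.fpIso y f)

/-- a lift for the base change gives a lift for `f` -/
def liftBC {sq : Sq j (FibCat.fpFst y f)} (d : sq.Lift) : (sqBC j f y sq).Lift where
  fn := BasedFunctor.comp d.fn (FibCat.fpSnd y f)
  isoTop := wrIso d.isoTop (FibCat.fpSnd y f)
  isoBot := wrIso d.isoBot y ≪≫ wlIso d.fn (FibCat.fpIso y f)
  w := by
    apply hom_ext'
    intro a
    have h1 : cmp d.isoBot.hom (j.obj a) ≫ (FibCat.fpFst y f).map (cmp d.isoTop.hom a)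
        = cmp sq.iso.hom a := app_eq d.w a
    have h2 : y.map ((FibCat.fpFst y f).map (cmp d.isoTop.hom a)) ≫ (sq.top.obj a).obj.iso.hom
        = (d.fn.obj (j.obj a)).obj.iso.hom ≫
          f.map ((FibCat.fpSnd y f).map (cmp d.isoTop.hom a)) := (cmp d.isoTop.hom a).hom.w
    exact absA2 y.toFunctor _ _ _ h1 _ _ _ h2

/-- a morphism of lifts for the base change gives a morphism of lifts for `f` -/
def homBC {sq : Sq j (FibCat.fpFst y f)} {d d' : sq.Lift} (Θ : d ⟶ d') :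
    liftBC j f y d ⟶ liftBC j f y d' where
  hom := BasedCategory.whiskerRight Θ.hom (FibCat.fpSnd y f)
  w_top := by
    have h1 := congrArg (fun t => BasedCategory.whiskerRight t (FibCat.fpSnd y f)) Θ.w_top
    simp only [whiskerRight_comp'] at h1
    exact h1
  w_bot := by
    apply hom_ext'
    intro w
    have h1 : cmp d.isoBot.hom w ≫ (FibCat.fpFst y f).map (cmp Θ.hom w)
        = cmp d'.isoBot.hom w := app_eq Θ.w_bot w
    have h2 : y.map ((FibCat.fpFst y f).map (cmp Θ.hom w)) ≫ (d'.fn.obj w).obj.iso.hom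
        = (d.fn.obj w).obj.iso.hom ≫ f.map ((FibCat.fpSnd y f).map (cmp Θ.hom w)) :=
      (cmp Θ.hom w).hom.w
    exact absA2 y.toFunctor _ _ _ h1 _ _ _ h2

theorem hasLift_fpFst (hf : Lifts j f) : Lifts j (FibCat.fpFst y f) := by
  intro sq
  obtain ⟨d'⟩ := hf (sqBC j f y sq)
  let L : ℬ ⥤ᵇ FibCat.fp y f := FibCat.fpLift sq.bot d'.fn d'.isoBot
  have hcomp : ∀ a : 𝒜.obj, y.map (cmp sq.iso.hom a) ≫ (sq.top.obj a).obj.iso.hom
      = cmp d'.isoBot.hom (j.obj a) ≫ f.map (cmp d'.isoTop.hom a) :=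
    fun a => (app_eq d'.w a).symm
  let τ : BasedFunctor.comp j L ≅ sq.top :=
    fpTwoIso y f (A := BasedFunctor.comp j L) (B := sq.top) sq.iso d'.isoTop hcomp
  refine ⟨⟨L, τ, Iso.refl _, ?_⟩⟩
  apply hom_ext'
  intro a
  show 𝟙 _ ≫ cmp sq.iso.hom a = cmp sq.iso.hom a
  exact Category.id_comp _

theorem uniqLift_fpFst (hf : LiftsUnique j f) : LiftsUnique j (FibCat.fpFst y f) := by
  intro sq d₁ d₂
  obtain ⟨uD⟩ := hf (sqBC j f y sq) (liftBC j f y d₁) (liftBC j f y d₂)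
  let m : liftBC j f y d₁ ⟶ liftBC j f y d₂ := uD.default
  let β : BasedFunctor.comp d₁.fn (FibCat.fpFst y f) ⟶ BasedFunctor.comp d₂.fn (FibCat.fpFst y f) :=
    d₁.isoBot.inv ≫ d₂.isoBot.hom
  have hinv : ∀ w : ℬ.obj, cmp d₁.isoBot.inv w ≫ cmp d₁.isoBot.hom w = 𝟙 _ :=
    fun w => app_eq d₁.isoBot.inv_hom_id w
  have hβm : ∀ w : ℬ.obj, y.map (cmp β w) ≫ (d₂.fn.obj w).obj.iso.hom
      = (d₁.fn.obj w).obj.iso.hom ≫ f.map (cmp m.hom w) := by
    intro w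
    have h1 : (y.map (cmp d₁.isoBot.hom w) ≫ (d₁.fn.obj w).obj.iso.hom) ≫ f.map (cmp m.hom w)
        = y.map (cmp d₂.isoBot.hom w) ≫ (d₂.fn.obj w).obj.iso.hom := app_eq m.w_bot w
    exact absA3 y.toFunctor (cmp d₁.isoBot.inv w) (cmp d₁.isoBot.hom w) (cmp d₂.isoBot.hom w)
      _ _ _ (hinv w) h1
  let Θh : d₁.fn ⟶ d₂.fn := fpTwoHom y f β m.hom hβm
  have hΘ1 : BasedCategory.whiskerRight Θh (FibCat.fpFst y f) = β := fpTwoHom_fst y f β m.hom hβm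
  have hΘ2 : BasedCategory.whiskerRight Θh (FibCat.fpSnd y f) = m.hom :=
    fpTwoHom_snd y f β m.hom hβm
  have wtop : BasedCategory.whiskerLeft j Θh ≫ d₂.isoTop.hom = d₁.isoTop.hom := by
    apply fpTwoHom_ext y f
    · apply hom_ext'
      intro a
      have e1 : cmp d₁.isoBot.hom (j.obj a) ≫ (FibCat.fpFst y f).map (cmp d₁.isoTop.hom a)
          = cmp sq.iso.hom a := app_eq d₁.w a
      have e2 : cmp d₂.isoBot.hom (j.obj a) ≫ (FibCat.fpFst y f).map (cmp d₂.isoTop.hom a)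
          = cmp sq.iso.hom a := app_eq d₂.w a
      show (FibCat.fpFst y f).map (cmp Θh (j.obj a) ≫ cmp d₂.isoTop.hom a)
        = (FibCat.fpFst y f).map (cmp d₁.isoTop.hom a)
      exact ((FibCat.fpFst y f).toFunctor.map_comp _ _).trans
        (absA4 (cmp d₁.isoBot.inv (j.obj a)) (cmp d₁.isoBot.hom (j.obj a))
          (cmp d₂.isoBot.hom (j.obj a)) _ _ _ e1 e2 (hinv (j.obj a)))
    · apply hom_ext'
      intro a
      have e1 : cmp m.hom (j.obj a) ≫ (FibCat.fpSnd y f).map (cmp d₂.isoTop.hom a)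
          = (FibCat.fpSnd y f).map (cmp d₁.isoTop.hom a) := app_eq m.w_top a
      show (FibCat.fpSnd y f).map (cmp Θh (j.obj a) ≫ cmp d₂.isoTop.hom a)
        = (FibCat.fpSnd y f).map (cmp d₁.isoTop.hom a)
      exact ((FibCat.fpSnd y f).toFunctor.map_comp _ _).trans e1
  have wbot : d₁.isoBot.hom ≫ BasedCategory.whiskerRight Θh (FibCat.fpFst y f)
      = d₂.isoBot.hom :=
    (congrArg (fun t => d₁.isoBot.hom ≫ t) hΘ1).trans (Iso.hom_inv_id_assoc _ _)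
  refine ⟨⟨⟨⟨Θh, wtop, wbot⟩⟩, ?_⟩⟩
  intro Θ'
  apply Sq.Lift.hom_ext
  show Θ'.hom = Θh
  apply fpTwoHom_ext y f
  · refine Eq.trans ?_ hΘ1.symm
    apply hom_ext'
    intro w
    have h1 : cmp d₁.isoBot.hom w ≫ (FibCat.fpFst y f).map (cmp Θ'.hom w)
        = cmp d₂.isoBot.hom w := app_eq Θ'.w_bot w
    exact absA5 (cmp d₁.isoBot.inv w) (cmp d₁.isoBot.hom w) (cmp d₂.isoBot.hom w) _ (hinv w) h1
  · refine Eq.trans ?_ hΘ2.symm
    have hm : homBC j f y Θ' = m := uD.uniq (homBC j f y Θ')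
    have hm' : (homBC j f y Θ').hom = m.hom := congrArg Sq.Lift.Hom.hom hm
    exact hm'

theorem liftsUniquely_fpFst (hf : LiftsUniquely j f) : LiftsUniquely j (FibCat.fpFst y f) := by
  intro sq
  exact ⟨hasLift_fpFst j f y (fun s => (hf s).1) sq, uniqLift_fpFst j f y (fun s => (hf s).2) sq⟩

end BC

end Groth.Agent.Lib.Helper10.LiftSqBC
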