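import Mathlib
import Groth.Prelude.Def_AlgSt3
import Groth.Agent.Lib.Helper10.AlgStDiag
import Groth.Agent.Lib.Helper10.LiftSqBC

/-!
# The diagonal is representable with `P` as soon as the diagonals of all base changes are

For `f : 𝒳 ⟶ 𝒴` and `G : 𝒵 ⟶ 𝒳 ×_𝒴 𝒳` with components `x₁, x₂ : 𝒵 ⟶ 𝒳`, put `y = x₁ ⋙ f`.
Then `x₁`, `x₂` define sections `s₁`, `s₂` of the base change `π : 𝒵 ×_𝒴 𝒳 ⟶ 𝒵`, hence
`G' : 𝒵 ⟶ (𝒵 ×_𝒴 𝒳) ×_𝒵 (𝒵 ×_𝒴 𝒳)`, and `G' ⋙ diagN ≅ G`.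
-/

set_option autoImplicit false
set_option backward.isDefEq.respectTransparency false
set_option backward.isDefEq.respectTransparency.types false

universe w₄ v₄ w₃ v₃ w₂ v₂ w₁ v₁ u v

open CategoryTheory CategoryTheory.Limits AlgebraicGeometry Opposite

namespace Groth.Agent.Lib.Helper10.AlgStRep

open Groth.Agent.Lib.Helper10.Fib Groth.Agent.Lib.Helper10.LiftSqLib
  Groth.Agent.Lib.Helper10.LiftSqBC

section Conv

variable {C : Type u} [Category.{v} C] {𝒳 : BasedCategory.{v₁, w₁} C}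
  {𝒴 : BasedCategory.{v₂, w₂} C} {𝒵 : BasedCategory.{v₃, w₃} C}
  (f : 𝒳 ⥤ᵇ 𝒴) (G : 𝒵 ⥤ᵇ FibCat.fp f f)

/-- first component -/
def cx₁ : 𝒵 ⥤ᵇ 𝒳 := BasedFunctor.comp G (FibCat.fpFst f f)

/-- second component -/
def cx₂ : 𝒵 ⥤ᵇ 𝒳 := BasedFunctor.comp G (FibCat.fpSnd f f)

/-- the 2-isomorphism between the images of the components -/
def cθ : BasedFunctor.comp (cx₁ f G) f ≅ BasedFunctor.comp (cx₂ f G) f :=
  wlIso G (FibCat.fpIso f f)

/-- the base point -/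
def cy : 𝒵 ⥤ᵇ 𝒴 := BasedFunctor.comp (cx₁ f G) f

/-- first section of the base change -/
def cs₁ : 𝒵 ⥤ᵇ FibCat.fp (cy f G) f :=
  FibCat.fpLift (BasedFunctor.id 𝒵) (cx₁ f G) (Iso.refl _)

/-- second section of the base change -/
def cs₂ : 𝒵 ⥤ᵇ FibCat.fp (cy f G) f :=
  FibCat.fpLift (BasedFunctor.id 𝒵) (cx₂ f G) (cθ f G)

/-- the pair of sections -/
def cG' : 𝒵 ⥤ᵇ FibCat.fp (FibCat.fpFst (cy f G) f) (FibCat.fpFst (cy f G) f) :=
  FibCat.fpLift (cs₁ f G) (cs₂ f G) (Iso.refl _)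

/-- the pair of sections maps to `G` -/
def cκ : BasedFunctor.comp (cG' f G) (diagN f (cy f G)) ≅ G :=
  fpTwoIso f f (A := BasedFunctor.comp (cG' f G) (diagN f (cy f G))) (B := G)
    (Iso.refl _) (Iso.refl _) (by
      intro w
      show f.map (𝟙 ((cx₁ f G).obj w)) ≫ (G.obj w).obj.iso.hom
        = (𝟙 _ ≫ (cy f G).map (𝟙 w) ≫ (G.obj w).obj.iso.hom) ≫ f.map (𝟙 ((cx₂ f G).obj w))
      simp only [CategoryTheory.Functor.map_id, Category.id_comp]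
      exact ((congrArg (fun t => (G.obj w).obj.iso.hom ≫ t) (f.toFunctor.map_id _)).trans
        (Category.comp_id _)).symm)

end Conv

section Main

variable {S : Scheme.{u}} {𝒳 : BasedCategory.{v₁, w₁} (Over S)}
  {𝒴 : BasedCategory.{v₂, w₂} (Over S)}

theorem repWith_diag_of_baseChange (P : MorphismProperty (AlgSp.Sp S))
    (h𝒳 : FibCat.IsFibGrpd 𝒳.p) (h𝒴 : FibCat.IsFibGrpd 𝒴.p) (f : 𝒳 ⥤ᵇ 𝒴) {U : Over S}
    (G : FibCat.overCat U ⥤ᵇ FibCat.fp f f)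
    (h : AlgSt.RepByAlgSpWith P (FibCat.diag (FibCat.fpFst (cy f G) f))) :
    ∃ (F : AlgSp.Space S) (e : AlgSt.ofSp F.obj ⥤ᵇ FibCat.fp G (FibCat.diag f)),
      FibCat.IsEquivOver e ∧
        P (AlgSt.spMapOfOver (BasedFunctor.comp e (FibCat.fpFst G (FibCat.diag f)))) := by
  have hU : FibCat.IsFibGrpd (FibCat.overCat U).p := isFibGrpd_overForget U
  have H2 : AlgSt.RepByAlgSpWith P (FibCat.fpFst (diagN f (cy f G)) (FibCat.diag f)) :=
    repByAlgSpWith_of_square P _ (FibCat.diag (FibCat.fpFst (cy f G) f)) (diagLam f (cy f G))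
      (BasedFunctor.id _) (isEquivOver_diagLam f (cy f G) h𝒳 h𝒴 hU) (isEquivOver_id _)
      (Iso.refl _) h
  have H3 := H2 U (cG' f G)
  have H4 := repWith_of_equiv P (paste1 (cG' f G) (diagN f (cy f G)) (FibCat.diag f))
    (isEquivOver_paste1 _ _ _)
    (FibCat.fpFst (cG' f G) (FibCat.fpFst (diagN f (cy f G)) (FibCat.diag f)))
    (FibCat.fpFst (BasedFunctor.comp (cG' f G) (diagN f (cy f G))) (FibCat.diag f))
    (fun Q => ⟨Iso.refl _, IsHomLift.id rfl⟩) H3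
  let e₁ : BasedFunctor.comp (BasedFunctor.comp (cG' f G) (diagN f (cy f G)))
      (BasedFunctor.id (FibCat.fp f f)) ≅ BasedFunctor.comp (BasedFunctor.id _) G := cκ f G
  let e₂ : BasedFunctor.comp (FibCat.diag f) (BasedFunctor.id (FibCat.fp f f)) ≅
      BasedFunctor.comp (BasedFunctor.id _) (FibCat.diag f) := Iso.refl _
  haveI := id_full (FibCat.fp f f)
  haveI := id_faithful (FibCat.fp f f)
  have hM := isEquivOver_fpMap e₁ e₂ (isEquivOver_id _) (isEquivOver_id _)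
  exact repWith_of_equiv P (fpMap e₁ e₂) hM
    (FibCat.fpFst (BasedFunctor.comp (cG' f G) (diagN f (cy f G))) (FibCat.diag f))
    (FibCat.fpFst G (FibCat.diag f)) (fun Q => ⟨Iso.refl _, IsHomLift.id rfl⟩) H4

theorem repByAlgSpWith_diag_iff_baseChange (P : MorphismProperty (AlgSp.Sp S))
    (h𝒳 : FibCat.IsFibGrpd 𝒳.p) (h𝒴 : FibCat.IsFibGrpd 𝒴.p) (f : 𝒳 ⥤ᵇ 𝒴) :
    AlgSt.RepByAlgSpWith P (FibCat.diag f) ↔
      ∀ (T : Over S) (y : FibCat.overCat T ⥤ᵇ 𝒴),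
        AlgSt.RepByAlgSpWith P (FibCat.diag (FibCat.fpFst y f)) := by
  constructor
  · intro h T y
    exact repByAlgSpWith_diag_fpFst P h𝒳 h𝒴 (isFibGrpd_overForget T) f y h
  · intro hall U G
    exact repWith_diag_of_baseChange P h𝒳 h𝒴 f G (hall U (cy f G))

end Main

end Groth.Agent.Lib.Helper10.AlgStRep
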