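import Mathlib
import Groth.Prelude.Def_FibCat2
import Groth.Agent.Lib.Helper10.FibBC

/-!
# The swap equivalence of 2-fibre products over the base

* `fpSwap F G : fp F G ⥤ᵇ fp G F`, `(x, y, θ) ↦ (y, x, θ⁻¹)`, and `isEquivOver_fpSwap`.
  By construction `fpSwap F G ⋙ fpFst G F = fpSnd F G` and `fpSwap F G ⋙ fpSnd G F = fpFst F G`
  hold definitionally.
-/

set_option autoImplicit false

universe v₄ u₄ v₃ u₃ v₂ u₂ v u

open CategoryTheory Functor CategoryTheory.Limits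

namespace Groth.Agent.Lib.Helper10.Fib

section Swap

variable {C : Type u} [Category.{v} C] {𝒳 : BasedCategory.{v₂, u₂} C}
  {𝒴 : BasedCategory.{v₃, u₃} C} {𝒮 : BasedCategory.{v₄, u₄} C}
  (F : 𝒳 ⥤ᵇ 𝒮) (G : 𝒴 ⥤ᵇ 𝒮)

lemma swap_lift (P : (FibCat.fp F G).obj) :
    𝒮.p.IsHomLift (𝟙 (𝒴.p.obj P.obj.snd)) P.obj.iso.inv := by
  have hP : 𝒮.p.IsHomLift (𝟙 (𝒳.p.obj P.obj.fst)) P.obj.iso.hom := P.property
  have hx : 𝒴.p.obj P.obj.snd = 𝒳.p.obj P.obj.fst := (FibCat.fpSnd F G).w_obj P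
  have h1 : 𝒮.p.IsHomLift (𝟙 (𝒳.p.obj P.obj.fst)) P.obj.iso.inv :=
    lift_inv_of_lift 𝒮.p _ hP
  exact isHomLift_id_of_eq 𝒮.p hx.symm _

/-- Object map of `fpSwap`. -/
def fpSwapObj (P : (FibCat.fp F G).obj) : (FibCat.fp G F).obj :=
  ⟨⟨P.obj.snd, P.obj.fst, P.obj.iso.symm⟩, swap_lift F G P⟩

/-- Morphism map of `fpSwap`. -/
def fpSwapMap {P P' : (FibCat.fp F G).obj} (m : P ⟶ P') :
    fpSwapObj F G P ⟶ fpSwapObj F G P' :=
  ObjectProperty.homMk ⟨m.hom.snd, m.hom.fst, by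
    show G.map m.hom.snd ≫ P'.obj.iso.inv = P.obj.iso.inv ≫ F.map m.hom.fst
    rw [Iso.comp_inv_eq, Category.assoc, Iso.eq_inv_comp]
    exact m.hom.w.symm⟩

/-- The swap functor `𝒳 ×_𝒮 𝒴 ⟶ 𝒴 ×_𝒮 𝒳` over the base. -/
def fpSwap : FibCat.fp F G ⥤ᵇ FibCat.fp G F where
  toFunctor :=
    { obj := fpSwapObj F G
      map := fpSwapMap F G
      map_id := fun P => by
        apply ObjectProperty.hom_ext
        apply CategoricalPullback.hom_ext <;> rfl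
      map_comp := fun m m' => by
        apply ObjectProperty.hom_ext
        apply CategoricalPullback.hom_ext <;> rfl }
  w := CategoryTheory.Functor.ext (fun P => (FibCat.fpSnd F G).w_obj P)
    (fun P P' m => Functor.congr_hom (FibCat.fpSnd F G).w m)

theorem fpSwap_faithful : (fpSwap F G).toFunctor.Faithful := ⟨fun {P P'} m m' hm => by
  have h1 : m.hom.snd = m'.hom.snd := congrArg (fun t => t.hom.fst) hm
  have h2 : m.hom.fst = m'.hom.fst := congrArg (fun t => t.hom.snd) hm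
  apply ObjectProperty.hom_ext
  apply CategoricalPullback.hom_ext
  · exact h2
  · exact h1⟩

theorem fpSwap_full : (fpSwap F G).toFunctor.Full := ⟨fun {P P'} n => by
  obtain ⟨n₁, hn₁⟩ : ∃ n₁ : P.obj.snd ⟶ P'.obj.snd, n₁ = n.hom.fst := ⟨_, rfl⟩
  obtain ⟨n₂, hn₂⟩ : ∃ n₂ : P.obj.fst ⟶ P'.obj.fst, n₂ = n.hom.snd := ⟨_, rfl⟩
  have nw : G.map n₁ ≫ P'.obj.iso.inv = P.obj.iso.inv ≫ F.map n₂ := by
    rw [hn₁, hn₂]
    exact n.hom.w
  have w : F.map n₂ ≫ P'.obj.iso.hom = P.obj.iso.hom ≫ G.map n₁ := by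
    have key := congrArg (fun t => P.obj.iso.hom ≫ t ≫ P'.obj.iso.hom) nw
    simp only [Category.assoc, Iso.inv_hom_id, Category.comp_id, Iso.hom_inv_id_assoc] at key
    exact key.symm
  refine ⟨ObjectProperty.homMk ⟨n₂, n₁, w⟩, ?_⟩
  apply ObjectProperty.hom_ext
  apply CategoricalPullback.hom_ext
  · exact hn₁
  · exact hn₂⟩

theorem fpSwap_ess (y : (FibCat.fp G F).obj) :
    ∃ (P : (FibCat.fp F G).obj) (e : (fpSwap F G).obj P ≅ y),
      (FibCat.fp G F).p.IsHomLift (𝟙 ((FibCat.fp G F).p.obj y)) e.hom := by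
  let P : (FibCat.fp F G).obj := fpSwapObj G F y
  let e : (fpSwap F G).obj P ≅ y :=
    (FibCat.fpProp G F).isoMk (X := (fpSwap F G).obj P) (Y := y)
      (CategoricalPullback.mkIso (Iso.refl _) (Iso.refl _) (by
        show G.map (𝟙 y.obj.fst) ≫ y.obj.iso.hom = y.obj.iso.hom ≫ F.map (𝟙 y.obj.snd)
        rw [G.toFunctor.map_id, F.toFunctor.map_id, Category.id_comp, Category.comp_id]))
  refine ⟨P, e, ?_⟩
  rw [fp_isHomLift_iff]
  show 𝒴.p.IsHomLift (𝟙 (𝒴.p.obj y.obj.fst)) (𝟙 y.obj.fst)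
  infer_instance

theorem isEquivOver_fpSwap : FibCat.IsEquivOver (fpSwap F G) := by
  have := fpSwap_faithful F G
  have := fpSwap_full F G
  exact isEquivOver_of_ff _ (fpSwap_ess F G)

end Swap

end Groth.Agent.Lib.Helper10.Fib
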