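import Mathlib
import Groth.Prelude.Def_AlgSt2
import Groth.Agent.Lib.Helper10.FibSwap
import Groth.Agent.Lib.Helper10.AlgStDiag

/-!
# Base change along the second projection

`repByAlgSpWith_fpSnd`: if `z : 𝒵 ⟶ 𝒴` is representable by algebraic spaces with property `P`,
so is the second projection `𝒵 ×_𝒴 𝒳 ⟶ 𝒳`.
-/

set_option autoImplicit false

universe w₃ v₃ w₂ v₂ w₁ v₁ u

open CategoryTheory CategoryTheory.Limits AlgebraicGeometry Opposite

namespace Groth.Agent.Lib.Helper10.AlgStRep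

open Groth.Agent.Lib.Helper10.Fib

variable {S : Scheme.{u}} {𝒳 : BasedCategory.{v₁, w₁} (Over S)} {𝒴 : BasedCategory.{v₂, w₂} (Over S)}
  {𝒵 : BasedCategory.{v₃, w₃} (Over S)}

theorem repByAlgSpWith_fpSnd (P : MorphismProperty (AlgSp.Sp S)) (z : 𝒵 ⥤ᵇ 𝒴) (f : 𝒳 ⥤ᵇ 𝒴)
    (hz : AlgSt.RepByAlgSpWith P z) : AlgSt.RepByAlgSpWith P (FibCat.fpSnd z f) :=
  repByAlgSpWith_of_square' P (FibCat.fpFst f z) (FibCat.fpSnd z f) (fpSwap z f)
    (BasedFunctor.id 𝒳) (isEquivOver_fpSwap z f) (isEquivOver_id _) (Iso.refl _)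
    (repByAlgSpWith_fpFst P z f hz)

end Groth.Agent.Lib.Helper10.AlgStRep
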