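import Mathlib
import Groth.Prelude.Def_FibCat2
import Groth.Agent.Lib.Helper10.FibBC
import Groth.Agent.Lib.Helper10.Fib7

/-!
# The magic square

For `f : 𝒳 ⟶ 𝒵`, `g : 𝒴 ⟶ 𝒵`, `t : 𝒵 ⟶ 𝒯` over the base and `i : 𝒳 ×_𝒵 𝒴 ⟶ 𝒳 ×_𝒯 𝒴` the induced
functor, the square

    𝒳 ×_𝒵 𝒴 ────i────▶ 𝒳 ×_𝒯 𝒴
        │                  │ magN = f × g
        ▼                  ▼
        𝒵 ─────Δ_t────▶ 𝒵 ×_𝒯 𝒵

is 2-cartesian (for categories fibred in groupoids): `magLam` is the comparison functor to the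
2-fibre product and `isEquivOver_magLam` says that it is an equivalence over the base.
-/

set_option autoImplicit false

universe v₅ u₅ v₄ u₄ v₃ u₃ v₂ u₂ v u

open CategoryTheory Functor CategoryTheory.Limits

namespace Groth.Agent.Lib.Helper10.Fib

section Magic

variable {C : Type u} [Category.{v} C] {𝒳 : BasedCategory.{v₂, u₂} C}
  {𝒴 : BasedCategory.{v₃, u₃} C} {𝒵 : BasedCategory.{v₄, u₄} C} {𝒯 : BasedCategory.{v₅, u₅} C}
  (f : 𝒳 ⥤ᵇ 𝒵) (g : 𝒴 ⥤ᵇ 𝒵) (t : 𝒵 ⥤ᵇ 𝒯)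

/-- `f × g : 𝒳 ×_𝒯 𝒴 ⟶ 𝒵 ×_𝒯 𝒵`. -/
def magN : FibCat.fp (BasedFunctor.comp f t) (BasedFunctor.comp g t) ⥤ᵇ FibCat.fp t t :=
  FibCat.fpLift
    (BasedFunctor.comp (FibCat.fpFst (BasedFunctor.comp f t) (BasedFunctor.comp g t)) f)
    (BasedFunctor.comp (FibCat.fpSnd (BasedFunctor.comp f t) (BasedFunctor.comp g t)) g)
    (FibCat.fpIso (BasedFunctor.comp f t) (BasedFunctor.comp g t))

/-- The structure isomorphism of an object of `𝒳 ×_𝒵 𝒴`. -/
def mφ (w : (FibCat.fp f g).obj) : f.obj w.obj.fst ≅ g.obj w.obj.snd := w.obj.iso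

/-- The 2-isomorphism of the magic square, at an object. -/
def magJ (e : BasedFunctor.comp (FibCat.fpFst f g) (BasedFunctor.comp f t) ≅
      BasedFunctor.comp (FibCat.fpSnd f g) (BasedFunctor.comp g t))
    (he : ∀ x, e.hom.toNatTrans.app x = t.map x.obj.iso.hom) (w : (FibCat.fp f g).obj) :
    (magN f g t).obj ((FibCat.fpLift (FibCat.fpFst f g) (FibCat.fpSnd f g) e).obj w) ≅
      (FibCat.diag t).obj (f.obj w.obj.fst) :=
  (FibCat.fpProp t t).isoMk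
    (X := (magN f g t).obj ((FibCat.fpLift (FibCat.fpFst f g) (FibCat.fpSnd f g) e).obj w))
    (Y := (FibCat.diag t).obj (f.obj w.obj.fst))
    (CategoricalPullback.mkIso (Iso.refl _) (mφ f g w).symm (by
      show t.map (𝟙 (f.obj w.obj.fst)) ≫ 𝟙 (t.obj (f.obj w.obj.fst)) =
        e.hom.toNatTrans.app w ≫ t.map (mφ f g w).inv
      rw [he w, t.toFunctor.map_id, Category.comp_id]
      show 𝟙 _ = t.map (mφ f g w).hom ≫ t.map (mφ f g w).inv
      rw [← t.toFunctor.map_comp, Iso.hom_inv_id, t.toFunctor.map_id]))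

variable (e : BasedFunctor.comp (FibCat.fpFst f g) (BasedFunctor.comp f t) ≅
      BasedFunctor.comp (FibCat.fpSnd f g) (BasedFunctor.comp g t))
    (he : ∀ x, e.hom.toNatTrans.app x = t.map x.obj.iso.hom)

lemma magJ_lift (w : (FibCat.fp f g).obj) :
    (FibCat.fp t t).p.IsHomLift (𝟙 (𝒳.p.obj w.obj.fst)) (magJ f g t e he w).hom := by
  rw [fp_isHomLift_iff]
  exact IsHomLift.id (f.w_obj w.obj.fst)

/-- Object map of the comparison functor. -/
def magLamObj (w : (FibCat.fp f g).obj) : (FibCat.fp (magN f g t) (FibCat.diag t)).obj :=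
  ⟨⟨(FibCat.fpLift (FibCat.fpFst f g) (FibCat.fpSnd f g) e).obj w, f.obj w.obj.fst,
    magJ f g t e he w⟩, magJ_lift f g t e he w⟩

/-- Morphism map of the comparison functor. -/
def magLamMap {w w' : (FibCat.fp f g).obj} (m : w ⟶ w') :
    magLamObj f g t e he w ⟶ magLamObj f g t e he w' :=
  ObjectProperty.homMk ⟨(FibCat.fpLift (FibCat.fpFst f g) (FibCat.fpSnd f g) e).map m,
    f.map m.hom.fst, by
    apply ObjectProperty.hom_ext
    apply CategoricalPullback.hom_ext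
    · show f.map m.hom.fst ≫ 𝟙 _ = 𝟙 _ ≫ f.map m.hom.fst
      exact (Category.comp_id _).trans (Category.id_comp _).symm
    · show g.map m.hom.snd ≫ (mφ f g w').inv = (mφ f g w).inv ≫ f.map m.hom.fst
      rw [Iso.comp_inv_eq, Category.assoc, Iso.eq_inv_comp]
      exact m.hom.w.symm⟩

/-- The comparison functor `𝒳 ×_𝒵 𝒴 ⟶ (𝒳 ×_𝒯 𝒴) ×_{𝒵 ×_𝒯 𝒵} 𝒵`. -/
def magLam : FibCat.fp f g ⥤ᵇ FibCat.fp (magN f g t) (FibCat.diag t) where
  toFunctor :=
    { obj := magLamObj f g t e he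
      map := magLamMap f g t e he
      map_id := fun w => by
        apply ObjectProperty.hom_ext
        apply CategoricalPullback.hom_ext
        · exact (FibCat.fpLift (FibCat.fpFst f g) (FibCat.fpSnd f g) e).toFunctor.map_id _
        · exact f.toFunctor.map_id _
      map_comp := fun m m' => by
        apply ObjectProperty.hom_ext
        apply CategoricalPullback.hom_ext
        · exact (FibCat.fpLift (FibCat.fpFst f g) (FibCat.fpSnd f g) e).toFunctor.map_comp _ _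
        · exact f.toFunctor.map_comp _ _ }
  w := rfl

theorem magLam_faithful : (magLam f g t e he).toFunctor.Faithful := ⟨fun {w w'} m m' hm => by
  have h1 : m.hom.fst = m'.hom.fst := congrArg (fun q => q.hom.fst.hom.fst) hm
  have h2 : m.hom.snd = m'.hom.snd := congrArg (fun q => q.hom.fst.hom.snd) hm
  apply ObjectProperty.hom_ext
  apply CategoricalPullback.hom_ext
  · exact h1
  · exact h2⟩

theorem magLam_full : (magLam f g t e he).toFunctor.Full := ⟨fun {w w'} n => by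
  obtain ⟨a, ha⟩ : ∃ a : w.obj.fst ⟶ w'.obj.fst, a = n.hom.fst.hom.fst := ⟨_, rfl⟩
  obtain ⟨b, hb⟩ : ∃ b : w.obj.snd ⟶ w'.obj.snd, b = n.hom.fst.hom.snd := ⟨_, rfl⟩
  obtain ⟨r, hr⟩ : ∃ r : f.obj w.obj.fst ⟶ f.obj w'.obj.fst, r = n.hom.snd := ⟨_, rfl⟩
  have h1 : f.map a ≫ 𝟙 _ = 𝟙 _ ≫ r := by
    rw [ha, hr]
    exact congrArg (fun q => q.hom.fst) n.hom.w
  have h2 : g.map b ≫ (mφ f g w').inv = (mφ f g w).inv ≫ r := by
    rw [hb, hr]
    exact congrArg (fun q => q.hom.snd) n.hom.w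
  rw [Category.comp_id, Category.id_comp] at h1
  have hw : f.map a ≫ (mφ f g w').hom = (mφ f g w).hom ≫ g.map b := by
    have key := congrArg (fun q => (mφ f g w).hom ≫ q ≫ (mφ f g w').hom) h2
    simp only [Category.assoc, Iso.inv_hom_id, Category.comp_id, Iso.hom_inv_id_assoc] at key
    rw [h1]
    exact key.symm
  refine ⟨ObjectProperty.homMk ⟨a, b, hw⟩, ?_⟩
  apply ObjectProperty.hom_ext
  apply CategoricalPullback.hom_ext
  · apply ObjectProperty.hom_ext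
    apply CategoricalPullback.hom_ext
    · exact ha
    · exact hb
  · exact h1.trans hr⟩

theorem magLam_ess (h𝒳 : FibCat.IsFibGrpd 𝒳.p) (h𝒴 : FibCat.IsFibGrpd 𝒴.p)
    (h𝒵 : FibCat.IsFibGrpd 𝒵.p) (h𝒯 : FibCat.IsFibGrpd 𝒯.p)
    (y₀ : (FibCat.fp (magN f g t) (FibCat.diag t)).obj) :
    ∃ (w : (FibCat.fp f g).obj) (ε : (magLam f g t e he).obj w ≅ y₀),
      (FibCat.fp (magN f g t) (FibCat.diag t)).p.IsHomLift
        (𝟙 ((FibCat.fp (magN f g t) (FibCat.diag t)).p.obj y₀)) ε.hom := by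
  have hXY : FibCat.IsFibGrpd (FibCat.fp (BasedFunctor.comp f t) (BasedFunctor.comp g t)).p :=
    isFibGrpd_fp _ _ h𝒳 h𝒴 h𝒯
  have hZZ : FibCat.IsFibGrpd (FibCat.fp t t).p := isFibGrpd_fp t t h𝒵 h𝒵 h𝒯
  have hT : FibCat.IsFibGrpd (FibCat.fp (magN f g t) (FibCat.diag t)).p :=
    isFibGrpd_fp _ _ hXY h𝒵 hZZ
  let q : (FibCat.fp (BasedFunctor.comp f t) (BasedFunctor.comp g t)).obj := y₀.obj.fst
  let z : 𝒵.obj := y₀.obj.snd
  let θ : t.obj (f.obj q.obj.fst) ≅ t.obj (g.obj q.obj.snd) := q.obj.iso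
  let A : f.obj q.obj.fst ≅ z := (FibCat.fpFst t t).toFunctor.mapIso y₀.obj.iso
  let B : g.obj q.obj.snd ≅ z := (FibCat.fpSnd t t).toFunctor.mapIso y₀.obj.iso
  have hι : t.map A.hom ≫ 𝟙 (t.obj z) = θ.hom ≫ t.map B.hom := y₀.obj.iso.hom.hom.w
  rw [Category.comp_id] at hι
  have e2 : t.map B.hom ≫ t.map B.inv = 𝟙 _ := by
    rw [← t.toFunctor.map_comp, Iso.hom_inv_id, t.toFunctor.map_id]
  have hy₀ : (FibCat.fp t t).p.IsHomLift (𝟙 (𝒳.p.obj q.obj.fst)) y₀.obj.iso.hom := y₀.property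
  have hA : 𝒵.p.IsHomLift (𝟙 (𝒳.p.obj q.obj.fst)) A.hom := (fp_isHomLift_iff _ _ _ _).1 hy₀
  have hB : 𝒵.p.IsHomLift (𝟙 (𝒳.p.obj q.obj.fst)) B.hom :=
    fp_isHomLift_snd' _ _ y₀.obj.iso.hom _
  have hBi : 𝒵.p.IsHomLift (𝟙 (𝒳.p.obj q.obj.fst)) B.inv := lift_inv_of_lift 𝒵.p B hB
  have hφ : 𝒵.p.IsHomLift (𝟙 (𝒳.p.obj q.obj.fst)) (A.hom ≫ B.inv) := by
    have h0 : 𝒵.p.IsHomLift (𝟙 (𝒳.p.obj q.obj.fst) ≫ 𝟙 (𝒳.p.obj q.obj.fst))
        (A.hom ≫ B.inv) := inferInstance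
    rw [Category.comp_id] at h0
    exact h0
  let w : (FibCat.fp f g).obj := ⟨⟨q.obj.fst, q.obj.snd, A ≪≫ B.symm⟩, hφ⟩
  have hθ : θ.hom = t.map (A.hom ≫ B.inv) := by
    rw [t.toFunctor.map_comp, hι, Category.assoc, e2, Category.comp_id]
  let U₀ : (FibCat.fpLift (FibCat.fpFst f g) (FibCat.fpSnd f g) e).obj w ⟶ q :=
    ObjectProperty.homMk ⟨𝟙 q.obj.fst, 𝟙 q.obj.snd, by
      show t.map (f.map (𝟙 q.obj.fst)) ≫ θ.hom =
        e.hom.toNatTrans.app w ≫ t.map (g.map (𝟙 q.obj.snd))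
      have hE : e.hom.toNatTrans.app w = t.map (A.hom ≫ B.inv) := he w
      calc t.map (f.map (𝟙 q.obj.fst)) ≫ θ.hom = θ.hom := by
            rw [f.toFunctor.map_id, t.toFunctor.map_id, Category.id_comp]
        _ = t.map (A.hom ≫ B.inv) := hθ
        _ = t.map (A.hom ≫ B.inv) ≫ t.map (g.map (𝟙 q.obj.snd)) := by
            rw [g.toFunctor.map_id, t.toFunctor.map_id, Category.comp_id]
        _ = e.hom.toNatTrans.app w ≫ t.map (g.map (𝟙 q.obj.snd)) :=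
            (congrArg (fun s => s ≫ t.map (g.map (𝟙 q.obj.snd))) hE).symm⟩
  let Φ : (magLam f g t e he).obj w ⟶ y₀ := ObjectProperty.homMk ⟨U₀, A.hom, by
    apply ObjectProperty.hom_ext
    apply CategoricalPullback.hom_ext
    · show f.map (𝟙 q.obj.fst) ≫ A.hom = 𝟙 (f.obj q.obj.fst) ≫ A.hom
      rw [f.toFunctor.map_id]
    · show g.map (𝟙 q.obj.snd) ≫ B.hom = (B.hom ≫ A.inv) ≫ A.hom
      rw [g.toFunctor.map_id, Category.id_comp, Category.assoc, Iso.inv_hom_id,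
        Category.comp_id]⟩
  have hΦ : (FibCat.fp (magN f g t) (FibCat.diag t)).p.IsHomLift
      (𝟙 (𝒳.p.obj q.obj.fst)) Φ := by
    rw [fp_isHomLift_iff, fp_isHomLift_iff]
    exact IsHomLift.id rfl
  have hiso : IsIso Φ := IsFibGrpd.isIso_of_isHomLift_id hT (U := 𝒳.p.obj q.obj.fst) Φ
  exact ⟨w, asIso Φ, hΦ⟩

theorem isEquivOver_magLam (h𝒳 : FibCat.IsFibGrpd 𝒳.p) (h𝒴 : FibCat.IsFibGrpd 𝒴.p)
    (h𝒵 : FibCat.IsFibGrpd 𝒵.p) (h𝒯 : FibCat.IsFibGrpd 𝒯.p) :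
    FibCat.IsEquivOver (magLam f g t e he) := by
  have := magLam_faithful f g t e he
  have := magLam_full f g t e he
  exact isEquivOver_of_ff _ (magLam_ess f g t e he h𝒳 h𝒴 h𝒵 h𝒯)

end Magic

end Groth.Agent.Lib.Helper10.Fib
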