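import Mathlib
import Groth.Prelude.Def_AlgSt2
import Groth.Agent.Lib.Helper10.FibMagic
import Groth.Agent.Lib.Helper10.AlgStDiag

/-!
# The induced morphism `𝒳 ×_𝒵 𝒴 ⟶ 𝒳 ×_𝒯 𝒴` is a base change of the diagonal of `𝒵 ⟶ 𝒯`
-/

set_option autoImplicit false

universe w₄ v₄ w₃ v₃ w₂ v₂ w₁ v₁ u

open CategoryTheory CategoryTheory.Limits AlgebraicGeometry Opposite

namespace Groth.Agent.Lib.Helper10.AlgStRep

open Groth.Agent.Lib.Helper10.Fib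

variable {S : Scheme.{u}} {𝒳 : BasedCategory.{v₁, w₁} (Over S)} {𝒴 : BasedCategory.{v₂, w₂} (Over S)}
  {𝒵 : BasedCategory.{v₃, w₃} (Over S)} {𝒯 : BasedCategory.{v₄, w₄} (Over S)}

theorem repByAlgSpWith_magic (P : MorphismProperty (AlgSp.Sp S))
    (h𝒳 : FibCat.IsFibGrpd 𝒳.p) (h𝒴 : FibCat.IsFibGrpd 𝒴.p)
    (h𝒵 : FibCat.IsFibGrpd 𝒵.p) (h𝒯 : FibCat.IsFibGrpd 𝒯.p)
    (f : 𝒳 ⥤ᵇ 𝒵) (g : 𝒴 ⥤ᵇ 𝒵) (t : 𝒵 ⥤ᵇ 𝒯)
    (e : BasedFunctor.comp (FibCat.fpFst f g) (BasedFunctor.comp f t) ≅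
      BasedFunctor.comp (FibCat.fpSnd f g) (BasedFunctor.comp g t))
    (he : ∀ x, e.hom.toNatTrans.app x = t.map x.obj.iso.hom)
    (ht : AlgSt.RepByAlgSpWith P (FibCat.diag t)) :
    AlgSt.RepByAlgSpWith P (FibCat.fpLift (FibCat.fpFst f g) (FibCat.fpSnd f g) e) := by
  have h1 : AlgSt.RepByAlgSpWith P (FibCat.fpFst (magN f g t) (FibCat.diag t)) :=
    repByAlgSpWith_fpFst P (FibCat.diag t) (magN f g t) ht
  exact repByAlgSpWith_of_square' P (FibCat.fpFst (magN f g t) (FibCat.diag t))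
    (FibCat.fpLift (FibCat.fpFst f g) (FibCat.fpSnd f g) e) (magLam f g t e he)
    (BasedFunctor.id _) (isEquivOver_magLam f g t e he h𝒳 h𝒴 h𝒵 h𝒯) (isEquivOver_id _)
    (Iso.refl _) h1

end Groth.Agent.Lib.Helper10.AlgStRep
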