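import Mathlib
import Groth.Prelude.Def_FibCat2
import Groth.Prelude.Def_W4stkcategoriessitesFib
import Groth.Agent.Lib.Helper10.Fib4

/-!
# The category fibred in sets attached to a category fibred in setoids

`quotBased 𝒳` has as objects the pairs of an object `U` of the base and an isomorphism class of
objects of the fibre of `𝒳` over `U`; `toQuot 𝒳 : 𝒳 ⥤ᵇ quotBased 𝒳` is the projection.
-/

set_option autoImplicit false

universe v₂ u₂ v u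

open CategoryTheory Functor CategoryTheory.Limits

namespace Groth.Agent.Lib.Helper10.Fib

section Quot

variable {C : Type u} [Category.{v} C] (𝒳 : BasedCategory.{v₂, u₂} C)

/-- Objects of a fibre are equivalent when they are isomorphic in the fibre. -/
def fibSetoid (U : C) : Setoid (𝒳.p.Fiber U) where
  r x y := Nonempty (x ≅ y)
  iseqv := ⟨fun x => ⟨Iso.refl x⟩, fun ⟨e⟩ => ⟨e.symm⟩, fun ⟨e⟩ ⟨e'⟩ => ⟨e ≪≫ e'⟩⟩

/-- Objects of the quotient. -/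
def QObj : Type (max u u₂) := Σ U : C, Quotient (fibSetoid 𝒳 U)

variable {𝒳}

/-- A chosen representative. -/
noncomputable def rep (y : QObj 𝒳) : 𝒳.obj := y.2.out.1

lemma rep_obj (y : QObj 𝒳) : 𝒳.p.obj (rep y) = y.1 := y.2.out.2

noncomputable instance : Category.{v} (QObj 𝒳) where
  Hom y y' := {f : y.1 ⟶ y'.1 // ∃ φ : rep y ⟶ rep y', 𝒳.p.IsHomLift f φ}
  id y := ⟨𝟙 y.1, ⟨𝟙 (rep y), IsHomLift.id (rep_obj y)⟩⟩
  comp f g := ⟨f.1 ≫ g.1, by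
    obtain ⟨φ, hφ⟩ := f.2
    obtain ⟨ψ, hψ⟩ := g.2
    exact ⟨φ ≫ ψ, inferInstance⟩⟩
  id_comp f := Subtype.ext (Category.id_comp _)
  comp_id f := Subtype.ext (Category.comp_id _)
  assoc f g h := Subtype.ext (Category.assoc _ _ _)

/-- The structure functor of the quotient. -/
noncomputable def QP : QObj 𝒳 ⥤ C where
  obj y := y.1
  map f := f.1

variable (𝒳)

/-- The quotient as a category over the base. -/
noncomputable def quotBased : BasedCategory.{v, max u u₂} C where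
  obj := QObj 𝒳
  p := QP

variable {𝒳}

/-- The class of an object. -/
def cls (x : 𝒳.obj) : QObj 𝒳 := ⟨𝒳.p.obj x, Quotient.mk (fibSetoid 𝒳 (𝒳.p.obj x)) ⟨x, rfl⟩⟩

/-- The representative of the class of `x` is isomorphic to `x` in the fibre. -/
lemma exists_iso_rep (x : 𝒳.obj) :
    ∃ (a : rep (cls x) ⟶ x) (b : x ⟶ rep (cls x)),
      𝒳.p.IsHomLift (𝟙 (𝒳.p.obj x)) a ∧ 𝒳.p.IsHomLift (𝟙 (𝒳.p.obj x)) b ∧
        a ≫ b = 𝟙 _ ∧ b ≫ a = 𝟙 _ := by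
  have h : Nonempty ((Quotient.mk (fibSetoid 𝒳 (𝒳.p.obj x)) ⟨x, rfl⟩).out ≅
      (⟨x, rfl⟩ : 𝒳.p.Fiber (𝒳.p.obj x))) :=
    Quotient.mk_out (s := fibSetoid 𝒳 (𝒳.p.obj x)) _
  obtain ⟨e⟩ := h
  exact ⟨e.hom.1, e.inv.1, e.hom.2, e.inv.2,
    congrArg (fun t => Functor.Fiber.fiberInclusion.map t) e.hom_inv_id,
    congrArg (fun t => Functor.Fiber.fiberInclusion.map t) e.inv_hom_id⟩

variable (𝒳)

/-- The projection to the quotient. -/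
noncomputable def toQuot : 𝒳 ⥤ᵇ quotBased 𝒳 where
  toFunctor :=
    { obj := fun x => cls x
      map := fun {x y} φ => ⟨𝒳.p.map φ, by
        obtain ⟨a, b, ha, hb, -, -⟩ := exists_iso_rep x
        obtain ⟨a', b', ha', hb', -, -⟩ := exists_iso_rep y
        have := ha
        have := hb'
        have l : 𝒳.p.IsHomLift (𝒳.p.map φ) (a ≫ φ ≫ b') := inferInstance
        exact ⟨a ≫ φ ≫ b', l⟩⟩
      map_id := fun x => Subtype.ext (𝒳.p.map_id x)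
      map_comp := fun φ ψ => Subtype.ext (𝒳.p.map_comp φ ψ) }
  w := rfl

variable {𝒳}

lemma toQuot_full : (toQuot 𝒳).toFunctor.Full := by
  constructor
  intro x y m
  obtain ⟨f, φ', hφ'⟩ := m
  change 𝒳.p.obj x ⟶ 𝒳.p.obj y at f
  change rep (cls x) ⟶ rep (cls y) at φ'
  obtain ⟨a, b, ha, hb, -, -⟩ := exists_iso_rep x
  obtain ⟨a', b', ha', hb', -, -⟩ := exists_iso_rep y
  have hm : 𝒳.p.IsHomLift f φ' := hφ'
  have := hb
  have := ha'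
  have hl : 𝒳.p.IsHomLift f (b ≫ φ' ≫ a') := inferInstance
  refine ⟨b ≫ φ' ≫ a', ?_⟩
  apply Subtype.ext
  exact (IsHomLift.eq_of_isHomLift 𝒳.p f (b ≫ φ' ≫ a')).symm

lemma toQuot_faithful (h𝒳 : FibCat.IsFibSetoid 𝒳.p) : (toQuot 𝒳).toFunctor.Faithful := by
  constructor
  intro x y φ ψ h
  have h0 : 𝒳.p.map φ = 𝒳.p.map ψ := congrArg Subtype.val h
  have hψ : 𝒳.p.IsStronglyCartesian (𝒳.p.map ψ) ψ := h𝒳.1.isStronglyCartesian ψ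
  obtain ⟨χ, ⟨hχ1, hχ2⟩, -⟩ := (sc_map_iff 𝒳.p ψ).1 hψ (𝟙 _) φ (by rw [h0, Category.id_comp])
  have hl : 𝒳.p.IsHomLift (𝟙 (𝒳.p.obj x)) χ := isHomLift_of_eq 𝒳.p _ χ hχ1.symm
  let x' : 𝒳.p.Fiber (𝒳.p.obj x) := ⟨x, rfl⟩
  have hs := h𝒳.2 (𝒳.p.obj x) x' x'
  have e : (⟨χ, hl⟩ : x' ⟶ x') = 𝟙 x' := Subsingleton.elim _ _
  have e' : χ = 𝟙 x := congrArg (fun t => Functor.Fiber.fiberInclusion.map t) e
  rw [← hχ2, e', Category.id_comp]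

theorem toQuot_isEquivOver (h𝒳 : FibCat.IsFibSetoid 𝒳.p) : FibCat.IsEquivOver (toQuot 𝒳) := by
  have := toQuot_full (𝒳 := 𝒳)
  have := toQuot_faithful h𝒳
  apply isEquivOver_of_ff
  intro y
  obtain ⟨U, q⟩ := y
  obtain ⟨⟨x₀, h⟩, rfl⟩ := Quotient.exists_rep q
  subst h
  exact ⟨x₀, Iso.refl _,
    (IsHomLift.id rfl : (quotBased 𝒳).p.IsHomLift (𝟙 _) (𝟙 ((toQuot 𝒳).obj x₀)))⟩

theorem quot_isFibGrpd (h𝒳 : FibCat.IsFibGrpd 𝒳.p) : FibCat.IsFibGrpd (quotBased 𝒳).p := by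
  constructor
  · intro y V f
    change V ⟶ y.1 at f
    obtain ⟨z, φ, hφ⟩ := IsFibGrpd.exists_lift' h𝒳 (rep_obj y) f
    have := hφ
    have hz : 𝒳.p.obj z = V := IsHomLift.domain_eq 𝒳.p f φ
    subst hz
    obtain ⟨a, b, ha, hb, -, -⟩ := exists_iso_rep z
    have := ha
    let y' : QObj 𝒳 := cls z
    have l : 𝒳.p.IsHomLift f (a ≫ φ) := inferInstance
    let m : y' ⟶ y := ⟨f, ⟨a ≫ φ, l⟩⟩
    refine ⟨y', m, ?_⟩
    apply isHomLift_of_eq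
    rfl
  · intro y' y m
    rw [sc_map_iff]
    intro c g m' hm'
    change c.1 ⟶ y'.1 at g
    have hm'1 : m'.1 = g ≫ m.1 := hm'
    obtain ⟨φ, hφ⟩ := m.2
    obtain ⟨ψ, hψ⟩ := m'.2
    have := hφ
    have hsc : 𝒳.p.IsStronglyCartesian m.1 φ := IsFibGrpd.sc h𝒳 m.1 φ
    have hψ' : 𝒳.p.IsHomLift (g ≫ m.1) ψ := by
      rw [← hm'1]
      exact hψ
    obtain ⟨ξ, ⟨hξ1, -⟩, -⟩ := IsStronglyCartesian.universal_property 𝒳.p m.1 φ g (g ≫ m.1) rfl ψ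
    refine ⟨⟨g, ⟨ξ, hξ1⟩⟩, ⟨rfl, Subtype.ext hm'1.symm⟩, ?_⟩
    rintro χ' ⟨h1', -⟩
    exact Subtype.ext h1'

theorem quot_isFibSet (h𝒳 : FibCat.IsFibGrpd 𝒳.p) : FibCat.IsFibSet (quotBased 𝒳).p := by
  refine ⟨quot_isFibGrpd h𝒳, fun U => ?_⟩
  have key : ∀ {X Y : (quotBased 𝒳).p.Fiber U} (m : X ⟶ Y), m.1.1 =
      eqToHom X.2 ≫ 𝟙 U ≫ eqToHom Y.2.symm := by
    intro X Y m
    have := m.2
    exact IsHomLift.fac' (quotBased 𝒳).p (𝟙 U) m.1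
  refine { subsingleton := fun X Y => ⟨fun m m' => ?_⟩, eq_of_hom := ?_ }
  · apply Functor.Fiber.hom_ext
    apply Subtype.ext
    exact (key m).trans (key m').symm
  · intro X Y m
    obtain ⟨⟨U₁, q₁⟩, h₁⟩ := X
    obtain ⟨⟨U₂, q₂⟩, h₂⟩ := Y
    have h₁' : U₁ = U := h₁
    have h₂' : U₂ = U := h₂
    subst h₁'
    subst h₂'
    obtain ⟨φ, hφ⟩ := m.1.2
    have hf : 𝟙 U₂ = m.1.1 :=
      @IsHomLift.eq_of_isHomLift _ _ _ _ (quotBased 𝒳).p (⟨U₂, q₁⟩ : QObj 𝒳)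
        (⟨U₂, q₂⟩ : QObj 𝒳) (𝟙 U₂) m.1 m.2
    have hφ' : 𝒳.p.IsHomLift (𝟙 U₂) φ := by
      rw [hf]
      exact hφ
    have hiso : IsIso φ := IsFibGrpd.isIso_of_isHomLift_id h𝒳 (U := U₂) φ
    obtain ⟨ψ, hψ0, hψ1, hψ2⟩ : ∃ ψ, 𝒳.p.IsHomLift (𝟙 U₂) ψ ∧ φ ≫ ψ = 𝟙 _ ∧ ψ ≫ φ = 𝟙 _ :=
      ⟨CategoryTheory.inv φ, inferInstance, IsIso.hom_inv_id φ, IsIso.inv_hom_id φ⟩
    have hq : q₁ = q₂ := by
      rw [← Quotient.out_eq q₁, ← Quotient.out_eq q₂]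
      apply Quotient.sound
      exact ⟨⟨⟨φ, hφ'⟩, ⟨ψ, hψ0⟩, Functor.Fiber.hom_ext hψ1, Functor.Fiber.hom_ext hψ2⟩⟩
    subst hq
    rfl

end Quot

end Groth.Agent.Lib.Helper10.Fib
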