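import Mathlib
import Groth.Prelude.Def_AlgSt
import Groth.Agent.Lib.Helper10.Fib5

/-!
# The category over `C` of a presheaf is a stack iff the presheaf is a sheaf

* `secOf G a`: the section classified by the value at `a` of a functor `G : 𝒜 ⟶ ofPsh P` over `C`.
* `homOfSecEq`, `isoOfSecEq`, `secOf_eq_of_hom`: 2-morphisms between such functors are unique and
  exist iff the sections agree.
* `ofFam`: the functor attached to a compatible family of sections.
* `isStack_ofPsh_iff`.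
-/

set_option autoImplicit false
set_option linter.style.haveILetI false
set_option backward.isDefEq.respectTransparency false
set_option backward.isDefEq.respectTransparency.types false

universe w v₂ u₂ v u

open CategoryTheory Opposite

namespace Groth.Agent.Lib.Helper10.StkPsh

open Groth.Agent.Lib.Helper10.Fib

variable {C : Type u} [Category.{v} C] {P : Cᵒᵖ ⥤ Type w}

lemma map_map (P : Cᵒᵖ ⥤ Type w) {X Y Z : C} (f : X ⟶ Y) (g : Y ⟶ Z) (s : P.obj (op Z)) :
    P.map f.op (P.map g.op s) = P.map (f ≫ g).op s := by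
  rw [op_comp, Functor.map_comp_apply]

lemma fam_congr {X : C} {R : Presieve X} (x : Presieve.FamilyOfElements P R) {Y : C}
    {f g : Y ⟶ X} (h : f = g) (hf : R f) (hg : R g) : x f hf = x g hg := by
  subst h; rfl

section General

variable {𝒜 : BasedCategory.{v₂, u₂} C}

lemma hom_eq_of_isHomLift {x y : (Stk.ofPsh P).obj} {V U : C} (f : V ⟶ U) (φ ψ : x ⟶ y)
    [(Stk.ofPsh P).p.IsHomLift f φ] [(Stk.ofPsh P).p.IsHomLift f ψ] : φ = ψ := by
  apply Stk.EltObj.hom_ext
  have h1 := IsHomLift.fac' (Stk.ofPsh P).p f φ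
  have h2 := IsHomLift.fac' (Stk.ofPsh P).p f ψ
  exact h1.trans h2.symm

instance subsingleton_hom (G G' : 𝒜 ⥤ᵇ Stk.ofPsh P) : Subsingleton (G ⟶ G') := by
  refine ⟨fun α β => ?_⟩
  apply BasedNatTrans.ext
  apply NatTrans.ext
  funext a
  haveI := α.isHomLift' a
  haveI := β.isHomLift' a
  exact hom_eq_of_isHomLift (𝟙 (𝒜.p.obj a)) _ _

/-- Transport of the section of an object of `ofPsh P` along an equality of base objects. -/
def tr (x : Stk.EltObj P) {V : C} (h : x.base = V) : P.obj (op V) :=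
  P.map (eqToHom h.symm).op x.sec

lemma tr_map {x y : Stk.EltObj P} (φ : x ⟶ y) {V W : C} (hx : x.base = V) (hy : y.base = W)
    (f : V ⟶ W) (hf : φ.hom = eqToHom hx ≫ f ≫ eqToHom hy.symm) :
    P.map f.op (tr y hy) = tr x hx := by
  subst hx
  subst hy
  simp only [eqToHom_refl, Category.id_comp, Category.comp_id] at hf
  subst hf
  simp [tr, φ.map_sec]

lemma sec_of_tr_eq {x y : Stk.EltObj P} {V : C} (hx : x.base = V) (hy : y.base = V)
    (h : tr x hx = tr y hy) : P.map (eqToHom (hx.trans hy.symm)).op y.sec = x.sec := by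
  subst hx
  obtain ⟨yb, ys⟩ := y
  dsimp only at hy
  subst hy
  simpa [tr] using h.symm

lemma baseEq (G : 𝒜 ⥤ᵇ Stk.ofPsh P) (a : 𝒜.obj) : (G.obj a).base = 𝒜.p.obj a := G.w_obj a

/-- The section over `p a` classified by `G a`. -/
def secOf (G : 𝒜 ⥤ᵇ Stk.ofPsh P) (a : 𝒜.obj) : P.obj (op (𝒜.p.obj a)) :=
  tr (G.obj a) (baseEq G a)

lemma map_hom_eq (G : 𝒜 ⥤ᵇ Stk.ofPsh P) {a b : 𝒜.obj} (k : a ⟶ b) :
    (G.map k).hom = eqToHom (baseEq G a) ≫ 𝒜.p.map k ≫ eqToHom (baseEq G b).symm :=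
  Functor.congr_hom G.w k

lemma secOf_map (G : 𝒜 ⥤ᵇ Stk.ofPsh P) {a b : 𝒜.obj} (k : a ⟶ b) :
    P.map (𝒜.p.map k).op (secOf G b) = secOf G a :=
  tr_map (G.map k) (baseEq G a) (baseEq G b) (𝒜.p.map k) (map_hom_eq G k)

lemma app_hom_eq {G G' : 𝒜 ⥤ᵇ Stk.ofPsh P} (α : G ⟶ G') (a : 𝒜.obj) :
    (α.toNatTrans.app a).hom =
      eqToHom (baseEq G a) ≫ 𝟙 (𝒜.p.obj a) ≫ eqToHom (baseEq G' a).symm := by
  haveI := α.isHomLift' a
  exact IsHomLift.fac' (Stk.ofPsh P).p (𝟙 (𝒜.p.obj a)) (α.toNatTrans.app a)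

lemma secOf_eq_of_hom {G G' : 𝒜 ⥤ᵇ Stk.ofPsh P} (α : G ⟶ G') (a : 𝒜.obj) :
    secOf G a = secOf G' a := by
  have h := tr_map (α.toNatTrans.app a) (baseEq G a) (baseEq G' a) (𝟙 (𝒜.p.obj a))
    (app_hom_eq α a)
  have h2 : P.map (𝟙 (𝒜.p.obj a)).op (tr (G'.obj a) (baseEq G' a)) = tr (G'.obj a) (baseEq G' a) := by
    simp
  exact (h.symm.trans h2 : tr (G.obj a) (baseEq G a) = tr (G'.obj a) (baseEq G' a))

/-- The 2-morphism between two functors with the same sections. -/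
def homOfSecEq (G G' : 𝒜 ⥤ᵇ Stk.ofPsh P) (h : ∀ a, secOf G a = secOf G' a) : G ⟶ G' where
  toNatTrans :=
    { app := fun a => ⟨eqToHom ((baseEq G a).trans (baseEq G' a).symm),
        sec_of_tr_eq (baseEq G a) (baseEq G' a) (h a)⟩
      naturality := fun a b k => by
        apply Stk.EltObj.hom_ext
        have e1 := map_hom_eq G k
        have e2 := map_hom_eq G' k
        show (G.map k).hom ≫ eqToHom ((baseEq G b).trans (baseEq G' b).symm) =
          eqToHom ((baseEq G a).trans (baseEq G' a).symm) ≫ (G'.map k).hom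
        rw [e1, e2]
        simp }
  isHomLift' := fun a =>
    IsHomLift.of_fac (Stk.ofPsh P).p _ _ (baseEq G a) (baseEq G' a) (by
      show 𝟙 (𝒜.p.obj a) = eqToHom (baseEq G a).symm ≫
        eqToHom ((baseEq G a).trans (baseEq G' a).symm) ≫ eqToHom (baseEq G' a)
      simp)

/-- Two functors with the same sections are 2-isomorphic. -/
def isoOfSecEq (G G' : 𝒜 ⥤ᵇ Stk.ofPsh P) (h : ∀ a, secOf G a = secOf G' a) : G ≅ G' where
  hom := homOfSecEq G G' h
  inv := homOfSecEq G' G (fun a => (h a).symm)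
  hom_inv_id := Subsingleton.elim _ _
  inv_hom_id := Subsingleton.elim _ _

/-- The functor over `C` attached to a compatible family of sections. -/
def ofFam (s : ∀ a : 𝒜.obj, P.obj (op (𝒜.p.obj a)))
    (hs : ∀ ⦃a b : 𝒜.obj⦄ (k : a ⟶ b), P.map (𝒜.p.map k).op (s b) = s a) :
    𝒜 ⥤ᵇ Stk.ofPsh P where
  toFunctor :=
    { obj := fun a => ⟨𝒜.p.obj a, s a⟩
      map := fun {a b} k => ⟨𝒜.p.map k, hs k⟩
      map_id := fun a => Stk.EltObj.hom_ext (𝒜.p.map_id a)
      map_comp := fun f g => Stk.EltObj.hom_ext (𝒜.p.map_comp f g) }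
  w := rfl

lemma secOf_ofFam (s : ∀ a : 𝒜.obj, P.obj (op (𝒜.p.obj a)))
    (hs : ∀ ⦃a b : 𝒜.obj⦄ (k : a ⟶ b), P.map (𝒜.p.map k).op (s b) = s a) (a : 𝒜.obj) :
    secOf (ofFam s hs) a = s a := by
  show P.map (eqToHom (Eq.refl (𝒜.p.obj a))).op (s a) = s a
  simp

end General

section Sieve

variable {U : C} (R : Sieve U)

lemma secOf_over (G : FibCat.overCat U ⥤ᵇ Stk.ofPsh P) (A : Over U) :
    P.map A.hom.op (secOf G (Over.mk (𝟙 U))) = secOf G A :=
  secOf_map G (toTerminal U A)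

/-- The functor `C/U ⟶ ofPsh P` classified by a section over `U`. -/
def ofSec (t : P.obj (op U)) : FibCat.overCat U ⥤ᵇ Stk.ofPsh P :=
  ofFam (𝒜 := FibCat.overCat U) (fun A => P.map A.hom.op t) (fun A B k => by
    show P.map k.left.op (P.map B.hom.op t) = P.map A.hom.op t
    rw [map_map, Over.w])

lemma secOf_ofSec (t : P.obj (op U)) (A : Over U) : secOf (ofSec t) A = P.map A.hom.op t :=
  secOf_ofFam (𝒜 := FibCat.overCat U) (fun A => P.map A.hom.op t) _ A

lemma secOf_res (G : FibCat.overCat U ⥤ᵇ Stk.ofPsh P) (a : (Stk.sieveCat R).obj) :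
    secOf ((Stk.resSieve R (Stk.ofPsh P)).obj G) a = secOf G a.obj :=
  rfl

lemma faithful_res : (Stk.resSieve R (Stk.ofPsh P)).Faithful :=
  ⟨fun {_ _} _ _ _ => Subsingleton.elim _ _⟩

lemma full_res (hP : Presieve.IsSeparatedFor P R.arrows) :
    (Stk.resSieve R (Stk.ofPsh P)).Full := by
  refine ⟨fun {G G'} δ => ?_⟩
  have hx : secOf G (Over.mk (𝟙 U)) = secOf G' (Over.mk (𝟙 U)) := by
    apply hP.ext
    intro V f hf
    have h1 := secOf_over G (Over.mk f)
    have h2 := secOf_over G' (Over.mk f)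
    have h3 : secOf G (Over.mk f) = secOf G' (Over.mk f) :=
      secOf_eq_of_hom δ ⟨Over.mk f, hf⟩
    exact h1.trans (h3.trans h2.symm)
  have hall : ∀ A : Over U, secOf G A = secOf G' A := fun A => by
    rw [← secOf_over G A, ← secOf_over G' A, hx]
  exact ⟨homOfSecEq G G' hall, Subsingleton.elim _ _⟩

lemma essSurj_res (hP : Presieve.IsSheafFor P R.arrows) :
    (Stk.resSieve R (Stk.ofPsh P)).EssSurj := by
  refine ⟨fun D => ?_⟩
  let x : Presieve.FamilyOfElements P R.arrows := fun V f hf => secOf D ⟨Over.mk f, hf⟩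
  have hx : x.Compatible := by
    rw [Presieve.compatible_iff_sieveCompatible]
    intro Y Z f g hf
    exact (secOf_map D (ObjectProperty.homMk (Over.homMk g rfl) :
      (⟨Over.mk (g ≫ f), R.downward_closed hf g⟩ : (Stk.sieveCat R).obj) ⟶
        ⟨Over.mk f, hf⟩)).symm
  obtain ⟨t, ht, -⟩ := hP x hx
  have hsec : ∀ a : (Stk.sieveCat R).obj,
      secOf ((Stk.resSieve R (Stk.ofPsh P)).obj (ofSec t)) a = secOf D a := by
    intro a
    rw [secOf_res, secOf_ofSec]
    exact ht a.obj.hom a.property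
  exact ⟨ofSec t, ⟨isoOfSecEq _ _ hsec⟩⟩

lemma isSheafFor_of_isStackFor (h : Stk.IsStackFor R (Stk.ofPsh P)) :
    Presieve.IsSheafFor P R.arrows := by
  haveI : (Stk.resSieve R (Stk.ofPsh P)).IsEquivalence := h
  intro x hx
  have hx' := (Presieve.compatible_iff_sieveCompatible x).1 hx
  let D : Stk.sieveCat R ⥤ᵇ Stk.ofPsh P :=
    ofFam (𝒜 := Stk.sieveCat R) (fun a => x a.obj.hom a.property) (fun a b k => by
      show P.map k.hom.left.op (x b.obj.hom b.property) = x a.obj.hom a.property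
      rw [← hx' b.obj.hom k.hom.left b.property]
      exact fam_congr x (Over.w k.hom) _ _)
  have hD : ∀ a : (Stk.sieveCat R).obj, secOf D a = x a.obj.hom a.property :=
    fun a => secOf_ofFam _ _ a
  have huniq : ∀ t₁ t₂ : P.obj (op U), x.IsAmalgamation t₁ → x.IsAmalgamation t₂ → t₁ = t₂ := by
    intro t₁ t₂ h₁ h₂
    have hsec : ∀ a : (Stk.sieveCat R).obj,
        secOf ((Stk.resSieve R (Stk.ofPsh P)).obj (ofSec t₁)) a =
          secOf ((Stk.resSieve R (Stk.ofPsh P)).obj (ofSec t₂)) a := by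
      intro a
      rw [secOf_res, secOf_res, secOf_ofSec, secOf_ofSec]
      exact (h₁ a.obj.hom a.property).trans (h₂ a.obj.hom a.property).symm
    obtain ⟨γ, -⟩ := (Stk.resSieve R (Stk.ofPsh P)).map_surjective (homOfSecEq _ _ hsec)
    have e := secOf_eq_of_hom γ (Over.mk (𝟙 U))
    rw [secOf_ofSec, secOf_ofSec] at e
    simpa using e
  obtain ⟨G, ⟨i⟩⟩ : ∃ G, Nonempty ((Stk.resSieve R (Stk.ofPsh P)).obj G ≅ D) :=
    ⟨_, ⟨(Stk.resSieve R (Stk.ofPsh P)).objObjPreimageIso D⟩⟩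
  have hamalg : x.IsAmalgamation (secOf G (Over.mk (𝟙 U))) := by
    intro V f hf
    have h1 : P.map f.op (secOf G (Over.mk (𝟙 U))) = secOf G (Over.mk f) :=
      secOf_over G (Over.mk f)
    have h2 : secOf G (Over.mk f) = secOf D ⟨Over.mk f, hf⟩ :=
      secOf_eq_of_hom i.hom ⟨Over.mk f, hf⟩
    exact h1.trans (h2.trans (hD ⟨Over.mk f, hf⟩))
  exact ⟨secOf G (Over.mk (𝟙 U)), hamalg, fun t' ht' => huniq _ _ ht' hamalg⟩

end Sieve

theorem isStack_ofPsh_iff (J : GrothendieckTopology C) (P : Cᵒᵖ ⥤ Type w) :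
    Stk.IsStack J (Stk.ofPsh P) ↔ Presieve.IsSheaf J P := by
  constructor
  · rintro ⟨-, h⟩ U R hR
    exact isSheafFor_of_isStackFor R (h R hR)
  · intro h
    refine ⟨Stk.isFibGrpd_ofPsh P, fun U R hR => ?_⟩
    have hs := h R hR
    haveI := faithful_res (P := P) R
    haveI := full_res R hs.isSeparatedFor
    haveI := essSurj_res R hs
    exact { }

end Groth.Agent.Lib.Helper10.StkPsh
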