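import Mathlib
import Groth.Prelude.Def_FibCat2
import Groth.Agent.Lib.Helper10.Fib2
import Groth.Agent.Lib.Helper10.FibGrpd

/-!
# Composition of categories fibred in groupoids (helper10)

* `isFibGrpd_comp`: a composite of functors fibred in groupoids is fibred in groupoids.
* `isFibGrpd_catPullback_snd`: for `F : Y ⥤ X` over `S` with `X`, `Y` fibred in groupoids over `S`,
  the projection `Y ×_X X ⥤ X` of the categorical pullback is fibred in groupoids.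
-/

set_option autoImplicit false
set_option backward.isDefEq.respectTransparency false
set_option backward.isDefEq.respectTransparency.types false

universe v₃ u₃ v₂ u₂ v₁ u₁

open CategoryTheory CategoryTheory.Limits

namespace Groth.Agent.Lib.Helper10.Fib

section Comp

variable {𝒜 : Type u₁} [Category.{v₁} 𝒜] {ℬ : Type u₂} [Category.{v₂} ℬ] {𝒞 : Type u₃}
  [Category.{v₃} 𝒞] (F : 𝒜 ⥤ ℬ) (G : ℬ ⥤ 𝒞)

theorem isFibGrpd_comp (hF : FibCat.IsFibGrpd F) (hG : FibCat.IsFibGrpd G) :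
    FibCat.IsFibGrpd (F ⋙ G) where
  exists_lift := by
    intro x V f
    obtain ⟨b, ψ, hψ⟩ := hG.exists_lift (x := F.obj x) f
    obtain ⟨a, φ, hφ⟩ := hF.exists_lift (x := x) ψ
    exact ⟨a, φ, isHomLift_comp F G f ψ φ⟩
  isStronglyCartesian := by
    intro y x φ
    rw [sc_map_iff]
    intro c g φ' hφ'
    obtain ⟨k, ⟨hk1, hk2⟩, hk3⟩ :=
      (sc_map_iff G (F.map φ)).1 (hG.isStronglyCartesian (F.map φ)) g (F.map φ') hφ'
    obtain ⟨χ, ⟨hχ1, hχ2⟩, hχ3⟩ :=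
      (sc_map_iff F φ).1 (hF.isStronglyCartesian φ) k φ' hk2.symm
    refine ⟨χ, ⟨by rw [Functor.comp_map, hχ1, hk1], hχ2⟩, ?_⟩
    rintro χ' ⟨h1', h2'⟩
    have e1 : F.map χ' = k := hk3 (F.map χ') ⟨h1', by rw [← F.map_comp, h2']⟩
    exact hχ3 χ' ⟨e1, h2'⟩

end Comp

section CatPullback

variable {S : Type u₁} [Category.{v₁} S] {X : Type u₂} [Category.{v₂} X] {Y : Type u₃}
  [Category.{v₃} Y]

theorem isFibGrpd_catPullback_snd (πX : X ⥤ S) (hX : FibCat.IsFibGrpd πX) (F : Y ⥤ X)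
    (hY : FibCat.IsFibGrpd (F ⋙ πX)) :
    FibCat.IsFibGrpd (CategoricalPullback.π₂ F (𝟭 X)) where
  exists_lift := by
    intro a V f
    obtain ⟨y, x, e⟩ := a
    change V ⟶ x at f
    change F.obj y ≅ x at e
    obtain ⟨m, hm⟩ : ∃ m : V ⟶ F.obj y, m = f ≫ e.inv := ⟨_, rfl⟩
    obtain ⟨y', φ, hφ⟩ := hY.exists_lift (x := y) (πX.map m)
    have hFφ : πX.IsHomLift (πX.map m) (F.map φ) := isHomLift_map_of_comp F πX (πX.map m) φ
    have hsc : πX.IsStronglyCartesian (πX.map m) m := hX.isStronglyCartesian m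
    obtain ⟨χ, ⟨hχ1, hχ2⟩, -⟩ := Functor.IsStronglyCartesian.universal_property πX
      (πX.map m) m (𝟙 (πX.obj V)) (πX.map m) (Category.id_comp _).symm (F.map φ)
    haveI := hχ1
    haveI : IsIso χ := IsFibGrpd.isIso_of_isHomLift_id hX (U := πX.obj V) χ
    let b : CategoricalPullback F (𝟭 X) := ⟨y', V, asIso χ⟩
    let ψ : b ⟶ (⟨y, x, e⟩ : CategoricalPullback F (𝟭 X)) := ⟨φ, f, by
      show F.map φ ≫ e.hom = χ ≫ f
      rw [← hχ2, hm, Category.assoc, Category.assoc, Iso.inv_hom_id, Category.comp_id]⟩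
    refine ⟨b, ψ, ?_⟩
    show (CategoricalPullback.π₂ F (𝟭 X)).IsHomLift ((CategoricalPullback.π₂ F (𝟭 X)).map ψ) ψ
    infer_instance
  isStronglyCartesian := by
    intro b a ψ
    rw [sc_map_iff]
    intro c g φ' hφ'
    obtain ⟨y'', x'', e''⟩ := c
    obtain ⟨y', x', e'⟩ := b
    obtain ⟨y, x, e⟩ := a
    change F.obj y'' ≅ x'' at e''
    change F.obj y' ≅ x' at e'
    change F.obj y ≅ x at e
    change x'' ⟶ x' at g
    obtain ⟨ψ₁, ψ₂, hψw⟩ := ψ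
    obtain ⟨φ₁, φ₂, hφw⟩ := φ'
    change y' ⟶ y at ψ₁
    change x' ⟶ x at ψ₂
    change y'' ⟶ y at φ₁
    change x'' ⟶ x at φ₂
    have hψw' : F.map ψ₁ ≫ e.hom = e'.hom ≫ ψ₂ := hψw
    have hφw' : F.map φ₁ ≫ e.hom = e''.hom ≫ φ₂ := hφw
    have hφ'' : φ₂ = g ≫ ψ₂ := hφ'
    obtain ⟨k, hk⟩ : ∃ k : F.obj y'' ⟶ F.obj y', k = e''.hom ≫ g ≫ e'.inv := ⟨_, rfl⟩
    have hkψ : k ≫ F.map ψ₁ = F.map φ₁ := by
      have h1 : e'.inv ≫ F.map ψ₁ = ψ₂ ≫ e.inv := by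
        rw [Iso.inv_comp_eq, ← Category.assoc, ← hψw', Category.assoc, Iso.hom_inv_id,
          Category.comp_id]
      have h2 : e''.hom ≫ φ₂ ≫ e.inv = F.map φ₁ := by
        rw [← Category.assoc, ← hφw', Category.assoc, Iso.hom_inv_id, Category.comp_id]
      rw [hk, Category.assoc, Category.assoc, h1, ← Category.assoc g, ← hφ'', h2]
    obtain ⟨χ₁, ⟨hχ1, hχ2⟩, hχ3⟩ :=
      (sc_map_iff (F ⋙ πX) ψ₁).1 (hY.isStronglyCartesian ψ₁) (πX.map k) φ₁ (by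
        rw [Functor.comp_map, Functor.comp_map, ← hkψ, πX.map_comp])
    obtain ⟨ξ, -, hξ⟩ :=
      (sc_map_iff πX (F.map ψ₁)).1 (hX.isStronglyCartesian (F.map ψ₁)) (πX.map k) (F.map φ₁) (by
        rw [← hkψ, πX.map_comp])
    have e1 : F.map χ₁ = ξ := hξ _ ⟨hχ1, by rw [← F.map_comp, hχ2]⟩
    have e2 : k = ξ := hξ _ ⟨rfl, hkψ⟩
    have hFχ : F.map χ₁ = k := e1.trans e2.symm
    let χ : (⟨y'', x'', e''⟩ : CategoricalPullback F (𝟭 X)) ⟶ ⟨y', x', e'⟩ := ⟨χ₁, g, by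
      show F.map χ₁ ≫ e'.hom = e''.hom ≫ g
      rw [hFχ, hk, Category.assoc, Category.assoc, Iso.inv_hom_id, Category.comp_id]⟩
    refine ⟨χ, ⟨rfl, ?_⟩, ?_⟩
    · apply CategoricalPullback.hom_ext
      · exact hχ2
      · exact hφ''.symm
    · rintro ⟨χ'₁, χ'₂, hχ'w⟩ ⟨h1', h2'⟩
      change y'' ⟶ y' at χ'₁
      change x'' ⟶ x' at χ'₂
      have hχ'w' : F.map χ'₁ ≫ e'.hom = e''.hom ≫ χ'₂ := hχ'w
      have hg : χ'₂ = g := h1'
      have hfst : χ'₁ ≫ ψ₁ = φ₁ := congrArg CategoricalPullback.Hom.fst h2'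
      have hFχ' : F.map χ'₁ = k := by
        rw [hk, ← hg, ← Category.assoc, ← hχ'w', Category.assoc, Iso.hom_inv_id,
          Category.comp_id]
      have h3 : χ'₁ = χ₁ := hχ3 χ'₁ ⟨by rw [Functor.comp_map, hFχ'], hfst⟩
      apply CategoricalPullback.hom_ext
      · exact h3
      · exact hg

end CatPullback

end Groth.Agent.Lib.Helper10.Fib
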