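import Mathlib
import Groth.Prelude.Def_StGerb
import Groth.Agent.Lib.Helper10.Fib2
import Groth.Agent.Lib.Helper10.FibCart
import Groth.Agent.Lib.Helper10.Fib7
import Groth.Agent.Lib.Helper10.StkPost

/-!
# Formal properties of gerbes (`Gerb.IsGerbeOver`)

* `exists_factor`, `exists_factor_iso`: factorisation through a lift in a category fibred in
  groupoids.
* `objSieve`, `homSieve`, `locSurjObj_iff`, `locSurjHom_iff`: sieve forms of the two conditions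
  (with free base objects).
* `isGerbeOver_comp`, `isGerbeOver_fpFst`, `isGerbeOver_of_isEquivOver`,
  `isGerbeOver_equiv_comp`, `isGerbeOver_of_equiv_comp`, `isGerbeOver_of_iso`,
  `isGerbeOver_of_fpFst`, `toSelfIso`, `isGerbe_iff_of_isEquivOver`.
-/

set_option autoImplicit false
set_option linter.style.haveILetI false
set_option backward.isDefEq.respectTransparency false
set_option backward.isDefEq.respectTransparency.types false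

universe v₂ u₂ v₃ u₃ v₄ u₄ v₅ u₅ v u

open CategoryTheory Functor

namespace Groth.Agent.Lib.Helper10.Gerbe

open Groth.Agent.Lib.Helper10.Fib Groth.Agent.Lib.Helper10.StkPost

section Base

variable {𝒮 : Type u₂} {𝒳 : Type u₃} [Category.{v₂} 𝒮] [Category.{v₃} 𝒳] {p : 𝒳 ⥤ 𝒮}

lemma exists_factor (hp : FibCat.IsFibGrpd p) {V U : 𝒮} (f : V ⟶ U) {a b c : 𝒳} (m : a ⟶ c)
    (n : b ⟶ c) [p.IsHomLift f m] [p.IsHomLift f n] :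
    ∃ θ : a ⟶ b, p.IsHomLift (𝟙 V) θ ∧ θ ≫ n = m := by
  haveI := IsFibGrpd.sc hp f n
  obtain ⟨χ, ⟨h1, h2⟩, -⟩ :=
    IsStronglyCartesian.universal_property p f n (𝟙 V) f (Category.id_comp f).symm m
  exact ⟨χ, h1, h2⟩

lemma exists_factor_iso (hp : FibCat.IsFibGrpd p) {V U : 𝒮} (f : V ⟶ U) {a b c : 𝒳} (m : a ⟶ c)
    (n : b ⟶ c) [p.IsHomLift f m] [p.IsHomLift f n] :
    ∃ θ : a ≅ b, p.IsHomLift (𝟙 V) θ.hom ∧ θ.hom ≫ n = m := by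
  obtain ⟨θ, h1, h2⟩ := exists_factor hp f m n
  haveI := h1
  haveI : IsIso θ := IsFibGrpd.isIso_of_isHomLift_id hp (U := V) θ
  exact ⟨asIso θ, h1, h2⟩

end Base

section Site

variable {C : Type u} [Category.{v} C] (J : GrothendieckTopology C)
  {𝒳 : BasedCategory.{v₂, u₂} C} {𝒴 : BasedCategory.{v₃, u₃} C} {𝒵 : BasedCategory.{v₄, u₄} C}

/-- The sieve of arrows `V ⟶ U` over which `y` receives a morphism from the image of `F`. -/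
def objSieve (F : 𝒳 ⥤ᵇ 𝒴) (h𝒳 : FibCat.IsFibGrpd 𝒳.p) (y : 𝒴.obj) (U : C) : Sieve U where
  arrows V f := ∃ (x : 𝒳.obj) (g : F.obj x ⟶ y), 𝒴.p.IsHomLift f g
  downward_closed := by
    rintro V W f ⟨x, g, hg⟩ k
    haveI := hg
    have hx : 𝒳.p.obj x = V := (F.w_obj x).symm.trans (IsHomLift.domain_eq 𝒴.p f g)
    obtain ⟨x', χ, hχ⟩ := IsFibGrpd.exists_lift' h𝒳 hx k
    haveI := hχ
    exact ⟨x', F.map χ ≫ g, inferInstance⟩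

theorem locSurjObj_iff (F : 𝒳 ⥤ᵇ 𝒴) (h𝒳 : FibCat.IsFibGrpd 𝒳.p) :
    Gerb.LocSurjObj J F ↔
      ∀ (y : 𝒴.obj) (U : C), 𝒴.p.obj y = U → objSieve F h𝒳 y U ∈ J U := by
  constructor
  · intro h y U hU
    subst hU
    obtain ⟨R, hR, hR'⟩ := h y
    exact J.superset_covering (fun V f hf => hR' f hf) hR
  · intro h y
    exact ⟨objSieve F h𝒳 y _, h y _ rfl, fun V f hf => hf⟩

/-- The sieve of arrows `f : W ⟶ V` over which `b : F x ⟶ F x'` (lying over `h : V ⟶ U`) lifts. -/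
def homSieve (F : 𝒳 ⥤ᵇ 𝒴) (h𝒳 : FibCat.IsFibGrpd 𝒳.p) {x x' : 𝒳.obj}
    (b : F.obj x ⟶ F.obj x') {V U : C} (h : V ⟶ U) : Sieve V where
  arrows W f := ∃ (x₀ : 𝒳.obj) (φ : x₀ ⟶ x) (ψ : x₀ ⟶ x'),
    𝒳.p.IsHomLift f φ ∧ 𝒳.p.IsHomLift (f ≫ h) ψ ∧ F.map φ ≫ b = F.map ψ
  downward_closed := by
    rintro W W' f ⟨x₀, φ, ψ, hφ, hψ, e⟩ k
    haveI := hφ
    haveI := hψ
    have hx : 𝒳.p.obj x₀ = W := IsHomLift.domain_eq 𝒳.p f φ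
    obtain ⟨x₁, χ, hχ⟩ := IsFibGrpd.exists_lift' h𝒳 hx k
    haveI := hχ
    refine ⟨x₁, χ ≫ φ, χ ≫ ψ, inferInstance, ?_, ?_⟩
    · rw [Category.assoc]; infer_instance
    · rw [Functor.map_comp, Functor.map_comp, Category.assoc, e]

theorem locSurjHom_iff (F : 𝒳 ⥤ᵇ 𝒴) (h𝒳 : FibCat.IsFibGrpd 𝒳.p) (h𝒴 : FibCat.IsFibGrpd 𝒴.p) :
    Gerb.LocSurjHom J F ↔
      ∀ (x x' : 𝒳.obj) (b : F.obj x ⟶ F.obj x') {V U : C} (h : V ⟶ U),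
        𝒴.p.IsHomLift h b → homSieve F h𝒳 b h ∈ J V := by
  constructor
  · intro H x x' b V U h hb
    haveI := hb
    have hx : 𝒳.p.obj x = V := (F.w_obj x).symm.trans (IsHomLift.domain_eq 𝒴.p h b)
    have hx' : 𝒳.p.obj x' = U := (F.w_obj x').symm.trans (IsHomLift.codomain_eq 𝒴.p h b)
    obtain ⟨x₂, π, hπ⟩ := IsFibGrpd.exists_lift' h𝒳 hx' h
    haveI := hπ
    obtain ⟨β, hβ, eβ⟩ := exists_factor h𝒴 h b (F.map π)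
    subst hx
    obtain ⟨R, hR, hR'⟩ := H x x₂ β hβ
    refine J.superset_covering (fun W f hf => ?_) hR
    obtain ⟨x₀, φ, ψ, hφ, hψ, e⟩ := hR' f hf
    haveI := hφ
    haveI := hψ
    refine ⟨x₀, φ, ψ ≫ π, hφ, inferInstance, ?_⟩
    rw [Functor.map_comp, ← e, Category.assoc, eβ]
  · intro H x x' b hb
    refine ⟨homSieve F h𝒳 b (𝟙 (𝒳.p.obj x)), H x x' b (𝟙 _) hb, fun V f hf => ?_⟩
    obtain ⟨x₀, φ, ψ, hφ, hψ, e⟩ := hf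
    rw [Category.comp_id] at hψ
    exact ⟨x₀, φ, ψ, hφ, hψ, e⟩

theorem locSurjObj_comp (F : 𝒳 ⥤ᵇ 𝒴) (G : 𝒴 ⥤ᵇ 𝒵) (h𝒳 : FibCat.IsFibGrpd 𝒳.p)
    (h𝒴 : FibCat.IsFibGrpd 𝒴.p) (hF : Gerb.LocSurjObj J F) (hG : Gerb.LocSurjObj J G) :
    Gerb.LocSurjObj J (BasedFunctor.comp F G) := by
  rw [locSurjObj_iff J _ h𝒳]
  intro z U hU
  have hG' := (locSurjObj_iff J G h𝒴).1 hG z U hU
  refine J.transitive hG' _ ?_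
  rintro V f ⟨y, g, hg⟩
  haveI := hg
  have hy : 𝒴.p.obj y = V := (G.w_obj y).symm.trans (IsHomLift.domain_eq 𝒵.p f g)
  have hF' := (locSurjObj_iff J F h𝒳).1 hF y V hy
  refine J.superset_covering ?_ hF'
  rintro W k ⟨x, g', hg'⟩
  haveI := hg'
  show ∃ (x : 𝒳.obj) (g₀ : G.obj (F.obj x) ⟶ z), 𝒵.p.IsHomLift (k ≫ f) g₀
  exact ⟨x, G.map g' ≫ g, inferInstance⟩

theorem locSurjHom_comp (F : 𝒳 ⥤ᵇ 𝒴) (G : 𝒴 ⥤ᵇ 𝒵) (h𝒳 : FibCat.IsFibGrpd 𝒳.p)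
    (h𝒴 : FibCat.IsFibGrpd 𝒴.p) (h𝒵 : FibCat.IsFibGrpd 𝒵.p)
    (hF : Gerb.IsGerbeOver J F) (hG : Gerb.LocSurjHom J G) :
    Gerb.LocSurjHom J (BasedFunctor.comp F G) := by
  rw [locSurjHom_iff J _ h𝒳 h𝒵]
  intro x x' c V U h hc
  change G.obj (F.obj x) ⟶ G.obj (F.obj x') at c
  haveI := hc
  have hF2 := (locSurjHom_iff J F h𝒳 h𝒴).1 hF.2
  have hG2 := (locSurjHom_iff J G h𝒴 h𝒵).1 hG (F.obj x) (F.obj x') c h hc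
  refine J.transitive hG2 _ ?_
  rintro V₁ f ⟨y₀, φ, ψ, hφ, hψ, e⟩
  haveI := hφ
  haveI := hψ
  have hy₀ : 𝒴.p.obj y₀ = V₁ := IsHomLift.domain_eq 𝒴.p f φ
  have hF1 := (locSurjObj_iff J F h𝒳).1 hF.1 y₀ V₁ hy₀
  refine J.transitive hF1 _ ?_
  rintro V₂ f₁ ⟨x₁, g₁, hg₁⟩
  haveI := hg₁
  have h3 := hF2 x₁ x (g₁ ≫ φ) (f₁ ≫ f) inferInstance
  refine J.transitive h3 _ ?_
  rintro V₃ f₂ ⟨x₃, φ₃, a, hφ₃, ha, e₃⟩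
  haveI := hφ₃
  haveI := ha
  have h4 := hF2 x₃ x' (F.map φ₃ ≫ g₁ ≫ ψ) (f₂ ≫ f₁ ≫ f ≫ h) inferInstance
  refine J.superset_covering ?_ h4
  rintro V₄ f₃ ⟨x₅, φ₅, a', hφ₅, ha', e₅⟩
  haveI := hφ₅
  haveI := ha'
  show ∃ (x₀ : 𝒳.obj) (φ₀ : x₀ ⟶ x) (ψ₀ : x₀ ⟶ x'),
    𝒳.p.IsHomLift (((f₃ ≫ f₂) ≫ f₁) ≫ f) φ₀ ∧
      𝒳.p.IsHomLift ((((f₃ ≫ f₂) ≫ f₁) ≫ f) ≫ h) ψ₀ ∧
        G.map (F.map φ₀) ≫ c = G.map (F.map ψ₀)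
  refine ⟨x₅, φ₅ ≫ a, a', ?_, ?_, ?_⟩
  · have : 𝒳.p.IsHomLift (f₃ ≫ f₂ ≫ f₁ ≫ f) (φ₅ ≫ a) := inferInstance
    simpa only [Category.assoc] using this
  · simpa only [Category.assoc] using ha'
  · have e1 : F.map (φ₅ ≫ a) = (F.map φ₅ ≫ F.map φ₃ ≫ g₁) ≫ φ := by
      rw [Functor.map_comp, ← e₃]; simp only [Category.assoc]
    have e2 : F.map a' = (F.map φ₅ ≫ F.map φ₃ ≫ g₁) ≫ ψ := by
      rw [← e₅]; simp only [Category.assoc]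
    rw [e1, e2, G.toFunctor.map_comp (F.map φ₅ ≫ F.map φ₃ ≫ g₁) φ,
      G.toFunctor.map_comp (F.map φ₅ ≫ F.map φ₃ ≫ g₁) ψ, Category.assoc]
    exact congrArg (fun t => G.map (F.map φ₅ ≫ F.map φ₃ ≫ g₁) ≫ t) e

theorem isGerbeOver_comp (F : 𝒳 ⥤ᵇ 𝒴) (G : 𝒴 ⥤ᵇ 𝒵) (h𝒳 : FibCat.IsFibGrpd 𝒳.p)
    (h𝒴 : FibCat.IsFibGrpd 𝒴.p) (h𝒵 : FibCat.IsFibGrpd 𝒵.p)
    (hF : Gerb.IsGerbeOver J F) (hG : Gerb.IsGerbeOver J G) :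
    Gerb.IsGerbeOver J (BasedFunctor.comp F G) :=
  ⟨locSurjObj_comp J F G h𝒳 h𝒴 hF.1 hG.1, locSurjHom_comp J F G h𝒳 h𝒴 h𝒵 hF hG.2⟩

theorem isGerbeOver_of_isEquivOver (L : 𝒳 ⥤ᵇ 𝒴) (hL : FibCat.IsEquivOver L)
    (h𝒳 : FibCat.IsFibGrpd 𝒳.p) : Gerb.IsGerbeOver J L := by
  haveI := IsEquivOver.isEquivalence hL
  constructor
  · intro y
    obtain ⟨x, i, hi⟩ := IsEquivOver.exists_iso hL y
    haveI := hi
    refine ⟨⊤, J.top_mem _, ?_⟩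
    intro V f _
    have hx : 𝒳.p.obj x = 𝒴.p.obj y :=
      (L.w_obj x).symm.trans (IsHomLift.domain_eq 𝒴.p (𝟙 _) i.hom)
    obtain ⟨x', χ, hχ⟩ := IsFibGrpd.exists_lift' h𝒳 hx f
    haveI := hχ
    refine ⟨x', L.map χ ≫ i.hom, ?_⟩
    have : 𝒴.p.IsHomLift (f ≫ 𝟙 _) (L.map χ ≫ i.hom) := inferInstance
    simpa only [Category.comp_id] using this
  · intro x x' b hb
    obtain ⟨b', rfl⟩ := L.toFunctor.map_surjective b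
    have hb' : 𝒳.p.IsHomLift (𝟙 (𝒳.p.obj x)) b' := (BasedFunctor.isHomLift_iff L _ b').1 hb
    haveI := hb'
    refine ⟨⊤, J.top_mem _, ?_⟩
    intro V f _
    obtain ⟨x₀, χ, hχ⟩ := IsFibGrpd.exists_lift' h𝒳 (rfl : 𝒳.p.obj x = _) f
    haveI := hχ
    refine ⟨x₀, χ, χ ≫ b', hχ.toIsHomLift, ?_, ?_⟩
    · have : 𝒳.p.IsHomLift (f ≫ 𝟙 _) (χ ≫ b') := inferInstance
      simpa only [Category.comp_id] using this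
    · exact (L.toFunctor.map_comp χ b').symm

theorem isGerbeOver_equiv_comp {𝒳' : BasedCategory.{v₅, u₅} C} (L : 𝒳' ⥤ᵇ 𝒳)
    (hL : FibCat.IsEquivOver L) (K : 𝒳 ⥤ᵇ 𝒴) (h𝒳' : FibCat.IsFibGrpd 𝒳'.p)
    (h𝒳 : FibCat.IsFibGrpd 𝒳.p) (h𝒴 : FibCat.IsFibGrpd 𝒴.p) (hK : Gerb.IsGerbeOver J K) :
    Gerb.IsGerbeOver J (BasedFunctor.comp L K) :=
  isGerbeOver_comp J L K h𝒳' h𝒳 h𝒴 (isGerbeOver_of_isEquivOver J L hL h𝒳') hK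

theorem isGerbeOver_of_equiv_comp {𝒳' : BasedCategory.{v₅, u₅} C} (L : 𝒳' ⥤ᵇ 𝒳)
    (hL : FibCat.IsEquivOver L) (K : 𝒳 ⥤ᵇ 𝒴) (h𝒳' : FibCat.IsFibGrpd 𝒳'.p)
    (h𝒳 : FibCat.IsFibGrpd 𝒳.p) (h𝒴 : FibCat.IsFibGrpd 𝒴.p)
    (h : Gerb.IsGerbeOver J (BasedFunctor.comp L K)) : Gerb.IsGerbeOver J K := by
  constructor
  · intro y
    obtain ⟨R, hR, H⟩ := h.1 y
    refine ⟨R, hR, fun V f hf => ?_⟩
    obtain ⟨x', g, hg⟩ := H f hf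
    exact ⟨L.obj x', g, hg⟩
  · rw [locSurjHom_iff J K h𝒳 h𝒴]
    intro w₁ w₂ b V U hh hb
    haveI := hb
    obtain ⟨x₁, i₁, hi₁⟩ := IsEquivOver.exists_iso hL w₁
    obtain ⟨x₂, i₂, hi₂⟩ := IsEquivOver.exists_iso hL w₂
    have hw₁ : 𝒳.p.obj w₁ = V := (K.w_obj w₁).symm.trans (IsHomLift.domain_eq 𝒴.p hh b)
    have hw₂ : 𝒳.p.obj w₂ = U := (K.w_obj w₂).symm.trans (IsHomLift.codomain_eq 𝒴.p hh b)
    haveI hi₁' : 𝒳.p.IsHomLift (𝟙 V) i₁.hom := by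
      haveI := hi₁; exact isHomLift_id_of_eq 𝒳.p hw₁ _
    haveI hi₂' : 𝒳.p.IsHomLift (𝟙 U) i₂.hom := by
      haveI := hi₂; exact isHomLift_id_of_eq 𝒳.p hw₂ _
    have hb' : 𝒴.p.IsHomLift hh (K.map i₁.hom ≫ b ≫ K.map i₂.inv) := by
      have : 𝒴.p.IsHomLift (𝟙 V ≫ hh ≫ 𝟙 U) (K.map i₁.hom ≫ b ≫ K.map i₂.inv) := inferInstance
      simpa only [Category.comp_id, Category.id_comp] using this
    have h1 := (locSurjHom_iff J (BasedFunctor.comp L K) h𝒳' h𝒴).1 h.2 x₁ x₂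
      (K.map i₁.hom ≫ b ≫ K.map i₂.inv) hh hb'
    refine J.superset_covering ?_ h1
    rintro W f ⟨x₀, φ, ψ, hφ, hψ, e⟩
    haveI := hφ
    haveI := hψ
    refine ⟨L.obj x₀, L.map φ ≫ i₁.hom, L.map ψ ≫ i₂.hom, ?_, ?_, ?_⟩
    · have : 𝒳.p.IsHomLift (f ≫ 𝟙 V) (L.map φ ≫ i₁.hom) := inferInstance
      simpa only [Category.comp_id] using this
    · have : 𝒳.p.IsHomLift ((f ≫ hh) ≫ 𝟙 U) (L.map ψ ≫ i₂.hom) := inferInstance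
      simpa only [Category.comp_id] using this
    · have e' : K.map (L.map φ) ≫ K.map i₁.hom ≫ b ≫ K.map i₂.inv = K.map (L.map ψ) := e
      rw [Functor.map_comp, Functor.map_comp, ← e']
      simp only [Category.assoc, Iso.map_inv_hom_id, Category.comp_id]

theorem isGerbeOver_of_iso {F F' : 𝒳 ⥤ᵇ 𝒴} (e : F ≅ F') (hF : Gerb.IsGerbeOver J F) :
    Gerb.IsGerbeOver J F' := by
  obtain ⟨η, hηdef⟩ : ∃ η : F.toFunctor ≅ F'.toFunctor, η = natIsoOfBased e := ⟨_, rfl⟩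
  have hη : ∀ x, 𝒴.p.IsHomLift (𝟙 (𝒳.p.obj x)) (η.hom.app x) := fun x => by
    rw [hηdef]; exact e.hom.isHomLift' x
  have hη' : ∀ x, 𝒴.p.IsHomLift (𝟙 (𝒳.p.obj x)) (η.inv.app x) := fun x => by
    rw [hηdef]; exact e.inv.isHomLift' x
  constructor
  · intro y
    obtain ⟨R, hR, H⟩ := hF.1 y
    refine ⟨R, hR, fun V f hf => ?_⟩
    obtain ⟨x, g, hg⟩ := H f hf
    haveI := hg
    have hx : 𝒳.p.obj x = V := (F.w_obj x).symm.trans (IsHomLift.domain_eq 𝒴.p f g)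
    haveI : 𝒴.p.IsHomLift (𝟙 V) (η.inv.app x) := by
      haveI := hη' x; exact isHomLift_id_of_eq 𝒴.p hx _
    refine ⟨x, η.inv.app x ≫ g, ?_⟩
    have : 𝒴.p.IsHomLift (𝟙 V ≫ f) (η.inv.app x ≫ g) := inferInstance
    simpa only [Category.id_comp] using this
  · intro x x' b hb
    haveI := hb
    have hx' : 𝒳.p.obj x' = 𝒳.p.obj x :=
      (F'.w_obj x').symm.trans (IsHomLift.codomain_eq 𝒴.p (𝟙 _) b)
    haveI := hη x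
    haveI : 𝒴.p.IsHomLift (𝟙 (𝒳.p.obj x)) (η.inv.app x') := by
      haveI := hη' x'; exact isHomLift_id_of_eq 𝒴.p hx' _
    have hb' : 𝒴.p.IsHomLift (𝟙 (𝒳.p.obj x)) (η.hom.app x ≫ b ≫ η.inv.app x') := by
      have : 𝒴.p.IsHomLift (𝟙 (𝒳.p.obj x) ≫ 𝟙 (𝒳.p.obj x) ≫ 𝟙 (𝒳.p.obj x))
        (η.hom.app x ≫ b ≫ η.inv.app x') := inferInstance
      simpa only [Category.comp_id] using this
    obtain ⟨R, hR, H⟩ := hF.2 x x' _ hb'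
    refine ⟨R, hR, fun V f hf => ?_⟩
    obtain ⟨x₀, φ, ψ, hφ, hψ, e₀⟩ := H f hf
    refine ⟨x₀, φ, ψ, hφ, hψ, ?_⟩
    have m1 : F'.map φ = η.inv.app x₀ ≫ F.map φ ≫ η.hom.app x := (NatIso.naturality_1 η φ).symm
    have m2 : F'.map ψ = η.inv.app x₀ ≫ F.map ψ ≫ η.hom.app x' :=
      (NatIso.naturality_1 η ψ).symm
    rw [m1, m2, ← e₀]
    simp only [Category.assoc, Iso.inv_hom_id_app, Category.comp_id]

theorem locSurjHom_of_homSieve (F : 𝒳 ⥤ᵇ 𝒴) (h𝒳 : FibCat.IsFibGrpd 𝒳.p)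
    (H : ∀ (x x' : 𝒳.obj) (b : F.obj x ⟶ F.obj x'), 𝒴.p.IsHomLift (𝟙 (𝒳.p.obj x)) b →
      homSieve F h𝒳 b (𝟙 (𝒳.p.obj x)) ∈ J (𝒳.p.obj x)) : Gerb.LocSurjHom J F := by
  intro x x' b hb
  refine ⟨homSieve F h𝒳 b (𝟙 (𝒳.p.obj x)), H x x' b hb, fun V f hf => ?_⟩
  obtain ⟨x₀, φ, ψ, hφ, hψ, e⟩ := hf
  rw [Category.comp_id] at hψ
  exact ⟨x₀, φ, ψ, hφ, hψ, e⟩

end Site

section FP

variable {C : Type u} [Category.{v} C] (J : GrothendieckTopology C)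
  {𝒜 : BasedCategory.{v₂, u₂} C} {ℬ : BasedCategory.{v₃, u₃} C} {𝒮 : BasedCategory.{v₄, u₄} C}
  (F : 𝒜 ⥤ᵇ 𝒮) (G : ℬ ⥤ᵇ 𝒮)

/-- Objects of the 2-fibre product. -/
def fpObj (a : 𝒜.obj) (b : ℬ.obj) (θ : F.obj a ≅ G.obj b)
    (hθ : 𝒮.p.IsHomLift (𝟙 (𝒜.p.obj a)) θ.hom) : (FibCat.fp F G).obj := ⟨⟨a, b, θ⟩, hθ⟩

/-- Morphisms of the 2-fibre product. -/
def fpHom {P Q : (FibCat.fp F G).obj} (α : P.obj.fst ⟶ Q.obj.fst) (β : P.obj.snd ⟶ Q.obj.snd)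
    (w : F.map α ≫ Q.obj.iso.hom = P.obj.iso.hom ≫ G.map β) : P ⟶ Q :=
  ObjectProperty.homMk ⟨α, β, w⟩

theorem locSurjObj_fpFst (h𝒜 : FibCat.IsFibGrpd 𝒜.p) (hℬ : FibCat.IsFibGrpd ℬ.p)
    (h𝒮 : FibCat.IsFibGrpd 𝒮.p) (hG : Gerb.LocSurjObj J G) :
    Gerb.LocSurjObj J (FibCat.fpFst F G) := by
  intro a
  have h1 := (locSurjObj_iff J G hℬ).1 hG (F.obj a) (𝒜.p.obj a) (F.w_obj a)
  refine ⟨_, h1, ?_⟩
  rintro V f ⟨b, m, hm⟩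
  haveI := hm
  obtain ⟨a', π, hπ⟩ := IsFibGrpd.exists_lift' h𝒜 (rfl : 𝒜.p.obj a = 𝒜.p.obj a) f
  haveI := hπ
  obtain ⟨θ, hθ, eθ⟩ := exists_factor_iso h𝒮 f (F.map π) m
  have ha' : 𝒜.p.obj a' = V := IsHomLift.domain_eq 𝒜.p f π
  haveI := hθ
  have hθ' : 𝒮.p.IsHomLift (𝟙 (𝒜.p.obj a')) θ.hom := isHomLift_id_of_eq 𝒮.p ha'.symm θ.hom
  exact ⟨fpObj F G a' b θ hθ', π, hπ.toIsHomLift⟩

theorem locSurjHom_fpFst (h𝒜 : FibCat.IsFibGrpd 𝒜.p) (hℬ : FibCat.IsFibGrpd ℬ.p)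
    (h𝒮 : FibCat.IsFibGrpd 𝒮.p) (hG : Gerb.LocSurjHom J G) :
    Gerb.LocSurjHom J (FibCat.fpFst F G) := by
  intro P P' b hb
  change P.obj.fst ⟶ P'.obj.fst at b
  change 𝒜.p.IsHomLift (𝟙 (𝒜.p.obj P.obj.fst)) b at hb
  haveI := hb
  have hP : 𝒮.p.IsHomLift (𝟙 (𝒜.p.obj P.obj.fst)) P.obj.iso.hom := P.property
  have hP' : 𝒮.p.IsHomLift (𝟙 (𝒜.p.obj P'.obj.fst)) P'.obj.iso.hom := P'.property
  have hU' : 𝒜.p.obj P'.obj.fst = 𝒜.p.obj P.obj.fst := IsHomLift.codomain_eq 𝒜.p (𝟙 _) b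
  haveI := hP
  haveI hP'' : 𝒮.p.IsHomLift (𝟙 (𝒜.p.obj P.obj.fst)) P'.obj.iso.hom := by
    haveI := hP'; exact isHomLift_id_of_eq 𝒮.p hU' _
  have hc : 𝒮.p.IsHomLift (𝟙 (𝒜.p.obj P.obj.fst))
      (P.obj.iso.inv ≫ F.map b ≫ P'.obj.iso.hom) := by
    have : 𝒮.p.IsHomLift (𝟙 (𝒜.p.obj P.obj.fst) ≫ 𝟙 (𝒜.p.obj P.obj.fst) ≫
      𝟙 (𝒜.p.obj P.obj.fst)) (P.obj.iso.inv ≫ F.map b ≫ P'.obj.iso.hom) := inferInstance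
    simpa only [Category.comp_id] using this
  have h1 := (locSurjHom_iff J G hℬ h𝒮).1 hG P.obj.snd P'.obj.snd _
    (𝟙 (𝒜.p.obj P.obj.fst)) hc
  refine ⟨_, h1, ?_⟩
  intro V f hf
  change V ⟶ 𝒜.p.obj P.obj.fst at f
  obtain ⟨b₀, α, β, hα, hβ, e⟩ := hf
  haveI := hα
  rw [Category.comp_id] at hβ
  haveI := hβ
  obtain ⟨a₀, π, hπ⟩ := IsFibGrpd.exists_lift' h𝒜 (rfl : 𝒜.p.obj P.obj.fst = _) f
  haveI := hπ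
  have hm : 𝒮.p.IsHomLift f (F.map π ≫ P.obj.iso.hom) := by
    have : 𝒮.p.IsHomLift (f ≫ 𝟙 (𝒜.p.obj P.obj.fst)) (F.map π ≫ P.obj.iso.hom) :=
      inferInstance
    simpa only [Category.comp_id] using this
  haveI := hm
  obtain ⟨θ₀, hθ₀, eθ₀⟩ := exists_factor_iso h𝒮 f (F.map π ≫ P.obj.iso.hom) (G.map α)
  have ha₀ : 𝒜.p.obj a₀ = V := IsHomLift.domain_eq 𝒜.p f π
  haveI := hθ₀
  have hθ₀' : 𝒮.p.IsHomLift (𝟙 (𝒜.p.obj a₀)) θ₀.hom := isHomLift_id_of_eq 𝒮.p ha₀.symm θ₀.hom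
  have w1 : F.map π ≫ P.obj.iso.hom = θ₀.hom ≫ G.map α := eθ₀.symm
  have w2 : F.map (π ≫ b) ≫ P'.obj.iso.hom = θ₀.hom ≫ G.map β := by
    rw [← e, ← Category.assoc θ₀.hom, eθ₀, Functor.map_comp]
    simp only [Category.assoc, Iso.hom_inv_id_assoc]
  refine ⟨fpObj F G a₀ b₀ θ₀ hθ₀', fpHom F G (P := fpObj F G a₀ b₀ θ₀ hθ₀') (Q := P) π α w1,
    fpHom F G (P := fpObj F G a₀ b₀ θ₀ hθ₀') (Q := P') (π ≫ b) β w2, ?_, ?_, ?_⟩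
  · exact (fp_isHomLift_iff F G _ f).2 hπ.toIsHomLift
  · refine (fp_isHomLift_iff F G _ f).2 ?_
    show 𝒜.p.IsHomLift f (π ≫ b)
    have : 𝒜.p.IsHomLift (f ≫ 𝟙 (𝒜.p.obj P.obj.fst)) (π ≫ b) := inferInstance
    simpa only [Category.comp_id] using this
  · rfl

theorem isGerbeOver_fpFst (h𝒜 : FibCat.IsFibGrpd 𝒜.p) (hℬ : FibCat.IsFibGrpd ℬ.p)
    (h𝒮 : FibCat.IsFibGrpd 𝒮.p) (hG : Gerb.IsGerbeOver J G) :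
    Gerb.IsGerbeOver J (FibCat.fpFst F G) :=
  ⟨locSurjObj_fpFst J F G h𝒜 hℬ h𝒮 hG.1, locSurjHom_fpFst J F G h𝒜 hℬ h𝒮 hG.2⟩

theorem isGerbeOver_of_fpFst (h𝒜 : FibCat.IsFibGrpd 𝒜.p) (hℬ : FibCat.IsFibGrpd ℬ.p)
    (h𝒮 : FibCat.IsFibGrpd 𝒮.p) (hF : Gerb.LocSurjObj J F)
    (h : Gerb.IsGerbeOver J (FibCat.fpFst F G)) : Gerb.IsGerbeOver J G := by
  have hfp : FibCat.IsFibGrpd (FibCat.fp F G).p := isFibGrpd_fp F G h𝒜 hℬ h𝒮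
  constructor
  · rw [locSurjObj_iff J G hℬ]
    intro s U hU
    have hF' := (locSurjObj_iff J F h𝒜).1 hF s U hU
    refine J.transitive hF' _ ?_
    rintro V f₁ ⟨a, m, hm⟩
    haveI := hm
    have ha : 𝒜.p.obj a = V := (F.w_obj a).symm.trans (IsHomLift.domain_eq 𝒮.p f₁ m)
    have h1 := (locSurjObj_iff J (FibCat.fpFst F G) hfp).1 h.1 a V ha
    refine J.superset_covering ?_ h1
    rintro W f₂ ⟨P, n, hn⟩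
    change P.obj.fst ⟶ a at n
    change 𝒜.p.IsHomLift f₂ n at hn
    haveI := hn
    have hP : 𝒮.p.IsHomLift (𝟙 (𝒜.p.obj P.obj.fst)) P.obj.iso.hom := P.property
    have hPW : 𝒜.p.obj P.obj.fst = W := IsHomLift.domain_eq 𝒜.p f₂ n
    haveI : 𝒮.p.IsHomLift (𝟙 W) P.obj.iso.hom := by
      haveI := hP; exact isHomLift_id_of_eq 𝒮.p hPW _
    show ∃ (b : ℬ.obj) (g : G.obj b ⟶ s), 𝒮.p.IsHomLift (f₂ ≫ f₁) g
    refine ⟨P.obj.snd, P.obj.iso.inv ≫ F.map n ≫ m, ?_⟩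
    have : 𝒮.p.IsHomLift (𝟙 W ≫ f₂ ≫ f₁) (P.obj.iso.inv ≫ F.map n ≫ m) := inferInstance
    simpa only [Category.id_comp] using this
  · refine locSurjHom_of_homSieve J G hℬ ?_
    intro b₁ b₂ c hc
    haveI := hc
    have hF' := (locSurjObj_iff J F h𝒜).1 hF (G.obj b₁) (ℬ.p.obj b₁) (G.w_obj b₁)
    have hb₂ : ℬ.p.obj b₂ = ℬ.p.obj b₁ :=
      (G.w_obj b₂).symm.trans (IsHomLift.codomain_eq 𝒮.p (𝟙 _) c)
    refine J.transitive hF' _ ?_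
    rintro V f₁ ⟨a, m, hm⟩
    haveI := hm
    have ha : 𝒜.p.obj a = V := (F.w_obj a).symm.trans (IsHomLift.domain_eq 𝒮.p f₁ m)
    obtain ⟨b₁', π₁, hπ₁⟩ := IsFibGrpd.exists_lift' hℬ (rfl : ℬ.p.obj b₁ = _) f₁
    obtain ⟨b₂', π₂, hπ₂⟩ := IsFibGrpd.exists_lift' hℬ hb₂ f₁
    haveI := hπ₁
    haveI := hπ₂
    obtain ⟨θ₁, hθ₁, eθ₁⟩ := exists_factor_iso h𝒮 f₁ m (G.map π₁)
    have hmc : 𝒮.p.IsHomLift f₁ (m ≫ c) := by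
      have : 𝒮.p.IsHomLift (f₁ ≫ 𝟙 (ℬ.p.obj b₁)) (m ≫ c) := inferInstance
      simpa only [Category.comp_id] using this
    haveI := hmc
    obtain ⟨θ₂, hθ₂, eθ₂⟩ := exists_factor_iso h𝒮 f₁ (m ≫ c) (G.map π₂)
    haveI := hθ₁
    haveI := hθ₂
    have hθ₁' : 𝒮.p.IsHomLift (𝟙 (𝒜.p.obj a)) θ₁.hom := isHomLift_id_of_eq 𝒮.p ha.symm _
    have hθ₂' : 𝒮.p.IsHomLift (𝟙 (𝒜.p.obj a)) θ₂.hom := isHomLift_id_of_eq 𝒮.p ha.symm _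
    have hid : 𝒜.p.IsHomLift (𝟙 V) (𝟙 a) := IsHomLift.id ha
    have h2 := (locSurjHom_iff J (FibCat.fpFst F G) hfp h𝒜).1 h.2
      (fpObj F G a b₁' θ₁ hθ₁') (fpObj F G a b₂' θ₂ hθ₂') (𝟙 a) (𝟙 V) hid
    refine J.superset_covering ?_ h2
    rintro W f₂ ⟨P₀, φ, ψ, hφ, hψ, e⟩
    rw [Category.comp_id] at hψ
    haveI := hφ
    haveI := hψ
    obtain ⟨φ₁, hφ₁⟩ : ∃ φ₁ : P₀.obj.fst ⟶ a, φ₁ = φ.hom.fst := ⟨_, rfl⟩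
    obtain ⟨ψ₁, hψ₁⟩ : ∃ ψ₁ : P₀.obj.fst ⟶ a, ψ₁ = ψ.hom.fst := ⟨_, rfl⟩
    obtain ⟨φ₂, hφ₂⟩ : ∃ φ₂ : P₀.obj.snd ⟶ b₁', φ₂ = φ.hom.snd := ⟨_, rfl⟩
    obtain ⟨ψ₂, hψ₂⟩ : ∃ ψ₂ : P₀.obj.snd ⟶ b₂', ψ₂ = ψ.hom.snd := ⟨_, rfl⟩
    have l1 : ℬ.p.IsHomLift f₂ φ₂ := by rw [hφ₂]; exact fp_isHomLift_snd' F G φ f₂
    have l2 : ℬ.p.IsHomLift f₂ ψ₂ := by rw [hψ₂]; exact fp_isHomLift_snd' F G ψ f₂
    haveI := l1
    haveI := l2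
    have w1 : F.map φ₁ ≫ θ₁.hom = P₀.obj.iso.hom ≫ G.map φ₂ := by
      rw [hφ₁, hφ₂]; exact φ.hom.w
    have w2 : F.map ψ₁ ≫ θ₂.hom = P₀.obj.iso.hom ≫ G.map ψ₂ := by
      rw [hψ₁, hψ₂]; exact ψ.hom.w
    have e' : φ₁ = ψ₁ := by
      rw [hφ₁, hψ₁]; exact (Category.comp_id _).symm.trans e
    show ∃ (x₀ : ℬ.obj) (φ₀ : x₀ ⟶ b₁) (ψ₀ : x₀ ⟶ b₂), ℬ.p.IsHomLift (f₂ ≫ f₁) φ₀ ∧
      ℬ.p.IsHomLift ((f₂ ≫ f₁) ≫ 𝟙 (ℬ.p.obj b₁)) ψ₀ ∧ G.map φ₀ ≫ c = G.map ψ₀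
    refine ⟨P₀.obj.snd, φ₂ ≫ π₁, ψ₂ ≫ π₂, inferInstance, ?_, ?_⟩
    · rw [Category.comp_id]; infer_instance
    · rw [← cancel_epi P₀.obj.iso.hom]
      calc P₀.obj.iso.hom ≫ G.map (φ₂ ≫ π₁) ≫ c
          = (P₀.obj.iso.hom ≫ G.map φ₂) ≫ G.map π₁ ≫ c := by
            rw [Functor.map_comp]; simp only [Category.assoc]
        _ = F.map φ₁ ≫ m ≫ c := by
            rw [← w1, Category.assoc, ← Category.assoc θ₁.hom, eθ₁]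
        _ = F.map ψ₁ ≫ m ≫ c := by rw [e']
        _ = (P₀.obj.iso.hom ≫ G.map ψ₂) ≫ G.map π₂ := by
            rw [← w2, Category.assoc, eθ₂]
        _ = P₀.obj.iso.hom ≫ G.map (ψ₂ ≫ π₂) := by
            rw [Functor.map_comp]; simp only [Category.assoc]

end FP

section Self

variable {C : Type u} [Category.{v} C] (J : GrothendieckTopology C)
  {𝒮₁ : BasedCategory.{v₂, u₂} C} {𝒮₂ : BasedCategory.{v₃, u₃} C}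

/-- The structure functor of `𝒮₁` is 2-isomorphic to `F` followed by that of `𝒮₂`. -/
def toSelfIso (F : 𝒮₁ ⥤ᵇ 𝒮₂) :
    BasedFunctor.comp F (FibCat.toSelf 𝒮₂) ≅ FibCat.toSelf 𝒮₁ :=
  BasedNatIso.mkNatIso
    (NatIso.ofComponents (fun x => eqToIso (F.w_obj x)) (fun {x y} φ => by
      have h := Functor.congr_hom F.w φ
      simp only [Functor.comp_map] at h
      show 𝒮₂.p.map (F.map φ) ≫ eqToHom (F.w_obj y) = eqToHom (F.w_obj x) ≫ 𝒮₁.p.map φ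
      rw [h]; simp))
    (fun x => by
      show (𝟭 C).IsHomLift (𝟙 (𝒮₁.p.obj x)) (eqToHom (F.w_obj x))
      exact IsHomLift.eqToHom_codomain_lift_id (F.w_obj x) rfl)

theorem isGerbe_iff_of_isEquivOver (F : 𝒮₁ ⥤ᵇ 𝒮₂) (hF : FibCat.IsEquivOver F) :
    Gerb.IsGerbe J 𝒮₁ ↔ Gerb.IsGerbe J 𝒮₂ := by
  have hst := isStack_iff_of_isEquivOver J F hF
  have hself := isFibGrpd_selfOver C
  constructor
  · rintro ⟨h1, h2⟩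
    have h1' := hst.1 h1
    refine ⟨h1', ?_⟩
    have h3 : Gerb.IsGerbeOver J (BasedFunctor.comp F (FibCat.toSelf 𝒮₂)) :=
      isGerbeOver_of_iso J (toSelfIso F).symm h2
    exact isGerbeOver_of_equiv_comp J F hF (FibCat.toSelf 𝒮₂) h1.1 h1'.1 hself h3
  · rintro ⟨h1, h2⟩
    have h1' := hst.2 h1
    refine ⟨h1', ?_⟩
    have h3 := isGerbeOver_equiv_comp J F hF (FibCat.toSelf 𝒮₂) h1'.1 h1.1 hself h2
    exact isGerbeOver_of_iso J (toSelfIso F) h3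

end Self

end Groth.Agent.Lib.Helper10.Gerbe
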