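import Mathlib
import Groth.Prelude.Def_AlgSt
import Groth.Agent.Lib.Helper10.Fib5
import Groth.Agent.Lib.Helper10.Gerbe

/-!
# Morphisms of a (pre)stack glue: elementary forms

For a category `𝒳` fibred in groupoids over `C` and a sieve `R` on `U` such that the restriction
functor `Stk.resSieve R 𝒳` is faithful (resp. full):

* `sep`: two morphisms `x ⟶ x'` over `𝟙 U` which agree after composition with every morphism
  `x₀ ⟶ x` lying over an arrow of `R` are equal.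
* `glue`: a compatible family of morphisms `x₀ ⟶ x'`, one for each `x₀ ⟶ x` lying over an arrow
  of `R` (given as the unique solutions of a relation `P` stable under precomposition), comes
  from a morphism `x ⟶ x'` over `𝟙 U`.
-/

set_option autoImplicit false
set_option linter.style.haveILetI false
set_option backward.isDefEq.respectTransparency false
set_option backward.isDefEq.respectTransparency.types false

universe v₂ u₂ v u

open CategoryTheory Functor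

namespace Groth.Agent.Lib.Helper10.HomSheaf

open Groth.Agent.Lib.Helper10.Fib Groth.Agent.Lib.Helper10.Gerbe

variable {C : Type u} [Category.{v} C] {𝒳 : BasedCategory.{v₂, u₂} C} {U : C} (R : Sieve U)

lemma natTrans_ext_of_faithful (hR : (Stk.resSieve R 𝒳).Faithful)
    {G H : FibCat.overCat U ⥤ᵇ 𝒳} (α₁ α₂ : G ⟶ H)
    (h : ∀ A : Over U, R A.hom → α₁.toNatTrans.app A = α₂.toNatTrans.app A) : α₁ = α₂ := by
  haveI := hR
  apply (Stk.resSieve R 𝒳).map_injective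
  apply BasedNatTrans.ext
  apply NatTrans.ext
  funext a
  exact h a.obj a.property

lemma exists_rep (h𝒳 : FibCat.IsFibGrpd 𝒳.p) {x : 𝒳.obj} (hx : 𝒳.p.obj x = U) :
    ∃ (G : FibCat.overCat U ⥤ᵇ 𝒳) (j : G.obj (Over.mk (𝟙 U)) ≅ x),
      𝒳.p.IsHomLift (𝟙 U) j.hom := by
  obtain ⟨G, -, ⟨i⟩⟩ := yoneda_essSurj U (Functor.Fiber.mk hx)
    (fun V f => IsFibGrpd.exists_lift' h𝒳 hx f)
  exact ⟨G, (Functor.Fiber.fiberInclusion (p := 𝒳.p) (S := U)).mapIso i, i.hom.2⟩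

lemma isHomLift_chi (G : FibCat.overCat U ⥤ᵇ 𝒳) {x : 𝒳.obj} (j : G.obj (Over.mk (𝟙 U)) ⟶ x)
    [𝒳.p.IsHomLift (𝟙 U) j] (A : Over U) :
    𝒳.p.IsHomLift A.hom (G.map (toTerminal U A) ≫ j) := by
  have := isHomLift_toTerminal U G A
  exact IsHomLift.comp_lift_id_right 𝒳.p (homU U A) (G.map (toTerminal U A)) j

theorem sep (h𝒳 : FibCat.IsFibGrpd 𝒳.p) (hR : (Stk.resSieve R 𝒳).Faithful) {x x' : 𝒳.obj}
    (hx : 𝒳.p.obj x = U) (n₁ n₂ : x ⟶ x') (hn₁ : 𝒳.p.IsHomLift (𝟙 U) n₁)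
    (hn₂ : 𝒳.p.IsHomLift (𝟙 U) n₂)
    (H : ∀ ⦃V : C⦄ (f : V ⟶ U), R f → ∀ (x₀ : 𝒳.obj) (χ : x₀ ⟶ x), 𝒳.p.IsHomLift f χ →
      χ ≫ n₁ = χ ≫ n₂) : n₁ = n₂ := by
  have hx' : 𝒳.p.obj x' = U := IsHomLift.codomain_eq 𝒳.p (𝟙 U) n₁
  obtain ⟨G, j, hj⟩ := exists_rep h𝒳 hx
  obtain ⟨H', j', hj'⟩ := exists_rep h𝒳 hx'
  haveI := hj
  haveI := hj'
  haveI := hn₁
  haveI := hn₂
  have hsc : ∀ A : Over U, 𝒳.p.IsStronglyCartesian (homU U A) (H'.map (toTerminal U A)) :=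
    fun A => by
      haveI := isHomLift_toTerminal U H' A
      exact IsFibGrpd.sc h𝒳 _ _
  obtain ⟨α₁, hα₁, -⟩ :=
    yoneda_existsUnique U G H' hsc (j.hom ≫ n₁ ≫ j'.inv) inferInstance
  obtain ⟨α₂, hα₂, -⟩ :=
    yoneda_existsUnique U G H' hsc (j.hom ≫ n₂ ≫ j'.inv) inferInstance
  have key : α₁ = α₂ := by
    apply natTrans_ext_of_faithful R hR
    intro A hA
    have nat₁ := α₁.toNatTrans.naturality (toTerminal U A)
    have nat₂ := α₂.toNatTrans.naturality (toTerminal U A)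
    rw [hα₁] at nat₁
    rw [hα₂] at nat₂
    have e := H A.hom hA _ (G.map (toTerminal U A) ≫ j.hom) (isHomLift_chi G j.hom A)
    have e2 : α₁.toNatTrans.app A ≫ H'.map (toTerminal U A) =
        α₂.toNatTrans.app A ≫ H'.map (toTerminal U A) := by
      calc α₁.toNatTrans.app A ≫ H'.map (toTerminal U A)
          = ((G.map (toTerminal U A) ≫ j.hom) ≫ n₁) ≫ j'.inv := by
            rw [← nat₁]; simp only [Category.assoc]
        _ = ((G.map (toTerminal U A) ≫ j.hom) ≫ n₂) ≫ j'.inv := by rw [e]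
        _ = α₂.toNatTrans.app A ≫ H'.map (toTerminal U A) := by
            rw [← nat₂]; simp only [Category.assoc]
    haveI := hsc A
    have h1 : 𝒳.p.IsHomLift (𝟙 A.left) (α₁.toNatTrans.app A) := α₁.isHomLift' A
    have h2 : 𝒳.p.IsHomLift (𝟙 A.left) (α₂.toNatTrans.app A) := α₂.isHomLift' A
    exact IsStronglyCartesian.ext 𝒳.p (homU U A) (H'.map (toTerminal U A)) (𝟙 A.left) e2
  have e3 : j.hom ≫ n₁ ≫ j'.inv = j.hom ≫ n₂ ≫ j'.inv :=
    hα₁.symm.trans ((congrArg (fun α => α.toNatTrans.app (Over.mk (𝟙 U))) key).trans hα₂)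
  have e4 : n₁ ≫ j'.inv = n₂ ≫ j'.inv := (cancel_epi j.hom).1 e3
  exact (cancel_mono j'.inv).1 e4

theorem glue (h𝒳 : FibCat.IsFibGrpd 𝒳.p) (hR : (Stk.resSieve R 𝒳).Full) {x x' : 𝒳.obj}
    (hx : 𝒳.p.obj x = U) (hx' : 𝒳.p.obj x' = U)
    (P : ∀ ⦃x₀ : 𝒳.obj⦄, (x₀ ⟶ x) → (x₀ ⟶ x') → Prop)
    (hex : ∀ ⦃V : C⦄ (f : V ⟶ U), R f → ∀ (x₀ : 𝒳.obj) (χ : x₀ ⟶ x), 𝒳.p.IsHomLift f χ →
      ∃ μ : x₀ ⟶ x', 𝒳.p.IsHomLift f μ ∧ P χ μ)
    (huniq : ∀ ⦃V : C⦄ (f : V ⟶ U), R f → ∀ (x₀ : 𝒳.obj) (χ : x₀ ⟶ x) (μ μ' : x₀ ⟶ x'),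
      𝒳.p.IsHomLift f χ → 𝒳.p.IsHomLift f μ → 𝒳.p.IsHomLift f μ' → P χ μ → P χ μ' → μ = μ')
    (hcomp : ∀ ⦃x₀ x₁ : 𝒳.obj⦄ (χ : x₀ ⟶ x) (μ : x₀ ⟶ x') (κ : x₁ ⟶ x₀),
      P χ μ → P (κ ≫ χ) (κ ≫ μ)) :
    ∃ n : x ⟶ x', 𝒳.p.IsHomLift (𝟙 U) n ∧
      ∀ ⦃V : C⦄ (f : V ⟶ U), R f → ∀ (x₀ : 𝒳.obj) (χ : x₀ ⟶ x), 𝒳.p.IsHomLift f χ →
        P χ (χ ≫ n) := by
  obtain ⟨G, j, hj⟩ := exists_rep h𝒳 hx
  obtain ⟨H', j', hj'⟩ := exists_rep h𝒳 hx'
  haveI := hj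
  haveI := hj'
  have hχ : ∀ A : Over U, 𝒳.p.IsHomLift A.hom (G.map (toTerminal U A) ≫ j.hom) :=
    isHomLift_chi G j.hom
  have hπ : ∀ A : Over U, 𝒳.p.IsHomLift A.hom (H'.map (toTerminal U A) ≫ j'.hom) :=
    isHomLift_chi H' j'.hom
  choose μ hμ1 hμ2 using fun (A : Over U) (hA : R A.hom) =>
    hex A.hom hA (G.obj A) (G.map (toTerminal U A) ≫ j.hom) (hχ A)
  have hβ : ∀ (A : Over U) (hA : R A.hom), ∃ β : G.obj A ⟶ H'.obj A,
      𝒳.p.IsHomLift (𝟙 A.left) β ∧ β ≫ (H'.map (toTerminal U A) ≫ j'.hom) = μ A hA :=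
    fun A hA => by
      haveI := hμ1 A hA
      haveI := hπ A
      exact exists_factor h𝒳 A.hom (μ A hA) (H'.map (toTerminal U A) ≫ j'.hom)
  choose β hβ1 hβ2 using hβ
  have nat : ∀ {A B : Over U} (hA : R A.hom) (hB : R B.hom) (k : A ⟶ B),
      G.map k ≫ β B hB = β A hA ≫ H'.map k := by
    intro A B hA hB k
    haveI := hπ B
    haveI hscb : 𝒳.p.IsStronglyCartesian B.hom (H'.map (toTerminal U B) ≫ j'.hom) :=
      IsFibGrpd.sc h𝒳 _ _
    haveI hk1 : 𝒳.p.IsHomLift k.left (G.map k) := isHomLift_map_over U G k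
    haveI hk2 : 𝒳.p.IsHomLift k.left (H'.map k) := isHomLift_map_over U H' k
    haveI := hβ1 A hA
    haveI := hβ1 B hB
    have hw : k.left ≫ B.hom = A.hom := Over.w k
    haveI hμa : 𝒳.p.IsHomLift A.hom (μ A hA) := hμ1 A hA
    haveI hμb : 𝒳.p.IsHomLift B.hom (μ B hB) := hμ1 B hB
    have e1 : (G.map k ≫ β B hB) ≫ (H'.map (toTerminal U B) ≫ j'.hom) = μ A hA := by
      rw [Category.assoc, hβ2 B hB]
      have hP : P (G.map k ≫ G.map (toTerminal U B) ≫ j.hom) (G.map k ≫ μ B hB) :=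
        hcomp _ _ _ (hμ2 B hB)
      have e0 : G.map k ≫ G.map (toTerminal U B) ≫ j.hom =
          G.map (toTerminal U A) ≫ j.hom := by
        rw [← Category.assoc, map_toTerminal_comp U G k]
      rw [e0] at hP
      have hl : 𝒳.p.IsHomLift A.hom (G.map k ≫ μ B hB) := by
        have : 𝒳.p.IsHomLift (k.left ≫ B.hom) (G.map k ≫ μ B hB) := inferInstance
        rwa [hw] at this
      exact huniq A.hom hA _ _ _ _ (hχ A) hl hμa hP (hμ2 A hA)
    have e2 : (β A hA ≫ H'.map k) ≫ (H'.map (toTerminal U B) ≫ j'.hom) = μ A hA := by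
      rw [Category.assoc, ← Category.assoc (H'.map k), map_toTerminal_comp U H' k]
      exact hβ2 A hA
    have l1 : 𝒳.p.IsHomLift k.left (G.map k ≫ β B hB) := inferInstance
    have l2 : 𝒳.p.IsHomLift k.left (β A hA ≫ H'.map k) := inferInstance
    exact IsStronglyCartesian.ext 𝒳.p B.hom (H'.map (toTerminal U B) ≫ j'.hom) k.left
      (e1.trans e2.symm)
  let βnt : (Stk.resSieve R 𝒳).obj G ⟶ (Stk.resSieve R 𝒳).obj H' :=
    { toNatTrans :=
        { app := fun a => β a.obj a.property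
          naturality := fun {a b} k => nat a.property b.property k.hom }
      isHomLift' := fun a => hβ1 a.obj a.property }
  haveI := hR
  obtain ⟨α, hα⟩ := (Stk.resSieve R 𝒳).map_surjective βnt
  have hαβ : ∀ (A : Over U) (hA : R A.hom), α.toNatTrans.app A = β A hA := fun A hA =>
    congrArg (fun γ => γ.toNatTrans.app ⟨A, hA⟩) hα
  refine ⟨j.inv ≫ α.toNatTrans.app (Over.mk (𝟙 U)) ≫ j'.hom, ?_, ?_⟩
  · haveI : 𝒳.p.IsHomLift (𝟙 U) (α.toNatTrans.app (Over.mk (𝟙 U))) :=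
      α.isHomLift' (Over.mk (𝟙 U))
    infer_instance
  · intro V f hf x₀ χ hχ₀
    haveI := hχ₀
    haveI : 𝒳.p.IsHomLift f (G.map (toTerminal U (Over.mk f)) ≫ j.hom) := hχ (Over.mk f)
    obtain ⟨θ, hθ1, hθ2⟩ :=
      exists_factor h𝒳 f χ (G.map (toTerminal U (Over.mk f)) ≫ j.hom)
    have natα := α.toNatTrans.naturality (toTerminal U (Over.mk f))
    have e : χ ≫ j.inv ≫ α.toNatTrans.app (Over.mk (𝟙 U)) ≫ j'.hom =
        θ ≫ μ (Over.mk f) hf := by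
      calc χ ≫ j.inv ≫ α.toNatTrans.app (Over.mk (𝟙 U)) ≫ j'.hom
          = θ ≫ (G.map (toTerminal U (Over.mk f)) ≫ α.toNatTrans.app (Over.mk (𝟙 U))) ≫
              j'.hom := by
            rw [← hθ2]; simp only [Category.assoc, Iso.hom_inv_id_assoc]
        _ = θ ≫ (α.toNatTrans.app (Over.mk f) ≫ H'.map (toTerminal U (Over.mk f))) ≫
              j'.hom := by rw [natα]
        _ = θ ≫ μ (Over.mk f) hf := by
            rw [← hβ2 (Over.mk f) hf, ← hαβ (Over.mk f) hf]; simp only [Category.assoc]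
    rw [e, ← hθ2]
    exact hcomp _ _ θ (hμ2 (Over.mk f) hf)

section Stack

variable (J : GrothendieckTopology C)

lemma faithful_of_isStack (h : Stk.IsStack J 𝒳) (hR : R ∈ J U) :
    (Stk.resSieve R 𝒳).Faithful := by
  haveI : (Stk.resSieve R 𝒳).IsEquivalence := h.2 R hR
  infer_instance

lemma full_of_isStack (h : Stk.IsStack J 𝒳) (hR : R ∈ J U) :
    (Stk.resSieve R 𝒳).Full := by
  haveI : (Stk.resSieve R 𝒳).IsEquivalence := h.2 R hR
  infer_instance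

end Stack

end Groth.Agent.Lib.Helper10.HomSheaf
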