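import Mathlib
import Groth.Prelude.Def_AlgSt
import Groth.Agent.Lib.Helper10.HomSheaf

/-!
# Refinement of sieves and the gluing condition

For sieves `S ≤ R` on `U` and `𝒳` fibred in groupoids: if `𝒳` glues along `S` and morphisms of
`𝒳` glue uniquely along every pulled back sieve `f^*S` (`f ∈ R`), then `𝒳` glues along `R`.

* `sieveLE hSR : sieveCat S ⥤ᵇ sieveCat R`, the inclusion.
* `restr_faithful`, `restr_full`, `restr_essSurj`: restriction along `sieveLE hSR`.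
* `isStackFor_of_le`.
-/

set_option autoImplicit false
set_option linter.style.haveILetI false
set_option backward.isDefEq.respectTransparency false
set_option backward.isDefEq.respectTransparency.types false

universe v₂ u₂ v u

open CategoryTheory Functor

namespace Groth.Agent.Lib.Helper10.StkRefine

open Groth.Agent.Lib.Helper10.Fib Groth.Agent.Lib.Helper10.Gerbe
  Groth.Agent.Lib.Helper10.HomSheaf

variable {C : Type u} [Category.{v} C] {𝒳 : BasedCategory.{v₂, u₂} C} {U : C} {S R : Sieve U}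

/-- The inclusion of sieve categories for `S ≤ R`. -/
def sieveLE (hSR : S ≤ R) : Stk.sieveCat S ⥤ᵇ Stk.sieveCat R where
  toFunctor := ObjectProperty.ιOfLE (fun A hA => hSR _ hA)
  w := rfl

lemma isHomLift_map_sieve (G : Stk.sieveCat R ⥤ᵇ 𝒳) {a b : (Stk.sieveCat R).obj} (k : a ⟶ b) :
    𝒳.p.IsHomLift k.hom.left (G.map k) := by
  have : (Stk.sieveCat R).p.IsHomLift k.hom.left k := IsHomLift.map (Stk.sieveCat R).p k
  exact BasedFunctor.preserves_isHomLift G k.hom.left k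

/-- The object `f ≫ a` of `S` for `f ∈ a^*S`. -/
def pbS (a : (Stk.sieveCat R).obj) {V : C} (f : V ⟶ a.obj.left) (hf : S (f ≫ a.obj.hom)) :
    (Stk.sieveCat S).obj :=
  ⟨Over.mk (f ≫ a.obj.hom), hf⟩

/-- The morphism `f ≫ a ⟶ a` given by `f`. -/
def pbHom (hSR : S ≤ R) (a : (Stk.sieveCat R).obj) {V : C} (f : V ⟶ a.obj.left)
    (hf : S (f ≫ a.obj.hom)) : (sieveLE hSR).obj (pbS a f hf) ⟶ a :=
  ObjectProperty.homMk (Over.homMk f rfl)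

section

variable {G G' : Stk.sieveCat R ⥤ᵇ 𝒳} {hSR : S ≤ R}
  (δ : BasedFunctor.comp (sieveLE hSR) G ⟶ BasedFunctor.comp (sieveLE hSR) G')

/-- Components of a 2-morphism between restrictions. -/
def dApp (b : (Stk.sieveCat S).obj) :
    G.obj ((sieveLE hSR).obj b) ⟶ G'.obj ((sieveLE hSR).obj b) :=
  δ.toNatTrans.app b

lemma dApp_nat {b₀ b : (Stk.sieveCat S).obj} (m : b₀ ⟶ b) :
    G.map ((sieveLE hSR).map m) ≫ dApp δ b = dApp δ b₀ ≫ G'.map ((sieveLE hSR).map m) :=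
  δ.toNatTrans.naturality m

lemma dApp_lift (b : (Stk.sieveCat S).obj) : 𝒳.p.IsHomLift (𝟙 b.obj.left) (dApp δ b) :=
  δ.isHomLift' b

variable (hSR) in
/-- The relation used for gluing: `μ` is obtained from `χ` by applying `δ` after factoring `χ`
through an object of `S`. -/
abbrev P (a : (Stk.sieveCat R).obj) ⦃x₀ : 𝒳.obj⦄ (χ : x₀ ⟶ G.obj a) (μ : x₀ ⟶ G'.obj a) : Prop :=
  ∃ (b : (Stk.sieveCat S).obj) (k : (sieveLE hSR).obj b ⟶ a)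
    (θ : x₀ ⟶ G.obj ((sieveLE hSR).obj b)), χ = θ ≫ G.map k ∧ μ = θ ≫ dApp δ b ≫ G'.map k

lemma P_pre (a : (Stk.sieveCat R).obj) {x₀ x₁ : 𝒳.obj} (χ : x₀ ⟶ G.obj a) (μ : x₀ ⟶ G'.obj a)
    (κ : x₁ ⟶ x₀) (h : P hSR δ a χ μ) : P hSR δ a (κ ≫ χ) (κ ≫ μ) := by
  obtain ⟨b, k, θ, rfl, rfl⟩ := h
  exact ⟨b, k, κ ≫ θ, (Category.assoc _ _ _).symm, (Category.assoc _ _ _).symm⟩

lemma P_post {a a' : (Stk.sieveCat R).obj} (k' : a ⟶ a') {x₀ : 𝒳.obj} (χ : x₀ ⟶ G.obj a)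
    (μ : x₀ ⟶ G'.obj a) (h : P hSR δ a χ μ) : P hSR δ a' (χ ≫ G.map k') (μ ≫ G'.map k') := by
  obtain ⟨b, k, θ, rfl, rfl⟩ := h
  refine ⟨b, k ≫ k', θ, ?_, ?_⟩
  · rw [Category.assoc]
    exact congrArg (fun t => θ ≫ t) (G.toFunctor.map_comp k k').symm
  · rw [Category.assoc, Category.assoc]
    exact congrArg (fun t => θ ≫ dApp δ b ≫ t) (G'.toFunctor.map_comp k k').symm

lemma P_canon (h𝒳 : FibCat.IsFibGrpd 𝒳.p) (a : (Stk.sieveCat R).obj) {V : C}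
    (f : V ⟶ a.obj.left) (hf : S (f ≫ a.obj.hom)) {x₀ : 𝒳.obj} (χ : x₀ ⟶ G.obj a)
    (hχ : 𝒳.p.IsHomLift f χ) (θ₀ : x₀ ⟶ G.obj ((sieveLE hSR).obj (pbS a f hf)))
    (hθ₀1 : 𝒳.p.IsHomLift (𝟙 V) θ₀) (hθ₀ : θ₀ ≫ G.map (pbHom hSR a f hf) = χ)
    (b : (Stk.sieveCat S).obj) (k : (sieveLE hSR).obj b ⟶ a)
    (θ : x₀ ⟶ G.obj ((sieveLE hSR).obj b)) (e : χ = θ ≫ G.map k) :
    θ ≫ dApp δ b ≫ G'.map k =
      θ₀ ≫ dApp δ (pbS a f hf) ≫ G'.map (pbHom hSR a f hf) := by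
  haveI := hχ
  haveI := hθ₀1
  have hV : 𝒳.p.obj x₀ = V := IsHomLift.domain_eq 𝒳.p f χ
  have hb : 𝒳.p.obj (G.obj ((sieveLE hSR).obj b)) = b.obj.left := G.w_obj ((sieveLE hSR).obj b)
  obtain ⟨g, hg⟩ : ∃ g : V ⟶ b.obj.left, 𝒳.p.IsHomLift g θ :=
    ⟨eqToHom hV.symm ≫ 𝒳.p.map θ ≫ eqToHom hb, IsHomLift.of_fac 𝒳.p _ θ hV hb rfl⟩
  haveI := hg
  have hk : 𝒳.p.IsHomLift k.hom.left (G.map k) := isHomLift_map_sieve G k
  have hfg : f = g ≫ k.hom.left := by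
    haveI : 𝒳.p.IsHomLift (g ≫ k.hom.left) (θ ≫ G.map k) :=
      IsHomLift.comp 𝒳.p g k.hom.left θ (G.map k)
    haveI : 𝒳.p.IsHomLift (g ≫ k.hom.left) χ := by rw [e]; infer_instance
    exact isHomLift_unique 𝒳.p f (g ≫ k.hom.left) χ
  have hw : g ≫ b.obj.hom = f ≫ a.obj.hom := by
    have h1 : k.hom.left ≫ a.obj.hom = b.obj.hom := Over.w k.hom
    rw [hfg, Category.assoc, h1]
  let m : pbS a f hf ⟶ b := ObjectProperty.homMk (Over.homMk g hw)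
  have hmk : (sieveLE hSR).map m ≫ k = pbHom hSR a f hf := by
    apply ObjectProperty.hom_ext
    apply Over.OverMorphism.ext
    exact hfg.symm
  have hmg : 𝒳.p.IsHomLift g (G.map ((sieveLE hSR).map m)) :=
    isHomLift_map_sieve G ((sieveLE hSR).map m)
  have h3 : G.map ((sieveLE hSR).map m) ≫ G.map k = G.map (pbHom hSR a f hf) := by
    rw [← hmk]; exact (G.toFunctor.map_comp _ _).symm
  have h4 : G'.map ((sieveLE hSR).map m) ≫ G'.map k = G'.map (pbHom hSR a f hf) := by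
    rw [← hmk]; exact (G'.toFunctor.map_comp _ _).symm
  have hθ : θ = θ₀ ≫ G.map ((sieveLE hSR).map m) := by
    haveI : 𝒳.p.IsStronglyCartesian k.hom.left (G.map k) := IsFibGrpd.sc h𝒳 _ _
    have l1 : 𝒳.p.IsHomLift g (θ₀ ≫ G.map ((sieveLE hSR).map m)) :=
      IsHomLift.comp_lift_id_left 𝒳.p g (G.map ((sieveLE hSR).map m)) θ₀
    have e2 : θ ≫ G.map k = (θ₀ ≫ G.map ((sieveLE hSR).map m)) ≫ G.map k := by
      rw [Category.assoc, h3, hθ₀, e]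
    exact IsStronglyCartesian.ext 𝒳.p k.hom.left (G.map k) g e2
  have nat := dApp_nat δ m
  calc θ ≫ dApp δ b ≫ G'.map k
      = θ₀ ≫ (G.map ((sieveLE hSR).map m) ≫ dApp δ b) ≫ G'.map k := by
        rw [hθ]; simp only [Category.assoc]
    _ = θ₀ ≫ (dApp δ (pbS a f hf) ≫ G'.map ((sieveLE hSR).map m)) ≫ G'.map k := by rw [nat]
    _ = θ₀ ≫ dApp δ (pbS a f hf) ≫ G'.map (pbHom hSR a f hf) := by
        rw [← h4]; simp only [Category.assoc]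

lemma P_uniq (h𝒳 : FibCat.IsFibGrpd 𝒳.p) (a : (Stk.sieveCat R).obj) {V : C}
    (f : V ⟶ a.obj.left) (hf : S (f ≫ a.obj.hom)) {x₀ : 𝒳.obj} (χ : x₀ ⟶ G.obj a)
    (hχ : 𝒳.p.IsHomLift f χ) (μ μ' : x₀ ⟶ G'.obj a) (h : P hSR δ a χ μ)
    (h' : P hSR δ a χ μ') : μ = μ' := by
  haveI := hχ
  haveI hk : 𝒳.p.IsHomLift f (G.map (pbHom hSR a f hf)) :=
    isHomLift_map_sieve G (pbHom hSR a f hf)
  obtain ⟨θ₀, h1, h2⟩ := exists_factor h𝒳 f χ (G.map (pbHom hSR a f hf))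
  obtain ⟨b₁, k₁, θ₁, e₁, rfl⟩ := h
  obtain ⟨b₂, k₂, θ₂, e₂, rfl⟩ := h'
  exact (P_canon δ h𝒳 a f hf χ hχ θ₀ h1 h2 b₁ k₁ θ₁ e₁).trans
    (P_canon δ h𝒳 a f hf χ hχ θ₀ h1 h2 b₂ k₂ θ₂ e₂).symm

lemma P_exists (h𝒳 : FibCat.IsFibGrpd 𝒳.p) (a : (Stk.sieveCat R).obj) {V : C}
    (f : V ⟶ a.obj.left) (hf : S (f ≫ a.obj.hom)) {x₀ : 𝒳.obj} (χ : x₀ ⟶ G.obj a)
    (hχ : 𝒳.p.IsHomLift f χ) :
    ∃ μ : x₀ ⟶ G'.obj a, 𝒳.p.IsHomLift f μ ∧ P hSR δ a χ μ := by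
  haveI := hχ
  haveI hk : 𝒳.p.IsHomLift f (G.map (pbHom hSR a f hf)) :=
    isHomLift_map_sieve G (pbHom hSR a f hf)
  haveI hk' : 𝒳.p.IsHomLift f (G'.map (pbHom hSR a f hf)) :=
    isHomLift_map_sieve G' (pbHom hSR a f hf)
  obtain ⟨θ₀, h1, h2⟩ := exists_factor h𝒳 f χ (G.map (pbHom hSR a f hf))
  haveI := h1
  haveI hd : 𝒳.p.IsHomLift (𝟙 V) (dApp δ (pbS a f hf)) := dApp_lift δ (pbS a f hf)
  have l1 : 𝒳.p.IsHomLift f (dApp δ (pbS a f hf) ≫ G'.map (pbHom hSR a f hf)) :=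
    IsHomLift.comp_lift_id_left 𝒳.p f (G'.map (pbHom hSR a f hf)) (dApp δ (pbS a f hf))
  have l2 : 𝒳.p.IsHomLift f (θ₀ ≫ dApp δ (pbS a f hf) ≫ G'.map (pbHom hSR a f hf)) :=
    IsHomLift.comp_lift_id_left 𝒳.p f (dApp δ (pbS a f hf) ≫ G'.map (pbHom hSR a f hf)) θ₀
  exact ⟨θ₀ ≫ dApp δ (pbS a f hf) ≫ G'.map (pbHom hSR a f hf), l2,
    pbS a f hf, pbHom hSR a f hf, θ₀, h2.symm, rfl⟩

end

lemma restr_faithful (h𝒳 : FibCat.IsFibGrpd 𝒳.p) (hSR : S ≤ R)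
    (hR : ∀ ⦃V : C⦄ (f : V ⟶ U), R f → Stk.IsPrestackFor (S.pullback f) 𝒳) :
    (Stk.restr (sieveLE hSR) 𝒳).Faithful := by
  refine ⟨fun {G G'} {γ₁ γ₂} h => ?_⟩
  apply BasedNatTrans.ext
  apply NatTrans.ext
  funext a
  refine sep (S.pullback a.obj.hom) h𝒳 (hR a.obj.hom a.property).2 (G.w_obj a) _ _
    (γ₁.isHomLift' a) (γ₂.isHomLift' a) ?_
  intro V f hf x₀ χ hχ
  haveI := hχ
  haveI hk : 𝒳.p.IsHomLift f (G.map (pbHom hSR a f hf)) :=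
    isHomLift_map_sieve G (pbHom hSR a f hf)
  obtain ⟨θ, hθ1, hθ2⟩ := exists_factor h𝒳 f χ (G.map (pbHom hSR a f hf))
  have e : γ₁.toNatTrans.app ((sieveLE hSR).obj (pbS a f hf)) =
      γ₂.toNatTrans.app ((sieveLE hSR).obj (pbS a f hf)) :=
    congrArg (fun γ => γ.toNatTrans.app (pbS a f hf)) h
  have n1 := γ₁.toNatTrans.naturality (pbHom hSR a f hf)
  have n2 := γ₂.toNatTrans.naturality (pbHom hSR a f hf)
  calc χ ≫ γ₁.toNatTrans.app a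
      = θ ≫ G.map (pbHom hSR a f hf) ≫ γ₁.toNatTrans.app a := by
        rw [← hθ2, Category.assoc]
    _ = θ ≫ γ₁.toNatTrans.app _ ≫ G'.map (pbHom hSR a f hf) := by rw [n1]
    _ = θ ≫ γ₂.toNatTrans.app _ ≫ G'.map (pbHom hSR a f hf) := by rw [e]
    _ = θ ≫ G.map (pbHom hSR a f hf) ≫ γ₂.toNatTrans.app a := by rw [n2]
    _ = χ ≫ γ₂.toNatTrans.app a := by rw [← hθ2, Category.assoc]

lemma restr_full (h𝒳 : FibCat.IsFibGrpd 𝒳.p) (hSR : S ≤ R)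
    (hR : ∀ ⦃V : C⦄ (f : V ⟶ U), R f → Stk.IsPrestackFor (S.pullback f) 𝒳) :
    (Stk.restr (sieveLE hSR) 𝒳).Full := by
  refine ⟨fun {G G'} δ => ?_⟩
  have hn : ∀ a : (Stk.sieveCat R).obj, ∃ n : G.obj a ⟶ G'.obj a,
      𝒳.p.IsHomLift (𝟙 a.obj.left) n ∧
      ∀ ⦃V : C⦄ (f : V ⟶ a.obj.left), (S.pullback a.obj.hom) f → ∀ (x₀ : 𝒳.obj)
        (χ : x₀ ⟶ G.obj a), 𝒳.p.IsHomLift f χ → P hSR δ a χ (χ ≫ n) := by
    intro a
    exact glue (S.pullback a.obj.hom) h𝒳 (hR a.obj.hom a.property).1 (G.w_obj a) (G'.w_obj a)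
      (P hSR δ a)
      (fun V f hf x₀ χ hχ => P_exists δ h𝒳 a f hf χ hχ)
      (fun V f hf x₀ χ μ μ' hχ _ _ h1 h2 => P_uniq δ h𝒳 a f hf χ hχ μ μ' h1 h2)
      (fun x₀ x₁ χ μ κ h => P_pre δ a χ μ κ h)
  choose n hn1 hn2 using hn
  have nat : ∀ {a a' : (Stk.sieveCat R).obj} (k : a ⟶ a'),
      G.map k ≫ n a' = n a ≫ G'.map k := by
    intro a a' k
    haveI := hn1 a
    haveI := hn1 a'
    haveI hk1 : 𝒳.p.IsHomLift k.hom.left (G.map k) := isHomLift_map_sieve G k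
    haveI hk2 : 𝒳.p.IsHomLift k.hom.left (G'.map k) := isHomLift_map_sieve G' k
    haveI hsc : 𝒳.p.IsStronglyCartesian k.hom.left (G'.map k) := IsFibGrpd.sc h𝒳 _ _
    haveI l0 : 𝒳.p.IsHomLift k.hom.left (G.map k ≫ n a') :=
      IsHomLift.comp_lift_id_right 𝒳.p k.hom.left (G.map k) (n a')
    obtain ⟨m, hm1, hm2⟩ := exists_factor h𝒳 k.hom.left (G.map k ≫ n a') (G'.map k)
    haveI := hm1
    have hmn : m = n a := by
      refine sep (S.pullback a.obj.hom) h𝒳 (hR a.obj.hom a.property).2 (G.w_obj a) m (n a)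
        hm1 (hn1 a) ?_
      intro V f hf x₀ χ hχ
      haveI := hχ
      have l1 : 𝒳.p.IsHomLift f (χ ≫ m) :=
        IsHomLift.comp_lift_id_right 𝒳.p f χ m
      have l2 : 𝒳.p.IsHomLift f (χ ≫ n a) :=
        IsHomLift.comp_lift_id_right 𝒳.p f χ (n a)
      apply IsStronglyCartesian.ext 𝒳.p k.hom.left (G'.map k) f
      have hf' : (S.pullback a'.obj.hom) (f ≫ k.hom.left) := by
        show S ((f ≫ k.hom.left) ≫ a'.obj.hom)
        rw [Category.assoc, Over.w k.hom]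
        exact hf
      have l3 : 𝒳.p.IsHomLift (f ≫ k.hom.left) (χ ≫ G.map k) :=
        IsHomLift.comp 𝒳.p f k.hom.left χ (G.map k)
      have p1 : P hSR δ a' (χ ≫ G.map k) ((χ ≫ G.map k) ≫ n a') :=
        hn2 a' (f ≫ k.hom.left) hf' _ (χ ≫ G.map k) l3
      have p2 : P hSR δ a' (χ ≫ G.map k) ((χ ≫ n a) ≫ G'.map k) :=
        P_post δ k χ (χ ≫ n a) (hn2 a f hf x₀ χ hχ)
      have e3 := P_uniq δ h𝒳 a' (f ≫ k.hom.left) hf' (χ ≫ G.map k) l3 _ _ p1 p2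
      rw [Category.assoc, hm2, ← Category.assoc]
      exact e3
    rw [← hm2, hmn]
  let γ : G ⟶ G' :=
    { toNatTrans := { app := n, naturality := fun a a' k => nat k }
      isHomLift' := fun a => hn1 a }
  refine ⟨γ, ?_⟩
  apply BasedNatTrans.ext
  apply NatTrans.ext
  funext b
  show n ((sieveLE hSR).obj b) = dApp δ b
  have hb : S (𝟙 ((sieveLE hSR).obj b).obj.left ≫ ((sieveLE hSR).obj b).obj.hom) := by
    rw [Category.id_comp]; exact b.property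
  have hid : 𝒳.p.IsHomLift (𝟙 ((sieveLE hSR).obj b).obj.left)
      (𝟙 (G.obj ((sieveLE hSR).obj b))) := IsHomLift.id (G.w_obj ((sieveLE hSR).obj b))
  have p1 := hn2 ((sieveLE hSR).obj b) (𝟙 _) hb _ (𝟙 (G.obj ((sieveLE hSR).obj b))) hid
  have p2 : P hSR δ ((sieveLE hSR).obj b) (𝟙 (G.obj ((sieveLE hSR).obj b))) (dApp δ b) :=
    ⟨b, 𝟙 _, 𝟙 _, by simp, by simp⟩
  have e := P_uniq δ h𝒳 ((sieveLE hSR).obj b) (𝟙 _) hb (𝟙 (G.obj ((sieveLE hSR).obj b))) hid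
    _ _ p1 p2
  rwa [Category.id_comp] at e

lemma restr_essSurj (hSR : S ≤ R) (hS : Stk.IsStackFor S 𝒳) :
    (Stk.restr (sieveLE hSR) 𝒳).EssSurj := by
  haveI : (Stk.resSieve S 𝒳).IsEquivalence := hS
  refine ⟨fun D => ?_⟩
  exact ⟨(Stk.resSieve R 𝒳).obj ((Stk.resSieve S 𝒳).objPreimage D),
    ⟨(Stk.resSieve S 𝒳).objObjPreimageIso D⟩⟩

theorem isStackFor_of_le (h𝒳 : FibCat.IsFibGrpd 𝒳.p) (hSR : S ≤ R) (hS : Stk.IsStackFor S 𝒳)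
    (hR : ∀ ⦃V : C⦄ (f : V ⟶ U), R f → Stk.IsPrestackFor (S.pullback f) 𝒳) :
    Stk.IsStackFor R 𝒳 := by
  haveI := restr_faithful h𝒳 hSR hR
  haveI := restr_full h𝒳 hSR hR
  haveI := restr_essSurj (𝒳 := 𝒳) hSR hS
  haveI : (Stk.restr (sieveLE hSR) 𝒳).IsEquivalence := {}
  haveI : (Stk.resSieve R 𝒳 ⋙ Stk.restr (sieveLE hSR) 𝒳).IsEquivalence := hS
  exact Functor.isEquivalence_of_comp_right (Stk.resSieve R 𝒳) (Stk.restr (sieveLE hSR) 𝒳)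

end Groth.Agent.Lib.Helper10.StkRefine
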