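import Mathlib
import Groth.Prelude.Def_AlgSt
import Groth.Agent.Lib.Helper10.HomSheaf
import Groth.Agent.Lib.Helper10.StkRefine

/-!
# Elementary forms of the gluing conditions

For `𝒳` fibred in groupoids over `C` and a sieve `R` on `U`:

* `liftSieve hx R`: the sieve on an object `x` over `U` of the morphisms lying over arrows of `R`;
  `liftSieve_mem`: it is covering for the restricted topology.
* `faithful_of`, `full_of`: criteria for faithfulness / fullness of `resSieve R 𝒳` in terms of the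
  values at the terminal object of the slice.
* `HasCone`, `exists_iso_of_hasCone`, `hasCone_of_essSurj`: effectivity of a descent datum in
  terms of a cone to an object over `U`.
* `Pδ` and its lemmas: the gluing relation attached to a 2-morphism between restrictions.
* `strictify`: lifting a functor into the total category of a fibration in groupoids along a
  natural isomorphism of the base functors.
-/

set_option autoImplicit false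
set_option linter.style.haveILetI false
set_option backward.isDefEq.respectTransparency false
set_option backward.isDefEq.respectTransparency.types false

universe v₃ u₃ v₂ u₂ v u

open CategoryTheory Functor

namespace Groth.Agent.Lib.Helper10.StkElem

open Groth.Agent.Lib.Helper10.Fib Groth.Agent.Lib.Helper10.Gerbe
  Groth.Agent.Lib.Helper10.HomSheaf Groth.Agent.Lib.Helper10.StkRefine

section Base

variable {𝒮 : Type u} [Category.{v} 𝒮] {𝒳 : Type u₂} [Category.{v₂} 𝒳] (p : 𝒳 ⥤ 𝒮)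

lemma isHomLift_of_map {R S : 𝒮} (f : R ⟶ S) {a b b' : 𝒳} (φ : a ⟶ b) (μ : a ⟶ b')
    [p.IsHomLift f φ] (hμ : p.IsHomLift (p.map φ) μ) : p.IsHomLift f μ := by
  subst_hom_lift p f φ
  exact hμ

lemma exists_isHomLift {a b : 𝒳} (φ : a ⟶ b) {R S : 𝒮} (ha : p.obj a = R) (hb : p.obj b = S) :
    ∃ g : R ⟶ S, p.IsHomLift g φ :=
  ⟨eqToHom ha.symm ≫ p.map φ ≫ eqToHom hb, IsHomLift.of_fac p _ φ ha hb rfl⟩

end Base

variable {C : Type u} [Category.{v} C] {𝒳 : BasedCategory.{v₂, u₂} C} {U : C}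

section LiftSieve

/-- The sieve on an object `x` over `U` of the morphisms lying over arrows of `R`. -/
def liftSieve {x : 𝒳.obj} (hx : 𝒳.p.obj x = U) (R : Sieve U) : Sieve x where
  arrows _ := {χ | R (𝒳.p.map χ ≫ eqToHom hx)}
  downward_closed := by
    intro y z χ hχ κ
    show R (𝒳.p.map (κ ≫ χ) ≫ eqToHom hx)
    rw [𝒳.p.map_comp, Category.assoc]
    exact R.downward_closed hχ (𝒳.p.map κ)

lemma liftSieve_iff {x : 𝒳.obj} (hx : 𝒳.p.obj x = U) (R : Sieve U) {x₀ : 𝒳.obj} (χ : x₀ ⟶ x)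
    {V : C} (f : V ⟶ U) [𝒳.p.IsHomLift f χ] : liftSieve hx R χ ↔ R f := by
  have h0 : 𝒳.p.obj x₀ = V := IsHomLift.domain_eq 𝒳.p f χ
  have e : 𝒳.p.map χ ≫ eqToHom hx = eqToHom h0 ≫ f := by
    rw [IsHomLift.fac' 𝒳.p f χ]; simp
  show R (𝒳.p.map χ ≫ eqToHom hx) ↔ R f
  rw [e]
  constructor
  · intro h
    have := R.downward_closed h (eqToHom h0.symm)
    simpa using this
  · intro h
    exact R.downward_closed h (eqToHom h0)

lemma liftSieve_mem (J : GrothendieckTopology C) (h𝒳 : FibCat.IsFibGrpd 𝒳.p) {x : 𝒳.obj}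
    (hx : 𝒳.p.obj x = U) {R : Sieve U} (hR : R ∈ J U) :
    liftSieve hx R ∈ 𝒳.p.restrictedTopology J x := by
  apply Functor.mem_restrictedTopology_of_functorPushforward_mem
  have h1 : R.pullback (eqToHom hx) ∈ J (𝒳.p.obj x) := J.pullback_stable (eqToHom hx) hR
  refine J.superset_covering ?_ h1
  intro V f hf
  obtain ⟨x₀, χ, hχ⟩ := h𝒳.exists_lift (x := x) f
  haveI := hχ
  have h0 : 𝒳.p.obj x₀ = V := IsHomLift.domain_eq 𝒳.p f χ
  refine ⟨x₀, χ, eqToHom h0.symm, ?_, ?_⟩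
  · show R (𝒳.p.map χ ≫ eqToHom hx)
    rw [IsHomLift.fac' 𝒳.p f χ]
    have := R.downward_closed hf (eqToHom h0)
    simpa using this
  · rw [IsHomLift.fac' 𝒳.p f χ]; simp

end LiftSieve

variable (R : Sieve U)

section Components

variable {R} {G G' : FibCat.overCat U ⥤ᵇ 𝒳}
  (δ : (Stk.resSieve R 𝒳).obj G ⟶ (Stk.resSieve R 𝒳).obj G')

/-- Components of a 2-morphism between restrictions to a sieve. -/
def rApp (a : (Stk.sieveCat R).obj) : G.obj a.obj ⟶ G'.obj a.obj := δ.toNatTrans.app a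

lemma rApp_nat {a b : (Stk.sieveCat R).obj} (k : a ⟶ b) :
    G.map k.hom ≫ rApp δ b = rApp δ a ≫ G'.map k.hom := δ.toNatTrans.naturality k

lemma rApp_lift (a : (Stk.sieveCat R).obj) : 𝒳.p.IsHomLift (𝟙 a.obj.left) (rApp δ a) :=
  δ.isHomLift' a

end Components

lemma sc_toTerminal (h𝒳 : FibCat.IsFibGrpd 𝒳.p) (G : FibCat.overCat U ⥤ᵇ 𝒳) (A : Over U) :
    𝒳.p.IsStronglyCartesian (homU U A) (G.map (toTerminal U A)) := by
  haveI := isHomLift_toTerminal U G A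
  exact IsFibGrpd.sc h𝒳 _ _

lemma lift_toTerminal (G : FibCat.overCat U ⥤ᵇ 𝒳) (A : Over U) :
    𝒳.p.IsHomLift A.hom (G.map (toTerminal U A)) := isHomLift_toTerminal U G A

theorem faithful_of (h𝒳 : FibCat.IsFibGrpd 𝒳.p)
    (H : ∀ (G G' : FibCat.overCat U ⥤ᵇ 𝒳)
      (n₁ n₂ : G.obj (Over.mk (𝟙 U)) ⟶ G'.obj (Over.mk (𝟙 U))),
      𝒳.p.IsHomLift (𝟙 U) n₁ → 𝒳.p.IsHomLift (𝟙 U) n₂ →
      (∀ a : (Stk.sieveCat R).obj,
        G.map (toTerminal U a.obj) ≫ n₁ = G.map (toTerminal U a.obj) ≫ n₂) → n₁ = n₂) :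
    (Stk.resSieve R 𝒳).Faithful := by
  refine ⟨fun {G G'} α₁ α₂ h => ?_⟩
  have hn : α₁.toNatTrans.app (Over.mk (𝟙 U)) = α₂.toNatTrans.app (Over.mk (𝟙 U)) := by
    apply H G G' _ _ (α₁.isHomLift' (Over.mk (𝟙 U))) (α₂.isHomLift' (Over.mk (𝟙 U)))
    intro a
    have e : α₁.toNatTrans.app a.obj = α₂.toNatTrans.app a.obj :=
      congrArg (fun γ => γ.toNatTrans.app a) h
    rw [α₁.toNatTrans.naturality (toTerminal U a.obj),
      α₂.toNatTrans.naturality (toTerminal U a.obj), e]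
  obtain ⟨α, -, hα⟩ := yoneda_existsUnique U G G' (sc_toTerminal h𝒳 G')
    (α₁.toNatTrans.app (Over.mk (𝟙 U))) (α₁.isHomLift' (Over.mk (𝟙 U)))
  exact (hα α₁ rfl).trans (hα α₂ hn.symm).symm

theorem full_of (h𝒳 : FibCat.IsFibGrpd 𝒳.p)
    (H : ∀ (G G' : FibCat.overCat U ⥤ᵇ 𝒳)
      (δ : (Stk.resSieve R 𝒳).obj G ⟶ (Stk.resSieve R 𝒳).obj G'),
      ∃ n : G.obj (Over.mk (𝟙 U)) ⟶ G'.obj (Over.mk (𝟙 U)), 𝒳.p.IsHomLift (𝟙 U) n ∧
        ∀ a : (Stk.sieveCat R).obj,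
          G.map (toTerminal U a.obj) ≫ n = rApp δ a ≫ G'.map (toTerminal U a.obj)) :
    (Stk.resSieve R 𝒳).Full := by
  refine ⟨fun {G G'} δ => ?_⟩
  obtain ⟨n, hn1, hn2⟩ := H G G' δ
  obtain ⟨α, hα, -⟩ := yoneda_existsUnique U G G' (sc_toTerminal h𝒳 G') n hn1
  refine ⟨α, ?_⟩
  apply BasedNatTrans.ext
  apply NatTrans.ext
  funext a
  show α.toNatTrans.app a.obj = rApp δ a
  haveI := sc_toTerminal h𝒳 G' a.obj
  haveI l1 : 𝒳.p.IsHomLift (𝟙 a.obj.left) (α.toNatTrans.app a.obj) := α.isHomLift' a.obj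
  haveI l2 : 𝒳.p.IsHomLift (𝟙 a.obj.left) (rApp δ a) := rApp_lift δ a
  apply IsStronglyCartesian.ext 𝒳.p (homU U a.obj) (G'.map (toTerminal U a.obj)) (𝟙 a.obj.left)
  rw [← hn2 a, ← α.toNatTrans.naturality (toTerminal U a.obj), hα]

section Cone

/-- A descent datum admits a cone to an object over `U`. -/
def HasCone (D : Stk.sieveCat R ⥤ᵇ 𝒳) : Prop :=
  ∃ (x : 𝒳.obj) (_ : 𝒳.p.obj x = U) (ψ : ∀ a : (Stk.sieveCat R).obj, D.obj a ⟶ x),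
    (∀ a, 𝒳.p.IsHomLift a.obj.hom (ψ a)) ∧
      ∀ ⦃a b : (Stk.sieveCat R).obj⦄ (k : a ⟶ b), D.map k ≫ ψ b = ψ a

theorem exists_iso_of_hasCone (h𝒳 : FibCat.IsFibGrpd 𝒳.p) (D : Stk.sieveCat R ⥤ᵇ 𝒳)
    (hc : HasCone R D) :
    ∃ G : FibCat.overCat U ⥤ᵇ 𝒳, Nonempty ((Stk.resSieve R 𝒳).obj G ≅ D) := by
  obtain ⟨x, hx, ψ, hψ, hnat⟩ := hc
  obtain ⟨G, j, hj⟩ := exists_rep h𝒳 hx
  haveI := hj
  have hπ : ∀ A : Over U, 𝒳.p.IsHomLift A.hom (G.map (toTerminal U A) ≫ j.hom) :=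
    isHomLift_chi G j.hom
  have hθ : ∀ a : (Stk.sieveCat R).obj, ∃ θ : D.obj a ≅ G.obj a.obj,
      𝒳.p.IsHomLift (𝟙 a.obj.left) θ.hom ∧
        θ.hom ≫ (G.map (toTerminal U a.obj) ≫ j.hom) = ψ a := fun a => by
    haveI := hψ a
    haveI := hπ a.obj
    exact exists_factor_iso h𝒳 a.obj.hom (ψ a) (G.map (toTerminal U a.obj) ≫ j.hom)
  choose θ hθ1 hθ2 using hθ
  have nat : ∀ {a b : (Stk.sieveCat R).obj} (k : a ⟶ b),
      D.map k ≫ (θ b).hom = (θ a).hom ≫ G.map k.hom := by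
    intro a b k
    haveI := hπ b.obj
    haveI hsc : 𝒳.p.IsStronglyCartesian b.obj.hom (G.map (toTerminal U b.obj) ≫ j.hom) :=
      IsFibGrpd.sc h𝒳 _ _
    haveI := hθ1 a
    haveI := hθ1 b
    haveI hk1 : 𝒳.p.IsHomLift k.hom.left (D.map k) := isHomLift_map_sieve D k
    haveI hk2 : 𝒳.p.IsHomLift k.hom.left (G.map k.hom) := isHomLift_map_over U G k.hom
    have l1 : 𝒳.p.IsHomLift k.hom.left (D.map k ≫ (θ b).hom) :=
      IsHomLift.comp_lift_id_right 𝒳.p k.hom.left (D.map k) (θ b).hom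
    have l2 : 𝒳.p.IsHomLift k.hom.left ((θ a).hom ≫ G.map k.hom) :=
      IsHomLift.comp_lift_id_left 𝒳.p k.hom.left (G.map k.hom) (θ a).hom
    apply IsStronglyCartesian.ext 𝒳.p b.obj.hom (G.map (toTerminal U b.obj) ≫ j.hom) k.hom.left
    calc (D.map k ≫ (θ b).hom) ≫ (G.map (toTerminal U b.obj) ≫ j.hom)
        = D.map k ≫ ψ b := by rw [Category.assoc, hθ2 b]
      _ = ψ a := hnat k
      _ = (θ a).hom ≫ (G.map (toTerminal U a.obj) ≫ j.hom) := (hθ2 a).symm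
      _ = (θ a).hom ≫ ((G.map k.hom ≫ G.map (toTerminal U b.obj)) ≫ j.hom) := by
          rw [map_toTerminal_comp U G k.hom]
      _ = ((θ a).hom ≫ G.map k.hom) ≫ (G.map (toTerminal U b.obj) ≫ j.hom) := by
          simp only [Category.assoc]
  let α : D.toFunctor ≅ ((Stk.resSieve R 𝒳).obj G).toFunctor :=
    NatIso.ofComponents (fun a => θ a) (fun {a b} k => nat k)
  exact ⟨G, ⟨(BasedNatIso.mkNatIso α (fun a => hθ1 a)).symm⟩⟩

theorem hasCone_of_essSurj [(Stk.resSieve R 𝒳).EssSurj] (D : Stk.sieveCat R ⥤ᵇ 𝒳) :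
    HasCone R D := by
  obtain ⟨G, ⟨i⟩⟩ : ∃ G, Nonempty ((Stk.resSieve R 𝒳).obj G ≅ D) :=
    ⟨_, ⟨(Stk.resSieve R 𝒳).objObjPreimageIso D⟩⟩
  refine ⟨G.obj (Over.mk (𝟙 U)), G.w_obj _,
    fun a => i.inv.toNatTrans.app a ≫ G.map (toTerminal U a.obj), fun a => ?_, fun a b k => ?_⟩
  · haveI : 𝒳.p.IsHomLift (𝟙 a.obj.left) (i.inv.toNatTrans.app a) := i.inv.isHomLift' a
    haveI : 𝒳.p.IsHomLift a.obj.hom (G.map (toTerminal U a.obj)) := lift_toTerminal G a.obj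
    exact IsHomLift.comp_lift_id_left 𝒳.p a.obj.hom (G.map (toTerminal U a.obj))
      (i.inv.toNatTrans.app a)
  · have h : D.map k ≫ i.inv.toNatTrans.app b = i.inv.toNatTrans.app a ≫ G.map k.hom :=
      i.inv.toNatTrans.naturality k
    calc D.map k ≫ i.inv.toNatTrans.app b ≫ G.map (toTerminal U b.obj)
        = (i.inv.toNatTrans.app a ≫ G.map k.hom) ≫ G.map (toTerminal U b.obj) := by
          rw [← Category.assoc, h]
      _ = i.inv.toNatTrans.app a ≫ G.map (toTerminal U a.obj) := by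
          rw [Category.assoc, map_toTerminal_comp U G k.hom]

end Cone

section Pdelta

variable {R} {G G' : FibCat.overCat U ⥤ᵇ 𝒳}
  (δ : (Stk.resSieve R 𝒳).obj G ⟶ (Stk.resSieve R 𝒳).obj G')

/-- The gluing relation attached to a 2-morphism between restrictions. -/
def Pδ ⦃x₀ : 𝒳.obj⦄ (χ : x₀ ⟶ G.obj (Over.mk (𝟙 U))) (μ : x₀ ⟶ G'.obj (Over.mk (𝟙 U))) : Prop :=
  ∃ (a : (Stk.sieveCat R).obj) (θ : x₀ ⟶ G.obj a.obj), χ = θ ≫ G.map (toTerminal U a.obj) ∧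
    μ = θ ≫ rApp δ a ≫ G'.map (toTerminal U a.obj)

lemma Pδ_pre {x₀ x₁ : 𝒳.obj} (χ : x₀ ⟶ G.obj (Over.mk (𝟙 U)))
    (μ : x₀ ⟶ G'.obj (Over.mk (𝟙 U))) (κ : x₁ ⟶ x₀) (h : Pδ δ χ μ) : Pδ δ (κ ≫ χ) (κ ≫ μ) := by
  obtain ⟨a, θ, rfl, rfl⟩ := h
  exact ⟨a, κ ≫ θ, (Category.assoc _ _ _).symm, (Category.assoc _ _ _).symm⟩

lemma Pδ_self (a : (Stk.sieveCat R).obj) :
    Pδ δ (G.map (toTerminal U a.obj)) (rApp δ a ≫ G'.map (toTerminal U a.obj)) :=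
  ⟨a, 𝟙 _, (Category.id_comp _).symm, (Category.id_comp _).symm⟩

/-- The object of the sieve given by an arrow. -/
def mkA {V : C} (f : V ⟶ U) (hf : R f) : (Stk.sieveCat R).obj := ⟨Over.mk f, hf⟩

lemma Pδ_canon (h𝒳 : FibCat.IsFibGrpd 𝒳.p) {V : C} (f : V ⟶ U) (hf : R f) {x₀ : 𝒳.obj}
    (χ : x₀ ⟶ G.obj (Over.mk (𝟙 U))) (hχ : 𝒳.p.IsHomLift f χ)
    (θ₀ : x₀ ⟶ G.obj (Over.mk f)) (hθ₀1 : 𝒳.p.IsHomLift (𝟙 V) θ₀)
    (hθ₀ : θ₀ ≫ G.map (toTerminal U (Over.mk f)) = χ)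
    (a : (Stk.sieveCat R).obj) (θ : x₀ ⟶ G.obj a.obj)
    (e : χ = θ ≫ G.map (toTerminal U a.obj)) :
    θ ≫ rApp δ a ≫ G'.map (toTerminal U a.obj) =
      θ₀ ≫ rApp δ (mkA f hf) ≫ G'.map (toTerminal U (Over.mk f)) := by
  haveI := hχ
  haveI := hθ₀1
  have hV : 𝒳.p.obj x₀ = V := IsHomLift.domain_eq 𝒳.p f χ
  have hb : 𝒳.p.obj (G.obj a.obj) = a.obj.left := G.w_obj a.obj
  obtain ⟨g, hg⟩ : ∃ g : V ⟶ a.obj.left, 𝒳.p.IsHomLift g θ := exists_isHomLift 𝒳.p θ hV hb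
  haveI := hg
  haveI hk : 𝒳.p.IsHomLift a.obj.hom (G.map (toTerminal U a.obj)) := lift_toTerminal G a.obj
  have hfg : f = g ≫ a.obj.hom := by
    haveI : 𝒳.p.IsHomLift (g ≫ a.obj.hom) (θ ≫ G.map (toTerminal U a.obj)) :=
      IsHomLift.comp 𝒳.p g a.obj.hom θ (G.map (toTerminal U a.obj))
    haveI : 𝒳.p.IsHomLift (g ≫ a.obj.hom) χ := by rw [e]; infer_instance
    exact isHomLift_unique 𝒳.p f (g ≫ a.obj.hom) χ
  let m : mkA f hf ⟶ a := ObjectProperty.homMk (Over.homMk g hfg.symm)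
  have hmk : m.hom ≫ toTerminal U a.obj = toTerminal U (Over.mk f) := toTerminal_comp U m.hom
  have hmg : 𝒳.p.IsHomLift g (G.map m.hom) := isHomLift_map_over U G m.hom
  have h3 : G.map m.hom ≫ G.map (toTerminal U a.obj) = G.map (toTerminal U (Over.mk f)) :=
    map_toTerminal_comp U G m.hom
  have h4 : G'.map m.hom ≫ G'.map (toTerminal U a.obj) = G'.map (toTerminal U (Over.mk f)) :=
    map_toTerminal_comp U G' m.hom
  have hθ : θ = θ₀ ≫ G.map m.hom := by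
    haveI : 𝒳.p.IsStronglyCartesian a.obj.hom (G.map (toTerminal U a.obj)) :=
      IsFibGrpd.sc h𝒳 _ _
    haveI := hmg
    have l1 : 𝒳.p.IsHomLift g (θ₀ ≫ G.map m.hom) :=
      IsHomLift.comp_lift_id_left 𝒳.p g (G.map m.hom) θ₀
    have e2 : θ ≫ G.map (toTerminal U a.obj) =
        (θ₀ ≫ G.map m.hom) ≫ G.map (toTerminal U a.obj) := by
      rw [Category.assoc, h3, hθ₀, e]
    exact IsStronglyCartesian.ext 𝒳.p a.obj.hom (G.map (toTerminal U a.obj)) g e2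
  have nat := rApp_nat δ m
  calc θ ≫ rApp δ a ≫ G'.map (toTerminal U a.obj)
      = θ₀ ≫ (G.map m.hom ≫ rApp δ a) ≫ G'.map (toTerminal U a.obj) := by
        rw [hθ]; simp only [Category.assoc]
    _ = θ₀ ≫ (rApp δ (mkA f hf) ≫ G'.map m.hom) ≫ G'.map (toTerminal U a.obj) := by rw [nat]
    _ = θ₀ ≫ rApp δ (mkA f hf) ≫ G'.map (toTerminal U (Over.mk f)) := by
        rw [← h4]; simp only [Category.assoc]

lemma Pδ_uniq (h𝒳 : FibCat.IsFibGrpd 𝒳.p) {V : C} (f : V ⟶ U) (hf : R f) {x₀ : 𝒳.obj}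
    (χ : x₀ ⟶ G.obj (Over.mk (𝟙 U))) (hχ : 𝒳.p.IsHomLift f χ)
    (μ μ' : x₀ ⟶ G'.obj (Over.mk (𝟙 U))) (h : Pδ δ χ μ) (h' : Pδ δ χ μ') : μ = μ' := by
  haveI := hχ
  haveI hk : 𝒳.p.IsHomLift f (G.map (toTerminal U (Over.mk f))) :=
    lift_toTerminal G (Over.mk f)
  obtain ⟨θ₀, h1, h2⟩ := exists_factor h𝒳 f χ (G.map (toTerminal U (Over.mk f)))
  obtain ⟨a₁, θ₁, e₁, rfl⟩ := h
  obtain ⟨a₂, θ₂, e₂, rfl⟩ := h'
  exact (Pδ_canon δ h𝒳 f hf χ hχ θ₀ h1 h2 a₁ θ₁ e₁).trans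
    (Pδ_canon δ h𝒳 f hf χ hχ θ₀ h1 h2 a₂ θ₂ e₂).symm

lemma Pδ_exists (h𝒳 : FibCat.IsFibGrpd 𝒳.p) {V : C} (f : V ⟶ U) (hf : R f) {x₀ : 𝒳.obj}
    (χ : x₀ ⟶ G.obj (Over.mk (𝟙 U))) (hχ : 𝒳.p.IsHomLift f χ) :
    ∃ μ : x₀ ⟶ G'.obj (Over.mk (𝟙 U)), 𝒳.p.IsHomLift f μ ∧ Pδ δ χ μ := by
  haveI := hχ
  haveI hk : 𝒳.p.IsHomLift f (G.map (toTerminal U (Over.mk f))) :=
    lift_toTerminal G (Over.mk f)
  haveI hk' : 𝒳.p.IsHomLift f (G'.map (toTerminal U (Over.mk f))) :=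
    lift_toTerminal G' (Over.mk f)
  obtain ⟨θ₀, h1, h2⟩ := exists_factor h𝒳 f χ (G.map (toTerminal U (Over.mk f)))
  haveI := h1
  haveI hd : 𝒳.p.IsHomLift (𝟙 V) (rApp δ (mkA f hf)) := rApp_lift δ (mkA f hf)
  have l1 : 𝒳.p.IsHomLift f (rApp δ (mkA f hf) ≫ G'.map (toTerminal U (Over.mk f))) :=
    IsHomLift.comp_lift_id_left 𝒳.p f (G'.map (toTerminal U (Over.mk f))) (rApp δ (mkA f hf))
  have l2 : 𝒳.p.IsHomLift f
      (θ₀ ≫ rApp δ (mkA f hf) ≫ G'.map (toTerminal U (Over.mk f))) :=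
    IsHomLift.comp_lift_id_left 𝒳.p f
      (rApp δ (mkA f hf) ≫ G'.map (toTerminal U (Over.mk f))) θ₀
  exact ⟨θ₀ ≫ rApp δ (mkA f hf) ≫ G'.map (toTerminal U (Over.mk f)), l2,
    mkA f hf, θ₀, h2.symm, rfl⟩

end Pdelta

section Strictify

variable {𝒜 : BasedCategory.{v₃, u₃} C}

theorem strictify (h𝒳 : FibCat.IsFibGrpd 𝒳.p) (H : 𝒜.obj ⥤ 𝒳.obj) (ι : 𝒜.p ≅ H ⋙ 𝒳.p) :
    ∃ (H' : 𝒜 ⥤ᵇ 𝒳) (κ : H'.toFunctor ≅ H),
      ∀ a : 𝒜.obj, 𝒳.p.IsHomLift (ι.hom.app a) (κ.hom.app a) := by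
  have hex : ∀ a : 𝒜.obj, ∃ (y : 𝒳.obj) (c : y ⟶ H.obj a), 𝒳.p.IsHomLift (ι.hom.app a) c :=
    fun a => h𝒳.exists_lift (x := H.obj a) (ι.hom.app a)
  choose Y c hc using hex
  have hsc : ∀ a, 𝒳.p.IsStronglyCartesian (ι.hom.app a) (c a) := fun a => by
    haveI := hc a
    exact IsFibGrpd.sc h𝒳 _ _
  have hobj : ∀ a, 𝒳.p.obj (Y a) = 𝒜.p.obj a := fun a => by
    haveI := hc a
    exact IsHomLift.domain_eq 𝒳.p (ι.hom.app a) (c a)
  have hiso : ∀ a, IsIso (c a) := fun a => by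
    haveI := hsc a
    exact IsStronglyCartesian.isIso_of_base_isIso 𝒳.p (ι.hom.app a) (c a)
  have ex : ∀ {a b : 𝒜.obj} (k : a ⟶ b), ∃! χ : Y a ⟶ Y b,
      𝒳.p.IsHomLift (𝒜.p.map k) χ ∧ χ ≫ c b = c a ≫ H.map k := by
    intro a b k
    haveI := hsc b
    haveI := hc a
    haveI l0 : 𝒳.p.IsHomLift (𝒳.p.map (H.map k)) (H.map k) := IsHomLift.map 𝒳.p (H.map k)
    haveI l1 : 𝒳.p.IsHomLift (ι.hom.app a ≫ 𝒳.p.map (H.map k)) (c a ≫ H.map k) :=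
      IsHomLift.comp 𝒳.p (ι.hom.app a) (𝒳.p.map (H.map k)) (c a) (H.map k)
    exact IsStronglyCartesian.universal_property 𝒳.p (ι.hom.app b) (c b) (𝒜.p.map k)
      (ι.hom.app a ≫ 𝒳.p.map (H.map k)) (ι.hom.naturality k).symm (c a ≫ H.map k)
  let mp : ∀ {a b : 𝒜.obj} (_ : a ⟶ b), Y a ⟶ Y b := fun k => Classical.choose (ex k)
  have mp1 : ∀ {a b : 𝒜.obj} (k : a ⟶ b), 𝒳.p.IsHomLift (𝒜.p.map k) (mp k) :=
    fun k => (Classical.choose_spec (ex k)).1.1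
  have mp2 : ∀ {a b : 𝒜.obj} (k : a ⟶ b), mp k ≫ c b = c a ≫ H.map k :=
    fun k => (Classical.choose_spec (ex k)).1.2
  have mp3 : ∀ {a b : 𝒜.obj} (k : a ⟶ b) (χ : Y a ⟶ Y b), 𝒳.p.IsHomLift (𝒜.p.map k) χ →
      χ ≫ c b = c a ≫ H.map k → χ = mp k :=
    fun k χ h1 h2 => (Classical.choose_spec (ex k)).2 χ ⟨h1, h2⟩
  let G₀ : 𝒜.obj ⥤ 𝒳.obj :=
    { obj := Y
      map := fun k => mp k
      map_id := fun a => by
        symm
        apply mp3 (𝟙 a)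
        · rw [𝒜.p.map_id]
          exact IsHomLift.id (hobj a)
        · rw [H.map_id, Category.id_comp, Category.comp_id]
      map_comp := fun {a b d} k l => by
        symm
        apply mp3 (k ≫ l)
        · haveI := mp1 k
          haveI := mp1 l
          rw [𝒜.p.map_comp]
          exact IsHomLift.comp 𝒳.p (𝒜.p.map k) (𝒜.p.map l) (mp k) (mp l)
        · rw [Category.assoc, mp2 l, ← Category.assoc, mp2 k, Category.assoc, H.map_comp] }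
  let H' : 𝒜 ⥤ᵇ 𝒳 :=
    { toFunctor := G₀
      w := CategoryTheory.Functor.ext hobj (fun a b k => by
        haveI := mp1 k
        exact IsHomLift.fac' 𝒳.p (𝒜.p.map k) (mp k)) }
  haveI := hiso
  let κ : H'.toFunctor ≅ H := NatIso.ofComponents (fun a => asIso (c a)) (fun {a b} k => mp2 k)
  exact ⟨H', κ, fun a => hc a⟩

end Strictify

end Groth.Agent.Lib.Helper10.StkElem
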