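import Mathlib
import Groth.Prelude.Def_AlgSt
import Groth.Agent.Lib.Helper10.StkElem
import Groth.Agent.Lib.Helper10.FibComp

/-!
# A stack over a stack is a stack over the base

For `𝒳` a stack in groupoids over `(C, J)` and `𝒴` a stack in groupoids over `𝒳` (with the
topology inherited from `J`), the composite `𝒴 ⟶ 𝒳 ⟶ C` is a stack in groupoids over `(C, J)`.

* `tot 𝒴`, `qB 𝒴`: the total category and the structure functor.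
* `sep_tot`, `glue_tot`: elementary separation and gluing of morphisms for the composite.
* `liftE`: the functor from the lifted sieve on an object of `𝒳` to the sieve on the base.
* `hasCone_tot`: effectivity.
* `isStack_tot`: the theorem.
-/

set_option autoImplicit false
set_option linter.style.haveILetI false
set_option backward.isDefEq.respectTransparency false
set_option backward.isDefEq.respectTransparency.types false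

universe v₃ u₃ v₂ u₂ v u

open CategoryTheory Functor

namespace Groth.Agent.Lib.Helper10.StkComp

open Groth.Agent.Lib.Helper10.Fib Groth.Agent.Lib.Helper10.Gerbe
  Groth.Agent.Lib.Helper10.HomSheaf Groth.Agent.Lib.Helper10.StkRefine
  Groth.Agent.Lib.Helper10.StkElem

section Base

variable {𝒮 : Type u} [Category.{v} 𝒮] {𝒳 : Type u₂} [Category.{v₂} 𝒳] (p : 𝒳 ⥤ 𝒮)

lemma isHomLift_congr {R S : 𝒮} {f f' : R ⟶ S} (h : f = f') {a b : 𝒳} (φ : a ⟶ b)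
    (hφ : p.IsHomLift f φ) : p.IsHomLift f' φ := by
  subst h
  exact hφ

lemma lift_map_eqToHom {x₀ x : 𝒳} (χ : x₀ ⟶ x) {U : 𝒮} (hx : p.obj x = U) :
    p.IsHomLift (p.map χ ≫ eqToHom hx) χ := by
  haveI := IsHomLift.map p χ
  infer_instance

lemma fac_eq {V U : 𝒮} {x₀ x : 𝒳} (f : V ⟶ U) (χ : x₀ ⟶ x) [p.IsHomLift f χ]
    (hx : p.obj x = U) (e : p.obj x₀ = V) : eqToHom e ≫ f = p.map χ ≫ eqToHom hx := by
  rw [IsHomLift.fac' p f χ]; simp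

lemma fac_eq' {V U : 𝒮} {x₀ x : 𝒳} (f : V ⟶ U) (χ : x₀ ⟶ x) (hχ : p.IsHomLift f χ)
    (hx : p.obj x = U) (e : p.obj x₀ = V) : eqToHom e.symm ≫ (p.map χ ≫ eqToHom hx) = f := by
  haveI := hχ
  rw [← fac_eq p f χ hx e, ← Category.assoc, eqToHom_trans, eqToHom_refl, Category.id_comp]

lemma lift_comp' {R S T : 𝒮} {a b c : 𝒳} (f : R ⟶ S) (g : S ⟶ T) (φ : a ⟶ b) (ψ : b ⟶ c)
    (h1 : p.IsHomLift f φ) (h2 : p.IsHomLift g ψ) : p.IsHomLift (f ≫ g) (φ ≫ ψ) := by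
  haveI := h1
  haveI := h2
  infer_instance

lemma inv_lift_inv' {R S : 𝒮} {a b : 𝒳} (f : R ≅ S) (φ : a ≅ b) (h : p.IsHomLift f.hom φ.hom) :
    p.IsHomLift f.inv φ.inv := by
  haveI := h
  infer_instance

lemma map_eq_of_lift {V U : 𝒮} {x₀ x : 𝒳} (f : V ⟶ U) (χ : x₀ ⟶ x) [p.IsHomLift f χ]
    (e₀ : p.obj x₀ = V) (e₁ : p.obj x = U) : p.map χ = eqToHom e₀ ≫ f ≫ eqToHom e₁.symm := by
  rw [IsHomLift.fac' p f χ]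

end Base

section Base2

variable {𝒜 : Type u} [Category.{v} 𝒜] {ℬ : Type u₂} [Category.{v₂} ℬ] {𝒞 : Type u₃}
  [Category.{v₃} 𝒞] (F : 𝒜 ⥤ ℬ) (G : ℬ ⥤ 𝒞)

lemma isHomLift_comp' {R S : 𝒞} {b b' : ℬ} {a a' : 𝒜} (f : R ⟶ S) (ψ : b ⟶ b') (φ : a ⟶ a')
    (h1 : F.IsHomLift ψ φ) (h2 : G.IsHomLift f ψ) : (F ⋙ G).IsHomLift f φ := by
  haveI := h1
  haveI := h2
  exact isHomLift_comp F G f ψ φ

end Base2

variable {C : Type u} [Category.{v} C] {𝒳 : BasedCategory.{v₂, u₂} C}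

section General

variable {U : C} (R : Sieve U)

lemma comp_eq_of_terminal (h𝒳 : FibCat.IsFibGrpd 𝒳.p) (G : FibCat.overCat U ⥤ᵇ 𝒳) {w : 𝒳.obj}
    (n₁ n₂ : G.obj (Over.mk (𝟙 U)) ⟶ w)
    (H : ∀ a : (Stk.sieveCat R).obj,
      G.map (toTerminal U a.obj) ≫ n₁ = G.map (toTerminal U a.obj) ≫ n₂)
    {V : C} (f : V ⟶ U) (hf : R f) {z₀ : 𝒳.obj} (χ : z₀ ⟶ G.obj (Over.mk (𝟙 U)))
    (hχ : 𝒳.p.IsHomLift f χ) : χ ≫ n₁ = χ ≫ n₂ := by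
  haveI := hχ
  haveI hk : 𝒳.p.IsHomLift f (G.map (toTerminal U (Over.mk f))) := lift_toTerminal G (Over.mk f)
  obtain ⟨θ₀, -, h2⟩ := exists_factor h𝒳 f χ (G.map (toTerminal U (Over.mk f)))
  rw [← h2, Category.assoc, Category.assoc]
  exact congrArg (fun t => θ₀ ≫ t) (H (mkA f hf))

end General

variable (𝒴 : BasedCategory.{v₃, u₃} 𝒳.obj)

/-- The total category of `𝒴` as a category over `C`. -/
abbrev tot : BasedCategory.{v₃, u₃} C := BasedCategory.ofFunctor (𝒴.p ⋙ 𝒳.p)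

/-- The structure functor `𝒴 ⟶ 𝒳` as a functor over `C`. -/
def qB : tot 𝒴 ⥤ᵇ 𝒳 where
  toFunctor := 𝒴.p
  w := rfl

lemma isFibGrpd_tot (hX : FibCat.IsFibGrpd 𝒳.p) (hY : FibCat.IsFibGrpd 𝒴.p) :
    FibCat.IsFibGrpd (tot 𝒴).p := isFibGrpd_comp 𝒴.p 𝒳.p hY hX

section Sep

variable {𝒴} {U : C} (R : Sieve U)

theorem sep_tot (hX : FibCat.IsFibGrpd 𝒳.p) (hY : FibCat.IsFibGrpd 𝒴.p)
    (h1 : (Stk.resSieve R 𝒳).Faithful)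
    (h2 : ∀ {x : 𝒳.obj} (hx : 𝒳.p.obj x = U), (Stk.resSieve (liftSieve hx R) 𝒴).Faithful)
    {z z' : 𝒴.obj} (hz : 𝒳.p.obj (𝒴.p.obj z) = U) (n₁ n₂ : z ⟶ z')
    (hn₁ : (𝒴.p ⋙ 𝒳.p).IsHomLift (𝟙 U) n₁) (hn₂ : (𝒴.p ⋙ 𝒳.p).IsHomLift (𝟙 U) n₂)
    (H : ∀ ⦃V : C⦄ (f : V ⟶ U), R f → ∀ (z₀ : 𝒴.obj) (χ : z₀ ⟶ z),
      (𝒴.p ⋙ 𝒳.p).IsHomLift f χ → χ ≫ n₁ = χ ≫ n₂) : n₁ = n₂ := by
  haveI := hn₁
  haveI := hn₂
  have l1 : 𝒳.p.IsHomLift (𝟙 U) (𝒴.p.map n₁) := isHomLift_map_of_comp 𝒴.p 𝒳.p (𝟙 U) n₁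
  have l2 : 𝒳.p.IsHomLift (𝟙 U) (𝒴.p.map n₂) := isHomLift_map_of_comp 𝒴.p 𝒳.p (𝟙 U) n₂
  have e1 : 𝒴.p.map n₁ = 𝒴.p.map n₂ := by
    apply HomSheaf.sep R hX h1 hz _ _ l1 l2
    intro V f hf x₀ χ' hχ'
    haveI := hχ'
    obtain ⟨z₀, χ, hχ⟩ := hY.exists_lift (x := z) χ'
    haveI := hχ
    have e : 𝒴.p.obj z₀ = x₀ := IsHomLift.domain_eq 𝒴.p χ' χ
    have hfac : 𝒴.p.map χ = eqToHom e ≫ χ' := by
      rw [IsHomLift.fac' 𝒴.p χ' χ]; simp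
    have l3 : (𝒴.p ⋙ 𝒳.p).IsHomLift f χ := isHomLift_comp 𝒴.p 𝒳.p f χ' χ
    have h3 : χ ≫ n₁ = χ ≫ n₂ := H f hf z₀ χ l3
    have h4 : 𝒴.p.map χ ≫ 𝒴.p.map n₁ = 𝒴.p.map χ ≫ 𝒴.p.map n₂ := by
      rw [← 𝒴.p.map_comp, ← 𝒴.p.map_comp, h3]
    rw [hfac, Category.assoc, Category.assoc] at h4
    exact (cancel_epi (eqToHom e)).1 h4
  obtain ⟨z'', c, hc⟩ := hY.exists_lift (x := z') (𝒴.p.map n₁)
  haveI := hc
  haveI hm1 : 𝒴.p.IsHomLift (𝒴.p.map n₁) n₁ := IsHomLift.map 𝒴.p n₁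
  haveI hm2 : 𝒴.p.IsHomLift (𝒴.p.map n₁) n₂ := by rw [e1]; exact IsHomLift.map 𝒴.p n₂
  obtain ⟨ñ₁, hñ₁, ec₁⟩ := exists_factor hY (𝒴.p.map n₁) n₁ c
  obtain ⟨ñ₂, hñ₂, ec₂⟩ := exists_factor hY (𝒴.p.map n₁) n₂ c
  haveI := hñ₁
  haveI := hñ₂
  haveI hsc : 𝒴.p.IsStronglyCartesian (𝒴.p.map n₁) c := IsFibGrpd.sc hY _ _
  have e3 : ñ₁ = ñ₂ := by
    apply HomSheaf.sep (liftSieve hz R) hY (h2 hz) rfl ñ₁ ñ₂ hñ₁ hñ₂
    intro x₀ f' hf' z₀ χ hχ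
    haveI := hχ
    haveI l4 : 𝒳.p.IsHomLift (𝒳.p.map f' ≫ eqToHom hz) f' := lift_map_eqToHom 𝒳.p f' hz
    have l6 : (𝒴.p ⋙ 𝒳.p).IsHomLift (𝒳.p.map f' ≫ eqToHom hz) χ :=
      isHomLift_comp 𝒴.p 𝒳.p (𝒳.p.map f' ≫ eqToHom hz) f' χ
    have h5 : χ ≫ n₁ = χ ≫ n₂ := H _ hf' z₀ χ l6
    haveI l7 : 𝒴.p.IsHomLift f' (χ ≫ ñ₁) := IsHomLift.comp_lift_id_right 𝒴.p f' χ ñ₁
    haveI l8 : 𝒴.p.IsHomLift f' (χ ≫ ñ₂) := IsHomLift.comp_lift_id_right 𝒴.p f' χ ñ₂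
    apply IsStronglyCartesian.ext 𝒴.p (𝒴.p.map n₁) c f'
    rw [Category.assoc, Category.assoc, ec₁, ec₂, h5]
  rw [← ec₁, ← ec₂, e3]

theorem faithful_tot (hX : FibCat.IsFibGrpd 𝒳.p) (hY : FibCat.IsFibGrpd 𝒴.p)
    (h1 : (Stk.resSieve R 𝒳).Faithful)
    (h2 : ∀ {x : 𝒳.obj} (hx : 𝒳.p.obj x = U), (Stk.resSieve (liftSieve hx R) 𝒴).Faithful) :
    (Stk.resSieve R (tot 𝒴)).Faithful := by
  have hZ := isFibGrpd_tot 𝒴 hX hY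
  apply faithful_of R hZ
  intro G G' n₁ n₂ hn₁ hn₂ H
  have hz : 𝒳.p.obj (𝒴.p.obj (G.obj (Over.mk (𝟙 U)))) = U := G.w_obj (Over.mk (𝟙 U))
  refine sep_tot R hX hY h1 h2 hz n₁ n₂ hn₁ hn₂ ?_
  intro V f hf z₀ χ hχ
  exact comp_eq_of_terminal R hZ G n₁ n₂ H f hf χ hχ

end Sep

section Glue

variable {𝒴} {U : C} (R : Sieve U)

theorem glue_tot (hX : FibCat.IsFibGrpd 𝒳.p) (hY : FibCat.IsFibGrpd 𝒴.p)
    (h2 : ∀ {x : 𝒳.obj} (hx : 𝒳.p.obj x = U), (Stk.resSieve (liftSieve hx R) 𝒴).Full)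
    {z z' : 𝒴.obj} (hz : 𝒳.p.obj (𝒴.p.obj z) = U)
    (m : 𝒴.p.obj z ⟶ 𝒴.p.obj z') (hm : 𝒳.p.IsHomLift (𝟙 U) m)
    (P : ∀ ⦃z₀ : 𝒴.obj⦄, (z₀ ⟶ z) → (z₀ ⟶ z') → Prop)
    (hcompat : ∀ ⦃z₀ : 𝒴.obj⦄ (χ : z₀ ⟶ z) (μ : z₀ ⟶ z'), P χ μ →
      𝒴.p.map χ ≫ m = 𝒴.p.map μ)
    (hex : ∀ ⦃V : C⦄ (f : V ⟶ U), R f → ∀ (z₀ : 𝒴.obj) (χ : z₀ ⟶ z),
      (𝒴.p ⋙ 𝒳.p).IsHomLift f χ → ∃ μ : z₀ ⟶ z', P χ μ)
    (huniq : ∀ ⦃V : C⦄ (f : V ⟶ U), R f → ∀ (z₀ : 𝒴.obj) (χ : z₀ ⟶ z) (μ μ' : z₀ ⟶ z'),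
      (𝒴.p ⋙ 𝒳.p).IsHomLift f χ → P χ μ → P χ μ' → μ = μ')
    (hcomp : ∀ ⦃z₀ z₁ : 𝒴.obj⦄ (χ : z₀ ⟶ z) (μ : z₀ ⟶ z') (κ : z₁ ⟶ z₀),
      P χ μ → P (κ ≫ χ) (κ ≫ μ)) :
    ∃ n : z ⟶ z', (𝒴.p ⋙ 𝒳.p).IsHomLift (𝟙 U) n ∧
      ∀ ⦃V : C⦄ (f : V ⟶ U), R f → ∀ (z₀ : 𝒴.obj) (χ : z₀ ⟶ z),
        (𝒴.p ⋙ 𝒳.p).IsHomLift f χ → P χ (χ ≫ n) := by
  haveI := hm
  obtain ⟨z'', c, hc⟩ := hY.exists_lift (x := z') m
  haveI := hc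
  haveI hsc : 𝒴.p.IsStronglyCartesian m c := IsFibGrpd.sc hY _ _
  have hz'' : 𝒴.p.obj z'' = 𝒴.p.obj z := IsHomLift.domain_eq 𝒴.p m c
  have key : ∀ ⦃x₀ : 𝒳.obj⦄ (f' : x₀ ⟶ 𝒴.p.obj z), (liftSieve hz R) f' →
      ∀ (z₀ : 𝒴.obj) (χ : z₀ ⟶ z), 𝒴.p.IsHomLift f' χ →
        (𝒴.p ⋙ 𝒳.p).IsHomLift (𝒳.p.map f' ≫ eqToHom hz) χ := by
    intro x₀ f' _ z₀ χ hχ
    haveI := hχ
    haveI l4 : 𝒳.p.IsHomLift (𝒳.p.map f' ≫ eqToHom hz) f' := lift_map_eqToHom 𝒳.p f' hz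
    exact isHomLift_comp 𝒴.p 𝒳.p (𝒳.p.map f' ≫ eqToHom hz) f' χ
  obtain ⟨ñ, hñ, hP⟩ := HomSheaf.glue (liftSieve hz R) hY (h2 hz) (x := z) (x' := z'') rfl hz''
    (fun z₀ χ μ' => P χ (μ' ≫ c))
    (by
      intro x₀ f' hf' z₀ χ hχ
      haveI := hχ
      obtain ⟨μ, hμ⟩ := hex _ hf' z₀ χ (key f' hf' z₀ χ hχ)
      have hq := hcompat χ μ hμ
      have e₀ : 𝒴.p.obj z₀ = x₀ := IsHomLift.domain_eq 𝒴.p f' χ
      have hfac : 𝒴.p.map χ = eqToHom e₀ ≫ f' := by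
        rw [IsHomLift.fac' 𝒴.p f' χ]; simp
      haveI lμ : 𝒴.p.IsHomLift (f' ≫ m) μ := by
        apply IsHomLift.of_fac' 𝒴.p (f' ≫ m) μ e₀ rfl
        rw [← hq, hfac]; simp
      obtain ⟨μ', ⟨hμ'1, hμ'2⟩, -⟩ :=
        IsStronglyCartesian.universal_property 𝒴.p m c f' (f' ≫ m) rfl μ
      exact ⟨μ', hμ'1, (by show P χ (μ' ≫ c); rw [hμ'2]; exact hμ)⟩)
    (by
      intro x₀ f' hf' z₀ χ μ₁ μ₂ hχ hμ₁ hμ₂ h₁ h₂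
      haveI := hμ₁
      haveI := hμ₂
      have := huniq _ hf' z₀ χ _ _ (key f' hf' z₀ χ hχ) h₁ h₂
      exact IsStronglyCartesian.ext 𝒴.p m c f' this)
    (by
      intro z₀ z₁ χ μ' κ h
      have := hcomp χ (μ' ≫ c) κ h
      show P (κ ≫ χ) ((κ ≫ μ') ≫ c)
      rw [Category.assoc]
      exact this)
  haveI := hñ
  have ln : 𝒴.p.IsHomLift m (ñ ≫ c) := IsHomLift.comp_lift_id_left 𝒴.p m c ñ
  haveI := ln
  refine ⟨ñ ≫ c, isHomLift_comp 𝒴.p 𝒳.p (𝟙 U) m (ñ ≫ c), ?_⟩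
  intro V f hf z₀ χ hχ
  haveI := hχ
  haveI lq : 𝒳.p.IsHomLift f (𝒴.p.map χ) := isHomLift_map_of_comp 𝒴.p 𝒳.p f χ
  have hT : (liftSieve hz R) (𝒴.p.map χ) := (liftSieve_iff hz R (𝒴.p.map χ) f).2 hf
  have h9 : P χ ((χ ≫ ñ) ≫ c) := hP (𝒴.p.map χ) hT z₀ χ (IsHomLift.map 𝒴.p χ)
  rw [Category.assoc] at h9
  exact h9

theorem full_tot (hX : FibCat.IsFibGrpd 𝒳.p) (hY : FibCat.IsFibGrpd 𝒴.p)
    (h1 : (Stk.resSieve R 𝒳).Full)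
    (h2 : ∀ {x : 𝒳.obj} (hx : 𝒳.p.obj x = U), (Stk.resSieve (liftSieve hx R) 𝒴).Full) :
    (Stk.resSieve R (tot 𝒴)).Full := by
  have hZ := isFibGrpd_tot 𝒴 hX hY
  apply full_of R hZ
  intro G G' δ
  have hz : 𝒳.p.obj (𝒴.p.obj (G.obj (Over.mk (𝟙 U)))) = U := G.w_obj (Over.mk (𝟙 U))
  haveI := h1
  let δ₁ : (Stk.resSieve R 𝒳).obj (BasedFunctor.comp G (qB 𝒴)) ⟶
      (Stk.resSieve R 𝒳).obj (BasedFunctor.comp G' (qB 𝒴)) :=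
    BasedCategory.whiskerRight δ (qB 𝒴)
  obtain ⟨γ₁, hγ₁⟩ := (Stk.resSieve R 𝒳).map_surjective δ₁
  obtain ⟨m, hmdef⟩ : ∃ m : 𝒴.p.obj (G.obj (Over.mk (𝟙 U))) ⟶ 𝒴.p.obj (G'.obj (Over.mk (𝟙 U))),
      m = γ₁.toNatTrans.app (Over.mk (𝟙 U)) := ⟨_, rfl⟩
  have hm : 𝒳.p.IsHomLift (𝟙 U) m := by
    rw [hmdef]
    exact γ₁.isHomLift' (Over.mk (𝟙 U))
  have key : ∀ a : (Stk.sieveCat R).obj,
      𝒴.p.map (G.map (toTerminal U a.obj)) ≫ m =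
        𝒴.p.map (rApp δ a) ≫ 𝒴.p.map (G'.map (toTerminal U a.obj)) := by
    intro a
    have nat := γ₁.toNatTrans.naturality (toTerminal U a.obj)
    have e : γ₁.toNatTrans.app a.obj = 𝒴.p.map (rApp δ a) :=
      congrArg (fun γ => γ.toNatTrans.app a) hγ₁
    rw [hmdef]
    exact nat.trans (congrArg (fun s => s ≫ 𝒴.p.map (G'.map (toTerminal U a.obj))) e)
  obtain ⟨n, hn1, hn2⟩ := glue_tot R hX hY h2 hz m hm (fun z₀ χ μ => Pδ δ χ μ)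
    (by
      intro z₀ χ μ h
      obtain ⟨a, θ, hχ, hμ⟩ := h
      have e1 : 𝒴.p.map χ = 𝒴.p.map θ ≫ 𝒴.p.map (G.map (toTerminal U a.obj)) := by
        rw [hχ]; exact 𝒴.p.map_comp _ _
      have e2 : 𝒴.p.map μ = 𝒴.p.map θ ≫ 𝒴.p.map (rApp δ a) ≫
          𝒴.p.map (G'.map (toTerminal U a.obj)) := by
        rw [hμ]; exact (𝒴.p.map_comp _ _).trans (congrArg _ (𝒴.p.map_comp _ _))
      rw [e1, e2, Category.assoc, key a])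
    (by
      intro V f hf z₀ χ hχ
      obtain ⟨μ, -, hμ⟩ := Pδ_exists δ hZ f hf χ hχ
      exact ⟨μ, hμ⟩)
    (by
      intro V f hf z₀ χ μ μ' hχ h h'
      exact Pδ_uniq δ hZ f hf χ hχ μ μ' h h')
    (by
      intro z₀ z₁ χ μ κ h
      exact Pδ_pre δ χ μ κ h)
  refine ⟨n, hn1, fun a => ?_⟩
  have l : (𝒴.p ⋙ 𝒳.p).IsHomLift a.obj.hom (G.map (toTerminal U a.obj)) :=
    lift_toTerminal G a.obj
  exact Pδ_uniq δ hZ a.obj.hom a.property (G.map (toTerminal U a.obj)) l _ _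
    (hn2 a.obj.hom a.property _ (G.map (toTerminal U a.obj)) l) (Pδ_self δ a)

end Glue

section Eff

variable {U : C} {x : 𝒳.obj} (hx : 𝒳.p.obj x = U) (R : Sieve U)

/-- The functor from the lifted sieve on `x` to the sieve `R`. -/
def liftE : (Stk.sieveCat (liftSieve hx R)).obj ⥤ (Stk.sieveCat R).obj where
  obj c := ⟨Over.mk (𝒳.p.map c.obj.hom ≫ eqToHom hx), c.property⟩
  map {c c'} k := ObjectProperty.homMk (Over.homMk (𝒳.p.map k.hom.left) (by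
    show 𝒳.p.map k.hom.left ≫ (𝒳.p.map c'.obj.hom ≫ eqToHom hx) =
      𝒳.p.map c.obj.hom ≫ eqToHom hx
    rw [← Category.assoc, ← 𝒳.p.map_comp, Over.w k.hom]))
  map_id c := by
    apply ObjectProperty.hom_ext
    apply Over.OverMorphism.ext
    exact 𝒳.p.map_id _
  map_comp k l := by
    apply ObjectProperty.hom_ext
    apply Over.OverMorphism.ext
    exact 𝒳.p.map_comp _ _

/-- The object of the lifted sieve given by a morphism to `x`. -/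
def mkC {x₀ : 𝒳.obj} (χ : x₀ ⟶ x) (h : (liftSieve hx R) χ) :
    (Stk.sieveCat (liftSieve hx R)).obj := ⟨Over.mk χ, h⟩

/-- The comparison morphism from an object of the sieve to the image of a lift. -/
def jInv (a : (Stk.sieveCat R).obj) {x₀ : 𝒳.obj} (χ : x₀ ⟶ x)
    (hχ : 𝒳.p.IsHomLift a.obj.hom χ) (h : (liftSieve hx R) χ) (e : 𝒳.p.obj x₀ = a.obj.left) :
    a ⟶ (liftE hx R).obj (mkC hx R χ h) :=
  ObjectProperty.homMk (Over.homMk (eqToHom e.symm) (fac_eq' 𝒳.p a.obj.hom χ hχ hx e))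

end Eff

section Eff2

variable {𝒴}

theorem hasCone_tot (hX : FibCat.IsFibGrpd 𝒳.p) (hY : FibCat.IsFibGrpd 𝒴.p) {U : C}
    (R : Sieve U) [(Stk.resSieve R 𝒳).EssSurj]
    (h2 : ∀ {x : 𝒳.obj} (hx : 𝒳.p.obj x = U), (Stk.resSieve (liftSieve hx R) 𝒴).EssSurj)
    (D : Stk.sieveCat R ⥤ᵇ tot 𝒴) : HasCone R D := by
  obtain ⟨x, hx, ψ₀, hψ₀, hnat₀⟩ := hasCone_of_essSurj R (BasedFunctor.comp D (qB 𝒴))
  obtain ⟨ψ, hψdef⟩ : ∃ ψ : ∀ a : (Stk.sieveCat R).obj, 𝒴.p.obj (D.obj a) ⟶ x, ψ = ψ₀ :=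
    ⟨_, rfl⟩
  have hψ : ∀ a : (Stk.sieveCat R).obj, 𝒳.p.IsHomLift a.obj.hom (ψ a) := by
    rw [hψdef]; exact hψ₀
  have hnat : ∀ ⦃a b : (Stk.sieveCat R).obj⦄ (k : a ⟶ b),
      𝒴.p.map (D.map k) ≫ ψ b = ψ a := by
    rw [hψdef]; exact hnat₀
  -- the isomorphisms `θ`
  have hθ : ∀ c : (Stk.sieveCat (liftSieve hx R)).obj,
      ∃ θ : c.obj.left ≅ 𝒴.p.obj (D.obj ((liftE hx R).obj c)),
        𝒳.p.IsHomLift (𝟙 (𝒳.p.obj c.obj.left)) θ.hom ∧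
          θ.hom ≫ ψ ((liftE hx R).obj c) = c.obj.hom := by
    intro c
    haveI l2 : 𝒳.p.IsHomLift (𝒳.p.map c.obj.hom ≫ eqToHom hx) c.obj.hom :=
      lift_map_eqToHom 𝒳.p c.obj.hom hx
    haveI l3 : 𝒳.p.IsHomLift (𝒳.p.map c.obj.hom ≫ eqToHom hx) (ψ ((liftE hx R).obj c)) :=
      hψ ((liftE hx R).obj c)
    exact exists_factor_iso hX (𝒳.p.map c.obj.hom ≫ eqToHom hx) c.obj.hom
      (ψ ((liftE hx R).obj c))
  choose θ hθ1 hθ2 using hθ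
  have nat : ∀ {c c' : (Stk.sieveCat (liftSieve hx R)).obj} (k : c ⟶ c'),
      k.hom.left ≫ (θ c').hom = (θ c).hom ≫ 𝒴.p.map (D.map ((liftE hx R).map k)) := by
    intro c c' k
    haveI s1 : 𝒳.p.IsHomLift (𝒳.p.map c'.obj.hom ≫ eqToHom hx) (ψ ((liftE hx R).obj c')) :=
      hψ ((liftE hx R).obj c')
    haveI s2 : 𝒳.p.IsStronglyCartesian (𝒳.p.map c'.obj.hom ≫ eqToHom hx)
        (ψ ((liftE hx R).obj c')) := IsFibGrpd.sc hX _ _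
    haveI l1 : 𝒳.p.IsHomLift (𝒳.p.map k.hom.left) k.hom.left := IsHomLift.map 𝒳.p k.hom.left
    haveI l2 := hθ1 c'
    haveI l3 := hθ1 c
    haveI l4 : 𝒳.p.IsHomLift (𝒳.p.map k.hom.left) (𝒴.p.map (D.map ((liftE hx R).map k))) :=
      isHomLift_map_sieve (BasedFunctor.comp D (qB 𝒴)) ((liftE hx R).map k)
    have l5 : 𝒳.p.IsHomLift (𝒳.p.map k.hom.left) (k.hom.left ≫ (θ c').hom) :=
      IsHomLift.comp_lift_id_right 𝒳.p (𝒳.p.map k.hom.left) k.hom.left (θ c').hom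
    have l6 : 𝒳.p.IsHomLift (𝒳.p.map k.hom.left)
        ((θ c).hom ≫ 𝒴.p.map (D.map ((liftE hx R).map k))) :=
      IsHomLift.comp_lift_id_left 𝒳.p (𝒳.p.map k.hom.left)
        (𝒴.p.map (D.map ((liftE hx R).map k))) (θ c).hom
    apply IsStronglyCartesian.ext 𝒳.p (𝒳.p.map c'.obj.hom ≫ eqToHom hx)
      (ψ ((liftE hx R).obj c')) (𝒳.p.map k.hom.left)
    calc (k.hom.left ≫ (θ c').hom) ≫ ψ ((liftE hx R).obj c')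
        = k.hom.left ≫ c'.obj.hom := by rw [Category.assoc, hθ2 c']
      _ = c.obj.hom := Over.w k.hom
      _ = (θ c).hom ≫ ψ ((liftE hx R).obj c) := (hθ2 c).symm
      _ = (θ c).hom ≫ 𝒴.p.map (D.map ((liftE hx R).map k)) ≫ ψ ((liftE hx R).obj c') := by
          rw [hnat ((liftE hx R).map k)]
      _ = ((θ c).hom ≫ 𝒴.p.map (D.map ((liftE hx R).map k))) ≫ ψ ((liftE hx R).obj c') :=
          (Category.assoc _ _ _).symm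
  obtain ⟨ι, hι⟩ : ∃ ι : (Stk.sieveCat (liftSieve hx R)).p ≅
      (liftE hx R ⋙ D.toFunctor) ⋙ 𝒴.p, ∀ c, ι.hom.app c = (θ c).hom :=
    ⟨NatIso.ofComponents (fun c => θ c) (fun {c c'} k => nat k), fun c => rfl⟩
  obtain ⟨D', κ, hκ⟩ := strictify (𝒜 := Stk.sieveCat (liftSieve hx R)) hY
    (liftE hx R ⋙ D.toFunctor) ι
  have hκ' : ∀ c, 𝒴.p.IsHomLift (θ c).hom (κ.app c).hom := fun c => by
    have := hκ c
    rw [hι c] at this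
    exact this
  haveI := h2 hx
  obtain ⟨y, hy, ψ', hψ', hnat'⟩ := hasCone_of_essSurj (liftSieve hx R) D'
  -- the cone
  have hmem : ∀ a : (Stk.sieveCat R).obj, (liftSieve hx R) (ψ a) := fun a => by
    haveI := hψ a
    exact (liftSieve_iff hx R (ψ a) a.obj.hom).2 a.property
  have e : ∀ a : (Stk.sieveCat R).obj, 𝒳.p.obj (𝒴.p.obj (D.obj a)) = a.obj.left := fun a => by
    haveI := hψ a
    exact IsHomLift.domain_eq 𝒳.p a.obj.hom (ψ a)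
  obtain ⟨Ψ, hΨ⟩ : ∃ Ψ : ∀ a : (Stk.sieveCat R).obj, D.obj a ⟶ y, ∀ a, Ψ a =
      D.map (jInv hx R a (ψ a) (hψ a) (hmem a) (e a)) ≫
        (κ.app (mkC hx R (ψ a) (hmem a))).inv ≫ ψ' (mkC hx R (ψ a) (hmem a)) :=
    ⟨fun a => D.map (jInv hx R a (ψ a) (hψ a) (hmem a) (e a)) ≫
        (κ.app (mkC hx R (ψ a) (hmem a))).inv ≫ ψ' (mkC hx R (ψ a) (hmem a)), fun a => rfl⟩
  refine ⟨y, (congrArg 𝒳.p.obj hy).trans hx, Ψ, fun a => ?_, fun a b m => ?_⟩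
  · rw [hΨ a]
    let c := mkC hx R (ψ a) (hmem a)
    have t1 : (𝒴.p ⋙ 𝒳.p).IsHomLift (eqToHom (e a).symm)
        (D.map (jInv hx R a (ψ a) (hψ a) (hmem a) (e a))) :=
      isHomLift_map_sieve D (jInv hx R a (ψ a) (hψ a) (hmem a) (e a))
    have t2 : 𝒴.p.IsHomLift (θ c).inv (κ.app c).inv :=
      inv_lift_inv' 𝒴.p (θ c) (κ.app c) (hκ' c)
    have t3 : 𝒴.p.IsHomLift (ψ a) (ψ' c) := hψ' c
    have t4 : 𝒴.p.IsHomLift ((θ c).inv ≫ ψ a) ((κ.app c).inv ≫ ψ' c) :=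
      lift_comp' 𝒴.p (θ c).inv (ψ a) (κ.app c).inv (ψ' c) t2 t3
    have e5 : (θ c).inv ≫ ψ a = ψ ((liftE hx R).obj c) :=
      (Iso.inv_comp_eq (θ c)).2 (hθ2 c).symm
    have t5 : 𝒴.p.IsHomLift (ψ ((liftE hx R).obj c)) ((κ.app c).inv ≫ ψ' c) :=
      isHomLift_congr 𝒴.p e5 _ t4
    have t6 : 𝒳.p.IsHomLift (𝒳.p.map (ψ a) ≫ eqToHom hx) (ψ ((liftE hx R).obj c)) :=
      hψ ((liftE hx R).obj c)
    have t7 : (𝒴.p ⋙ 𝒳.p).IsHomLift (𝒳.p.map (ψ a) ≫ eqToHom hx) ((κ.app c).inv ≫ ψ' c) :=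
      isHomLift_comp' 𝒴.p 𝒳.p _ (ψ ((liftE hx R).obj c)) _ t5 t6
    have t8 : (𝒴.p ⋙ 𝒳.p).IsHomLift (eqToHom (e a).symm ≫ (𝒳.p.map (ψ a) ≫ eqToHom hx))
        (D.map (jInv hx R a (ψ a) (hψ a) (hmem a) (e a)) ≫ (κ.app c).inv ≫ ψ' c) :=
      lift_comp' (𝒴.p ⋙ 𝒳.p) _ _ _ _ t1 t7
    exact isHomLift_congr (𝒴.p ⋙ 𝒳.p) (fac_eq' 𝒳.p a.obj.hom (ψ a) (hψ a) hx (e a)) _ t8
  · rw [hΨ a, hΨ b]
    let ca := mkC hx R (ψ a) (hmem a)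
    let cb := mkC hx R (ψ b) (hmem b)
    let n : ca ⟶ cb := ObjectProperty.homMk (Over.homMk (𝒴.p.map (D.map m)) (hnat m))
    have h3 : m ≫ jInv hx R b (ψ b) (hψ b) (hmem b) (e b) =
        jInv hx R a (ψ a) (hψ a) (hmem a) (e a) ≫ (liftE hx R).map n := by
      haveI lm : 𝒳.p.IsHomLift m.hom.left (𝒴.p.map (D.map m)) :=
        isHomLift_map_sieve (BasedFunctor.comp D (qB 𝒴)) m
      have hfac := map_eq_of_lift 𝒳.p m.hom.left (𝒴.p.map (D.map m)) (e a) (e b)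
      apply ObjectProperty.hom_ext
      apply Over.OverMorphism.ext
      show m.hom.left ≫ eqToHom (e b).symm =
        eqToHom (e a).symm ≫ 𝒳.p.map (𝒴.p.map (D.map m))
      rw [hfac]; simp
    have hκnat : D.map ((liftE hx R).map n) ≫ (κ.app cb).inv = (κ.app ca).inv ≫ D'.map n :=
      κ.inv.naturality n
    calc D.map m ≫ D.map (jInv hx R b (ψ b) (hψ b) (hmem b) (e b)) ≫ (κ.app cb).inv ≫ ψ' cb
        = D.map (m ≫ jInv hx R b (ψ b) (hψ b) (hmem b) (e b)) ≫ (κ.app cb).inv ≫ ψ' cb := by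
          rw [D.map_comp, Category.assoc]
      _ = D.map (jInv hx R a (ψ a) (hψ a) (hmem a) (e a) ≫ (liftE hx R).map n) ≫
            (κ.app cb).inv ≫ ψ' cb := by rw [h3]
      _ = D.map (jInv hx R a (ψ a) (hψ a) (hmem a) (e a)) ≫
            (D.map ((liftE hx R).map n) ≫ (κ.app cb).inv) ≫ ψ' cb := by
          rw [D.map_comp]; simp only [Category.assoc]
      _ = D.map (jInv hx R a (ψ a) (hψ a) (hmem a) (e a)) ≫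
            ((κ.app ca).inv ≫ D'.map n) ≫ ψ' cb := by rw [hκnat]
      _ = D.map (jInv hx R a (ψ a) (hψ a) (hmem a) (e a)) ≫ (κ.app ca).inv ≫ ψ' ca := by
          rw [Category.assoc, hnat' n]

end Eff2

section Main

theorem isStack_tot (J : GrothendieckTopology C) (hX : Stk.IsStack J 𝒳)
    (hY : Stk.IsStack (𝒳.p.restrictedTopology J) 𝒴) : Stk.IsStack J (tot 𝒴) := by
  refine ⟨isFibGrpd_tot 𝒴 hX.1 hY.1, fun U R hR => ?_⟩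
  haveI e1 : (Stk.resSieve R 𝒳).IsEquivalence := hX.2 R hR
  have e2 : ∀ {x : 𝒳.obj} (hx : 𝒳.p.obj x = U),
      (Stk.resSieve (liftSieve hx R) 𝒴).IsEquivalence :=
    fun hx => hY.2 (liftSieve hx R) (liftSieve_mem J hX.1 hx hR)
  haveI f1 : (Stk.resSieve R (tot 𝒴)).Faithful :=
    faithful_tot R hX.1 hY.1 inferInstance (fun hx => by haveI := e2 hx; infer_instance)
  haveI f2 : (Stk.resSieve R (tot 𝒴)).Full :=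
    full_tot R hX.1 hY.1 inferInstance (fun hx => by haveI := e2 hx; infer_instance)
  haveI f3 : (Stk.resSieve R (tot 𝒴)).EssSurj := ⟨fun D => by
    obtain ⟨G, ⟨i⟩⟩ := exists_iso_of_hasCone R (isFibGrpd_tot 𝒴 hX.1 hY.1) D
      (hasCone_tot hX.1 hY.1 R (fun hx => by haveI := e2 hx; infer_instance) D)
    exact ⟨G, ⟨i⟩⟩⟩
  show (Stk.resSieve R (tot 𝒴)).IsEquivalence
  exact {}

end Main

end Groth.Agent.Lib.Helper10.StkComp
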