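import Mathlib
import Groth.Prelude.Def_AlgSt
import Groth.Agent.Lib.Helper10.StkComp

/-!
# A stack over `C` fibred in groupoids over a stack is a stack over it

For `𝒳` a stack in groupoids over `(C, J)` and `𝒴` fibred in groupoids over `𝒳` whose total
category is a stack over `(C, J)`, the category `𝒴` is a stack over `𝒳` for the topology
inherited from `J`.

* `pushforward_mem`: covering sieves of the inherited topology have covering images.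
* `liftSieve_pushforward`: a sieve on `x` is the lift of its image.
* `cone_cmp`: comparison of a cone with the tautological cone of the lifted sieve.
* `faithful_base`, `full_base`, `hasCone_base`: the three parts.
* `isStack_base`: the theorem.
-/

set_option autoImplicit false
set_option linter.style.haveILetI false
set_option backward.isDefEq.respectTransparency false
set_option backward.isDefEq.respectTransparency.types false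

universe v₃ u₃ v₂ u₂ v u

open CategoryTheory Functor

namespace Groth.Agent.Lib.Helper10.StkOver

open Groth.Agent.Lib.Helper10.Fib Groth.Agent.Lib.Helper10.Gerbe
  Groth.Agent.Lib.Helper10.HomSheaf Groth.Agent.Lib.Helper10.StkRefine
  Groth.Agent.Lib.Helper10.StkElem Groth.Agent.Lib.Helper10.StkComp

section Base

variable {𝒮 : Type u} [Category.{v} 𝒮] {𝒳 : Type u₂} [Category.{v₂} 𝒳] (p : 𝒳 ⥤ 𝒮)

lemma comp_lift_id_left' {a b c : 𝒳} {S T : 𝒮} (f : S ⟶ T) (ψ : b ⟶ c) (φ : a ⟶ b)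
    (h1 : p.IsHomLift f ψ) (h2 : p.IsHomLift (𝟙 S) φ) : p.IsHomLift f (φ ≫ ψ) := by
  haveI := h1
  haveI := h2
  exact IsHomLift.comp_lift_id_left p f ψ φ

end Base

variable {C : Type u} [Category.{v} C] {𝒳 : BasedCategory.{v₂, u₂} C}

section Topology

theorem pushforward_mem (J : GrothendieckTopology C) (hX : FibCat.IsFibGrpd 𝒳.p) {x : 𝒳.obj}
    {T : Sieve x} (hT : T ∈ 𝒳.p.restrictedTopology J x) :
    T.functorPushforward 𝒳.p ∈ J (𝒳.p.obj x) := by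
  have hT' : (Precoverage.comap 𝒳.p J.toPrecoverage).Saturate x T := hT
  clear hT
  induction hT' with
  | of y S hS =>
    have h1 : Sieve.generate (S.map 𝒳.p) ∈ J (𝒳.p.obj y) :=
      (GrothendieckTopology.mem_toPrecoverage_iff J _).1 hS
    rwa [Sieve.generate_map_eq_functorPushforward] at h1
  | top y =>
    rw [Sieve.functorPushforward_top]
    exact J.top_mem _
  | pullback y S _ y' f ih =>
    refine J.superset_covering ?_ (J.pullback_stable (𝒳.p.map f) ih)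
    intro V g hg
    obtain ⟨z, s, h, hs, e⟩ := hg
    obtain ⟨z', s', hs'⟩ := hX.exists_lift (x := y') g
    haveI := hs'
    have e0 : 𝒳.p.obj z' = V := IsHomLift.domain_eq 𝒳.p g s'
    haveI hsc : 𝒳.p.IsStronglyCartesian (𝒳.p.map s) s := hX.isStronglyCartesian s
    haveI l1 : 𝒳.p.IsHomLift (𝒳.p.map f) f := IsHomLift.map 𝒳.p f
    haveI l2 : 𝒳.p.IsHomLift (g ≫ 𝒳.p.map f) (s' ≫ f) :=
      IsHomLift.comp 𝒳.p g (𝒳.p.map f) s' f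
    obtain ⟨t, ⟨-, ht2⟩, -⟩ := IsStronglyCartesian.universal_property 𝒳.p (𝒳.p.map s) s h
      (g ≫ 𝒳.p.map f) e (s' ≫ f)
    refine ⟨z', s', eqToHom e0.symm, ?_, ?_⟩
    · show S (s' ≫ f)
      rw [← ht2]
      exact S.downward_closed hs t
    · rw [IsHomLift.fac' 𝒳.p g s']; simp
  | transitive y S R' _ _ ih1 ih2 =>
    refine J.transitive ih1 _ ?_
    intro V g hg
    obtain ⟨z, s, h, hs, rfl⟩ := hg
    refine J.superset_covering ?_ (J.pullback_stable h (ih2 hs))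
    intro W k hk
    obtain ⟨z'', s'', h'', hs'', e⟩ := hk
    refine ⟨z'', s'' ≫ s, h'', hs'', ?_⟩
    calc k ≫ h ≫ 𝒳.p.map s = (k ≫ h) ≫ 𝒳.p.map s := (Category.assoc _ _ _).symm
      _ = (h'' ≫ 𝒳.p.map s'') ≫ 𝒳.p.map s := by rw [e]
      _ = h'' ≫ 𝒳.p.map (s'' ≫ s) := by rw [Category.assoc, ← 𝒳.p.map_comp]

theorem liftSieve_pushforward (hX : FibCat.IsFibGrpd 𝒳.p) {x : 𝒳.obj} (T : Sieve x) :
    liftSieve (rfl : 𝒳.p.obj x = 𝒳.p.obj x) (T.functorPushforward 𝒳.p) = T := by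
  ext V f
  constructor
  · intro hf
    have hf' : (T.functorPushforward 𝒳.p) (𝒳.p.map f) := by
      have : (T.functorPushforward 𝒳.p) (𝒳.p.map f ≫ eqToHom rfl) := hf
      simpa using this
    obtain ⟨z, s, h, hs, e⟩ := hf'
    haveI hsc : 𝒳.p.IsStronglyCartesian (𝒳.p.map s) s := hX.isStronglyCartesian s
    haveI l1 : 𝒳.p.IsHomLift (𝒳.p.map f) f := IsHomLift.map 𝒳.p f
    obtain ⟨t, ⟨-, ht2⟩, -⟩ := IsStronglyCartesian.universal_property 𝒳.p (𝒳.p.map s) s h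
      (𝒳.p.map f) e f
    rw [← ht2]
    exact T.downward_closed hs t
  · intro hf
    show (T.functorPushforward 𝒳.p) (𝒳.p.map f ≫ eqToHom rfl)
    exact ⟨V, f, 𝟙 _, hf, by simp⟩

end Topology

section ConeCmp

theorem cone_cmp (hX : FibCat.IsFibGrpd 𝒳.p) {U : C} (R : Sieve U)
    (hF : (Stk.resSieve R 𝒳).Full) {x x₁ : 𝒳.obj} (hx : 𝒳.p.obj x = U)
    (hx₁ : 𝒳.p.obj x₁ = U)
    (ξ : ∀ c : (Stk.sieveCat (liftSieve hx R)).obj, c.obj.left ⟶ x₁)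
    (hξ : ∀ c, 𝒳.p.IsHomLift (𝒳.p.map c.obj.hom ≫ eqToHom hx) (ξ c))
    (hnat : ∀ ⦃c c' : (Stk.sieveCat (liftSieve hx R)).obj⦄ (m : c ⟶ c'),
      m.hom.left ≫ ξ c' = ξ c) :
    ∃ β : x₁ ⟶ x, 𝒳.p.IsHomLift (𝟙 U) β ∧ ∀ c, ξ c ≫ β = c.obj.hom := by
  have hξ' : ∀ {V : C} (f : V ⟶ U) {x₀ : 𝒳.obj} (μ : x₀ ⟶ x) (hμ : (liftSieve hx R) μ),
      𝒳.p.IsHomLift f μ → 𝒳.p.IsHomLift f (ξ (mkC hx R μ hμ)) := by
    intro V f x₀ μ hμ hl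
    haveI := hl
    have e : 𝒳.p.obj x₀ = V := IsHomLift.domain_eq 𝒳.p f μ
    have h1 : 𝒳.p.IsHomLift (𝒳.p.map μ ≫ eqToHom hx) (ξ (mkC hx R μ hμ)) :=
      hξ (mkC hx R μ hμ)
    have h2 : 𝒳.p.IsHomLift (eqToHom e ≫ f) (ξ (mkC hx R μ hμ)) :=
      isHomLift_congr 𝒳.p (fac_eq 𝒳.p f μ hx e).symm _ h1
    exact (IsHomLift.lift_eqToHom_comp_iff 𝒳.p f (ξ (mkC hx R μ hμ)) e).1 h2
  have KC : ∀ {x₀ x₀' : 𝒳.obj} (μ : x₀ ⟶ x) (hμ : (liftSieve hx R) μ) (κ : x₀' ⟶ x₀)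
      (hκ : (liftSieve hx R) (κ ≫ μ)),
      κ ≫ ξ (mkC hx R μ hμ) = ξ (mkC hx R (κ ≫ μ) hκ) := by
    intro x₀ x₀' μ hμ κ hκ
    exact hnat (ObjectProperty.homMk (Over.homMk κ rfl) :
      mkC hx R (κ ≫ μ) hκ ⟶ mkC hx R μ hμ)
  have huniq : ∀ ⦃V : C⦄ (f : V ⟶ U), R f → ∀ (x₀ : 𝒳.obj) (χ : x₀ ⟶ x₁) (μ μ' : x₀ ⟶ x),
      𝒳.p.IsHomLift f χ → 𝒳.p.IsHomLift f μ → 𝒳.p.IsHomLift f μ' →
      (∃ hμ : (liftSieve hx R) μ, ξ (mkC hx R μ hμ) = χ) →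
      (∃ hμ : (liftSieve hx R) μ', ξ (mkC hx R μ' hμ) = χ) → μ = μ' := by
    intro V f hf x₀ χ μ μ' hχ hμl hμ'l h h'
    obtain ⟨hμ, e1⟩ := h
    obtain ⟨hμ', e2⟩ := h'
    haveI := hχ
    haveI := hμl
    haveI := hμ'l
    obtain ⟨α, hα1, hα2⟩ := exists_factor hX f μ' μ
    haveI := hα1
    subst hα2
    have e3 : α ≫ χ = χ := by
      calc α ≫ χ = α ≫ ξ (mkC hx R μ hμ) := by rw [e1]
        _ = ξ (mkC hx R (α ≫ μ) hμ') := KC μ hμ α hμ'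
        _ = χ := e2
    haveI hsc : 𝒳.p.IsStronglyCartesian f χ := IsFibGrpd.sc hX f χ
    haveI lid : 𝒳.p.IsHomLift (𝟙 V) (𝟙 x₀) := IsHomLift.id (IsHomLift.domain_eq 𝒳.p f χ)
    have hα : α = 𝟙 x₀ := IsStronglyCartesian.ext 𝒳.p f χ (𝟙 V) (by rw [e3, Category.id_comp])
    rw [hα, Category.id_comp]
  obtain ⟨β, hβ, hP⟩ := HomSheaf.glue R hX hF hx₁ hx
    (fun x₀ χ μ => ∃ hμ : (liftSieve hx R) μ, ξ (mkC hx R μ hμ) = χ)
    (by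
      intro V f hf x₀ χ hχ
      haveI := hχ
      obtain ⟨x', ρ, hρ⟩ := IsFibGrpd.exists_lift' hX hx f
      haveI := hρ
      have hρl : 𝒳.p.IsHomLift f ρ := inferInstance
      have hρT : (liftSieve hx R) ρ := (liftSieve_iff hx R ρ f).2 hf
      haveI l1 : 𝒳.p.IsHomLift f (ξ (mkC hx R ρ hρT)) := hξ' f ρ hρT hρl
      obtain ⟨θ, hθ1, hθ2⟩ := exists_factor hX f χ (ξ (mkC hx R ρ hρT))
      haveI := hθ1
      have l2 : 𝒳.p.IsHomLift f (θ ≫ ρ) := IsHomLift.comp_lift_id_left 𝒳.p f ρ θ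
      have hT2 : (liftSieve hx R) (θ ≫ ρ) := (liftSieve hx R).downward_closed hρT θ
      exact ⟨θ ≫ ρ, l2, hT2, (KC ρ hρT θ hT2).symm.trans hθ2⟩)
    huniq
    (by
      intro x₀ x₁' χ μ κ h
      obtain ⟨hμ, e1⟩ := h
      have hκ : (liftSieve hx R) (κ ≫ μ) := (liftSieve hx R).downward_closed hμ κ
      exact ⟨hκ, by rw [← KC μ hμ κ hκ, e1]⟩)
  refine ⟨β, hβ, fun c => ?_⟩
  haveI := hβ
  have hc : 𝒳.p.IsHomLift (𝒳.p.map c.obj.hom ≫ eqToHom hx) (ξ c) := hξ c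
  haveI := hc
  have hR : R (𝒳.p.map c.obj.hom ≫ eqToHom hx) := c.property
  have lb : 𝒳.p.IsHomLift (𝒳.p.map c.obj.hom ≫ eqToHom hx) (ξ c ≫ β) :=
    IsHomLift.comp_lift_id_right 𝒳.p (𝒳.p.map c.obj.hom ≫ eqToHom hx) (ξ c) β
  have lc : 𝒳.p.IsHomLift (𝒳.p.map c.obj.hom ≫ eqToHom hx) c.obj.hom :=
    lift_map_eqToHom 𝒳.p c.obj.hom hx
  exact huniq _ hR _ (ξ c) (ξ c ≫ β) c.obj.hom hc lb lc (hP _ hR _ (ξ c) hc)
    ⟨c.property, rfl⟩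

end ConeCmp

variable {𝒴 : BasedCategory.{v₃, u₃} 𝒳.obj}

section Parts

variable {U : C} (R : Sieve U)

lemma transl {x : 𝒳.obj} (hx : 𝒳.p.obj x = U) {z : 𝒴.obj} (hz : 𝒴.p.obj z = x)
    {V : C} (f : V ⟶ U) (hf : R f) {z₀ : 𝒴.obj} (χ : z₀ ⟶ z)
    (hχ : (𝒴.p ⋙ 𝒳.p).IsHomLift f χ) :
    (liftSieve hx R) (𝒴.p.map χ ≫ eqToHom hz) ∧
      𝒴.p.IsHomLift (𝒴.p.map χ ≫ eqToHom hz) χ ∧
        𝒳.p.IsHomLift f (𝒴.p.map χ ≫ eqToHom hz) := by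
  haveI := hχ
  haveI l1 : 𝒳.p.IsHomLift f (𝒴.p.map χ) := isHomLift_map_of_comp 𝒴.p 𝒳.p f χ
  have l2 : 𝒳.p.IsHomLift f (𝒴.p.map χ ≫ eqToHom hz) := inferInstance
  haveI := l2
  exact ⟨(liftSieve_iff hx R (𝒴.p.map χ ≫ eqToHom hz) f).2 hf, lift_map_eqToHom 𝒴.p χ hz, l2⟩

theorem faithful_base (hX : FibCat.IsFibGrpd 𝒳.p) (hY : FibCat.IsFibGrpd 𝒴.p) {x : 𝒳.obj}
    (hx : 𝒳.p.obj x = U) (h1 : (Stk.resSieve R (tot 𝒴)).Faithful) :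
    (Stk.resSieve (liftSieve hx R) 𝒴).Faithful := by
  have hZ := isFibGrpd_tot 𝒴 hX hY
  apply faithful_of (liftSieve hx R) hY
  intro G G' n₁ n₂ hn₁ hn₂ H
  have hz : 𝒴.p.obj (G.obj (Over.mk (𝟙 x))) = x := G.w_obj (Over.mk (𝟙 x))
  have hzU : 𝒳.p.obj (𝒴.p.obj (G.obj (Over.mk (𝟙 x)))) = U := (congrArg 𝒳.p.obj hz).trans hx
  have lid : 𝒳.p.IsHomLift (𝟙 U) (𝟙 x) := IsHomLift.id hx
  have l1 : (𝒴.p ⋙ 𝒳.p).IsHomLift (𝟙 U) n₁ := isHomLift_comp' 𝒴.p 𝒳.p (𝟙 U) (𝟙 x) n₁ hn₁ lid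
  have l2 : (𝒴.p ⋙ 𝒳.p).IsHomLift (𝟙 U) n₂ := isHomLift_comp' 𝒴.p 𝒳.p (𝟙 U) (𝟙 x) n₂ hn₂ lid
  refine HomSheaf.sep (𝒳 := tot 𝒴) R hZ h1 hzU n₁ n₂ l1 l2 ?_
  intro V f hf z₀ χ hχ
  obtain ⟨t1, t2, -⟩ := transl R hx hz f hf χ hχ
  exact comp_eq_of_terminal (liftSieve hx R) hY G n₁ n₂ H (𝒴.p.map χ ≫ eqToHom hz) t1 χ t2

theorem full_base (hX : FibCat.IsFibGrpd 𝒳.p) (hY : FibCat.IsFibGrpd 𝒴.p) {x : 𝒳.obj}
    (hx : 𝒳.p.obj x = U) (h0 : (Stk.resSieve R 𝒳).Faithful)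
    (h1 : (Stk.resSieve R (tot 𝒴)).Full) :
    (Stk.resSieve (liftSieve hx R) 𝒴).Full := by
  have hZ := isFibGrpd_tot 𝒴 hX hY
  apply full_of (liftSieve hx R) hY
  intro G G' δ
  have hz : 𝒴.p.obj (G.obj (Over.mk (𝟙 x))) = x := G.w_obj (Over.mk (𝟙 x))
  have hz' : 𝒴.p.obj (G'.obj (Over.mk (𝟙 x))) = x := G'.w_obj (Over.mk (𝟙 x))
  have hzU : 𝒳.p.obj (𝒴.p.obj (G.obj (Over.mk (𝟙 x)))) = U := (congrArg 𝒳.p.obj hz).trans hx
  have hz'U : 𝒳.p.obj (𝒴.p.obj (G'.obj (Over.mk (𝟙 x)))) = U :=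
    (congrArg 𝒳.p.obj hz').trans hx
  obtain ⟨n, hn, hP⟩ := HomSheaf.glue (𝒳 := tot 𝒴) R hZ h1 hzU hz'U
    (fun z₀ χ μ => Pδ δ χ μ)
    (by
      intro V f hf z₀ χ hχ
      obtain ⟨t1, t2, t3⟩ := transl R hx hz f hf χ hχ
      obtain ⟨μ, hμ1, hμ2⟩ := Pδ_exists δ hY (𝒴.p.map χ ≫ eqToHom hz) t1 χ t2
      exact ⟨μ, isHomLift_comp' 𝒴.p 𝒳.p f (𝒴.p.map χ ≫ eqToHom hz) μ hμ1 t3, hμ2⟩)
    (by
      intro V f hf z₀ χ μ μ' hχ _ _ h h'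
      obtain ⟨t1, t2, -⟩ := transl R hx hz f hf χ hχ
      exact Pδ_uniq δ hY (𝒴.p.map χ ≫ eqToHom hz) t1 χ t2 μ μ' h h')
    (by
      intro z₀ z₁ χ μ κ h
      exact Pδ_pre δ χ μ κ h)
  have hn' : (𝒴.p ⋙ 𝒳.p).IsHomLift (𝟙 U) n := hn
  haveI := hn'
  have ln : 𝒳.p.IsHomLift (𝟙 U) (𝒴.p.map n) := isHomLift_map_of_comp 𝒴.p 𝒳.p (𝟙 U) n
  haveI := ln
  have lν : 𝒳.p.IsHomLift (𝟙 U) (eqToHom hz.symm ≫ 𝒴.p.map n ≫ eqToHom hz') := inferInstance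
  have lid : 𝒳.p.IsHomLift (𝟙 U) (𝟙 x) := IsHomLift.id hx
  have hν : eqToHom hz.symm ≫ 𝒴.p.map n ≫ eqToHom hz' = 𝟙 x := by
    apply HomSheaf.sep R hX h0 hx _ _ lν lid
    intro V f hf x₀ ρ hρ
    haveI := hρ
    have hρT : (liftSieve hx R) ρ := (liftSieve_iff hx R ρ f).2 hf
    obtain ⟨z₀, χ, hχsc⟩ := IsFibGrpd.exists_lift' hY hz ρ
    haveI := hχsc
    have hχ : 𝒴.p.IsHomLift ρ χ := inferInstance
    have hχZ : (𝒴.p ⋙ 𝒳.p).IsHomLift f χ := isHomLift_comp' 𝒴.p 𝒳.p f ρ χ hχ hρ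
    have h1' : Pδ δ χ (χ ≫ n) := hP f hf z₀ χ hχZ
    obtain ⟨μ, hμ1, hμ2⟩ := Pδ_exists δ hY ρ hρT χ hχ
    have e : χ ≫ n = μ := Pδ_uniq δ hY ρ hρT χ hχ _ _ h1' hμ2
    haveI lμ : 𝒴.p.IsHomLift ρ (χ ≫ n) := by rw [e]; exact hμ1
    have e₀ : 𝒴.p.obj z₀ = x₀ := IsHomLift.domain_eq 𝒴.p ρ χ
    have a1 := map_eq_of_lift 𝒴.p ρ χ e₀ hz
    have a2 := map_eq_of_lift 𝒴.p ρ (χ ≫ n) e₀ hz'
    rw [𝒴.p.map_comp, a1] at a2
    have a3 : ρ ≫ eqToHom hz.symm ≫ 𝒴.p.map n = ρ ≫ eqToHom hz'.symm := by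
      apply (cancel_epi (eqToHom e₀)).1
      simpa only [Category.assoc] using a2
    calc ρ ≫ eqToHom hz.symm ≫ 𝒴.p.map n ≫ eqToHom hz'
        = (ρ ≫ eqToHom hz.symm ≫ 𝒴.p.map n) ≫ eqToHom hz' := by simp only [Category.assoc]
      _ = (ρ ≫ eqToHom hz'.symm) ≫ eqToHom hz' := by rw [a3]
      _ = ρ ≫ 𝟙 x := by simp
  have lq : 𝒴.p.IsHomLift (𝟙 x) n := IsHomLift.of_fac 𝒴.p (𝟙 x) n hz hz' hν.symm
  refine ⟨n, lq, fun c => ?_⟩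
  have lc : 𝒴.p.IsHomLift c.obj.hom (G.map (toTerminal x c.obj)) := lift_toTerminal G c.obj
  have lp : 𝒳.p.IsHomLift (𝒳.p.map c.obj.hom ≫ eqToHom hx) c.obj.hom :=
    lift_map_eqToHom 𝒳.p c.obj.hom hx
  have lZ : (𝒴.p ⋙ 𝒳.p).IsHomLift (𝒳.p.map c.obj.hom ≫ eqToHom hx)
      (G.map (toTerminal x c.obj)) :=
    isHomLift_comp' 𝒴.p 𝒳.p _ c.obj.hom _ lc lp
  exact Pδ_uniq δ hY c.obj.hom c.property (G.map (toTerminal x c.obj)) lc _ _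
    (hP _ c.property _ (G.map (toTerminal x c.obj)) lZ) (Pδ_self δ c)

end Parts

section Section

variable {U : C} {x : 𝒳.obj} (hx : 𝒳.p.obj x = U) (R : Sieve U)
  (G : FibCat.overCat U ⥤ᵇ 𝒳) (j : G.obj (Over.mk (𝟙 U)) ⟶ x)

/-- The canonical morphisms to `x`. -/
def piG (A : Over U) : G.obj A ⟶ x := G.map (toTerminal U A) ≫ j

lemma piG_comp {A B : Over U} (k : A ⟶ B) : G.map k ≫ piG G j B = piG G j A := by
  unfold piG
  rw [← Category.assoc, map_toTerminal_comp U G k]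

variable (hj : 𝒳.p.IsHomLift (𝟙 U) j)

include hj in
lemma piG_lift (A : Over U) : 𝒳.p.IsHomLift A.hom (piG G j A) := by
  haveI := hj
  exact isHomLift_chi G j A

include hj in
lemma piG_mem (a : (Stk.sieveCat R).obj) : (liftSieve hx R) (piG G j a.obj) := by
  haveI := piG_lift G j hj a.obj
  exact (liftSieve_iff hx R (piG G j a.obj) a.obj.hom).2 a.property

/-- The section of `liftE` defined by `G`. -/
def secS : (Stk.sieveCat R).obj ⥤ (Stk.sieveCat (liftSieve hx R)).obj where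
  obj a := mkC hx R (piG G j a.obj) (piG_mem hx R G j hj a)
  map {a b} k := ObjectProperty.homMk (Over.homMk (G.map k.hom) (piG_comp G j k.hom))
  map_id a := by
    apply ObjectProperty.hom_ext
    apply Over.OverMorphism.ext
    exact G.map_id _
  map_comp k l := by
    apply ObjectProperty.hom_ext
    apply Over.OverMorphism.ext
    exact G.map_comp _ _

/-- The descent datum for the total category induced by a datum on the lifted sieve. -/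
def datumS (D : Stk.sieveCat (liftSieve hx R) ⥤ᵇ 𝒴) : Stk.sieveCat R ⥤ᵇ tot 𝒴 where
  toFunctor := secS hx R G j hj ⋙ D.toFunctor
  w := by
    have h1 : D.toFunctor ⋙ 𝒴.p = (Stk.sieveCat (liftSieve hx R)).p := D.w
    have h3 : G.toFunctor ⋙ 𝒳.p = (FibCat.overCat U).p := G.w
    calc (secS hx R G j hj ⋙ D.toFunctor) ⋙ (𝒴.p ⋙ 𝒳.p)
        = secS hx R G j hj ⋙ ((D.toFunctor ⋙ 𝒴.p) ⋙ 𝒳.p) := rfl
      _ = secS hx R G j hj ⋙ ((Stk.sieveCat (liftSieve hx R)).p ⋙ 𝒳.p) := by rw [h1]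
      _ = (Stk.sieveIncl R).toFunctor ⋙ (G.toFunctor ⋙ 𝒳.p) := rfl
      _ = (Stk.sieveIncl R).toFunctor ⋙ (FibCat.overCat U).p := by rw [h3]
      _ = (Stk.sieveCat R).p := rfl

end Section

section Eff

theorem hasCone_base (hX : FibCat.IsFibGrpd 𝒳.p) (hY : FibCat.IsFibGrpd 𝒴.p) {U : C}
    (R : Sieve U) (hfull : (Stk.resSieve R 𝒳).Full) [(Stk.resSieve R (tot 𝒴)).EssSurj]
    {x : 𝒳.obj} (hx : 𝒳.p.obj x = U) (D : Stk.sieveCat (liftSieve hx R) ⥤ᵇ 𝒴) :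
    HasCone (liftSieve hx R) D := by
  obtain ⟨G, j, hj⟩ := exists_rep hX hx
  -- cone in the total category
  obtain ⟨w₁, hw₁, ψ₃, hψ₃, hnat₃⟩ := hasCone_of_essSurj R (datumS hx R G j.hom hj D)
  have hw₁' : 𝒳.p.obj (𝒴.p.obj w₁) = U := hw₁
  have hD : ∀ c : (Stk.sieveCat (liftSieve hx R)).obj, 𝒴.p.obj (D.obj c) = c.obj.left :=
    fun c => D.w_obj c
  -- the comparison morphisms `τ`
  have hτ : ∀ c : (Stk.sieveCat (liftSieve hx R)).obj,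
      ∃ τ : c ⟶ (secS hx R G j.hom hj).obj ((liftE hx R).obj c),
        𝒳.p.IsHomLift (𝟙 (𝒳.p.obj c.obj.left)) τ.hom.left := by
    intro c
    haveI l2 : 𝒳.p.IsHomLift (𝒳.p.map c.obj.hom ≫ eqToHom hx) c.obj.hom :=
      lift_map_eqToHom 𝒳.p c.obj.hom hx
    haveI l3 : 𝒳.p.IsHomLift (𝒳.p.map c.obj.hom ≫ eqToHom hx)
        (piG G j.hom ((liftE hx R).obj c).obj) := piG_lift G j.hom hj ((liftE hx R).obj c).obj
    obtain ⟨θ, h1, h2⟩ := exists_factor hX (𝒳.p.map c.obj.hom ≫ eqToHom hx) c.obj.hom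
      (piG G j.hom ((liftE hx R).obj c).obj)
    exact ⟨ObjectProperty.homMk (Over.homMk θ h2), h1⟩
  choose τ hτ1 using hτ
  have τnat : ∀ {c c' : (Stk.sieveCat (liftSieve hx R)).obj} (k : c ⟶ c'),
      k ≫ τ c' = τ c ≫ (secS hx R G j.hom hj).map ((liftE hx R).map k) := by
    intro c c' k
    apply ObjectProperty.hom_ext
    apply Over.OverMorphism.ext
    show k.hom.left ≫ (τ c').hom.left = (τ c).hom.left ≫ G.map ((liftE hx R).map k).hom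
    haveI s1 : 𝒳.p.IsHomLift (𝒳.p.map c'.obj.hom ≫ eqToHom hx)
        (piG G j.hom ((liftE hx R).obj c').obj) :=
      piG_lift G j.hom hj ((liftE hx R).obj c').obj
    haveI s2 : 𝒳.p.IsStronglyCartesian (𝒳.p.map c'.obj.hom ≫ eqToHom hx)
        (piG G j.hom ((liftE hx R).obj c').obj) := IsFibGrpd.sc hX _ _
    haveI l1 : 𝒳.p.IsHomLift (𝒳.p.map k.hom.left) k.hom.left := IsHomLift.map 𝒳.p k.hom.left
    haveI l2 := hτ1 c'
    haveI l3 := hτ1 c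
    haveI l4 : 𝒳.p.IsHomLift (𝒳.p.map k.hom.left) (G.map ((liftE hx R).map k).hom) :=
      isHomLift_map_over U G ((liftE hx R).map k).hom
    have l5 : 𝒳.p.IsHomLift (𝒳.p.map k.hom.left) (k.hom.left ≫ (τ c').hom.left) :=
      IsHomLift.comp_lift_id_right 𝒳.p (𝒳.p.map k.hom.left) k.hom.left (τ c').hom.left
    have l6 : 𝒳.p.IsHomLift (𝒳.p.map k.hom.left)
        ((τ c).hom.left ≫ G.map ((liftE hx R).map k).hom) :=
      IsHomLift.comp_lift_id_left 𝒳.p (𝒳.p.map k.hom.left)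
        (G.map ((liftE hx R).map k).hom) (τ c).hom.left
    apply IsStronglyCartesian.ext 𝒳.p (𝒳.p.map c'.obj.hom ≫ eqToHom hx)
      (piG G j.hom ((liftE hx R).obj c').obj) (𝒳.p.map k.hom.left)
    have w1 : (τ c').hom.left ≫ piG G j.hom ((liftE hx R).obj c').obj = c'.obj.hom :=
      Over.w (τ c').hom
    have w2 : (τ c).hom.left ≫ piG G j.hom ((liftE hx R).obj c).obj = c.obj.hom :=
      Over.w (τ c).hom
    have w3 : k.hom.left ≫ c'.obj.hom = c.obj.hom := Over.w k.hom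
    calc (k.hom.left ≫ (τ c').hom.left) ≫ piG G j.hom ((liftE hx R).obj c').obj
        = k.hom.left ≫ c'.obj.hom := by rw [Category.assoc, w1]
      _ = c.obj.hom := w3
      _ = (τ c).hom.left ≫ piG G j.hom ((liftE hx R).obj c).obj := w2.symm
      _ = (τ c).hom.left ≫ G.map ((liftE hx R).map k).hom ≫
            piG G j.hom ((liftE hx R).obj c').obj := by
          rw [piG_comp G j.hom ((liftE hx R).map k).hom]
      _ = ((τ c).hom.left ≫ G.map ((liftE hx R).map k).hom) ≫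
            piG G j.hom ((liftE hx R).obj c').obj := (Category.assoc _ _ _).symm
  -- the cone `ψ₁` over the lifted sieve, in the total category
  obtain ⟨ψ₁, hψ₁def⟩ : ∃ ψ₁ : ∀ c : (Stk.sieveCat (liftSieve hx R)).obj, D.obj c ⟶ w₁,
      ∀ c, ψ₁ c = D.map (τ c) ≫ ψ₃ ((liftE hx R).obj c) :=
    ⟨fun c => D.map (τ c) ≫ ψ₃ ((liftE hx R).obj c), fun c => rfl⟩
  have hψ₁ : ∀ c : (Stk.sieveCat (liftSieve hx R)).obj,
      (𝒴.p ⋙ 𝒳.p).IsHomLift (𝒳.p.map c.obj.hom ≫ eqToHom hx) (ψ₁ c) := by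
    intro c
    rw [hψ₁def c]
    have m1 : 𝒴.p.IsHomLift (τ c).hom.left (D.map (τ c)) := isHomLift_map_sieve D (τ c)
    have m2 : (𝒴.p ⋙ 𝒳.p).IsHomLift (𝟙 (𝒳.p.obj c.obj.left)) (D.map (τ c)) :=
      isHomLift_comp' 𝒴.p 𝒳.p _ (τ c).hom.left _ m1 (hτ1 c)
    have m3 : (𝒴.p ⋙ 𝒳.p).IsHomLift (𝒳.p.map c.obj.hom ≫ eqToHom hx)
        (ψ₃ ((liftE hx R).obj c)) := hψ₃ ((liftE hx R).obj c)
    exact comp_lift_id_left' (𝒴.p ⋙ 𝒳.p) _ _ _ m3 m2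
  have ψ₁nat : ∀ ⦃c c' : (Stk.sieveCat (liftSieve hx R)).obj⦄ (k : c ⟶ c'),
      D.map k ≫ ψ₁ c' = ψ₁ c := by
    intro c c' k
    rw [hψ₁def c, hψ₁def c']
    have h3 : D.map ((secS hx R G j.hom hj).map ((liftE hx R).map k)) ≫
        ψ₃ ((liftE hx R).obj c') = ψ₃ ((liftE hx R).obj c) := hnat₃ ((liftE hx R).map k)
    calc D.map k ≫ D.map (τ c') ≫ ψ₃ ((liftE hx R).obj c')
        = D.map (k ≫ τ c') ≫ ψ₃ ((liftE hx R).obj c') := by rw [D.map_comp, Category.assoc]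
      _ = D.map (τ c ≫ (secS hx R G j.hom hj).map ((liftE hx R).map k)) ≫
            ψ₃ ((liftE hx R).obj c') := by rw [τnat k]
      _ = D.map (τ c) ≫ D.map ((secS hx R G j.hom hj).map ((liftE hx R).map k)) ≫
            ψ₃ ((liftE hx R).obj c') := by rw [D.map_comp, Category.assoc]
      _ = D.map (τ c) ≫ ψ₃ ((liftE hx R).obj c) := by rw [h3]
  -- its image in `𝒳`
  obtain ⟨ξ, hξdef⟩ : ∃ ξ : ∀ c : (Stk.sieveCat (liftSieve hx R)).obj,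
      c.obj.left ⟶ 𝒴.p.obj w₁, ∀ c, ξ c = eqToHom (hD c).symm ≫ 𝒴.p.map (ψ₁ c) :=
    ⟨fun c => eqToHom (hD c).symm ≫ 𝒴.p.map (ψ₁ c), fun c => rfl⟩
  have hξ : ∀ c, 𝒳.p.IsHomLift (𝒳.p.map c.obj.hom ≫ eqToHom hx) (ξ c) := by
    intro c
    rw [hξdef c]
    haveI := hψ₁ c
    haveI : 𝒳.p.IsHomLift (𝒳.p.map c.obj.hom ≫ eqToHom hx) (𝒴.p.map (ψ₁ c)) :=
      isHomLift_map_of_comp 𝒴.p 𝒳.p _ (ψ₁ c)
    infer_instance
  have KC : ∀ ⦃c c' : (Stk.sieveCat (liftSieve hx R)).obj⦄ (m : c ⟶ c'),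
      m.hom.left ≫ ξ c' = ξ c := by
    intro c c' m
    rw [hξdef c, hξdef c']
    have e1 : 𝒴.p.map (D.map m) ≫ 𝒴.p.map (ψ₁ c') = 𝒴.p.map (ψ₁ c) := by
      rw [← 𝒴.p.map_comp, ψ₁nat m]
    haveI lm : 𝒴.p.IsHomLift m.hom.left (D.map m) := isHomLift_map_sieve D m
    have e2 : 𝒴.p.map (D.map m) = eqToHom (hD c) ≫ m.hom.left ≫ eqToHom (hD c').symm :=
      map_eq_of_lift 𝒴.p m.hom.left (D.map m) (hD c) (hD c')
    rw [← e1, e2]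
    simp
  obtain ⟨β, hβ, hβc⟩ := cone_cmp hX R hfull hx hw₁' ξ hξ KC
  -- transport along `β`
  haveI := hβ
  haveI : IsIso β := IsFibGrpd.isIso_of_isHomLift_id hX (U := U) β
  obtain ⟨w, c₀, hc₀⟩ := hY.exists_lift (x := w₁) (inv β)
  haveI := hc₀
  have hw : 𝒴.p.obj w = x := IsHomLift.domain_eq 𝒴.p (inv β) c₀
  haveI : 𝒴.p.IsStronglyCartesian (inv β) c₀ := IsFibGrpd.sc hY _ _
  haveI : IsIso c₀ := IsStronglyCartesian.isIso_of_base_isIso 𝒴.p (inv β) c₀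
  have l0 : 𝒴.p.IsHomLift β (inv c₀) := by
    have h : 𝒴.p.IsHomLift (inv (inv β)) (inv c₀) := inferInstance
    rwa [IsIso.inv_inv] at h
  refine ⟨w, hw, fun c => ψ₁ c ≫ inv c₀, fun c => ?_, fun c c' k => ?_⟩
  · have l1 : 𝒴.p.IsHomLift (𝒴.p.map (ψ₁ c)) (ψ₁ c) := IsHomLift.map 𝒴.p (ψ₁ c)
    have l2 : 𝒴.p.IsHomLift (𝒴.p.map (ψ₁ c) ≫ β) (ψ₁ c ≫ inv c₀) :=
      lift_comp' 𝒴.p _ _ _ _ l1 l0
    have e : 𝒴.p.map (ψ₁ c) ≫ β = eqToHom (hD c) ≫ c.obj.hom := by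
      rw [← hβc c, hξdef c]
      simp
    have l3 : 𝒴.p.IsHomLift (eqToHom (hD c) ≫ c.obj.hom) (ψ₁ c ≫ inv c₀) :=
      isHomLift_congr 𝒴.p e _ l2
    exact (IsHomLift.lift_eqToHom_comp_iff 𝒴.p c.obj.hom (ψ₁ c ≫ inv c₀) (hD c)).1 l3
  · show D.map k ≫ ψ₁ c' ≫ inv c₀ = ψ₁ c ≫ inv c₀
    rw [← Category.assoc, ψ₁nat k]

end Eff

section Main

theorem isStack_base (J : GrothendieckTopology C) (hX : Stk.IsStack J 𝒳)
    (𝒴 : BasedCategory.{v₃, u₃} 𝒳.obj) (hY : FibCat.IsFibGrpd 𝒴.p)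
    (hZ : Stk.IsStack J (tot 𝒴)) : Stk.IsStack (𝒳.p.restrictedTopology J) 𝒴 := by
  refine ⟨hY, fun x T hT => ?_⟩
  have hR : T.functorPushforward 𝒳.p ∈ J (𝒳.p.obj x) := pushforward_mem J hX.1 hT
  have e1 : (Stk.resSieve (T.functorPushforward 𝒳.p) 𝒳).IsEquivalence := hX.2 _ hR
  have e2 : (Stk.resSieve (T.functorPushforward 𝒳.p) (tot 𝒴)).IsEquivalence := hZ.2 _ hR
  have key : Stk.IsStackFor
      (liftSieve (rfl : 𝒳.p.obj x = 𝒳.p.obj x) (T.functorPushforward 𝒳.p)) 𝒴 := by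
    haveI := e1
    haveI := e2
    haveI f1 : (Stk.resSieve (liftSieve (rfl : 𝒳.p.obj x = 𝒳.p.obj x)
        (T.functorPushforward 𝒳.p)) 𝒴).Faithful :=
      faithful_base (T.functorPushforward 𝒳.p) hX.1 hY rfl inferInstance
    haveI f2 : (Stk.resSieve (liftSieve (rfl : 𝒳.p.obj x = 𝒳.p.obj x)
        (T.functorPushforward 𝒳.p)) 𝒴).Full :=
      full_base (T.functorPushforward 𝒳.p) hX.1 hY rfl inferInstance inferInstance
    haveI f3 : (Stk.resSieve (liftSieve (rfl : 𝒳.p.obj x = 𝒳.p.obj x)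
        (T.functorPushforward 𝒳.p)) 𝒴).EssSurj := ⟨fun D => by
      obtain ⟨G, ⟨i⟩⟩ := exists_iso_of_hasCone _ hY D
        (hasCone_base hX.1 hY (T.functorPushforward 𝒳.p) inferInstance rfl D)
      exact ⟨G, ⟨i⟩⟩⟩
    show (Stk.resSieve _ 𝒴).IsEquivalence
    exact {}
  rwa [liftSieve_pushforward hX.1 T] at key

end Main

end Groth.Agent.Lib.Helper10.StkOver
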