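import Mathlib
import Groth.Prelude.Def_AlgSt
import Groth.Agent.Lib.Helper10.StkComp

/-!
# A category fibred in groupoids with a faithful functor to a stack

Let `F : 𝒮 ⟶ 𝒯` be a faithful functor over `C` between categories fibred in groupoids with `𝒯` a
stack.  If for every `y : C/U ⟶ 𝒯` the 2-fibre product `(C/U) ×_𝒯 𝒮` is a stack over `C/U`, then
`𝒮` is a stack.

* `PP F y`: the 2-fibre product as a category over `C/U`.
* `faithful_S`, `full_S`, `hasCone_S`: the three parts.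
* `isStack_of_faithful`: the theorem.
-/

set_option autoImplicit false
set_option linter.style.haveILetI false
set_option backward.isDefEq.respectTransparency false
set_option backward.isDefEq.respectTransparency.types false

universe v u

open CategoryTheory Functor CategoryTheory.Limits

namespace Groth.Agent.Lib.Helper10.StkFaith

open Groth.Agent.Lib.Helper10.Fib Groth.Agent.Lib.Helper10.Gerbe
  Groth.Agent.Lib.Helper10.HomSheaf Groth.Agent.Lib.Helper10.StkRefine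
  Groth.Agent.Lib.Helper10.StkElem Groth.Agent.Lib.Helper10.StkComp

variable {C : Type u} [Category.{v} C] {𝒮 𝒯 : BasedCategory.{v, max u v} C} (F : 𝒮 ⥤ᵇ 𝒯)

/-- The 2-fibre product `(C/U) ×_𝒯 𝒮` as a category over `C/U`. -/
abbrev PP {U : C} (y : FibCat.overCat U ⥤ᵇ 𝒯) : BasedCategory.{v, max u v} (Over U) :=
  BasedCategory.ofFunctor ((FibCat.fpFst y F).toFunctor : (FibCat.fp y F).obj ⥤ Over U)

section Objects

variable {U : C} (y : FibCat.overCat U ⥤ᵇ 𝒯)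

/-- Objects of the fibre product. -/
def mkP (A : Over U) (s : 𝒮.obj) (φ : y.obj A ≅ F.obj s)
    (hφ : 𝒯.p.IsHomLift (𝟙 A.left) φ.hom) : (PP F y).obj := ⟨⟨A, s, φ⟩, hφ⟩

variable {F y}

/-- Morphisms of the fibre product. -/
def mkPHom {P P' : (PP F y).obj} (a : P.obj.fst ⟶ P'.obj.fst) (b : P.obj.snd ⟶ P'.obj.snd)
    (w : y.map a ≫ P'.obj.iso.hom = P.obj.iso.hom ≫ F.map b) : P ⟶ P' :=
  ObjectProperty.homMk ⟨a, b, w⟩

lemma snd_lift {A B : Over U} (g : A ⟶ B) {p₀ P : (PP F y).obj} (χ : p₀ ⟶ P)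
    (hχ : (PP F y).p.IsHomLift g χ) : 𝒮.p.IsHomLift g.left χ.hom.snd := by
  haveI := hχ
  subst_hom_lift (PP F y).p g χ
  exact FibCat.fp_isHomLift_snd y F χ

end Objects

section Faithful

variable {F}

theorem faithful_S (h𝒮 : FibCat.IsFibGrpd 𝒮.p) (h𝒯 : FibCat.IsFibGrpd 𝒯.p)
    [F.toFunctor.Faithful] {U : C} (R : Sieve U) (h1 : (Stk.resSieve R 𝒯).Faithful) :
    (Stk.resSieve R 𝒮).Faithful := by
  apply faithful_of R h𝒮
  intro G G' n₁ n₂ hn₁ hn₂ H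
  apply F.toFunctor.map_injective
  haveI := hn₁
  haveI := hn₂
  have hs : 𝒮.p.obj (G.obj (Over.mk (𝟙 U))) = U := G.w_obj _
  have hFs : 𝒯.p.obj (F.obj (G.obj (Over.mk (𝟙 U)))) = U := (F.w_obj _).trans hs
  have l1 : 𝒯.p.IsHomLift (𝟙 U) (F.map n₁) := inferInstance
  have l2 : 𝒯.p.IsHomLift (𝟙 U) (F.map n₂) := inferInstance
  refine HomSheaf.sep R h𝒯 h1 hFs (F.map n₁) (F.map n₂) l1 l2 ?_
  intro V f hf t₀ χ' hχ'
  haveI := hχ'
  haveI lk : 𝒮.p.IsHomLift f (G.map (toTerminal U (Over.mk f))) :=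
    lift_toTerminal G (Over.mk f)
  haveI lk' : 𝒯.p.IsHomLift f (F.map (G.map (toTerminal U (Over.mk f)))) := inferInstance
  obtain ⟨θ, -, hθ⟩ := exists_factor h𝒯 f χ' (F.map (G.map (toTerminal U (Over.mk f))))
  have e : G.map (toTerminal U (Over.mk f)) ≫ n₁ = G.map (toTerminal U (Over.mk f)) ≫ n₂ :=
    H (mkA f hf)
  calc χ' ≫ F.map n₁ = θ ≫ F.map (G.map (toTerminal U (Over.mk f)) ≫ n₁) := by
        rw [F.map_comp, ← Category.assoc, hθ]
    _ = θ ≫ F.map (G.map (toTerminal U (Over.mk f)) ≫ n₂) := by rw [e]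
    _ = χ' ≫ F.map n₂ := by rw [F.map_comp, ← Category.assoc, hθ]

end Faithful

section Full

variable {F}

lemma exists_base_hom {U : C} (R : Sieve U) (hfull : (Stk.resSieve R 𝒯).Full)
    (G G' : FibCat.overCat U ⥤ᵇ 𝒮)
    (δ : (Stk.resSieve R 𝒮).obj G ⟶ (Stk.resSieve R 𝒮).obj G') :
    ∃ m : F.obj (G.obj (Over.mk (𝟙 U))) ⟶ F.obj (G'.obj (Over.mk (𝟙 U))),
      𝒯.p.IsHomLift (𝟙 U) m ∧ ∀ a : (Stk.sieveCat R).obj,
        F.map (G.map (toTerminal U a.obj)) ≫ m =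
          F.map (rApp δ a) ≫ F.map (G'.map (toTerminal U a.obj)) := by
  haveI := hfull
  let δ₁ : (Stk.resSieve R 𝒯).obj (BasedFunctor.comp G F) ⟶
      (Stk.resSieve R 𝒯).obj (BasedFunctor.comp G' F) :=
    BasedCategory.whiskerRight δ F
  obtain ⟨γ₁, hγ₁⟩ := (Stk.resSieve R 𝒯).map_surjective δ₁
  refine ⟨γ₁.toNatTrans.app (Over.mk (𝟙 U)), γ₁.isHomLift' (Over.mk (𝟙 U)), fun a => ?_⟩
  have nat := γ₁.toNatTrans.naturality (toTerminal U a.obj)
  have e : γ₁.toNatTrans.app a.obj = F.map (rApp δ a) :=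
    congrArg (fun γ => γ.toNatTrans.app a) hγ₁
  exact nat.trans (congrArg (fun s => s ≫ F.map (G'.map (toTerminal U a.obj))) e)

theorem full_S (h𝒮 : FibCat.IsFibGrpd 𝒮.p) (h𝒯 : FibCat.IsFibGrpd 𝒯.p)
    [F.toFunctor.Faithful] {U : C} (R : Sieve U) (hfull : (Stk.resSieve R 𝒯).Full)
    (hP : ∀ y : FibCat.overCat U ⥤ᵇ 𝒯, FibCat.IsFibGrpd (PP F y).p ∧
      (Stk.resSieve ((Sieve.overEquiv (Over.mk (𝟙 U))).symm R) (PP F y)).Full) :
    (Stk.resSieve R 𝒮).Full := by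
  apply full_of R h𝒮
  intro G G' δ
  obtain ⟨m, hm, hmk⟩ := exists_base_hom R hfull G G' δ
  haveI := hm
  haveI : IsIso m := IsFibGrpd.isIso_of_isHomLift_id h𝒯 (U := U) m
  obtain ⟨h𝒫, hPfull⟩ := hP (BasedFunctor.comp G' F)
  have hcompat : ∀ ⦃s₀ : 𝒮.obj⦄ (χs : s₀ ⟶ G.obj (Over.mk (𝟙 U)))
      (μs : s₀ ⟶ G'.obj (Over.mk (𝟙 U))), Pδ δ χs μs → F.map χs ≫ m = F.map μs := by
    intro s₀ χs μs h
    obtain ⟨a, θ, hχ, hμ⟩ := h
    have e1 : F.map χs = F.map θ ≫ F.map (G.map (toTerminal U a.obj)) := by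
      rw [hχ]; exact F.toFunctor.map_comp _ _
    have e2 : F.map μs = F.map θ ≫ F.map (rApp δ a) ≫
        F.map (G'.map (toTerminal U a.obj)) := by
      rw [hμ]; exact (F.toFunctor.map_comp _ _).trans (congrArg _ (F.toFunctor.map_comp _ _))
    rw [e1, e2, Category.assoc, hmk a]
  have hp1 : 𝒯.p.IsHomLift (𝟙 U) (inv m) := inferInstance
  have hp2 : 𝒯.p.IsHomLift (𝟙 U) (𝟙 (F.obj (G'.obj (Over.mk (𝟙 U))))) :=
    IsHomLift.id ((F.w_obj _).trans (G'.w_obj _))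
  obtain ⟨N, hN, -⟩ := HomSheaf.glue (C := Over U) (𝒳 := PP F (BasedFunctor.comp G' F))
    (U := Over.mk (𝟙 U)) ((Sieve.overEquiv (Over.mk (𝟙 U))).symm R) h𝒫 hPfull
    (x := mkP F (BasedFunctor.comp G' F) (Over.mk (𝟙 U)) (G.obj (Over.mk (𝟙 U)))
      (asIso m).symm hp1)
    (x' := mkP F (BasedFunctor.comp G' F) (Over.mk (𝟙 U)) (G'.obj (Over.mk (𝟙 U)))
      (Iso.refl _) hp2) rfl rfl
    (fun p₀ χ μ => Pδ δ χ.hom.snd μ.hom.snd)
    (by
      intro A g hg p₀ χ hχ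
      have hχs : 𝒮.p.IsHomLift g.left χ.hom.snd := snd_lift g χ hχ
      obtain ⟨μs, hμs1, hμs2⟩ := Pδ_exists δ h𝒮 g.left hg χ.hom.snd hχs
      have hc : F.map χ.hom.snd ≫ m = F.map μs := hcompat _ _ hμs2
      have h0 : (BasedFunctor.comp G' F).map χ.hom.fst ≫ inv m =
          p₀.obj.iso.hom ≫ F.map χ.hom.snd := χ.hom.w
      have hw : (BasedFunctor.comp G' F).map χ.hom.fst ≫
          𝟙 (F.obj (G'.obj (Over.mk (𝟙 U)))) = p₀.obj.iso.hom ≫ F.map μs :=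
        calc (BasedFunctor.comp G' F).map χ.hom.fst ≫ 𝟙 (F.obj (G'.obj (Over.mk (𝟙 U))))
            = (BasedFunctor.comp G' F).map χ.hom.fst := Category.comp_id _
          _ = ((BasedFunctor.comp G' F).map χ.hom.fst ≫ inv m) ≫ m := by
              rw [Category.assoc, IsIso.inv_hom_id, Category.comp_id]
          _ = (p₀.obj.iso.hom ≫ F.map χ.hom.snd) ≫ m := by rw [h0]
          _ = p₀.obj.iso.hom ≫ F.map μs := by rw [Category.assoc, hc]
      let μ : p₀ ⟶ mkP F (BasedFunctor.comp G' F) (Over.mk (𝟙 U))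
          (G'.obj (Over.mk (𝟙 U))) (Iso.refl _) hp2 := mkPHom χ.hom.fst μs hw
      have hl : (PP F (BasedFunctor.comp G' F)).p.IsHomLift
          ((PP F (BasedFunctor.comp G' F)).p.map χ) μ :=
        IsHomLift.map (PP F (BasedFunctor.comp G' F)).p μ
      exact ⟨μ, isHomLift_of_map (PP F (BasedFunctor.comp G' F)).p g χ μ hl, hμs2⟩)
    (by
      intro A g hg p₀ χ μ μ' hχ hμ hμ' h h'
      have hχs : 𝒮.p.IsHomLift g.left χ.hom.snd := snd_lift g χ hχ
      have e2 : μ.hom.snd = μ'.hom.snd := Pδ_uniq δ h𝒮 g.left hg χ.hom.snd hχs _ _ h h'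
      have e1 : μ.hom.fst = μ'.hom.fst := by
        haveI := hμ
        haveI := hμ'
        have a1 := IsHomLift.fac' (PP F (BasedFunctor.comp G' F)).p g μ
        have a2 := IsHomLift.fac' (PP F (BasedFunctor.comp G' F)).p g μ'
        exact a1.trans a2.symm
      apply ObjectProperty.hom_ext
      exact CategoricalPullback.hom_ext e1 e2)
    (by
      intro p₀ p₁ χ μ κ h
      exact Pδ_pre δ χ.hom.snd μ.hom.snd κ.hom.snd h)
  have hfst : N.hom.fst = 𝟙 (Over.mk (𝟙 U)) := by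
    haveI := hN
    have a1 := IsHomLift.fac' (PP F (BasedFunctor.comp G' F)).p (𝟙 (Over.mk (𝟙 U))) N
    have a2 : (PP F (BasedFunctor.comp G' F)).p.map N = 𝟙 _ := by simpa using a1
    exact a2
  have hw : F.map (G'.map N.hom.fst) ≫ 𝟙 (F.obj (G'.obj (Over.mk (𝟙 U)))) =
      inv m ≫ F.map N.hom.snd := N.hom.w
  have hFn : F.map N.hom.snd = m := by
    have h1 : F.map (G'.map N.hom.fst) = 𝟙 (F.obj (G'.obj (Over.mk (𝟙 U)))) := by
      have h0 := congrArg (fun t => F.map (G'.map t)) hfst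
      exact h0.trans ((congrArg F.toFunctor.map (G'.toFunctor.map_id _)).trans
        (F.toFunctor.map_id _))
    have h2 : inv m ≫ F.map N.hom.snd = 𝟙 (F.obj (G'.obj (Over.mk (𝟙 U)))) :=
      calc inv m ≫ F.map N.hom.snd
          = F.map (G'.map N.hom.fst) ≫ 𝟙 (F.obj (G'.obj (Over.mk (𝟙 U)))) := hw.symm
        _ = F.map (G'.map N.hom.fst) := Category.comp_id _
        _ = 𝟙 (F.obj (G'.obj (Over.mk (𝟙 U)))) := h1
    exact ((IsIso.inv_comp_eq m).1 h2).trans (Category.comp_id m)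
  have ln : 𝒮.p.IsHomLift (𝟙 U) N.hom.snd := by
    haveI : 𝒯.p.IsHomLift (𝟙 U) (F.map N.hom.snd) := by rw [hFn]; exact hm
    exact F.isHomLift_map (𝟙 U) N.hom.snd
  refine ⟨N.hom.snd, ln, fun a => ?_⟩
  apply F.toFunctor.map_injective
  show F.map (G.map (toTerminal U a.obj) ≫ N.hom.snd) =
    F.map (rApp δ a ≫ G'.map (toTerminal U a.obj))
  rw [F.map_comp, F.map_comp, hFn]
  exact hmk a

end Full

section Eff

variable {U : C} (R : Sieve U)

/-- From the sieve on the terminal object of `C/U` to the sieve on `U`. -/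
def phi : (Stk.sieveCat ((Sieve.overEquiv (Over.mk (𝟙 U))).symm R)).obj ⥤ (Stk.sieveCat R).obj where
  obj B := ⟨B.obj.left, by
    have h : R B.obj.hom.left := B.property
    have e : B.obj.hom.left = B.obj.left.hom := by
      have := Over.w B.obj.hom
      simpa using this
    rwa [e] at h⟩
  map {B B'} k := ObjectProperty.homMk k.hom.left
  map_id B := rfl
  map_comp k l := rfl

/-- The object of the sieve on the terminal object of `C/U` given by an object of the sieve. -/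
def mkB (a : (Stk.sieveCat R).obj) :
    (Stk.sieveCat ((Sieve.overEquiv (Over.mk (𝟙 U))).symm R)).obj :=
  ⟨Over.mk (toTerminal U a.obj), a.property⟩

/-- The morphism of the sieve on the terminal object given by a morphism of the sieve. -/
def mkBHom {a b : (Stk.sieveCat R).obj} (k : a ⟶ b) : mkB R a ⟶ mkB R b :=
  ObjectProperty.homMk (Over.homMk k.hom (toTerminal_comp U k.hom))

variable {F}

/-- The descent datum in the fibre product. -/
def datumP (y : FibCat.overCat U ⥤ᵇ 𝒯) (D : Stk.sieveCat R ⥤ᵇ 𝒮)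
    (i : (Stk.resSieve R 𝒯).obj y ≅ BasedFunctor.comp D F) :
    Stk.sieveCat ((Sieve.overEquiv (Over.mk (𝟙 U))).symm R) ⥤ᵇ PP F y where
  toFunctor := phi R ⋙ (FibCat.fpLift (Stk.sieveIncl R) D i).toFunctor
  w := rfl

theorem hasCone_S (h𝒮 : FibCat.IsFibGrpd 𝒮.p) [(Stk.resSieve R 𝒯).EssSurj]
    (hP : ∀ y : FibCat.overCat U ⥤ᵇ 𝒯,
      (Stk.resSieve ((Sieve.overEquiv (Over.mk (𝟙 U))).symm R) (PP F y)).EssSurj)
    (D : Stk.sieveCat R ⥤ᵇ 𝒮) : HasCone R D := by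
  obtain ⟨y, ⟨i⟩⟩ : ∃ y, Nonempty ((Stk.resSieve R 𝒯).obj y ≅ BasedFunctor.comp D F) :=
    ⟨_, ⟨(Stk.resSieve R 𝒯).objObjPreimageIso _⟩⟩
  haveI := hP y
  obtain ⟨P₀, hP₀, Ψ, hΨ, hΨnat⟩ := hasCone_of_essSurj
    ((Sieve.overEquiv (Over.mk (𝟙 U))).symm R) (datumP R y D i)
  have hfst : P₀.obj.fst = Over.mk (𝟙 U) := hP₀
  have hs : 𝒮.p.obj P₀.obj.snd = U := by
    have h1 : 𝒮.p.obj ((FibCat.fpSnd y F).obj P₀) = (FibCat.fp y F).p.obj P₀ :=
      (FibCat.fpSnd y F).w_obj P₀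
    have h2 : (FibCat.fp y F).p.obj P₀ = P₀.obj.fst.left := rfl
    have h3 : P₀.obj.fst.left = U := congrArg Comma.left hfst
    exact h1.trans (h2.trans h3)
  refine ⟨P₀.obj.snd, hs, fun a => (Ψ (mkB R a)).hom.snd, fun a => ?_, fun a b k => ?_⟩
  · have h1 : (PP F y).p.IsHomLift (toTerminal U a.obj) (Ψ (mkB R a)) := hΨ (mkB R a)
    have h2 : (Over.forget U).IsHomLift a.obj.hom (toTerminal U a.obj) :=
      IsHomLift.map (Over.forget U) (toTerminal U a.obj)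
    have h3 : (FibCat.fp y F).p.IsHomLift a.obj.hom (Ψ (mkB R a)) :=
      isHomLift_comp' (PP F y).p (Over.forget U) a.obj.hom (toTerminal U a.obj)
        (Ψ (mkB R a)) h1 h2
    haveI := h3
    exact BasedFunctor.preserves_isHomLift (FibCat.fpSnd y F) a.obj.hom (Ψ (mkB R a))
  · exact congrArg (fun N => N.hom.snd) (hΨnat (mkBHom R k))

end Eff

section Main

theorem isStack_of_faithful (J : GrothendieckTopology C) (h𝒮 : FibCat.IsFibGrpd 𝒮.p)
    (h𝒯 : Stk.IsStack J 𝒯) [F.toFunctor.Faithful]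
    (h3 : ∀ (U : C) (y : FibCat.overCat U ⥤ᵇ 𝒯), Stk.IsStack (J.over U) (PP F y)) :
    Stk.IsStack J 𝒮 := by
  refine ⟨h𝒮, fun U R hR => ?_⟩
  haveI e1 : (Stk.resSieve R 𝒯).IsEquivalence := h𝒯.2 R hR
  have hR' : (Sieve.overEquiv (Over.mk (𝟙 U))).symm R ∈ J.over U (Over.mk (𝟙 U)) :=
    J.overEquiv_symm_mem_over _ _ hR
  have e2 : ∀ y : FibCat.overCat U ⥤ᵇ 𝒯,
      (Stk.resSieve ((Sieve.overEquiv (Over.mk (𝟙 U))).symm R) (PP F y)).IsEquivalence :=
    fun y => (h3 U y).2 _ hR'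
  haveI f1 : (Stk.resSieve R 𝒮).Faithful := faithful_S (F := F) h𝒮 h𝒯.1 R inferInstance
  haveI f2 : (Stk.resSieve R 𝒮).Full := full_S (F := F) h𝒮 h𝒯.1 R inferInstance
    (fun y => ⟨(h3 U y).1, by haveI := e2 y; infer_instance⟩)
  haveI f3 : (Stk.resSieve R 𝒮).EssSurj := ⟨fun D => by
    obtain ⟨G, ⟨i⟩⟩ := exists_iso_of_hasCone R h𝒮 D
      (hasCone_S (F := F) R h𝒮 (fun y => by haveI := e2 y; infer_instance) D)
    exact ⟨G, ⟨i⟩⟩⟩
  show (Stk.resSieve R 𝒮).IsEquivalence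
  exact {}

end Main

end Groth.Agent.Lib.Helper10.StkFaith
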