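import Mathlib
import Groth.Prelude.Def_AlgSt4
import Groth.Agent.Lib.Helper10.AlgStPtsFib
import Groth.Agent.Lib.Helper10.AlgStPts
import Groth.Agent.Lib.Helper28.AlgSt.ChartOver

/-!
# Field-valued points of `(Sch/U)` and points of the scheme `U`

* `toHom q`, `ptOf q`: the morphism `Spec K ⟶ U` and the point of `U` under a field-valued point
  of `(Sch/U)`.
* `resFPt U u`: the field-valued point `Spec κ(u) ⟶ U`.
* `ptOf_map`: compatibility with functors `(Sch/T) ⟶ (Sch/U)` over `(Sch/S)`.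
* `ptOf_eq_of_mk_eq`: `ptOf` only depends on the class in `|(Sch/U)|`.
* `mk_eq_mk_resFPt`: every field-valued point is equivalent to the one of its residue field.
* `ofChart_comp`: `ofChart (G ≫ x) τ = ofChart x (h τ)` for `h` the morphism underlying `G`.
-/

set_option autoImplicit false
set_option backward.isDefEq.respectTransparency false
set_option backward.isDefEq.respectTransparency.types false

universe u

open CategoryTheory CategoryTheory.Limits AlgebraicGeometry Opposite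

namespace H10PT

open Groth.Agent.Lib.Helper10.Fib Groth.Agent.Lib.Helper10.AlgStRep
open Groth.Agent.Lib.Helper28.AlgSt.ChartOver

variable {S : Scheme.{u}} {U V T : Over S}

lemma eqToHom_cancel_aux {C : Type*} [Category C] {a b c d : C} (p : b = c) (r : c = a)
    (f : c ⟶ d) : eqToHom (p.trans r).symm ≫ eqToHom p ≫ f = eqToHom r.symm ≫ f := by
  subst p r
  simp

/-- The morphism `Spec K ⟶ U` over `S` of a field-valued point of `(Sch/U)`. -/
noncomputable def toHom (q : AlgSt.FPt (FibCat.overCat U)) : Over.mk q.str ⟶ U :=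
  (eqToHom q.lies.symm : Over.mk q.str ⟶ q.obj.left) ≫ q.obj.hom

/-- The point of the scheme `U` under a field-valued point of `(Sch/U)`. -/
noncomputable def ptOf (q : AlgSt.FPt (FibCat.overCat U)) : ↥U.left :=
  ((toHom q).left : Spec (CommRingCat.of q.K) ⟶ U.left) (IsLocalRing.closedPoint q.K)

/-- The field-valued point `Spec κ(u) ⟶ U` of `(Sch/U)`. -/
noncomputable def resFPt (U : Over S) (u : ↥U.left) : AlgSt.FPt (FibCat.overCat U) where
  K := ↥(U.left.residueField u)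
  str := U.left.fromSpecResidueField u ≫ U.hom
  obj := Over.mk (Over.homMk (U.left.fromSpecResidueField u) rfl :
    Over.mk (U.left.fromSpecResidueField u ≫ U.hom) ⟶ U)
  lies := rfl

theorem ofChart_eq {𝒳 : AlgSt.Cat S} (x : FibCat.overCat U ⥤ᵇ 𝒳) (u : ↥U.left) :
    AlgSt.Points.ofChart x u = AlgSt.Points.map x (AlgSt.Points.mk (resFPt U u)) := rfl

theorem toHom_resFPt (u : ↥U.left) :
    toHom (resFPt U u) = Over.homMk (U.left.fromSpecResidueField u) rfl :=
  Category.id_comp _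

theorem ptOf_resFPt (u : ↥U.left) : ptOf (resFPt U u) = u := by
  unfold ptOf
  rw [toHom_resFPt]
  exact Scheme.fromSpecResidueField_apply _ _

theorem toHom_map (G : FibCat.overCat T ⥤ᵇ FibCat.overCat U)
    (q : AlgSt.FPt (FibCat.overCat T)) : toHom (q.map G) = toHom q ≫ homOfOver G := by
  have e := hom_eq G q.obj
  show eqToHom ((G.w_obj q.obj).trans q.lies).symm ≫ (G.obj q.obj).hom =
    (eqToHom q.lies.symm ≫ q.obj.hom) ≫ homOfOver G
  rw [e, Category.assoc]
  exact eqToHom_cancel_aux (G.w_obj q.obj) q.lies (q.obj.hom ≫ homOfOver G)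

theorem ptOf_map (G : FibCat.overCat T ⥤ᵇ FibCat.overCat U)
    (q : AlgSt.FPt (FibCat.overCat T)) : ptOf (q.map G) = (homOfOver G).left (ptOf q) := by
  unfold ptOf
  rw [toHom_map]
  rfl

theorem ptOf_eq_of_hom {r q : AlgSt.FPt (FibCat.overCat U)} (m : r.obj ⟶ q.obj) :
    ptOf r = ptOf q := by
  obtain ⟨μ, hμ⟩ : ∃ μ : Over.mk r.str ⟶ Over.mk q.str,
      μ = eqToHom r.lies.symm ≫ m.left ≫ eqToHom q.lies := ⟨_, rfl⟩
  have h1 : toHom r = μ ≫ toHom q := by
    have hw : m.left ≫ q.obj.hom = r.obj.hom := Over.w m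
    rw [hμ]
    unfold toHom
    simp only [Category.assoc, eqToHom_trans_assoc, eqToHom_refl, Category.id_comp]
    rw [hw]
  unfold ptOf
  rw [h1]
  have h2 : (μ.left : Spec (CommRingCat.of r.K) ⟶ Spec (CommRingCat.of q.K))
      (IsLocalRing.closedPoint r.K) = IsLocalRing.closedPoint q.K :=
    @Subsingleton.elim (PrimeSpectrum q.K) _ _ _
  rw [← h2]
  rfl

theorem ptOf_eq_of_rel {q q' : AlgSt.FPt (FibCat.overCat U)} (h : AlgSt.FPt.Rel q q') :
    ptOf q = ptOf q' := by
  obtain ⟨r, m, m', -⟩ := h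
  exact (ptOf_eq_of_hom m).symm.trans (ptOf_eq_of_hom m')

theorem ptOf_eq_of_mk_eq {q q' : AlgSt.FPt (FibCat.overCat U)}
    (h : AlgSt.Points.mk q = AlgSt.Points.mk q') : ptOf q = ptOf q' := by
  have h' : Relation.EqvGen (@AlgSt.FPt.Rel S (FibCat.overCat U)) q q' := Quot.eqvGen_exact h
  exact ptOf_eq_of_rel ((rel_equivalence (isFibGrpd_overForget U)).eqvGen_iff.mp h')

theorem rel_resFPt (q : AlgSt.FPt (FibCat.overCat U)) :
    AlgSt.FPt.Rel q (resFPt U (ptOf q)) := by
  have key : ∀ u : ↥U.left, u = ptOf q → AlgSt.FPt.Rel q (resFPt U u) := by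
    intro u hu
    obtain ⟨K, str, obj, lies⟩ := q
    obtain ⟨l, ⟨⟨⟩⟩, a⟩ := obj
    change l = Over.mk str at lies
    subst lies
    obtain ⟨f, hf⟩ : ∃ f : Spec (CommRingCat.of K) ⟶ U.left, f = a.left := ⟨_, rfl⟩
    have ht : toHom (⟨K, str, ⟨Over.mk str, ⟨⟨⟩⟩, a⟩, rfl⟩ : AlgSt.FPt (FibCat.overCat U)) = a :=
      Category.id_comp a
    have hu' : u = f (IsLocalRing.closedPoint K) := by
      rw [hu, hf]
      unfold ptOf
      rw [ht]
      rfl
    subst hu'
    have hδ := Scheme.descResidueField_stalkClosedPointTo_fromSpecResidueField K U.left f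
    refine ⟨⟨K, str, ⟨Over.mk str, ⟨⟨⟩⟩, a⟩, rfl⟩, 𝟙 _, ?_, trivial⟩
    refine Over.homMk (Over.homMk
      (Spec.map (Scheme.descResidueField (Scheme.stalkClosedPointTo f))) ?_) ?_
    · exact (Category.assoc _ _ _).symm.trans
        ((congrArg (fun k => k ≫ U.hom) (hδ.trans hf)).trans (Over.w a))
    · apply Over.OverMorphism.ext
      exact hδ.trans hf
  exact key _ rfl

theorem mk_eq_mk_resFPt (q : AlgSt.FPt (FibCat.overCat U)) :
    AlgSt.Points.mk q = AlgSt.Points.mk (resFPt U (ptOf q)) :=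
  AlgSt.Points.sound (rel_resFPt q)

theorem map_mk_eq_ofChart {𝒳 : AlgSt.Cat S} (x : FibCat.overCat U ⥤ᵇ 𝒳)
    (q : AlgSt.FPt (FibCat.overCat U)) :
    AlgSt.Points.map x (AlgSt.Points.mk q) = AlgSt.Points.ofChart x (ptOf q) := by
  rw [ofChart_eq, ← mk_eq_mk_resFPt]

theorem map_resFPt (G : FibCat.overCat T ⥤ᵇ FibCat.overCat U) (τ : ↥T.left) :
    AlgSt.Points.map G (AlgSt.Points.mk (resFPt T τ)) =
      AlgSt.Points.mk (resFPt U ((homOfOver G).left τ)) := by
  have h1 := mk_eq_mk_resFPt ((resFPt T τ).map G)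
  rw [ptOf_map, ptOf_resFPt] at h1
  exact h1

theorem ofChart_comp {𝒳 : AlgSt.Cat S} (G : FibCat.overCat T ⥤ᵇ FibCat.overCat U)
    (x : FibCat.overCat U ⥤ᵇ 𝒳) (τ : ↥T.left) :
    AlgSt.Points.ofChart (BasedFunctor.comp G x) τ =
      AlgSt.Points.ofChart x ((homOfOver G).left τ) := by
  rw [ofChart_eq, ofChart_eq, points_map_comp, Function.comp_apply, map_resFPt]

theorem ofChart_comp_right {𝒳 𝒴 : AlgSt.Cat S} (x : FibCat.overCat U ⥤ᵇ 𝒳) (f : 𝒳 ⥤ᵇ 𝒴)
    (u : ↥U.left) :
    AlgSt.Points.ofChart (BasedFunctor.comp x f) u =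
      AlgSt.Points.map f (AlgSt.Points.ofChart x u) := rfl

theorem ofChart_congr {𝒳 : AlgSt.Cat S} {x x' : FibCat.overCat U ⥤ᵇ 𝒳} (e : x ≅ x') (u : ↥U.left) :
    AlgSt.Points.ofChart x u = AlgSt.Points.ofChart x' u := by
  rw [ofChart_eq, ofChart_eq, points_map_eq_of_iso e]

end H10PT
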