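import Mathlib
import Groth.Prelude.Def_AlgSt4
import Groth.Agent.Lib.Helper10.AlgStPtsFib
import Groth.Agent.Lib.Helper10.Fib5
import Groth.Agent.Lib.Helper10.Fib3

/-!
# Surjectivity on points for morphisms representable by algebraic spaces

* `isSurjective_of_rep`: if every base change of `f` to a scheme is surjective on points
  then `f` is surjective on points.
* `rep_of_isSurjective`: the converse, for `f` representable by algebraic spaces.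
-/

set_option autoImplicit false

universe u

open CategoryTheory CategoryTheory.Limits AlgebraicGeometry Opposite

namespace H10PT

open Groth.Agent.Lib.Helper10.Fib Groth.Agent.Lib.Helper10.AlgStRep

variable {S : Scheme.{u}} {𝒳 𝒴 : AlgSt.Cat S}

theorem isSurjective_of_rep (h𝒴 : FibCat.IsFibGrpd 𝒴.p) (f : 𝒳 ⥤ᵇ 𝒴)
    (hs : AlgSt.RepByAlgSpWith AlgSp.IsSurjectiveMor f) : AlgSt.IsSurjective f := by
  intro y₀
  obtain ⟨q, rfl⟩ := AlgSt.Points.mk_surjective y₀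
  obtain ⟨y, -, ⟨i⟩⟩ := yoneda_essSurj (Over.mk q.str)
    (⟨q.obj, q.lies⟩ : 𝒴.p.Fiber (Over.mk q.str))
    (fun V g => IsFibGrpd.exists_lift' h𝒴 q.lies g)
  obtain ⟨I, -⟩ : ∃ _ : y.obj (Over.mk (𝟙 (Over.mk q.str))) ⟶ q.obj, True :=
    ⟨(Functor.Fiber.fiberInclusion.mapIso i).hom, trivial⟩
  obtain ⟨F, e, he, hsurj⟩ := hs (Over.mk q.str) y
  obtain ⟨v, -⟩ := hsurj (AlgSp.Points.mk ⟨q.K, q.str, ⟨𝟙 (Over.mk q.str)⟩⟩)
  obtain ⟨v₀, rfl⟩ := AlgSp.Points.mk_surjective v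
  obtain ⟨Z, hZ⟩ : ∃ Z : (FibCat.fp y f).obj, Z = e.obj ⟨Over.mk v₀.str, v₀.val⟩ := ⟨_, rfl⟩
  have hZb : (FibCat.fp y f).p.obj Z = Over.mk v₀.str := by
    rw [hZ]
    exact e.w_obj _
  have hx₁ : 𝒳.p.obj Z.obj.snd = Over.mk v₀.str :=
    ((FibCat.fpSnd y f).w_obj Z).trans hZb
  refine ⟨AlgSt.Points.mk ⟨v₀.K, v₀.str, Z.obj.snd, hx₁⟩, ?_⟩
  refine AlgSt.Points.sound
    ⟨(⟨v₀.K, v₀.str, Z.obj.snd, hx₁⟩ : AlgSt.FPt 𝒳).map f, 𝟙 _, ?_, trivial⟩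
  exact Z.obj.iso.inv ≫ y.map (toTerminal (Over.mk q.str) Z.obj.fst) ≫ I

theorem rep_of_isSurjective (h𝒳 : FibCat.IsFibGrpd 𝒳.p) (h𝒴 : FibCat.IsFibGrpd 𝒴.p) (f : 𝒳 ⥤ᵇ 𝒴)
    (hf : AlgSt.RepByAlgSp1 f) (hsf : AlgSt.IsSurjective f) :
    AlgSt.RepByAlgSpWith AlgSp.IsSurjectiveMor f := by
  intro U y
  obtain ⟨F, e, he⟩ := hf U y
  refine ⟨F, e, he, ?_⟩
  intro u
  obtain ⟨u₀, rfl⟩ := AlgSp.Points.mk_surjective u
  obtain ⟨K, str, ⟨g⟩⟩ := u₀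
  have hU : FibCat.IsFibGrpd (FibCat.overCat U).p := isFibGrpd_overForget U
  obtain ⟨u', hu'⟩ : ∃ u' : AlgSt.FPt (FibCat.overCat U), u' = ⟨K, str, Over.mk g, rfl⟩ := ⟨_, rfl⟩
  obtain ⟨x, hx⟩ := hsf (AlgSt.Points.mk (u'.map y))
  obtain ⟨w, hw1, -⟩ := exists_fp_point h𝒳 h𝒴 hU f y (AlgSt.Points.mk u') x hx.symm
  obtain ⟨v', hv'⟩ := (points_map_bijective_of_isEquivOver e he).2 w
  obtain ⟨v₀, rfl⟩ := AlgSt.Points.mk_surjective v'
  have hΦ : AlgSt.Points.map (BasedFunctor.comp e (FibCat.fpFst y f)) (AlgSt.Points.mk v₀) =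
      AlgSt.Points.mk u' := by
    rw [points_map_comp, Function.comp_apply, hv', hw1]
  have hrel : AlgSt.FPt.Rel (v₀.map (BasedFunctor.comp e (FibCat.fpFst y f))) u' := by
    have h' : Relation.EqvGen (@AlgSt.FPt.Rel S (FibCat.overCat U))
        (v₀.map (BasedFunctor.comp e (FibCat.fpFst y f))) u' := Quot.eqvGen_exact hΦ
    exact (rel_equivalence hU).eqvGen_iff.mp h'
  obtain ⟨Kv, strv, ⟨base, sec⟩, liesv⟩ := v₀
  change base = Over.mk strv at liesv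
  subst liesv
  obtain ⟨r, a, b, -⟩ : ∃ (r : AlgSt.FPt (FibCat.overCat U))
      (_ : r.obj ⟶ (BasedFunctor.comp e (FibCat.fpFst y f)).obj ⟨Over.mk strv, sec⟩)
      (_ : r.obj ⟶ Over.mk g), True := by
    rw [hu'] at hrel
    exact hrel
  obtain ⟨Kr, strr, ⟨l, ⟨⟨⟩⟩, hom⟩, liesr⟩ := r
  change l = Over.mk strr at liesr
  subst liesr
  refine ⟨AlgSp.Points.mk ⟨Kv, strv, sec⟩, ?_⟩
  refine AlgSp.Points.sound ⟨Kr, inferInstance, strr,
    a.left ≫ eqToHom ((BasedFunctor.comp e (FibCat.fpFst y f)).w_obj ⟨Over.mk strv, sec⟩), b.left, ?_⟩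
  have wa := Over.w a
  have wb := Over.w b
  apply ULift.ext
  show (a.left ≫ eqToHom _) ≫ AlgSt.secHom (BasedFunctor.comp e (FibCat.fpFst y f))
    ⟨Over.mk strv, sec⟩ = b.left ≫ g
  rw [AlgSt.secHom, Category.assoc, eqToHom_trans_assoc]
  refine Eq.trans ?_ (wa.trans wb.symm)
  congr 1

end H10PT
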