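import Mathlib
import Groth.Agent.Lib.Helper10.AlgStPtsSch
import Groth.Agent.Lib.Helper10.AlgStPtsSurj
import Groth.Agent.Lib.Helper10.AlgStDiag
import Groth.Agent.Lib.Helper28.AlgSt.ChartOver
import Groth.Agent.Lib.Helper28.AlgSt.Descent
import Groth.Agent.Lib.Helper28.AlgSt.Good

/-!
# Intersection of two charts of an algebraic stack

For charts `x : (Sch/U) ⟶ 𝒳` and `y : (Sch/V) ⟶ 𝒳` of an algebraic stack, an atlas `T` of the
algebraic stack `(Sch/U) ×_𝒳 (Sch/V)` comes with morphisms of schemes `h : T ⟶ U`, `b : T ⟶ V`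
such that `x ∘ h` and `y ∘ b` agree on points, `(h, b)` is onto the set-theoretic fibre product,
and `h` inherits the properties of `y` (smooth, flat, locally of finite presentation).
-/

set_option autoImplicit false
set_option backward.isDefEq.respectTransparency false
set_option backward.isDefEq.respectTransparency.types false

universe u

open CategoryTheory CategoryTheory.Limits AlgebraicGeometry Opposite

namespace H10PT

open Groth.Agent.Lib.Helper10.Fib Groth.Agent.Lib.Helper10.AlgStRep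
open Groth.Agent.Lib.Helper28.AlgSt.ChartOver Groth.Agent.Lib.Helper28.AlgSt.PropInst
open Groth.Agent.Lib.Helper28.AlgSt.Bridge Groth.Agent.Lib.Helper28.AlgSt.Descent
open Groth.Agent.Lib.Helper28.AlgSt.Whisker Groth.Agent.Lib.Helper28.AlgSt.Key

variable {S : Scheme.{u}} {U V T : Over S}

lemma eqToHom_cancel_aux2 {C : Type*} [Category C] {a b c : C} (p : a = b) (q : b = a)
    (f : a ⟶ c) : f = eqToHom p ≫ eqToHom q ≫ f := by
  subst p
  simp

/-- A functor `(Sch/T) ⟶ (Sch/U)` over `(Sch/S)` which is representable with `LocP P₀` comes from a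
morphism of schemes with `P₀`. -/
theorem prop_homOfOver {P₀ : MorphismProperty Scheme.{u}} (hP : Good (S := S) (AlgSp.LocP P₀))
    (G : FibCat.overCat T ⥤ᵇ FibCat.overCat U)
    (hG : AlgSt.RepByAlgSpWith (AlgSp.LocP P₀) G) : P₀ (homOfOver G).left := by
  have e : BasedFunctor.comp (AlgSt.ofSpMap ((AlgSp.yon S).map (homOfOver G)))
      (AlgSt.toOverCat U) ≅ BasedFunctor.comp (AlgSt.toOverCat T) G :=
    overIso _ _ (fun w => by
      have e1 := hom_eq G ((AlgSt.toOverCat T).obj w)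
      show w.sec.down ≫ homOfOver G = eqToHom _ ≫ (G.obj ((AlgSt.toOverCat T).obj w)).hom
      rw [e1]
      exact eqToHom_cancel_aux2 _ _ _)
  have h1 : AlgSt.RepByAlgSpWith (AlgSp.LocP P₀)
      (AlgSt.ofSpMap ((AlgSp.yon S).map (homOfOver G))) :=
    repByAlgSpWith_of_square' _ G _ (AlgSt.toOverCat T) (AlgSt.toOverCat U)
      (isEquivOver_toOverCat T) (isEquivOver_toOverCat U) e hG
  have h2 : AlgSp.LocP P₀ ((AlgSp.yon S).map (homOfOver G)) :=
    prop_of_repByAlgSpWith_ofSpMap _ hP.bc hP.loc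
      (V := ⟨(AlgSp.yon S).obj T, AlgSp.IsAlgSpace.yon_obj T⟩)
      (Z := ⟨(AlgSp.yon S).obj U, AlgSp.IsAlgSpace.yon_obj U⟩)
      (ObjectProperty.homMk ((AlgSp.yon S).map (homOfOver G))) h1
  exact AlgSp.locP_yon_map h2

variable {𝒳 : AlgSt.Cat S}

theorem isAlgStack_overCat (U : Over S) :
    AlgSt.IsAlgStack Scheme.fppfPrecoverage (FibCat.overCat U) :=
  Groth.Agent.Lib.Helper28.AlgSt.SpaceStack.isAlgStack_of_repByAlgSp
    (Groth.Agent.Lib.Helper28.AlgSt.DiagRep.repByAlgSp_overCat U)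

theorem chart_inter (h𝒳 : AlgSt.IsAlgStack Scheme.fppfPrecoverage 𝒳)
    (x : FibCat.overCat U ⥤ᵇ 𝒳) (y : FibCat.overCat V ⥤ᵇ 𝒳) :
    ∃ (T : Over S) (h : T ⟶ U) (b : T ⟶ V),
      (∀ P₀ : MorphismProperty Scheme.{u}, Good (S := S) (AlgSp.LocP P₀) → @Smooth ≤ P₀ →
        AlgSt.RepByAlgSpWith (AlgSp.LocP P₀) y → P₀ h.left) ∧
      (∀ τ : ↥T.left, AlgSt.Points.ofChart x (h.left τ) = AlgSt.Points.ofChart y (b.left τ)) ∧
      (∀ (u : ↥U.left) (q : AlgSt.FPt (FibCat.overCat V)),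
        AlgSt.Points.ofChart x u = AlgSt.Points.map y (AlgSt.Points.mk q) →
        ∃ τ : ↥T.left, h.left τ = u ∧ b.left τ = ptOf q) := by
  have hU := isAlgStack_overCat U
  have hV := isAlgStack_overCat V
  have hP : AlgSt.IsAlgStack Scheme.fppfPrecoverage (FibCat.fp x y) :=
    Groth.Agent.Lib.Helper28.AlgSt.FpStack.isAlgStack_fp h𝒳.isStack h𝒳.diag hU hV x y
  obtain ⟨T, t, ht1, ht2⟩ := hP.atlas
  have hO := isFibGrpd_overForget T
  have hfp := hP.isStack.1
  obtain ⟨Gx, hGx⟩ : ∃ Gx : FibCat.overCat T ⥤ᵇ FibCat.overCat U,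
      Gx = BasedFunctor.comp t (FibCat.fpFst x y) := ⟨_, rfl⟩
  obtain ⟨Gy, hGy⟩ : ∃ Gy : FibCat.overCat T ⥤ᵇ FibCat.overCat V,
      Gy = BasedFunctor.comp t (FibCat.fpSnd x y) := ⟨_, rfl⟩
  refine ⟨T, homOfOver Gx, homOfOver Gy, ?_, ?_, ?_⟩
  · intro P₀ hgood hle hy
    have ht : AlgSt.RepByAlgSpWith (AlgSp.LocP P₀) t :=
      repByAlgSpWith_mono t (fun F W g hg => fun A B a b k ha hb w => hle _ _ _ (hg a b k ha hb w)) ht1
    have hfst : AlgSt.RepByAlgSpWith (AlgSp.LocP P₀) (FibCat.fpFst x y) :=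
      repByAlgSpWith_fpFst _ y x hy
    have hG : AlgSt.RepByAlgSpWith (AlgSp.LocP P₀) Gx := by
      rw [hGx]
      exact repByAlgSpWith_comp_good hgood hO hfp t _ ht hfst
    exact prop_homOfOver hgood Gx hG
  · intro τ
    have e : BasedFunctor.comp Gx x ≅ BasedFunctor.comp Gy y := by
      rw [hGx, hGy]
      exact wl t (FibCat.fpIso x y)
    rw [← ofChart_comp Gx x τ, ← ofChart_comp Gy y τ]
    exact ofChart_congr e τ
  · intro u q hq
    obtain ⟨w, hw1, hw2⟩ := exists_fp_point (isFibGrpd_overForget V) h𝒳.isStack.1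
      (isFibGrpd_overForget U) y x (AlgSt.Points.mk (resFPt U u)) (AlgSt.Points.mk q) hq
    obtain ⟨τ', hτ'⟩ := isSurjective_of_rep hfp t ht2 w
    obtain ⟨qτ, rfl⟩ := AlgSt.Points.mk_surjective τ'
    refine ⟨ptOf qτ, ?_, ?_⟩
    · have h1 : AlgSt.Points.mk (qτ.map Gx) = AlgSt.Points.mk (resFPt U u) := by
        rw [← hw1, ← hτ', hGx]
        rfl
      rw [← ptOf_map, ptOf_eq_of_mk_eq h1, ptOf_resFPt]
    · have h1 : AlgSt.Points.mk (qτ.map Gy) = AlgSt.Points.mk q := by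
        rw [← hw2, ← hτ', hGy]
        rfl
      rw [← ptOf_map, ptOf_eq_of_mk_eq h1]

end H10PT
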