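import Mathlib
import Groth.Prelude.Def_AlgSt4
import Groth.Agent.Lib.Helper10.AlgStEquiv
import Groth.Agent.Lib.Helper10.AlgStDiag
import Groth.Agent.Lib.Helper28.AlgSt.Chart
import Groth.Agent.Lib.Helper28.AlgSt.PropInst

/-!
# Quasi-compactness of stacks and morphisms: invariance under equivalence, base change
-/

set_option autoImplicit false

universe w₃ v₃ w₂ v₂ w₁ v₁ u

open CategoryTheory CategoryTheory.Limits AlgebraicGeometry Opposite

namespace Groth.Agent.Lib.Helper10.AlgStRep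

open Groth.Agent.Lib.Helper10.Fib

variable {S : Scheme.{u}} {𝒜 : BasedCategory.{v₁, w₁} (Over S)} {ℬ : BasedCategory.{v₂, w₂} (Over S)}

theorem isQuasiCompact_of_isEquivOver (e : 𝒜 ⥤ᵇ ℬ) (he : FibCat.IsEquivOver e)
    (h : AlgSt.IsQuasiCompact 𝒜) : AlgSt.IsQuasiCompact ℬ := by
  obtain ⟨U, x, hU, h1, h2⟩ := h
  exact ⟨U, BasedFunctor.comp x e, hU, repByAlgSpWith_comp_equiv _ x e he h1,
    repByAlgSpWith_comp_equiv _ x e he h2⟩

theorem isQuasiCompact_of_isEquivOver' (e : 𝒜 ⥤ᵇ ℬ) (he : FibCat.IsEquivOver e)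
    (h : AlgSt.IsQuasiCompact ℬ) : AlgSt.IsQuasiCompact 𝒜 := by
  obtain ⟨G, hG⟩ := Groth.Agent.Lib.Helper10.StkPost.isEquivOver_symm he
  exact isQuasiCompact_of_isEquivOver G hG h

end Groth.Agent.Lib.Helper10.AlgStRep

/-!
# Quasi-compact algebraic stacks: charts

* `chart_smooth`, `chart_surjective`: a representable etale (surjective) morphism `h_W ⟶ F` gives a
  smooth (surjective) 1-morphism `(Sch/W) ⟶ ofSp F`.
* `isQuasiCompact_of_compact_chart`: a smooth surjective chart from a quasi-compact scheme can be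
  replaced by one from an affine scheme.
* `isQuasiCompact_of_qc_space_chart`: same for a chart from a quasi-compact algebraic space.
-/


namespace H10QC

open Groth.Agent.Lib.Helper10.Fib Groth.Agent.Lib.Helper10.AlgStRep
open Groth.Agent.Lib.Helper28.AlgSt.Bridge Groth.Agent.Lib.Helper28.AlgSt.Chart
open Groth.Agent.Lib.Helper28.AlgSt.PropInst Groth.Agent.Lib.Helper16

variable {S : Scheme.{u}}

theorem chart_smooth {F : AlgSp.Sp S} (W : Over S) (p : (AlgSp.yon S).obj W ⟶ F)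
    (hpe : AlgSp.RepWith @Etale p) :
    AlgSt.RepByAlgSpWith (AlgSp.LocP @Smooth)
      (BasedFunctor.comp (AlgSt.ofOverCat W) (AlgSt.ofSpMap p)) := by
  apply repByAlgSpWith_equiv_comp _ _ (isEquivOver_ofOverCat W)
  apply repByAlgSpWith_ofSpMap_of_representable _ p hpe.rep
  intro U V g fst snd sq
  have h1 : Etale snd.left := hpe.property _ _ _ sq
  exact locP_of_repWith_etale etLocalST_smooth (AlgSp.IsAlgSpace.yon_obj V)
    (AlgSp.IsAlgSpace.yon_obj U) _ ((AlgSp.repWith_yon_map_iff _ _).2 h1)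

theorem chart_surjective {F : AlgSp.Sp S} (W : Over S) (p : (AlgSp.yon S).obj W ⟶ F)
    (hps : AlgSp.RepWith @Surjective p) :
    AlgSt.RepByAlgSpWith AlgSp.IsSurjectiveMor
      (BasedFunctor.comp (AlgSt.ofOverCat W) (AlgSt.ofSpMap p)) := by
  apply repByAlgSpWith_equiv_comp _ _ (isEquivOver_ofOverCat W)
  apply repByAlgSpWith_ofSpMap_of_representable _ p hps.rep
  intro U V g fst snd sq
  have h1 : Surjective snd.left := hps.property _ _ _ sq
  have h2 : AlgSp.RepWith @Surjective ((AlgSp.yon S).map snd) :=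
    (AlgSp.repWith_yon_map_iff _ _).2 h1
  exact (repWith_surjective_iff _ h2.rep).1 h2

variable {𝒳 : AlgSt.Cat S}

theorem isQuasiCompact_of_compact_chart (U : Over S) [CompactSpace U.left]
    (x : FibCat.overCat U ⥤ᵇ 𝒳) (hx1 : AlgSt.RepByAlgSpWith (AlgSp.LocP @Smooth) x)
    (hx2 : AlgSt.RepByAlgSpWith AlgSp.IsSurjectiveMor x) : AlgSt.IsQuasiCompact 𝒳 := by
  obtain ⟨𝒱, h𝒱⟩ : ∃ 𝒱 : U.left.OpenCover, 𝒱 = U.left.affineCover.finiteSubcover := ⟨_, rfl⟩
  haveI : Finite 𝒱.I₀ := by subst h𝒱; infer_instance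
  haveI : ∀ i, IsAffine (𝒱.X i) := by
    subst h𝒱
    intro i
    show IsAffine (U.left.affineCover.X _)
    infer_instance
  obtain ⟨c, hc⟩ : ∃ c : (∐ 𝒱.X) ⟶ U.left, c = Sigma.desc 𝒱.f := ⟨_, rfl⟩
  haveI : Etale c := by
    rw [hc]
    exact IsZariskiLocalAtSource.sigmaDesc (fun i => inferInstance)
  haveI : Surjective c := by
    rw [hc]
    infer_instance
  obtain ⟨W, hW⟩ : ∃ W : Over S, W = Over.mk (c ≫ U.hom) := ⟨_, rfl⟩
  obtain ⟨cW, hcW⟩ : ∃ cW : Over.mk (c ≫ U.hom) ⟶ U, cW = Over.homMk c rfl := ⟨_, rfl⟩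
  have hcl : cW.left = c := by rw [hcW]; rfl
  have hpe : AlgSp.RepWith @Etale ((AlgSp.yon S).map cW) :=
    (AlgSp.repWith_yon_map_iff _ _).2 (by rw [hcl]; infer_instance)
  have hps : AlgSp.RepWith @Surjective ((AlgSp.yon S).map cW) :=
    (AlgSp.repWith_yon_map_iff _ _).2 (by rw [hcl]; infer_instance)
  have hO := isFibGrpd_overForget (Over.mk (c ≫ U.hom))
  have hU := isFibGrpd_overForget U
  have s1 := repByAlgSpWith_comp_equiv _ _ (AlgSt.toOverCat U) (isEquivOver_toOverCat U)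
    (chart_smooth _ _ hpe)
  have s2 := repByAlgSpWith_comp_equiv _ _ (AlgSt.toOverCat U) (isEquivOver_toOverCat U)
    (chart_surjective _ _ hps)
  refine ⟨Over.mk (c ≫ U.hom), BasedFunctor.comp (BasedFunctor.comp (BasedFunctor.comp
    (AlgSt.ofOverCat _) (AlgSt.ofSpMap ((AlgSp.yon S).map cW))) (AlgSt.toOverCat U)) x, ?_,
    repByAlgSpWith_comp_smooth hO hU _ x s1 hx1, repByAlgSpWith_comp_surjective hO hU _ x s2 hx2⟩
  show IsAffine (∐ 𝒱.X)
  infer_instance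

theorem isQuasiCompact_of_qc_space_chart (U : AlgSp.Space S) (hU : AlgSp.IsQuasiCompactSp U.obj)
    (x : AlgSt.ofSp U.obj ⥤ᵇ 𝒳) (hx1 : AlgSt.RepByAlgSpWith (AlgSp.LocP @Smooth) x)
    (hx2 : AlgSt.RepByAlgSpWith AlgSp.IsSurjectiveMor x) : AlgSt.IsQuasiCompact 𝒳 := by
  obtain ⟨T, p, hpe, hps, hT⟩ := hU
  haveI : CompactSpace T.left := hT
  have hO := isFibGrpd_overForget T
  have hF : FibCat.IsFibGrpd (AlgSt.ofSp U.obj).p := Stk.isFibGrpd_ofPsh _
  exact isQuasiCompact_of_compact_chart T _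
    (repByAlgSpWith_comp_smooth hO hF _ x (chart_smooth T p hpe) hx1)
    (repByAlgSpWith_comp_surjective hO hF _ x (chart_surjective T p hps) hx2)

theorem exists_qc_space_chart (h : AlgSt.IsQuasiCompact 𝒳) :
    ∃ (U : AlgSp.Space S) (x : AlgSt.ofSp U.obj ⥤ᵇ 𝒳), AlgSp.IsQuasiCompactSp U.obj ∧
      AlgSt.RepByAlgSpWith (AlgSp.LocP @Smooth) x ∧
      AlgSt.RepByAlgSpWith AlgSp.IsSurjectiveMor x := by
  obtain ⟨U, x, hA, h1, h2⟩ := h
  haveI := hA
  refine ⟨⟨(AlgSp.yon S).obj U, AlgSp.IsAlgSpace.yon_obj U⟩,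
    BasedFunctor.comp (AlgSt.toOverCat U) x, ?_, ?_, ?_⟩
  · exact ⟨U, 𝟙 _, AlgSp.repWith_id @Etale U, AlgSp.repWith_id @Surjective U, inferInstance⟩
  · exact repByAlgSpWith_equiv_comp _ _ (isEquivOver_toOverCat U) x h1
  · exact repByAlgSpWith_equiv_comp _ _ (isEquivOver_toOverCat U) x h2

end H10QC
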