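import Mathlib
import Groth.Agent.Lib.Helper10.AlgStChartInt
import Groth.Agent.Lib.Helper10.AlgStQC

/-!
# The topology on the points of an algebraic stack

* `continuous_ofChart`: for every `x : (Sch/U) ⟶ 𝒳` the map `U → |𝒳|` is continuous.
* `isOpenMap_ofChart`: it is open when `x` is flat and locally of finite presentation.
* `continuous_points_map`: `|f|` is continuous.
* `isOpenMap_points_map_space`: `|u|` is open for `u` flat, locally of finite presentation from an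
  algebraic space.
* `isOpen_iff_preimage_space`, `exists_isOpen_isCompact_nhd`.
-/

set_option autoImplicit false
set_option backward.isDefEq.respectTransparency false
set_option backward.isDefEq.respectTransparency.types false

universe u

open CategoryTheory CategoryTheory.Limits AlgebraicGeometry Opposite

namespace H10PT

open Groth.Agent.Lib.Helper10.Fib Groth.Agent.Lib.Helper10.AlgStRep
open Groth.Agent.Lib.Helper28.AlgSt.ChartOver Groth.Agent.Lib.Helper28.AlgSt.PropInst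
open Groth.Agent.Lib.Helper28.AlgSt.Bridge Groth.Agent.Lib.Helper28.AlgSt.Descent
open Groth.Agent.Lib.Helper28.AlgSt.Whisker Groth.Agent.Lib.Helper28.AlgSt.Key

variable {S : Scheme.{u}} {U V T : Over S} {𝒳 𝒴 : AlgSt.Cat S}

lemma smooth_le_flat : (@Smooth : MorphismProperty Scheme.{u}) ≤ @Flat := fun _ _ f hf => by
  haveI : Smooth f := hf
  infer_instance

lemma smooth_le_lfp : (@Smooth : MorphismProperty Scheme.{u}) ≤ @LocallyOfFinitePresentation :=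
  fun _ _ f hf => by
    haveI : Smooth f := hf
    infer_instance

lemma repFlat_of_smooth {𝒲 𝒵 : AlgSt.Cat S} (t : 𝒲 ⥤ᵇ 𝒵)
    (ht : AlgSt.RepByAlgSpWith (AlgSp.LocP @Smooth) t) :
    AlgSt.RepByAlgSpWith (AlgSp.LocP @Flat) t :=
  repByAlgSpWith_mono t
    (fun F W g hg => fun A B a b k ha hb w => smooth_le_flat _ _ _ (hg a b k ha hb w)) ht

lemma repLfp_of_smooth {𝒲 𝒵 : AlgSt.Cat S} (t : 𝒲 ⥤ᵇ 𝒵)
    (ht : AlgSt.RepByAlgSpWith (AlgSp.LocP @Smooth) t) :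
    AlgSt.RepByAlgSpWith (AlgSp.LocP @LocallyOfFinitePresentation) t :=
  repByAlgSpWith_mono t
    (fun F W g hg => fun A B a b k ha hb w => smooth_le_lfp _ _ _ (hg a b k ha hb w)) ht

theorem continuous_ofChart (h𝒳 : AlgSt.IsAlgStack Scheme.fppfPrecoverage 𝒳)
    (x : FibCat.overCat U ⥤ᵇ 𝒳) : Continuous (AlgSt.Points.ofChart x) := by
  obtain ⟨V, y, hy1, hy2⟩ := h𝒳.atlas
  obtain ⟨T, h, b, hprop, h2, h3⟩ := chart_inter h𝒳 x y
  haveI hsm : Smooth h.left := hprop @Smooth good_smooth le_rfl hy1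
  have hys : AlgSt.IsSurjective y := isSurjective_of_rep h𝒳.isStack.1 y hy2
  refine ⟨fun W hW => ?_⟩
  have hA : IsOpen (AlgSt.Points.ofChart y ⁻¹' W) := (AlgSt.Points.isOpen_iff.1 hW) V y hy1
  have heq : AlgSt.Points.ofChart x ⁻¹' W =
      h.left '' (b.left ⁻¹' (AlgSt.Points.ofChart y ⁻¹' W)) := by
    ext u
    constructor
    · intro hu
      obtain ⟨ζ, hζ⟩ := hys (AlgSt.Points.ofChart x u)
      obtain ⟨q, rfl⟩ := AlgSt.Points.mk_surjective ζ
      obtain ⟨τ, hτ1, hτ2⟩ := h3 u q hζ.symm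
      refine ⟨τ, ?_, hτ1⟩
      show AlgSt.Points.ofChart y (b.left τ) ∈ W
      rw [← h2 τ, hτ1]
      exact hu
    · rintro ⟨τ, hτ, rfl⟩
      show AlgSt.Points.ofChart x (h.left τ) ∈ W
      rw [h2 τ]
      exact hτ
  rw [heq]
  exact h.left.isOpenMap _ (hA.preimage b.left.continuous)

theorem isOpenMap_ofChart (h𝒳 : AlgSt.IsAlgStack Scheme.fppfPrecoverage 𝒳)
    (x : FibCat.overCat U ⥤ᵇ 𝒳) (hx₁ : AlgSt.RepByAlgSpWith (AlgSp.LocP @Flat) x)
    (hx₂ : AlgSt.RepByAlgSpWith (AlgSp.LocP @LocallyOfFinitePresentation) x) :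
    IsOpenMap (AlgSt.Points.ofChart x) := by
  intro O hO
  rw [AlgSt.Points.isOpen_iff]
  intro V y hy
  obtain ⟨T, h, b, hprop, h2, h3⟩ := chart_inter h𝒳 y x
  haveI : Flat h.left := hprop @Flat good_flat smooth_le_flat hx₁
  haveI : LocallyOfFinitePresentation h.left :=
    hprop @LocallyOfFinitePresentation good_lfp smooth_le_lfp hx₂
  have heq : AlgSt.Points.ofChart y ⁻¹' (AlgSt.Points.ofChart x '' O) =
      h.left '' (b.left ⁻¹' O) := by
    ext v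
    constructor
    · rintro ⟨u, hu, huv⟩
      obtain ⟨τ, hτ1, hτ2⟩ := h3 v (resFPt U u) huv.symm
      rw [ptOf_resFPt] at hτ2
      refine ⟨τ, ?_, hτ1⟩
      show b.left τ ∈ O
      rw [hτ2]
      exact hu
    · rintro ⟨τ, hτ, rfl⟩
      exact ⟨b.left τ, hτ, (h2 τ).symm⟩
  rw [heq]
  exact h.left.isOpenMap _ (hO.preimage b.left.continuous)

theorem continuous_points_map (h𝒴 : AlgSt.IsAlgStack Scheme.fppfPrecoverage 𝒴) (f : 𝒳 ⥤ᵇ 𝒴) :
    Continuous (AlgSt.Points.map f) := by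
  refine ⟨fun W hW => ?_⟩
  rw [AlgSt.Points.isOpen_iff]
  intro U x hx
  have : AlgSt.Points.ofChart x ⁻¹' (AlgSt.Points.map f ⁻¹' W) =
      AlgSt.Points.ofChart (BasedFunctor.comp x f) ⁻¹' W := rfl
  rw [this]
  exact (continuous_ofChart h𝒴 (BasedFunctor.comp x f)).isOpen_preimage W hW

theorem isOpenMap_points_map_space (h𝒳 : AlgSt.IsAlgStack Scheme.fppfPrecoverage 𝒳)
    (F : AlgSp.Space S) (u : AlgSt.ofSp F.obj ⥤ᵇ 𝒳)
    (hu₁ : AlgSt.RepByAlgSpWith (AlgSp.LocP @Flat) u)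
    (hu₂ : AlgSt.RepByAlgSpWith (AlgSp.LocP @LocallyOfFinitePresentation) u) :
    IsOpenMap (AlgSt.Points.map u) := by
  obtain ⟨T, p, hpe, hps⟩ := F.property.atlas
  have hc1 := H10QC.chart_smooth T p hpe
  have hc2 := H10QC.chart_surjective T p hps
  obtain ⟨c, hc⟩ : ∃ c : FibCat.overCat T ⥤ᵇ AlgSt.ofSp F.obj,
      c = BasedFunctor.comp (AlgSt.ofOverCat T) (AlgSt.ofSpMap p) := ⟨_, rfl⟩
  rw [← hc] at hc1 hc2
  have hF : FibCat.IsFibGrpd (AlgSt.ofSp F.obj).p := Stk.isFibGrpd_ofPsh _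
  have hO := isFibGrpd_overForget T
  have hcs : AlgSt.IsSurjective c := isSurjective_of_rep hF c hc2
  have hcu1 := repByAlgSpWith_comp_good good_flat hO hF c u (repFlat_of_smooth c hc1) hu₁
  have hcu2 := repByAlgSpWith_comp_good good_lfp hO hF c u (repLfp_of_smooth c hc1) hu₂
  have hopen := isOpenMap_ofChart h𝒳 (BasedFunctor.comp c u) hcu1 hcu2
  intro O hO'
  have hOT : IsOpen (AlgSt.Points.ofChart c ⁻¹' O) := (AlgSt.Points.isOpen_iff.1 hO') T c hc1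
  have heq : AlgSt.Points.map u '' O =
      AlgSt.Points.ofChart (BasedFunctor.comp c u) '' (AlgSt.Points.ofChart c ⁻¹' O) := by
    ext ξ
    constructor
    · rintro ⟨ω, hω, rfl⟩
      obtain ⟨τ', hτ'⟩ := hcs ω
      obtain ⟨q, rfl⟩ := AlgSt.Points.mk_surjective τ'
      rw [map_mk_eq_ofChart] at hτ'
      refine ⟨ptOf q, ?_, ?_⟩
      · show AlgSt.Points.ofChart c (ptOf q) ∈ O
        rw [hτ']
        exact hω
      · rw [ofChart_comp_right, hτ']
    · rintro ⟨τ, hτ, rfl⟩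
      exact ⟨AlgSt.Points.ofChart c τ, hτ, (ofChart_comp_right c u τ).symm⟩
  rw [heq]
  exact hopen _ hOT

theorem isAlgStack_ofSp (F : AlgSp.Space S) :
    AlgSt.IsAlgStack Scheme.fppfPrecoverage (AlgSt.ofSp F.obj) :=
  Groth.Agent.Lib.Helper28.AlgSt.SpaceStack.isAlgStack_of_repByAlgSp
    ⟨F, BasedFunctor.id _, isEquivOver_id _⟩

theorem isOpen_iff_preimage_space (h𝒳 : AlgSt.IsAlgStack Scheme.fppfPrecoverage 𝒳)
    (F : AlgSp.Space S) (p : AlgSt.ofSp F.obj ⥤ᵇ 𝒳)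
    (hp₁ : AlgSt.RepByAlgSpWith (AlgSp.LocP @Flat) p)
    (hp₂ : AlgSt.RepByAlgSpWith (AlgSp.LocP @LocallyOfFinitePresentation) p)
    (hp₃ : AlgSt.RepByAlgSpWith AlgSp.IsSurjectiveMor p) (W : Set (AlgSt.Points 𝒳)) :
    IsOpen W ↔ IsOpen (AlgSt.Points.map p ⁻¹' W) := by
  constructor
  · intro hW
    exact (continuous_points_map h𝒳 p).isOpen_preimage W hW
  · intro hW
    have hs : AlgSt.IsSurjective p := isSurjective_of_rep h𝒳.isStack.1 p hp₃
    have : W = AlgSt.Points.map p '' (AlgSt.Points.map p ⁻¹' W) :=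
      (Set.image_preimage_eq W hs).symm
    rw [this]
    exact isOpenMap_points_map_space h𝒳 F p hp₁ hp₂ _ hW

theorem exists_isOpen_isCompact_nhd (h𝒳 : AlgSt.IsAlgStack Scheme.fppfPrecoverage 𝒳)
    (x : AlgSt.Points 𝒳) (W : Set (AlgSt.Points 𝒳)) (hW : IsOpen W) (hx : x ∈ W) :
    ∃ V' : Set (AlgSt.Points 𝒳), IsOpen V' ∧ IsCompact V' ∧ x ∈ V' ∧ V' ⊆ W := by
  obtain ⟨V, y, hy1, hy2⟩ := h𝒳.atlas
  have hys := isSurjective_of_rep h𝒳.isStack.1 y hy2
  obtain ⟨ζ, rfl⟩ := hys x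
  obtain ⟨q, rfl⟩ := AlgSt.Points.mk_surjective ζ
  rw [map_mk_eq_ofChart] at hx ⊢
  obtain ⟨v, hv⟩ : ∃ v : ↥V.left, v = ptOf q := ⟨_, rfl⟩
  rw [← hv] at hx ⊢
  have hA : IsOpen (AlgSt.Points.ofChart y ⁻¹' W) := (AlgSt.Points.isOpen_iff.1 hW) V y hy1
  obtain ⟨O, hOaff, hvO, hOA⟩ := exists_isAffineOpen_mem_and_subset
    (X := V.left) (x := v) (U := ⟨_, hA⟩) hx
  refine ⟨AlgSt.Points.ofChart y '' O,
    isOpenMap_ofChart h𝒳 y (repFlat_of_smooth y hy1) (repLfp_of_smooth y hy1) _ O.isOpen,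
    hOaff.isCompact.image (continuous_ofChart h𝒳 y), ⟨v, hvO, rfl⟩, ?_⟩
  rintro _ ⟨v', hv', rfl⟩
  exact hOA hv'

end H10PT
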