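import Mathlib
import Groth.Agent.Lib.Helper10.AlgStPtsTop

/-!
# Quasi-compact algebraic stacks and compactness of the space of points

* `compactSpace_points_of_isQuasiCompact`, `isQuasiCompact_of_compactSpace_points`.
* `isQuasiCompact_of_isSurjective`: the image of a quasi-compact algebraic stack under a
  surjective morphism is quasi-compact.
-/

set_option autoImplicit false
set_option backward.isDefEq.respectTransparency false
set_option backward.isDefEq.respectTransparency.types false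

universe u

open CategoryTheory CategoryTheory.Limits AlgebraicGeometry Opposite

namespace H10PT

open Groth.Agent.Lib.Helper10.Fib Groth.Agent.Lib.Helper10.AlgStRep
open Groth.Agent.Lib.Helper28.AlgSt.ChartOver Groth.Agent.Lib.Helper28.AlgSt.PropInst
open Groth.Agent.Lib.Helper28.AlgSt.Bridge Groth.Agent.Lib.Helper28.AlgSt.Descent
open Groth.Agent.Lib.Helper28.AlgSt.Whisker Groth.Agent.Lib.Helper28.AlgSt.Key

variable {S : Scheme.{u}} {U V T : Over S} {𝒳 𝒴 : AlgSt.Cat S}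

theorem surjective_ofChart (h𝒳 : FibCat.IsFibGrpd 𝒳.p) (x : FibCat.overCat U ⥤ᵇ 𝒳)
    (hx2 : AlgSt.RepByAlgSpWith AlgSp.IsSurjectiveMor x) :
    Function.Surjective (AlgSt.Points.ofChart x) := by
  have hxs := isSurjective_of_rep h𝒳 x hx2
  intro ξ
  obtain ⟨ζ, rfl⟩ := hxs ξ
  obtain ⟨q, rfl⟩ := AlgSt.Points.mk_surjective ζ
  exact ⟨ptOf q, (map_mk_eq_ofChart x q).symm⟩

theorem compactSpace_points_of_isQuasiCompact
    (h𝒳 : AlgSt.IsAlgStack Scheme.fppfPrecoverage 𝒳) (h : AlgSt.IsQuasiCompact 𝒳) :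
    CompactSpace (AlgSt.Points 𝒳) := by
  obtain ⟨U, x, hA, hx1, hx2⟩ := h
  haveI := hA
  have hsurj := surjective_ofChart h𝒳.isStack.1 x hx2
  constructor
  rw [← Set.range_eq_univ.2 hsurj]
  exact isCompact_range (continuous_ofChart h𝒳 x)

theorem homOfOver_chart {W : Over S} (cW : W ⟶ V) :
    homOfOver (BasedFunctor.comp (BasedFunctor.comp (AlgSt.ofOverCat W)
      (AlgSt.ofSpMap ((AlgSp.yon S).map cW))) (AlgSt.toOverCat V)) = cW := by
  unfold homOfOver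
  show eqToHom _ ≫ (𝟙 W ≫ cW) = cW
  rw [eqToHom_refl, Category.id_comp, Category.id_comp]

theorem isQuasiCompact_of_compactSpace_points
    (h𝒳 : AlgSt.IsAlgStack Scheme.fppfPrecoverage 𝒳) [CompactSpace (AlgSt.Points 𝒳)] :
    AlgSt.IsQuasiCompact 𝒳 := by
  obtain ⟨V, y, hy1, hy2⟩ := h𝒳.atlas
  have hysurj := surjective_ofChart h𝒳.isStack.1 y hy2
  have hopen := isOpenMap_ofChart h𝒳 y (repFlat_of_smooth y hy1) (repLfp_of_smooth y hy1)
  obtain ⟨𝒱, h𝒱⟩ : ∃ 𝒱 : V.left.OpenCover, 𝒱 = V.left.affineCover := ⟨_, rfl⟩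
  have hcov : ∀ ξ : AlgSt.Points 𝒳, ∃ i, ξ ∈ AlgSt.Points.ofChart y '' Set.range (𝒱.f i) := by
    intro ξ
    obtain ⟨v, rfl⟩ := hysurj ξ
    obtain ⟨i, v₀, hv₀⟩ := 𝒱.exists_eq v
    exact ⟨i, v, ⟨v₀, hv₀⟩, rfl⟩
  obtain ⟨t, ht⟩ := isCompact_univ.elim_finite_subcover
    (fun i => AlgSt.Points.ofChart y '' Set.range (𝒱.f i))
    (fun i => hopen _ (𝒱.f i).isOpenEmbedding.isOpen_range)
    (fun ξ _ => by
      obtain ⟨i, hi⟩ := hcov ξ
      exact Set.mem_iUnion.2 ⟨i, hi⟩)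
  haveI : ∀ i : t, IsAffine (𝒱.X i.1) := by
    subst h𝒱
    intro i
    infer_instance
  obtain ⟨c, hc⟩ : ∃ c : (∐ fun i : t => 𝒱.X i.1) ⟶ V.left,
      c = Sigma.desc (fun i : t => 𝒱.f i.1) := ⟨_, rfl⟩
  haveI : Etale c := by
    rw [hc]
    exact IsZariskiLocalAtSource.sigmaDesc (fun i => inferInstance)
  obtain ⟨cW, hcW⟩ : ∃ cW : Over.mk (c ≫ V.hom) ⟶ V, cW = Over.homMk c rfl := ⟨_, rfl⟩
  have hcl : cW.left = c := by rw [hcW]; rfl
  have hpe : AlgSp.RepWith @Etale ((AlgSp.yon S).map cW) :=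
    (AlgSp.repWith_yon_map_iff _ _).2 (by rw [hcl]; infer_instance)
  have hO := isFibGrpd_overForget (Over.mk (c ≫ V.hom))
  have hVf := isFibGrpd_overForget V
  obtain ⟨G, hG⟩ : ∃ G : FibCat.overCat (Over.mk (c ≫ V.hom)) ⥤ᵇ FibCat.overCat V,
      G = BasedFunctor.comp (BasedFunctor.comp (AlgSt.ofOverCat _)
        (AlgSt.ofSpMap ((AlgSp.yon S).map cW))) (AlgSt.toOverCat V) := ⟨_, rfl⟩
  have s1 : AlgSt.RepByAlgSpWith (AlgSp.LocP @Smooth) G := by
    rw [hG]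
    exact repByAlgSpWith_comp_equiv _ _ (AlgSt.toOverCat V) (isEquivOver_toOverCat V)
      (H10QC.chart_smooth _ _ hpe)
  have hGh : homOfOver G = cW := by
    rw [hG]
    exact homOfOver_chart cW
  have hx1 : AlgSt.RepByAlgSpWith (AlgSp.LocP @Smooth) (BasedFunctor.comp G y) :=
    repByAlgSpWith_comp_smooth hO hVf G y s1 hy1
  have hxs : AlgSt.IsSurjective (BasedFunctor.comp G y) := by
    intro ξ
    have hξ := ht (Set.mem_univ ξ)
    simp only [Set.mem_iUnion] at hξ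
    obtain ⟨i, hi, v, ⟨v₀, hv₀⟩, hvξ⟩ := hξ
    refine ⟨AlgSt.Points.mk (resFPt _
      ((Sigma.ι (fun i : t => 𝒱.X i.1) ⟨i, hi⟩) v₀)), ?_⟩
    rw [← ofChart_eq, ofChart_comp, hGh, hcl, hc]
    have e : (Sigma.desc (fun i : t => 𝒱.f i.1))
        ((Sigma.ι (fun i : t => 𝒱.X i.1) ⟨i, hi⟩) v₀) = 𝒱.f i v₀ := by
      rw [← Scheme.Hom.comp_apply, Sigma.ι_desc]
    exact (congrArg (AlgSt.Points.ofChart y) (e.trans hv₀)).trans hvξ
  have hx2 : AlgSt.RepByAlgSpWith AlgSp.IsSurjectiveMor (BasedFunctor.comp G y) :=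
    rep_of_isSurjective hO h𝒳.isStack.1 (BasedFunctor.comp G y) (repByAlgSp1_of_with _ _ hx1) hxs
  refine ⟨Over.mk (c ≫ V.hom), BasedFunctor.comp G y, ?_, hx1, hx2⟩
  show IsAffine (∐ fun i : t => 𝒱.X i.1)
  infer_instance

theorem isQuasiCompact_of_isSurjective {𝒰 : AlgSt.Cat S}
    (h𝒰 : AlgSt.IsAlgStack Scheme.fppfPrecoverage 𝒰)
    (h𝒳 : AlgSt.IsAlgStack Scheme.fppfPrecoverage 𝒳) (f : 𝒰 ⥤ᵇ 𝒳) (hf : AlgSt.IsSurjective f)
    (h𝒰' : AlgSt.IsQuasiCompact 𝒰) : AlgSt.IsQuasiCompact 𝒳 := by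
  haveI := compactSpace_points_of_isQuasiCompact h𝒰 h𝒰'
  haveI : CompactSpace (AlgSt.Points 𝒳) := by
    constructor
    rw [← Set.range_eq_univ.2 hf]
    exact isCompact_range (continuous_points_map h𝒳 f)
  exact isQuasiCompact_of_compactSpace_points h𝒳

end H10PT
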