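import Mathlib
import Groth.Agent.Lib.Helper10.AlgStQCTop

/-!
# Open maps on points for morphisms of algebraic stacks

* `isOpenMap_points_map`: a flat, locally finitely presented morphism of algebraic stacks
  (representable by algebraic spaces) is open on points.
* `locP_smooth_of_openImm`: open immersions of algebraic spaces into schemes are smooth.
* `isOpen_range_of_isOpenImm`.
-/

set_option autoImplicit false
set_option backward.isDefEq.respectTransparency false
set_option backward.isDefEq.respectTransparency.types false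

universe u

open CategoryTheory CategoryTheory.Limits AlgebraicGeometry Opposite

namespace H10PT

open Groth.Agent.Lib.Helper10.Fib Groth.Agent.Lib.Helper10.AlgStRep
open Groth.Agent.Lib.Helper28.AlgSt.ChartOver Groth.Agent.Lib.Helper28.AlgSt.PropInst
open Groth.Agent.Lib.Helper28.AlgSt.Bridge Groth.Agent.Lib.Helper28.AlgSt.Descent
open Groth.Agent.Lib.Helper28.AlgSt.Whisker Groth.Agent.Lib.Helper28.AlgSt.Key
open Groth.Agent.Lib.Helper16

variable {S : Scheme.{u}} {U V T : Over S} {𝒳 𝒴 𝒰 : AlgSt.Cat S}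

theorem isOpenMap_points_map (h𝒰 : AlgSt.IsAlgStack Scheme.fppfPrecoverage 𝒰)
    (h𝒳 : AlgSt.IsAlgStack Scheme.fppfPrecoverage 𝒳) (f : 𝒰 ⥤ᵇ 𝒳)
    (hf₁ : AlgSt.RepByAlgSpWith (AlgSp.LocP @Flat) f)
    (hf₂ : AlgSt.RepByAlgSpWith (AlgSp.LocP @LocallyOfFinitePresentation) f) :
    IsOpenMap (AlgSt.Points.map f) := by
  obtain ⟨U, u, hu1, hu2⟩ := h𝒰.atlas
  have hus := surjective_ofChart h𝒰.isStack.1 u hu2
  have hO := isFibGrpd_overForget U
  have hc1 := repByAlgSpWith_comp_good good_flat hO h𝒰.isStack.1 u f (repFlat_of_smooth u hu1) hf₁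
  have hc2 := repByAlgSpWith_comp_good good_lfp hO h𝒰.isStack.1 u f (repLfp_of_smooth u hu1) hf₂
  have hopen := isOpenMap_ofChart h𝒳 (BasedFunctor.comp u f) hc1 hc2
  intro O hO'
  have hOU : IsOpen (AlgSt.Points.ofChart u ⁻¹' O) := (AlgSt.Points.isOpen_iff.1 hO') U u hu1
  have heq : AlgSt.Points.map f '' O =
      AlgSt.Points.ofChart (BasedFunctor.comp u f) '' (AlgSt.Points.ofChart u ⁻¹' O) := by
    ext ξ
    constructor
    · rintro ⟨ω, hω, rfl⟩
      obtain ⟨τ, rfl⟩ := hus ω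
      exact ⟨τ, hω, ofChart_comp_right u f τ⟩
    · rintro ⟨τ, hτ, rfl⟩
      exact ⟨AlgSt.Points.ofChart u τ, hτ, (ofChart_comp_right u f τ).symm⟩
  rw [heq]
  exact hopen _ hOU

lemma locP_smooth_of_openImm (F : AlgSp.Space S) (U : Over S)
    (g : F.obj ⟶ (AlgSp.yon S).obj U) (hg : AlgSp.RepWith @IsOpenImmersion g) :
    AlgSp.LocP @Smooth g :=
  locP_of_repWith_etale etLocalST_smooth F.property (AlgSp.IsAlgSpace.yon_obj U) g
    (MorphismProperty.relative_monotone (fun _ _ k hk => by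
      haveI : IsOpenImmersion k.left := hk
      exact (inferInstance : Etale k.left)) _ hg)

theorem repSmooth_of_isOpenImm {𝒲 𝒵 : AlgSt.Cat S} (i : 𝒲 ⥤ᵇ 𝒵) (hi : AlgSt.IsOpenImm i) :
    AlgSt.RepByAlgSpWith (AlgSp.LocP @Smooth) i :=
  repByAlgSpWith_mono i (fun F U g hg => locP_smooth_of_openImm F U g hg) hi

theorem isOpen_range_of_isOpenImm (h𝒰 : AlgSt.IsAlgStack Scheme.fppfPrecoverage 𝒰)
    (h𝒳 : AlgSt.IsAlgStack Scheme.fppfPrecoverage 𝒳) (i : 𝒰 ⥤ᵇ 𝒳) (hi : AlgSt.IsOpenImm i) :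
    IsOpen (Set.range (AlgSt.Points.map i)) := by
  have hsm := repSmooth_of_isOpenImm i hi
  rw [← Set.image_univ]
  exact isOpenMap_points_map h𝒰 h𝒳 i (repFlat_of_smooth i hsm) (repLfp_of_smooth i hsm) _
    isOpen_univ

end H10PT
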