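import Mathlib
import Groth.Agent.Lib.Helper10.AlgStPtsOpen
import Groth.Agent.Lib.Helper10.FibBC
import Groth.Agent.S12763

/-!
# Refining flat covers of quasi-compact algebraic stacks by affine schemes

* `isQuasiCompact_overCat`: `(Sch/W)` is quasi-compact for `W` affine.
* `exists_affine_refinement`: a flat, locally finitely presented chart `ρ : (Sch/V) ⟶ 𝒵`, surjective
  on points, of an algebraic stack with quasi-compact space of points can be refined by an affine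
  scheme `W ⟶ V` such that `(Sch/W) ⟶ 𝒵` is still surjective on points.
* `isQuasiCompact_fp_of_cover`: quasi-compactness of `𝒵 ×_𝒴 𝒳` from quasi-compactness of the base
  change of `f` to a flat cover `w : 𝒲 ⟶ 𝒴`.
-/

set_option autoImplicit false
set_option backward.isDefEq.respectTransparency false
set_option backward.isDefEq.respectTransparency.types false

universe u

open CategoryTheory CategoryTheory.Limits AlgebraicGeometry Opposite

namespace H10PT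

open Groth.Agent.Lib.Helper10.Fib Groth.Agent.Lib.Helper10.AlgStRep
open Groth.Agent.Lib.Helper28.AlgSt.ChartOver Groth.Agent.Lib.Helper28.AlgSt.PropInst
open Groth.Agent.Lib.Helper28.AlgSt.Bridge Groth.Agent.Lib.Helper28.AlgSt.Descent
open Groth.Agent.Lib.Helper28.AlgSt.Whisker Groth.Agent.Lib.Helper28.AlgSt.Key
open Groth.Agent.Lib.Helper16

variable {S : Scheme.{u}} {U V T : Over S} {𝒳 𝒴 𝒵 𝒲 : AlgSt.Cat S}

theorem compactSpace_points_overCat (W : Over S) [CompactSpace W.left] :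
    CompactSpace (AlgSt.Points (FibCat.overCat W)) := by
  have hsurj : Function.Surjective (AlgSt.Points.ofChart (BasedFunctor.id (FibCat.overCat W))) := by
    intro ξ
    obtain ⟨q, rfl⟩ := AlgSt.Points.mk_surjective ξ
    refine ⟨ptOf q, ?_⟩
    rw [← map_mk_eq_ofChart, points_map_id]
    rfl
  constructor
  rw [← Set.range_eq_univ.2 hsurj]
  exact isCompact_range (continuous_ofChart (isAlgStack_overCat W) _)

theorem isQuasiCompact_overCat (W : Over S) [IsAffine W.left] :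
    AlgSt.IsQuasiCompact (FibCat.overCat W) := by
  haveI := compactSpace_points_overCat W
  exact isQuasiCompact_of_compactSpace_points (isAlgStack_overCat W)

theorem exists_affine_refinement (h𝒵 : AlgSt.IsAlgStack Scheme.fppfPrecoverage 𝒵)
    [CompactSpace (AlgSt.Points 𝒵)] (ρ : FibCat.overCat V ⥤ᵇ 𝒵)
    (hρ₁ : AlgSt.RepByAlgSpWith (AlgSp.LocP @Flat) ρ)
    (hρ₂ : AlgSt.RepByAlgSpWith (AlgSp.LocP @LocallyOfFinitePresentation) ρ)
    (hρ₃ : Function.Surjective (AlgSt.Points.ofChart ρ)) :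
    ∃ (W : Over S) (G : FibCat.overCat W ⥤ᵇ FibCat.overCat V), IsAffine W.left ∧
      AlgSt.IsSurjective (BasedFunctor.comp G ρ) := by
  have hopen := isOpenMap_ofChart h𝒵 ρ hρ₁ hρ₂
  obtain ⟨𝒱, h𝒱⟩ : ∃ 𝒱 : V.left.OpenCover, 𝒱 = V.left.affineCover := ⟨_, rfl⟩
  have hcov : ∀ ξ : AlgSt.Points 𝒵, ∃ i, ξ ∈ AlgSt.Points.ofChart ρ '' Set.range (𝒱.f i) := by
    intro ξ
    obtain ⟨v, rfl⟩ := hρ₃ ξ
    obtain ⟨i, v₀, hv₀⟩ := 𝒱.exists_eq v
    exact ⟨i, v, ⟨v₀, hv₀⟩, rfl⟩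
  obtain ⟨t, ht⟩ := isCompact_univ.elim_finite_subcover
    (fun i => AlgSt.Points.ofChart ρ '' Set.range (𝒱.f i))
    (fun i => hopen _ (𝒱.f i).isOpenEmbedding.isOpen_range)
    (fun ξ _ => by
      obtain ⟨i, hi⟩ := hcov ξ
      exact Set.mem_iUnion.2 ⟨i, hi⟩)
  haveI : ∀ i : t, IsAffine (𝒱.X i.1) := by
    subst h𝒱
    intro i
    infer_instance
  obtain ⟨c, hc⟩ : ∃ c : (∐ fun i : t => 𝒱.X i.1) ⟶ V.left,
      c = Sigma.desc (fun i : t => 𝒱.f i.1) := ⟨_, rfl⟩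
  obtain ⟨cW, hcW⟩ : ∃ cW : Over.mk (c ≫ V.hom) ⟶ V, cW = Over.homMk c rfl := ⟨_, rfl⟩
  have hcl : cW.left = c := by rw [hcW]; rfl
  obtain ⟨G, hG⟩ : ∃ G : FibCat.overCat (Over.mk (c ≫ V.hom)) ⥤ᵇ FibCat.overCat V,
      G = BasedFunctor.comp (BasedFunctor.comp (AlgSt.ofOverCat _)
        (AlgSt.ofSpMap ((AlgSp.yon S).map cW))) (AlgSt.toOverCat V) := ⟨_, rfl⟩
  have hGh : homOfOver G = cW := by
    rw [hG]
    exact homOfOver_chart cW
  refine ⟨Over.mk (c ≫ V.hom), G, ?_, ?_⟩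
  · show IsAffine (∐ fun i : t => 𝒱.X i.1)
    infer_instance
  · intro ξ
    have hξ := ht (Set.mem_univ ξ)
    simp only [Set.mem_iUnion] at hξ
    obtain ⟨i, hi, v, ⟨v₀, hv₀⟩, hvξ⟩ := hξ
    refine ⟨AlgSt.Points.mk (resFPt _
      ((Sigma.ι (fun i : t => 𝒱.X i.1) ⟨i, hi⟩) v₀)), ?_⟩
    rw [← ofChart_eq, ofChart_comp, hGh, hcl, hc]
    have e : (Sigma.desc (fun i : t => 𝒱.f i.1))
        ((Sigma.ι (fun i : t => 𝒱.X i.1) ⟨i, hi⟩) v₀) = 𝒱.f i v₀ := by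
      rw [← Scheme.Hom.comp_apply, Sigma.ι_desc]
    exact (congrArg (AlgSt.Points.ofChart ρ) (e.trans hv₀)).trans hvξ

/-- Descent of quasi-compactness of `𝒵 ×_𝒴 𝒳` along a flat, locally finitely presented, surjective
`w : 𝒲 ⟶ 𝒴` for which `𝒲 ×_𝒴 𝒳 ⟶ 𝒲` is quasi-compact. -/
theorem isQuasiCompact_fp_of_cover (h𝒳 : AlgSt.IsAlgStack Scheme.fppfPrecoverage 𝒳)
    (h𝒴 : AlgSt.IsAlgStack Scheme.fppfPrecoverage 𝒴)
    (h𝒲 : AlgSt.IsAlgStack Scheme.fppfPrecoverage 𝒲)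
    (h𝒵 : AlgSt.IsAlgStack Scheme.fppfPrecoverage 𝒵) (f : 𝒳 ⥤ᵇ 𝒴) (w : 𝒲 ⥤ᵇ 𝒴)
    (hw₁ : AlgSt.RepByAlgSpWith (AlgSp.LocP @Flat) w)
    (hw₂ : AlgSt.RepByAlgSpWith (AlgSp.LocP @LocallyOfFinitePresentation) w)
    (hw₃ : AlgSt.RepByAlgSpWith AlgSp.IsSurjectiveMor w)
    (H : AlgSt.IsQuasiCompactMor Scheme.fppfPrecoverage (FibCat.fpFst w f))
    (hqc : AlgSt.IsQuasiCompact 𝒵) (g : 𝒵 ⥤ᵇ 𝒴) : AlgSt.IsQuasiCompact (FibCat.fp g f) := by
  have a'' : AlgSt.IsAlgStack Scheme.fppfPrecoverage (FibCat.fp g w) :=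
    Groth.Agent.S12763.result h𝒴.isStack h𝒴.diag h𝒵 h𝒲 g w
  have hπ₁ := repByAlgSpWith_fpFst _ w g hw₁
  have hπ₂ := repByAlgSpWith_fpFst _ w g hw₂
  have hπ₃ := repByAlgSpWith_fpFst _ w g hw₃
  obtain ⟨V, v, hv1, hv2⟩ := a''.atlas
  have hO := isFibGrpd_overForget V
  have hρ₁ := repByAlgSpWith_comp_good good_flat hO a''.isStack.1 v _ (repFlat_of_smooth v hv1) hπ₁
  have hρ₂ := repByAlgSpWith_comp_good good_lfp hO a''.isStack.1 v _ (repLfp_of_smooth v hv1) hπ₂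
  have hρ₃ := repByAlgSpWith_comp_surjective hO a''.isStack.1 v _ hv2 hπ₃
  haveI := compactSpace_points_of_isQuasiCompact h𝒵 hqc
  obtain ⟨W', G, hW', hs⟩ := exists_affine_refinement h𝒵
    (BasedFunctor.comp v (FibCat.fpFst g w)) hρ₁ hρ₂
    (surjective_ofChart h𝒵.isStack.1 _ hρ₃)
  haveI := hW'
  obtain ⟨ρ', hρ'⟩ : ∃ ρ' : FibCat.overCat W' ⥤ᵇ 𝒵,
      ρ' = BasedFunctor.comp G (BasedFunctor.comp v (FibCat.fpFst g w)) := ⟨_, rfl⟩
  obtain ⟨m, hm⟩ : ∃ m : FibCat.overCat W' ⥤ᵇ 𝒲,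
      m = BasedFunctor.comp (BasedFunctor.comp G v) (FibCat.fpSnd g w) := ⟨_, rfl⟩
  have θ : BasedFunctor.comp ρ' g ≅ BasedFunctor.comp m w := by
    rw [hρ', hm]
    exact wl (BasedFunctor.comp G v) (FibCat.fpIso g w)
  have hW'alg := isAlgStack_overCat W'
  have qc1 : AlgSt.IsQuasiCompact (FibCat.fp m (FibCat.fpFst w f)) :=
    H (FibCat.overCat W') hW'alg (isQuasiCompact_overCat W') m
  have qc2 : AlgSt.IsQuasiCompact (FibCat.fp (BasedFunctor.comp m w) f) :=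
    isQuasiCompact_of_isEquivOver (paste1 m w f) (isEquivOver_paste1 m w f) qc1
  have := id_full 𝒴
  have := id_faithful 𝒴
  have hE : FibCat.IsEquivOver (fpMap (γ := BasedFunctor.id 𝒴)
      (α := BasedFunctor.id (FibCat.overCat W')) (β := BasedFunctor.id 𝒳)
      (G' := BasedFunctor.comp ρ' g) (G := BasedFunctor.comp m w) (f' := f) (f := f)
      θ (Iso.refl _)) :=
    isEquivOver_fpMap _ _ (isEquivOver_id _) (isEquivOver_id _)
  have qc3 : AlgSt.IsQuasiCompact (FibCat.fp (BasedFunctor.comp ρ' g) f) :=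
    isQuasiCompact_of_isEquivOver' _ hE qc2
  have qc4 : AlgSt.IsQuasiCompact (FibCat.fp ρ' (FibCat.fpFst g f)) :=
    isQuasiCompact_of_isEquivOver' (paste1 ρ' g f) (isEquivOver_paste1 ρ' g f) qc3
  have a3 : AlgSt.IsAlgStack Scheme.fppfPrecoverage (FibCat.fp g f) :=
    Groth.Agent.S12763.result h𝒴.isStack h𝒴.diag h𝒵 h𝒳 g f
  have a4 : AlgSt.IsAlgStack Scheme.fppfPrecoverage (FibCat.fp ρ' (FibCat.fpFst g f)) :=
    Groth.Agent.S12763.result h𝒵.isStack h𝒵.diag hW'alg a3 ρ' (FibCat.fpFst g f)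
  have hsurj : AlgSt.IsSurjective (FibCat.fpSnd ρ' (FibCat.fpFst g f)) := by
    intro z
    obtain ⟨τ, hτ⟩ := hs (AlgSt.Points.map (FibCat.fpFst g f) z)
    rw [← hρ'] at hτ
    obtain ⟨w', -, hw2⟩ := exists_fp_point a3.isStack.1 h𝒵.isStack.1 hW'alg.isStack.1
      (FibCat.fpFst g f) ρ' τ z hτ
    exact ⟨w', hw2⟩
  exact isQuasiCompact_of_isSurjective a4 a3 _ hsurj qc4

end H10PT
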