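import Mathlib
import Groth.Agent.Lib.Helper10.AlgStQCDesc
import Groth.Agent.Lib.Helper10.AlgStGraph
import Groth.Agent.Lib.Helper10.AlgStSwap
import Groth.Agent.S12983

/-!
# Quasi-compact morphisms of algebraic stacks

* `isQuasiCompact_ofSp`: the stack of a quasi-compact algebraic space is quasi-compact.
* `isQuasiCompactMor_of_rep`: a morphism representable by algebraic spaces all of whose base changes
  to schemes are quasi-compact morphisms of algebraic spaces is a quasi-compact morphism of stacks.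
* `isQuasiCompactMor_fpSnd`: base change along the second projection.
* `isQuasiCompactMor_of_iso`: invariance under 2-isomorphism.
* `isQuasiCompactMor_of_comp_of_qs`: cancellation for quasi-separated second factor.
-/

set_option autoImplicit false
set_option backward.isDefEq.respectTransparency false
set_option backward.isDefEq.respectTransparency.types false

universe u

open CategoryTheory CategoryTheory.Limits AlgebraicGeometry Opposite

namespace H10PT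

open Groth.Agent.Lib.Helper10.Fib Groth.Agent.Lib.Helper10.AlgStRep
open Groth.Agent.Lib.Helper28.AlgSt.ChartOver Groth.Agent.Lib.Helper28.AlgSt.PropInst
open Groth.Agent.Lib.Helper28.AlgSt.Bridge Groth.Agent.Lib.Helper28.AlgSt.Descent
open Groth.Agent.Lib.Helper28.AlgSt.Whisker Groth.Agent.Lib.Helper28.AlgSt.Key
open Groth.Agent.Lib.Helper16

variable {S : Scheme.{u}} {U V T : Over S} {𝒳 𝒴 𝒵 𝒲 : AlgSt.Cat S}

theorem isQuasiCompact_ofSp (F : AlgSp.Space S) (hF : AlgSp.IsQuasiCompactSp F.obj) :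
    AlgSt.IsQuasiCompact (AlgSt.ofSp F.obj) := by
  obtain ⟨T, p, hpe, hps, hT⟩ := hF
  haveI : CompactSpace T.left := hT
  exact H10QC.isQuasiCompact_of_compact_chart T _ (H10QC.chart_smooth T p hpe)
    (H10QC.chart_surjective T p hps)

theorem isQuasiCompactSp_yon (U : Over S) [CompactSpace U.left] :
    AlgSp.IsQuasiCompactSp ((AlgSp.yon S).obj U) :=
  ⟨U, 𝟙 _, AlgSp.repWith_id @Etale U, AlgSp.repWith_id @Surjective U, inferInstance⟩

theorem isQuasiCompactMor_of_rep (h𝒳 : AlgSt.IsAlgStack Scheme.fppfPrecoverage 𝒳)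
    (h𝒴 : AlgSt.IsAlgStack Scheme.fppfPrecoverage 𝒴) (f : 𝒳 ⥤ᵇ 𝒴)
    (hf : AlgSt.RepByAlgSpWith AlgSp.IsQuasiCompactMor f) :
    AlgSt.IsQuasiCompactMor Scheme.fppfPrecoverage f := by
  intro 𝒵 h𝒵 hqc g
  obtain ⟨U, u, hU, hu1, hu2⟩ := hqc
  haveI := hU
  obtain ⟨F, e, he, hP⟩ := hf U (BasedFunctor.comp u g)
  have hFqc : AlgSp.IsQuasiCompactSp F.obj :=
    hP (AlgSp.IsAlgSpace.yon_obj U) (isQuasiCompactSp_yon U) (𝟙 _) (𝟙 _) _ IsPullback.of_id_fst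
  have q0 : AlgSt.IsQuasiCompact (AlgSt.ofSp F.obj) := isQuasiCompact_ofSp F hFqc
  have q1 : AlgSt.IsQuasiCompact (FibCat.fp (BasedFunctor.comp u g) f) :=
    isQuasiCompact_of_isEquivOver e he q0
  have q2 : AlgSt.IsQuasiCompact (FibCat.fp u (FibCat.fpFst g f)) :=
    isQuasiCompact_of_isEquivOver' (paste1 u g f) (isEquivOver_paste1 u g f) q1
  have a1 : AlgSt.IsAlgStack Scheme.fppfPrecoverage (FibCat.fp g f) :=
    Groth.Agent.S12763.result h𝒴.isStack h𝒴.diag h𝒵 h𝒳 g f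
  have a2 : AlgSt.IsAlgStack Scheme.fppfPrecoverage (FibCat.fp u (FibCat.fpFst g f)) :=
    Groth.Agent.S12763.result h𝒵.isStack h𝒵.diag (isAlgStack_overCat U) a1 u (FibCat.fpFst g f)
  have hs : AlgSt.RepByAlgSpWith AlgSp.IsSurjectiveMor (FibCat.fpSnd u (FibCat.fpFst g f)) :=
    repByAlgSpWith_fpSnd _ u (FibCat.fpFst g f) hu2
  have hs' : AlgSt.IsSurjective (FibCat.fpSnd u (FibCat.fpFst g f)) :=
    isSurjective_of_rep a1.isStack.1 _ hs
  exact isQuasiCompact_of_isSurjective a2 a1 _ hs' q2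

theorem isQuasiCompactMor_fpSnd (p : 𝒳 ⥤ᵇ 𝒵) (q : 𝒴 ⥤ᵇ 𝒵)
    (hp : AlgSt.IsQuasiCompactMor Scheme.fppfPrecoverage p) :
    AlgSt.IsQuasiCompactMor Scheme.fppfPrecoverage (FibCat.fpSnd p q) := by
  intro 𝒲 h𝒲 hqc k
  have h1 := hp 𝒲 h𝒲 hqc (BasedFunctor.comp k q)
  have h2 : AlgSt.IsQuasiCompact (FibCat.fp k (FibCat.fpFst q p)) :=
    isQuasiCompact_of_isEquivOver' (paste1 k q p) (isEquivOver_paste1 k q p) h1
  have := id_full 𝒴
  have := id_faithful 𝒴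
  obtain ⟨e₁, -⟩ : ∃ _ : BasedFunctor.comp k (BasedFunctor.id 𝒴) ≅
      BasedFunctor.comp (BasedFunctor.id 𝒲) k, True := ⟨Iso.refl _, trivial⟩
  obtain ⟨e₂, -⟩ : ∃ _ : BasedFunctor.comp (FibCat.fpSnd p q) (BasedFunctor.id 𝒴) ≅
      BasedFunctor.comp (fpSwap p q) (FibCat.fpFst q p), True := ⟨Iso.refl _, trivial⟩
  exact isQuasiCompact_of_isEquivOver' (fpMap e₁ e₂)
    (isEquivOver_fpMap e₁ e₂ (isEquivOver_id _) (isEquivOver_fpSwap p q)) h2

theorem isQuasiCompactMor_of_iso (f f' : 𝒳 ⥤ᵇ 𝒴) (θ : f' ≅ f)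
    (hf : AlgSt.IsQuasiCompactMor Scheme.fppfPrecoverage f) :
    AlgSt.IsQuasiCompactMor Scheme.fppfPrecoverage f' := by
  intro 𝒲 h𝒲 hqc k
  have h1 := hf 𝒲 h𝒲 hqc k
  have := id_full 𝒴
  have := id_faithful 𝒴
  obtain ⟨e₁, -⟩ : ∃ _ : BasedFunctor.comp k (BasedFunctor.id 𝒴) ≅
      BasedFunctor.comp (BasedFunctor.id 𝒲) k, True := ⟨Iso.refl _, trivial⟩
  obtain ⟨e₂, -⟩ : ∃ _ : BasedFunctor.comp f' (BasedFunctor.id 𝒴) ≅
      BasedFunctor.comp (BasedFunctor.id 𝒳) f, True := ⟨θ, trivial⟩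
  exact isQuasiCompact_of_isEquivOver' (fpMap e₁ e₂)
    (isEquivOver_fpMap e₁ e₂ (isEquivOver_id _) (isEquivOver_id _)) h1

theorem isQuasiCompactMor_of_comp_of_qs (h𝒳 : AlgSt.IsAlgStack Scheme.fppfPrecoverage 𝒳)
    (h𝒴 : AlgSt.IsAlgStack Scheme.fppfPrecoverage 𝒴)
    (h𝒵 : AlgSt.IsAlgStack Scheme.fppfPrecoverage 𝒵) (f : 𝒳 ⥤ᵇ 𝒴) (g : 𝒴 ⥤ᵇ 𝒵)
    (hgf : AlgSt.IsQuasiCompactMor Scheme.fppfPrecoverage (BasedFunctor.comp f g))
    (hg : AlgSt.RepByAlgSpWith AlgSp.IsQuasiCompactMor (FibCat.diag g)) :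
    AlgSt.IsQuasiCompactMor Scheme.fppfPrecoverage f := by
  obtain ⟨e, -⟩ : ∃ _ : BasedFunctor.comp (BasedFunctor.id 𝒳) (BasedFunctor.comp f g) ≅
      BasedFunctor.comp f g, True := ⟨Iso.refl _, trivial⟩
  have hΓ := repByAlgSpWith_graph AlgSp.IsQuasiCompactMor h𝒳.isStack.1 h𝒴.isStack.1 h𝒵.isStack.1
    (BasedFunctor.comp f g) g f e hg
  have a1 : AlgSt.IsAlgStack Scheme.fppfPrecoverage (FibCat.fp (BasedFunctor.comp f g) g) :=
    Groth.Agent.S12763.result h𝒵.isStack h𝒵.diag h𝒳 h𝒴 (BasedFunctor.comp f g) g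
  have hΓ' := isQuasiCompactMor_of_rep h𝒳 a1 _ hΓ
  have hpr := isQuasiCompactMor_fpSnd (BasedFunctor.comp f g) g hgf
  have hc := Groth.Agent.S12983.result S 𝒳 (FibCat.fp (BasedFunctor.comp f g) g) 𝒴 h𝒳 a1 h𝒴 _ _
    hΓ' hpr
  obtain ⟨θ, -⟩ : ∃ _ : f ≅ BasedFunctor.comp (FibCat.fpLift (BasedFunctor.id 𝒳) f e)
      (FibCat.fpSnd (BasedFunctor.comp f g) g), True := ⟨Iso.refl _, trivial⟩
  exact isQuasiCompactMor_of_iso _ f θ hc

end H10PT
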