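import Mathlib
import Groth.Agent.Lib.Helper10.AlgStQCMor
import Groth.Agent.Lib.Helper16.QuasiCompact

/-!
# The points of an algebraic space and the points of its stack

* `ptsOfSp : AlgSp.Points F → AlgSt.Points (ofSp F)` and `ptsToSp` the other way, inverse bijections
  (`ptsEquiv`), natural in `F` (`ptsOfSp_map`), compatible with charts (`ptsOfSp_ofPt`).
* `ptsHomeo F` for an algebraic space `F`: the bijection is a homeomorphism.
* `pointsHomeoOfEquiv`: an equivalence over the base of algebraic stacks is a homeomorphism on points.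
-/

set_option autoImplicit false
set_option backward.isDefEq.respectTransparency false
set_option backward.isDefEq.respectTransparency.types false

universe u

open CategoryTheory CategoryTheory.Limits AlgebraicGeometry Opposite

noncomputable section

namespace H10PT

open Groth.Agent.Lib.Helper10.Fib Groth.Agent.Lib.Helper10.AlgStRep
open Groth.Agent.Lib.Helper28.AlgSt.ChartOver Groth.Agent.Lib.Helper28.AlgSt.PropInst
open Groth.Agent.Lib.Helper28.AlgSt.Bridge Groth.Agent.Lib.Helper28.AlgSt.Descent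
open Groth.Agent.Lib.Helper28.AlgSt.Whisker Groth.Agent.Lib.Helper28.AlgSt.Key
open Groth.Agent.Lib.Helper16

variable {S : Scheme.{u}} {F G : AlgSp.Sp S}

/-- A field-valued point of a sheaf as a field-valued point of its category. -/
def ofFieldPt (p : AlgSp.FieldPt F) : AlgSt.FPt (AlgSt.ofSp F) :=
  { K := p.K, str := p.str, obj := ⟨Over.mk p.str, p.val⟩, lies := rfl }

/-- A field-valued point of the category of a sheaf as a field-valued point of the sheaf. -/
def toFieldPt (q : AlgSt.FPt (AlgSt.ofSp F)) : AlgSp.FieldPt F :=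
  ⟨q.K, q.str, F.obj.map (eqToHom q.lies.symm).op q.obj.sec⟩

theorem toFieldPt_mk {K : Type u} [Field K] (str : Spec (CommRingCat.of K) ⟶ S)
    (sec : F.obj.obj (op (Over.mk str))) :
    toFieldPt (⟨K, str, ⟨Over.mk str, sec⟩, rfl⟩ : AlgSt.FPt (AlgSt.ofSp F)) = ⟨K, str, sec⟩ := by
  unfold toFieldPt
  congr 1
  simp

theorem toFieldPt_ofFieldPt (p : AlgSp.FieldPt F) : toFieldPt (ofFieldPt p) = p := by
  obtain ⟨K, str, val⟩ := p
  exact toFieldPt_mk str val

theorem ofFieldPt_toFieldPt (q : AlgSt.FPt (AlgSt.ofSp F)) : ofFieldPt (toFieldPt q) = q := by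
  obtain ⟨K, str, ⟨base, sec⟩, lies⟩ := q
  change base = Over.mk str at lies
  subst lies
  rw [toFieldPt_mk]
  rfl

theorem rel_ofFieldPt {p p' : AlgSp.FieldPt F} (h : AlgSp.FieldPt.Rel p p') :
    AlgSt.FPt.Rel (ofFieldPt p) (ofFieldPt p') := by
  obtain ⟨Ω, _, w, a, b, h⟩ := h
  exact ⟨⟨Ω, w, ⟨Over.mk w, F.obj.map a.op p.val⟩, rfl⟩, ⟨a, rfl⟩, ⟨b, h.symm⟩, trivial⟩

theorem rel_toFieldPt {q q' : AlgSt.FPt (AlgSt.ofSp F)} (h : AlgSt.FPt.Rel q q') :
    AlgSp.FieldPt.Rel (toFieldPt q) (toFieldPt q') := by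
  obtain ⟨r, a, b, -⟩ := h
  obtain ⟨K, str, ⟨base, sec⟩, lies⟩ := q
  change base = Over.mk str at lies
  subst lies
  obtain ⟨K', str', ⟨base', sec'⟩, lies'⟩ := q'
  change base' = Over.mk str' at lies'
  subst lies'
  obtain ⟨Kr, strr, ⟨baser, secr⟩, liesr⟩ := r
  change baser = Over.mk strr at liesr
  subst liesr
  rw [toFieldPt_mk, toFieldPt_mk]
  exact ⟨Kr, inferInstance, strr, a.hom, b.hom, a.map_sec.trans b.map_sec.symm⟩

/-- From the points of the stack of `F` to the points of `F`. -/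
def ptsToSp : AlgSt.Points (AlgSt.ofSp F) → AlgSp.Points F :=
  Quot.lift (fun q => AlgSp.Points.mk (toFieldPt q)) (fun _ _ h => AlgSp.Points.sound (rel_toFieldPt h))

/-- From the points of `F` to the points of the stack of `F`. -/
def ptsOfSp : AlgSp.Points F → AlgSt.Points (AlgSt.ofSp F) :=
  Quotient.lift (fun p => AlgSt.Points.mk (ofFieldPt p))
    (fun _ _ h => AlgSt.Points.sound (rel_ofFieldPt h))

@[simp] theorem ptsToSp_mk (q : AlgSt.FPt (AlgSt.ofSp F)) :
    ptsToSp (AlgSt.Points.mk q) = AlgSp.Points.mk (toFieldPt q) := rfl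

@[simp] theorem ptsOfSp_mk (p : AlgSp.FieldPt F) :
    ptsOfSp (AlgSp.Points.mk p) = AlgSt.Points.mk (ofFieldPt p) := rfl

theorem ptsToSp_ptsOfSp (x : AlgSp.Points F) : ptsToSp (ptsOfSp x) = x := by
  induction x using AlgSp.Points.ind with
  | h p => rw [ptsOfSp_mk, ptsToSp_mk, toFieldPt_ofFieldPt]

theorem ptsOfSp_ptsToSp (ξ : AlgSt.Points (AlgSt.ofSp F)) : ptsOfSp (ptsToSp ξ) = ξ := by
  obtain ⟨q, rfl⟩ := AlgSt.Points.mk_surjective ξ
  rw [ptsToSp_mk, ptsOfSp_mk, ofFieldPt_toFieldPt]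

/-- The bijection between the points of a sheaf and the points of its category. -/
def ptsEquiv (F : AlgSp.Sp S) : AlgSp.Points F ≃ AlgSt.Points (AlgSt.ofSp F) where
  toFun := ptsOfSp
  invFun := ptsToSp
  left_inv := ptsToSp_ptsOfSp
  right_inv := ptsOfSp_ptsToSp

theorem ptsOfSp_map (a : F ⟶ G) (x : AlgSp.Points F) :
    AlgSt.Points.map (AlgSt.ofSpMap a) (ptsOfSp x) = ptsOfSp (AlgSp.Points.map a x) := by
  induction x using AlgSp.Points.ind with
  | h p => rfl

theorem ptsOfSp_ofPt {T : Over S} (g : (AlgSp.yon S).obj T ⟶ F) (t : ↥T.left) :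
    ptsOfSp (AlgSp.Points.ofPt g t) =
      AlgSt.Points.ofChart (BasedFunctor.comp (AlgSt.ofOverCat T) (AlgSt.ofSpMap g)) t := rfl

theorem continuous_ptsOfSp (F : AlgSp.Space S) : Continuous (ptsOfSp (F := F.obj)) := by
  refine continuous_def.2 fun W hW => AlgSp.Points.isOpen_iff.2 fun T g => ?_
  have : AlgSp.Points.ofPt g ⁻¹' (ptsOfSp ⁻¹' W) =
      AlgSt.Points.ofChart (BasedFunctor.comp (AlgSt.ofOverCat T) (AlgSt.ofSpMap g)) ⁻¹' W := rfl
  rw [this]
  exact (continuous_ofChart (isAlgStack_ofSp F) _).isOpen_preimage W hW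

theorem isOpenMap_ptsOfSp (F : AlgSp.Space S) : IsOpenMap (ptsOfSp (F := F.obj)) := by
  obtain ⟨T, p, hpe, hps⟩ := F.property.atlas
  have hc1 := H10QC.chart_smooth T p hpe
  have hopen := isOpenMap_ofChart (isAlgStack_ofSp F) _ (repFlat_of_smooth _ hc1)
    (repLfp_of_smooth _ hc1)
  have hsurj := ofPt_surjective_of_surjective p hps
  intro W hW
  have : ptsOfSp '' W = AlgSt.Points.ofChart
      (BasedFunctor.comp (AlgSt.ofOverCat T) (AlgSt.ofSpMap p)) '' (AlgSp.Points.ofPt p ⁻¹' W) := by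
    ext ξ
    constructor
    · rintro ⟨x, hx, rfl⟩
      obtain ⟨t, rfl⟩ := hsurj x
      exact ⟨t, hx, (ptsOfSp_ofPt p t).symm⟩
    · rintro ⟨t, ht, rfl⟩
      exact ⟨AlgSp.Points.ofPt p t, ht, ptsOfSp_ofPt p t⟩
  rw [this]
  exact hopen _ ((AlgSp.Points.continuous_ofPt p).isOpen_preimage W hW)

/-- For an algebraic space the bijection on points is a homeomorphism. -/
def ptsHomeo (F : AlgSp.Space S) : AlgSp.Points F.obj ≃ₜ AlgSt.Points (AlgSt.ofSp F.obj) where
  toEquiv := ptsEquiv F.obj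
  continuous_toFun := continuous_ptsOfSp F
  continuous_invFun := by
    refine continuous_def.2 fun W hW => ?_
    have h : (ptsEquiv F.obj).symm ⁻¹' W = (ptsEquiv F.obj) '' W :=
      ((ptsEquiv F.obj).image_eq_preimage_symm W).symm
    show IsOpen ((ptsEquiv F.obj).symm ⁻¹' W)
    rw [h]
    exact isOpenMap_ptsOfSp F W hW

@[simp] theorem ptsHomeo_apply (F : AlgSp.Space S) (x : AlgSp.Points F.obj) :
    ptsHomeo F x = ptsOfSp x := rfl

variable {𝒳 𝒴 : AlgSt.Cat S}

/-- An equivalence over the base of algebraic stacks induces a homeomorphism on points. -/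
theorem exists_pointsHomeo_of_isEquivOver (h𝒳 : AlgSt.IsAlgStack Scheme.fppfPrecoverage 𝒳)
    (h𝒴 : AlgSt.IsAlgStack Scheme.fppfPrecoverage 𝒴) (E : 𝒳 ⥤ᵇ 𝒴) (hE : FibCat.IsEquivOver E) :
    ∃ h : AlgSt.Points 𝒳 ≃ₜ AlgSt.Points 𝒴, ∀ x, h x = AlgSt.Points.map E x := by
  obtain ⟨G, ⟨η⟩, ⟨ε⟩⟩ := hE
  have h1 : AlgSt.Points.map G ∘ AlgSt.Points.map E = id := by
    rw [← points_map_comp, points_map_eq_of_iso η, points_map_id]
  have h2 : AlgSt.Points.map E ∘ AlgSt.Points.map G = id := by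
    rw [← points_map_comp, points_map_eq_of_iso ε, points_map_id]
  exact ⟨{ toFun := AlgSt.Points.map E
           invFun := AlgSt.Points.map G
           left_inv := congrFun h1
           right_inv := congrFun h2
           continuous_toFun := continuous_points_map h𝒴 E
           continuous_invFun := continuous_points_map h𝒳 G }, fun _ => rfl⟩

end H10PT
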