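import Mathlib
import Groth.Prelude.Def_AlgSt4
import Groth.Agent.Lib.Helper10.AlgStPtsFib
import Groth.Agent.Lib.Helper10.Fib7
import Groth.Agent.Lib.Helper10.FibCart

/-!
# Universally injective morphisms and surjectivity of the diagonal on points

* `points_fpFst_diag`, `points_fpSnd_diag`: the diagonal is a section of both projections.
* `injective_of_isSurjective_diag`: if the diagonal of `π` is surjective on points, `π` is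
  injective on points.
* `isSurjective_diag_fpFst`: surjectivity on points of the diagonal is stable under base change.
-/

set_option autoImplicit false

universe u

open CategoryTheory CategoryTheory.Limits AlgebraicGeometry Opposite

namespace H10PT

open Groth.Agent.Lib.Helper10.Fib Groth.Agent.Lib.Helper10.AlgStRep

variable {S : Scheme.{u}} {𝒳 𝒴 𝒵 : AlgSt.Cat S}

theorem points_fpFst_diag (f : 𝒳 ⥤ᵇ 𝒴) (x : AlgSt.Points 𝒳) :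
    AlgSt.Points.map (FibCat.fpFst f f) (AlgSt.Points.map (FibCat.diag f) x) = x := by
  obtain ⟨x₀, rfl⟩ := AlgSt.Points.mk_surjective x
  rfl

theorem points_fpSnd_diag (f : 𝒳 ⥤ᵇ 𝒴) (x : AlgSt.Points 𝒳) :
    AlgSt.Points.map (FibCat.fpSnd f f) (AlgSt.Points.map (FibCat.diag f) x) = x := by
  obtain ⟨x₀, rfl⟩ := AlgSt.Points.mk_surjective x
  rfl

theorem injective_of_isSurjective_diag (h𝒳 : FibCat.IsFibGrpd 𝒳.p) (h𝒴 : FibCat.IsFibGrpd 𝒴.p)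
    (f : 𝒳 ⥤ᵇ 𝒴) (hd : AlgSt.IsSurjective (FibCat.diag f)) :
    Function.Injective (AlgSt.Points.map f) := by
  intro x₁ x₂ h
  obtain ⟨v, hv1, hv2⟩ := exists_fp_point h𝒳 h𝒴 h𝒳 f f x₁ x₂ h
  obtain ⟨x, rfl⟩ := hd v
  rw [points_fpFst_diag] at hv1
  rw [points_fpSnd_diag] at hv2
  exact hv1.symm.trans hv2

theorem isSurjective_diag_of_injective_fpFst (f : 𝒳 ⥤ᵇ 𝒴)
    (h : Function.Injective (AlgSt.Points.map (FibCat.fpFst f f))) :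
    AlgSt.IsSurjective (FibCat.diag f) := by
  intro w
  refine ⟨AlgSt.Points.map (FibCat.fpFst f f) w, ?_⟩
  apply h
  rw [points_fpFst_diag]

theorem isSurjective_diag_fpFst (h𝒳 : FibCat.IsFibGrpd 𝒳.p) (h𝒴 : FibCat.IsFibGrpd 𝒴.p)
    (h𝒵 : FibCat.IsFibGrpd 𝒵.p) (f : 𝒳 ⥤ᵇ 𝒴) (g : 𝒵 ⥤ᵇ 𝒴)
    (hd : AlgSt.IsSurjective (FibCat.diag f)) :
    AlgSt.IsSurjective (FibCat.diag (FibCat.fpFst g f)) := by
  have h𝒲 : FibCat.IsFibGrpd (FibCat.fp g f).p := isFibGrpd_fp g f h𝒵 h𝒳 h𝒴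
  have hff : FibCat.IsFibGrpd (FibCat.fp f f).p := isFibGrpd_fp f f h𝒳 h𝒳 h𝒴
  intro v'
  obtain ⟨v, rfl⟩ := AlgSt.Points.mk_surjective v'
  obtain ⟨K, str, ⟨⟨⟨⟨z₁, x₁, θ₁⟩, hθ₁⟩, ⟨⟨z₂, x₂, θ₂⟩, hθ₂⟩, ι⟩, hι⟩, lies⟩ := v
  change z₁ ≅ z₂ at ι
  change 𝒴.p.IsHomLift (𝟙 (𝒵.p.obj z₁)) θ₁.hom at hθ₁
  change 𝒴.p.IsHomLift (𝟙 (𝒵.p.obj z₂)) θ₂.hom at hθ₂
  change 𝒵.p.IsHomLift (𝟙 (𝒵.p.obj z₁)) ι.hom at hι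
  change 𝒵.p.obj z₁ = Over.mk str at lies
  have e2 : 𝒵.p.obj z₂ = Over.mk str :=
    (IsHomLift.codomain_eq 𝒵.p (𝟙 (𝒵.p.obj z₁)) ι.hom).trans lies
  have ex1 : 𝒳.p.obj x₁ = Over.mk str :=
    (f.w_obj x₁).symm.trans ((IsHomLift.codomain_eq 𝒴.p (𝟙 (𝒵.p.obj z₁)) θ₁.hom).trans lies)
  have hθ₁B : 𝒴.p.IsHomLift (𝟙 (Over.mk str)) θ₁.hom := isHomLift_id_of_eq 𝒴.p lies θ₁.hom
  have hθ₁iB : 𝒴.p.IsHomLift (𝟙 (Over.mk str)) θ₁.inv := inferInstance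
  have hιB : 𝒵.p.IsHomLift (𝟙 (Over.mk str)) ι.hom := isHomLift_id_of_eq 𝒵.p lies ι.hom
  have hgιB : 𝒴.p.IsHomLift (𝟙 (Over.mk str)) (g.map ι.hom) :=
    BasedFunctor.preserves_isHomLift g (𝟙 (Over.mk str)) ι.hom
  have hθ₂B : 𝒴.p.IsHomLift (𝟙 (Over.mk str)) θ₂.hom := isHomLift_id_of_eq 𝒴.p e2 θ₂.hom
  have hκB : 𝒴.p.IsHomLift (𝟙 (Over.mk str)) (θ₁.inv ≫ g.map ι.hom ≫ θ₂.hom) := inferInstance
  obtain ⟨κ, hκ⟩ : ∃ κ : f.obj x₁ ≅ f.obj x₂, κ.hom = θ₁.inv ≫ g.map ι.hom ≫ θ₂.hom :=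
    ⟨θ₁.symm ≪≫ g.toFunctor.mapIso ι ≪≫ θ₂, rfl⟩
  have hκB' : 𝒴.p.IsHomLift (𝟙 (Over.mk str)) κ.hom := by rw [hκ]; exact hκB
  have hκx : 𝒴.p.IsHomLift (𝟙 (𝒳.p.obj x₁)) κ.hom := isHomLift_id_of_eq 𝒴.p ex1.symm κ.hom
  obtain ⟨x', hx'⟩ := hd (AlgSt.Points.mk ⟨K, str, ⟨⟨x₁, x₂, κ⟩, hκx⟩, ex1⟩)
  obtain ⟨x₀, rfl⟩ := AlgSt.Points.mk_surjective x'
  have hrel : AlgSt.FPt.Rel (x₀.map (FibCat.diag f))
      (⟨K, str, ⟨⟨x₁, x₂, κ⟩, hκx⟩, ex1⟩ : AlgSt.FPt (FibCat.fp f f)) := by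
    have h' : Relation.EqvGen (@AlgSt.FPt.Rel S (FibCat.fp f f)) (x₀.map (FibCat.diag f))
        (⟨K, str, ⟨⟨x₁, x₂, κ⟩, hκx⟩, ex1⟩ : AlgSt.FPt (FibCat.fp f f)) := Quot.eqvGen_exact hx'
    exact (rel_equivalence hff).eqvGen_iff.mp h'
  obtain ⟨s, m₁, m₂, -⟩ : ∃ (s : AlgSt.FPt (FibCat.fp f f))
      (_ : s.obj ⟶ (FibCat.diag f).obj x₀.obj)
      (_ : s.obj ⟶ (⟨⟨x₁, x₂, κ⟩, hκx⟩ : (FibCat.fp f f).obj)), True := hrel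
  obtain ⟨Ks, strs, ⟨⟨a, b, lam⟩, hlam⟩, liess⟩ := s
  change 𝒴.p.IsHomLift (𝟙 (𝒳.p.obj a)) lam.hom at hlam
  change 𝒳.p.obj a = Over.mk strs at liess
  obtain ⟨β₁, hβ₁⟩ : ∃ β₁ : Over.mk strs ⟶ Over.mk x₀.str, (FibCat.fp f f).p.IsHomLift β₁ m₁ :=
    exists_baseHom (𝒳 := FibCat.fp f f) (a := (⟨⟨a, b, lam⟩, hlam⟩ : (FibCat.fp f f).obj))
      liess (x₀.map (FibCat.diag f)).lies m₁
  obtain ⟨βm, hβm⟩ : ∃ βm : Over.mk strs ⟶ Over.mk str, (FibCat.fp f f).p.IsHomLift βm m₂ :=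
    exists_baseHom (𝒳 := FibCat.fp f f) (a := (⟨⟨a, b, lam⟩, hlam⟩ : (FibCat.fp f f).obj))
      (b := (⟨⟨x₁, x₂, κ⟩, hκx⟩ : (FibCat.fp f f).obj)) liess ex1 m₂
  obtain ⟨u, hu0⟩ : ∃ u : a ⟶ x₀.obj, u = m₁.hom.fst := ⟨_, rfl⟩
  obtain ⟨v, hv0⟩ : ∃ v : b ⟶ x₀.obj, v = m₁.hom.snd := ⟨_, rfl⟩
  obtain ⟨u₂, hu₂0⟩ : ∃ u₂ : a ⟶ x₁, u₂ = m₂.hom.fst := ⟨_, rfl⟩
  obtain ⟨v₂, hv₂0⟩ : ∃ v₂ : b ⟶ x₂, v₂ = m₂.hom.snd := ⟨_, rfl⟩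
  have hu : 𝒳.p.IsHomLift β₁ u := by rw [hu0]; exact (fp_isHomLift_iff f f m₁ β₁).1 hβ₁
  have hv : 𝒳.p.IsHomLift β₁ v := by rw [hv0]; exact fp_isHomLift_snd' f f m₁ β₁
  have hu₂ : 𝒳.p.IsHomLift βm u₂ := by rw [hu₂0]; exact (fp_isHomLift_iff f f m₂ βm).1 hβm
  have hv₂ : 𝒳.p.IsHomLift βm v₂ := by rw [hv₂0]; exact fp_isHomLift_snd' f f m₂ βm
  -- the isomorphism `δ : a ⟶ b`
  have scv : 𝒳.p.IsStronglyCartesian β₁ v := IsFibGrpd.sc h𝒳 β₁ v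
  obtain ⟨δ, ⟨hδ1, hδ2⟩, -⟩ := Functor.IsStronglyCartesian.universal_property 𝒳.p β₁ v
    (𝟙 _) β₁ (Category.id_comp _).symm u
  have hfv : 𝒴.p.IsHomLift β₁ (f.map v) := BasedFunctor.preserves_isHomLift f β₁ v
  have scfv : 𝒴.p.IsStronglyCartesian β₁ (f.map v) := IsFibGrpd.sc h𝒴 β₁ (f.map v)
  have hfδ : 𝒴.p.IsHomLift (𝟙 (Over.mk strs)) (f.map δ) :=
    BasedFunctor.preserves_isHomLift f (𝟙 (Over.mk strs)) δ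
  have hlamB : 𝒴.p.IsHomLift (𝟙 (Over.mk strs)) lam.hom := isHomLift_id_of_eq 𝒴.p liess lam.hom
  have w₁eq : f.map u = lam.hom ≫ f.map v := by
    rw [hu0, hv0]
    exact (Category.comp_id (f.map m₁.hom.fst)).symm.trans m₁.hom.w
  have hδlam : f.map δ = lam.hom := by
    apply Functor.IsStronglyCartesian.ext 𝒴.p β₁ (f.map v) (𝟙 (Over.mk strs))
    rw [← f.toFunctor.map_comp, hδ2, w₁eq]
  have w₂eq : f.map u₂ ≫ κ.hom = lam.hom ≫ f.map v₂ := by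
    rw [hu₂0, hv₂0]
    exact m₂.hom.w
  -- pull back `w₁`
  obtain ⟨w', ρ, hρ⟩ := IsFibGrpd.exists_lift' h𝒲
    (a := (⟨⟨z₁, x₁, θ₁⟩, hθ₁⟩ : (FibCat.fp g f).obj)) lies βm
  have hρ' : (FibCat.fp g f).p.IsHomLift βm ρ := inferInstance
  have hρz : 𝒵.p.IsHomLift βm ρ.hom.fst := (fp_isHomLift_iff g f ρ βm).1 hρ'
  have hρx : 𝒳.p.IsHomLift βm ρ.hom.snd := fp_isHomLift_snd' g f ρ βm
  have wρ : g.map ρ.hom.fst ≫ θ₁.hom = w'.obj.iso.hom ≫ f.map ρ.hom.snd := ρ.hom.w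
  have scu₂ : 𝒳.p.IsStronglyCartesian βm u₂ := IsFibGrpd.sc h𝒳 βm u₂
  obtain ⟨ε, ⟨hε1, hε2⟩, -⟩ := Functor.IsStronglyCartesian.universal_property 𝒳.p βm u₂
    (𝟙 _) βm (Category.id_comp _).symm ρ.hom.snd
  have compat : g.map (ρ.hom.fst ≫ ι.hom) ≫ θ₂.hom =
      w'.obj.iso.hom ≫ f.map (ε ≫ δ ≫ v₂) := by
    have e1 : g.map ρ.hom.fst = w'.obj.iso.hom ≫ f.map ρ.hom.snd ≫ θ₁.inv := by
      rw [← Category.assoc, ← wρ, Category.assoc, Iso.hom_inv_id, Category.comp_id]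
    calc g.map (ρ.hom.fst ≫ ι.hom) ≫ θ₂.hom
        = g.map ρ.hom.fst ≫ g.map ι.hom ≫ θ₂.hom := by
          rw [g.toFunctor.map_comp, Category.assoc]
      _ = w'.obj.iso.hom ≫ f.map ρ.hom.snd ≫ κ.hom := by
          rw [e1, hκ]; simp only [Category.assoc]
      _ = w'.obj.iso.hom ≫ f.map ε ≫ f.map u₂ ≫ κ.hom := by
          rw [← hε2, f.toFunctor.map_comp, Category.assoc]
      _ = w'.obj.iso.hom ≫ f.map ε ≫ f.map δ ≫ f.map v₂ := by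
          rw [w₂eq, hδlam]
      _ = w'.obj.iso.hom ≫ f.map (ε ≫ δ ≫ v₂) := by
          rw [f.toFunctor.map_comp, f.toFunctor.map_comp]
  obtain ⟨M₂, hM₂⟩ : ∃ M₂ : w' ⟶ (⟨⟨z₂, x₂, θ₂⟩, hθ₂⟩ : (FibCat.fp g f).obj),
      M₂.hom.fst = ρ.hom.fst ≫ ι.hom :=
    ⟨ObjectProperty.homMk ⟨ρ.hom.fst ≫ ι.hom, ε ≫ δ ≫ v₂, compat⟩, rfl⟩
  have hw' : (FibCat.fp g f).p.obj w' = Over.mk strs := IsHomLift.domain_eq (FibCat.fp g f).p βm ρ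
  refine ⟨AlgSt.Points.mk ⟨Ks, strs, w', hw'⟩, ?_⟩
  refine AlgSt.Points.sound
    ⟨(⟨Ks, strs, w', hw'⟩ : AlgSt.FPt (FibCat.fp g f)).map (FibCat.diag (FibCat.fpFst g f)), 𝟙 _,
      ObjectProperty.homMk ⟨ρ, M₂, ?_⟩, trivial⟩
  show ρ.hom.fst ≫ ι.hom = _ ≫ M₂.hom.fst
  rw [hM₂]
  exact (Category.id_comp (ρ.hom.fst ≫ ι.hom)).symm

end H10PT
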