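import Mathlib
import Groth.Agent.Lib.Helper10.AlgStPtsDiag
import Groth.Agent.Lib.Helper10.AlgStPtsBridge
import Groth.Agent.Lib.Helper10.HomSheaf
import Groth.Agent.Lib.Helper16.Charts
import Groth.Agent.S12939

/-!
# Points over algebraically closed fields (helper10)

* `exists_section_of_lft_algClosed`: a nonempty algebraic space locally of finite type over an
  algebraically closed field has a rational point.
* `exists_lift_hom_of_isSurjective_diag`, `isSurjective_diag_of_lift`: the diagonal of a morphism of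
  algebraic stacks is surjective on points iff 2-arrows between images of points over algebraically
  closed fields lift.
-/

set_option autoImplicit false
set_option backward.isDefEq.respectTransparency false
set_option backward.isDefEq.respectTransparency.types false

universe u

open CategoryTheory CategoryTheory.Limits AlgebraicGeometry Opposite

namespace H10PT

open Groth.Agent.Lib.Helper10.Fib Groth.Agent.Lib.Helper10.AlgStRep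
open Groth.Agent.Lib.Helper10.HomSheaf
open Groth.Agent.Lib.Helper16

variable {S : Scheme.{u}}

theorem exists_section_of_lft_algClosed {k : Type u} [Field k] [IsAlgClosed k]
    (s : Spec (CommRingCat.of k) ⟶ S) (F : AlgSp.Space S)
    (g : F.obj ⟶ (AlgSp.yon S).obj (Over.mk s)) (hg : AlgSp.LocP @LocallyOfFiniteType g)
    (hne : Nonempty (AlgSp.Points F.obj)) :
    ∃ σ : (AlgSp.yon S).obj (Over.mk s) ⟶ F.obj, σ ≫ g = 𝟙 _ := by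
  obtain ⟨V, p, hpe, hps⟩ := F.property.atlas
  obtain ⟨h, hh⟩ : ∃ h : V ⟶ Over.mk s, (AlgSp.yon S).map h = p ≫ g :=
    ⟨(AlgSp.yon S).preimage (p ≫ g), (AlgSp.yon S).map_preimage _⟩
  have hlft : LocallyOfFiniteType h.left :=
    hg p (𝟙 _) h hpe (AlgSp.repWith_id @Etale (Over.mk s)) (by rw [hh, Category.comp_id])
  obtain ⟨ξ⟩ := hne
  obtain ⟨v, -⟩ := ofPt_surjective_of_surjective p hps ξ
  obtain ⟨h₀, hh₀⟩ : ∃ h₀ : V.left ⟶ Spec (CommRingCat.of k), h₀ = h.left := ⟨_, rfl⟩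
  haveI : LocallyOfFiniteType h₀ := by rw [hh₀]; exact hlft
  haveI : JacobsonSpace V.left := LocallyOfFiniteType.jacobsonSpace h₀
  have hcl : (closedPoints V.left).Nonempty := by
    by_contra hcon
    rw [Set.not_nonempty_iff_eq_empty] at hcon
    have h1 := closure_closedPoints (X := V.left)
    rw [hcon, closure_empty] at h1
    have h2 : v ∈ (∅ : Set V.left) := by rw [h1]; exact Set.mem_univ v
    exact h2
  obtain ⟨x, hx⟩ := hcl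
  have hx' : IsClosed ({x} : Set V.left) := hx
  obtain ⟨τ, hτ⟩ : ∃ τ : Spec (CommRingCat.of k) ⟶ V.left, τ ≫ h₀ = 𝟙 _ :=
    ⟨pointOfClosedPoint h₀ x hx', pointOfClosedPoint_comp h₀ x hx'⟩
  have hw : τ ≫ V.hom = s := by
    have h3 : h.left ≫ s = V.hom := Over.w h
    rw [← h3, ← hh₀, ← Category.assoc, hτ, Category.id_comp]
  obtain ⟨τ', hτ'⟩ : ∃ τ' : Over.mk s ⟶ V, τ'.left = τ := ⟨Over.homMk τ hw, rfl⟩
  refine ⟨(AlgSp.yon S).map τ' ≫ p, ?_⟩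
  have h4 : τ' ≫ h = 𝟙 (Over.mk s) := by
    apply Over.OverMorphism.ext
    show τ'.left ≫ h.left = 𝟙 _
    rw [hτ', ← hh₀]
    exact hτ
  rw [Category.assoc, ← hh, ← CategoryTheory.Functor.map_comp, h4]
  exact (AlgSp.yon S).map_id _

variable {𝒳 𝒴 : AlgSt.Cat S}

theorem exists_lift_hom_of_isSurjective_diag
    (h𝒳 : AlgSt.IsAlgStack Scheme.fppfPrecoverage 𝒳)
    (h𝒴 : AlgSt.IsAlgStack Scheme.fppfPrecoverage 𝒴) (f : 𝒳 ⥤ᵇ 𝒴)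
    (hd : AlgSt.IsSurjective (FibCat.diag f)) (k : Type u) [Field k] [IsAlgClosed k]
    (s : Spec (CommRingCat.of k) ⟶ S) (a₁ a₂ : 𝒳.obj) (h₁ : 𝒳.p.obj a₁ = Over.mk s)
    (h₂ : 𝒳.p.obj a₂ = Over.mk s) (β : f.obj a₁ ⟶ f.obj a₂)
    (hβ : 𝒴.p.IsHomLift (𝟙 (Over.mk s)) β) :
    ∃ α : a₁ ⟶ a₂, 𝒳.p.IsHomLift (𝟙 (Over.mk s)) α ∧ f.map α = β := by
  have hgX := h𝒳.isStack.1
  have hgY := h𝒴.isStack.1
  have hff : FibCat.IsFibGrpd (FibCat.fp f f).p := isFibGrpd_fp f f hgX hgX hgY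
  haveI := hβ
  haveI : IsIso β := IsFibGrpd.isIso_of_isHomLift_id hgY (U := Over.mk s) β
  have hκ : 𝒴.p.IsHomLift (𝟙 (𝒳.p.obj a₁)) (asIso β).hom := isHomLift_id_of_eq 𝒴.p h₁.symm β
  obtain ⟨w, hw⟩ : ∃ w : (FibCat.fp f f).obj, w = ⟨⟨a₁, a₂, asIso β⟩, hκ⟩ := ⟨_, rfl⟩
  have hwl : (FibCat.fp f f).p.obj w = Over.mk s := by rw [hw]; exact h₁
  obtain ⟨y, j, hj⟩ := exists_rep hff hwl
  haveI := hj
  obtain ⟨F, e, he, hlft⟩ := Groth.Agent.S12939.result S 𝒳 𝒴 h𝒳 h𝒴 f (Over.mk s) y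
  have hne : Nonempty (AlgSp.Points F.obj) := by
    obtain ⟨η, hη⟩ := hd (AlgSt.Points.mk ⟨k, s, w, hwl⟩)
    have hz : AlgSt.Points.map y
        (AlgSt.Points.mk (⟨k, s, Over.mk (𝟙 (Over.mk s)), rfl⟩ :
          AlgSt.FPt (FibCat.overCat (Over.mk s)))) =
        AlgSt.Points.map (FibCat.diag f) η := by
      rw [hη]
      exact AlgSt.Points.sound ⟨_, 𝟙 _, j.hom, trivial⟩
    obtain ⟨ζ, -, -⟩ := exists_fp_point hgX hff (isFibGrpd_overForget (Over.mk s))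
      (FibCat.diag f) y _ η hz
    obtain ⟨ζ', -⟩ := (points_map_bijective_of_isEquivOver e he).2 ζ
    exact ⟨ptsToSp ζ'⟩
  obtain ⟨σ, hσ⟩ := exists_section_of_lft_algClosed s F _ hlft hne
  obtain ⟨t₀, ht₀⟩ : ∃ t₀ : ((AlgSp.yon S).obj (Over.mk s)).obj.obj (op (Over.mk s)),
      t₀ = ULift.up (𝟙 (Over.mk s)) := ⟨_, rfl⟩
  obtain ⟨Φ, hΦ⟩ : ∃ Φ : AlgSt.ofSp F.obj ⥤ᵇ FibCat.overCat (Over.mk s),
      Φ = BasedFunctor.comp e (FibCat.fpFst y (FibCat.diag f)) := ⟨_, rfl⟩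
  rw [← hΦ] at hσ
  obtain ⟨sec, hsec0⟩ : ∃ sec : F.obj.obj.obj (op (Over.mk s)),
      sec = σ.hom.app (op (Over.mk s)) t₀ := ⟨_, rfl⟩
  have h1 : (AlgSt.spMapOfOver Φ).hom.app (op (Over.mk s)) sec = t₀ := by
    rw [hsec0]
    exact congrArg (fun m => m.hom.app (op (Over.mk s)) t₀) hσ
  have h2 : (ULift.up (AlgSt.secHom Φ ⟨Over.mk s, sec⟩) : ULift (Over.mk s ⟶ Over.mk s)) = t₀ :=
    (AlgSt.spMapOfOver_app Φ (Over.mk s) sec).symm.trans h1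
  have hsec : AlgSt.secHom Φ ⟨Over.mk s, sec⟩ = 𝟙 (Over.mk s) := by
    have h3 := congrArg ULift.down h2
    rw [ht₀] at h3
    exact h3
  -- the section of the structure morphism
  obtain ⟨τ', -⟩ : ∃ τ' : Over.mk (𝟙 (Over.mk s)) ⟶
      Φ.obj (⟨Over.mk s, sec⟩ : (AlgSt.ofSp F.obj).obj),
      τ'.left = eqToHom (Φ.w_obj (⟨Over.mk s, sec⟩ : (AlgSt.ofSp F.obj).obj)).symm :=
    ⟨Over.homMk (eqToHom (Φ.w_obj (⟨Over.mk s, sec⟩ : (AlgSt.ofSp F.obj).obj)).symm) hsec, rfl⟩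
  subst hΦ
  obtain ⟨μ, -⟩ : ∃ μ : w ⟶ (FibCat.diag f).obj (e.obj (⟨Over.mk s, sec⟩ : (AlgSt.ofSp F.obj).obj)).obj.snd,
      μ = j.inv ≫ y.map τ' ≫ (e.obj (⟨Over.mk s, sec⟩ : (AlgSt.ofSp F.obj).obj)).obj.iso.hom := ⟨_, rfl⟩
  subst hw
  obtain ⟨m, hm⟩ := exists_baseHom (𝒳 := FibCat.fp f f) hwl rfl μ
  obtain ⟨u₁, hu₁0⟩ : ∃ u₁ : a₁ ⟶ (e.obj (⟨Over.mk s, sec⟩ : (AlgSt.ofSp F.obj).obj)).obj.snd, u₁ = μ.hom.fst := ⟨_, rfl⟩
  obtain ⟨u₂, hu₂0⟩ : ∃ u₂ : a₂ ⟶ (e.obj (⟨Over.mk s, sec⟩ : (AlgSt.ofSp F.obj).obj)).obj.snd, u₂ = μ.hom.snd := ⟨_, rfl⟩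
  have hu₁ : 𝒳.p.IsHomLift m u₁ := by rw [hu₁0]; exact (fp_isHomLift_iff f f μ m).1 hm
  have hu₂ : 𝒳.p.IsHomLift m u₂ := by rw [hu₂0]; exact fp_isHomLift_snd' f f μ m
  have weq : f.map u₁ = β ≫ f.map u₂ := by
    rw [hu₁0, hu₂0]
    exact (Category.comp_id (f.map μ.hom.fst)).symm.trans μ.hom.w
  have scu₂ : 𝒳.p.IsStronglyCartesian m u₂ := IsFibGrpd.sc hgX m u₂
  obtain ⟨α, ⟨hα1, hα2⟩, -⟩ := Functor.IsStronglyCartesian.universal_property 𝒳.p m u₂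
    (𝟙 _) m (Category.id_comp _).symm u₁
  refine ⟨α, hα1, ?_⟩
  have hfu₂ : 𝒴.p.IsHomLift m (f.map u₂) := BasedFunctor.preserves_isHomLift f m u₂
  have scfu₂ : 𝒴.p.IsStronglyCartesian m (f.map u₂) := IsFibGrpd.sc hgY m (f.map u₂)
  have hfα : 𝒴.p.IsHomLift (𝟙 (Over.mk s)) (f.map α) :=
    BasedFunctor.preserves_isHomLift f (𝟙 (Over.mk s)) α
  apply Functor.IsStronglyCartesian.ext 𝒴.p m (f.map u₂) (𝟙 (Over.mk s))
  rw [← f.toFunctor.map_comp, hα2, weq]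

theorem isSurjective_diag_of_lift (h𝒳 : AlgSt.IsAlgStack Scheme.fppfPrecoverage 𝒳)
    (h𝒴 : AlgSt.IsAlgStack Scheme.fppfPrecoverage 𝒴) (f : 𝒳 ⥤ᵇ 𝒴)
    (H : ∀ (k : Type u) [Field k] [IsAlgClosed k] (s : Spec (CommRingCat.of k) ⟶ S)
      (a₁ a₂ : 𝒳.obj) (_ : 𝒳.p.obj a₁ = Over.mk s) (_ : 𝒳.p.obj a₂ = Over.mk s)
      (β : f.obj a₁ ⟶ f.obj a₂), 𝒴.p.IsHomLift (𝟙 (Over.mk s)) β →
        ∃ α : a₁ ⟶ a₂, 𝒳.p.IsHomLift (𝟙 (Over.mk s)) α ∧ f.map α = β) :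
    AlgSt.IsSurjective (FibCat.diag f) := by
  have hgX := h𝒳.isStack.1
  have hgY := h𝒴.isStack.1
  have hff : FibCat.IsFibGrpd (FibCat.fp f f).p := isFibGrpd_fp f f hgX hgX hgY
  intro ξ
  obtain ⟨q, rfl⟩ := AlgSt.Points.mk_surjective ξ
  obtain ⟨K, str, w, lies⟩ := q
  obtain ⟨s, β₀⟩ : ∃ s : Spec (CommRingCat.of (AlgebraicClosure K)) ⟶ S,
      Nonempty (Over.mk s ⟶ Over.mk str) :=
    ⟨Spec.map (CommRingCat.ofHom (algebraMap K (AlgebraicClosure K))) ≫ str,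
      ⟨Over.homMk (Spec.map (CommRingCat.ofHom (algebraMap K (AlgebraicClosure K)))) rfl⟩⟩
  obtain ⟨β₀⟩ := β₀
  obtain ⟨w', ρ, hρ⟩ := IsFibGrpd.exists_lift' hff lies β₀
  haveI := hρ
  have hw' : (FibCat.fp f f).p.obj w' = Over.mk s := IsHomLift.domain_eq (FibCat.fp f f).p β₀ ρ
  obtain ⟨⟨b₁, b₂, lam⟩, hlam⟩ := w'
  change 𝒴.p.IsHomLift (𝟙 (𝒳.p.obj b₁)) lam.hom at hlam
  change 𝒳.p.obj b₁ = Over.mk s at hw'
  haveI := hlam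
  have hb₂ : 𝒳.p.obj b₂ = Over.mk s :=
    (f.w_obj b₂).symm.trans ((IsHomLift.codomain_eq 𝒴.p (𝟙 (𝒳.p.obj b₁)) lam.hom).trans hw')
  have hlamB : 𝒴.p.IsHomLift (𝟙 (Over.mk s)) lam.hom := isHomLift_id_of_eq 𝒴.p hw' lam.hom
  obtain ⟨α, hα, hfα⟩ := H (AlgebraicClosure K) s b₁ b₂ hw' hb₂ lam.hom hlamB
  refine ⟨AlgSt.Points.mk ⟨AlgebraicClosure K, s, b₁, hw'⟩, ?_⟩
  have hwcomm : f.map (𝟙 b₁) ≫ lam.hom = 𝟙 (f.obj b₁) ≫ f.map α := by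
    rw [hfα]
    simp
  obtain ⟨ν, -⟩ : ∃ ν : (FibCat.diag f).obj b₁ ⟶ (⟨⟨b₁, b₂, lam⟩, hlam⟩ : (FibCat.fp f f).obj),
      ν.hom.fst = 𝟙 b₁ := ⟨ObjectProperty.homMk ⟨𝟙 b₁, α, hwcomm⟩, rfl⟩
  exact AlgSt.Points.sound
    ⟨(⟨AlgebraicClosure K, s, b₁, hw'⟩ : AlgSt.FPt 𝒳).map (FibCat.diag f), 𝟙 _, ν ≫ ρ, trivial⟩

end H10PT
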