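import Mathlib
import Groth.Agent.Lib.Helper16.AlgSt.ProdCover
import Groth.Agent.Lib.Helper28.AlgSt.SpaceCalc
import Groth.Agent.Lib.Helper28.AlgSt.Comp
import Groth.Agent.Lib.Helper28.AlgSt.DiagComp

/-!
# Cancellation for `RepByAlgSpWith P` without locality of `P`

`repByAlgSpWith_cancel`: if `P` is stable under base change and has the cancellation property for
morphisms of algebraic spaces (`P b`, `P (a ≫ b)` ⟹ `P a`), then for 1-morphisms `a : 𝒳 ⟶ 𝒴`,
`b : 𝒴 ⟶ 𝒵` with `b` and `a ⋙ b` representable by algebraic spaces with `P`, so is `a`.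
-/

set_option autoImplicit false
set_option backward.isDefEq.respectTransparency false
set_option backward.isDefEq.respectTransparency.types false

universe u

open CategoryTheory CategoryTheory.Limits AlgebraicGeometry Opposite

namespace H10PT

open Groth.Agent.Lib.Helper10.Fib Groth.Agent.Lib.Helper10.AlgStRep
open Groth.Agent.Lib.Helper28.AlgSt.PropInst Groth.Agent.Lib.Helper28.AlgSt.PshFun
open Groth.Agent.Lib.Helper28.AlgSt.Bridge Groth.Agent.Lib.Helper28.AlgSt.Comp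
open Groth.Agent.Lib.Helper28.AlgSt.SpaceCalc Groth.Agent.Lib.Helper16.AlgStDC

variable {S : Scheme.{u}} {𝒳 𝒴 𝒵 : AlgSt.Cat S}

theorem repByAlgSpWith_cancel (P : MorphismProperty (AlgSp.Sp S)) (hPb : BC P)
    (hcancel : ∀ ⦃X Y Z : AlgSp.Sp S⦄, AlgSp.IsAlgSpace X → AlgSp.IsAlgSpace Y →
      AlgSp.IsAlgSpace Z → ∀ (a : X ⟶ Y) (b : Y ⟶ Z), P b → P (a ≫ b) → P a)
    (a : 𝒳 ⥤ᵇ 𝒴) (b : 𝒴 ⥤ᵇ 𝒵) (hb : AlgSt.RepByAlgSpWith P b)
    (hab : AlgSt.RepByAlgSpWith P (BasedFunctor.comp a b)) : AlgSt.RepByAlgSpWith P a := by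
  intro U y
  obtain ⟨FC, eC, heC, hPC⟩ := hb U (BasedFunctor.comp y b)
  obtain ⟨FB, eB, heB, hPB⟩ := hab U (BasedFunctor.comp y b)
  obtain ⟨m, ⟨iso⟩⟩ := exists_mapOf eB eC heC (prodR (BasedFunctor.comp y b) a b)
  have h1 : (AlgSt.spMapOfOver (BasedFunctor.comp (AlgSt.ofSpMap m.hom)
      (BasedFunctor.comp eC (FibCat.fpFst (BasedFunctor.comp y b) b)))).hom =
      m.hom.hom ≫ (AlgSt.spMapOfOver
        (BasedFunctor.comp eC (FibCat.fpFst (BasedFunctor.comp y b) b))).hom := by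
    rw [spMapOfOver_comp, pshMapOf_ofPshMap]
  have h2 : AlgSt.spMapOfOver (BasedFunctor.comp (AlgSt.ofSpMap m.hom)
      (BasedFunctor.comp eC (FibCat.fpFst (BasedFunctor.comp y b) b))) =
      AlgSt.spMapOfOver (BasedFunctor.comp eB
        (FibCat.fpFst (BasedFunctor.comp y b) (BasedFunctor.comp a b))) := by
    apply spMapOfOver_congr
    intro a₀
    haveI hl : (FibCat.fp (BasedFunctor.comp y b) b).p.IsHomLift (𝟙 a₀.base)
        (iso.inv.toNatTrans.app a₀) := iso.inv.isHomLift' a₀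
    exact ⟨(FibCat.fpFst (BasedFunctor.comp y b) b).map (iso.inv.toNatTrans.app a₀),
      BasedFunctor.preserves_isHomLift (FibCat.fpFst (BasedFunctor.comp y b) b) (𝟙 a₀.base) _⟩
  have hcomp : m.hom ≫ AlgSt.spMapOfOver
      (BasedFunctor.comp eC (FibCat.fpFst (BasedFunctor.comp y b) b)) =
      AlgSt.spMapOfOver (BasedFunctor.comp eB
        (FibCat.fpFst (BasedFunctor.comp y b) (BasedFunctor.comp a b))) := by
    rw [← h2]
    apply ObjectProperty.hom_ext
    exact h1.symm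
  have hm : P m.hom := hcancel FB.property FC.property (AlgSp.IsAlgSpace.yon_obj U) m.hom _ hPC
    (by rw [hcomp]; exact hPB)
  have hR : AlgSt.RepByAlgSpWith P (prodR (BasedFunctor.comp y b) a b) :=
    repByAlgSpWith_of_prop_map P hPb eB eC heB heC _ m iso hm
  have hR' : AlgSt.RepByAlgSpWith P
      (FibCat.fpFst (FibCat.fpSnd (BasedFunctor.comp y b) b) a) :=
    repByAlgSpWith_of_square' P (prodR (BasedFunctor.comp y b) a b)
      (FibCat.fpFst (FibCat.fpSnd (BasedFunctor.comp y b) b) a)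
      (paste2 (BasedFunctor.comp y b) b a) (BasedFunctor.id _)
      (isEquivOver_paste2 (BasedFunctor.comp y b) b a) (isEquivOver_id _)
      (prodRIso (BasedFunctor.comp y b) a b) hR
  let σ : FibCat.overCat U ⥤ᵇ FibCat.fp (BasedFunctor.comp y b) b :=
    FibCat.fpLift (BasedFunctor.id _) y (Iso.refl _)
  have h3 := hR' U σ
  exact repWith_of_equiv P (paste1 σ (FibCat.fpSnd (BasedFunctor.comp y b) b) a)
    (isEquivOver_paste1 σ (FibCat.fpSnd (BasedFunctor.comp y b) b) a)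
    (FibCat.fpFst σ (FibCat.fpFst (FibCat.fpSnd (BasedFunctor.comp y b) b) a))
    (FibCat.fpFst y a) (fun Q => ⟨Iso.refl _, IsHomLift.id rfl⟩) h3

end H10PT
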