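import Mathlib
import Groth.Agent.Lib.Helper16.AlgSt.ProdCover
import Groth.Agent.Lib.Helper10.AlgStEquiv
import Groth.Agent.Lib.Helper10.AlgStDiag
import Groth.Agent.Lib.Helper10.FibSwap
import Groth.Agent.Lib.Helper10.Fib7

/-!
# Transfer of properties of the diagonal along a 2-commutative square of equivalences

* `diagSqN`, `diagSqIso`: for `e : f' ⋙ b ≅ a ⋙ f`, the functor `𝒳' ×_𝒴' 𝒳' ⟶ 𝒳 ×_𝒴 𝒳` and the
  2-isomorphism `Δ_{f'} ⋙ N ≅ a ⋙ Δ_f`;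
* `repByAlgSpWith_diag_of_square`, `repByAlgSpWith_diag_of_square'`;
* `repByAlgSpWith_diag_fpSnd`, `repByAlgSpWith_diag_prodR`, `repByAlgSpWith_diag_prodL`.
-/

set_option autoImplicit false
set_option backward.isDefEq.respectTransparency false
set_option backward.isDefEq.respectTransparency.types false

universe u

open CategoryTheory CategoryTheory.Limits AlgebraicGeometry Opposite

namespace H10PT

open Groth.Agent.Lib.Helper10.Fib Groth.Agent.Lib.Helper10.AlgStRep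
open Groth.Agent.Lib.Helper16.AlgStDC

variable {S : Scheme.{u}}

section DiagSq

variable {𝒳 𝒴 𝒳' 𝒴' : AlgSt.Cat S}
  (f : 𝒳 ⥤ᵇ 𝒴) (f' : 𝒳' ⥤ᵇ 𝒴') (a : 𝒳' ⥤ᵇ 𝒳) (b : 𝒴' ⥤ᵇ 𝒴)
  (e : BasedFunctor.comp f' b ≅ BasedFunctor.comp a f)

/-- The functor `𝒳' ×_𝒴' 𝒳' ⟶ 𝒳 ×_𝒴 𝒳` induced by the square. -/
def diagSqN : FibCat.fp f' f' ⥤ᵇ FibCat.fp f f :=
  fpMap (α := a) (β := a) (γ := b) e e

/-- Component of `diagSqIso`. -/
def diagSqApp (x : 𝒳'.obj) :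
    (diagSqN f f' a b e).obj ((FibCat.diag f').obj x) ≅ (FibCat.diag f).obj (a.obj x) :=
  (FibCat.fpProp f f).isoMk (X := (diagSqN f f' a b e).obj ((FibCat.diag f').obj x))
    (Y := (FibCat.diag f).obj (a.obj x))
    (CategoricalPullback.mkIso (Iso.refl _) (Iso.refl _) (by
      show f.map (𝟙 (a.obj x)) ≫ 𝟙 (f.obj (a.obj x)) =
        ((fmC e x).inv ≫ b.map (𝟙 (f'.obj x)) ≫ (fmC e x).hom) ≫ f.map (𝟙 (a.obj x))
      have h1 : f.map (𝟙 (a.obj x)) = 𝟙 _ := f.toFunctor.map_id _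
      have h2 : b.map (𝟙 (f'.obj x)) = 𝟙 _ := b.toFunctor.map_id _
      rw [h1, h2]
      simp))

/-- The square `Δ_{f'} ⋙ N ≅ a ⋙ Δ_f`. -/
def diagSqIso : BasedFunctor.comp (FibCat.diag f') (diagSqN f f' a b e) ≅
    BasedFunctor.comp a (FibCat.diag f) :=
  BasedNatIso.mkNatIso
    (NatIso.ofComponents (fun x => diagSqApp f f' a b e x) (fun {x x'} k => by
      apply ObjectProperty.hom_ext
      apply CategoricalPullback.hom_ext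
      · exact (Category.comp_id _).trans (Category.id_comp _).symm
      · exact (Category.comp_id _).trans (Category.id_comp _).symm))
    (fun x => by
      rw [fp_isHomLift_iff]
      exact IsHomLift.id (a.w_obj x))

variable {f f' a b}

theorem repByAlgSpWith_diag_of_square
    (e : BasedFunctor.comp f' b ≅ BasedFunctor.comp a f) (P : MorphismProperty (AlgSp.Sp S))
    (ha : FibCat.IsEquivOver a) (hb : FibCat.IsEquivOver b)
    (h : AlgSt.RepByAlgSpWith P (FibCat.diag f')) : AlgSt.RepByAlgSpWith P (FibCat.diag f) := by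
  have := IsEquivOver.isEquivalence hb
  exact repByAlgSpWith_of_square P (FibCat.diag f) (FibCat.diag f') a (diagSqN f f' a b e) ha
    (isEquivOver_fpMap e e ha ha) (diagSqIso f f' a b e) h

theorem repByAlgSpWith_diag_of_square'
    (e : BasedFunctor.comp f' b ≅ BasedFunctor.comp a f) (P : MorphismProperty (AlgSp.Sp S))
    (ha : FibCat.IsEquivOver a) (hb : FibCat.IsEquivOver b)
    (h : AlgSt.RepByAlgSpWith P (FibCat.diag f)) : AlgSt.RepByAlgSpWith P (FibCat.diag f') := by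
  have := IsEquivOver.isEquivalence hb
  exact repByAlgSpWith_of_square' P (FibCat.diag f) (FibCat.diag f') a (diagSqN f f' a b e) ha
    (isEquivOver_fpMap e e ha ha) (diagSqIso f f' a b e) h

end DiagSq

section Prod

variable {𝒳 𝒴 𝒵 𝒯 : AlgSt.Cat S}

theorem repByAlgSpWith_diag_fpSnd (P : MorphismProperty (AlgSp.Sp S))
    (h𝒳 : FibCat.IsFibGrpd 𝒳.p) (h𝒴 : FibCat.IsFibGrpd 𝒴.p) (h𝒵 : FibCat.IsFibGrpd 𝒵.p)
    (z : 𝒵 ⥤ᵇ 𝒴) (f : 𝒳 ⥤ᵇ 𝒴) (hz : AlgSt.RepByAlgSpWith P (FibCat.diag z)) :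
    AlgSt.RepByAlgSpWith P (FibCat.diag (FibCat.fpSnd z f)) :=
  repByAlgSpWith_diag_of_square' (f := FibCat.fpFst f z) (f' := FibCat.fpSnd z f)
    (a := fpSwap z f) (b := BasedFunctor.id 𝒳) (Iso.refl _) P (isEquivOver_fpSwap z f)
    (isEquivOver_id _) (repByAlgSpWith_diag_fpFst P h𝒵 h𝒴 h𝒳 z f hz)

theorem repByAlgSpWith_diag_prodR (P : MorphismProperty (AlgSp.Sp S))
    (h𝒳 : FibCat.IsFibGrpd 𝒳.p) (h𝒴 : FibCat.IsFibGrpd 𝒴.p) (h𝒵 : FibCat.IsFibGrpd 𝒵.p)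
    (h𝒯 : FibCat.IsFibGrpd 𝒯.p) (F : 𝒳 ⥤ᵇ 𝒯) (g : 𝒴 ⥤ᵇ 𝒵) (t : 𝒵 ⥤ᵇ 𝒯)
    (hg : AlgSt.RepByAlgSpWith P (FibCat.diag g)) :
    AlgSt.RepByAlgSpWith P (FibCat.diag (prodR F g t)) :=
  repByAlgSpWith_diag_of_square (f := prodR F g t) (f' := FibCat.fpFst (FibCat.fpSnd F t) g)
    (a := paste2 F t g) (b := BasedFunctor.id _) (prodRIso F g t) P (isEquivOver_paste2 F t g)
    (isEquivOver_id _)
    (repByAlgSpWith_diag_fpFst P h𝒴 h𝒵 (isFibGrpd_fp F t h𝒳 h𝒵 h𝒯) g (FibCat.fpSnd F t) hg)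

theorem repByAlgSpWith_diag_prodL (P : MorphismProperty (AlgSp.Sp S))
    (h𝒳 : FibCat.IsFibGrpd 𝒳.p) (h𝒴 : FibCat.IsFibGrpd 𝒴.p) (h𝒵 : FibCat.IsFibGrpd 𝒵.p)
    (h𝒯 : FibCat.IsFibGrpd 𝒯.p) (f : 𝒳 ⥤ᵇ 𝒵) (t : 𝒵 ⥤ᵇ 𝒯) (G : 𝒴 ⥤ᵇ 𝒯)
    (hf : AlgSt.RepByAlgSpWith P (FibCat.diag f)) :
    AlgSt.RepByAlgSpWith P (FibCat.diag (prodL f t G)) :=
  repByAlgSpWith_diag_of_square (f := prodL f t G) (f' := FibCat.fpSnd f (FibCat.fpFst t G))
    (a := paste1 f t G) (b := BasedFunctor.id _) (prodLIso f t G) P (isEquivOver_paste1 f t G)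
    (isEquivOver_id _)
    (repByAlgSpWith_diag_fpSnd P (isFibGrpd_fp t G h𝒵 h𝒴 h𝒯) h𝒵 h𝒳 f (FibCat.fpFst t G) hf)

end Prod

end H10PT
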