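import Mathlib
import Groth.Agent.Lib.Helper16.AlgSt.LocQSch
import Groth.Agent.Lib.Helper10.AlgStPtsOpen
import Groth.Agent.Lib.Helper10.AlgStQCDesc
import Groth.Agent.Lib.Helper10.AlgStPtsSurj

/-!
# Charts adapted to a `LocQ` witness

* `repByAlgSpWith_overMap`: `(Sch/U) ⟶ (Sch/V)` is representable with `P` if `h_U ⟶ h_V` has `P`.
* `exists_chart_of_locQ`: for `P` good and implied by smoothness, a morphism `f` with `LocQ P f`
  has a smooth surjective scheme chart `x` of the source with `x ≫ f` representable with `P`.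
* `exists_common_smooth_chart`: two smooth surjective scheme charts have a common smooth refinement.
* `exists_chart_of_locQ₂`: the same for two properties at once.
* `isOpenMap_points_map_of_chart`.
-/

set_option autoImplicit false
set_option backward.isDefEq.respectTransparency false
set_option backward.isDefEq.respectTransparency.types false

universe u

open CategoryTheory CategoryTheory.Limits AlgebraicGeometry Opposite

namespace H10PT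

open Groth.Agent.Lib.Helper10.Fib Groth.Agent.Lib.Helper10.AlgStRep
open Groth.Agent.Lib.Helper28.AlgSt.Bridge Groth.Agent.Lib.Helper28.AlgSt.SpaceCalc
open Groth.Agent.Lib.Helper28.AlgSt.PropInst Groth.Agent.Lib.Helper28.AlgSt.Comp
open Groth.Agent.Lib.Helper28.AlgSt.Whisker Groth.Agent.Lib.Helper28.AlgSt.Key
open Groth.Agent.Lib.Helper28.AlgSt.Descent Groth.Agent.Lib.Helper28.AlgSt.DiagComp
open Groth.Agent.Lib.Helper16 Groth.Agent.Lib.Helper16.AlgStDC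

variable {S : Scheme.{u}} {𝒳 𝒴 : AlgSt.Cat S}

theorem repByAlgSpWith_overMap (P : MorphismProperty (AlgSp.Sp S)) (hPb : BC P) {U V : Over S}
    (h : U ⟶ V) (hh : P ((AlgSp.yon S).map h)) : AlgSt.RepByAlgSpWith P (AlgSt.overMap h) :=
  repByAlgSpWith_of_prop_map P hPb (A := spOf U) (B := spOf V) (AlgSt.toOverCat U)
    (AlgSt.toOverCat V) (isEquivOver_toOverCat U) (isEquivOver_toOverCat V) (AlgSt.overMap h)
    (spHom h) (nuIso h) hh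

theorem exists_chart_of_locQ {P : MorphismProperty (AlgSp.Sp S)} (hP : Good P)
    (hsm : ∀ {𝒲 𝒵 : AlgSt.Cat S} (t : 𝒲 ⥤ᵇ 𝒵),
      AlgSt.RepByAlgSpWith (AlgSp.LocP @Smooth) t → AlgSt.RepByAlgSpWith P t)
    (f : 𝒳 ⥤ᵇ 𝒴) (hQ : AlgSt.LocQ P f) :
    ∃ (U : Over S) (x : FibCat.overCat U ⥤ᵇ 𝒳), AlgSt.RepByAlgSpWith (AlgSp.LocP @Smooth) x ∧
      AlgSt.RepByAlgSpWith AlgSp.IsSurjectiveMor x ∧
      AlgSt.RepByAlgSpWith P (BasedFunctor.comp x f) := by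
  obtain ⟨U, V, x, y, h, α, hx1, hx2, hy, hPh⟩ := hQ
  refine ⟨U, x, hx1, hx2, repByAlgSpWith_iso P α ?_⟩
  exact repByAlgSpWith_comp_good hP (isFibGrpd_overForget U) (isFibGrpd_overForget V)
    (AlgSt.overMap h) y (repByAlgSpWith_overMap P hP.bc h hPh) (hsm y hy)

theorem exists_common_smooth_chart (h𝒳 : AlgSt.IsAlgStack Scheme.fppfPrecoverage 𝒳)
    {U₁ U₂ : Over S} (x₁ : FibCat.overCat U₁ ⥤ᵇ 𝒳) (x₂ : FibCat.overCat U₂ ⥤ᵇ 𝒳)
    (h11 : AlgSt.RepByAlgSpWith (AlgSp.LocP @Smooth) x₁)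
    (h12 : AlgSt.RepByAlgSpWith AlgSp.IsSurjectiveMor x₁)
    (h21 : AlgSt.RepByAlgSpWith (AlgSp.LocP @Smooth) x₂)
    (h22 : AlgSt.RepByAlgSpWith AlgSp.IsSurjectiveMor x₂) :
    ∃ (W : Over S) (k₁ : FibCat.overCat W ⥤ᵇ FibCat.overCat U₁)
      (k₂ : FibCat.overCat W ⥤ᵇ FibCat.overCat U₂)
      (_ : BasedFunctor.comp k₁ x₁ ≅ BasedFunctor.comp k₂ x₂),
      AlgSt.RepByAlgSpWith (AlgSp.LocP @Smooth) k₁ ∧ AlgSt.RepByAlgSpWith (AlgSp.LocP @Smooth) k₂ ∧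
      AlgSt.RepByAlgSpWith (AlgSp.LocP @Smooth) (BasedFunctor.comp k₁ x₁) ∧
      AlgSt.RepByAlgSpWith AlgSp.IsSurjectiveMor (BasedFunctor.comp k₁ x₁) := by
  have a : AlgSt.IsAlgStack Scheme.fppfPrecoverage (FibCat.fp x₁ x₂) :=
    Groth.Agent.S12763.result h𝒳.isStack h𝒳.diag (isAlgStack_overCat U₁) (isAlgStack_overCat U₂)
      x₁ x₂
  obtain ⟨W, c, hc1, hc2⟩ := a.atlas
  have hO := isFibGrpd_overForget W
  have hO₁ := isFibGrpd_overForget U₁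
  have p1s : AlgSt.RepByAlgSpWith (AlgSp.LocP @Smooth) (FibCat.fpFst x₁ x₂) :=
    repByAlgSpWith_fpFst _ x₂ x₁ h21
  have p1j : AlgSt.RepByAlgSpWith AlgSp.IsSurjectiveMor (FibCat.fpFst x₁ x₂) :=
    repByAlgSpWith_fpFst _ x₂ x₁ h22
  have p2s : AlgSt.RepByAlgSpWith (AlgSp.LocP @Smooth) (FibCat.fpSnd x₁ x₂) :=
    repByAlgSpWith_fpSnd _ x₁ x₂ h11
  have k1s := repByAlgSpWith_comp_smooth hO a.isStack.1 c _ hc1 p1s
  have k1j := repByAlgSpWith_comp_surjective hO a.isStack.1 c _ hc2 p1j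
  have k2s := repByAlgSpWith_comp_smooth hO a.isStack.1 c _ hc1 p2s
  exact ⟨W, BasedFunctor.comp c (FibCat.fpFst x₁ x₂), BasedFunctor.comp c (FibCat.fpSnd x₁ x₂),
    wl c (FibCat.fpIso x₁ x₂), k1s, k2s,
    repByAlgSpWith_comp_smooth hO hO₁ _ x₁ k1s h11,
    repByAlgSpWith_comp_surjective hO hO₁ _ x₁ k1j h12⟩

theorem exists_chart_of_locQ₂ {P₁ P₂ : MorphismProperty (AlgSp.Sp S)} (hP₁ : Good P₁)
    (hP₂ : Good P₂)
    (hsm₁ : ∀ {𝒲 𝒵 : AlgSt.Cat S} (t : 𝒲 ⥤ᵇ 𝒵),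
      AlgSt.RepByAlgSpWith (AlgSp.LocP @Smooth) t → AlgSt.RepByAlgSpWith P₁ t)
    (hsm₂ : ∀ {𝒲 𝒵 : AlgSt.Cat S} (t : 𝒲 ⥤ᵇ 𝒵),
      AlgSt.RepByAlgSpWith (AlgSp.LocP @Smooth) t → AlgSt.RepByAlgSpWith P₂ t)
    (h𝒳 : AlgSt.IsAlgStack Scheme.fppfPrecoverage 𝒳) (f : 𝒳 ⥤ᵇ 𝒴) (hQ₁ : AlgSt.LocQ P₁ f)
    (hQ₂ : AlgSt.LocQ P₂ f) :
    ∃ (W : Over S) (χ : FibCat.overCat W ⥤ᵇ 𝒳), AlgSt.RepByAlgSpWith (AlgSp.LocP @Smooth) χ ∧
      AlgSt.RepByAlgSpWith AlgSp.IsSurjectiveMor χ ∧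
      AlgSt.RepByAlgSpWith P₁ (BasedFunctor.comp χ f) ∧
      AlgSt.RepByAlgSpWith P₂ (BasedFunctor.comp χ f) := by
  obtain ⟨U₁, x₁, h11, h12, hf1⟩ := exists_chart_of_locQ hP₁ hsm₁ f hQ₁
  obtain ⟨U₂, x₂, h21, h22, hf2⟩ := exists_chart_of_locQ hP₂ hsm₂ f hQ₂
  obtain ⟨W, k₁, k₂, θ, hk1, hk2, hs, hj⟩ := exists_common_smooth_chart h𝒳 x₁ x₂ h11 h12 h21 h22
  refine ⟨W, BasedFunctor.comp k₁ x₁, hs, hj, ?_, ?_⟩
  · exact repByAlgSpWith_comp_good hP₁ (isFibGrpd_overForget W) (isFibGrpd_overForget U₁) k₁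
      (BasedFunctor.comp x₁ f) (hsm₁ k₁ hk1) hf1
  · refine repByAlgSpWith_iso P₂ (wr θ f) ?_
    exact repByAlgSpWith_comp_good hP₂ (isFibGrpd_overForget W) (isFibGrpd_overForget U₂) k₂
      (BasedFunctor.comp x₂ f) (hsm₂ k₂ hk2) hf2

theorem exists_fppf_chart_of_locQ (h𝒳 : AlgSt.IsAlgStack Scheme.fppfPrecoverage 𝒳) (f : 𝒳 ⥤ᵇ 𝒴)
    (hQ₁ : AlgSt.LocQ (AlgSp.LocP @Flat) f)
    (hQ₂ : AlgSt.LocQ (AlgSp.LocP @LocallyOfFinitePresentation) f) :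
    ∃ (W : Over S) (χ : FibCat.overCat W ⥤ᵇ 𝒳), AlgSt.RepByAlgSpWith (AlgSp.LocP @Smooth) χ ∧
      AlgSt.RepByAlgSpWith AlgSp.IsSurjectiveMor χ ∧
      AlgSt.RepByAlgSpWith (AlgSp.LocP @Flat) (BasedFunctor.comp χ f) ∧
      AlgSt.RepByAlgSpWith (AlgSp.LocP @LocallyOfFinitePresentation) (BasedFunctor.comp χ f) :=
  exists_chart_of_locQ₂ good_flat good_lfp (fun t ht => repFlat_of_smooth t ht)
    (fun t ht => repLfp_of_smooth t ht) h𝒳 f hQ₁ hQ₂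

theorem isOpenMap_points_map_of_chart (h𝒳 : AlgSt.IsAlgStack Scheme.fppfPrecoverage 𝒳)
    (h𝒴 : AlgSt.IsAlgStack Scheme.fppfPrecoverage 𝒴) (f : 𝒳 ⥤ᵇ 𝒴) {W : Over S}
    (χ : FibCat.overCat W ⥤ᵇ 𝒳) (hs : AlgSt.RepByAlgSpWith (AlgSp.LocP @Smooth) χ)
    (hj : AlgSt.RepByAlgSpWith AlgSp.IsSurjectiveMor χ)
    (hc1 : AlgSt.RepByAlgSpWith (AlgSp.LocP @Flat) (BasedFunctor.comp χ f))
    (hc2 : AlgSt.RepByAlgSpWith (AlgSp.LocP @LocallyOfFinitePresentation)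
      (BasedFunctor.comp χ f)) : IsOpenMap (AlgSt.Points.map f) := by
  have hus := surjective_ofChart h𝒳.isStack.1 χ hj
  have hopen := isOpenMap_ofChart h𝒴 (BasedFunctor.comp χ f) hc1 hc2
  intro O hO'
  have hOU : IsOpen (AlgSt.Points.ofChart χ ⁻¹' O) := (AlgSt.Points.isOpen_iff.1 hO') W χ hs
  have heq : AlgSt.Points.map f '' O =
      AlgSt.Points.ofChart (BasedFunctor.comp χ f) '' (AlgSt.Points.ofChart χ ⁻¹' O) := by
    ext ξ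
    constructor
    · rintro ⟨ω, hω, rfl⟩
      obtain ⟨τ, rfl⟩ := hus ω
      exact ⟨τ, hω, ofChart_comp_right χ f τ⟩
    · rintro ⟨τ, hτ, rfl⟩
      exact ⟨AlgSt.Points.ofChart χ τ, hτ, (ofChart_comp_right χ f τ).symm⟩
  rw [heq]
  exact hopen _ hOU

/-- A flat, locally finitely presented (in the `LocQ` sense), surjective morphism `z : 𝒵 ⟶ 𝒴` of
algebraic stacks admits a smooth surjective scheme chart `χ` of `𝒵` such that `χ ≫ z` is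
representable by algebraic spaces, flat, locally of finite presentation and surjective. -/
theorem exists_rep_fppf_cover_of_locQ {𝒵 : AlgSt.Cat S}
    (h𝒵 : AlgSt.IsAlgStack Scheme.fppfPrecoverage 𝒵)
    (h𝒴 : AlgSt.IsAlgStack Scheme.fppfPrecoverage 𝒴) (z : 𝒵 ⥤ᵇ 𝒴)
    (hz₁ : AlgSt.LocQ (AlgSp.LocP @Flat) z)
    (hz₂ : AlgSt.LocQ (AlgSp.LocP @LocallyOfFinitePresentation) z) (hz₃ : AlgSt.IsSurjective z) :
    ∃ (W : Over S) (χ : FibCat.overCat W ⥤ᵇ 𝒵), AlgSt.RepByAlgSpWith (AlgSp.LocP @Smooth) χ ∧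
      AlgSt.RepByAlgSpWith AlgSp.IsSurjectiveMor χ ∧
      AlgSt.RepByAlgSpWith (AlgSp.LocP @Flat) (BasedFunctor.comp χ z) ∧
      AlgSt.RepByAlgSpWith (AlgSp.LocP @LocallyOfFinitePresentation) (BasedFunctor.comp χ z) ∧
      AlgSt.RepByAlgSpWith AlgSp.IsSurjectiveMor (BasedFunctor.comp χ z) := by
  obtain ⟨W, χ, hs, hj, hc1, hc2⟩ := exists_fppf_chart_of_locQ h𝒵 z hz₁ hz₂
  have hχs : AlgSt.IsSurjective χ := isSurjective_of_rep h𝒵.isStack.1 χ hj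
  have hws : AlgSt.IsSurjective (BasedFunctor.comp χ z) := by
    show Function.Surjective (AlgSt.Points.map (BasedFunctor.comp χ z))
    rw [points_map_comp]
    exact hz₃.comp hχs
  exact ⟨W, χ, hs, hj, hc1, hc2, rep_of_isSurjective (isFibGrpd_overForget W) h𝒴.isStack.1 _
    (repByAlgSp1_of_with _ _ hc1) hws⟩

/-- Base change to a chart: `fpFst (χ ≫ z) f` is a base change of `fpFst z f`. -/
theorem repByAlgSpWith_fpFst_comp (P : MorphismProperty (AlgSp.Sp S)) {𝒵 𝒲 : AlgSt.Cat S}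
    (χ : 𝒲 ⥤ᵇ 𝒵) (z : 𝒵 ⥤ᵇ 𝒴) (f : 𝒳 ⥤ᵇ 𝒴)
    (h : AlgSt.RepByAlgSpWith P (FibCat.fpFst z f)) :
    AlgSt.RepByAlgSpWith P (FibCat.fpFst (BasedFunctor.comp χ z) f) :=
  repByAlgSpWith_of_square P (FibCat.fpFst (BasedFunctor.comp χ z) f)
    (FibCat.fpFst χ (FibCat.fpFst z f)) (paste1 χ z f) (BasedFunctor.id _)
    (isEquivOver_paste1 χ z f) (isEquivOver_id _) (Iso.refl _)
    (repByAlgSpWith_fpFst P (FibCat.fpFst z f) χ h)

/-- Intersection of two scheme charts, with the 2-isomorphism. -/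
theorem chart_inter_iso (h𝒳 : AlgSt.IsAlgStack Scheme.fppfPrecoverage 𝒳) {U V : Over S}
    (x : FibCat.overCat U ⥤ᵇ 𝒳) (y : FibCat.overCat V ⥤ᵇ 𝒳) :
    ∃ (T : Over S) (h : T ⟶ U) (G : FibCat.overCat T ⥤ᵇ FibCat.overCat V)
      (_ : BasedFunctor.comp (AlgSt.overMap h) x ≅ BasedFunctor.comp G y),
      (∀ P₀ : MorphismProperty Scheme.{u}, Good (S := S) (AlgSp.LocP P₀) → @Smooth ≤ P₀ →
        AlgSt.RepByAlgSpWith (AlgSp.LocP P₀) y → P₀ h.left) ∧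
      (∀ (u : ↥U.left) (q : AlgSt.FPt (FibCat.overCat V)),
        AlgSt.Points.ofChart x u = AlgSt.Points.map y (AlgSt.Points.mk q) →
        ∃ τ : ↥T.left, h.left τ = u) := by
  have hU := isAlgStack_overCat U
  have hV := isAlgStack_overCat V
  have hP : AlgSt.IsAlgStack Scheme.fppfPrecoverage (FibCat.fp x y) :=
    Groth.Agent.Lib.Helper28.AlgSt.FpStack.isAlgStack_fp h𝒳.isStack h𝒳.diag hU hV x y
  obtain ⟨T, t, ht1, ht2⟩ := hP.atlas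
  have hO := isFibGrpd_overForget T
  have hfp := hP.isStack.1
  obtain ⟨Gx, hGx⟩ : ∃ Gx : FibCat.overCat T ⥤ᵇ FibCat.overCat U,
      Gx = BasedFunctor.comp t (FibCat.fpFst x y) := ⟨_, rfl⟩
  obtain ⟨Gy, hGy⟩ : ∃ Gy : FibCat.overCat T ⥤ᵇ FibCat.overCat V,
      Gy = BasedFunctor.comp t (FibCat.fpSnd x y) := ⟨_, rfl⟩
  have e : BasedFunctor.comp Gx x ≅ BasedFunctor.comp Gy y := by
    rw [hGx, hGy]
    exact wl t (FibCat.fpIso x y)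
  refine ⟨T, Groth.Agent.Lib.Helper28.AlgSt.ChartOver.homOfOver Gx, Gy,
    (wr (Groth.Agent.Lib.Helper28.AlgSt.ChartOver.isoOverMap Gx) x).symm ≪≫ e, ?_, ?_⟩
  · intro P₀ hgood hle hy
    have ht : AlgSt.RepByAlgSpWith (AlgSp.LocP P₀) t :=
      repByAlgSpWith_mono t (fun F W g hg => fun A B a b k ha hb w => hle _ _ _ (hg a b k ha hb w)) ht1
    have hfst : AlgSt.RepByAlgSpWith (AlgSp.LocP P₀) (FibCat.fpFst x y) :=
      repByAlgSpWith_fpFst _ y x hy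
    have hG : AlgSt.RepByAlgSpWith (AlgSp.LocP P₀) Gx := by
      rw [hGx]
      exact repByAlgSpWith_comp_good hgood hO hfp t _ ht hfst
    exact prop_homOfOver hgood Gx hG
  · intro u q hq
    obtain ⟨w, hw1, hw2⟩ := exists_fp_point (isFibGrpd_overForget V) h𝒳.isStack.1
      (isFibGrpd_overForget U) y x (AlgSt.Points.mk (resFPt U u)) (AlgSt.Points.mk q) hq
    obtain ⟨τ', hτ'⟩ := isSurjective_of_rep hfp t ht2 w
    obtain ⟨qτ, rfl⟩ := AlgSt.Points.mk_surjective τ'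
    refine ⟨ptOf qτ, ?_⟩
    have h1 : AlgSt.Points.mk (qτ.map Gx) = AlgSt.Points.mk (resFPt U u) := by
      rw [← hw1, ← hτ', hGx]
      rfl
    rw [← ptOf_map, ptOf_eq_of_mk_eq h1, ptOf_resFPt]

end H10PT
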