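import Mathlib
import Groth.Agent.Lib.Helper10.AlgStQCDesc

/-!
# Points of locally Noetherian algebraic stacks

* `quasiSober_of_open_surj`: the target of a continuous open surjection from a quasi-sober space that
  is locally a Noetherian space is quasi-sober.
* `noetherianSpace_points`, `exists_noetherian_nhd`, `quasiSober_points`.
-/

set_option autoImplicit false
set_option backward.isDefEq.respectTransparency false
set_option backward.isDefEq.respectTransparency.types false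

universe u

open CategoryTheory CategoryTheory.Limits AlgebraicGeometry Opposite TopologicalSpace

namespace H10PT

theorem quasiSober_of_open_surj {X Y : Type*} [TopologicalSpace X] [TopologicalSpace Y]
    [QuasiSober X] (f : X → Y) (hc : Continuous f) (ho : IsOpenMap f)
    (hs : Function.Surjective f)
    (hloc : ∀ x : X, ∃ W : Set X, IsOpen W ∧ x ∈ W ∧ NoetherianSpace W) : QuasiSober Y := by
  classical
  constructor
  intro T hTirr hTcl
  obtain ⟨ξ, hξ⟩ := hTirr.nonempty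
  obtain ⟨v, rfl⟩ := hs ξ
  obtain ⟨W, hWo, hvW, hWN⟩ := hloc v
  have hscl : IsClosed ((fun w : W => f w.1) ⁻¹' T) :=
    hTcl.preimage (hc.comp continuous_subtype_val)
  obtain ⟨Sf, hSfin, hScl, hSirr, hSeq⟩ :=
    NoetherianSpace.exists_finite_set_isClosed_irreducible hscl
  have hTO : T ∩ f '' W = ⋃ t ∈ Sf, (fun w : W => f w.1) '' t := by
    ext y
    constructor
    · rintro ⟨hyT, w, hwW, rfl⟩
      have h1 : (⟨w, hwW⟩ : W) ∈ (fun w : W => f w.1) ⁻¹' T := hyT
      rw [hSeq] at h1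
      obtain ⟨t, ht, hwt⟩ := h1
      exact Set.mem_biUnion ht ⟨⟨w, hwW⟩, hwt, rfl⟩
    · intro hy
      obtain ⟨t, ht, w, hwt, rfl⟩ := Set.mem_iUnion₂.1 hy
      have h1 : w ∈ (fun w : W => f w.1) ⁻¹' T := by
        rw [hSeq]
        exact ⟨t, ht, hwt⟩
      exact ⟨h1, w.1, w.2, rfl⟩
  have hsub : T ⊆ closure (T ∩ f '' W) :=
    subset_closure_inter_of_isPreirreducible_of_isOpen hTirr.isPreirreducible (ho W hWo)
      ⟨f v, hξ, v, hvW, rfl⟩
  rw [hTO, hSfin.closure_biUnion] at hsub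
  obtain ⟨t₀, ht₀, hTt₀⟩ : ∃ t ∈ Sf, T ⊆ closure ((fun w : W => f w.1) '' t) := by
    obtain ⟨z, hz, hTz⟩ := isIrreducible_iff_sUnion_isClosed.1 hTirr
      (hSfin.toFinset.image (fun t => closure ((fun w : W => f w.1) '' t)))
      (fun z hz => by
        obtain ⟨t, -, rfl⟩ := Finset.mem_image.1 hz
        exact isClosed_closure)
      (fun y hy => by
        obtain ⟨t, ht, hyt⟩ := Set.mem_iUnion₂.1 (hsub hy)
        exact ⟨_, Finset.mem_coe.2 (Finset.mem_image.2 ⟨t, hSfin.mem_toFinset.2 ht, rfl⟩), hyt⟩)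
    obtain ⟨t, ht, rfl⟩ := Finset.mem_image.1 hz
    exact ⟨t, hSfin.mem_toFinset.1 ht, hTz⟩
  have hirr : IsIrreducible (closure (Subtype.val '' t₀ : Set X)) :=
    ((hSirr t₀ ht₀).image Subtype.val continuous_subtype_val.continuousOn).closure
  obtain ⟨η, hη⟩ := QuasiSober.sober hirr isClosed_closure
  have h1 : (Subtype.val '' t₀ : Set X) ⊆ f ⁻¹' T := by
    rintro _ ⟨w, hw, rfl⟩
    have h2 : w ∈ (fun w : W => f w.1) ⁻¹' T := by
      rw [hSeq]
      exact ⟨t₀, ht₀, hw⟩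
    exact h2
  refine ⟨f η, ?_⟩
  apply Set.Subset.antisymm
  · apply hTcl.closure_subset_iff.2
    rw [Set.singleton_subset_iff]
    exact (hTcl.preimage hc).closure_subset_iff.2 h1 hη.mem
  · refine hTt₀.trans (closure_minimal ?_ isClosed_closure)
    rintro _ ⟨w, hw, rfl⟩
    have h3 : w.1 ∈ closure ({η} : Set X) := by
      rw [hη.def]
      exact subset_closure ⟨w, hw, rfl⟩
    have h4 := image_closure_subset_closure_image hc (s := {η}) ⟨w.1, h3, rfl⟩
    simpa using h4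

open Groth.Agent.Lib.Helper10.Fib Groth.Agent.Lib.Helper10.AlgStRep
open Groth.Agent.Lib.Helper16

variable {S : Scheme.{u}} {𝒳 : AlgSt.Cat S}

theorem exists_noetherian_nhd_scheme (V : Scheme.{u}) [IsLocallyNoetherian V] (v : V) :
    ∃ W : Set V, IsOpen W ∧ v ∈ W ∧ NoetherianSpace W := by
  obtain ⟨W, hW, hvW, -⟩ := exists_isAffineOpen_mem_and_subset (x := v) (U := ⊤) trivial
  haveI := IsLocallyNoetherian.component_noetherian ⟨W, hW⟩
  exact ⟨W, W.isOpen, hvW, noetherianSpace_of_isAffineOpen W hW⟩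

theorem noetherianSpace_points (h𝒳 : AlgSt.IsAlgStack Scheme.fppfPrecoverage 𝒳)
    (hqc : AlgSt.IsQuasiCompact 𝒳)
    (hN : AlgSt.SmoothLocally (fun T ↦ IsLocallyNoetherian T) 𝒳) :
    NoetherianSpace (AlgSt.Points 𝒳) := by
  obtain ⟨U, x, hU, hx1, hx2⟩ := hqc
  haveI := hU
  haveI : IsLocallyNoetherian U.left := hN U x hx1
  haveI : IsNoetherian U.left :=
    { toIsLocallyNoetherian := inferInstance, toCompactSpace := inferInstance }
  exact noetherianSpace_of_surjective (AlgSt.Points.ofChart x) (continuous_ofChart h𝒳 x)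
    (surjective_ofChart h𝒳.isStack.1 x hx2)

theorem exists_noetherian_nhd (h𝒳 : AlgSt.IsAlgStack Scheme.fppfPrecoverage 𝒳)
    (hN : AlgSt.SmoothLocally (fun T ↦ IsLocallyNoetherian T) 𝒳) (ξ : AlgSt.Points 𝒳) :
    ∃ U : Set (AlgSt.Points 𝒳), IsOpen U ∧ ξ ∈ U ∧ NoetherianSpace U := by
  obtain ⟨V, y, hy1, hy2⟩ := h𝒳.atlas
  haveI : IsLocallyNoetherian V.left := hN V y hy1
  obtain ⟨v, rfl⟩ := surjective_ofChart h𝒳.isStack.1 y hy2 ξ
  obtain ⟨W, hWo, hvW, hWN⟩ := exists_noetherian_nhd_scheme V.left v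
  refine ⟨AlgSt.Points.ofChart y '' W,
    isOpenMap_ofChart h𝒳 y (repFlat_of_smooth y hy1) (repLfp_of_smooth y hy1) W hWo,
    ⟨v, hvW, rfl⟩, ?_⟩
  rw [Set.image_eq_range]
  exact NoetherianSpace.range _ ((continuous_ofChart h𝒳 y).comp continuous_subtype_val)

theorem quasiSober_points (h𝒳 : AlgSt.IsAlgStack Scheme.fppfPrecoverage 𝒳)
    (hN : AlgSt.SmoothLocally (fun T ↦ IsLocallyNoetherian T) 𝒳) :
    QuasiSober (AlgSt.Points 𝒳) := by
  obtain ⟨V, y, hy1, hy2⟩ := h𝒳.atlas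
  haveI : IsLocallyNoetherian V.left := hN V y hy1
  exact quasiSober_of_open_surj (AlgSt.Points.ofChart y) (continuous_ofChart h𝒳 y)
    (isOpenMap_ofChart h𝒳 y (repFlat_of_smooth y hy1) (repLfp_of_smooth y hy1))
    (surjective_ofChart h𝒳.isStack.1 y hy2) (exists_noetherian_nhd_scheme V.left)

end H10PT
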