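import Mathlib

/-!
# Locally Noetherian schemes: descent along flat covers

* `isNoetherianRing_of_faithfullyFlat`
* `isLocallyNoetherian_of_flat_surjective_affine`
* `isLocallyNoetherian_of_flat_cover`: a scheme every point of which is in the image of a flat,
  locally finitely presented morphism from a locally Noetherian scheme is locally Noetherian.
* `isLocallyNoetherian_smoothLocal`: being locally Noetherian is local for the smooth topology.
* `quasiCompact_of_isImmersion`: immersions into locally Noetherian schemes are quasi-compact.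
-/

set_option autoImplicit false

universe u

open CategoryTheory CategoryTheory.Limits AlgebraicGeometry Opposite TopologicalSpace

namespace H10PT

theorem isNoetherianRing_of_faithfullyFlat (A B : Type*) [CommRing A] [CommRing B] [Algebra A B]
    [Module.FaithfullyFlat A B] [IsNoetherianRing B] : IsNoetherianRing A := by
  rw [isNoetherianRing_iff, isNoetherian_iff']
  have hinj : Function.Injective (Ideal.map (algebraMap A B)) :=
    Ideal.map_injective_of_faithfullyFlat
  have hmono : StrictMono (Ideal.map (algebraMap A B)) :=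
    Monotone.strictMono_of_injective (fun _ _ h => Ideal.map_mono h) hinj
  haveI : WellFoundedGT (Ideal B) := (isNoetherian_iff' (R := B) (M := B)).1 inferInstance
  exact hmono.wellFoundedGT

theorem isLocallyNoetherian_of_flat_surjective_affine {W D : Scheme.{u}} (g : W ⟶ D) [IsAffine W]
    [IsAffine D] [Flat g] [Surjective g] [IsLocallyNoetherian W] : IsLocallyNoetherian D := by
  have hflat : g.appTop.hom.Flat := (HasRingHomProperty.iff_of_isAffine (P := @Flat)).1 ‹Flat g›
  haveI hs : Surjective (Spec.map g.appTop) :=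
    (MorphismProperty.arrow_mk_iso_iff @Surjective (arrowIsoSpecΓOfIsAffine g)).1 ‹Surjective g›
  letI := g.appTop.hom.toAlgebra
  haveI : Module.Flat Γ(D, ⊤) Γ(W, ⊤) := hflat
  haveI : Module.FaithfullyFlat Γ(D, ⊤) Γ(W, ⊤) := by
    apply Module.FaithfullyFlat.of_comap_surjective
    exact hs.surj
  haveI : IsNoetherianRing Γ(W, ⊤) :=
    IsLocallyNoetherian.component_noetherian ⟨⊤, isAffineOpen_top W⟩
  have hA : IsNoetherianRing Γ(D, ⊤) := isNoetherianRing_of_faithfullyFlat Γ(D, ⊤) Γ(W, ⊤)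
  exact isLocallyNoetherian_of_affine_cover (S := fun _ : Unit => ⟨⊤, isAffineOpen_top D⟩)
    (by simp) (fun _ => hA)

theorem exists_locallyNoetherian_nhd {U V : Scheme.{u}} (g : V ⟶ U) [Flat g]
    [LocallyOfFinitePresentation g] [IsLocallyNoetherian V] (v : V) :
    ∃ D : U.Opens, g v ∈ D ∧ IsLocallyNoetherian D := by
  obtain ⟨U₀, hU₀, huU₀, -⟩ := exists_isAffineOpen_mem_and_subset (x := g v) (U := ⊤) trivial
  obtain ⟨W, hW, hvW, hWU⟩ := exists_isAffineOpen_mem_and_subset (x := v) (U := g ⁻¹ᵁ U₀) huU₀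
  have hO : IsOpen (g '' (W : Set V)) := g.isOpenMap _ W.isOpen
  obtain ⟨f, hfO, hfu⟩ := hU₀.exists_basicOpen_le (V := ⟨g '' (W : Set V), hO⟩)
    ⟨g v, ⟨v, hvW, rfl⟩⟩ huU₀
  have hD : IsAffineOpen (U.basicOpen f) := hU₀.basicOpen f
  obtain ⟨s, hs⟩ : ∃ s : Γ(V, W), V.basicOpen s = W ⊓ g ⁻¹ᵁ U.basicOpen f := by
    refine ⟨V.presheaf.map (homOfLE hWU).op (g.app U₀ f), ?_⟩
    rw [Scheme.basicOpen_res, Scheme.preimage_basicOpen]
  have hW' : IsAffineOpen (W ⊓ g ⁻¹ᵁ U.basicOpen f) := hs ▸ hW.basicOpen s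
  haveI : IsAffine (U.basicOpen f) := hD
  haveI : IsAffine (W ⊓ g ⁻¹ᵁ U.basicOpen f : V.Opens) := hW'
  haveI : Flat (g.resLE (U.basicOpen f) (W ⊓ g ⁻¹ᵁ U.basicOpen f) inf_le_right) :=
    IsZariskiLocalAtSource.resLE (P := @Flat) _ ‹Flat g›
  haveI : Surjective (g.resLE (U.basicOpen f) (W ⊓ g ⁻¹ᵁ U.basicOpen f) inf_le_right) := by
    refine ⟨fun d => ?_⟩
    obtain ⟨w, hwW, hwd⟩ := hfO d.2
    have hw' : w ∈ (W ⊓ g ⁻¹ᵁ U.basicOpen f : V.Opens) := ⟨hwW, by
      show g w ∈ U.basicOpen f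
      rw [hwd]
      exact d.2⟩
    refine ⟨⟨w, hw'⟩, Subtype.ext ?_⟩
    rw [Scheme.Hom.coe_resLE_apply]
    exact hwd
  exact ⟨U.basicOpen f, hfu, isLocallyNoetherian_of_flat_surjective_affine
    (g.resLE (U.basicOpen f) (W ⊓ g ⁻¹ᵁ U.basicOpen f) inf_le_right)⟩

theorem isLocallyNoetherian_of_flat_cover (U : Scheme.{u})
    (h : ∀ u : U, ∃ (V : Scheme.{u}) (g : V ⟶ U) (v : V), Flat g ∧ LocallyOfFinitePresentation g ∧
      IsLocallyNoetherian V ∧ g v = u) : IsLocallyNoetherian U := by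
  have h' : ∀ u : U, ∃ D : U.Opens, u ∈ D ∧ IsLocallyNoetherian D := by
    intro u
    obtain ⟨V, g, v, hg1, hg2, hV, rfl⟩ := h u
    exact exists_locallyNoetherian_nhd g v
  choose D hD1 hD2 using h'
  have hcov : IsOpenCover D := by
    apply IsOpenCover.mk
    rw [eq_top_iff]
    intro u _
    exact Opens.mem_iSup.2 ⟨u, hD1 u⟩
  rw [isLocallyNoetherian_iff_openCover (U.openCoverOfIsOpenCover D hcov)]
  intro u
  exact hD2 u

theorem isLocallyNoetherian_smoothLocal (U : Scheme.{u}) (R : Presieve U)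
    (hR : R ∈ Scheme.precoverage @Smooth U) :
    IsLocallyNoetherian U ↔ ∀ ⦃V : Scheme.{u}⦄ (g : V ⟶ U), R g → IsLocallyNoetherian V := by
  obtain ⟨h1, h2⟩ := hR
  rw [Presieve.mem_comap_jointlySurjectivePrecoverage_iff] at h1
  constructor
  · intro hU V g hg
    haveI : Smooth g := h2 hg
    exact LocallyOfFiniteType.isLocallyNoetherian g
  · intro hV
    apply isLocallyNoetherian_of_flat_cover
    intro u
    obtain ⟨V, g, hg, v, hv⟩ := h1 u
    haveI : Smooth g := h2 hg
    exact ⟨V, g, v, inferInstance, inferInstance, hV g hg, hv⟩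

theorem quasiCompact_of_isImmersion {X Y : Scheme.{u}} (f : X ⟶ Y) [IsImmersion f]
    [IsLocallyNoetherian Y] : QuasiCompact f := by
  rw [← f.liftCoborder_ι]
  infer_instance

end H10PT
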