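import Mathlib
import Groth.Agent.Lib.Helper10.AlgStNoethLocal
import Groth.Agent.Lib.Helper10.AlgStQCMor
import Groth.Agent.Lib.Helper10.AlgStQCDesc
import Groth.Agent.Lib.Helper28.AlgSt.RepSch
import Groth.Agent.Lib.Helper28.AlgSt.DiagTFAE
import Groth.Agent.Lib.Helper16.QuasiCompactMor
import Groth.Agent.Lib.Helper16.Rep

/-!
# Immersions into locally Noetherian algebraic stacks

* `exists_scheme_of_repWith`: a representable morphism to `h_V` has source a scheme.
* `isEquivOver_ofSpMap_of_isIso`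
* `exists_chart_of_isImm`: the base change of an immersion `j : 𝒳 ⟶ 𝒴` to a locally Noetherian
  scheme `V` is a locally Noetherian scheme, and the projection to `V` is quasi-compact.
* `isQuasiSeparatedMor_of_isImm`: immersions are quasi-separated.
-/

set_option autoImplicit false
set_option backward.isDefEq.respectTransparency false
set_option backward.isDefEq.respectTransparency.types false

universe u

open CategoryTheory CategoryTheory.Limits AlgebraicGeometry Opposite

namespace H10PT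

open Groth.Agent.Lib.Helper10.Fib Groth.Agent.Lib.Helper10.AlgStRep
open Groth.Agent.Lib.Helper28.AlgSt.Bridge Groth.Agent.Lib.Helper28.AlgSt.SpaceCalc
open Groth.Agent.Lib.Helper28.AlgSt.PropInst Groth.Agent.Lib.Helper28.AlgSt.RepSch
open Groth.Agent.Lib.Helper16

variable {S : Scheme.{u}} {𝒳 𝒴 : AlgSt.Cat S}

theorem exists_scheme_of_repWith (P : MorphismProperty Scheme.{u}) {F : AlgSp.Sp S} {V : Over S}
    (g : F ⟶ (AlgSp.yon S).obj V) (hg : AlgSp.RepWith P g) :
    ∃ (V' : Over S) (i : (AlgSp.yon S).obj V' ⟶ F) (snd : V' ⟶ V),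
      IsIso i ∧ i ≫ g = (AlgSp.yon S).map snd ∧ P snd.left := by
  refine ⟨hg.rep.pullback (𝟙 _), hg.rep.fst (𝟙 _), hg.rep.snd (𝟙 _), ?_, ?_, ?_⟩
  · exact (hg.rep.isPullback (𝟙 _)).isIso_fst_of_isIso
  · have := (hg.rep.isPullback (𝟙 _)).w
    rw [Category.comp_id] at this
    exact this
  · exact hg.property_snd (𝟙 _)

theorem isEquivOver_ofSpMap_of_isIso {A B : AlgSp.Sp S} (i : A ⟶ B) [IsIso i] :
    FibCat.IsEquivOver (AlgSt.ofSpMap i) :=
  isEquivOver_ofPshMap_of_iso ((sheafToPresheaf (AlgSp.J S) (Type (u + 1))).mapIso (asIso i))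

theorem isQuasiCompactMor_of_repWith_isImmersion {F : AlgSp.Sp S} {V : Over S}
    [IsLocallyNoetherian V.left] (g : F ⟶ (AlgSp.yon S).obj V)
    (hg : AlgSp.RepWith @IsImmersion g) : AlgSp.IsQuasiCompactMor g := by
  obtain ⟨V', i, snd, hi, hcomm, hP⟩ := exists_scheme_of_repWith _ g hg
  haveI := hi
  haveI : IsImmersion snd.left := hP
  have hq : QuasiCompact snd.left := quasiCompact_of_isImmersion snd.left
  apply isQuasiCompactMor_of_repWith_quasiCompact
  rw [← MorphismProperty.cancel_left_of_respectsIso (AlgSp.RepWith @QuasiCompact) i g, hcomm,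
    AlgSp.repWith_yon_map_iff]
  exact hq

theorem exists_chart_of_isImm (j : 𝒳 ⥤ᵇ 𝒴) (hj : AlgSt.IsImm j) (V : Over S)
    (y : FibCat.overCat V ⥤ᵇ 𝒴) [IsLocallyNoetherian V.left] :
    ∃ (V' : Over S) (c : FibCat.overCat V' ⥤ᵇ FibCat.fp y j), FibCat.IsEquivOver c ∧
      IsLocallyNoetherian V'.left ∧
      AlgSt.RepByAlgSpWith AlgSp.IsQuasiCompactMor (FibCat.fpFst y j) := by
  obtain ⟨F, e, he, hg⟩ := hj V y
  obtain ⟨V', i, snd, hi, hcomm, hP⟩ := exists_scheme_of_repWith _ _ hg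
  haveI := hi
  haveI : IsImmersion snd.left := hP
  refine ⟨V', BasedFunctor.comp (AlgSt.ofOverCat V') (BasedFunctor.comp (AlgSt.ofSpMap i) e),
    isEquivOver_comp _ _ (isEquivOver_ofOverCat V')
      (isEquivOver_comp _ _ (isEquivOver_ofSpMap_of_isIso i) he),
    LocallyOfFiniteType.isLocallyNoetherian snd.left, ?_⟩
  exact (repByAlgSpWith_iff_chart AlgSp.IsQuasiCompactMor good_quasiCompact.bc
    good_quasiCompact.loc (FibCat.fpFst y j) e he).2
    (isQuasiCompactMor_of_repWith_isImmersion _ hg)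

theorem isQuasiCompactMor_and_isQuasiSeparatedMor_of_isIso {A B : AlgSp.Sp S} (d : A ⟶ B)
    [IsIso d] : (AlgSp.IsQuasiCompactMor ⊓ AlgSp.IsQuasiSeparatedMor) d := by
  refine ⟨isQuasiCompactMor_of_repWith_quasiCompact _
    (MorphismProperty.of_isIso (AlgSp.RepWith @QuasiCompact) d), ?_⟩
  show AlgSp.RepWith @QuasiCompact (pullback.diagonal d)
  exact MorphismProperty.of_isIso (AlgSp.RepWith @QuasiCompact) (pullback.diagonal d)

theorem isQuasiSeparatedMor_of_isImm (h𝒳 : AlgSt.IsAlgStack Scheme.fppfPrecoverage 𝒳)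
    (h𝒴 : AlgSt.IsAlgStack Scheme.fppfPrecoverage 𝒴) (j : 𝒳 ⥤ᵇ 𝒴) (hj : AlgSt.IsImm j) :
    AlgSt.IsQuasiSeparatedMor j := by
  refine Groth.Agent.Lib.Helper28.AlgSt.DiagTFAE.diag_of_rep h𝒳.isStack.1 h𝒴.isStack.1
    (good_quasiCompact.inf good_quasiSeparated).bc j ?_ hj
  intro A B m hm
  haveI : Mono m.hom := mono_of_repWith (P := @IsImmersion)
    (fun _ _ g hg => by
      have : IsImmersion g := hg
      exact MorphismProperty.monomorphisms.infer_property g) m.hom hm
  exact isQuasiCompactMor_and_isQuasiSeparatedMor_of_isIso _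

end H10PT
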