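import Mathlib

/-!
# Valuation rings witnessing points in the closure of the image of a morphism

* `exists_specializes_of_mem_closure_range`: for a morphism of affine schemes, a point in the
  closure of the image is a specialization of a point of the image.
* `exists_valuationRing_of_specializes`: a specialization `f x' ⤳ y` is witnessed by a valuation
  ring of the residue field of `x'`.
* `exists_valuationRing_of_mem_closure_range`: both together, with `FractionRing A`.
-/

set_option autoImplicit false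

universe u

open CategoryTheory AlgebraicGeometry IsLocalRing

namespace H10PT

theorem exists_specializes_of_mem_closure_range_spec {B C : CommRingCat.{u}} (φ : C ⟶ B)
    (y : Spec C) (hy : y ∈ closure (Set.range (Spec.map φ))) :
    ∃ x : Spec B, Spec.map φ x ⤳ y := by
  have h0 : (y : PrimeSpectrum C) ∈ closure (Set.range (PrimeSpectrum.comap φ.hom)) := hy
  rw [PrimeSpectrum.closure_range_comap] at h0
  have h1 : (RingHom.ker φ.hom : Set C) ⊆ (y : PrimeSpectrum C).asIdeal :=
    (PrimeSpectrum.mem_zeroLocus (y : PrimeSpectrum C) _).1 h0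
  have hdisj : Disjoint ((⊥ : Ideal B) : Set B) (y.asIdeal.primeCompl.map φ.hom : Submonoid B) := by
    rw [Set.disjoint_left]
    rintro b hb ⟨s, hs, rfl⟩
    have hb0 : φ.hom s = 0 := hb
    exact hs (h1 ((RingHom.mem_ker).2 hb0))
  obtain ⟨q, hq, -, hq2⟩ := Ideal.exists_le_prime_disjoint ⊥ _ hdisj
  refine ⟨⟨q, hq⟩, ?_⟩
  show PrimeSpectrum.comap φ.hom ⟨q, hq⟩ ⤳ y
  rw [← PrimeSpectrum.le_iff_specializes]
  intro c hc
  by_contra hcy
  exact (Set.disjoint_left.1 hq2) hc ⟨c, hcy, rfl⟩

theorem exists_specializes_of_mem_closure_range {X Y : Scheme.{u}} [IsAffine X] [IsAffine Y]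
    (g : X ⟶ Y) (y : Y) (hy : y ∈ closure (Set.range g)) : ∃ x : X, g x ⤳ y := by
  have hsq : X.isoSpec.hom ≫ Spec.map g.appTop = g ≫ Y.isoSpec.hom :=
    Scheme.isoSpec_hom_naturality g
  have e1 : ∀ w, Y.isoSpec.hom (g (X.isoSpec.inv w)) = Spec.map g.appTop w := by
    intro w
    have e0 : X.isoSpec.hom (X.isoSpec.inv w) = w := by
      rw [← Scheme.Hom.comp_apply, Iso.inv_hom_id]
      rfl
    rw [← Scheme.Hom.comp_apply, ← hsq, Scheme.Hom.comp_apply, e0]
  have hy' : Y.isoSpec.hom y ∈ closure (Set.range (Spec.map g.appTop)) := by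
    have hr : Set.range (Spec.map g.appTop) = Y.isoSpec.hom '' Set.range g := by
      ext z
      constructor
      · rintro ⟨w, rfl⟩
        exact ⟨g (X.isoSpec.inv w), ⟨_, rfl⟩, e1 w⟩
      · rintro ⟨_, ⟨x, rfl⟩, rfl⟩
        exact ⟨X.isoSpec.hom x, by rw [← Scheme.Hom.comp_apply, hsq, Scheme.Hom.comp_apply]⟩
    rw [hr]
    exact image_closure_subset_closure_image Y.isoSpec.hom.continuous ⟨y, hy, rfl⟩
  obtain ⟨w, hw⟩ := exists_specializes_of_mem_closure_range_spec _ _ hy'
  refine ⟨X.isoSpec.inv w, ?_⟩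
  have hind : Topology.IsInducing Y.isoSpec.hom := Y.isoSpec.hom.isOpenEmbedding.isInducing
  rw [← hind.specializes_iff, e1]
  exact hw

set_option backward.isDefEq.respectTransparency.types false in
theorem exists_valuationRing_of_specializes {X Y : Scheme.{u}} (f : X ⟶ Y) (x' : X) (y : Y)
    (h : f x' ⤳ y) :
    ∃ (A : ValuationSubring (X.residueField x')) (a : Spec (.of A) ⟶ Y),
      a (closedPoint A) = y ∧
      X.fromSpecResidueField x' ≫ f =
        Spec.map (CommRingCat.ofHom (algebraMap A (X.residueField x'))) ≫ a := by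
  let s : Y.presheaf.stalk y ⟶ X.residueField x' :=
    Y.presheaf.stalkSpecializes h ≫ f.stalkMap x' ≫ X.residue x'
  obtain ⟨A, hA, hA_local⟩ := exists_factor_valuationRing s.hom
  let sA : Y.presheaf.stalk y ⟶ .of A := CommRingCat.ofHom (s.hom.codRestrict _ hA)
  refine ⟨A, Spec.map sA ≫ Y.fromSpecStalk y, ?_, ?_⟩
  · rw [Scheme.Hom.comp_apply]
    have : Spec.map sA (closedPoint A) = closedPoint (Y.presheaf.stalk y) :=
      comap_closedPoint (S := A) (s.hom.codRestrict A.toSubring hA)
    rw [this, Y.fromSpecStalk_closedPoint]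
  · rw [Scheme.fromSpecResidueField, Category.assoc, ← Scheme.SpecMap_stalkMap_fromSpecStalk,
      ← Scheme.SpecMap_stalkSpecializes_fromSpecStalk h]
    simp_rw [← Spec.map_comp_assoc]
    rfl

theorem exists_valuationRing_of_mem_closure_range {X Y : Scheme.{u}} [IsAffine X] [IsAffine Y]
    (g : X ⟶ Y) (y : Y) (hy : y ∈ closure (Set.range g)) :
    ∃ (A : Type u) (_ : CommRing A) (_ : IsDomain A) (_ : ValuationRing A)
      (a : Spec (CommRingCat.of A) ⟶ Y) (ξ : Spec (CommRingCat.of (FractionRing A)) ⟶ X),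
      a (closedPoint A) = y ∧
      ξ ≫ g = Spec.map (CommRingCat.ofHom (algebraMap A (FractionRing A))) ≫ a := by
  obtain ⟨x, hx⟩ := exists_specializes_of_mem_closure_range g y hy
  obtain ⟨A, a, ha, hsq⟩ := exists_valuationRing_of_specializes g x y hx
  refine ⟨A, inferInstance, inferInstance, inferInstance, a,
    Spec.map (CommRingCat.ofHom
      ((FractionRing.algEquiv A (X.residueField x)).symm : X.residueField x →+* FractionRing A)) ≫
      X.fromSpecResidueField x, ha, ?_⟩
  rw [Category.assoc, hsq, ← Category.assoc, ← Spec.map_comp]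
  congr 2
  ext r
  exact (FractionRing.algEquiv A (X.residueField x)).symm.commutes r

end H10PT
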