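import Mathlib
import Groth.Agent.Lib.Helper10.AlgStLocQChart
import Groth.Agent.Lib.Helper10.ValClosure
import Groth.Agent.Lib.Helper10.AlgStQCDesc
import Groth.Agent.Lib.Helper16.QuasiCompact

/-!
# Valuation rings witnessing points in the closure of the image of a quasi-compact morphism of
algebraic stacks
-/

set_option autoImplicit false
set_option backward.isDefEq.respectTransparency false
set_option backward.isDefEq.respectTransparency.types false

universe u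

open CategoryTheory CategoryTheory.Limits AlgebraicGeometry Opposite

namespace H10PT

open Groth.Agent.Lib.Helper10.Fib Groth.Agent.Lib.Helper10.AlgStRep
open Groth.Agent.Lib.Helper28.AlgSt.Bridge Groth.Agent.Lib.Helper28.AlgSt.SpaceCalc
open Groth.Agent.Lib.Helper28.AlgSt.PropInst Groth.Agent.Lib.Helper28.AlgSt.Comp
open Groth.Agent.Lib.Helper28.AlgSt.Whisker Groth.Agent.Lib.Helper28.AlgSt.Key
open Groth.Agent.Lib.Helper28.AlgSt.Descent Groth.Agent.Lib.Helper28.AlgSt.DiagComp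
open Groth.Agent.Lib.Helper28.AlgSt.ChartOver
open Groth.Agent.Lib.Helper16 Groth.Agent.Lib.Helper16.AlgStDC

variable {S : Scheme.{u}} {𝒳 𝒴 : AlgSt.Cat S}

theorem homOfOver_overMap {U V : Over S} (k : U ⟶ V) : homOfOver (AlgSt.overMap k) = k := by
  unfold homOfOver
  show eqToHom _ ≫ (𝟙 U ≫ k) = k
  rw [eqToHom_refl, Category.id_comp, Category.id_comp]

theorem repSmooth_overMap_overOpenι (V : Over S) (V₀ : V.left.Opens) :
    AlgSt.RepByAlgSpWith (AlgSp.LocP @Smooth) (AlgSt.overMap (overOpenι V V₀)) := by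
  apply repByAlgSpWith_overMap _ good_smooth.bc
  apply locP_smooth_of_openImm (spOf (overOpen V V₀)) V
  rw [AlgSp.repWith_yon_map_iff]
  show IsOpenImmersion V₀.ι
  infer_instance

theorem exists_valuationRing_witness (h𝒳 : AlgSt.IsAlgStack Scheme.fppfPrecoverage 𝒳)
    (h𝒴 : AlgSt.IsAlgStack Scheme.fppfPrecoverage 𝒴) (f : 𝒳 ⥤ᵇ 𝒴)
    (hf : AlgSt.IsQuasiCompactMor Scheme.fppfPrecoverage f) (y : AlgSt.Points 𝒴)
    (hy : y ∈ closure (Set.range (AlgSt.Points.map f))) :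
    ∃ (A : Type u) (_ : CommRing A) (_ : IsDomain A) (_ : ValuationRing A)
      (sA : Spec (CommRingCat.of A) ⟶ S) (a : FibCat.overCat (Over.mk sA) ⥤ᵇ 𝒴)
      (x : FibCat.overCat (Over.mk (Spec.map (CommRingCat.ofHom
        (algebraMap A (FractionRing A))) ≫ sA)) ⥤ᵇ 𝒳),
      Nonempty (BasedFunctor.comp x f ≅
        BasedFunctor.comp (AlgSt.overMap (Over.homMk (Spec.map (CommRingCat.ofHom
          (algebraMap A (FractionRing A)))) rfl :
          Over.mk (Spec.map (CommRingCat.ofHom (algebraMap A (FractionRing A))) ≫ sA) ⟶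
            Over.mk sA)) a) ∧
      AlgSt.Points.ofChart a (IsLocalRing.closedPoint A) = y := by
  obtain ⟨V, v, hv1, hv2⟩ := h𝒴.atlas
  obtain ⟨v₀, rfl⟩ := surjective_ofChart h𝒴.isStack.1 v hv2 y
  obtain ⟨V₀, hV₀, hv₀, -⟩ := exists_isAffineOpen_mem_and_subset (x := v₀) (U := ⊤) trivial
  haveI : IsAffine (overOpen V V₀).left := hV₀
  obtain ⟨v', hv'⟩ : ∃ v' : FibCat.overCat (overOpen V V₀) ⥤ᵇ 𝒴,
      v' = BasedFunctor.comp (AlgSt.overMap (overOpenι V V₀)) v := ⟨_, rfl⟩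
  have hv's : AlgSt.RepByAlgSpWith (AlgSp.LocP @Smooth) v' := by
    rw [hv']
    exact repByAlgSpWith_comp_smooth (isFibGrpd_overForget _) (isFibGrpd_overForget V) _ v
      (repSmooth_overMap_overOpenι V V₀) hv1
  have hpt : AlgSt.Points.ofChart v' ⟨v₀, hv₀⟩ = AlgSt.Points.ofChart v v₀ := by
    rw [hv', ofChart_comp, homOfOver_overMap]
    rfl
  have aV₀ := isAlgStack_overCat (overOpen V V₀)
  have afp : AlgSt.IsAlgStack Scheme.fppfPrecoverage (FibCat.fp v' f) :=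
    Groth.Agent.S12763.result h𝒴.isStack h𝒴.diag aV₀ h𝒳 v' f
  obtain ⟨W, w, hW, hw1, hw2⟩ := hf _ aV₀ (isQuasiCompact_overCat (overOpen V V₀)) v'
  haveI := hW
  obtain ⟨G, hG⟩ : ∃ G : FibCat.overCat W ⥤ᵇ FibCat.overCat (overOpen V V₀),
      G = BasedFunctor.comp w (FibCat.fpFst v' f) := ⟨_, rfl⟩
  have hcl : (⟨v₀, hv₀⟩ : ↥(overOpen V V₀).left) ∈ closure (Set.range (homOfOver G).left) := by
    rw [mem_closure_iff]
    intro O hO hvO
    have hopen : IsOpen (AlgSt.Points.ofChart v' '' O) :=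
      isOpenMap_ofChart h𝒴 v' (repFlat_of_smooth v' hv's) (repLfp_of_smooth v' hv's) O hO
    have hmem : AlgSt.Points.ofChart v v₀ ∈ AlgSt.Points.ofChart v' '' O := ⟨_, hvO, hpt⟩
    obtain ⟨_, ⟨o, ho, rfl⟩, ⟨p, hp⟩⟩ := mem_closure_iff.1 hy _ hopen hmem
    obtain ⟨ξ, hξ1, hξ2⟩ := exists_fp_point h𝒳.isStack.1 h𝒴.isStack.1 (isFibGrpd_overForget _)
      f v' (AlgSt.Points.mk (resFPt _ o)) p (by rw [← ofChart_eq]; exact hp.symm)
    obtain ⟨ω', hω'⟩ := isSurjective_of_rep afp.isStack.1 w hw2 ξ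
    obtain ⟨qω, rfl⟩ := AlgSt.Points.mk_surjective ω'
    refine ⟨o, ho, ptOf qω, ?_⟩
    have h1 : AlgSt.Points.mk (qω.map G) = AlgSt.Points.mk (resFPt _ o) := by
      rw [← hξ1, ← hω', hG]
      rfl
    rw [← ptOf_map, ptOf_eq_of_mk_eq h1, ptOf_resFPt]
  obtain ⟨A, i1, i2, i3, a₀, ξ, ha₀, hsq⟩ :=
    exists_valuationRing_of_mem_closure_range (homOfOver G).left ⟨v₀, hv₀⟩ hcl
  obtain ⟨sA, hsA⟩ : ∃ sA : Spec (CommRingCat.of A) ⟶ S, sA = a₀ ≫ (overOpen V V₀).hom :=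
    ⟨_, rfl⟩
  obtain ⟨a₀', ha₀'⟩ : ∃ a₀' : Over.mk sA ⟶ overOpen V V₀, a₀'.left = a₀ :=
    ⟨Over.homMk a₀ hsA.symm, rfl⟩
  have hξw : ξ ≫ W.hom =
      Spec.map (CommRingCat.ofHom (algebraMap A (FractionRing A))) ≫ sA := by
    have h0 : (homOfOver G).left ≫ (overOpen V V₀).hom = W.hom := Over.w (homOfOver G)
    rw [← h0, ← Category.assoc, hsq, Category.assoc, hsA]
  obtain ⟨ξ', hξ'⟩ : ∃ ξ' : Over.mk (Spec.map (CommRingCat.ofHom
      (algebraMap A (FractionRing A))) ≫ sA) ⟶ W, ξ'.left = ξ := ⟨Over.homMk ξ hξw, rfl⟩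
  have hcomm : ξ' ≫ homOfOver G = (Over.homMk (Spec.map (CommRingCat.ofHom
      (algebraMap A (FractionRing A)))) rfl :
      Over.mk (Spec.map (CommRingCat.ofHom (algebraMap A (FractionRing A))) ≫ sA) ⟶
        Over.mk sA) ≫ a₀' := by
    apply Over.OverMorphism.ext
    show ξ'.left ≫ (homOfOver G).left = Spec.map _ ≫ a₀'.left
    rw [hξ', ha₀', hsq]
  refine ⟨A, i1, i2, i3, sA, BasedFunctor.comp (AlgSt.overMap a₀') v',
    BasedFunctor.comp (AlgSt.overMap ξ') (BasedFunctor.comp w (FibCat.fpSnd v' f)), ⟨?_⟩, ?_⟩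
  · have e1 : BasedFunctor.comp (BasedFunctor.comp w (FibCat.fpSnd v' f)) f ≅
        BasedFunctor.comp G v' := by
      rw [hG]
      exact wl w (FibCat.fpIso v' f).symm
    have e2 : BasedFunctor.comp G v' ≅ BasedFunctor.comp (AlgSt.overMap (homOfOver G)) v' :=
      wr (isoOverMap G) v'
    exact wl (AlgSt.overMap ξ') (e1 ≪≫ e2) ≪≫ wr (overMapCompIso ξ' (homOfOver G)) v' ≪≫
      eqToIso (by rw [hcomm]) ≪≫ (wr (overMapCompIso _ a₀') v').symm
  · rw [ofChart_comp, homOfOver_overMap, ha₀']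
    exact (congrArg (AlgSt.Points.ofChart v') ha₀).trans hpt

end H10PT
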