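import Mathlib
import Groth.Agent.Lib.Helper10.AlgStValClosure
import Groth.Agent.Lib.Helper28.AlgSt.Good2
import Groth.Agent.Lib.Helper10.Fib4
import Groth.Agent.Lib.Helper10.FibBC

/-!
# Charts of the fibre product with a full subcategory (helper10)

* `liftSub`: a functor over the base landing in a property lifts to the full subcategory.
* `subChart`, `isEquivOver_subChart`: if `ι : V ⟶ U` is a monomorphism of schemes over `S` such that
  an object `a` of `(Sch/U)` factors through `ι` exactly when `y a` satisfies `Q`, then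
  `(Sch/V) ≃ (Sch/U) ×_𝒳 𝒳_Q`.
* `repByAlgSpWith_subIncl_of_charts`: the inclusion of the full subcategory is representable with a
  good property `P` as soon as all these `ι` have `P`.
* `repByAlgSpWith_of_comp_ff`: cancellation of a fully faithful functor on the right.
-/

set_option autoImplicit false
set_option backward.isDefEq.respectTransparency false
set_option backward.isDefEq.respectTransparency.types false

universe u

open CategoryTheory CategoryTheory.Limits AlgebraicGeometry Opposite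

namespace H10PT

open Groth.Agent.Lib.Helper10.Fib Groth.Agent.Lib.Helper10.AlgStRep
open Groth.Agent.Lib.Helper28.AlgSt.Bridge Groth.Agent.Lib.Helper28.AlgSt.SpaceCalc
open Groth.Agent.Lib.Helper28.AlgSt.PropInst Groth.Agent.Lib.Helper28.AlgSt.Comp
open Groth.Agent.Lib.Helper28.AlgSt.Whisker Groth.Agent.Lib.Helper28.AlgSt.Key
open Groth.Agent.Lib.Helper28.AlgSt.Descent Groth.Agent.Lib.Helper28.AlgSt.DiagComp
open Groth.Agent.Lib.Helper28.AlgSt.ChartOver
open Groth.Agent.Lib.Helper16 Groth.Agent.Lib.Helper16.AlgStDC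

variable {S : Scheme.{u}} {𝒳 : AlgSt.Cat S}

section SubChart

variable (Q : 𝒳.obj → Prop)

/-- A functor over the base landing in `Q` lifts to the full subcategory. -/
def liftSub {𝒲 : AlgSt.Cat S} (g : 𝒲 ⥤ᵇ 𝒳) (h : ∀ w : 𝒲.obj, Q (g.obj w)) :
    𝒲 ⥤ᵇ AlgSt.fullSub 𝒳 Q where
  toFunctor := ObjectProperty.lift Q g.toFunctor h
  w := g.w

instance subIncl_full : (AlgSt.subIncl 𝒳 Q).toFunctor.Full :=
  inferInstanceAs (ObjectProperty.ι Q).Full

instance subIncl_faithful : (AlgSt.subIncl 𝒳 Q).toFunctor.Faithful :=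
  inferInstanceAs (ObjectProperty.ι Q).Faithful

/-- The comparison functor `(Sch/V) ⟶ (Sch/U) ×_𝒳 𝒳_Q`. -/
def subChart {U V : Over S} (ι : V ⟶ U) (y : FibCat.overCat U ⥤ᵇ 𝒳)
    (h : ∀ b : Over V, Q (y.obj ((Over.map ι).obj b))) :
    FibCat.overCat V ⥤ᵇ FibCat.fp y (AlgSt.subIncl 𝒳 Q) :=
  FibCat.fpLift (AlgSt.overMap ι) (liftSub Q (BasedFunctor.comp (AlgSt.overMap ι) y) h)
    (Iso.refl _)

theorem isEquivOver_subChart (hQ : ObjectProperty.IsClosedUnderIsomorphisms Q) {U V : Over S}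
    (ι : V ⟶ U) [Mono ι] (y : FibCat.overCat U ⥤ᵇ 𝒳)
    (hiff : ∀ a : Over U, Q (y.obj a) ↔ ∃ b : a.left ⟶ V, b ≫ ι = a.hom) :
    FibCat.IsEquivOver (subChart Q ι y (fun b => (hiff _).2 ⟨b.hom, rfl⟩)) := by
  haveI : (subChart Q ι y (fun b => (hiff _).2 ⟨b.hom, rfl⟩)).toFunctor.Faithful :=
    ⟨fun {b b'} f g hfg => by
      have h1 : (Over.map ι).map f = (Over.map ι).map g := congrArg (fun m => m.hom.fst) hfg
      have h2 : f.left = g.left := congrArg (fun m => m.left) h1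
      exact Over.OverMorphism.ext h2⟩
  haveI : (subChart Q ι y (fun b => (hiff _).2 ⟨b.hom, rfl⟩)).toFunctor.Full :=
    ⟨fun {b b'} m => by
      have hw := Over.w m.hom.fst
      have hw' : m.hom.fst.left ≫ b'.hom = b.hom := by
        rw [← cancel_mono ι, Category.assoc]
        exact hw
      refine ⟨Over.homMk m.hom.fst.left hw', ?_⟩
      have hfst : (Over.map ι).map (Over.homMk m.hom.fst.left hw') = m.hom.fst :=
        Over.OverMorphism.ext rfl
      apply ObjectProperty.hom_ext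
      apply CategoricalPullback.hom_ext
      · exact hfst
      · apply ObjectProperty.hom_ext
        have hmw : y.map m.hom.fst ≫ 𝟙 _ = 𝟙 _ ≫ m.hom.snd.hom := m.hom.w
        rw [Category.comp_id, Category.id_comp] at hmw
        show y.map ((Over.map ι).map (Over.homMk m.hom.fst.left hw')) = m.hom.snd.hom
        rw [hfst]
        exact hmw⟩
  refine isEquivOver_of_ff _ ?_
  intro z
  have hQz : Q (y.obj z.obj.fst) := hQ.of_iso z.obj.iso.symm z.obj.snd.property
  obtain ⟨b, hb⟩ := (hiff z.obj.fst).1 hQz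
  obtain ⟨i₁, hi₁⟩ : ∃ i₁ : (Over.map ι).obj (Over.mk b) ≅ z.obj.fst, i₁.hom.left = 𝟙 _ :=
    ⟨Over.isoMk (Iso.refl _) (by simpa using hb.symm), rfl⟩
  obtain ⟨i₂, hi₂⟩ : ∃ i₂ : (liftSub Q (BasedFunctor.comp (AlgSt.overMap ι) y)
      (fun b => (hiff _).2 ⟨b.hom, rfl⟩)).obj (Over.mk b) ≅ z.obj.snd,
      i₂.hom.hom = y.map i₁.hom ≫ z.obj.iso.hom :=
    ⟨ObjectProperty.isoMk _ (y.toFunctor.mapIso i₁ ≪≫ z.obj.iso), rfl⟩
  refine ⟨Over.mk b, ObjectProperty.isoMk _ (CategoricalPullback.mkIso i₁ i₂ ?_), ?_⟩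
  · exact ((Category.id_comp _).trans hi₂).symm
  · apply IsHomLift.of_fac' _ _ _ rfl rfl
    simp only [Category.id_comp]
    exact hi₁

theorem repByAlgSpWith_subIncl_of_charts (P : MorphismProperty (AlgSp.Sp S)) (hP : Good P)
    (hQ : ObjectProperty.IsClosedUnderIsomorphisms Q)
    (hch : ∀ (U : Over S) (y : FibCat.overCat U ⥤ᵇ 𝒳), ∃ (V : Over S) (ι : V ⟶ U), Mono ι ∧
      P ((AlgSp.yon S).map ι) ∧ ∀ a : Over U, Q (y.obj a) ↔ ∃ b : a.left ⟶ V, b ≫ ι = a.hom) :
    AlgSt.RepByAlgSpWith P (AlgSt.subIncl 𝒳 Q) := by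
  intro U y
  obtain ⟨V, ι, hmono, hPι, hiff⟩ := hch U y
  haveI := hmono
  have hE := isEquivOver_subChart Q hQ ι y hiff
  refine repWith_of_equiv P _ hE (AlgSt.overMap ι) (FibCat.fpFst y (AlgSt.subIncl 𝒳 Q))
    (fun b => ⟨Iso.refl _, IsHomLift.id rfl⟩) ?_
  exact ⟨spOf V, AlgSt.toOverCat V, isEquivOver_toOverCat V,
    (repByAlgSpWith_iff_chart P hP.bc hP.loc (A := spOf V) (AlgSt.overMap ι) (AlgSt.toOverCat V)
      (isEquivOver_toOverCat V)).1 (repByAlgSpWith_overMap P hP.bc ι hPι)⟩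

end SubChart

/-- Cancellation of a fully faithful functor on the right. -/
theorem repByAlgSpWith_of_comp_ff {𝒲 𝒰 : AlgSt.Cat S} (P : MorphismProperty (AlgSp.Sp S))
    (g : 𝒲 ⥤ᵇ 𝒰) (i : 𝒰 ⥤ᵇ 𝒳) [i.toFunctor.Full] [i.toFunctor.Faithful]
    (h : AlgSt.RepByAlgSpWith P (BasedFunctor.comp g i)) : AlgSt.RepByAlgSpWith P g := by
  intro U y
  let e₁ : BasedFunctor.comp y i ≅
      BasedFunctor.comp (BasedFunctor.id (FibCat.overCat U)) (BasedFunctor.comp y i) := Iso.refl _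
  let e₂ : BasedFunctor.comp g i ≅
      BasedFunctor.comp (BasedFunctor.id 𝒲) (BasedFunctor.comp g i) := Iso.refl _
  have h2 := isEquivOver_fpMap e₁ e₂ (isEquivOver_id _) (isEquivOver_id _)
  exact repWith_of_equiv' P (fpMap e₁ e₂) h2 (FibCat.fpFst y g)
    (FibCat.fpFst (BasedFunctor.comp y i) (BasedFunctor.comp g i))
    (fun Q => ⟨Iso.refl _, IsHomLift.id rfl⟩) (h U (BasedFunctor.comp y i))

end H10PT
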