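import Mathlib
import Groth.Prelude.Def_AlgSt
import Groth.Agent.Lib.Helper10.Fib5
import Groth.Agent.Lib.Helper10.StkPost

/-!
# Lifting through fully faithful functors over the base, local essential surjectivity

* `exists_lift_of_ff`: a functor over the base whose values are (through isomorphisms over
  identities) in the image of a fully faithful functor over the base lifts through it.
* `exists_iso_of_locally`: for stacks in groupoids and a fully faithful functor over the base, an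
  object which is locally in the essential image is in the essential image.
-/

set_option autoImplicit false
set_option backward.isDefEq.respectTransparency false
set_option backward.isDefEq.respectTransparency.types false

universe v₂ u₂ v₃ u₃ v₄ u₄ v u

open CategoryTheory CategoryTheory.Limits

namespace Groth.Agent.Lib.Helper10.StkLoc

open Groth.Agent.Lib.Helper10.Fib Groth.Agent.Lib.Helper10.StkPost FibCat

variable {C : Type u} [Category.{v} C]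
variable {𝒜 : BasedCategory.{v₂, u₂} C} {𝒳 : BasedCategory.{v₃, u₃} C}
  {𝒴 : BasedCategory.{v₄, u₄} C}

/-- The lift of `G` through the fully faithful `F` built from chosen preimages of objects. -/
noncomputable def liftFunctor (F : 𝒳 ⥤ᵇ 𝒴) [F.toFunctor.Full] [F.toFunctor.Faithful]
    (G : 𝒜 ⥤ᵇ 𝒴) (X : 𝒜.obj → 𝒳.obj) (E : ∀ a, F.obj (X a) ≅ G.obj a) : 𝒜.obj ⥤ 𝒳.obj where
  obj := X
  map {a a'} h := F.toFunctor.preimage ((E a).hom ≫ G.map h ≫ (E a').inv)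
  map_id a := by
    apply F.toFunctor.map_injective
    simp
  map_comp h h' := by
    apply F.toFunctor.map_injective
    simp

lemma map_liftFunctor_map (F : 𝒳 ⥤ᵇ 𝒴) [F.toFunctor.Full] [F.toFunctor.Faithful]
    (G : 𝒜 ⥤ᵇ 𝒴) (X : 𝒜.obj → 𝒳.obj) (E : ∀ a, F.obj (X a) ≅ G.obj a) {a a' : 𝒜.obj}
    (h : a ⟶ a') :
    F.map ((liftFunctor F G X E).map h) = (E a).hom ≫ G.map h ≫ (E a').inv :=
  F.toFunctor.map_preimage _

theorem exists_lift_of_ff (F : 𝒳 ⥤ᵇ 𝒴) [F.toFunctor.Full] [F.toFunctor.Faithful]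
    (G : 𝒜 ⥤ᵇ 𝒴)
    (hE : ∀ a : 𝒜.obj, ∃ (x : 𝒳.obj) (e : F.obj x ≅ G.obj a),
      𝒴.p.IsHomLift (𝟙 (𝒜.p.obj a)) e.hom) :
    ∃ H : 𝒜 ⥤ᵇ 𝒳, Nonempty (BasedFunctor.comp H F ≅ G) := by
  choose X E hE' using hE
  have hE'' : ∀ a, 𝒴.p.IsHomLift (𝟙 (𝒜.p.obj a)) (E a).inv := fun a => by
    have := hE' a
    infer_instance
  have hobj : ∀ a, 𝒳.p.obj (X a) = 𝒜.p.obj a := fun a => by
    have := hE' a
    exact (F.w_obj (X a)).symm.trans (IsHomLift.domain_eq 𝒴.p (𝟙 (𝒜.p.obj a)) (E a).hom)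
  have hlift : ∀ {a a' : 𝒜.obj} (h : a ⟶ a'),
      𝒳.p.IsHomLift (𝒜.p.map h) ((liftFunctor F G X E).map h) := by
    intro a a' h
    have := hE' a
    have := hE'' a'
    have lG : 𝒴.p.IsHomLift (𝒜.p.map h) (G.map h) :=
      BasedFunctor.preserves_isHomLift G (𝒜.p.map h) h
    have l0 : 𝒴.p.IsHomLift (𝒜.p.map h) ((E a).hom ≫ G.map h ≫ (E a').inv) := inferInstance
    have l : 𝒴.p.IsHomLift (𝒜.p.map h) (F.map ((liftFunctor F G X E).map h)) := by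
      rw [map_liftFunctor_map]
      exact l0
    exact BasedFunctor.isHomLift_map F _ _
  let H : 𝒜 ⥤ᵇ 𝒳 :=
    { toFunctor := liftFunctor F G X E
      w := CategoryTheory.Functor.ext hobj (fun a a' h => by
        have := hlift h
        exact IsHomLift.fac' 𝒳.p (𝒜.p.map h) ((liftFunctor F G X E).map h)) }
  let ε : BasedFunctor.comp H F ≅ G := BasedNatIso.mkNatIso
    (NatIso.ofComponents (fun a => E a) (fun {a a'} h => by
      change F.map ((liftFunctor F G X E).map h) ≫ (E a').hom = (E a).hom ≫ G.map h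
      have e := map_liftFunctor_map F G X E h
      have c : ((E a).hom ≫ G.map h ≫ (E a').inv) ≫ (E a').hom = (E a).hom ≫ G.map h := by simp
      exact (congrArg (fun t => t ≫ (E a').hom) e).trans c))
    (fun a => hE' a)
  exact ⟨H, ⟨ε⟩⟩

theorem exists_iso_of_locally (J : GrothendieckTopology C) (h𝒳 : Stk.IsStack J 𝒳)
    (h𝒴 : Stk.IsStack J 𝒴) (F : 𝒳 ⥤ᵇ 𝒴) [F.toFunctor.Full] [F.toFunctor.Faithful]
    (y : 𝒴.obj) (R : Sieve (𝒴.p.obj y)) (hR : R ∈ J (𝒴.p.obj y))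
    (hloc : ∀ ⦃V : C⦄ (f : V ⟶ 𝒴.p.obj y), R f →
      ∃ (x : 𝒳.obj) (φ : F.obj x ⟶ y), 𝒴.p.IsHomLift f φ) :
    ∃ (x : 𝒳.obj) (e : F.obj x ≅ y), 𝒴.p.IsHomLift (𝟙 (𝒴.p.obj y)) e.hom := by
  obtain ⟨G, -, ⟨i⟩⟩ := yoneda_essSurj (𝒴.p.obj y)
    (Functor.Fiber.mk (rfl : 𝒴.p.obj y = 𝒴.p.obj y))
    (fun V f => IsFibGrpd.exists_lift' h𝒴.1 rfl f)
  have hi : 𝒴.p.IsHomLift (𝟙 (𝒴.p.obj y)) i.hom.1 := i.hom.2
  -- the restriction of `G` to the sieve has values in the image of `F`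
  have hE : ∀ a : (Stk.sieveCat R).obj, ∃ (x : 𝒳.obj)
      (e : F.obj x ≅ (BasedFunctor.comp (Stk.sieveIncl R) G).obj a),
      𝒴.p.IsHomLift (𝟙 ((Stk.sieveCat R).p.obj a)) e.hom := by
    intro a
    obtain ⟨x, φ, hφ⟩ := hloc a.obj.hom a.property
    have := hφ
    have hT := isHomLift_toTerminal (𝒴.p.obj y) G a.obj
    have hψ : 𝒴.p.IsHomLift a.obj.hom (G.map (toTerminal (𝒴.p.obj y) a.obj) ≫ i.hom.1) :=
      IsHomLift.comp_lift_id_right 𝒴.p (homU (𝒴.p.obj y) a.obj)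
        (G.map (toTerminal (𝒴.p.obj y) a.obj)) i.hom.1
    have s1 : 𝒴.p.IsStronglyCartesian a.obj.hom
        (G.map (toTerminal (𝒴.p.obj y) a.obj) ≫ i.hom.1) := IsFibGrpd.sc h𝒴.1 _ _
    have s2 : 𝒴.p.IsStronglyCartesian a.obj.hom φ := IsFibGrpd.sc h𝒴.1 _ _
    exact ⟨x, Functor.IsCartesian.domainUniqueUpToIso 𝒴.p a.obj.hom
      (G.map (toTerminal (𝒴.p.obj y) a.obj) ≫ i.hom.1) φ,
      (inferInstance : 𝒴.p.IsHomLift (𝟙 a.obj.left) _)⟩
  obtain ⟨H, ⟨η⟩⟩ := exists_lift_of_ff F (BasedFunctor.comp (Stk.sieveIncl R) G) hE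
  haveI : (Stk.resSieve R 𝒳).IsEquivalence := h𝒳.2 R hR
  haveI : (Stk.resSieve R 𝒴).IsEquivalence := h𝒴.2 R hR
  let K : FibCat.overCat (𝒴.p.obj y) ⥤ᵇ 𝒳 := (Stk.resSieve R 𝒳).objPreimage H
  let κ : (Stk.resSieve R 𝒳).obj K ≅ H := (Stk.resSieve R 𝒳).objObjPreimageIso H
  have iso0 : (Stk.resSieve R 𝒴).obj (BasedFunctor.comp K F) ≅ BasedFunctor.comp H F :=
    (post (Stk.sieveCat R) F).mapIso κ
  have iso1 : (Stk.resSieve R 𝒴).obj (BasedFunctor.comp K F) ≅ (Stk.resSieve R 𝒴).obj G :=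
    iso0 ≪≫ η
  let θ : BasedFunctor.comp K F ≅ G := (Stk.resSieve R 𝒴).preimageIso iso1
  refine ⟨K.obj (Over.mk (𝟙 (𝒴.p.obj y))),
    (natIsoOfBased θ).app (Over.mk (𝟙 (𝒴.p.obj y))) ≪≫
      (Functor.Fiber.fiberInclusion (p := 𝒴.p) (S := 𝒴.p.obj y)).mapIso i, ?_⟩
  have h1 : 𝒴.p.IsHomLift (𝟙 (𝒴.p.obj y))
      (θ.hom.toNatTrans.app (Over.mk (𝟙 (𝒴.p.obj y)))) :=
    θ.hom.isHomLift' (Over.mk (𝟙 (𝒴.p.obj y)))
  show 𝒴.p.IsHomLift (𝟙 (𝒴.p.obj y))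
    (θ.hom.toNatTrans.app (Over.mk (𝟙 (𝒴.p.obj y))) ≫ i.hom.1)
  infer_instance

end Groth.Agent.Lib.Helper10.StkLoc
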