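import Mathlib
import Groth.Prelude.Def_AlgSt
import Groth.Agent.Lib.Helper10.Fib5
import Groth.Agent.Lib.Helper10.StkPost
import Groth.Agent.Lib.Helper10.StkLoc
import Groth.Agent.Lib.Helper10.FibRep

/-!
# Full subcategories of stacks (helper10)

* `sub Q`, `incl Q`: the full subcategory of a category over the base on a property of objects.
* `isFibGrpd_sub`: it is fibred in groupoids if the property is stable under pullback up to
  isomorphism.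
* `isStack_sub`: it is a stack if moreover the property is local.
-/

set_option autoImplicit false
set_option backward.isDefEq.respectTransparency false
set_option backward.isDefEq.respectTransparency.types false

universe v u

open CategoryTheory CategoryTheory.Limits

namespace Groth.Agent.Lib.Helper10.StkSub

open Groth.Agent.Lib.Helper10.Fib Groth.Agent.Lib.Helper10.StkPost
  Groth.Agent.Lib.Helper10.StkLoc FibCat

variable {C : Type u} [Category.{v} C] {𝒳 : BasedCategory.{v, max u v} C}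
  (Q : ObjectProperty 𝒳.obj)

/-- The full subcategory on `Q` as a category over the base. -/
abbrev sub : BasedCategory.{v, max u v} C := BasedCategory.ofFunctor (Q.ι ⋙ 𝒳.p)

/-- The inclusion of the full subcategory, a functor over the base. -/
def incl : sub Q ⥤ᵇ 𝒳 := ⟨Q.ι, rfl⟩

instance : (incl Q).toFunctor.Full := inferInstanceAs Q.ι.Full

instance : (incl Q).toFunctor.Faithful := inferInstanceAs Q.ι.Faithful

theorem isFibGrpd_sub (h𝒳 : FibCat.IsFibGrpd 𝒳.p)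
    (h1 : ∀ ⦃y x : 𝒳.obj⦄ (φ : y ⟶ x), Q x →
      ∃ (y' : 𝒳.obj) (e : y ≅ y'), Q y' ∧ 𝒳.p.IsHomLift (𝟙 (𝒳.p.obj y)) e.hom) :
    FibCat.IsFibGrpd (sub Q).p where
  exists_lift := by
    intro x V f
    obtain ⟨y, φ, hφ⟩ := h𝒳.exists_lift (x := x.obj) f
    obtain ⟨y', e, hQ, he⟩ := h1 φ x.property
    have hy : 𝒳.p.obj y = V := IsHomLift.domain_eq 𝒳.p f φ
    have he'' : 𝒳.p.IsHomLift (𝟙 (𝒳.p.obj y)) e.inv := lift_inv_of_lift 𝒳.p e he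
    have he' : 𝒳.p.IsHomLift (𝟙 V) e.inv := isHomLift_id_of_eq 𝒳.p hy e.inv
    have h0 : 𝒳.p.IsHomLift (𝟙 V ≫ f) (e.inv ≫ φ) := inferInstance
    rw [Category.id_comp] at h0
    let y'' : (sub Q).obj := ⟨y', hQ⟩
    let m : y'' ⟶ x := ObjectProperty.homMk (e.inv ≫ φ)
    refine ⟨y'', m, ?_⟩
    have h00 : 𝒳.p.IsHomLift f (Q.ι.map m) := h0
    exact isHomLift_comp_map Q.ι 𝒳.p f m
  isStronglyCartesian := by
    intro y x φ
    rw [sc_map_iff]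
    intro c g φ' hφ'
    obtain ⟨χ₀, ⟨hχ1, hχ2⟩, hχ3⟩ :=
      (sc_map_iff 𝒳.p φ.hom).1 (h𝒳.isStronglyCartesian φ.hom) g φ'.hom hφ'
    refine ⟨ObjectProperty.homMk χ₀, ⟨hχ1, ?_⟩, ?_⟩
    · apply ObjectProperty.hom_ext
      exact hχ2
    · rintro χ' ⟨h1', h2'⟩
      apply ObjectProperty.hom_ext
      exact hχ3 χ'.hom ⟨h1', congrArg (fun t => t.hom) h2'⟩

theorem isStackFor_sub (J : GrothendieckTopology C) (h𝒳 : Stk.IsStack J 𝒳)
    (h1 : ∀ ⦃y x : 𝒳.obj⦄ (φ : y ⟶ x), Q x →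
      ∃ (y' : 𝒳.obj) (e : y ≅ y'), Q y' ∧ 𝒳.p.IsHomLift (𝟙 (𝒳.p.obj y)) e.hom)
    (h3 : ∀ ⦃U : C⦄ (R : Sieve U), R ∈ J U → ∀ (x : 𝒳.obj), 𝒳.p.obj x = U →
      (∀ ⦃V : C⦄ (f : V ⟶ U), R f → ∀ (y : 𝒳.obj) (φ : y ⟶ x), 𝒳.p.IsHomLift f φ →
        ∃ (y' : 𝒳.obj) (e : y ≅ y'), Q y' ∧ 𝒳.p.IsHomLift (𝟙 V) e.hom) →
      ∃ (x' : 𝒳.obj) (e : x ≅ x'), Q x' ∧ 𝒳.p.IsHomLift (𝟙 U) e.hom)
    {U : C} (R : Sieve U) (hR : R ∈ J U) : Stk.IsStackFor R (sub Q) := by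
  have hfib := h𝒳.1
  haveI hX : (Stk.restr (Stk.sieveIncl R) 𝒳).IsEquivalence := h𝒳.2 R hR
  haveI := post_full (FibCat.overCat U) (incl Q)
  haveI := post_faithful (FibCat.overCat U) (incl Q)
  haveI := post_full (Stk.sieveCat R) (incl Q)
  haveI := post_faithful (Stk.sieveCat R) (incl Q)
  have e := restrPostIso (Stk.sieveIncl R) (incl Q)
  haveI : (Stk.restr (Stk.sieveIncl R) (sub Q) ⋙ post (Stk.sieveCat R) (incl Q)).Full :=
    Functor.Full.of_iso e.symm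
  haveI : (Stk.restr (Stk.sieveIncl R) (sub Q) ⋙ post (Stk.sieveCat R) (incl Q)).Faithful :=
    Functor.Faithful.of_iso e.symm
  haveI : (Stk.restr (Stk.sieveIncl R) (sub Q)).Faithful :=
    Functor.Faithful.of_comp _ (post (Stk.sieveCat R) (incl Q))
  haveI : (Stk.restr (Stk.sieveIncl R) (sub Q)).Full :=
    Functor.Full.of_comp_faithful _ (post (Stk.sieveCat R) (incl Q))
  haveI : (Stk.restr (Stk.sieveIncl R) (sub Q)).EssSurj := by
    constructor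
    intro D
    obtain ⟨G, ⟨ρ⟩⟩ : ∃ G : FibCat.overCat U ⥤ᵇ 𝒳,
        Nonempty ((Stk.restr (Stk.sieveIncl R) 𝒳).obj G ≅ BasedFunctor.comp D (incl Q)) :=
      ⟨_, ⟨(Stk.restr (Stk.sieveIncl R) 𝒳).objObjPreimageIso (BasedFunctor.comp D (incl Q))⟩⟩
    -- the object over `U`
    have hx : 𝒳.p.obj (G.obj (Over.mk (𝟙 U))) = U := G.w_obj (Over.mk (𝟙 U))
    obtain ⟨x', e₀, hQx', he₀⟩ := h3 R hR (G.obj (Over.mk (𝟙 U))) hx (by
      intro V f hf y φ hφ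
      have hsc : 𝒳.p.IsStronglyCartesian f (G.map (toTerminal U (Over.mk f))) := by
        have h : 𝒳.p.IsHomLift f (G.map (toTerminal U (Over.mk f))) :=
          isHomLift_toTerminal U G (Over.mk f)
        exact IsFibGrpd.sc hfib f (G.map (toTerminal U (Over.mk f)))
      haveI := hφ
      obtain ⟨χ, ⟨hχ1, hχ2⟩, -⟩ := Functor.IsStronglyCartesian.universal_property 𝒳.p f
        (G.map (toTerminal U (Over.mk f))) (𝟙 V) f (Category.id_comp f).symm φ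
      haveI := hχ1
      haveI : IsIso χ := IsFibGrpd.isIso_of_isHomLift_id hfib (U := V) χ
      let A : (Stk.sieveCat R).obj := ⟨Over.mk f, hf⟩
      have hρ : 𝒳.p.IsHomLift (𝟙 V) (ρ.hom.toNatTrans.app A) := ρ.hom.isHomLift' A
      have h0 : 𝒳.p.IsHomLift (𝟙 V ≫ 𝟙 V) (χ ≫ ρ.hom.toNatTrans.app A) := inferInstance
      rw [Category.comp_id] at h0
      exact ⟨(D.obj A).obj, asIso χ ≪≫ (natIsoOfBased ρ).app A, (D.obj A).property, h0⟩)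
    obtain ⟨G', ⟨κ⟩⟩ := exists_lift_of_ff (incl Q) G (by
      intro a
      obtain ⟨y', e, hQ, he⟩ := h1 (G.map (toTerminal U a) ≫ e₀.hom) hQx'
      have hGa : 𝒳.p.obj (G.obj a) = (FibCat.overCat U).p.obj a := G.w_obj a
      have he'' : 𝒳.p.IsHomLift (𝟙 (𝒳.p.obj (G.obj a))) e.inv := lift_inv_of_lift 𝒳.p e he
      exact ⟨⟨y', hQ⟩, e.symm, isHomLift_id_of_eq 𝒳.p hGa e.inv⟩)
    -- `G'` restricts to `D`
    refine ⟨G', ⟨(post (Stk.sieveCat R) (incl Q)).preimageIso ?_⟩⟩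
    exact (Stk.restr (Stk.sieveIncl R) 𝒳).mapIso κ ≪≫ ρ
  exact Functor.IsEquivalence.mk

theorem isStack_sub (J : GrothendieckTopology C) (h𝒳 : Stk.IsStack J 𝒳)
    (h1 : ∀ ⦃y x : 𝒳.obj⦄ (φ : y ⟶ x), Q x →
      ∃ (y' : 𝒳.obj) (e : y ≅ y'), Q y' ∧ 𝒳.p.IsHomLift (𝟙 (𝒳.p.obj y)) e.hom)
    (h3 : ∀ ⦃U : C⦄ (R : Sieve U), R ∈ J U → ∀ (x : 𝒳.obj), 𝒳.p.obj x = U →
      (∀ ⦃V : C⦄ (f : V ⟶ U), R f → ∀ (y : 𝒳.obj) (φ : y ⟶ x), 𝒳.p.IsHomLift f φ →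
        ∃ (y' : 𝒳.obj) (e : y ≅ y'), Q y' ∧ 𝒳.p.IsHomLift (𝟙 V) e.hom) →
      ∃ (x' : 𝒳.obj) (e : x ≅ x'), Q x' ∧ 𝒳.p.IsHomLift (𝟙 U) e.hom) :
    Stk.IsStack J (sub Q) :=
  ⟨isFibGrpd_sub Q h𝒳.1 h1, fun _ R hR => isStackFor_sub Q J h𝒳 h1 h3 R hR⟩

end Groth.Agent.Lib.Helper10.StkSub
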