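import Mathlib
import Groth.Agent.Lib.Helper10.AlgStSubChart
import Groth.Agent.Lib.Helper10.AlgStNoethImm
import Groth.Agent.Lib.Helper10.AlgStDiag
import Groth.Agent.Lib.Helper10.StkSub
import Groth.Agent.Lib.Helper28.AlgSt.IsoEquiv
import Groth.Agent.S12768

/-!
# Open substacks and open subsets of the space of points (helper10)

* `ptsIn T`: the objects all of whose field-valued points lie in `T ⊆ |𝒳|`.
* `isOpenSubstack_ptsIn`: for `T` open this is an open substack, and its points are `T`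
  (`range_subIncl_ptsIn`).
* `eq_ptsIn_of_isOpenSubstack`: every open substack is of this form.
-/

set_option autoImplicit false
set_option backward.isDefEq.respectTransparency false
set_option backward.isDefEq.respectTransparency.types false

universe u

open CategoryTheory CategoryTheory.Limits AlgebraicGeometry Opposite

namespace H10PT

open Groth.Agent.Lib.Helper10.Fib Groth.Agent.Lib.Helper10.AlgStRep
open Groth.Agent.Lib.Helper28.AlgSt.Bridge Groth.Agent.Lib.Helper28.AlgSt.SpaceCalc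
open Groth.Agent.Lib.Helper28.AlgSt.PropInst Groth.Agent.Lib.Helper28.AlgSt.Comp
open Groth.Agent.Lib.Helper28.AlgSt.Whisker Groth.Agent.Lib.Helper28.AlgSt.Key
open Groth.Agent.Lib.Helper28.AlgSt.Descent Groth.Agent.Lib.Helper28.AlgSt.DiagComp
open Groth.Agent.Lib.Helper28.AlgSt.ChartOver Groth.Agent.Lib.Helper28.AlgSt.IsoEquiv
open Groth.Agent.Lib.Helper16 Groth.Agent.Lib.Helper16.AlgStDC
open Groth.Agent.Lib.Helper10.StkSub

variable {S : Scheme.{u}} {𝒳 : AlgSt.Cat S}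

/-- Objects all of whose field-valued points lie in `T`. -/
def ptsIn (T : Set (AlgSt.Points 𝒳)) (x : 𝒳.obj) : Prop :=
  ∀ q : AlgSt.FPt 𝒳, Nonempty (q.obj ⟶ x) → AlgSt.Points.mk q ∈ T

theorem ptsIn_of_hom {T : Set (AlgSt.Points 𝒳)} {x x' : 𝒳.obj} (m : x' ⟶ x) (h : ptsIn T x) :
    ptsIn T x' :=
  fun q hq => hq.elim fun n => h q ⟨n ≫ m⟩

theorem ptsIn_mono {T T' : Set (AlgSt.Points 𝒳)} (hTT' : T ⊆ T') {x : 𝒳.obj} (h : ptsIn T x) :
    ptsIn T' x :=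
  fun q hq => hTT' (h q hq)

theorem isClosedUnderIso_ptsIn (T : Set (AlgSt.Points 𝒳)) :
    ObjectProperty.IsClosedUnderIsomorphisms (ptsIn T) :=
  ⟨fun e h => ptsIn_of_hom e.inv h⟩

theorem ptsIn_iff_chart (h𝒳 : FibCat.IsFibGrpd 𝒳.p) (T : Set (AlgSt.Points 𝒳)) {U : Over S}
    (y : FibCat.overCat U ⥤ᵇ 𝒳) (a : Over U) :
    ptsIn T (y.obj a) ↔ ∀ z : ↥a.left.left, AlgSt.Points.ofChart y (a.hom.left z) ∈ T := by
  constructor
  · intro hpts z
    have h1 := ofChart_comp (AlgSt.overMap a.hom) y z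
    rw [homOfOver_overMap] at h1
    rw [← h1]
    show AlgSt.Points.mk _ ∈ T
    refine hpts _ ⟨?_⟩
    exact y.map (Over.homMk (Over.homMk (a.left.left.fromSpecResidueField z) rfl) rfl)
  · intro hz q hq
    obtain ⟨m⟩ := hq
    obtain ⟨f, hf⟩ : ∃ f : Over.mk q.str ⟶ a.left, 𝒳.p.IsHomLift f m :=
      exists_baseHom q.lies (y.w_obj a) m
    obtain ⟨k, hk0⟩ : ∃ k : (Over.mk (f ≫ a.hom) : Over U) ⟶ a,
        f = (FibCat.overCat U).p.map k := ⟨Over.homMk f rfl, rfl⟩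
    have hlk : (FibCat.overCat U).p.IsHomLift f k := isHomLift_of_eq (FibCat.overCat U).p
      (a := (Over.mk (f ≫ a.hom) : Over U)) (b := a) f k hk0
    haveI := hlk
    haveI hφ : 𝒳.p.IsHomLift f (y.map k) := inferInstance
    haveI := hf
    haveI hsc : 𝒳.p.IsStronglyCartesian f (y.map k) := IsFibGrpd.sc h𝒳 f (y.map k)
    obtain ⟨χ, ⟨hχ1, hχ2⟩, -⟩ := Functor.IsStronglyCartesian.universal_property 𝒳.p f (y.map k)
      (𝟙 _) f (Category.id_comp f).symm m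
    obtain ⟨q', hq'⟩ : ∃ q' : AlgSt.FPt (FibCat.overCat U),
        q' = ⟨q.K, q.str, Over.mk (f ≫ a.hom), rfl⟩ := ⟨_, rfl⟩
    have hrel : AlgSt.FPt.Rel q (q'.map y) := by
      subst hq'
      exact ⟨q, 𝟙 _, χ, trivial⟩
    have h1 : AlgSt.Points.mk q = AlgSt.Points.map y (AlgSt.Points.mk q') :=
      AlgSt.Points.sound hrel
    rw [h1, map_mk_eq_ofChart]
    have h2 : ptOf q' = a.hom.left (f.left (IsLocalRing.closedPoint q.K)) := by
      subst hq'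
      show ((eqToHom _ ≫ (f ≫ a.hom)).left) _ = _
      rw [eqToHom_refl, Category.id_comp]
      rfl
    rw [h2]
    exact hz _

theorem isOpenImm_subIncl_ptsIn (h𝒳 : AlgSt.IsAlgStack Scheme.fppfPrecoverage 𝒳)
    (T : Set (AlgSt.Points 𝒳)) (hT : IsOpen T) :
    AlgSt.IsOpenImm (AlgSt.subIncl 𝒳 (ptsIn T)) := by
  refine repByAlgSpWith_subIncl_of_charts (ptsIn T) _ good_openImm (isClosedUnderIso_ptsIn T) ?_
  intro U y
  obtain ⟨W, hW⟩ : ∃ W : U.left.Opens, (W : Set U.left) = AlgSt.Points.ofChart y ⁻¹' T :=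
    ⟨⟨_, (continuous_ofChart h𝒳 y).isOpen_preimage T hT⟩, rfl⟩
  haveI : Mono (overOpenι U W).left := show Mono W.ι from inferInstance
  refine ⟨overOpen U W, overOpenι U W, inferInstance, ?_, ?_⟩
  · rw [AlgSp.repWith_yon_map_iff]
    show IsOpenImmersion W.ι
    infer_instance
  · intro a
    rw [ptsIn_iff_chart h𝒳.isStack.1 T y a]
    constructor
    · intro hz
      have hrange : Set.range a.hom.left ⊆ Set.range W.ι := by
        rintro _ ⟨z, rfl⟩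
        rw [Scheme.Opens.range_ι, hW]
        exact hz z
      refine ⟨Over.homMk (IsOpenImmersion.lift W.ι a.hom.left hrange) ?_, ?_⟩
      · show IsOpenImmersion.lift W.ι a.hom.left hrange ≫ (W.ι ≫ U.hom) = a.left.hom
        rw [← Category.assoc, IsOpenImmersion.lift_fac]
        exact Over.w a.hom
      · apply Over.OverMorphism.ext
        show IsOpenImmersion.lift W.ι a.hom.left hrange ≫ W.ι = a.hom.left
        exact IsOpenImmersion.lift_fac _ _ _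
    · rintro ⟨b, hb⟩ z
      have h3 : a.hom.left z = W.ι (b.left z) := by
        rw [← hb]
        rfl
      rw [h3]
      have hmem : (W.ι (b.left z) : U.left) ∈ (W : Set U.left) := (b.left z).2
      rw [hW] at hmem
      exact hmem

theorem isFibGrpd_fullSub_ptsIn (h𝒳 : FibCat.IsFibGrpd 𝒳.p) (T : Set (AlgSt.Points 𝒳)) :
    FibCat.IsFibGrpd (AlgSt.fullSub 𝒳 (ptsIn T)).p :=
  isFibGrpd_sub (ptsIn T) h𝒳
    (fun y _ φ hx => ⟨y, Iso.refl y, ptsIn_of_hom φ hx,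
      (show 𝒳.p.IsHomLift (𝟙 (𝒳.p.obj y)) (𝟙 y) from inferInstance)⟩)

theorem isOpenSubstack_ptsIn (h𝒳 : AlgSt.IsAlgStack Scheme.fppfPrecoverage 𝒳)
    (T : Set (AlgSt.Points 𝒳)) (hT : IsOpen T) :
    AlgSt.IsOpenSubstack 𝒳 (ptsIn T) Scheme.fppfPrecoverage := by
  have hI := isOpenImm_subIncl_ptsIn h𝒳 T hT
  refine ⟨isClosedUnderIso_ptsIn T, ?_, hI⟩
  exact Groth.Agent.S12768.result (isFibGrpd_fullSub_ptsIn h𝒳.isStack.1 T) h𝒳
    (AlgSt.subIncl 𝒳 (ptsIn T)) (fun U y => by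
      obtain ⟨F, e, he, -⟩ := hI U y
      exact ⟨F, e, he⟩)

theorem range_subIncl_ptsIn (T : Set (AlgSt.Points 𝒳)) :
    Set.range (AlgSt.Points.map (AlgSt.subIncl 𝒳 (ptsIn T))) = T := by
  ext t
  constructor
  · rintro ⟨p, rfl⟩
    obtain ⟨q, rfl⟩ := AlgSt.Points.mk_surjective p
    exact q.obj.property (q.map (AlgSt.subIncl 𝒳 (ptsIn T))) ⟨𝟙 _⟩
  · intro ht
    obtain ⟨q, rfl⟩ := AlgSt.Points.mk_surjective t
    have hq : ptsIn T q.obj := fun q' hq' => by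
      obtain ⟨m⟩ := hq'
      have h1 : AlgSt.Points.mk q' = AlgSt.Points.mk q :=
        AlgSt.Points.sound ⟨q', 𝟙 _, m, trivial⟩
      rw [h1]
      exact ht
    exact ⟨AlgSt.Points.mk ⟨q.K, q.str, ⟨q.obj, hq⟩, q.lies⟩, rfl⟩

section Char

variable (Q Q' : 𝒳.obj → Prop)

theorem ptsIn_range_of_mem (h𝒳 : FibCat.IsFibGrpd 𝒳.p)
    (hQi : ObjectProperty.IsClosedUnderIsomorphisms Q)
    (hQf : FibCat.IsFibGrpd (AlgSt.fullSub 𝒳 Q).p) {x : 𝒳.obj} (hx : Q x) :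
    ptsIn (Set.range (AlgSt.Points.map (AlgSt.subIncl 𝒳 Q))) x := by
  intro q hq
  obtain ⟨m⟩ := hq
  have hQq : Q q.obj := by
    obtain ⟨y', φ, hφ⟩ := hQf.exists_lift (x := (⟨x, hx⟩ : (AlgSt.fullSub 𝒳 Q).obj)) (𝒳.p.map m)
    haveI hφ' : 𝒳.p.IsHomLift (𝒳.p.map m) φ.hom :=
      isHomLift_map_of_comp (ObjectProperty.ι Q) 𝒳.p _ φ
    haveI := IsFibGrpd.sc h𝒳 (𝒳.p.map m) φ.hom
    obtain ⟨χ, ⟨hχ1, hχ2⟩, -⟩ := Functor.IsStronglyCartesian.universal_property 𝒳.p (𝒳.p.map m)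
      φ.hom (𝟙 _) (𝒳.p.map m) (Category.id_comp _).symm m
    haveI := hχ1
    haveI : IsIso χ := IsFibGrpd.isIso_of_isHomLift_id h𝒳 (U := 𝒳.p.obj q.obj) χ
    exact hQi.of_iso (asIso χ).symm y'.property
  exact ⟨AlgSt.Points.mk ⟨q.K, q.str, ⟨q.obj, hQq⟩, q.lies⟩, rfl⟩

/-- The inclusion of full subcategories for `Q ≤ Q'`. -/
def subLe (hle : ∀ x, Q x → Q' x) : AlgSt.fullSub 𝒳 Q ⥤ᵇ AlgSt.fullSub 𝒳 Q' :=
  liftSub Q' (AlgSt.subIncl 𝒳 Q) (fun w => hle _ w.property)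

theorem isIso_of_openImm_of_surjective {F : AlgSp.Sp S} {U : Over S}
    (g : F ⟶ (AlgSp.yon S).obj U) (h1 : AlgSp.RepWith @IsOpenImmersion g)
    (h2 : AlgSp.IsSurjectiveMor g) : IsIso g := by
  obtain ⟨V', i, snd, hi, hcomm, hP⟩ := exists_scheme_of_repWith _ g h1
  haveI := hi
  haveI : IsOpenImmersion snd.left := hP
  have hs : Function.Surjective (AlgSp.Points.map ((AlgSp.yon S).map snd)) := by
    intro x
    obtain ⟨w, hw⟩ := h2 x
    refine ⟨AlgSp.Points.map (inv i) w, ?_⟩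
    rw [← hcomm, AlgSp.Points.map_comp, ← AlgSp.Points.map_comp (inv i) i, IsIso.inv_hom_id,
      AlgSp.Points.map_id]
    exact hw
  have hs' : Function.Surjective (fun t => snd.left t) := by
    rw [AlgSp.Points.map_yon_map_eq] at hs
    intro u
    obtain ⟨w, hw⟩ := hs (AlgSp.Points.schemeHomeo U u)
    refine ⟨(AlgSp.Points.schemeHomeo V').symm w, ?_⟩
    exact (AlgSp.Points.schemeHomeo U).injective hw
  haveI : Surjective snd.left := ⟨hs'⟩
  haveI : IsIso snd.left := (isIso_iff_isOpenImmersion_and_surjective _).2 ⟨inferInstance, inferInstance⟩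
  haveI : IsIso ((Over.forget S).map snd) := show IsIso snd.left from inferInstance
  haveI : IsIso snd := isIso_of_reflects_iso snd (Over.forget S)
  have hg : g = inv i ≫ (AlgSp.yon S).map snd := by
    rw [IsIso.eq_inv_comp]
    exact hcomm
  rw [hg]
  infer_instance

theorem isSurjective_subLe (h𝒳 : FibCat.IsFibGrpd 𝒳.p)
    (hQ'f : FibCat.IsFibGrpd (AlgSt.fullSub 𝒳 Q').p) (hle : ∀ x, Q x → Q' x)
    (hQ' : ∀ x, Q' x → ptsIn (Set.range (AlgSt.Points.map (AlgSt.subIncl 𝒳 Q))) x) :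
    AlgSt.IsSurjective (subLe Q Q' hle) := by
  intro p'
  obtain ⟨q', rfl⟩ := AlgSt.Points.mk_surjective p'
  obtain ⟨p, hp⟩ := hQ' _ q'.obj.property (q'.map (AlgSt.subIncl 𝒳 Q')) ⟨𝟙 _⟩
  refine ⟨p, ?_⟩
  apply points_map_injective_of_full hQ'f h𝒳 (AlgSt.subIncl 𝒳 Q')
  have h1 : AlgSt.Points.map (AlgSt.subIncl 𝒳 Q') (AlgSt.Points.map (subLe Q Q' hle) p) =
      AlgSt.Points.map (AlgSt.subIncl 𝒳 Q) p :=
    (congrFun (points_map_comp (subLe Q Q' hle) (AlgSt.subIncl 𝒳 Q')) p).symm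
  rw [h1, hp]
  rfl

theorem isEquivOver_subLe (hQf : FibCat.IsFibGrpd (AlgSt.fullSub 𝒳 Q).p)
    (hQ'f : FibCat.IsFibGrpd (AlgSt.fullSub 𝒳 Q').p) (hle : ∀ x, Q x → Q' x)
    (hopen : AlgSt.IsOpenImm (AlgSt.subIncl 𝒳 Q))
    (hsurj : AlgSt.IsSurjective (subLe Q Q' hle)) : FibCat.IsEquivOver (subLe Q Q' hle) := by
  have hopen' : AlgSt.IsOpenImm (subLe Q Q' hle) :=
    repByAlgSpWith_of_comp_ff _ (subLe Q Q' hle) (AlgSt.subIncl 𝒳 Q') hopen
  have hrep : AlgSt.RepByAlgSp1 (subLe Q Q' hle) := fun U y => by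
    obtain ⟨F, e, he, -⟩ := hopen' U y
    exact ⟨F, e, he⟩
  have hs : AlgSt.RepByAlgSpWith AlgSp.IsSurjectiveMor (subLe Q Q' hle) :=
    rep_of_isSurjective hQf hQ'f _ hrep hsurj
  apply isEquivOver_of_repWith_iso hQf hQ'f
  intro U y
  obtain ⟨F, e, he, hg⟩ := hopen' U y
  refine ⟨F, e, he, ?_⟩
  have hsg : AlgSp.IsSurjectiveMor (AlgSt.spMapOfOver
      (BasedFunctor.comp e (FibCat.fpFst y (subLe Q Q' hle)))) :=
    (repByAlgSpWith_iff_chart _ good_surjective.bc good_surjective.loc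
      (FibCat.fpFst y (subLe Q Q' hle)) e he).1 (repByAlgSpWith_fpFst _ _ y hs)
  exact isIso_of_openImm_of_surjective _ hg hsg

end Char

theorem mem_of_ptsIn_range (h𝒳 : AlgSt.IsAlgStack Scheme.fppfPrecoverage 𝒳) (Q : 𝒳.obj → Prop)
    (hQ : AlgSt.IsOpenSubstack 𝒳 Q Scheme.fppfPrecoverage) {x : 𝒳.obj}
    (hx : ptsIn (Set.range (AlgSt.Points.map (AlgSt.subIncl 𝒳 Q))) x) : Q x := by
  obtain ⟨T, hTdef⟩ : ∃ T, T = Set.range (AlgSt.Points.map (AlgSt.subIncl 𝒳 Q)) := ⟨_, rfl⟩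
  rw [← hTdef] at hx
  have hT : IsOpen T := by
    rw [hTdef]
    exact isOpen_range_of_isOpenImm hQ.2.1 h𝒳 _ hQ.2.2
  have hQ' := isOpenSubstack_ptsIn h𝒳 T hT
  have hle : ∀ x, Q x → ptsIn T x := fun x hx => by
    rw [hTdef]
    exact ptsIn_range_of_mem Q h𝒳.isStack.1 hQ.1 hQ.2.1.isStack.1 hx
  have hsurj := isSurjective_subLe Q (ptsIn T) h𝒳.isStack.1 hQ'.2.1.isStack.1 hle
    (fun x h => by rw [← hTdef]; exact h)
  have hE := isEquivOver_subLe Q (ptsIn T) hQ.2.1.isStack.1 hQ'.2.1.isStack.1 hle hQ.2.2 hsurj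
  obtain ⟨A', i, -⟩ := IsEquivOver.exists_iso hE (⟨x, hx⟩ : (AlgSt.fullSub 𝒳 (ptsIn T)).obj)
  exact hQ.1.of_iso ((ObjectProperty.ι (ptsIn T)).mapIso i) A'.property

theorem eq_ptsIn_of_isOpenSubstack (h𝒳 : AlgSt.IsAlgStack Scheme.fppfPrecoverage 𝒳)
    (Q : 𝒳.obj → Prop) (hQ : AlgSt.IsOpenSubstack 𝒳 Q Scheme.fppfPrecoverage) :
    Q = ptsIn (Set.range (AlgSt.Points.map (AlgSt.subIncl 𝒳 Q))) := by
  funext x
  exact propext ⟨fun hx => ptsIn_range_of_mem Q h𝒳.isStack.1 hQ.1 hQ.2.1.isStack.1 hx,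
    fun hx => mem_of_ptsIn_range h𝒳 Q hQ hx⟩

end H10PT
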