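import Mathlib
import Groth.Agent.Lib.Helper10.AlgStOpenSub

/-!
# The open substack image of a functor (helper10)

* `ptsIn_range_map`: objects in the image of `v : 𝒲 ⟶ 𝒳` have all their points in the image of `|v|`.
* `isSurjective_liftSub`: the lift of `v` to the full subcategory of a property whose objects have
  all their points in the image of `|v|` is surjective on points.
-/

set_option autoImplicit false
set_option backward.isDefEq.respectTransparency false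
set_option backward.isDefEq.respectTransparency.types false

universe u

open CategoryTheory CategoryTheory.Limits AlgebraicGeometry Opposite

namespace H10PT

open Groth.Agent.Lib.Helper10.Fib Groth.Agent.Lib.Helper10.AlgStRep

variable {S : Scheme.{u}} {𝒳 𝒲 : AlgSt.Cat S}

theorem ptsIn_range_map (h𝒲 : FibCat.IsFibGrpd 𝒲.p) (h𝒳 : FibCat.IsFibGrpd 𝒳.p) (v : 𝒲 ⥤ᵇ 𝒳)
    (w : 𝒲.obj) : ptsIn (Set.range (AlgSt.Points.map v)) (v.obj w) := by
  intro q hq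
  obtain ⟨m⟩ := hq
  obtain ⟨f, hf⟩ : ∃ f : Over.mk q.str ⟶ 𝒲.p.obj w, 𝒳.p.IsHomLift f m :=
    exists_baseHom q.lies (v.w_obj w) m
  obtain ⟨w', φ, hφ⟩ := IsFibGrpd.exists_lift' h𝒲 (a := w) rfl f
  haveI : 𝒲.p.IsHomLift f φ := inferInstance
  haveI hφ' : 𝒳.p.IsHomLift f (v.map φ) := inferInstance
  haveI := hf
  haveI hsc : 𝒳.p.IsStronglyCartesian f (v.map φ) := IsFibGrpd.sc h𝒳 f (v.map φ)
  obtain ⟨χ, ⟨hχ1, hχ2⟩, -⟩ := Functor.IsStronglyCartesian.universal_property 𝒳.p f (v.map φ)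
    (𝟙 _) f (Category.id_comp f).symm m
  obtain ⟨q', hq'⟩ : ∃ q' : AlgSt.FPt 𝒲,
      q' = ⟨q.K, q.str, w', IsHomLift.domain_eq 𝒲.p f φ⟩ := ⟨_, rfl⟩
  have hrel : AlgSt.FPt.Rel q (q'.map v) := by
    subst hq'
    exact ⟨q, 𝟙 _, χ, trivial⟩
  exact ⟨AlgSt.Points.mk q', (AlgSt.Points.sound hrel).symm⟩

theorem isSurjective_liftSub (h𝒳 : FibCat.IsFibGrpd 𝒳.p) (Q : 𝒳.obj → Prop)
    (hQf : FibCat.IsFibGrpd (AlgSt.fullSub 𝒳 Q).p) (v : 𝒲 ⥤ᵇ 𝒳) (hv : ∀ w, Q (v.obj w))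
    (hQ : ∀ x, Q x → ptsIn (Set.range (AlgSt.Points.map v)) x) :
    AlgSt.IsSurjective (liftSub Q v hv) := by
  intro p'
  obtain ⟨q', rfl⟩ := AlgSt.Points.mk_surjective p'
  obtain ⟨p, hp⟩ := hQ _ q'.obj.property (q'.map (AlgSt.subIncl 𝒳 Q)) ⟨𝟙 _⟩
  refine ⟨p, ?_⟩
  apply points_map_injective_of_full hQf h𝒳 (AlgSt.subIncl 𝒳 Q)
  have h1 : AlgSt.Points.map (AlgSt.subIncl 𝒳 Q) (AlgSt.Points.map (liftSub Q v hv) p) =
      AlgSt.Points.map v p :=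
    (congrFun (points_map_comp (liftSub Q v hv) (AlgSt.subIncl 𝒳 Q)) p).symm
  rw [h1, hp]
  rfl

end H10PT
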