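import Mathlib
import Groth.Prelude.Def_AlgSt4
import Groth.Agent.Lib.Helper10.AlgStPtsDiag
import Groth.Agent.Lib.Helper10.Fib5

/-!
# Testing surjectivity of the diagonal on spectra of fields

* `isSurjective_diag_of_forall_field`: if for every field-valued point `Spec K ⟶ 𝒴` the base
  change `Spec K ×_𝒴 𝒳 ⟶ Spec K` is injective on points, then the diagonal of `f` is surjective
  on points.
-/

set_option autoImplicit false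

universe u

open CategoryTheory CategoryTheory.Limits AlgebraicGeometry Opposite

namespace H10PT

open Groth.Agent.Lib.Helper10.Fib Groth.Agent.Lib.Helper10.AlgStRep

variable {S : Scheme.{u}} {𝒳 𝒴 𝒵 : AlgSt.Cat S}

lemma hom_terminal_ext {C : Type*} [Category C] (U : C) (A : Over U)
    (k₁ k₂ : A ⟶ Over.mk (𝟙 U)) : k₁ = k₂ := by
  have e₁ := toTerminal_comp U k₁
  have e₂ := toTerminal_comp U k₂
  rw [toTerminal_self, Category.comp_id] at e₁ e₂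
  exact e₁.trans e₂.symm

theorem isSurjective_diag_of_forall_field (h𝒳 : FibCat.IsFibGrpd 𝒳.p) (h𝒴 : FibCat.IsFibGrpd 𝒴.p)
    (f : 𝒳 ⥤ᵇ 𝒴)
    (h : ∀ (K : Type u) [Field K] (str : Spec (CommRingCat.of K) ⟶ S)
      (z : FibCat.overCat (Over.mk str) ⥤ᵇ 𝒴),
      Function.Injective (AlgSt.Points.map (FibCat.fpFst z f))) :
    AlgSt.IsSurjective (FibCat.diag f) := by
  intro t'
  obtain ⟨t, rfl⟩ := AlgSt.Points.mk_surjective t'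
  obtain ⟨K, str, ⟨⟨x₁, x₂, κ⟩, hκ⟩, lies⟩ := t
  change 𝒴.p.IsHomLift (𝟙 (𝒳.p.obj x₁)) κ.hom at hκ
  change 𝒳.p.obj x₁ = Over.mk str at lies
  have hy : 𝒴.p.obj (f.obj x₁) = Over.mk str := (f.w_obj x₁).trans lies
  obtain ⟨z, -, ⟨i⟩⟩ := yoneda_essSurj (Over.mk str)
    (⟨f.obj x₁, hy⟩ : 𝒴.p.Fiber (Over.mk str))
    (fun V g => IsFibGrpd.exists_lift' h𝒴 hy g)
  have hZ : FibCat.IsFibGrpd (FibCat.overCat (Over.mk str)).p := isFibGrpd_overForget _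
  have hW : FibCat.IsFibGrpd (FibCat.fp z f).p := isFibGrpd_fp z f hZ h𝒳 h𝒴
  obtain ⟨θ, hθ0⟩ : ∃ θ : z.obj (Over.mk (𝟙 (Over.mk str))) ≅ f.obj x₁,
      θ = Functor.Fiber.fiberInclusion.mapIso i := ⟨_, rfl⟩
  have hθ : 𝒴.p.IsHomLift (𝟙 (Over.mk str)) θ.hom := by
    rw [hθ0]
    exact i.hom.2
  have hκB : 𝒴.p.IsHomLift (𝟙 (Over.mk str)) κ.hom := isHomLift_id_of_eq 𝒴.p lies κ.hom
  have hθκ : 𝒴.p.IsHomLift (𝟙 (Over.mk str)) (θ ≪≫ κ).hom := by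
    show 𝒴.p.IsHomLift (𝟙 (Over.mk str)) (θ.hom ≫ κ.hom)
    infer_instance
  obtain ⟨P₁, hP₁⟩ : ∃ P₁ : (FibCat.fp z f).obj,
      P₁ = ⟨⟨Over.mk (𝟙 (Over.mk str)), x₁, θ⟩, hθ⟩ := ⟨_, rfl⟩
  obtain ⟨P₂, hP₂⟩ : ∃ P₂ : (FibCat.fp z f).obj,
      P₂ = ⟨⟨Over.mk (𝟙 (Over.mk str)), x₂, θ ≪≫ κ⟩, hθκ⟩ := ⟨_, rfl⟩
  have l₁ : (FibCat.fp z f).p.obj P₁ = Over.mk str := by rw [hP₁]; rfl
  have l₂ : (FibCat.fp z f).p.obj P₂ = Over.mk str := by rw [hP₂]; rfl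
  have himg : AlgSt.Points.map (FibCat.fpFst z f) (AlgSt.Points.mk ⟨K, str, P₁, l₁⟩) =
      AlgSt.Points.map (FibCat.fpFst z f) (AlgSt.Points.mk ⟨K, str, P₂, l₂⟩) := by
    subst hP₁ hP₂
    rfl
  have hpts := h K str z himg
  have hrel : AlgSt.FPt.Rel (⟨K, str, P₁, l₁⟩ : AlgSt.FPt (FibCat.fp z f)) ⟨K, str, P₂, l₂⟩ := by
    have h' : Relation.EqvGen (@AlgSt.FPt.Rel S (FibCat.fp z f)) ⟨K, str, P₁, l₁⟩
        ⟨K, str, P₂, l₂⟩ := Quot.eqvGen_exact hpts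
    exact (rel_equivalence hW).eqvGen_iff.mp h'
  obtain ⟨s, m₁, m₂, -⟩ : ∃ (s : AlgSt.FPt (FibCat.fp z f)) (_ : s.obj ⟶ P₁) (_ : s.obj ⟶ P₂),
      True := hrel
  subst hP₁ hP₂
  obtain ⟨Ks, strs, ⟨⟨c, a, lam⟩, hlam⟩, liess⟩ := s
  have ha : 𝒳.p.obj a = Over.mk strs :=
    ((FibCat.fpSnd z f).w_obj (⟨⟨c, a, lam⟩, hlam⟩ : (FibCat.fp z f).obj)).trans liess
  obtain ⟨c₁, hc₁⟩ : ∃ c₁ : c ⟶ Over.mk (𝟙 (Over.mk str)), c₁ = m₁.hom.fst := ⟨_, rfl⟩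
  obtain ⟨c₂, hc₂⟩ : ∃ c₂ : c ⟶ Over.mk (𝟙 (Over.mk str)), c₂ = m₂.hom.fst := ⟨_, rfl⟩
  obtain ⟨u₁, hu₁⟩ : ∃ u₁ : a ⟶ x₁, u₁ = m₁.hom.snd := ⟨_, rfl⟩
  obtain ⟨u₂, hu₂⟩ : ∃ u₂ : a ⟶ x₂, u₂ = m₂.hom.snd := ⟨_, rfl⟩
  have w₁ : z.map c₁ ≫ θ.hom = lam.hom ≫ f.map u₁ := by
    rw [hc₁, hu₁]; exact m₁.hom.w
  have w₂ : z.map c₂ ≫ θ.hom ≫ κ.hom = lam.hom ≫ f.map u₂ := by
    rw [hc₂, hu₂]; exact m₂.hom.w
  have hc : c₁ = c₂ := hom_terminal_ext (Over.mk str) c c₁ c₂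
  have key : f.map u₁ ≫ κ.hom = f.map u₂ := by
    have e : lam.hom ≫ f.map u₁ ≫ κ.hom = lam.hom ≫ f.map u₂ := by
      rw [← w₂, ← hc, ← Category.assoc, ← w₁, Category.assoc]
    exact (cancel_epi lam.hom).1 e
  refine ⟨AlgSt.Points.mk ⟨Ks, strs, a, ha⟩, ?_⟩
  refine AlgSt.Points.sound
    ⟨(⟨Ks, strs, a, ha⟩ : AlgSt.FPt 𝒳).map (FibCat.diag f), 𝟙 _,
      ObjectProperty.homMk ⟨u₁, u₂, ?_⟩, trivial⟩
  show f.map u₁ ≫ κ.hom = _ ≫ f.map u₂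
  rw [key]
  exact (Category.id_comp (f.map u₂)).symm

end H10PT
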