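import Mathlib
import Groth.Prelude.Def_AlgSt4
import Groth.Agent.Lib.Helper10.AlgStPtsAffine
import Groth.Agent.Lib.Helper10.FibBC

/-!
# Descending surjectivity of the diagonal along field-valued points

* `exists_equalizing`: core argument: for an object `(x₁, x₂, κ)` of `𝒳 ×_𝒴 𝒳` over `Spec K` and a
  functor `z : (Sch/Spec K) ⟶ 𝒴` with `z(𝟙) ≅ f x₁`, injectivity on points of the projection
  `Spec K ×_𝒴 𝒳 ⟶ Spec K` produces a field-valued point `a` with maps to `x₁` and `x₂` equalising `κ`.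
* `isSurjective_diag_of_forall_exists`: the diagonal is surjective on points as soon as every
  field-valued point of `𝒴` is refined by a point `z` whose base change is injective on points.
-/

set_option autoImplicit false

universe u

open CategoryTheory CategoryTheory.Limits AlgebraicGeometry Opposite

namespace H10PT

open Groth.Agent.Lib.Helper10.Fib Groth.Agent.Lib.Helper10.AlgStRep

variable {S : Scheme.{u}} {𝒳 𝒴 𝒵 : AlgSt.Cat S}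

theorem exists_equalizing (h𝒳 : FibCat.IsFibGrpd 𝒳.p) (h𝒴 : FibCat.IsFibGrpd 𝒴.p)
    (f : 𝒳 ⥤ᵇ 𝒴) {K : Type u} [Field K] (str : Spec (CommRingCat.of K) ⟶ S)
    (x₁ x₂ : 𝒳.obj) (κ : f.obj x₁ ≅ f.obj x₂)
    (z : FibCat.overCat (Over.mk str) ⥤ᵇ 𝒴)
    (θ : z.obj (Over.mk (𝟙 (Over.mk str))) ≅ f.obj x₁)
    (hθ : 𝒴.p.IsHomLift (𝟙 (Over.mk str)) θ.hom)
    (hκB : 𝒴.p.IsHomLift (𝟙 (Over.mk str)) κ.hom)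
    (hinj : Function.Injective (AlgSt.Points.map (FibCat.fpFst z f))) :
    ∃ (s : AlgSt.FPt 𝒳) (u₁ : s.obj ⟶ x₁) (u₂ : s.obj ⟶ x₂), f.map u₁ ≫ κ.hom = f.map u₂ := by
  have hZ : FibCat.IsFibGrpd (FibCat.overCat (Over.mk str)).p := isFibGrpd_overForget _
  have hW : FibCat.IsFibGrpd (FibCat.fp z f).p := isFibGrpd_fp z f hZ h𝒳 h𝒴
  have hθκ : 𝒴.p.IsHomLift (𝟙 (Over.mk str)) (θ ≪≫ κ).hom := by
    show 𝒴.p.IsHomLift (𝟙 (Over.mk str)) (θ.hom ≫ κ.hom)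
    infer_instance
  obtain ⟨P₁, hP₁⟩ : ∃ P₁ : (FibCat.fp z f).obj,
      P₁ = ⟨⟨Over.mk (𝟙 (Over.mk str)), x₁, θ⟩, hθ⟩ := ⟨_, rfl⟩
  obtain ⟨P₂, hP₂⟩ : ∃ P₂ : (FibCat.fp z f).obj,
      P₂ = ⟨⟨Over.mk (𝟙 (Over.mk str)), x₂, θ ≪≫ κ⟩, hθκ⟩ := ⟨_, rfl⟩
  have l₁ : (FibCat.fp z f).p.obj P₁ = Over.mk str := by rw [hP₁]; rfl
  have l₂ : (FibCat.fp z f).p.obj P₂ = Over.mk str := by rw [hP₂]; rfl
  have himg : AlgSt.Points.map (FibCat.fpFst z f) (AlgSt.Points.mk ⟨K, str, P₁, l₁⟩) =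
      AlgSt.Points.map (FibCat.fpFst z f) (AlgSt.Points.mk ⟨K, str, P₂, l₂⟩) := by
    subst hP₁ hP₂
    rfl
  have hpts := hinj himg
  have hrel : AlgSt.FPt.Rel (⟨K, str, P₁, l₁⟩ : AlgSt.FPt (FibCat.fp z f)) ⟨K, str, P₂, l₂⟩ := by
    have h' : Relation.EqvGen (@AlgSt.FPt.Rel S (FibCat.fp z f)) ⟨K, str, P₁, l₁⟩
        ⟨K, str, P₂, l₂⟩ := Quot.eqvGen_exact hpts
    exact (rel_equivalence hW).eqvGen_iff.mp h'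
  obtain ⟨s, m₁, m₂, -⟩ : ∃ (s : AlgSt.FPt (FibCat.fp z f)) (_ : s.obj ⟶ P₁) (_ : s.obj ⟶ P₂),
      True := hrel
  subst hP₁ hP₂
  obtain ⟨Ks, strs, ⟨⟨c, a, lam⟩, hlam⟩, liess⟩ := s
  have ha : 𝒳.p.obj a = Over.mk strs :=
    ((FibCat.fpSnd z f).w_obj (⟨⟨c, a, lam⟩, hlam⟩ : (FibCat.fp z f).obj)).trans liess
  obtain ⟨c₁, hc₁⟩ : ∃ c₁ : c ⟶ Over.mk (𝟙 (Over.mk str)), c₁ = m₁.hom.fst := ⟨_, rfl⟩
  obtain ⟨c₂, hc₂⟩ : ∃ c₂ : c ⟶ Over.mk (𝟙 (Over.mk str)), c₂ = m₂.hom.fst := ⟨_, rfl⟩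
  obtain ⟨u₁, hu₁⟩ : ∃ u₁ : a ⟶ x₁, u₁ = m₁.hom.snd := ⟨_, rfl⟩
  obtain ⟨u₂, hu₂⟩ : ∃ u₂ : a ⟶ x₂, u₂ = m₂.hom.snd := ⟨_, rfl⟩
  have w₁ : z.map c₁ ≫ θ.hom = lam.hom ≫ f.map u₁ := by
    rw [hc₁, hu₁]; exact m₁.hom.w
  have w₂ : z.map c₂ ≫ θ.hom ≫ κ.hom = lam.hom ≫ f.map u₂ := by
    rw [hc₂, hu₂]; exact m₂.hom.w
  have hc : c₁ = c₂ := hom_terminal_ext (Over.mk str) c c₁ c₂
  have key : f.map u₁ ≫ κ.hom = f.map u₂ := by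
    have e : lam.hom ≫ f.map u₁ ≫ κ.hom = lam.hom ≫ f.map u₂ := by
      rw [← w₂, ← hc, ← Category.assoc, ← w₁, Category.assoc]
    exact (cancel_epi lam.hom).1 e
  exact ⟨⟨Ks, strs, a, ha⟩, u₁, u₂, key⟩

theorem isSurjective_diag_of_forall_exists (h𝒳 : FibCat.IsFibGrpd 𝒳.p)
    (h𝒴 : FibCat.IsFibGrpd 𝒴.p) (f : 𝒳 ⥤ᵇ 𝒴)
    (h : ∀ y : AlgSt.FPt 𝒴, ∃ (L : Type u) (_ : Field L) (strL : Spec (CommRingCat.of L) ⟶ S)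
      (z : FibCat.overCat (Over.mk strL) ⥤ᵇ 𝒴) (_ : z.obj (Over.mk (𝟙 (Over.mk strL))) ⟶ y.obj),
      Function.Injective (AlgSt.Points.map (FibCat.fpFst z f))) :
    AlgSt.IsSurjective (FibCat.diag f) := by
  have hff : FibCat.IsFibGrpd (FibCat.fp f f).p := isFibGrpd_fp f f h𝒳 h𝒳 h𝒴
  intro t'
  obtain ⟨t, rfl⟩ := AlgSt.Points.mk_surjective t'
  obtain ⟨K, str, ⟨⟨x₁, x₂, κ⟩, hκ⟩, lies⟩ := t
  change 𝒴.p.IsHomLift (𝟙 (𝒳.p.obj x₁)) κ.hom at hκ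
  change 𝒳.p.obj x₁ = Over.mk str at lies
  have hy : 𝒴.p.obj (f.obj x₁) = Over.mk str := (f.w_obj x₁).trans lies
  obtain ⟨L, instL, strL, z, μ, hinj⟩ := h ⟨K, str, f.obj x₁, hy⟩
  obtain ⟨μ', -⟩ : ∃ μ' : z.obj (Over.mk (𝟙 (Over.mk strL))) ⟶ f.obj x₁, μ' = μ := ⟨_, rfl⟩
  have hz1 : 𝒴.p.obj (z.obj (Over.mk (𝟙 (Over.mk strL)))) = Over.mk strL := z.w_obj _
  obtain ⟨β, hβ⟩ : ∃ β : Over.mk strL ⟶ Over.mk str, 𝒴.p.IsHomLift β μ' :=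
    exists_baseHom hz1 hy μ'
  obtain ⟨tL, ρ, hρ⟩ := IsFibGrpd.exists_lift' hff
    (a := (⟨⟨x₁, x₂, κ⟩, hκ⟩ : (FibCat.fp f f).obj)) lies β
  have hρ' : (FibCat.fp f f).p.IsHomLift β ρ := inferInstance
  obtain ⟨⟨x₁', x₂', κ'⟩, hκ'⟩ := tL
  change 𝒴.p.IsHomLift (𝟙 (𝒳.p.obj x₁')) κ'.hom at hκ'
  obtain ⟨r₁, hr₁0⟩ : ∃ r₁ : x₁' ⟶ x₁, r₁ = ρ.hom.fst := ⟨_, rfl⟩
  obtain ⟨r₂, hr₂0⟩ : ∃ r₂ : x₂' ⟶ x₂, r₂ = ρ.hom.snd := ⟨_, rfl⟩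
  have hr₁ : 𝒳.p.IsHomLift β r₁ := by rw [hr₁0]; exact (fp_isHomLift_iff f f ρ β).1 hρ'
  have wρ : f.map r₁ ≫ κ.hom = κ'.hom ≫ f.map r₂ := by rw [hr₁0, hr₂0]; exact ρ.hom.w
  have ex1' : 𝒳.p.obj x₁' = Over.mk strL := IsHomLift.domain_eq 𝒳.p β r₁
  have hκ'B : 𝒴.p.IsHomLift (𝟙 (Over.mk strL)) κ'.hom := isHomLift_id_of_eq 𝒴.p ex1' κ'.hom
  have hfr₁ : 𝒴.p.IsHomLift β (f.map r₁) := BasedFunctor.preserves_isHomLift f β r₁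
  have scfr₁ : 𝒴.p.IsStronglyCartesian β (f.map r₁) := IsFibGrpd.sc h𝒴 β (f.map r₁)
  obtain ⟨θh, ⟨hθh1, hθh2⟩, -⟩ := Functor.IsStronglyCartesian.universal_property 𝒴.p β
    (f.map r₁) (𝟙 _) β (Category.id_comp _).symm μ'
  haveI : IsIso θh := IsFibGrpd.isIso_of_isHomLift_id h𝒴 (U := Over.mk strL) θh
  obtain ⟨s, u₁, u₂, key⟩ := exists_equalizing h𝒳 h𝒴 f strL x₁' x₂' κ' z (asIso θh) hθh1 hκ'B hinj
  refine ⟨AlgSt.Points.mk s, ?_⟩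
  refine AlgSt.Points.sound ⟨s.map (FibCat.diag f), 𝟙 _,
    ObjectProperty.homMk ⟨u₁ ≫ r₁, u₂ ≫ r₂, ?_⟩, trivial⟩
  show f.map (u₁ ≫ r₁) ≫ κ.hom = _ ≫ f.map (u₂ ≫ r₂)
  rw [f.toFunctor.map_comp, f.toFunctor.map_comp, Category.assoc, wρ, ← Category.assoc, key]
  exact (Category.id_comp _).symm

/-- Injectivity on points of `𝒜 ×_𝒴 𝒳 ⟶ 𝒜` for `𝒜 ⟶ 𝒲 ⟶ 𝒴` follows from injectivity on points of
the iterated base change `𝒜 ×_𝒲 (𝒲 ×_𝒴 𝒳) ⟶ 𝒜`. -/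
theorem injective_fpFst_comp {𝒜 𝒲 : AlgSt.Cat S} (ζ : 𝒜 ⥤ᵇ 𝒲) (w : 𝒲 ⥤ᵇ 𝒴) (f : 𝒳 ⥤ᵇ 𝒴)
    (h : Function.Injective (AlgSt.Points.map (FibCat.fpFst ζ (FibCat.fpFst w f)))) :
    Function.Injective (AlgSt.Points.map (FibCat.fpFst (BasedFunctor.comp ζ w) f)) := by
  have bij := points_map_bijective_of_isEquivOver (paste1 ζ w f) (isEquivOver_paste1 ζ w f)
  have eq : AlgSt.Points.map (FibCat.fpFst (BasedFunctor.comp ζ w) f) ∘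
      AlgSt.Points.map (paste1 ζ w f) =
      AlgSt.Points.map (FibCat.fpFst ζ (FibCat.fpFst w f)) := by
    rw [← points_map_comp]
    rfl
  intro a b hab
  obtain ⟨a', rfl⟩ := bij.2 a
  obtain ⟨b', rfl⟩ := bij.2 b
  have ha := congrFun eq a'
  have hb := congrFun eq b'
  simp only [Function.comp_apply] at ha hb
  rw [ha, hb] at hab
  rw [h hab]

end H10PT
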