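import Mathlib
import Groth.Agent.Lib.Helper10.AlgStPtsBridge
import Groth.Agent.Lib.Helper28.AlgSt.SpaceCalc
import Groth.Agent.Lib.Helper16.FibreProduct

/-!
# Universal topological properties of representable morphisms of algebraic stacks

* `CartSq`: a commutative square of topological spaces with open continuous surjective horizontal
  maps which is surjective onto the fibre product; topological properties of the left vertical map
  descend to the right one.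
* `exists_homeo_square`: the base change of a representable morphism along `ofSp Z ⟶ 𝒴` on points.
* `exists_cartSq`: the chart square of a representable morphism.
-/

set_option autoImplicit false
set_option backward.isDefEq.respectTransparency false
set_option backward.isDefEq.respectTransparency.types false

universe u

open CategoryTheory CategoryTheory.Limits AlgebraicGeometry Opposite

noncomputable section

namespace H10PT

section Topo

variable {A B T Z : Type*} [TopologicalSpace A] [TopologicalSpace B] [TopologicalSpace T]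
  [TopologicalSpace Z]

/-- A commutative square `b ∘ π' = ζ ∘ a` with `π'`, `ζ` continuous open surjective, `b` continuous,
and such that `A` surjects onto the fibre product of `T` and `B` over `Z`. -/
structure CartSq (π' : A → B) (ζ : T → Z) (a : A → T) (b : B → Z) : Prop where
  comm : ∀ η, b (π' η) = ζ (a η)
  π_cont : Continuous π'
  π_open : IsOpenMap π'
  π_surj : Function.Surjective π'
  ζ_cont : Continuous ζ
  ζ_open : IsOpenMap ζ
  ζ_surj : Function.Surjective ζ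
  b_cont : Continuous b
  cart : ∀ t ξ, ζ t = b ξ → ∃ η, a η = t ∧ π' η = ξ

variable {π' : A → B} {ζ : T → Z} {a : A → T} {b : B → Z}

theorem CartSq.isOpenMap (h : CartSq π' ζ a b) (ha : IsOpenMap a) : IsOpenMap b := by
  intro W hW
  have : b '' W = ζ '' (a '' (π' ⁻¹' W)) := by
    ext z
    constructor
    · rintro ⟨w, hw, rfl⟩
      obtain ⟨η, rfl⟩ := h.π_surj w
      exact ⟨a η, ⟨η, hw, rfl⟩, (h.comm η).symm⟩
    · rintro ⟨t, ⟨η, hη, rfl⟩, rfl⟩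
      exact ⟨π' η, hη, h.comm η⟩
  rw [this]
  exact h.ζ_open _ (ha _ (h.π_cont.isOpen_preimage W hW))

theorem CartSq.isClosedMap (h : CartSq π' ζ a b) (ha : IsClosedMap a) : IsClosedMap b := by
  intro C hC
  have hq : Topology.IsQuotientMap ζ := h.ζ_open.isQuotientMap h.ζ_cont h.ζ_surj
  rw [← hq.isClosed_preimage]
  have : ζ ⁻¹' (b '' C) = a '' (π' ⁻¹' C) := by
    ext t
    constructor
    · rintro ⟨ξ, hξ, hξt⟩
      obtain ⟨η, rfl, rfl⟩ := h.cart t ξ hξt.symm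
      exact ⟨η, hξ, rfl⟩
    · rintro ⟨η, hη, rfl⟩
      exact ⟨π' η, hη, h.comm η⟩
  rw [this]
  exact ha _ (hC.preimage h.π_cont)

theorem CartSq.injective (h : CartSq π' ζ a b) (ha : Function.Injective a) :
    Function.Injective b := by
  intro ξ₁ ξ₂ hξ
  obtain ⟨t, ht⟩ := h.ζ_surj (b ξ₁)
  obtain ⟨η₁, h1, rfl⟩ := h.cart t ξ₁ ht
  obtain ⟨η₂, h2, rfl⟩ := h.cart t ξ₂ (ht.trans hξ)
  rw [ha (h1.trans h2.symm)]

theorem CartSq.surjective (h : CartSq π' ζ a b) (ha : Function.Surjective a) :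
    Function.Surjective b := by
  intro z
  obtain ⟨t, rfl⟩ := h.ζ_surj z
  obtain ⟨η, rfl⟩ := ha t
  exact ⟨π' η, h.comm η⟩

theorem CartSq.isQuotientMap (h : CartSq π' ζ a b) (ha : Topology.IsQuotientMap a) :
    Topology.IsQuotientMap b := by
  have hq : Topology.IsQuotientMap ζ := h.ζ_open.isQuotientMap h.ζ_cont h.ζ_surj
  rw [Topology.isQuotientMap_iff]
  refine ⟨.of_isOpen_preimage_iff_isOpen fun s =>
    ⟨fun hs => ?_, fun hs => h.b_cont.isOpen_preimage s hs⟩, h.surjective ha.surjective⟩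
  rw [← hq.isOpen_preimage, ← ha.isOpen_preimage]
  have : a ⁻¹' (ζ ⁻¹' s) = π' ⁻¹' (b ⁻¹' s) := by
    ext η
    simp only [Set.mem_preimage, h.comm η]
  rw [this]
  exact h.π_cont.isOpen_preimage _ hs

theorem CartSq.isHomeomorph (h : CartSq π' ζ a b) (ha : IsHomeomorph a) : IsHomeomorph b :=
  ⟨h.b_cont, h.isOpenMap ha.isOpenMap, h.injective ha.injective, h.surjective ha.surjective⟩

end Topo

open Groth.Agent.Lib.Helper10.Fib Groth.Agent.Lib.Helper10.AlgStRep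
open Groth.Agent.Lib.Helper28.AlgSt.ChartOver Groth.Agent.Lib.Helper28.AlgSt.PropInst
open Groth.Agent.Lib.Helper28.AlgSt.Bridge Groth.Agent.Lib.Helper28.AlgSt.Descent
open Groth.Agent.Lib.Helper28.AlgSt.Whisker Groth.Agent.Lib.Helper28.AlgSt.Key
open Groth.Agent.Lib.Helper28.AlgSt.SpaceCalc Groth.Agent.Lib.Helper28.AlgSt.PshPull
open Groth.Agent.Lib.Helper28.AlgSt.Chart
open Groth.Agent.Lib.Helper16

variable {S : Scheme.{u}} {𝒳 𝒴 𝒵 𝒲 : AlgSt.Cat S}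

/-- The points of `(Sch/T)` coming from the points of `h_T`. -/
theorem points_map_toOverCat (T : Over S) (x : AlgSp.Points ((AlgSp.yon S).obj T)) :
    AlgSt.Points.map (AlgSt.toOverCat T) (ptsOfSp x) =
      AlgSt.Points.mk (resFPt T (AlgSp.Points.toScheme T x)) := by
  obtain ⟨t, rfl⟩ : ∃ t, AlgSp.Points.ofScheme T t = x := ⟨_, AlgSp.Points.ofScheme_toScheme T x⟩
  rw [AlgSp.Points.toScheme_ofScheme]
  rfl

/-- Base change of a representable morphism along a morphism from an algebraic space, on points. -/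
theorem exists_homeo_square (h𝒳 : AlgSt.IsAlgStack Scheme.fppfPrecoverage 𝒳)
    (h𝒴 : AlgSt.IsAlgStack Scheme.fppfPrecoverage 𝒴) (f : 𝒳 ⥤ᵇ 𝒴) (U : Over S)
    (y : FibCat.overCat U ⥤ᵇ 𝒴) (F : AlgSp.Space S) (e : AlgSt.ofSp F.obj ⥤ᵇ FibCat.fp y f)
    (he : FibCat.IsEquivOver e) {Z Z' : AlgSp.Sp S} (hZ : AlgSp.IsAlgSpace Z)
    (g : Z ⟶ (AlgSp.yon S).obj U) (fst : Z' ⟶ F.obj) (snd : Z' ⟶ Z)
    (sq : IsPullback fst snd (AlgSt.spMapOfOver (BasedFunctor.comp e (FibCat.fpFst y f))) g) :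
    ∃ (k : AlgSt.ofSp Z ⥤ᵇ 𝒴) (h₁ : AlgSp.Points Z' ≃ₜ AlgSt.Points (FibCat.fp k f))
      (h₂ : AlgSp.Points Z ≃ₜ AlgSt.Points (AlgSt.ofSp Z)),
      ∀ x, AlgSt.Points.map (FibCat.fpFst k f) (h₁ x) = h₂ (AlgSp.Points.map snd x) := by
  obtain ⟨Φ, hΦ⟩ : ∃ Φ : AlgSt.ofSp F.obj ⥤ᵇ FibCat.overCat U,
      Φ = BasedFunctor.comp e (FibCat.fpFst y f) := ⟨_, rfl⟩
  rw [← hΦ] at sq
  have hZ' : AlgSp.IsAlgSpace Z' :=
    isAlgSpace_of_isPullback F.property (AlgSp.IsAlgSpace.yon_obj U).diag hZ sq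
  obtain ⟨G, hG⟩ : ∃ G : AlgSt.ofSp Z ⥤ᵇ FibCat.overCat U,
      G = BasedFunctor.comp (AlgSt.ofSpMap g) (AlgSt.toOverCat U) := ⟨_, rfl⟩
  have sqP : IsPullback fst.hom snd.hom (AlgSt.spMapOfOver Φ).hom g.hom :=
    sq.map (sheafToPresheaf (AlgSp.J S) (Type (u + 1)))
  have e₁ : BasedFunctor.comp (AlgSt.ofSpMap g) (AlgSt.toOverCat U) ≅
      BasedFunctor.comp (BasedFunctor.id (AlgSt.ofSp Z)) G := by
    rw [hG]
    exact Iso.refl _
  have e₂ : BasedFunctor.comp (AlgSt.ofSpMap (AlgSt.spMapOfOver Φ)) (AlgSt.toOverCat U) ≅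
      BasedFunctor.comp e (FibCat.fpFst y f) := by
    rw [← hΦ]
    exact (spIso Φ).symm
  haveI := IsEquivOver.isEquivalence (isEquivOver_toOverCat U)
  obtain ⟨ε, hε⟩ : ∃ ε : AlgSt.ofSp Z' ⥤ᵇ FibCat.fp (BasedFunctor.comp G y) f,
      ε = BasedFunctor.comp (BasedFunctor.comp (pullFun sqP) (fpMap e₁ e₂)) (paste1 G y f) :=
    ⟨_, rfl⟩
  have hεe : FibCat.IsEquivOver ε := by
    rw [hε]
    exact isEquivOver_comp _ _ (isEquivOver_comp _ _ (pullFun_isEquivOver sqP)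
      (isEquivOver_fpMap e₁ e₂ (isEquivOver_id _) he)) (isEquivOver_paste1 G y f)
  have hcomp : BasedFunctor.comp ε (FibCat.fpFst (BasedFunctor.comp G y) f) ≅ AlgSt.ofSpMap snd := by
    rw [hε]
    exact Iso.refl _
  have afp : AlgSt.IsAlgStack Scheme.fppfPrecoverage (FibCat.fp (BasedFunctor.comp G y) f) :=
    Groth.Agent.S12763.result h𝒴.isStack h𝒴.diag (isAlgStack_ofSp ⟨Z, hZ⟩) h𝒳 _ f
  obtain ⟨hh, hhe⟩ := exists_pointsHomeo_of_isEquivOver (isAlgStack_ofSp ⟨Z', hZ'⟩) afp ε hεe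
  refine ⟨BasedFunctor.comp G y, (ptsHomeo ⟨Z', hZ'⟩).trans hh, ptsHomeo ⟨Z, hZ⟩, fun x => ?_⟩
  show AlgSt.Points.map (FibCat.fpFst (BasedFunctor.comp G y) f) (hh (ptsOfSp x)) =
    ptsOfSp (AlgSp.Points.map snd x)
  rw [hhe, ← ptsOfSp_map, ← points_map_eq_of_iso hcomp, points_map_comp]
  rfl

/-- The chart square of a morphism whose base change to an atlas is an algebraic space. -/
theorem exists_cartSq (h𝒲 : AlgSt.IsAlgStack Scheme.fppfPrecoverage 𝒲)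
    (h𝒵 : AlgSt.IsAlgStack Scheme.fppfPrecoverage 𝒵) (f' : 𝒲 ⥤ᵇ 𝒵) (T : Over S)
    (z : FibCat.overCat T ⥤ᵇ 𝒵) (hz1 : AlgSt.RepByAlgSpWith (AlgSp.LocP @Smooth) z)
    (hz2 : AlgSt.RepByAlgSpWith AlgSp.IsSurjectiveMor z) (F : AlgSp.Space S)
    (e : AlgSt.ofSp F.obj ⥤ᵇ FibCat.fp z f') (he : FibCat.IsEquivOver e) :
    ∃ π' : AlgSp.Points F.obj → AlgSt.Points 𝒲,
      CartSq π' (AlgSt.Points.ofChart z)
        (fun η => AlgSp.Points.toScheme T
          (AlgSp.Points.map (AlgSt.spMapOfOver (BasedFunctor.comp e (FibCat.fpFst z f'))) η))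
        (AlgSt.Points.map f') := by
  obtain ⟨Φ, hΦ⟩ : ∃ Φ : AlgSt.ofSp F.obj ⥤ᵇ FibCat.overCat T,
      Φ = BasedFunctor.comp e (FibCat.fpFst z f') := ⟨_, rfl⟩
  obtain ⟨π, hπ⟩ : ∃ π : AlgSt.ofSp F.obj ⥤ᵇ 𝒲, π = BasedFunctor.comp e (FibCat.fpSnd z f') :=
    ⟨_, rfl⟩
  have hπ1 : AlgSt.RepByAlgSpWith (AlgSp.LocP @Smooth) π := by
    rw [hπ]
    exact repByAlgSpWith_equiv_comp _ e he _ (repByAlgSpWith_fpSnd _ z f' hz1)
  have hπ2 : AlgSt.RepByAlgSpWith AlgSp.IsSurjectiveMor π := by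
    rw [hπ]
    exact repByAlgSpWith_equiv_comp _ e he _ (repByAlgSpWith_fpSnd _ z f' hz2)
  have hπs : AlgSt.IsSurjective π := isSurjective_of_rep h𝒲.isStack.1 π hπ2
  have key : ∀ ξ' : AlgSt.Points (AlgSt.ofSp F.obj),
      AlgSt.Points.map f' (AlgSt.Points.map π ξ') = AlgSt.Points.map z (AlgSt.Points.map Φ ξ') := by
    intro ξ'
    have iso : BasedFunctor.comp π f' ≅ BasedFunctor.comp Φ z := by
      rw [hπ, hΦ]
      exact (wl e (FibCat.fpIso z f')).symm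
    have h := congrFun (points_map_eq_of_iso iso) ξ'
    rw [points_map_comp, points_map_comp] at h
    exact h
  have key2 : ∀ η : AlgSp.Points F.obj, AlgSt.Points.map Φ (ptsOfSp η) =
      AlgSt.Points.mk (resFPt T (AlgSp.Points.toScheme T
        (AlgSp.Points.map (AlgSt.spMapOfOver Φ) η))) := by
    intro η
    rw [points_map_eq_of_iso (spIso Φ), points_map_comp, Function.comp_apply, ptsOfSp_map,
      points_map_toOverCat]
  refine ⟨fun η => AlgSt.Points.map π (ptsOfSp η), ?_⟩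
  rw [← hΦ]
  constructor
  · intro η
    rw [key, key2, ofChart_eq]
  · exact (continuous_points_map h𝒲 π).comp (continuous_ptsOfSp F)
  · exact (isOpenMap_points_map_space h𝒲 F π (repFlat_of_smooth π hπ1)
      (repLfp_of_smooth π hπ1)).comp (isOpenMap_ptsOfSp F)
  · exact hπs.comp (ptsEquiv F.obj).surjective
  · exact continuous_ofChart h𝒵 z
  · exact isOpenMap_ofChart h𝒵 z (repFlat_of_smooth z hz1) (repLfp_of_smooth z hz1)
  · exact surjective_ofChart h𝒵.isStack.1 z hz2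
  · exact continuous_points_map h𝒵 f'
  · intro t ξ htξ
    rw [ofChart_eq] at htξ
    obtain ⟨w, hw1, hw2⟩ := exists_fp_point h𝒲.isStack.1 h𝒵.isStack.1 (isFibGrpd_overForget T) f' z
      (AlgSt.Points.mk (resFPt T t)) ξ htξ
    obtain ⟨ξ', rfl⟩ := (points_map_bijective_of_isEquivOver e he).2 w
    refine ⟨ptsToSp ξ', ?_, ?_⟩
    · have h3 := key2 (ptsToSp ξ')
      rw [ptsOfSp_ptsToSp] at h3
      have h4 : AlgSt.Points.map Φ ξ' = AlgSt.Points.mk (resFPt T t) := by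
        rw [hΦ, points_map_comp]
        exact hw1
      have h5 := ptOf_eq_of_mk_eq (h3.symm.trans h4)
      rw [ptOf_resFPt, ptOf_resFPt] at h5
      exact h5
    · show AlgSt.Points.map π (ptsOfSp (ptsToSp ξ')) = _
      rw [ptsOfSp_ptsToSp, hπ, points_map_comp]
      exact hw2

theorem conj_eq {A B T Z : Type*} [TopologicalSpace A] [TopologicalSpace B] [TopologicalSpace T]
    [TopologicalSpace Z] (h₁ : A ≃ₜ B) (h₂ : T ≃ₜ Z) (s : A → T) (b : B → Z)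
    (hc : ∀ x, b (h₁ x) = h₂ (s x)) : s = h₂.symm ∘ b ∘ h₁ := by
  funext x
  simp [hc]

section Main

variable (h𝒳 : AlgSt.IsAlgStack Scheme.fppfPrecoverage 𝒳)
  (h𝒴 : AlgSt.IsAlgStack Scheme.fppfPrecoverage 𝒴) (f : 𝒳 ⥤ᵇ 𝒴)

include h𝒳 h𝒴

/-- The chart square for a base change of a representable morphism. -/
theorem exists_cartSq_of_rep (P : MorphismProperty (AlgSp.Sp S))
    (hP : AlgSt.RepByAlgSpWith (AlgSp.UnivSp P) f) (𝒵 : AlgSt.Cat S)
    (h𝒵 : AlgSt.IsAlgStack Scheme.fppfPrecoverage 𝒵) (g : 𝒵 ⥤ᵇ 𝒴) :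
    ∃ (T : Over S) (F : AlgSp.Sp S) (φ : F ⟶ (AlgSp.yon S).obj T)
      (π' : AlgSp.Points F → AlgSt.Points (FibCat.fp g f)) (ζ : ↥T.left → AlgSt.Points 𝒵),
      P φ ∧ CartSq π' ζ (fun η => AlgSp.Points.toScheme T (AlgSp.Points.map φ η))
        (AlgSt.Points.map (FibCat.fpFst g f)) := by
  have a1 : AlgSt.IsAlgStack Scheme.fppfPrecoverage (FibCat.fp g f) :=
    Groth.Agent.S12763.result h𝒴.isStack h𝒴.diag h𝒵 h𝒳 g f
  have hP' := repByAlgSpWith_fpFst _ f g hP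
  obtain ⟨T, z, hz1, hz2⟩ := h𝒵.atlas
  obtain ⟨F, e, he, hφ⟩ := hP' T z
  obtain ⟨π', hsq⟩ := exists_cartSq a1 h𝒵 (FibCat.fpFst g f) T z hz1 hz2 F e he
  exact ⟨T, F.obj, _, π', _, hφ (AlgSp.IsAlgSpace.yon_obj T) (𝟙 _) (𝟙 _) _ IsPullback.of_id_fst, hsq⟩

theorem univOpen_iff (hf : AlgSt.RepByAlgSp1 f) :
    AlgSt.RepByAlgSpWith AlgSp.IsUnivOpenMor f ↔ AlgSt.IsUnivOpen Scheme.fppfPrecoverage f := by
  constructor
  · intro hP 𝒵 h𝒵 g
    obtain ⟨T, F, φ, π', ζ, hφ, hsq⟩ := exists_cartSq_of_rep h𝒳 h𝒴 f _ hP 𝒵 h𝒵 g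
    exact hsq.isOpenMap ((AlgSp.Points.schemeHomeo T).symm.isOpenMap.comp hφ)
  · intro H U y
    obtain ⟨F, e, he⟩ := hf U y
    refine ⟨F, e, he, ?_⟩
    intro Z Z' hZ g fst snd sq
    obtain ⟨k, h₁, h₂, hc⟩ := exists_homeo_square h𝒳 h𝒴 f U y F e he hZ g fst snd sq
    have hb := H (AlgSt.ofSp Z) (isAlgStack_ofSp ⟨Z, hZ⟩) k
    show IsOpenMap (AlgSp.Points.map snd)
    rw [conj_eq h₁ h₂ _ _ hc]
    exact h₂.symm.isOpenMap.comp (hb.comp h₁.isOpenMap)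

theorem univClosed_iff (hf : AlgSt.RepByAlgSp1 f) :
    AlgSt.RepByAlgSpWith AlgSp.IsUnivClosedMor f ↔ AlgSt.IsUnivClosed Scheme.fppfPrecoverage f := by
  constructor
  · intro hP 𝒵 h𝒵 g
    obtain ⟨T, F, φ, π', ζ, hφ, hsq⟩ := exists_cartSq_of_rep h𝒳 h𝒴 f _ hP 𝒵 h𝒵 g
    exact hsq.isClosedMap ((AlgSp.Points.schemeHomeo T).symm.isClosedMap.comp hφ)
  · intro H U y
    obtain ⟨F, e, he⟩ := hf U y
    refine ⟨F, e, he, ?_⟩
    intro Z Z' hZ g fst snd sq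
    obtain ⟨k, h₁, h₂, hc⟩ := exists_homeo_square h𝒳 h𝒴 f U y F e he hZ g fst snd sq
    have hb := H (AlgSt.ofSp Z) (isAlgStack_ofSp ⟨Z, hZ⟩) k
    show IsClosedMap (AlgSp.Points.map snd)
    rw [conj_eq h₁ h₂ _ _ hc]
    exact h₂.symm.isClosedMap.comp (hb.comp h₁.isClosedMap)

theorem univInjective_iff (hf : AlgSt.RepByAlgSp1 f) :
    AlgSt.RepByAlgSpWith AlgSp.IsUnivInjectiveMor f ↔
      AlgSt.IsUnivInjective Scheme.fppfPrecoverage f := by
  constructor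
  · intro hP 𝒵 h𝒵 g
    obtain ⟨T, F, φ, π', ζ, hφ, hsq⟩ := exists_cartSq_of_rep h𝒳 h𝒴 f _ hP 𝒵 h𝒵 g
    exact hsq.injective ((AlgSp.Points.schemeHomeo T).symm.injective.comp hφ)
  · intro H U y
    obtain ⟨F, e, he⟩ := hf U y
    refine ⟨F, e, he, ?_⟩
    intro Z Z' hZ g fst snd sq
    obtain ⟨k, h₁, h₂, hc⟩ := exists_homeo_square h𝒳 h𝒴 f U y F e he hZ g fst snd sq
    have hb := H (AlgSt.ofSp Z) (isAlgStack_ofSp ⟨Z, hZ⟩) k
    show Function.Injective (AlgSp.Points.map snd)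
    rw [conj_eq h₁ h₂ _ _ hc]
    exact h₂.symm.injective.comp (hb.comp h₁.injective)

theorem univSubmersive_iff (hf : AlgSt.RepByAlgSp1 f) :
    AlgSt.RepByAlgSpWith AlgSp.IsUnivSubmersiveMor f ↔
      ∀ (𝒵 : AlgSt.Cat S), AlgSt.IsAlgStack Scheme.fppfPrecoverage 𝒵 → ∀ (g : 𝒵 ⥤ᵇ 𝒴),
        Topology.IsQuotientMap (AlgSt.Points.map (FibCat.fpFst g f)) := by
  constructor
  · intro hP 𝒵 h𝒵 g
    obtain ⟨T, F, φ, π', ζ, hφ, hsq⟩ := exists_cartSq_of_rep h𝒳 h𝒴 f _ hP 𝒵 h𝒵 g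
    exact hsq.isQuotientMap ((AlgSp.Points.schemeHomeo T).symm.isQuotientMap.comp hφ)
  · intro H U y
    obtain ⟨F, e, he⟩ := hf U y
    refine ⟨F, e, he, ?_⟩
    intro Z Z' hZ g fst snd sq
    obtain ⟨k, h₁, h₂, hc⟩ := exists_homeo_square h𝒳 h𝒴 f U y F e he hZ g fst snd sq
    have hb := H (AlgSt.ofSp Z) (isAlgStack_ofSp ⟨Z, hZ⟩) k
    show Topology.IsQuotientMap (AlgSp.Points.map snd)
    rw [conj_eq h₁ h₂ _ _ hc]
    exact h₂.symm.isQuotientMap.comp (hb.comp h₁.isQuotientMap)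

theorem univHomeo_iff (hf : AlgSt.RepByAlgSp1 f) :
    AlgSt.RepByAlgSpWith AlgSp.IsUnivHomeoMor f ↔ AlgSt.IsUnivHomeo Scheme.fppfPrecoverage f := by
  constructor
  · intro hP 𝒵 h𝒵 g
    obtain ⟨T, F, φ, π', ζ, hφ, hsq⟩ := exists_cartSq_of_rep h𝒳 h𝒴 f _ hP 𝒵 h𝒵 g
    exact hsq.isHomeomorph ((AlgSp.Points.schemeHomeo T).symm.isHomeomorph.comp hφ)
  · intro H U y
    obtain ⟨F, e, he⟩ := hf U y
    refine ⟨F, e, he, ?_⟩
    intro Z Z' hZ g fst snd sq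
    obtain ⟨k, h₁, h₂, hc⟩ := exists_homeo_square h𝒳 h𝒴 f U y F e he hZ g fst snd sq
    have hb := H (AlgSt.ofSp Z) (isAlgStack_ofSp ⟨Z, hZ⟩) k
    show IsHomeomorph (AlgSp.Points.map snd)
    rw [conj_eq h₁ h₂ _ _ hc]
    exact h₂.symm.isHomeomorph.comp (hb.comp h₁.isHomeomorph)

end Main

end H10PT
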