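import Mathlib
import Groth.Agent.Lib.Helper10.AlgStQCMor
import Groth.Agent.Lib.Helper28.AlgSt.SpaceCalc
import Groth.Agent.Lib.Helper28.AlgSt.Good
import Groth.Agent.Lib.Helper16.QuasiCompact
import Groth.Agent.Lib.Helper16.FibreProduct

/-!
# Quasi-compact representable morphisms of algebraic stacks

* `isQuasiCompactSp_of_isQuasiCompact_ofSp`: an algebraic space whose stack is quasi-compact is
  quasi-compact.
* `rep_of_isQuasiCompactMor`: a quasi-compact morphism of algebraic stacks that is representable by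
  algebraic spaces has quasi-compact base changes to schemes.
-/

set_option autoImplicit false
set_option backward.isDefEq.respectTransparency false
set_option backward.isDefEq.respectTransparency.types false

universe u

open CategoryTheory CategoryTheory.Limits AlgebraicGeometry Opposite

namespace H10PT

open Groth.Agent.Lib.Helper10.Fib Groth.Agent.Lib.Helper10.AlgStRep
open Groth.Agent.Lib.Helper28.AlgSt.ChartOver Groth.Agent.Lib.Helper28.AlgSt.PropInst
open Groth.Agent.Lib.Helper28.AlgSt.Bridge Groth.Agent.Lib.Helper28.AlgSt.Descent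
open Groth.Agent.Lib.Helper28.AlgSt.Whisker Groth.Agent.Lib.Helper28.AlgSt.Key
open Groth.Agent.Lib.Helper28.AlgSt.SpaceCalc
open Groth.Agent.Lib.Helper16

variable {S : Scheme.{u}} {𝒳 𝒴 𝒵 : AlgSt.Cat S}

theorem isQuasiCompactSp_of_isQuasiCompact_ofSp (G₀ : AlgSp.Space S)
    (h : AlgSt.IsQuasiCompact (AlgSt.ofSp G₀.obj)) : AlgSp.IsQuasiCompactSp G₀.obj := by
  obtain ⟨U, x, hU, hx1, hx2⟩ := h
  haveI := hU
  obtain ⟨m, ⟨iso⟩⟩ := exists_mapOf (A := (AlgSp.ofScheme S).obj U) (B := G₀) (AlgSt.toOverCat U)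
    (BasedFunctor.id _) (isEquivOver_id _) x
  have hm : AlgSp.IsSurjectiveMor m.hom :=
    prop_map_of_repByAlgSpWith AlgSp.IsSurjectiveMor good_surjective.bc good_surjective.loc
      (AlgSt.toOverCat U) (BasedFunctor.id _) (isEquivOver_toOverCat U) (isEquivOver_id _) x m iso hx2
  have hps : AlgSp.RepWith @Surjective m.hom :=
    (repWith_surjective_iff _ (G₀.property.representable_from_yon _)).2 hm
  haveI : CompactSpace (AlgSp.Points G₀.obj) := compactSpace_points_of_chart (U := U) m.hom hps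
  exact isQuasiCompactSp_of_compactSpace G₀.property

theorem rep_of_isQuasiCompactMor (f : 𝒳 ⥤ᵇ 𝒴) (hf : AlgSt.RepByAlgSp1 f)
    (H : AlgSt.IsQuasiCompactMor Scheme.fppfPrecoverage f) :
    AlgSt.RepByAlgSpWith AlgSp.IsQuasiCompactMor f := by
  intro U y
  obtain ⟨F, e, he⟩ := hf U y
  refine ⟨F, e, he, ?_⟩
  intro Z Z' hZ hqZ g fst snd sq
  obtain ⟨Φ, hΦ⟩ : ∃ Φ : AlgSt.ofSp F.obj ⥤ᵇ FibCat.overCat U,
      Φ = BasedFunctor.comp e (FibCat.fpFst y f) := ⟨_, rfl⟩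
  rw [← hΦ] at sq
  obtain ⟨mj, hmj⟩ : ∃ mj : (⟨Z, hZ⟩ : AlgSp.Space S) ⟶ (AlgSp.ofScheme S).obj U,
      mj = ObjectProperty.homMk g := ⟨_, rfl⟩
  obtain ⟨mk, hmk⟩ : ∃ mk : F ⟶ (AlgSp.ofScheme S).obj U,
      mk = ObjectProperty.homMk (AlgSt.spMapOfOver Φ) := ⟨_, rfl⟩
  have hmj' : mj.hom = g := by rw [hmj]; rfl
  have hmk' : mk.hom = AlgSt.spMapOfOver Φ := by rw [hmk]; rfl
  have hP : AlgSp.IsAlgSpace (pullback mk.hom mj.hom) :=
    isAlgSpace_of_isPullback F.property (AlgSp.IsAlgSpace.yon_obj U).diag hZ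
      (IsPullback.of_hasPullback mk.hom mj.hom)
  obtain ⟨G, hG⟩ : ∃ G : AlgSt.ofSp Z ⥤ᵇ FibCat.overCat U,
      G = BasedFunctor.comp (AlgSt.ofSpMap mj.hom) (AlgSt.toOverCat U) := ⟨_, rfl⟩
  have q0 : AlgSt.IsQuasiCompact (AlgSt.ofSp Z) := isQuasiCompact_ofSp ⟨Z, hZ⟩ hqZ
  have q1 : AlgSt.IsQuasiCompact (FibCat.fp (BasedFunctor.comp G y) f) :=
    H (AlgSt.ofSp Z) (isAlgStack_ofSp ⟨Z, hZ⟩) q0 (BasedFunctor.comp G y)
  have q2 : AlgSt.IsQuasiCompact (FibCat.fp G (FibCat.fpFst y f)) :=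
    isQuasiCompact_of_isEquivOver' (paste1 G y f) (isEquivOver_paste1 G y f) q1
  have isoj : BasedFunctor.comp (BasedFunctor.id (AlgSt.ofSp Z)) G ≅
      BasedFunctor.comp (AlgSt.ofSpMap mj.hom) (AlgSt.toOverCat U) := by
    rw [hG]
    exact Iso.refl _
  have isok : BasedFunctor.comp e (FibCat.fpFst y f) ≅
      BasedFunctor.comp (AlgSt.ofSpMap mk.hom) (AlgSt.toOverCat U) := by
    rw [← hΦ, hmk']
    exact spIso Φ
  have q3 : AlgSt.IsQuasiCompact (AlgSt.ofSp (pullback mk.hom mj.hom)) :=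
    isQuasiCompact_of_isEquivOver'
      (fpSpEquiv (A := ⟨Z, hZ⟩) (B := (AlgSp.ofScheme S).obj U) (D := F)
        (BasedFunctor.id (AlgSt.ofSp Z)) (AlgSt.toOverCat U) e G (FibCat.fpFst y f) mj mk isoj isok)
      (isEquivOver_fpSpEquiv (A := ⟨Z, hZ⟩) (B := (AlgSp.ofScheme S).obj U) (D := F)
        (BasedFunctor.id (AlgSt.ofSp Z)) (AlgSt.toOverCat U) e (isEquivOver_id _)
        (isEquivOver_toOverCat U) he G (FibCat.fpFst y f) mj mk isoj isok) q2
  have q4 : AlgSp.IsQuasiCompactSp (pullback mk.hom mj.hom) :=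
    isQuasiCompactSp_of_isQuasiCompact_ofSp ⟨_, hP⟩ q3
  obtain ⟨T, p, hpe, hps, hT⟩ := q4
  have sq' : IsPullback fst snd mk.hom mj.hom := by
    rw [hmk', hmj']
    exact sq
  refine ⟨T, p ≫ sq'.isoPullback.inv, ?_, ?_, hT⟩
  · exact ((AlgSp.RepWith @Etale).cancel_right_of_respectsIso p sq'.isoPullback.inv).2 hpe
  · exact ((AlgSp.RepWith @Surjective).cancel_right_of_respectsIso p sq'.isoPullback.inv).2 hps

end H10PT
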