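import Mathlib
import Groth.Prelude.Def_FibCat2
import Groth.Agent.Lib.Helper10.FibOver
import Groth.Agent.Lib.Helper10.FibBC
import Groth.Agent.Lib.Helper10.FibRep
import Groth.Agent.Lib.Helper10.Fib7
import Groth.Agent.Lib.Helper10.Fib5

/-!
# The functor `C/X ⟶ C/Y` of a morphism is a representable 1-morphism

* `overMap g`: `Over.map g` as a functor over `C`.
* `isRepresentable_fp_overMap`: `(C/U) ×_{C/Y} (C/X)` has a terminal object (given by the fibre
  product `U ×_Y X`), hence is representable.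
* `isRepresentable1_overMap`.
-/

set_option autoImplicit false
set_option linter.style.haveILetI false
set_option backward.isDefEq.respectTransparency false
set_option backward.isDefEq.respectTransparency.types false

universe v u

open CategoryTheory Functor CategoryTheory.Limits

noncomputable section

namespace Groth.Agent.Lib.Helper10.FibOverMap

open Groth.Agent.Lib.Helper10.Fib

variable {C : Type u} [Category.{v} C]

/-- `Over.map g` as a functor over `C`. -/
def overMap {U Y : C} (g : U ⟶ Y) : FibCat.overCat U ⥤ᵇ FibCat.overCat Y :=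
  ⟨Over.map g, Over.mapForget_eq g⟩

lemma id_full' (𝒮 : BasedCategory.{v, max u v} C) : (BasedFunctor.id 𝒮).toFunctor.Full := by
  change (𝟭 𝒮.obj).Full
  infer_instance

lemma id_faithful' (𝒮 : BasedCategory.{v, max u v} C) :
    (BasedFunctor.id 𝒮).toFunctor.Faithful := by
  change (𝟭 𝒮.obj).Faithful
  infer_instance

section Terminal

variable [HasPullbacks C] {U X Y : C} (g : U ⟶ Y) (f : X ⟶ Y)

/-- The structure isomorphism of the terminal object. -/
def tIso : (overMap g).obj (Over.mk (pullback.fst g f)) ≅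
    (overMap f).obj (Over.mk (pullback.snd g f)) :=
  Over.isoMk (Iso.refl (pullback g f)) (by
    show 𝟙 (pullback g f) ≫ (pullback.snd g f ≫ f) = pullback.fst g f ≫ g
    rw [Category.id_comp, pullback.condition])

lemma tIso_hom_left : (tIso g f).hom.left = 𝟙 (pullback g f) := rfl

/-- The terminal object of `(C/U) ×_{C/Y} (C/X)`. -/
def tObj : (FibCat.fp (overMap g) (overMap f)).obj :=
  ⟨⟨Over.mk (pullback.fst g f), Over.mk (pullback.snd g f), tIso g f⟩,
    (isHomLift_iff_eq (Over.forget Y) (a := (overMap g).obj (Over.mk (pullback.fst g f)))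
      (b := (overMap f).obj (Over.mk (pullback.snd g f))) (𝟙 (pullback g f))
      (tIso g f).hom).2 rfl⟩

variable {g f}

omit [HasPullbacks C] in
lemma aux1 {P A B : C} (τ : A ⟶ B) (σ : B ⟶ A) (l : A ⟶ P) (hτσ : τ ≫ σ = 𝟙 A) :
    l ≫ 𝟙 P = τ ≫ (σ ≫ l) := by
  rw [Category.comp_id, ← Category.assoc, hτσ, Category.id_comp]

omit [HasPullbacks C] in
lemma aux2 {A B P Z : C} (σ : B ⟶ A) (τ : A ⟶ B) (l : A ⟶ P) (s : P ⟶ Z) (bh : B ⟶ Z)
    (h1 : l ≫ s = τ ≫ bh) (hστ : σ ≫ τ = 𝟙 B) : (σ ≫ l) ≫ s = bh := by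
  rw [Category.assoc, h1, ← Category.assoc, hστ, Category.id_comp]

omit [HasPullbacks C] in
lemma aux3 {A B P Z : C} (τ : A ⟶ B) (mfl : A ⟶ P) (msl : B ⟶ P) (s : P ⟶ Z) (bh : B ⟶ Z)
    (h3 : mfl = τ ≫ msl) (h2 : msl ≫ s = bh) : mfl ≫ s = τ ≫ bh := by
  rw [h3, Category.assoc, h2]

omit [HasPullbacks C] in
lemma aux4 {A B P : C} (σ : B ⟶ A) (τ : A ⟶ B) (l : A ⟶ P) (msl : B ⟶ P)
    (h3 : l = τ ≫ msl) (hστ : σ ≫ τ = 𝟙 B) : msl = σ ≫ l := by
  rw [h3, ← Category.assoc, hστ, Category.id_comp]

lemma hom_inv_left (x : (FibCat.fp (overMap g) (overMap f)).obj) :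
    x.obj.iso.hom.left ≫ x.obj.iso.inv.left = 𝟙 x.obj.fst.left :=
  congrArg (fun t => t.left) x.obj.iso.hom_inv_id

lemma inv_hom_left (x : (FibCat.fp (overMap g) (overMap f)).obj) :
    x.obj.iso.inv.left ≫ x.obj.iso.hom.left = 𝟙 x.obj.snd.left :=
  congrArg (fun t => t.left) x.obj.iso.inv_hom_id

lemma hw_left (x : (FibCat.fp (overMap g) (overMap f)).obj) :
    x.obj.fst.hom ≫ g = (x.obj.iso.hom.left ≫ x.obj.snd.hom) ≫ f :=
  (Over.w x.obj.iso.hom).symm.trans (Category.assoc _ _ _).symm

/-- The underlying morphism to the fibre product. -/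
def toTLeft (x : (FibCat.fp (overMap g) (overMap f)).obj) : x.obj.fst.left ⟶ pullback g f :=
  pullback.lift x.obj.fst.hom (x.obj.iso.hom.left ≫ x.obj.snd.hom) (hw_left x)

lemma toTLeft_fst (x : (FibCat.fp (overMap g) (overMap f)).obj) :
    toTLeft x ≫ pullback.fst g f = x.obj.fst.hom := pullback.lift_fst _ _ _

lemma toTLeft_snd (x : (FibCat.fp (overMap g) (overMap f)).obj) :
    toTLeft x ≫ pullback.snd g f = x.obj.iso.hom.left ≫ x.obj.snd.hom := pullback.lift_snd _ _ _

/-- The morphism to the terminal object. -/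
def toT (x : (FibCat.fp (overMap g) (overMap f)).obj) : x ⟶ tObj g f :=
  ObjectProperty.homMk
    { fst := Over.homMk (toTLeft x) (toTLeft_fst x)
      snd := Over.homMk (x.obj.iso.inv.left ≫ toTLeft x)
        (aux2 x.obj.iso.inv.left x.obj.iso.hom.left (toTLeft x) (pullback.snd g f)
          x.obj.snd.hom (toTLeft_snd x) (inv_hom_left x))
      w := by
        apply Over.OverMorphism.ext
        exact aux1 x.obj.iso.hom.left x.obj.iso.inv.left (toTLeft x) (hom_inv_left x) }

lemma toT_uniq (x : (FibCat.fp (overMap g) (overMap f)).obj) (m : x ⟶ tObj g f) : m = toT x := by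
  have h1 : m.hom.fst.left ≫ pullback.fst g f = x.obj.fst.hom := Over.w m.hom.fst
  have h2 : m.hom.snd.left ≫ pullback.snd g f = x.obj.snd.hom := Over.w m.hom.snd
  have h3' : m.hom.fst.left ≫ 𝟙 (pullback g f) = x.obj.iso.hom.left ≫ m.hom.snd.left :=
    congrArg (fun t => t.left) m.hom.w
  have h3 : m.hom.fst.left = x.obj.iso.hom.left ≫ m.hom.snd.left :=
    (Category.comp_id _).symm.trans h3'
  have hfst : m.hom.fst.left = toTLeft x := by
    apply pullback.hom_ext
    · exact h1.trans (toTLeft_fst x).symm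
    · exact (aux3 x.obj.iso.hom.left m.hom.fst.left m.hom.snd.left (pullback.snd g f)
        x.obj.snd.hom h3 h2).trans (toTLeft_snd x).symm
  apply ObjectProperty.hom_ext
  apply CategoricalPullback.hom_ext
  · apply Over.OverMorphism.ext
    exact hfst
  · apply Over.OverMorphism.ext
    exact aux4 x.obj.iso.inv.left x.obj.iso.hom.left (toTLeft x) m.hom.snd.left
      (hfst.symm.trans h3) (inv_hom_left x)

variable (g f)

/-- `tObj` is terminal. -/
def tIsTerminal : IsTerminal (tObj g f) :=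
  IsTerminal.ofUniqueHom (fun x => toT x) (fun x m => toT_uniq x m)

theorem isRepresentable_fp_overMap :
    FibCat.IsRepresentable (FibCat.fp (overMap g) (overMap f)) := by
  have h1 : FibCat.IsFibGrpd (FibCat.fp (overMap g) (overMap f)).p :=
    isFibGrpd_fp _ _ (isFibGrpd_overForget U) (isFibGrpd_overForget X) (isFibGrpd_overForget Y)
  exact isRepresentable_of_terminal h1 (tIsTerminal g f)

end Terminal

theorem isRepresentable1_overMap [HasPullbacks C] {X Y : C} (f : X ⟶ Y) :
    FibCat.IsRepresentable1 (overMap f) := by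
  intro U G
  have hU : (G.obj (Over.mk (𝟙 U))).left = U := G.w_obj (Over.mk (𝟙 U))
  obtain ⟨g, hg⟩ : ∃ g : U ⟶ Y, g = eqToHom hU.symm ≫ (G.obj (Over.mk (𝟙 U))).hom := ⟨_, rfl⟩
  have e₁ : BasedFunctor.comp (overMap g) (BasedFunctor.id (FibCat.overCat Y)) ≅
      BasedFunctor.comp (BasedFunctor.id (FibCat.overCat U)) G := by
    refine overIso _ _ (fun A => ?_)
    have hA : (G.obj A).left = A.left := G.w_obj A
    have h1 : (G.map (toTerminal U A)).left = eqToHom hA ≫ A.hom ≫ eqToHom hU.symm :=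
      Functor.congr_hom G.w (toTerminal U A)
    have h2 : (G.map (toTerminal U A)).left ≫ (G.obj (Over.mk (𝟙 U))).hom = (G.obj A).hom :=
      Over.w (G.map (toTerminal U A))
    show A.hom ≫ g = eqToHom _ ≫ (G.obj A).hom
    rw [← h2, h1, hg]
    simp
  have e₂ : BasedFunctor.comp (overMap f) (BasedFunctor.id (FibCat.overCat Y)) ≅
      BasedFunctor.comp (BasedFunctor.id (FibCat.overCat X)) (overMap f) := Iso.refl _
  haveI := id_full' (FibCat.overCat Y)
  haveI := id_faithful' (FibCat.overCat Y)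
  have hE := isEquivOver_fpMap e₁ e₂ (isEquivOver_id _) (isEquivOver_id _)
  exact isRepresentable_of_isEquivOver' (fpMap e₁ e₂) hE (isRepresentable_fp_overMap g f)

end Groth.Agent.Lib.Helper10.FibOverMap
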