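import Mathlib
import Groth.Agent.Lib.Helper10.AlgStQCMor
import Groth.Agent.Lib.Helper10.FibOverMap
import Groth.Agent.Lib.Helper28.AlgSt.SpaceStack

/-!
# Quasi-compactness over a quasi-separated base scheme

* `isQuasiCompact_overCat_of_compact`: `(Sch/W)` is quasi-compact for `W` quasi-compact.
* `isQuasiCompact_fp_of_surj_left/right`: quasi-compactness of a 2-fibre product descends along
  surjections in either variable.
* `isQuasiCompact_fp_overCat_self`: `(Sch/U) ×_S (Sch/V)` is quasi-compact for `U`, `V` quasi-compact and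
  `S` quasi-separated.
* `isQuasiCompactMor_toSelf`: a quasi-compact algebraic stack is quasi-compact over a quasi-separated
  base scheme.
* `isQuasiCompactMor_of_isQuasiCompact_of_qs`.
-/

set_option autoImplicit false
set_option backward.isDefEq.respectTransparency false
set_option backward.isDefEq.respectTransparency.types false

universe u

open CategoryTheory CategoryTheory.Limits AlgebraicGeometry Opposite

namespace H10PT

open Groth.Agent.Lib.Helper10.Fib Groth.Agent.Lib.Helper10.AlgStRep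
open Groth.Agent.Lib.Helper10.FibOverMap
open Groth.Agent.Lib.Helper28.AlgSt.ChartOver Groth.Agent.Lib.Helper28.AlgSt.PropInst
open Groth.Agent.Lib.Helper28.AlgSt.Bridge Groth.Agent.Lib.Helper28.AlgSt.Descent
open Groth.Agent.Lib.Helper28.AlgSt.Whisker Groth.Agent.Lib.Helper28.AlgSt.Key
open Groth.Agent.Lib.Helper28.AlgSt.DiagRep Groth.Agent.Lib.Helper28.AlgSt.SpaceStack
open Groth.Agent.Lib.Helper16

variable {S : Scheme.{u}} {𝒳 𝒴 𝒵 𝒰 𝒱 : AlgSt.Cat S}

theorem basedFunctor_ext {C : Type*} [Category C] {𝒜 ℬ : BasedCategory C} {F G : 𝒜 ⥤ᵇ ℬ}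
    (h : F.toFunctor = G.toFunctor) : F = G := by
  cases F
  cases G
  cases h
  rfl

theorem comp_toSelf (b : 𝒵 ⥤ᵇ 𝒴) :
    BasedFunctor.comp b (FibCat.toSelf 𝒴) = FibCat.toSelf 𝒵 :=
  basedFunctor_ext b.w

theorem isAlgStack_selfOver :
    AlgSt.IsAlgStack Scheme.fppfPrecoverage (FibCat.selfOver (Over S)) :=
  isAlgStack_of_repByAlgSp repByAlgSp_selfOver

theorem isQuasiCompact_overCat_of_compact (W : Over S) [CompactSpace W.left] :
    AlgSt.IsQuasiCompact (FibCat.overCat W) := by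
  haveI := compactSpace_points_overCat W
  exact isQuasiCompact_of_compactSpace_points (isAlgStack_overCat W)

theorem isQuasiCompact_fp_of_surj_left (h𝒰 : AlgSt.IsAlgStack Scheme.fppfPrecoverage 𝒰)
    (h𝒳 : AlgSt.IsAlgStack Scheme.fppfPrecoverage 𝒳)
    (h𝒴 : AlgSt.IsAlgStack Scheme.fppfPrecoverage 𝒴)
    (h𝒵 : AlgSt.IsAlgStack Scheme.fppfPrecoverage 𝒵) (u : 𝒰 ⥤ᵇ 𝒵)
    (hu : AlgSt.RepByAlgSpWith AlgSp.IsSurjectiveMor u) (k : 𝒵 ⥤ᵇ 𝒴) (h : 𝒳 ⥤ᵇ 𝒴)
    (q : AlgSt.IsQuasiCompact (FibCat.fp (BasedFunctor.comp u k) h)) :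
    AlgSt.IsQuasiCompact (FibCat.fp k h) := by
  have q2 : AlgSt.IsQuasiCompact (FibCat.fp u (FibCat.fpFst k h)) :=
    isQuasiCompact_of_isEquivOver' (paste1 u k h) (isEquivOver_paste1 u k h) q
  have a1 : AlgSt.IsAlgStack Scheme.fppfPrecoverage (FibCat.fp k h) :=
    Groth.Agent.S12763.result h𝒴.isStack h𝒴.diag h𝒵 h𝒳 k h
  have a2 : AlgSt.IsAlgStack Scheme.fppfPrecoverage (FibCat.fp u (FibCat.fpFst k h)) :=
    Groth.Agent.S12763.result h𝒵.isStack h𝒵.diag h𝒰 a1 u (FibCat.fpFst k h)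
  have hs := repByAlgSpWith_fpSnd _ u (FibCat.fpFst k h) hu
  exact isQuasiCompact_of_isSurjective a2 a1 _ (isSurjective_of_rep a1.isStack.1 _ hs) q2

theorem isQuasiCompact_fp_of_surj_right (h𝒱 : AlgSt.IsAlgStack Scheme.fppfPrecoverage 𝒱)
    (h𝒳 : AlgSt.IsAlgStack Scheme.fppfPrecoverage 𝒳)
    (h𝒴 : AlgSt.IsAlgStack Scheme.fppfPrecoverage 𝒴)
    (h𝒵 : AlgSt.IsAlgStack Scheme.fppfPrecoverage 𝒵) (x : 𝒱 ⥤ᵇ 𝒳)
    (hx : AlgSt.RepByAlgSpWith AlgSp.IsSurjectiveMor x) (k : 𝒵 ⥤ᵇ 𝒴) (h : 𝒳 ⥤ᵇ 𝒴)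
    (q : AlgSt.IsQuasiCompact (FibCat.fp k (BasedFunctor.comp x h))) :
    AlgSt.IsQuasiCompact (FibCat.fp k h) := by
  have q2 : AlgSt.IsQuasiCompact (FibCat.fp (FibCat.fpSnd k h) x) :=
    isQuasiCompact_of_isEquivOver' (paste2 k h x) (isEquivOver_paste2 k h x) q
  have a1 : AlgSt.IsAlgStack Scheme.fppfPrecoverage (FibCat.fp k h) :=
    Groth.Agent.S12763.result h𝒴.isStack h𝒴.diag h𝒵 h𝒳 k h
  have a2 : AlgSt.IsAlgStack Scheme.fppfPrecoverage (FibCat.fp (FibCat.fpSnd k h) x) :=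
    Groth.Agent.S12763.result h𝒳.isStack h𝒳.diag a1 h𝒱 (FibCat.fpSnd k h) x
  have hs := repByAlgSpWith_fpFst _ x (FibCat.fpSnd k h) hx
  exact isQuasiCompact_of_isSurjective a2 a1 _ (isSurjective_of_rep a1.isStack.1 _ hs) q2

theorem compactSpace_pullback_left [QuasiSeparatedSpace S] (U V : Over S) [CompactSpace U.left]
    [CompactSpace V.left] (g : U ⟶ Over.mk (𝟙 S)) (f : V ⟶ Over.mk (𝟙 S)) :
    CompactSpace (pullback g f).left := by
  have sq := (IsPullback.of_hasPullback g f).map (Over.forget S)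
  haveI : QuasiCompact ((Over.forget S).map g) := by
    show @QuasiCompact U.left S g.left
    infer_instance
  haveI : QuasiCompact ((Over.forget S).map (pullback.snd g f)) :=
    MorphismProperty.of_isPullback sq ‹_›
  haveI : CompactSpace ((Over.forget S).obj V) := ‹CompactSpace V.left›
  exact QuasiCompact.compactSpace_of_compactSpace ((Over.forget S).map (pullback.snd g f))

theorem isQuasiCompact_fp_overCat_self [QuasiSeparatedSpace S] (U V : Over S)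
    [CompactSpace U.left] [CompactSpace V.left]
    (a : FibCat.overCat U ⥤ᵇ FibCat.selfOver (Over S))
    (b : FibCat.overCat V ⥤ᵇ FibCat.selfOver (Over S)) :
    AlgSt.IsQuasiCompact (FibCat.fp a b) := by
  obtain ⟨g, -⟩ : ∃ _ : U ⟶ Over.mk (𝟙 S), True := ⟨Over.mkIdTerminal.from U, trivial⟩
  obtain ⟨f, -⟩ : ∃ _ : V ⟶ Over.mk (𝟙 S), True := ⟨Over.mkIdTerminal.from V, trivial⟩
  haveI := compactSpace_pullback_left U V g f
  have h1 : FibCat.IsFibGrpd (FibCat.fp (overMap g) (overMap f)).p :=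
    isFibGrpd_fp _ _ (isFibGrpd_overForget U) (isFibGrpd_overForget V) (isFibGrpd_overForget _)
  have qcW : AlgSt.IsQuasiCompact (FibCat.overCat (pullback g f)) :=
    isQuasiCompact_overCat_of_compact _
  have q1 : AlgSt.IsQuasiCompact (FibCat.fp (overMap g) (overMap f)) :=
    isQuasiCompact_of_isEquivOver' (toOverOfTerminal (tIsTerminal g f))
      (isEquivOver_toOverOfTerminal h1 (tIsTerminal g f)) qcW
  haveI : (FibCat.toSelf (FibCat.overCat (Over.mk (𝟙 S)))).toFunctor.IsEquivalence := by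
    show (Over.equivalenceOfIsTerminal (Over.mkIdTerminal (X := S))).functor.IsEquivalence
    infer_instance
  obtain ⟨e₁, -⟩ : ∃ _ : BasedFunctor.comp (overMap g)
      (FibCat.toSelf (FibCat.overCat (Over.mk (𝟙 S)))) ≅
      BasedFunctor.comp (BasedFunctor.id (FibCat.overCat U)) a, True := ⟨selfIso _ _, trivial⟩
  obtain ⟨e₂, -⟩ : ∃ _ : BasedFunctor.comp (overMap f)
      (FibCat.toSelf (FibCat.overCat (Over.mk (𝟙 S)))) ≅
      BasedFunctor.comp (BasedFunctor.id (FibCat.overCat V)) b, True := ⟨selfIso _ _, trivial⟩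
  exact isQuasiCompact_of_isEquivOver (fpMap e₁ e₂)
    (isEquivOver_fpMap e₁ e₂ (isEquivOver_id _) (isEquivOver_id _)) q1

theorem isQuasiCompactMor_toSelf [QuasiSeparatedSpace S]
    (h𝒳 : AlgSt.IsAlgStack Scheme.fppfPrecoverage 𝒳) (hqc : AlgSt.IsQuasiCompact 𝒳) :
    AlgSt.IsQuasiCompactMor Scheme.fppfPrecoverage (FibCat.toSelf 𝒳) := by
  intro 𝒵 h𝒵 hqcZ k
  obtain ⟨U, u, hU, hu1, hu2⟩ := hqcZ
  obtain ⟨V, x, hV, hx1, hx2⟩ := hqc
  haveI := hU
  haveI := hV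
  have hself : AlgSt.IsAlgStack Scheme.fppfPrecoverage (FibCat.selfOver (Over S)) :=
    isAlgStack_selfOver
  have q0 : AlgSt.IsQuasiCompact (FibCat.fp (BasedFunctor.comp u k)
      (BasedFunctor.comp x (FibCat.toSelf 𝒳))) := isQuasiCompact_fp_overCat_self U V _ _
  have q1 : AlgSt.IsQuasiCompact (FibCat.fp k (BasedFunctor.comp x (FibCat.toSelf 𝒳))) :=
    isQuasiCompact_fp_of_surj_left (isAlgStack_overCat U) (isAlgStack_overCat V) hself h𝒵 u hu2 k _ q0
  exact isQuasiCompact_fp_of_surj_right (isAlgStack_overCat V) h𝒳 hself h𝒵 x hx2 k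
    (FibCat.toSelf 𝒳) q1

theorem isQuasiCompactMor_of_isQuasiCompact_of_qs [QuasiSeparatedSpace S]
    (h𝒳 : AlgSt.IsAlgStack Scheme.fppfPrecoverage 𝒳)
    (h𝒴 : AlgSt.IsAlgStack Scheme.fppfPrecoverage 𝒴) (f : 𝒳 ⥤ᵇ 𝒴)
    (hqc : AlgSt.IsQuasiCompact 𝒳) (hqs : AlgSt.IsQuasiSeparatedOver 𝒴) :
    AlgSt.IsQuasiCompactMor Scheme.fppfPrecoverage f := by
  have h1 := isQuasiCompactMor_toSelf h𝒳 hqc
  have h2 : AlgSt.IsQuasiCompactMor Scheme.fppfPrecoverage
      (BasedFunctor.comp f (FibCat.toSelf 𝒴)) := by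
    rw [comp_toSelf f]
    exact h1
  exact isQuasiCompactMor_of_comp_of_qs h𝒳 h𝒴 isAlgStack_selfOver f (FibCat.toSelf 𝒴) h2
    (repByAlgSpWith_mono _ (fun _ _ _ h => h.1) hqs)

end H10PT
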