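import Mathlib
import Groth.Agent.Lib.Helper10.AlgStOpenImage
import Groth.Agent.Lib.Helper10.AlgStQCTop
import Groth.Agent.Lib.Helper16.AlgSt.LocQOne
import Groth.Agent.Lib.Helper16.FppfSmoothLocal
import Groth.Agent.S0115

/-!
# The largest open substack on which a morphism of algebraic stacks is smooth (helper10)

* `fppfSrc_smooth`, `isSmoothLocalST_locP_smooth`: smoothness is smooth local on source-and-target
  (from the fppf descent of smoothness on the source, `S0115`).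
* `homOfOver_overMap_comp`.
* `smooth_homOfOver_of_locQ_sub`, `smooth_chart_of_mem`: local smoothness of a chart morphism.
* `exists_largest_smooth_sub`.
-/

set_option autoImplicit false
set_option backward.isDefEq.respectTransparency false
set_option backward.isDefEq.respectTransparency.types false

universe u

open CategoryTheory CategoryTheory.Limits AlgebraicGeometry Opposite

namespace H10PT

open Groth.Agent.Lib.Helper10.Fib Groth.Agent.Lib.Helper10.AlgStRep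
open Groth.Agent.Lib.Helper10.LiftSqBC
open Groth.Agent.Lib.Helper28.AlgSt.Bridge Groth.Agent.Lib.Helper28.AlgSt.SpaceCalc
open Groth.Agent.Lib.Helper28.AlgSt.PropInst Groth.Agent.Lib.Helper28.AlgSt.Comp
open Groth.Agent.Lib.Helper28.AlgSt.Whisker Groth.Agent.Lib.Helper28.AlgSt.Key
open Groth.Agent.Lib.Helper28.AlgSt.Descent Groth.Agent.Lib.Helper28.AlgSt.DiagComp
open Groth.Agent.Lib.Helper28.AlgSt.ChartOver Groth.Agent.Lib.Helper28.AlgSt.IsoEquiv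
open Groth.Agent.Lib.Helper28.AlgSt.FpStack
open Groth.Agent.Lib.Helper16 Groth.Agent.Lib.Helper16.AlgStDC
open Groth.Agent.Lib.Helper10.StkSub

variable {S : Scheme.{u}} {𝒳 𝒴 : AlgSt.Cat S}

theorem fppfSrc_smooth :
    Groth.Agent.Lib.Helper16.FppfSrc (@Smooth : MorphismProperty Scheme.{u}) := by
  intro A B h H
  choose A' e he1 he2 he3 he4 using H
  haveI hE1 : Flat (Sigma.desc e) := IsZariskiLocalAtSource.sigmaDesc (P := @Flat) he1
  haveI hE2 : LocallyOfFinitePresentation (Sigma.desc e) :=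
    IsZariskiLocalAtSource.sigmaDesc (P := @LocallyOfFinitePresentation) he2
  haveI hE3 : Surjective (Sigma.desc e) := ⟨fun x => by
    obtain ⟨y, hy⟩ := he3 x
    refine ⟨(Sigma.ι A' x) y, ?_⟩
    rw [← Scheme.Hom.comp_apply, Sigma.ι_desc]
    exact hy⟩
  haveI hE4 : Smooth (Sigma.desc e ≫ h) := by
    have h1 : Sigma.desc e ≫ h = Sigma.desc (fun x => e x ≫ h) := by
      apply Sigma.hom_ext
      intro x
      simp
    rw [h1]
    exact IsZariskiLocalAtSource.sigmaDesc (P := @Smooth) he4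
  exact Groth.Agent.S0115.result (Sigma.desc e) h

theorem isSmoothLocalST_locP_smooth :
    AlgSp.IsSmoothLocalST (S := S) (AlgSp.LocP @Smooth) :=
  Groth.Agent.Lib.Helper16.isSmoothLocalST_locP_of_fppfSrc etLocalST_smooth good_smooth
    le_rfl fppfSrc_smooth

theorem homOfOver_overMap_comp {T U V : Over S} (a : T ⟶ U)
    (G : FibCat.overCat U ⥤ᵇ FibCat.overCat V) :
    homOfOver (BasedFunctor.comp (AlgSt.overMap a) G) = a ≫ homOfOver G := by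
  have e : BasedFunctor.comp (AlgSt.overMap a) G ≅ AlgSt.overMap (a ≫ homOfOver G) :=
    wl (AlgSt.overMap a) (isoOverMap G) ≪≫ overMapCompIso a (homOfOver G)
  rw [homOfOver_eq_of_iso e, Groth.Agent.Lib.Helper16.AlgStDC.homOfOver_overMap]

lemma id_sq_aux {D₁ D₂ E : Type*} [Category D₁] [Category D₂] [Category E] (F : D₁ ⥤ E)
    (G : D₂ ⥤ E) {a : D₁} {b : D₂} (m : F.obj a ⟶ G.obj b) :
    F.map (𝟙 a) ≫ m = (𝟙 _ ≫ m ≫ 𝟙 _) ≫ G.map (𝟙 b) := by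
  simp

/-- If `f` restricted to the open substack `Q'` is smooth, then any smooth chart of `𝒳 ×_𝒴 V`
landing in `Q'` has smooth second projection. -/
theorem smooth_homOfOver_of_locQ_sub (h𝒴 : AlgSt.IsAlgStack Scheme.fppfPrecoverage 𝒴)
    (f : 𝒳 ⥤ᵇ 𝒴) {V : Over S} (y : FibCat.overCat V ⥤ᵇ 𝒴)
    (hy : AlgSt.RepByAlgSpWith (AlgSp.LocP @Smooth) y)
    (Q' : 𝒳.obj → Prop) (hQ' : AlgSt.IsOpenSubstack 𝒳 Q' Scheme.fppfPrecoverage)
    (hL : AlgSt.LocQ (AlgSp.LocP @Smooth) (BasedFunctor.comp (AlgSt.subIncl 𝒳 Q') f))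
    {T : Over S} (u : FibCat.overCat T ⥤ᵇ FibCat.fp f y)
    (hu : AlgSt.RepByAlgSpWith (AlgSp.LocP @Smooth) u)
    (hin : ∀ a, Q' ((BasedFunctor.comp u (FibCat.fpFst f y)).obj a)) :
    Smooth (homOfOver (BasedFunctor.comp u (FibCat.fpSnd f y))).left := by
  let x' : FibCat.overCat T ⥤ᵇ AlgSt.fullSub 𝒳 Q' :=
    liftSub Q' (BasedFunctor.comp u (FibCat.fpFst f y)) hin
  let f' : AlgSt.fullSub 𝒳 Q' ⥤ᵇ 𝒴 := BasedFunctor.comp (AlgSt.subIncl 𝒳 Q') f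
  let e : BasedFunctor.comp x' f' ≅
      BasedFunctor.comp (BasedFunctor.comp u (FibCat.fpSnd f y)) y := wl u (FibCat.fpIso f y)
  let u' : FibCat.overCat T ⥤ᵇ FibCat.fp f' y :=
    FibCat.fpLift x' (BasedFunctor.comp u (FibCat.fpSnd f y)) e
  let e₁ : BasedFunctor.comp f' (BasedFunctor.id 𝒴) ≅
      BasedFunctor.comp (AlgSt.subIncl 𝒳 Q') f := Iso.refl _
  let e₂ : BasedFunctor.comp y (BasedFunctor.id 𝒴) ≅
      BasedFunctor.comp (BasedFunctor.id (FibCat.overCat V)) y := Iso.refl _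
  let k : FibCat.fp f' y ⥤ᵇ FibCat.fp f y := fpMap e₁ e₂
  haveI := id_full (FibCat.overCat V)
  haveI := id_faithful (FibCat.overCat V)
  haveI := id_full 𝒴
  haveI := id_faithful 𝒴
  haveI : k.toFunctor.Full := fpMap_full e₁ e₂
  haveI : k.toFunctor.Faithful := fpMap_faithful e₁ e₂
  have isoK : BasedFunctor.comp u' k ≅ u :=
    fpTwoIso f y (A := BasedFunctor.comp u' k) (B := u) (Iso.refl _) (Iso.refl _) (fun w => by
      show f.map (𝟙 _) ≫ cmp e.hom w = (𝟙 _ ≫ cmp e.hom w ≫ 𝟙 _) ≫ y.map (𝟙 _)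
      exact id_sq_aux f.toFunctor y.toFunctor (cmp e.hom w))
  have hu' : AlgSt.RepByAlgSpWith (AlgSp.LocP @Smooth) u' :=
    repByAlgSpWith_of_comp_ff _ u' k (repByAlgSpWith_iso _ isoK hu)
  have hsub := hQ'.2.1.isStack.1
  have h1 := all_squares_atlas f' y u' isSmoothLocalST_locP_smooth hsub h𝒴.isStack.1 hL hy hu'
  exact AlgSp.locP_yon_map h1

/-- Local smoothness of the chart morphism `U₀ ⟶ V` on an open part of `U₀` mapping into an open
substack on which `f` is smooth. -/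
theorem smooth_chart_of_mem (h𝒳 : AlgSt.IsAlgStack Scheme.fppfPrecoverage 𝒳)
    (h𝒴 : AlgSt.IsAlgStack Scheme.fppfPrecoverage 𝒴) (f : 𝒳 ⥤ᵇ 𝒴) {V : Over S}
    (y : FibCat.overCat V ⥤ᵇ 𝒴) (hy : AlgSt.RepByAlgSpWith (AlgSp.LocP @Smooth) y)
    {U₀ : Over S} (u₀ : FibCat.overCat U₀ ⥤ᵇ FibCat.fp f y)
    (hu₀ : AlgSt.RepByAlgSpWith (AlgSp.LocP @Smooth) u₀)
    (Q' : 𝒳.obj → Prop) (hQ' : AlgSt.IsOpenSubstack 𝒳 Q' Scheme.fppfPrecoverage)
    (hL : AlgSt.LocQ (AlgSp.LocP @Smooth) (BasedFunctor.comp (AlgSt.subIncl 𝒳 Q') f))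
    {T : Over S} (ι' : T ⟶ U₀) (hι' : IsOpenImmersion ι'.left)
    (hin : ∀ z : ↥T.left,
      AlgSt.Points.ofChart (BasedFunctor.comp u₀ (FibCat.fpFst f y)) (ι'.left z) ∈
        Set.range (AlgSt.Points.map (AlgSt.subIncl 𝒳 Q'))) :
    Smooth (ι' ≫ homOfOver (BasedFunctor.comp u₀ (FibCat.fpSnd f y))).left := by
  have hX := h𝒳.isStack.1
  haveI : Smooth ι'.left := inferInstance
  have hι'rep : AlgSt.RepByAlgSpWith (AlgSp.LocP @Smooth) (AlgSt.overMap ι') :=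
    repByAlgSpWith_overMap _ good_smooth.bc ι' (locP_yon_of etLocalST_smooth ι' inferInstance)
  have hu : AlgSt.RepByAlgSpWith (AlgSp.LocP @Smooth)
      (BasedFunctor.comp (AlgSt.overMap ι') u₀) :=
    repByAlgSpWith_comp_smooth (isFibGrpd_overForget T) (isFibGrpd_overForget U₀) _ u₀ hι'rep hu₀
  have h1 := smooth_homOfOver_of_locQ_sub h𝒴 f y hy Q' hQ' hL
    (BasedFunctor.comp (AlgSt.overMap ι') u₀) hu
    (fun a => mem_of_ptsIn_range h𝒳 Q' hQ'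
      ((ptsIn_iff_chart hX _ (BasedFunctor.comp u₀ (FibCat.fpFst f y))
        ((AlgSt.overMap ι').obj a)).2 (fun z => by
          have e1 : ((AlgSt.overMap ι').obj a).hom.left z = ι'.left (a.hom.left z) :=
            Scheme.Hom.comp_apply a.hom.left ι'.left z
          rw [e1]
          exact hin _)))
  have h2 : homOfOver (BasedFunctor.comp (BasedFunctor.comp (AlgSt.overMap ι') u₀)
      (FibCat.fpSnd f y)) = ι' ≫ homOfOver (BasedFunctor.comp u₀ (FibCat.fpSnd f y)) :=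
    homOfOver_overMap_comp ι' (BasedFunctor.comp u₀ (FibCat.fpSnd f y))
  rw [← h2]
  exact h1

/-- The open substacks of `𝒳` on which `f` is smooth. -/
abbrev SmSub (f : 𝒳 ⥤ᵇ 𝒴) : Type _ :=
  {Q' : 𝒳.obj → Prop // AlgSt.IsOpenSubstack 𝒳 Q' Scheme.fppfPrecoverage ∧
    AlgSt.LocQ (AlgSp.LocP @Smooth) (BasedFunctor.comp (AlgSt.subIncl 𝒳 Q') f)}

/-- There is a largest open substack of `𝒳` on which `f : 𝒳 ⟶ 𝒴` is smooth. -/
theorem exists_largest_smooth_sub (h𝒳 : AlgSt.IsAlgStack Scheme.fppfPrecoverage 𝒳)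
    (h𝒴 : AlgSt.IsAlgStack Scheme.fppfPrecoverage 𝒴) (f : 𝒳 ⥤ᵇ 𝒴) :
    ∃ Q : 𝒳.obj → Prop, AlgSt.IsOpenSubstack 𝒳 Q Scheme.fppfPrecoverage ∧
      AlgSt.LocQ (AlgSp.LocP @Smooth) (BasedFunctor.comp (AlgSt.subIncl 𝒳 Q) f) ∧
      ∀ Q' : 𝒳.obj → Prop, AlgSt.IsOpenSubstack 𝒳 Q' Scheme.fppfPrecoverage →
        AlgSt.LocQ (AlgSp.LocP @Smooth) (BasedFunctor.comp (AlgSt.subIncl 𝒳 Q') f) →
          ∀ a, Q' a → Q a := by
  have hX := h𝒳.isStack.1
  have hY := h𝒴.isStack.1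
  obtain ⟨V, y, hy1, hy2⟩ := h𝒴.atlas
  have hVa := isAlgStack_overCat V
  have hfpa : AlgSt.IsAlgStack Scheme.fppfPrecoverage (FibCat.fp f y) :=
    isAlgStack_fp h𝒴.isStack h𝒴.diag h𝒳 hVa f y
  have hfp := hfpa.isStack.1
  obtain ⟨U₀, u₀, hu1, hu2⟩ := hfpa.atlas
  have hO := isFibGrpd_overForget U₀
  have hx₀1 : AlgSt.RepByAlgSpWith (AlgSp.LocP @Smooth)
      (BasedFunctor.comp u₀ (FibCat.fpFst f y)) :=
    repByAlgSpWith_comp_smooth hO hfp u₀ _ hu1 (repByAlgSpWith_fpFst _ y f hy1)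
  have hx₀2 : AlgSt.RepByAlgSpWith AlgSp.IsSurjectiveMor
      (BasedFunctor.comp u₀ (FibCat.fpFst f y)) :=
    repByAlgSpWith_comp_surjective hO hfp u₀ _ hu2 (repByAlgSpWith_fpFst _ y f hy2)
  obtain ⟨x₀, hx₀def⟩ : ∃ x₀ : FibCat.overCat U₀ ⥤ᵇ 𝒳,
      x₀ = BasedFunctor.comp u₀ (FibCat.fpFst f y) := ⟨_, rfl⟩
  rw [← hx₀def] at hx₀1 hx₀2
  obtain ⟨h₀, hh₀def⟩ : ∃ h₀ : U₀ ⟶ V,
      h₀ = homOfOver (BasedFunctor.comp u₀ (FibCat.fpSnd f y)) := ⟨_, rfl⟩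
  obtain ⟨T, hTdef⟩ : ∃ T : Set (AlgSt.Points 𝒳), T = ⋃ Q' : SmSub f,
      Set.range (AlgSt.Points.map (AlgSt.subIncl 𝒳 Q'.1)) := ⟨_, rfl⟩
  have hopen : ∀ Q' : 𝒳.obj → Prop, AlgSt.IsOpenSubstack 𝒳 Q' Scheme.fppfPrecoverage →
      IsOpen (Set.range (AlgSt.Points.map (AlgSt.subIncl 𝒳 Q'))) :=
    fun Q' hQ' => isOpen_range_of_isOpenImm hQ'.2.1 h𝒳 _ hQ'.2.2
  have hT : IsOpen T := by
    rw [hTdef]
    exact isOpen_iUnion (fun Q' => hopen Q'.1 Q'.2.1)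
  have hQ := isOpenSubstack_ptsIn h𝒳 T hT
  have hQf := hQ.2.1.isStack.1
  refine ⟨ptsIn T, hQ, ?_, ?_⟩
  swap
  · intro Q' hQ'1 hQ'2 a ha
    have h1 := ptsIn_range_of_mem Q' hX hQ'1.1 hQ'1.2.1.isStack.1 ha
    refine ptsIn_mono (fun t ht => ?_) h1
    rw [hTdef]
    exact Set.mem_iUnion.2 ⟨⟨Q', hQ'1, hQ'2⟩, ht⟩
  have hcont := continuous_ofChart h𝒳 x₀
  obtain ⟨W, hWdef⟩ : ∃ W : U₀.left.Opens,
      W = ⟨AlgSt.Points.ofChart x₀ ⁻¹' T, hT.preimage hcont⟩ := ⟨_, rfl⟩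
  have hWmem : ∀ z : ↥U₀.left, z ∈ W ↔ AlgSt.Points.ofChart x₀ z ∈ T := fun z => by
    rw [hWdef]
    rfl
  obtain ⟨O, hOdef⟩ : ∃ O : SmSub f → W.toScheme.Opens, O = fun Q' => W.ι ⁻¹ᵁ
      (⟨AlgSt.Points.ofChart x₀ ⁻¹' Set.range (AlgSt.Points.map (AlgSt.subIncl 𝒳 Q'.1)),
        (hopen Q'.1 Q'.2.1).preimage hcont⟩ : U₀.left.Opens) := ⟨_, rfl⟩
  have hOmem : ∀ (Q' : SmSub f) (z : ↥W.toScheme), z ∈ O Q' ↔
      AlgSt.Points.ofChart x₀ (W.ι z) ∈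
        Set.range (AlgSt.Points.map (AlgSt.subIncl 𝒳 Q'.1)) := fun Q' z => by
    rw [hOdef]
    rfl
  have hcore : Smooth (W.ι ≫ h₀.left) := by
    apply IsZariskiLocalAtSource.of_iSup_eq_top (P := @Smooth) O
    · rw [eq_top_iff]
      rintro z -
      have hz : AlgSt.Points.ofChart x₀ (W.ι z) ∈ T := (hWmem _).1 z.2
      rw [hTdef] at hz
      obtain ⟨Q', hQ'⟩ := Set.mem_iUnion.1 hz
      exact TopologicalSpace.Opens.mem_iSup.2 ⟨Q', (hOmem Q' z).2 hQ'⟩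
    · intro Q'
      have hoi : IsOpenImmersion
          (overOpenι (overOpen U₀ W) (O Q') ≫ overOpenι U₀ W).left := by
        show IsOpenImmersion ((O Q').ι ≫ W.ι)
        infer_instance
      have h1 := smooth_chart_of_mem h𝒳 h𝒴 f y hy1 u₀ hu1 Q'.1 Q'.2.1 Q'.2.2
        (overOpenι (overOpen U₀ W) (O Q') ≫ overOpenι U₀ W) hoi (fun z => by
          have hz : AlgSt.Points.ofChart x₀ (W.ι ((O Q').ι z)) ∈
              Set.range (AlgSt.Points.map (AlgSt.subIncl 𝒳 Q'.1)) := (hOmem Q' _).1 z.2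
          rw [hx₀def] at hz
          have e1 : (overOpenι (overOpen U₀ W) (O Q') ≫ overOpenι U₀ W).left z =
              W.ι ((O Q').ι z) := Scheme.Hom.comp_apply (O Q').ι W.ι z
          rw [e1]
          exact hz)
      rw [← Category.assoc, hh₀def]
      exact h1
  have hι₀rep : AlgSt.RepByAlgSpWith (AlgSp.LocP @Smooth) (AlgSt.overMap (overOpenι U₀ W)) :=
    repByAlgSpWith_overMap _ good_smooth.bc (overOpenι U₀ W)
      (locP_yon_of etLocalST_smooth (overOpenι U₀ W) (show Smooth W.ι from inferInstance))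
  have hO₁ := isFibGrpd_overForget (overOpen U₀ W)
  have hx₁ : AlgSt.RepByAlgSpWith (AlgSp.LocP @Smooth)
      (BasedFunctor.comp (AlgSt.overMap (overOpenι U₀ W)) x₀) :=
    repByAlgSpWith_comp_smooth hO₁ hO _ x₀ hι₀rep hx₀1
  have hin₁ : ∀ b, ptsIn T ((BasedFunctor.comp (AlgSt.overMap (overOpenι U₀ W)) x₀).obj b) :=
    fun b => (ptsIn_iff_chart hX T x₀ ((AlgSt.overMap (overOpenι U₀ W)).obj b)).2 (fun z => by
      have e1 : ((AlgSt.overMap (overOpenι U₀ W)).obj b).hom.left z = W.ι (b.hom.left z) :=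
        Scheme.Hom.comp_apply b.hom.left W.ι z
      rw [e1]
      exact (hWmem _).1 (b.hom.left z).2)
  obtain ⟨x, hxdef⟩ : ∃ x : FibCat.overCat (overOpen U₀ W) ⥤ᵇ AlgSt.fullSub 𝒳 (ptsIn T),
      x = liftSub (ptsIn T) (BasedFunctor.comp (AlgSt.overMap (overOpenι U₀ W)) x₀) hin₁ :=
    ⟨_, rfl⟩
  have hx1 : AlgSt.RepByAlgSpWith (AlgSp.LocP @Smooth) x := by
    rw [hxdef]
    exact repByAlgSpWith_of_comp_ff _ _ (AlgSt.subIncl 𝒳 (ptsIn T)) hx₁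
  have hxs : AlgSt.IsSurjective x := by
    rw [hxdef]
    refine isSurjective_liftSub hX _ hQf _ hin₁ (fun a ha => ptsIn_mono (fun t ht => ?_) ha)
    obtain ⟨z, rfl⟩ := surjective_ofChart hX x₀ hx₀2 t
    have hz : z ∈ W := (hWmem z).2 ht
    refine ⟨AlgSt.Points.mk (resFPt (overOpen U₀ W) ⟨z, hz⟩), ?_⟩
    rw [← ofChart_eq, ofChart_comp, Groth.Agent.Lib.Helper16.AlgStDC.homOfOver_overMap]
    rfl
  have hx2 : AlgSt.RepByAlgSpWith AlgSp.IsSurjectiveMor x :=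
    rep_of_isSurjective hO₁ hQf x (fun U' y' => by
      obtain ⟨F, e, he, -⟩ := hx1 U' y'
      exact ⟨F, e, he⟩) hxs
  subst hx₀def
  subst hh₀def
  refine ⟨overOpen U₀ W, V, x, y,
    overOpenι U₀ W ≫ homOfOver (BasedFunctor.comp u₀ (FibCat.fpSnd f y)), ?_, hx1, hx2, hy1, ?_⟩
  · rw [hxdef]
    exact wl (AlgSt.overMap (overOpenι U₀ W)) (sqAlpha f y u₀) ≪≫
      wr (overMapCompIso (overOpenι U₀ W) _) y
  · exact locP_yon_of etLocalST_smooth _ hcore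

end H10PT
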