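import Mathlib
import Groth.Agent.Lib.Helper10.AlgStSmoothLocus
import Groth.Agent.Lib.Helper16.AlgSt.LocQRep

/-!
# The smooth locus and smooth precomposition (helper10)

* `exists_fpt_lift`, `ptsIn_obj_iff`: the preimage of `ptsIn T` under a functor.
* `locQ_of_comp_ff`: cancellation of a fully faithful smooth functor on the right in `LocQ`.
* `repSmooth_chart_comp`: a smooth chart followed by a smooth morphism is a smooth chart.
* `largest_smooth_sub_comp`.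
-/

set_option autoImplicit false
set_option backward.isDefEq.respectTransparency false
set_option backward.isDefEq.respectTransparency.types false

universe u

open CategoryTheory CategoryTheory.Limits AlgebraicGeometry Opposite

namespace H10PT

open Groth.Agent.Lib.Helper10.Fib Groth.Agent.Lib.Helper10.AlgStRep
open Groth.Agent.Lib.Helper10.LiftSqBC
open Groth.Agent.Lib.Helper28.AlgSt.Bridge Groth.Agent.Lib.Helper28.AlgSt.SpaceCalc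
open Groth.Agent.Lib.Helper28.AlgSt.PropInst Groth.Agent.Lib.Helper28.AlgSt.Comp
open Groth.Agent.Lib.Helper28.AlgSt.Whisker Groth.Agent.Lib.Helper28.AlgSt.Key
open Groth.Agent.Lib.Helper28.AlgSt.Descent Groth.Agent.Lib.Helper28.AlgSt.DiagComp
open Groth.Agent.Lib.Helper28.AlgSt.ChartOver Groth.Agent.Lib.Helper28.AlgSt.IsoEquiv
open Groth.Agent.Lib.Helper28.AlgSt.FpStack
open Groth.Agent.Lib.Helper16 Groth.Agent.Lib.Helper16.AlgStDC
open Groth.Agent.Lib.Helper10.StkSub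

variable {S : Scheme.{u}} {𝒳' 𝒳 𝒴 𝒲 𝒵' 𝒵 : AlgSt.Cat S}

theorem exists_fpt_lift (h𝒲 : FibCat.IsFibGrpd 𝒲.p) (h𝒳 : FibCat.IsFibGrpd 𝒳.p) (v : 𝒲 ⥤ᵇ 𝒳)
    (w : 𝒲.obj) (q : AlgSt.FPt 𝒳) (m : q.obj ⟶ v.obj w) :
    ∃ q' : AlgSt.FPt 𝒲, Nonempty (q'.obj ⟶ w) ∧
      AlgSt.Points.mk q = AlgSt.Points.map v (AlgSt.Points.mk q') := by
  obtain ⟨f, hf⟩ : ∃ f : Over.mk q.str ⟶ 𝒲.p.obj w, 𝒳.p.IsHomLift f m :=
    exists_baseHom q.lies (v.w_obj w) m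
  obtain ⟨w', φ, hφ⟩ := IsFibGrpd.exists_lift' h𝒲 (a := w) rfl f
  haveI : 𝒲.p.IsHomLift f φ := inferInstance
  haveI hφ' : 𝒳.p.IsHomLift f (v.map φ) := inferInstance
  haveI := hf
  haveI hsc : 𝒳.p.IsStronglyCartesian f (v.map φ) := IsFibGrpd.sc h𝒳 f (v.map φ)
  obtain ⟨χ, ⟨hχ1, hχ2⟩, -⟩ := Functor.IsStronglyCartesian.universal_property 𝒳.p f (v.map φ)
    (𝟙 _) f (Category.id_comp f).symm m
  obtain ⟨q', hq'⟩ : ∃ q' : AlgSt.FPt 𝒲,
      q' = ⟨q.K, q.str, w', IsHomLift.domain_eq 𝒲.p f φ⟩ := ⟨_, rfl⟩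
  have hrel : AlgSt.FPt.Rel q (q'.map v) := by
    subst hq'
    exact ⟨q, 𝟙 _, χ, trivial⟩
  refine ⟨q', ?_, AlgSt.Points.sound hrel⟩
  subst hq'
  exact ⟨φ⟩

theorem ptsIn_obj_iff (h𝒳' : FibCat.IsFibGrpd 𝒳'.p) (h𝒳 : FibCat.IsFibGrpd 𝒳.p) (g : 𝒳' ⥤ᵇ 𝒳)
    (T : Set (AlgSt.Points 𝒳)) (a : 𝒳'.obj) :
    ptsIn T (g.obj a) ↔ ptsIn (AlgSt.Points.map g ⁻¹' T) a := by
  constructor
  · intro h q hq
    obtain ⟨m⟩ := hq
    show AlgSt.Points.map g (AlgSt.Points.mk q) ∈ T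
    exact h (q.map g) ⟨g.map m⟩
  · intro h q hq
    obtain ⟨m⟩ := hq
    obtain ⟨q', hq'1, hq'2⟩ := exists_fpt_lift h𝒳' h𝒳 g a q m
    rw [hq'2]
    exact h q' hq'1

/-- Cancellation of a fully faithful smooth functor on the right in `LocQ`. -/
theorem locQ_of_comp_ff {P : MorphismProperty (AlgSp.Sp S)} (hP : AlgSp.IsSmoothLocalST P)
    (h𝒲 : AlgSt.IsAlgStack Scheme.fppfPrecoverage 𝒲)
    (h𝒵' : AlgSt.IsAlgStack Scheme.fppfPrecoverage 𝒵')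
    (h𝒵 : AlgSt.IsAlgStack Scheme.fppfPrecoverage 𝒵) (G : 𝒲 ⥤ᵇ 𝒵') (i : 𝒵' ⥤ᵇ 𝒵)
    [i.toFunctor.Full] [i.toFunctor.Faithful]
    (hi : AlgSt.RepByAlgSpWith (AlgSp.LocP @Smooth) i)
    (hGi : AlgSt.LocQ P (BasedFunctor.comp G i)) : AlgSt.LocQ P G := by
  obtain ⟨V, y', hy'1, hy'2⟩ := h𝒵'.atlas
  obtain ⟨U, x, h, α, hx, hu, -, hxs⟩ := exists_good_square h𝒲 h𝒵' G V y' hy'1
  have hV := isFibGrpd_overForget V
  have hyi : AlgSt.RepByAlgSpWith (AlgSp.LocP @Smooth) (BasedFunctor.comp y' i) :=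
    repByAlgSpWith_comp_smooth hV h𝒵'.isStack.1 y' i hy'1 hi
  let α' : BasedFunctor.comp x (BasedFunctor.comp G i) ≅
      BasedFunctor.comp (AlgSt.overMap h) (BasedFunctor.comp y' i) := wr α i
  let e₁ : BasedFunctor.comp G i ≅
      BasedFunctor.comp (BasedFunctor.id 𝒲) (BasedFunctor.comp G i) := Iso.refl _
  let e₂ : BasedFunctor.comp y' i ≅
      BasedFunctor.comp (BasedFunctor.id (FibCat.overCat V)) (BasedFunctor.comp y' i) :=
    Iso.refl _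
  have hk := isEquivOver_fpMap e₁ e₂ (isEquivOver_id _) (isEquivOver_id _)
  have isoK : BasedFunctor.comp (FibCat.fpLift x (AlgSt.overMap h) α) (fpMap e₁ e₂) ≅
      BasedFunctor.comp (BasedFunctor.id (FibCat.overCat U))
        (FibCat.fpLift x (AlgSt.overMap h) α') :=
    fpTwoIso (BasedFunctor.comp G i) (BasedFunctor.comp y' i)
      (A := BasedFunctor.comp (FibCat.fpLift x (AlgSt.overMap h) α) (fpMap e₁ e₂))
      (B := BasedFunctor.comp (BasedFunctor.id (FibCat.overCat U))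
        (FibCat.fpLift x (AlgSt.overMap h) α')) (Iso.refl _) (Iso.refl _) (fun w => by
        show (BasedFunctor.comp G i).map (𝟙 _) ≫ cmp α'.hom w =
          (𝟙 _ ≫ cmp α'.hom w ≫ 𝟙 _) ≫ (BasedFunctor.comp y' i).map (𝟙 _)
        exact id_sq_aux (BasedFunctor.comp G i).toFunctor (BasedFunctor.comp y' i).toFunctor
          (cmp α'.hom w))
  have hL' : AlgSt.RepByAlgSpWith (AlgSp.LocP @Smooth)
      (FibCat.fpLift x (AlgSt.overMap h) α') :=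
    repByAlgSpWith_of_square _ (FibCat.fpLift x (AlgSt.overMap h) α')
      (FibCat.fpLift x (AlgSt.overMap h) α) (BasedFunctor.id _) (fpMap e₁ e₂)
      (isEquivOver_id _) hk isoK hu
  have hPh := locQ_all_squares hP h𝒲.isStack.1 h𝒵.isStack.1 (BasedFunctor.comp G i) hGi U V x
    (BasedFunctor.comp y' i) h α' hyi hL'
  exact ⟨U, V, x, y', h, α, hx, hxs hy'2, hy'1, hPh⟩

/-- A smooth chart followed by a smooth morphism is a smooth chart. -/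
theorem repSmooth_chart_comp (h𝒲 : AlgSt.IsAlgStack Scheme.fppfPrecoverage 𝒲)
    (h𝒳 : AlgSt.IsAlgStack Scheme.fppfPrecoverage 𝒳) {U : Over S}
    (x : FibCat.overCat U ⥤ᵇ 𝒲) (hx : AlgSt.RepByAlgSpWith (AlgSp.LocP @Smooth) x)
    (v : 𝒲 ⥤ᵇ 𝒳) (hv : AlgSt.LocQ (AlgSp.LocP @Smooth) v) :
    AlgSt.RepByAlgSpWith (AlgSp.LocP @Smooth) (BasedFunctor.comp x v) := by
  have hSL := isSmoothLocalST_locP_smooth (S := S)
  have hUa := isAlgStack_overCat U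
  have hxQ := locQ_of_repByAlgSpWith hSL hUa h𝒲 x hx
  have hc := locQ_comp hSL good_smooth.co hUa h𝒲 x v hxQ hv
  exact repByAlgSpWith_of_locQ hSL good_smooth.bc good_smooth.loc hUa h𝒳 _
    (Groth.Agent.Lib.Helper28.AlgSt.DiagRep.repByAlgSp1_of_diag h𝒳.isStack.1 h𝒳.diag U _) hc

/-- Formation of the largest open substack on which `f` is smooth commutes with smooth
precomposition. -/
theorem largest_smooth_sub_comp (h𝒳' : AlgSt.IsAlgStack Scheme.fppfPrecoverage 𝒳')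
    (h𝒳 : AlgSt.IsAlgStack Scheme.fppfPrecoverage 𝒳)
    (h𝒴 : AlgSt.IsAlgStack Scheme.fppfPrecoverage 𝒴)
    (g : 𝒳' ⥤ᵇ 𝒳) (hg : AlgSt.LocQ (AlgSp.LocP @Smooth) g) (f : 𝒳 ⥤ᵇ 𝒴)
    (Q : 𝒳.obj → Prop) (hQ₁ : AlgSt.IsOpenSubstack 𝒳 Q Scheme.fppfPrecoverage)
    (hQ₂ : AlgSt.LocQ (AlgSp.LocP @Smooth) (BasedFunctor.comp (AlgSt.subIncl 𝒳 Q) f))
    (hQ₃ : ∀ Q' : 𝒳.obj → Prop, AlgSt.IsOpenSubstack 𝒳 Q' Scheme.fppfPrecoverage →
      AlgSt.LocQ (AlgSp.LocP @Smooth) (BasedFunctor.comp (AlgSt.subIncl 𝒳 Q') f) →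
        ∀ a, Q' a → Q a)
    (Q'' : 𝒳'.obj → Prop) (hQ'' : ∀ a, Q'' a ↔ Q (g.obj a)) :
    AlgSt.IsOpenSubstack 𝒳' Q'' Scheme.fppfPrecoverage ∧
      AlgSt.LocQ (AlgSp.LocP @Smooth)
        (BasedFunctor.comp (AlgSt.subIncl 𝒳' Q'') (BasedFunctor.comp g f)) ∧
      ∀ Q' : 𝒳'.obj → Prop, AlgSt.IsOpenSubstack 𝒳' Q' Scheme.fppfPrecoverage →
        AlgSt.LocQ (AlgSp.LocP @Smooth)
          (BasedFunctor.comp (AlgSt.subIncl 𝒳' Q') (BasedFunctor.comp g f)) →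
        ∀ a, Q' a → Q (g.obj a) := by
  have hX' := h𝒳'.isStack.1
  have hX := h𝒳.isStack.1
  have hSL := isSmoothLocalST_locP_smooth (S := S)
  obtain ⟨TQ, hTQ⟩ : ∃ TQ, TQ = Set.range (AlgSt.Points.map (AlgSt.subIncl 𝒳 Q)) := ⟨_, rfl⟩
  have hTQo : IsOpen TQ := by
    rw [hTQ]
    exact isOpen_range_of_isOpenImm hQ₁.2.1 h𝒳 _ hQ₁.2.2
  have hQeq : Q = ptsIn TQ := by
    rw [hTQ]
    exact eq_ptsIn_of_isOpenSubstack h𝒳 Q hQ₁
  have hQ''eq : Q'' = ptsIn (AlgSt.Points.map g ⁻¹' TQ) := funext fun a =>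
    propext ((hQ'' a).trans (by
      rw [hQeq]
      exact ptsIn_obj_iff hX' hX g TQ a))
  have hopen'' : IsOpen (AlgSt.Points.map g ⁻¹' TQ) :=
    hTQo.preimage (continuous_points_map h𝒳 g)
  have h1 : AlgSt.IsOpenSubstack 𝒳' Q'' Scheme.fppfPrecoverage := by
    rw [hQ''eq]
    exact isOpenSubstack_ptsIn h𝒳' _ hopen''
  refine ⟨h1, ?_, ?_⟩
  · have hsub'' := h1.2.1
    have hsubQ := hQ₁.2.1
    have hi''sm : AlgSt.RepByAlgSpWith (AlgSp.LocP @Smooth) (AlgSt.subIncl 𝒳' Q'') :=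
      repSmooth_of_isOpenImm _ h1.2.2
    have hi''Q := locQ_of_repByAlgSpWith hSL hsub'' h𝒳' (AlgSt.subIncl 𝒳' Q'') hi''sm
    have hc := locQ_comp hSL good_smooth.co hsub'' h𝒳' (AlgSt.subIncl 𝒳' Q'') g hi''Q hg
    have hg' : AlgSt.LocQ (AlgSp.LocP @Smooth)
        (liftSub Q (BasedFunctor.comp (AlgSt.subIncl 𝒳' Q'') g)
          (fun w => (hQ'' _).1 w.property)) :=
      locQ_of_comp_ff hSL hsub'' hsubQ h𝒳 _ (AlgSt.subIncl 𝒳 Q)
        (repSmooth_of_isOpenImm _ hQ₁.2.2) hc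
    exact locQ_comp hSL good_smooth.co hsub'' hsubQ _
      (BasedFunctor.comp (AlgSt.subIncl 𝒳 Q) f) hg' hQ₂
  · intro Q' hQ'1 hQ'2 a ha
    have hsub' := hQ'1.2.1
    have hsubf := hsub'.isStack.1
    obtain ⟨v, hvdef⟩ : ∃ v : AlgSt.fullSub 𝒳' Q' ⥤ᵇ 𝒳,
        v = BasedFunctor.comp (AlgSt.subIncl 𝒳' Q') g := ⟨_, rfl⟩
    have hvQ : AlgSt.LocQ (AlgSp.LocP @Smooth) v := by
      rw [hvdef]
      exact locQ_comp hSL good_smooth.co hsub' h𝒳' (AlgSt.subIncl 𝒳' Q') g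
        (locQ_of_repByAlgSpWith hSL hsub' h𝒳' _ (repSmooth_of_isOpenImm _ hQ'1.2.2)) hg
    obtain ⟨U, V, x, y, h, α, hx1, hx2, hy, hPh⟩ := hQ'2
    have hxv : AlgSt.RepByAlgSpWith (AlgSp.LocP @Smooth) (BasedFunctor.comp x v) :=
      repSmooth_chart_comp hsub' h𝒳 x hx1 v hvQ
    have hxsurj : AlgSt.IsSurjective x := isSurjective_of_rep hsubf x hx2
    have hrange : Set.range (AlgSt.Points.map v) =
        Set.range (AlgSt.Points.ofChart (BasedFunctor.comp x v)) := by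
      ext t
      constructor
      · rintro ⟨p, rfl⟩
        obtain ⟨p', rfl⟩ := hxsurj p
        obtain ⟨q, rfl⟩ := AlgSt.Points.mk_surjective p'
        exact ⟨ptOf q, by rw [ofChart_comp_right, ← map_mk_eq_ofChart]⟩
      · rintro ⟨u, rfl⟩
        exact ⟨AlgSt.Points.ofChart x u, (ofChart_comp_right x v u).symm⟩
    obtain ⟨T₁, hT₁⟩ : ∃ T₁, T₁ = Set.range (AlgSt.Points.map v) := ⟨_, rfl⟩
    have hT₁o : IsOpen T₁ := by
      rw [hT₁, hrange, ← Set.image_univ]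
      exact isOpenMap_ofChart h𝒳 (BasedFunctor.comp x v) (repFlat_of_smooth _ hxv)
        (repLfp_of_smooth _ hxv) _ isOpen_univ
    have hQ₁' := isOpenSubstack_ptsIn h𝒳 T₁ hT₁o
    have hva : ptsIn T₁ (g.obj a) := by
      rw [hT₁, hvdef]
      exact ptsIn_range_map hsubf hX (BasedFunctor.comp (AlgSt.subIncl 𝒳' Q') g) ⟨a, ha⟩
    refine hQ₃ (ptsIn T₁) hQ₁' ?_ (g.obj a) hva
    have hin : ∀ b, ptsIn T₁ ((BasedFunctor.comp x v).obj b) := fun b => by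
      rw [hT₁]
      exact ptsIn_range_map hsubf hX v (x.obj b)
    obtain ⟨x₁, hx₁def⟩ : ∃ x₁ : FibCat.overCat U ⥤ᵇ AlgSt.fullSub 𝒳 (ptsIn T₁),
        x₁ = liftSub (ptsIn T₁) (BasedFunctor.comp x v) hin := ⟨_, rfl⟩
    have hx₁1 : AlgSt.RepByAlgSpWith (AlgSp.LocP @Smooth) x₁ := by
      rw [hx₁def]
      exact repByAlgSpWith_of_comp_ff _ _ (AlgSt.subIncl 𝒳 (ptsIn T₁)) hxv
    have hx₁s : AlgSt.IsSurjective x₁ := by
      rw [hx₁def]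
      refine isSurjective_liftSub hX _ hQ₁'.2.1.isStack.1 _ hin
        (fun b hb => ptsIn_mono (fun t ht => ?_) hb)
      rw [hT₁] at ht
      obtain ⟨p, rfl⟩ := ht
      obtain ⟨p', rfl⟩ := hxsurj p
      exact ⟨p', congrFun (points_map_comp x v) p'⟩
    have hx₁2 : AlgSt.RepByAlgSpWith AlgSp.IsSurjectiveMor x₁ :=
      rep_of_isSurjective (isFibGrpd_overForget U) hQ₁'.2.1.isStack.1 x₁ (fun U' y' => by
        obtain ⟨F, e, he, -⟩ := hx₁1 U' y'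
        exact ⟨F, e, he⟩) hx₁s
    refine ⟨U, V, x₁, y, h, ?_, hx₁1, hx₁2, hy, hPh⟩
    subst hx₁def
    subst hvdef
    exact α

end H10PT
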