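import Mathlib
import Groth.Agent.Lib.Helper10.AlgStOpenSub
import Groth.Agent.Lib.Helper10.AlgStQCTop
import Groth.Agent.Lib.Helper10.HomSheaf
import Groth.Agent.Lib.Helper10.StkPost
import Groth.Agent.Lib.Helper10.StkElem
import Groth.Agent.Lib.Helper16.YonCoprod
import Groth.Agent.S12787
import Groth.Agent.S12796
import Groth.Agent.S9877
import Groth.Agent.S9881

/-!
# An algebraic stack covered by open substacks which are algebraic spaces (helper10)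

* `isFibSetoid_of_open_cover`: such a stack is fibred in setoids.
* `repWith_of_repBySpWith`: a map of sheaves representable by algebraic spaces whose base changes
  to schemes are representable with `P` is representable with `P`.
* `clsMap`, `repWith_openImm_clsMap`, `exists_section_clsMap`: the maps from the spaces
  representing the open substacks to the sheaf of isomorphism classes.
* `repByAlgSp_of_open_cover`: the stack is representable by an algebraic space.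
-/

set_option autoImplicit false
set_option backward.isDefEq.respectTransparency false
set_option backward.isDefEq.respectTransparency.types false

universe u w

open CategoryTheory CategoryTheory.Limits AlgebraicGeometry Opposite

namespace H10PT

open Groth.Agent.Lib.Helper10.Fib Groth.Agent.Lib.Helper10.AlgStRep
open Groth.Agent.Lib.Helper10.StkPsh Groth.Agent.Lib.Helper10.HomSheaf
open Groth.Agent.Lib.Helper10.StkPost Groth.Agent.Lib.Helper10.StkElem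
open Groth.Agent.Lib.Helper28.AlgSt.Bridge Groth.Agent.Lib.Helper28.AlgSt.SpaceCalc
open Groth.Agent.Lib.Helper28.AlgSt.PropInst Groth.Agent.Lib.Helper28.AlgSt.Comp
open Groth.Agent.Lib.Helper28.AlgSt.Whisker Groth.Agent.Lib.Helper28.AlgSt.Key
open Groth.Agent.Lib.Helper28.AlgSt.Descent Groth.Agent.Lib.Helper28.AlgSt.DiagComp
open Groth.Agent.Lib.Helper28.AlgSt.ChartOver Groth.Agent.Lib.Helper28.AlgSt.IsoEquiv
open Groth.Agent.Lib.Helper28.AlgSt.ClsPsh Groth.Agent.Lib.Helper28.AlgSt.PshFun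
open Groth.Agent.Lib.Helper16 Groth.Agent.Lib.Helper16.AlgStDC
open Groth.Agent.Lib.Helper10.StkSub

variable {S : Scheme.{u}} {𝒳 : AlgSt.Cat S}

theorem isFibSetoid_of_open_cover (h𝒳 : AlgSt.IsAlgStack Scheme.fppfPrecoverage 𝒳) {ι : Type w}
    (Q : ι → 𝒳.obj → Prop) (hQ : ∀ i, AlgSt.IsOpenSubstack 𝒳 (Q i) Scheme.fppfPrecoverage)
    (hcov : ⋃ i, Set.range (AlgSt.Points.map (AlgSt.subIncl 𝒳 (Q i))) = Set.univ)
    (hset : ∀ i, FibCat.IsFibSetoid (AlgSt.fullSub 𝒳 (Q i)).p) : FibCat.IsFibSetoid 𝒳.p := by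
  have hg := h𝒳.isStack.1
  refine ⟨hg, fun U a b => ⟨fun φ ψ => ?_⟩⟩
  apply Subtype.ext
  obtain ⟨a, ha⟩ := a
  obtain ⟨b, hb⟩ := b
  obtain ⟨φ, hφ⟩ := φ
  obtain ⟨ψ, hψ⟩ := ψ
  show φ = ψ
  change a ⟶ b at φ
  change a ⟶ b at ψ
  obtain ⟨G, j, hj⟩ := exists_rep hg ha
  haveI := hj
  have hT : ∀ i, IsOpen (Set.range (AlgSt.Points.map (AlgSt.subIncl 𝒳 (Q i)))) := fun i =>
    isOpen_range_of_isOpenImm (hQ i).2.1 h𝒳 _ (hQ i).2.2
  obtain ⟨W, hW⟩ : ∃ W : ι → U.left.Opens, ∀ i, ((W i : U.left.Opens) : Set U.left) =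
      AlgSt.Points.ofChart G ⁻¹' Set.range (AlgSt.Points.map (AlgSt.subIncl 𝒳 (Q i))) :=
    ⟨fun i => ⟨_, (continuous_ofChart h𝒳 G).isOpen_preimage _ (hT i)⟩, fun i => rfl⟩
  have hR : Sieve.generate (Presieve.ofArrows (fun i => overOpen U (W i))
      (fun i => overOpenι U (W i))) ∈ AlgSp.J S U := by
    refine generate_ofArrows_mem_J_of_open_cover _ _ (fun i => ?_) (fun x => ?_)
    · show IsOpenImmersion (W i).ι
      infer_instance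
    · have hx : AlgSt.Points.ofChart G x ∈
          ⋃ i, Set.range (AlgSt.Points.map (AlgSt.subIncl 𝒳 (Q i))) := by
        rw [hcov]
        exact Set.mem_univ _
      obtain ⟨i, hi⟩ := Set.mem_iUnion.1 hx
      refine ⟨i, ?_⟩
      show x ∈ Set.range (W i).ι
      rw [Scheme.Opens.range_ι, hW]
      exact hi
  refine sep _ hg (faithful_of_isStack _ _ h𝒳.isStack hR) ha φ ψ hφ hψ ?_
  intro V f hf x₀ χ hχ
  obtain ⟨Y, h, g, ⟨i⟩, rfl⟩ := hf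
  haveI := hχ
  haveI := hφ
  haveI := hψ
  have hQx₀ : Q i x₀ := by
    apply mem_of_ptsIn_range h𝒳 (Q i) (hQ i)
    have hpt : ptsIn (Set.range (AlgSt.Points.map (AlgSt.subIncl 𝒳 (Q i))))
        (G.obj (Over.mk (h ≫ overOpenι U (W i)))) := by
      rw [ptsIn_iff_chart hg _ G (Over.mk (h ≫ overOpenι U (W i)))]
      intro z
      have h3 : (Over.mk (h ≫ overOpenι U (W i))).hom.left z = (W i).ι (h.left z) := rfl
      rw [h3]
      have hmem : ((W i).ι (h.left z) : U.left) ∈ ((W i : U.left.Opens) : Set U.left) :=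
        (h.left z).2
      rw [hW] at hmem
      exact hmem
    haveI hsc := sc_toTerminal hg G (Over.mk (h ≫ overOpenι U (W i)))
    have hl : 𝒳.p.IsHomLift (homU U (Over.mk (h ≫ overOpenι U (W i)))) (χ ≫ j.inv) := by
      have h0 : 𝒳.p.IsHomLift ((h ≫ overOpenι U (W i)) ≫ 𝟙 U) (χ ≫ j.inv) := inferInstance
      rw [Category.comp_id] at h0
      exact h0
    obtain ⟨m, -, -⟩ := Functor.IsStronglyCartesian.universal_property 𝒳.p
      (homU U (Over.mk (h ≫ overOpenι U (W i))))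
      (G.map (toTerminal U (Over.mk (h ≫ overOpenι U (W i)))))
      (𝟙 (Over.mk (h ≫ overOpenι U (W i))).left)
      (homU U (Over.mk (h ≫ overOpenι U (W i)))) (Category.id_comp _).symm (χ ≫ j.inv)
    exact ptsIn_of_hom m hpt
  obtain ⟨b₀, β, hβ⟩ := IsFibGrpd.exists_lift' hg hb (h ≫ overOpenι U (W i))
  haveI := hβ
  have l1 : 𝒳.p.IsHomLift (𝟙 V ≫ (h ≫ overOpenι U (W i))) (χ ≫ φ) := by
    have h0 : 𝒳.p.IsHomLift ((h ≫ overOpenι U (W i)) ≫ 𝟙 U) (χ ≫ φ) := inferInstance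
    rw [Category.comp_id] at h0
    rw [Category.id_comp]
    exact h0
  have l2 : 𝒳.p.IsHomLift (𝟙 V ≫ (h ≫ overOpenι U (W i))) (χ ≫ ψ) := by
    have h0 : 𝒳.p.IsHomLift ((h ≫ overOpenι U (W i)) ≫ 𝟙 U) (χ ≫ ψ) := inferInstance
    rw [Category.comp_id] at h0
    rw [Category.id_comp]
    exact h0
  obtain ⟨φ₀, ⟨hφ₀l, hφ₀⟩, -⟩ := Functor.IsStronglyCartesian.universal_property 𝒳.p
    (h ≫ overOpenι U (W i)) β (𝟙 V) (𝟙 V ≫ (h ≫ overOpenι U (W i))) rfl (χ ≫ φ)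
  obtain ⟨ψ₀, ⟨hψ₀l, hψ₀⟩, -⟩ := Functor.IsStronglyCartesian.universal_property 𝒳.p
    (h ≫ overOpenι U (W i)) β (𝟙 V) (𝟙 V ≫ (h ≫ overOpenι U (W i))) rfl (χ ≫ ψ)
  haveI := hφ₀l
  haveI := hψ₀l
  haveI : IsIso φ₀ := IsFibGrpd.isIso_of_isHomLift_id hg (U := V) φ₀
  have hQb₀ : Q i b₀ := (hQ i).1.of_iso (asIso φ₀) hQx₀
  let x₀' : (AlgSt.fullSub 𝒳 (Q i)).obj := ⟨x₀, hQx₀⟩
  let b₀' : (AlgSt.fullSub 𝒳 (Q i)).obj := ⟨b₀, hQb₀⟩
  let m₁ : x₀' ⟶ b₀' := ObjectProperty.homMk φ₀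
  let m₂ : x₀' ⟶ b₀' := ObjectProperty.homMk ψ₀
  haveI i1 : 𝒳.p.IsHomLift (𝟙 V) ((ObjectProperty.ι (Q i)).map m₁) := hφ₀l
  haveI i2 : 𝒳.p.IsHomLift (𝟙 V) ((ObjectProperty.ι (Q i)).map m₂) := hψ₀l
  haveI i3 : (AlgSt.fullSub 𝒳 (Q i)).p.IsHomLift (𝟙 V) m₁ :=
    isHomLift_comp_map (ObjectProperty.ι (Q i)) 𝒳.p (𝟙 V) m₁
  haveI i4 : (AlgSt.fullSub 𝒳 (Q i)).p.IsHomLift (𝟙 V) m₂ :=
    isHomLift_comp_map (ObjectProperty.ι (Q i)) 𝒳.p (𝟙 V) m₂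
  have e : m₁ = m₂ := hom_eq_of_isFibSetoid (hset i) (𝟙 V) m₁ m₂
  have e' : φ₀ = ψ₀ := congrArg (fun t => t.hom) e
  rw [← hφ₀, ← hψ₀, e']

section RepWith

theorem repWith_of_repBySpWith (P : MorphismProperty Scheme.{u}) [P.IsStableUnderBaseChange]
    {F G : AlgSp.Sp S} (a : F ⟶ G) (h : AlgSp.RepBySpWith (AlgSp.RepWith P) a.hom) :
    AlgSp.RepWith P a := by
  rw [AlgSp.repBySpWith_hom_iff] at h
  apply MorphismProperty.relative.of_exists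
  intro U g
  have sq := IsPullback.of_hasPullback a g
  obtain ⟨-, hsnd⟩ := h g (pullback.fst a g) (pullback.snd a g) sq
  obtain ⟨V, s, t, sq2⟩ := hsnd.1 (𝟙 ((AlgSp.yon S).obj U))
  have hP := hsnd.2 _ _ _ sq2
  refine ⟨V, t ≫ pullback.fst a g, s, ?_, hP⟩
  have h3 := sq2.paste_horiz sq
  rw [Category.id_comp] at h3
  exact h3

end RepWith

section ClsMap

variable (hg : FibCat.IsFibGrpd 𝒳.p)

lemma tr_clsOf {x : 𝒳.obj} {V : Over S} (h : 𝒳.p.obj x = V) :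
    (clsPsh hg).map (eqToHom h.symm).op (clsOf x rfl) = clsOf x h := by
  subst h
  simp

lemma secOf_toCls {𝒜 : AlgSt.Cat S} (H : 𝒜 ⥤ᵇ 𝒳) (w : 𝒜.obj) :
    secOf (BasedFunctor.comp H (toCls hg)) w = clsOf (H.obj w) (H.w_obj w) :=
  tr_clsOf hg (H.w_obj w)

/-- The functor from the category of a sheaf representing a full subcategory to the category of
the presheaf of isomorphism classes. -/
noncomputable def clsFun (Q : 𝒳.obj → Prop) {A : AlgSp.Sp S}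
    (e : AlgSt.ofSp A ⥤ᵇ AlgSt.fullSub 𝒳 Q) : AlgSt.ofSp A ⥤ᵇ Stk.ofPsh (clsPsh hg) :=
  BasedFunctor.comp (BasedFunctor.comp e (AlgSt.subIncl 𝒳 Q)) (toCls hg)

/-- The induced map of sheaves. -/
noncomputable def clsMap (hsh : Presheaf.IsSheaf (AlgSp.J S) (clsPsh hg)) (Q : 𝒳.obj → Prop)
    {A : AlgSp.Sp S} (e : AlgSt.ofSp A ⥤ᵇ AlgSt.fullSub 𝒳 Q) :
    A ⟶ (⟨clsPsh hg, hsh⟩ : AlgSp.Sp S) :=
  ObjectProperty.homMk (pshMapOf (clsFun hg Q e))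

theorem repWith_openImm_clsMap (h𝒳 : AlgSt.IsAlgStack Scheme.fppfPrecoverage 𝒳)
    (hfs : FibCat.IsFibSetoid 𝒳.p) (hsh : Presheaf.IsSheaf (AlgSp.J S) (clsPsh hfs.1))
    (Q : 𝒳.obj → Prop) (hQ : AlgSt.IsOpenSubstack 𝒳 Q Scheme.fppfPrecoverage)
    {A : AlgSp.Sp S} (e : AlgSt.ofSp A ⥤ᵇ AlgSt.fullSub 𝒳 Q) (he : FibCat.IsEquivOver e) :
    AlgSp.RepWith @IsOpenImmersion (clsMap hfs.1 hsh Q e) := by
  apply repWith_of_repBySpWith
  show AlgSp.RepBySpWith (AlgSp.RepWith @IsOpenImmersion) (pshMapOf (clsFun hfs.1 Q e))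
  have hE := toCls_isEquivOver hfs
  obtain ⟨e', ⟨η⟩, ⟨ε⟩⟩ := he
  have he' : FibCat.IsEquivOver e' := ⟨e, ⟨ε⟩, ⟨η⟩⟩
  have i1 : BasedFunctor.comp (AlgSt.subIncl 𝒳 Q) (toCls hfs.1) ≅
      BasedFunctor.comp (BasedFunctor.comp e' e)
        (BasedFunctor.comp (AlgSt.subIncl 𝒳 Q) (toCls hfs.1)) :=
    (wr ε (BasedFunctor.comp (AlgSt.subIncl 𝒳 Q) (toCls hfs.1))).symm
  have i2 : BasedFunctor.comp e' (clsFun hfs.1 Q e) ≅
      BasedFunctor.comp e' (Stk.ofPshMap (pshMapOf (clsFun hfs.1 Q e))) :=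
    wl e' (isoPshMapOf (clsFun hfs.1 Q e))
  have iso : BasedFunctor.comp (AlgSt.subIncl 𝒳 Q) (toCls hfs.1) ≅
      BasedFunctor.comp e' (Stk.ofPshMap (pshMapOf (clsFun hfs.1 Q e))) := i1 ≪≫ i2
  have h2 : AlgSt.RepByAlgSpWith (AlgSp.RepWith @IsOpenImmersion)
      (Stk.ofPshMap (pshMapOf (clsFun hfs.1 Q e))) :=
    repByAlgSpWith_of_square _ _ (AlgSt.subIncl 𝒳 Q) e' (toCls hfs.1) he' hE iso hQ.2.2
  have hrep : AlgSp.RepBySp (pshMapOf (clsFun hfs.1 Q e)) :=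
    repBySp_of_repByAlgSp1 _ (repByAlgSp1_of_with _ _ h2)
  exact repBySpWith_of_repByAlgSpWith _ _ hrep h2

theorem exists_section_clsMap (hsh : Presheaf.IsSheaf (AlgSp.J S) (clsPsh hg))
    (Q : 𝒳.obj → Prop) {A : AlgSp.Sp S} (e : AlgSt.ofSp A ⥤ᵇ AlgSt.fullSub 𝒳 Q)
    (he : FibCat.IsEquivOver e) {T V : Over S} (jV : V ⟶ T) {a a' : 𝒳.obj}
    (ha : 𝒳.p.obj a = T) (ha' : 𝒳.p.obj a' = V) (φ : a' ⟶ a) (hφ : 𝒳.p.IsHomLift jV φ)
    (hQ : Q a') :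
    ∃ β : A.obj.obj (op V), (clsMap hg hsh Q e).hom.app (op V) β =
      (clsPsh hg).map jV.op (clsOf a ha) := by
  have h1 : (clsPsh hg).map jV.op (clsOf a ha) = clsOf a' ha' :=
    (clsPsh_map_eq_iff hg jV _ _).2 ⟨a', a, φ, ha', ha, hφ, rfl, rfl⟩
  rw [h1]
  subst ha'
  obtain ⟨b, ib, hib⟩ := IsEquivOver.exists_iso he (⟨a', hQ⟩ : (AlgSt.fullSub 𝒳 Q).obj)
  have hib1 : (AlgSt.fullSub 𝒳 Q).p.IsHomLift (𝟙 (𝒳.p.obj a')) ib.hom := hib
  have hb : b.base = 𝒳.p.obj a' :=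
    (e.w_obj b).symm.trans (IsHomLift.domain_eq (AlgSt.fullSub 𝒳 Q).p (𝟙 (𝒳.p.obj a')) ib.hom)
  obtain ⟨B, s⟩ := b
  change B = 𝒳.p.obj a' at hb
  subst hb
  refine ⟨s, ?_⟩
  show (pshMapOf (clsFun hg Q e)).app (op (𝒳.p.obj a')) s = _
  refine (pshMapOf_app (clsFun hg Q e) ⟨𝒳.p.obj a', s⟩).trans ?_
  refine (secOf_toCls hg (BasedFunctor.comp e (AlgSt.subIncl 𝒳 Q)) ⟨𝒳.p.obj a', s⟩).trans ?_
  rw [clsOf_eq_iff hg]
  haveI := hib1
  exact ⟨(ObjectProperty.ι Q).map ib.hom,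
    isHomLift_map_of_comp (ObjectProperty.ι Q) 𝒳.p (𝟙 (𝒳.p.obj a')) ib.hom⟩

end ClsMap

end H10PT
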