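import Mathlib
import Groth.Agent.Lib.Helper16.AlgSt.DiagToSelf
import Groth.Agent.Lib.Helper16.AlgSt.GoodAffine
import Groth.Agent.Lib.Helper17.AlgSpLocP
import Groth.Agent.Lib.Helper16.EtLocal
import Groth.Agent.Lib.Helper10.AlgStQCTop
import Groth.Agent.Lib.Helper10.AlgStQCDesc
import Groth.Agent.Lib.Helper10.AlgStChartInt
import Groth.Agent.Lib.Helper10.AlgStPtsSurj

/-!
# Finite diagonal from a finite flat cover by an affine scheme (well-nigh affine stacks)

* `repByAlgSpWith_imp`: monotonicity of `RepByAlgSpWith` in the property;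
* `isFiniteMor_of_repWith'`, `locP_lqf_of_isFiniteMor'` (after helper6's `ThickAlgSp3`, restated here
  to avoid its heavy imports), `isFiniteMor_diagonal_of_isSeparatedMor`;
* `repByAlgSpWith_finite_diag_overCat`: the diagonal over the base of an affine scheme is finite;
* `repByAlgSpWith_finite_diag_toSelf`: a stack with a finite, flat, lfp, surjective chart from an
  affine scheme has finite diagonal over the base (variant of helper16's
  `repByAlgSpWith_diag_toSelf_of_cover`).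
-/

set_option autoImplicit false
set_option backward.isDefEq.respectTransparency false
set_option backward.isDefEq.respectTransparency.types false

universe u

open CategoryTheory CategoryTheory.Limits AlgebraicGeometry Opposite

namespace H10PT

section Spaces

open AlgSp Groth.Agent.Lib.Helper16

variable {S : Scheme.{u}}

theorem isFiniteMor_of_repWith' {X Y : Sp S} (f : X ⟶ Y) (hf : RepWith @IsFinite f) :
    IsFiniteMor f := by
  intro Z hZ g
  obtain ⟨W, i, φ, sq⟩ := hf.rep g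
  have hi : IsFinite i.left := hf.property g φ i sq
  refine ⟨W, i, φ, sq, ?_, hi⟩
  haveI : IsAffine Z.left := hZ
  exact isAffine_of_isAffineHom i.left

theorem locP_lqf_of_isFiniteMor' {X Y : Sp S} (f : X ⟶ Y) (hf : IsFiniteMor f) :
    LocP (@LocallyQuasiFinite ⊓ @LocallyOfFiniteType) f := by
  haveI : (RepWith (S := S) @Etale).RespectsIso :=
    MorphismProperty.IsStableUnderBaseChange.respectsIso
  apply Groth.Agent.Lib.Helper17.locP_of_affine_base_change etLocalST_locallyQuasiFinite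
  intro Z hZ g U a k ha hc
  obtain ⟨W, i, φ, sqW, -, hi⟩ := hf hZ g
  have sq := IsPullback.of_hasPullback f g
  have e : (sq.isoIsPullback _ _ sqW).hom ≫ (yon S).map i = pullback.snd f g :=
    IsPullback.isoIsPullback_hom_snd _ _ sq sqW
  obtain ⟨a', ha'⟩ := (yon S).map_surjective (a ≫ (sq.isoIsPullback _ _ sqW).hom)
  have hae : RepWith @Etale ((yon S).map a') := by
    rw [ha']
    exact ((RepWith (S := S) @Etale).cancel_right_of_respectsIso a
      (sq.isoIsPullback _ _ sqW).hom).2 ha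
  have hae' : Etale a'.left := (repWith_yon_map_iff _ _).1 hae
  have hk : a' ≫ i = k := by
    apply (yon S).map_injective
    rw [Functor.map_comp, ha', Category.assoc, e, hc]
  have : IsFinite i.left := hi
  rw [← hk, Over.comp_left]
  exact etLocalST_locallyQuasiFinite.precomp a'.left i.left hae' ⟨inferInstance, inferInstance⟩

theorem isFiniteMor_diagonal_of_isSeparatedMor {X Y : Sp S} (f : X ⟶ Y)
    (h : IsSeparatedMor f) : IsFiniteMor (pullback.diagonal f) := by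
  apply isFiniteMor_of_repWith'
  have h' : RepWith @IsClosedImmersion (pullback.diagonal f) := h
  rw [repWith_iff] at h' ⊢
  refine ⟨h'.1, fun U V g fst snd sq => ?_⟩
  haveI : IsClosedImmersion snd.left := h'.2 g fst snd sq
  infer_instance

end Spaces

section Stacks

open Groth.Agent.Lib.Helper10.Fib Groth.Agent.Lib.Helper10.AlgStRep
open Groth.Agent.Lib.Helper28.AlgSt.PropInst Groth.Agent.Lib.Helper28.AlgSt.Descent
open Groth.Agent.Lib.Helper28.AlgSt.FpStack Groth.Agent.Lib.Helper28.AlgSt.DiagComp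
open Groth.Agent.Lib.Helper28.AlgSt.DiagRep Groth.Agent.Lib.Helper28.AlgSt.Basic
open Groth.Agent.Lib.Helper28.AlgSt.Key Groth.Agent.Lib.Helper28.AlgSt.SpaceCalc
open Groth.Agent.Lib.Helper28.AlgSt.Bridge

variable {S : Scheme.{u}}

theorem repByAlgSpWith_imp {𝒳 𝒴 : AlgSt.Cat S} {P Q : MorphismProperty (AlgSp.Sp S)}
    (f : 𝒳 ⥤ᵇ 𝒴)
    (h : ∀ (F : AlgSp.Space S) (U : Over S) (m : F.obj ⟶ (AlgSp.yon S).obj U), P m → Q m)
    (hf : AlgSt.RepByAlgSpWith P f) : AlgSt.RepByAlgSpWith Q f := by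
  intro U y
  obtain ⟨F, e, he, hP⟩ := hf U y
  exact ⟨F, e, he, h F U _ hP⟩

theorem repByAlgSpWith_finite_diag_overCat (U : Over S) [IsAffine U.left]
    (F : FibCat.overCat U ⥤ᵇ FibCat.selfOver (Over S)) :
    AlgSt.RepByAlgSpWith AlgSp.IsFiniteMor (FibCat.diag F) := by
  have heB := isEquivOver_toSelf_ofSch_terminal (S := S)
  obtain ⟨m, ⟨iso⟩⟩ := exists_mapOf (A := (AlgSp.ofScheme S).obj U)
    (B := (AlgSp.ofScheme S).obj (Over.mk (𝟙 S))) (AlgSt.toOverCat U)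
    (FibCat.toSelf (AlgSt.ofSch (Over.mk (𝟙 S)))) heB F
  refine repByAlgSpWith_diag_of_diagonal AlgSp.IsFiniteMor
    (Groth.Agent.Lib.Helper16.AlgStDC.good_finite (S := S)).bc (AlgSt.toOverCat U)
    (FibCat.toSelf (AlgSt.ofSch (Over.mk (𝟙 S)))) (isEquivOver_toOverCat U) heB F m iso ?_
  obtain ⟨k, hk⟩ := (AlgSp.yon S).map_surjective m.hom
  have hsep : IsSeparated k.left := inferInstance
  have h1 : AlgSp.IsSeparatedMor m.hom := by
    rw [← hk]
    exact (AlgSp.isSeparatedMor_yon_map_iff k).2 hsep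
  exact isFiniteMor_diagonal_of_isSeparatedMor _ h1

open Groth.Agent.Lib.Helper16.AlgStDC in
theorem repByAlgSpWith_finite_diag_toSelf {𝒳 : AlgSt.Cat S} (h𝒳 : FibCat.IsFibGrpd 𝒳.p)
    (hΔ : AlgSt.RepByAlgSp1 (FibCat.diag (FibCat.toSelf 𝒳)))
    (U : Over S) [IsAffine U.left] (w : FibCat.overCat U ⥤ᵇ 𝒳)
    (hw₁ : AlgSt.RepByAlgSpWith (AlgSp.LocP @Flat) w)
    (hw₂ : AlgSt.RepByAlgSpWith (AlgSp.LocP @LocallyOfFinitePresentation) w)
    (hw₃ : AlgSt.RepByAlgSpWith AlgSp.IsSurjectiveMor w)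
    (hw₄ : AlgSt.RepByAlgSpWith AlgSp.IsFiniteMor w) :
    AlgSt.RepByAlgSpWith AlgSp.IsFiniteMor (FibCat.diag (FibCat.toSelf 𝒳)) := by
  have hP := good_finite (S := S)
  have hS := isFibGrpd_selfOver (Over S)
  have f𝒲 := isFibGrpd_overForget U
  have hWW : FibCat.IsFibGrpd (FibCat.fp (BasedFunctor.comp w (FibCat.toSelf 𝒳))
      (BasedFunctor.comp w (FibCat.toSelf 𝒳))).p := isFibGrpd_fp _ _ f𝒲 f𝒲 hS
  have hww : FibCat.IsFibGrpd (FibCat.fp w w).p := isFibGrpd_fp _ _ f𝒲 f𝒲 h𝒳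
  have hΔpr : AlgSt.RepByAlgSpWith AlgSp.IsFiniteMor (FibCat.diag (FibCat.fpFst
      (BasedFunctor.comp w (FibCat.toSelf 𝒳)) (BasedFunctor.comp w (FibCat.toSelf 𝒳)))) :=
    repByAlgSpWith_diag_fpFst AlgSp.IsFiniteMor f𝒲 hS f𝒲 _ _
      (repByAlgSpWith_finite_diag_overCat U (BasedFunctor.comp w (FibCat.toSelf 𝒳)))
  have hi : AlgSt.RepByAlgSpWith AlgSp.IsFiniteMor
      (FibCat.fpLift (FibCat.fpFst w w) (FibCat.fpSnd w w) (compE w (FibCat.toSelf 𝒳))) := by
    refine Groth.Agent.Lib.Helper16.AlgStDC.repByAlgSpWith_of_comp hP hww hWW f𝒲 _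
      (FibCat.fpFst _ _) ?_ hΔpr
    exact repByAlgSpWith_iso AlgSp.IsFiniteMor (Iso.refl _)
      (repByAlgSpWith_fpFst AlgSp.IsFiniteMor w w hw₄)
  have H2 : AlgSt.RepByAlgSpWith AlgSp.IsFiniteMor
      (FibCat.fpFst (magN w w (FibCat.toSelf 𝒳)) (FibCat.diag (FibCat.toSelf 𝒳))) :=
    repByAlgSpWith_of_square AlgSp.IsFiniteMor _
      (FibCat.fpLift (FibCat.fpFst w w) (FibCat.fpSnd w w) (compE w (FibCat.toSelf 𝒳)))
      (magLam w w (FibCat.toSelf 𝒳) (compE w (FibCat.toSelf 𝒳)) (fun _ => rfl))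
      (BasedFunctor.id _)
      (isEquivOver_magLam w w (FibCat.toSelf 𝒳) (compE w (FibCat.toSelf 𝒳)) (fun _ => rfl)
        f𝒲 f𝒲 h𝒳 hS) (isEquivOver_id _) (Iso.refl _) hi
  exact repByAlgSpWith_of_fpFst_cover h𝒳 (isFibGrpd_fp _ _ h𝒳 h𝒳 hS) hWW AlgSp.IsFiniteMor hP.bc
    hP.loc (FibCat.diag (FibCat.toSelf 𝒳)) hΔ (magN w w (FibCat.toSelf 𝒳))
    (repByAlgSpWith_magN good_flat f𝒲 f𝒲 h𝒳 hS w w _ hw₁ hw₁)
    (repByAlgSpWith_magN good_lfp f𝒲 f𝒲 h𝒳 hS w w _ hw₂ hw₂)
    (repByAlgSpWith_magN good_surjective f𝒲 f𝒲 h𝒳 hS w w _ hw₃ hw₃) H2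

end Stacks

end H10PT
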