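import Mathlib

/-!
# Exactness of the Amitsur complex (Čech conerve form) of a faithfully flat ring map
-/

set_option autoImplicit false
universe u

open CategoryTheory CategoryTheory.Limits TensorProduct

namespace H10AM

variable (R A : Type u) [CommRing R] [CommRing A] [Algebra R A]

/-- The arrow `R → A`. -/
abbrev arr : Arrow CommRingCat.{u} := Arrow.mk (CommRingCat.ofHom (algebraMap R A))

/-- The terms of the Čech conerve. -/
noncomputable abbrev P (n : ℕ) : CommRingCat.{u} :=
  widePushout (CommRingCat.of R) (fun _ : Fin (n + 1) => CommRingCat.of A)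
    (fun _ => CommRingCat.ofHom (algebraMap R A))

/-- The legs. -/
noncomputable abbrev iota (n : ℕ) (i : Fin (n + 1)) : CommRingCat.of A ⟶ P R A n :=
  WidePushout.ι (fun _ : Fin (n + 1) => CommRingCat.ofHom (algebraMap R A)) i

/-- The head. -/
noncomputable abbrev hd (n : ℕ) : CommRingCat.of R ⟶ P R A n :=
  WidePushout.head (fun _ : Fin (n + 1) => CommRingCat.ofHom (algebraMap R A))

theorem arrow_iota (n : ℕ) (i : Fin (n + 1)) :
    CommRingCat.ofHom (algebraMap R A) ≫ iota R A n i = hd R A n :=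
  WidePushout.arrow_ι (fun _ : Fin (n + 1) => CommRingCat.ofHom (algebraMap R A)) i

theorem iota_algebraMap (n : ℕ) (i : Fin (n + 1)) (r : R) :
    (iota R A n i).hom (algebraMap R A r) = (hd R A n).hom r :=
  congrArg (fun g => g.hom r) (arrow_iota R A n i)

/-- The coface maps. -/
noncomputable abbrev del (n : ℕ) (j : Fin (n + 2)) : P R A n ⟶ P R A (n + 1) :=
  (arr R A).cechConerve.map (SimplexCategory.δ j)

theorem iota_del (n : ℕ) (j : Fin (n + 2)) (i : Fin (n + 1)) :
    iota R A n i ≫ del R A n j = iota R A (n + 1) (j.succAbove i) := by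
  simp only [del, Arrow.cechConerve_map]
  erw [WidePushout.ι_desc]
  rfl

theorem hd_del (n : ℕ) (j : Fin (n + 2)) : hd R A n ≫ del R A n j = hd R A (n + 1) := by
  simp only [del, Arrow.cechConerve_map]
  erw [WidePushout.head_desc]
  rfl

theorem del_iota_apply (n : ℕ) (j : Fin (n + 2)) (i : Fin (n + 1)) (a : A) :
    (del R A n j).hom ((iota R A n i).hom a) = (iota R A (n + 1) (j.succAbove i)).hom a :=
  congrArg (fun g => g.hom a) (iota_del R A n j i)

theorem del_hd_apply (n : ℕ) (j : Fin (n + 2)) (r : R) :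
    (del R A n j).hom ((hd R A n).hom r) = (hd R A (n + 1)).hom r :=
  congrArg (fun g => g.hom r) (hd_del R A n j)

theorem ringHom_ext (n : ℕ) {X : Type u} [CommRing X] (f g : P R A n →+* X)
    (h : ∀ i a, f ((iota R A n i).hom a) = g ((iota R A n i).hom a)) : f = g := by
  have h1 : CommRingCat.ofHom f = CommRingCat.ofHom g := by
    apply WidePushout.hom_ext
    · intro i
      apply CommRingCat.hom_ext
      apply RingHom.ext
      intro a
      exact h i a
    · apply CommRingCat.hom_ext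
      apply RingHom.ext
      intro r
      show f ((hd R A n).hom r) = g ((hd R A n).hom r)
      rw [← iota_algebraMap R A n 0 r]
      exact h 0 _
  exact congrArg CommRingCat.Hom.hom h1

/-- The `R`-algebra structure on the terms. -/
noncomputable instance algP (n : ℕ) : Algebra R (P R A n) := (hd R A n).hom.toAlgebra

theorem algebraMap_P (n : ℕ) (r : R) : algebraMap R (P R A n) r = (hd R A n).hom r := rfl

/-- The coface maps as algebra maps. -/
noncomputable def delA (n : ℕ) (j : Fin (n + 2)) : P R A n →ₐ[R] P R A (n + 1) :=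
  { (del R A n j).hom with
    commutes' := fun r => del_hd_apply R A n j r }

theorem delA_apply (n : ℕ) (j : Fin (n + 2)) (c : P R A n) :
    delA R A n j c = (del R A n j).hom c := rfl

/-- The legs of the ring map `P (n+1) → A ⊗ P n`. -/
noncomputable def sLeg (n : ℕ) (i : Fin (n + 2)) :
    CommRingCat.of A ⟶ CommRingCat.of (A ⊗[R] P R A n) :=
  Fin.cases (motive := fun _ => CommRingCat.of A ⟶ CommRingCat.of (A ⊗[R] P R A n))
    (CommRingCat.ofHom (Algebra.TensorProduct.includeLeftRingHom))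
    (fun i' => CommRingCat.ofHom
      ((Algebra.TensorProduct.includeRight : P R A n →ₐ[R] A ⊗[R] P R A n).toRingHom.comp
        (iota R A n i').hom)) i

theorem sLeg_zero (n : ℕ) (a : A) : (sLeg R A n 0).hom a = a ⊗ₜ[R] (1 : P R A n) := rfl

theorem sLeg_succ (n : ℕ) (i' : Fin (n + 1)) (a : A) :
    (sLeg R A n i'.succ).hom a = (1 : A) ⊗ₜ[R] (iota R A n i').hom a := rfl

theorem sLeg_w (n : ℕ) (i : Fin (n + 2)) :
    CommRingCat.ofHom (algebraMap R A) ≫ sLeg R A n i =
      CommRingCat.ofHom (algebraMap R (A ⊗[R] P R A n)) := by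
  refine Fin.cases ?_ (fun i' => ?_) i
  · apply CommRingCat.hom_ext
    apply RingHom.ext
    intro r
    rfl
  · apply CommRingCat.hom_ext
    apply RingHom.ext
    intro r
    show (1 : A) ⊗ₜ[R] (iota R A n i').hom (algebraMap R A r) =
      algebraMap R (A ⊗[R] P R A n) r
    rw [iota_algebraMap, Algebra.TensorProduct.algebraMap_apply']
    rfl

/-- The ring map `P (n+1) → A ⊗ P n` multiplying the first factor into `A`. -/
noncomputable def sHom (n : ℕ) : P R A (n + 1) ⟶ CommRingCat.of (A ⊗[R] P R A n) :=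
  WidePushout.desc (CommRingCat.ofHom (algebraMap R (A ⊗[R] P R A n))) (sLeg R A n) (sLeg_w R A n)

theorem iota_sHom (n : ℕ) (i : Fin (n + 2)) : iota R A (n + 1) i ≫ sHom R A n = sLeg R A n i :=
  WidePushout.ι_desc (fun _ : Fin (n + 2) => CommRingCat.ofHom (algebraMap R A))
    (CommRingCat.ofHom (algebraMap R (A ⊗[R] P R A n))) (sLeg R A n) (sLeg_w R A n) i

theorem hd_sHom (n : ℕ) :
    hd R A (n + 1) ≫ sHom R A n = CommRingCat.ofHom (algebraMap R (A ⊗[R] P R A n)) :=
  WidePushout.head_desc (fun _ : Fin (n + 2) => CommRingCat.ofHom (algebraMap R A))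
    (CommRingCat.ofHom (algebraMap R (A ⊗[R] P R A n))) (sLeg R A n) (sLeg_w R A n)

theorem sHom_iota_zero (n : ℕ) (a : A) :
    (sHom R A n).hom ((iota R A (n + 1) 0).hom a) = a ⊗ₜ[R] (1 : P R A n) :=
  congrArg (fun g => g.hom a) (iota_sHom R A n 0)

theorem sHom_iota_succ (n : ℕ) (i' : Fin (n + 1)) (a : A) :
    (sHom R A n).hom ((iota R A (n + 1) i'.succ).hom a) = (1 : A) ⊗ₜ[R] (iota R A n i').hom a :=
  congrArg (fun g => g.hom a) (iota_sHom R A n i'.succ)

/-- `sHom` as an algebra map. -/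
noncomputable def sA (n : ℕ) : P R A (n + 1) →ₐ[R] A ⊗[R] P R A n :=
  { (sHom R A n).hom with
    commutes' := fun r => congrArg (fun g => g.hom r) (hd_sHom R A n) }

theorem sA_apply (n : ℕ) (c : P R A (n + 1)) : sA R A n c = (sHom R A n).hom c := rfl

/-- `s ∘ δ₀ = 1 ⊗ -`. -/
theorem sHom_del_zero (n : ℕ) (c : P R A n) :
    (sHom R A n).hom ((del R A n 0).hom c) = (1 : A) ⊗ₜ[R] c := by
  have h := ringHom_ext R A n
    ((sHom R A n).hom.comp (del R A n 0).hom)
    (Algebra.TensorProduct.includeRight : P R A n →ₐ[R] A ⊗[R] P R A n).toRingHom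
    (fun i a => by
      show (sHom R A n).hom ((del R A n 0).hom ((iota R A n i).hom a)) =
        (1 : A) ⊗ₜ[R] (iota R A n i).hom a
      rw [del_iota_apply, Fin.succAbove_zero, sHom_iota_succ])
  exact RingHom.congr_fun h c

/-- `s ∘ δ_{j+1} = (1 ⊗ δ_j) ∘ s`. -/
theorem sHom_del_succ (k : ℕ) (j : Fin (k + 2)) (c : P R A (k + 1)) :
    (sHom R A (k + 1)).hom ((del R A (k + 1) j.succ).hom c) =
      Algebra.TensorProduct.map (AlgHom.id R A) (delA R A k j) ((sHom R A k).hom c) := by
  have h := ringHom_ext R A (k + 1)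
    ((sHom R A (k + 1)).hom.comp (del R A (k + 1) j.succ).hom)
    ((Algebra.TensorProduct.map (AlgHom.id R A) (delA R A k j)).toRingHom.comp (sHom R A k).hom)
    (fun i a => by
      show (sHom R A (k + 1)).hom ((del R A (k + 1) j.succ).hom ((iota R A (k + 1) i).hom a)) =
        Algebra.TensorProduct.map (AlgHom.id R A) (delA R A k j)
          ((sHom R A k).hom ((iota R A (k + 1) i).hom a))
      rw [del_iota_apply]
      refine Fin.cases ?_ (fun i' => ?_) i
      · rw [Fin.succ_succAbove_zero, sHom_iota_zero, sHom_iota_zero,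
          Algebra.TensorProduct.map_tmul, map_one]
        rfl
      · rw [Fin.succ_succAbove_succ, sHom_iota_succ, sHom_iota_succ,
          Algebra.TensorProduct.map_tmul, map_one, delA_apply, del_iota_apply])
  exact RingHom.congr_fun h c

/-- The contracting maps. -/
noncomputable def hA (k : ℕ) : A ⊗[R] P R A (k + 1) →ₐ[R] A ⊗[R] P R A k :=
  Algebra.TensorProduct.lift (Algebra.TensorProduct.includeLeft) (sA R A k)
    (fun _ _ => Commute.all _ _)

theorem hA_tmul (k : ℕ) (a : A) (c : P R A (k + 1)) :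
    hA R A k (a ⊗ₜ[R] c) = (a ⊗ₜ[R] (1 : P R A k)) * (sHom R A k).hom c := rfl

/-- The base-changed coface maps. -/
noncomputable abbrev EE (k : ℕ) (j : Fin (k + 2)) : A ⊗[R] P R A k →ₐ[R] A ⊗[R] P R A (k + 1) :=
  Algebra.TensorProduct.map (AlgHom.id R A) (delA R A k j)

theorem hA_EE_zero (k : ℕ) (t : A ⊗[R] P R A k) : hA R A k (EE R A k 0 t) = t := by
  have h : (hA R A k).comp (EE R A k 0) = AlgHom.id R _ := by
    apply Algebra.TensorProduct.ext'
    intro a c
    show hA R A k (EE R A k 0 (a ⊗ₜ[R] c)) = a ⊗ₜ[R] c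
    rw [Algebra.TensorProduct.map_tmul, hA_tmul, delA_apply, sHom_del_zero,
      Algebra.TensorProduct.tmul_mul_tmul, AlgHom.id_apply, mul_one, one_mul]
  exact AlgHom.congr_fun h t

theorem hA_EE_succ (k : ℕ) (j : Fin (k + 2)) (t : A ⊗[R] P R A (k + 1)) :
    hA R A (k + 1) (EE R A (k + 1) j.succ t) = EE R A k j (hA R A k t) := by
  have h : (hA R A (k + 1)).comp (EE R A (k + 1) j.succ) = (EE R A k j).comp (hA R A k) := by
    apply Algebra.TensorProduct.ext'
    intro a c
    show hA R A (k + 1) (EE R A (k + 1) j.succ (a ⊗ₜ[R] c)) = EE R A k j (hA R A k (a ⊗ₜ[R] c))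
    rw [Algebra.TensorProduct.map_tmul, hA_tmul, delA_apply, sHom_del_succ, hA_tmul, map_mul,
      Algebra.TensorProduct.map_tmul, map_one, AlgHom.id_apply]
  exact AlgHom.congr_fun h t

/-- The alternating sum of the coface maps. -/
noncomputable def DD (k : ℕ) : P R A k →ₗ[R] P R A (k + 1) :=
  ∑ j : Fin (k + 2), ((-1 : ℤ) ^ (j : ℕ)) • (delA R A k j).toLinearMap

theorem DD_apply (k : ℕ) (c : P R A k) :
    DD R A k c = ∑ j : Fin (k + 2), ((-1 : ℤ) ^ (j : ℕ)) • (del R A k j).hom c := by
  unfold DD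
  rw [LinearMap.sum_apply]
  rfl

theorem lTensor_DD (k : ℕ) (t : A ⊗[R] P R A k) :
    (DD R A k).lTensor A t = ∑ j : Fin (k + 2), ((-1 : ℤ) ^ (j : ℕ)) • EE R A k j t := by
  induction t using TensorProduct.induction_on with
  | zero => simp
  | tmul a c =>
    rw [LinearMap.lTensor_tmul, DD_apply, TensorProduct.tmul_sum]
    apply Finset.sum_congr rfl
    intro j _
    rw [TensorProduct.tmul_smul]
    rfl
  | add x y hx hy =>
    rw [map_add, hx, hy, ← Finset.sum_add_distrib]
    apply Finset.sum_congr rfl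
    intro j _
    rw [map_add, smul_add]

theorem homotopy (m : ℕ) (t : A ⊗[R] P R A (m + 1)) :
    hA R A (m + 1) ((DD R A (m + 1)).lTensor A t) + (DD R A m).lTensor A (hA R A m t) = t := by
  rw [lTensor_DD, lTensor_DD, map_sum, Fin.sum_univ_succ]
  have h0 : hA R A (m + 1) (((-1 : ℤ) ^ ((0 : Fin (m + 1 + 2)) : ℕ)) • EE R A (m + 1) 0 t) = t := by
    rw [Fin.val_zero, pow_zero, one_smul, hA_EE_zero]
  rw [h0, add_assoc, ← Finset.sum_add_distrib]
  have h1 : ∀ j : Fin (m + 2),
      hA R A (m + 1) (((-1 : ℤ) ^ ((j.succ : Fin (m + 1 + 2)) : ℕ)) • EE R A (m + 1) j.succ t) +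
        ((-1 : ℤ) ^ (j : ℕ)) • EE R A m j (hA R A m t) = 0 := by
    intro j
    rw [map_zsmul, hA_EE_succ, Fin.val_succ, pow_succ, mul_neg_one, neg_smul, neg_add_cancel]
  rw [Finset.sum_congr rfl (fun j _ => h1 j), Finset.sum_const_zero, add_zero]

theorem DD_comp_zero (k : ℕ) (c : P R A k)
    (hsq : ∀ c : P R A k, DD R A (k + 1) (DD R A k c) = 0) : DD R A (k + 1) (DD R A k c) = 0 :=
  hsq c

variable [Module.FaithfullyFlat R A]

theorem exact_DD (m : ℕ) (hsq : ∀ c : P R A m, DD R A (m + 1) (DD R A m c) = 0) :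
    Function.Exact (DD R A m) (DD R A (m + 1)) := by
  rw [← Module.FaithfullyFlat.lTensor_exact_iff_exact R A]
  intro t
  constructor
  · intro ht
    refine ⟨hA R A m t, ?_⟩
    have h := homotopy R A m t
    rw [ht, map_zero, zero_add] at h
    exact h
  · rintro ⟨u, rfl⟩
    rw [← LinearMap.comp_apply, ← LinearMap.lTensor_comp]
    have h0 : DD R A (m + 1) ∘ₗ DD R A m = 0 := LinearMap.ext hsq
    rw [h0, LinearMap.lTensor_zero, LinearMap.zero_apply]

/-- The cosimplicial abelian group underlying the Čech conerve. -/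
noncomputable abbrev XX : CosimplicialObject AddCommGrpCat.{u} :=
  (arr R A).cechConerve ⋙ forget₂ CommRingCat RingCat ⋙ forget₂ RingCat AddCommGrpCat

theorem objD_apply (k : ℕ) (c : P R A k) :
    (AlgebraicTopology.AlternatingCofaceMapComplex.objD (XX R A) k).hom c = DD R A k c := by
  rw [DD_apply]
  have h : (AlgebraicTopology.AlternatingCofaceMapComplex.objD (XX R A) k).hom =
      ∑ i : Fin (k + 2), ((-1 : ℤ) ^ (i : ℕ)) • ((XX R A).δ i).hom :=
    map_sum AddCommGrpCat.homAddEquiv _ _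
  rw [h, AddMonoidHom.finset_sum_apply]
  rfl

theorem main (n : ℕ) (hn : 0 < n) :
    (AlgebraicTopology.AlternatingCofaceMapComplex.obj (XX R A)).ExactAt n := by
  obtain ⟨m, rfl⟩ : ∃ m, n = m + 1 := ⟨n - 1, by omega⟩
  have hd : ∀ k, (AlgebraicTopology.AlternatingCofaceMapComplex.obj (XX R A)).d k (k + 1) =
      AlgebraicTopology.AlternatingCofaceMapComplex.objD (XX R A) k := fun k =>
    CochainComplex.of_d (fun n => (XX R A).obj (SimplexCategory.mk n))
      (AlgebraicTopology.AlternatingCofaceMapComplex.objD (XX R A)) k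
  have hsq : ∀ c : P R A m, DD R A (m + 1) (DD R A m c) = 0 := by
    intro c
    have h0 := AlgebraicTopology.AlternatingCofaceMapComplex.d_squared (XX R A) m
    have h1 : (AlgebraicTopology.AlternatingCofaceMapComplex.objD (XX R A) (m + 1)).hom
        ((AlgebraicTopology.AlternatingCofaceMapComplex.objD (XX R A) m).hom c) = 0 :=
      congrArg (fun g => g.hom c) h0
    rw [objD_apply R A m c] at h1
    exact (objD_apply R A (m + 1) (DD R A m c)).symm.trans h1
  have hex := exact_DD R A m hsq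
  rw [HomologicalComplex.exactAt_iff' _ m (m + 1) (m + 1 + 1) (by simp) (by simp),
    ShortComplex.ab_exact_iff]
  intro x hx
  have hx1 : ((AlgebraicTopology.AlternatingCofaceMapComplex.obj (XX R A)).d (m + 1)
      (m + 1 + 1)).hom x = 0 := hx
  rw [hd] at hx1
  have hx2 : DD R A (m + 1) x = 0 := (objD_apply R A (m + 1) x).symm.trans hx1
  obtain ⟨y, hy⟩ := (hex x).mp hx2
  refine ⟨y, ?_⟩
  show ((AlgebraicTopology.AlternatingCofaceMapComplex.obj (XX R A)).d m (m + 1)).hom y = x
  rw [hd]
  exact (objD_apply R A m y).trans hy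

end H10AM
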