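import Mathlib
import Groth.Prelude.Def_Dieu

/-!
# The scalar extension `Dieu.BC g P` of a finite projective module: finiteness, projectivity, ranks
-/

set_option autoImplicit false
universe u v w

namespace H10BCR

open TensorProduct Dieu

section alg

variable {A : Type u} {B : Type v} [CommRing A] [CommRing B] [Algebra A B]
variable (P : Type w) [AddCommGroup P] [Module A P]

/-- `B` with its algebra module structure is `Res (algebraMap A B)`. -/
noncomputable def resEquiv : B ≃ₗ[A] Res (algebraMap A B) where
  toFun b := Res.mk _ b
  invFun t := t.val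
  map_add' _ _ := rfl
  map_smul' a b := by
    apply Res.ext
    show a • b = algebraMap A B a * b
    exact Algebra.smul_def a b
  left_inv _ := rfl
  right_inv _ := rfl

/-- The comparison map as a plain function. -/
noncomputable def toBCfun (z : B ⊗[A] P) : BC (algebraMap A B) P :=
  TensorProduct.congr (resEquiv (A := A) (B := B)) (LinearEquiv.refl A P) z

theorem toBCfun_zero : toBCfun P (0 : B ⊗[A] P) = 0 :=
  map_zero (TensorProduct.congr (resEquiv (A := A) (B := B)) (LinearEquiv.refl A P))

theorem toBCfun_add (x y : B ⊗[A] P) : toBCfun P (x + y) = toBCfun P x + toBCfun P y :=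
  map_add (TensorProduct.congr (resEquiv (A := A) (B := B)) (LinearEquiv.refl A P)) x y

theorem toBCfun_tmul (c : B) (x : P) : toBCfun P (c ⊗ₜ[A] x) = BC.tmul (algebraMap A B) c x :=
  rfl

theorem toBCfun_smul (b : B) (z : B ⊗[A] P) : toBCfun P (b • z) = b • toBCfun P z := by
  induction z using TensorProduct.induction_on with
  | zero => rw [smul_zero, toBCfun_zero, smul_zero]
  | tmul c x =>
    rw [TensorProduct.smul_tmul', toBCfun_tmul, toBCfun_tmul, BC.smul_tmul]
    rfl
  | add z₁ z₂ h₁ h₂ => rw [smul_add, toBCfun_add, toBCfun_add, h₁, h₂, smul_add]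

/-- Mathlib's base change `B ⊗[A] P` is `BC (algebraMap A B) P`. -/
noncomputable def equivBC : (B ⊗[A] P) ≃ₗ[B] BC (algebraMap A B) P where
  toFun z := toBCfun P z
  invFun z := (TensorProduct.congr (resEquiv (A := A) (B := B)) (LinearEquiv.refl A P)).symm z
  map_add' x y := toBCfun_add P x y
  map_smul' b z := toBCfun_smul P b z
  left_inv z := LinearEquiv.symm_apply_apply _ z
  right_inv z := LinearEquiv.apply_symm_apply _ z

theorem finite_BC_alg [Module.Finite A P] : Module.Finite B (BC (algebraMap A B) P) :=
  Module.Finite.equiv (equivBC P)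

theorem projective_BC_alg [Module.Projective A P] :
    Module.Projective B (BC (algebraMap A B) P) :=
  Module.Projective.of_equiv (equivBC P)

theorem rankAtStalk_BC_alg [Module.Finite A P] [Module.Flat A P] (q : PrimeSpectrum B) :
    Module.rankAtStalk (BC (algebraMap A B) P) q =
      Module.rankAtStalk P (q.comap (algebraMap A B)) := by
  rw [← Module.rankAtStalk_eq_of_equiv (equivBC P)]
  exact Module.rankAtStalk_baseChange q

end alg

section general

variable {A : Type u} {B : Type v} [CommRing A] [CommRing B] (g : A →+* B)
variable (P : Type w) [AddCommGroup P] [Module A P]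

theorem finite_BC [Module.Finite A P] : Module.Finite B (BC g P) := by
  letI := g.toAlgebra
  exact finite_BC_alg P

theorem projective_BC [Module.Projective A P] : Module.Projective B (BC g P) := by
  letI := g.toAlgebra
  exact projective_BC_alg P

theorem rankAtStalk_BC [Module.Finite A P] [Module.Flat A P] (q : PrimeSpectrum B) :
    Module.rankAtStalk (BC g P) q = Module.rankAtStalk P (q.comap g) := by
  letI := g.toAlgebra
  exact rankAtStalk_BC_alg P q

theorem bijective_of_surjective_BC {A : Type u} [CommRing A] (τ : A →+* A) (P : Type w)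
    [AddCommGroup P] [Module A P] [Module.Finite A P] [Module.Projective A P]
    (hτ : ∀ (𝔪 : Ideal A) [𝔪.IsMaximal], Ideal.comap τ 𝔪 = 𝔪) (Φ : BC τ P →ₗ[A] P)
    (hΦ : Function.Surjective Φ) : Function.Bijective Φ := by
  haveI : Module.Finite A (BC τ P) := finite_BC τ P
  haveI : Module.Projective A (BC τ P) := projective_BC τ P
  refine Module.bijective_of_surjective_of_rankAtStalk_eq hΦ (fun 𝔪 _ => ?_)
  rw [rankAtStalk_BC τ P]
  congr 1
  exact PrimeSpectrum.ext (hτ 𝔪)

end general

end H10BCR
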