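import Groth.Agent.Lib.Helper10.FD1
import Groth.Prelude.Def_AlgSt6
import Groth.Prelude.Def_AlgSt3

/-!
# Helper library (helper10): fppf sheaf torsors under group algebraic spaces are algebraic spaces
-/

set_option autoImplicit false
universe u v w
open CategoryTheory CategoryTheory.Limits AlgebraicGeometry Opposite MonoidalCategory
  CartesianMonoidalCategory

namespace H10PT.FD

open AlgSp Groth.Agent.Lib.Helper15 Groth.Agent.Lib.Helper16

variable {S : Scheme.{u}}

theorem locP_yon_map {P : MorphismProperty Scheme.{u}} (hP : EtLocalST P) {U V : Over S} (m : U ⟶ V)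
    (h : P m.left) : LocP P ((yon S).map m) := by
  haveI := hP.baseChange
  rw [locP_iff_repWith hP (IsAlgSpace.yon_obj _) (IsAlgSpace.yon_obj _) _ (representable_yon_map _),
    repWith_yon_map_iff]
  exact h

theorem isFppfCover_yon {T : Over S} {ι : Type u} (U : ι → Over S) (k : ∀ i, U i ⟶ T)
    (hfl : ∀ i, Flat (k i).left) (hfp : ∀ i, LocallyOfFinitePresentation (k i).left)
    (hs : ∀ x : T.left, ∃ i, x ∈ Set.range (k i).left) :
    IsFppfCover (fun i => (yon S).obj (U i)) (fun i => (yon S).map (k i)) := by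
  refine ⟨fun i => ⟨locP_yon_map etLocalST_flat _ (hfl i),
    locP_yon_map etLocalST_locallyOfFinitePresentation _ (hfp i)⟩, fun x => ?_⟩
  obtain ⟨t, rfl⟩ := (Points.schemeHomeo T).surjective x
  obtain ⟨i, y, hy⟩ := hs t
  refine ⟨i, Points.schemeHomeo (U i) y, ?_⟩
  rw [Points.map_yon_map_apply]
  exact congrArg _ hy

/-- An fppf sheaf torsor under a group algebraic space over an algebraic space is an algebraic space. -/
theorem isAlgSpace_torsor {B : Sp S} (hB : IsAlgSpace B) (G : Over B) [GrpObj G]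
    (hG : IsAlgSpace G.left) {X : Over B} (aX : AlgSp.GAction G X)
    (A : AlgSt.SpQuotObj Scheme.fppfPrecoverage G aX) : IsAlgSpace A.P.left := by
  classical
  obtain ⟨R, hR, hsec⟩ := A.loc
  have hR' : R ∈ Scheme.precoverage (@Flat ⊓ @LocallyOfFinitePresentation) A.base.left := hR
  obtain ⟨h1, h2⟩ := hR'
  rw [Presieve.mem_comap_jointlySurjectivePrecoverage_iff] at h1
  choose V f hf v hv using h1
  choose s hs using fun x => hsec (f x) (hf x)
  have hfl : ∀ x, Flat (f x) := fun x => (h2 (hf x)).1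
  have hfp : ∀ x, LocallyOfFinitePresentation (f x) := fun x => (h2 (hf x)).2
  obtain ⟨U, hU⟩ : ∃ U : A.base.left → Over S, U = fun x => Over.mk (f x ≫ A.base.hom) := ⟨_, rfl⟩
  subst hU
  obtain ⟨k, hk⟩ : ∃ k : ∀ x, Over.mk (f x ≫ A.base.hom) ⟶ A.base, k = fun x => Over.homMk (f x) :=
    ⟨_, rfl⟩
  have hkl : ∀ x, (k x).left = f x := fun x => by rw [hk]; rfl
  have hcov : IsFppfCover (fun x => (yon S).obj (Over.mk (f x ≫ A.base.hom)))
      (fun x => (yon S).map (k x)) :=
    isFppfCover_yon _ k (fun x => by rw [hkl]; exact hfl x) (fun x => by rw [hkl]; exact hfp x)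
      (fun x => ⟨x, v x, by rw [hkl]; exact hv x⟩)
  refine isAlgSpace_of_fppf_cover (IsAlgSpace.yon_obj A.base) _ (fun x => IsAlgSpace.yon_obj _) _ hcov
    A.P.left A.π.left (fun x => ?_)
  have cartL : IsPullback A.act.act.left (snd G A.P).left A.π.left A.π.left :=
    A.cart.map (Over.forget B)
  have sqG : IsPullback (fst G A.P).left (snd G A.P).left G.hom A.P.hom :=
    IsPullback.of_hasPullback _ _
  have sqZ := IsPullback.of_hasPullback (snd G A.P).left (s x)
  have hZ : IsAlgSpace (pullback (snd G A.P).left (s x)) :=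
    isAlgSpace_of_isPullback hG hB.diag (IsAlgSpace.yon_obj _) (sqZ.paste_horiz sqG)
  have sq2 := sqZ.paste_horiz cartL
  have e : s x ≫ A.π.left = (yon S).map (k x) := by rw [hs x, hk]
  rw [e] at sq2
  exact hZ.of_iso sq2.isoPullback

/-- The inclusion of a full subcategory containing every object is an equivalence over the base. -/
theorem isEquivOver_subIncl_of_forall (𝒳 : BasedCategory.{v, w} (Over S)) (Q : 𝒳.obj → Prop)
    (h : ∀ x, Q x) : FibCat.IsEquivOver (AlgSt.subIncl 𝒳 Q) := by
  let Ginv : 𝒳 ⥤ᵇ AlgSt.fullSub 𝒳 Q :=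
    { toFunctor := ObjectProperty.lift Q (𝟭 _) h
      w := rfl }
  refine ⟨Ginv, ⟨BasedNatIso.mkNatIso (NatIso.ofComponents (fun A => Iso.refl A) ?_) ?_⟩,
    ⟨BasedNatIso.mkNatIso (NatIso.ofComponents (fun A => Iso.refl A) ?_) ?_⟩⟩
  · intro A A' m
    exact (Category.comp_id _).trans (Category.id_comp _).symm
  · intro A
    exact IsHomLift.id rfl
  · intro A A' m
    exact (Category.comp_id _).trans (Category.id_comp _).symm
  · intro A
    exact IsHomLift.id rfl

end H10PT.FD
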