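import Mathlib

/-!
# Gluing sheaves of types along a covering sieve (elementwise form)

Let `R` be a sieve on `U`.  A gluing datum `GD J R` is a family of sheaves `E a`, one for each arrow
`a` of `R`, each with a map `pr` to the representable presheaf of the source of `a`, and transition
maps `t k : E a ⟶ E b` for `k : a ⟶ b` which are functorial and cartesian over the `pr`.
We construct the glued presheaf `Eu D` (points: a map `f` to `U` together with a compatible family of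
sections over the arrows of `R` through which `f` factors), prove it is a sheaf when `J` is
subcanonical, and construct the cartesian cocone `cNat a : E a ⟶ Eu D`.
-/

set_option autoImplicit false

universe u

open CategoryTheory Opposite

namespace H10PT

namespace ShGlue

variable {C : Type (u + 1)} [Category.{u} C]

section Idx

variable {U : C} {R : Sieve U}

/-- The index category: arrows of the sieve. -/
abbrev Idx (R : Sieve U) := R.arrows.category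

/-- An object of the index category. -/
abbrev imk {V : C} (v : V ⟶ U) (hv : R v) : Idx R := ⟨Over.mk v, hv⟩

/-- A morphism of the index category. -/
def ihom {a b : Idx R} (k : a.obj.left ⟶ b.obj.left) (h : k ≫ b.obj.hom = a.obj.hom) : a ⟶ b :=
  ObjectProperty.homMk (Over.homMk k h)

@[simp] lemma ihom_left {a b : Idx R} (k : a.obj.left ⟶ b.obj.left)
    (h : k ≫ b.obj.hom = a.obj.hom) : (ihom k h).hom.left = k := rfl

lemma ihom_ext {a b : Idx R} {k k' : a ⟶ b} (h : k.hom.left = k'.hom.left) : k = k' := by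
  apply ObjectProperty.hom_ext
  exact Over.OverMorphism.ext h

lemma iw {a b : Idx R} (k : a ⟶ b) : k.hom.left ≫ b.obj.hom = a.obj.hom := Over.w k.hom

@[simp] lemma comp_left {a b c : Idx R} (k : a ⟶ b) (l : b ⟶ c) :
    (k ≫ l).hom.left = k.hom.left ≫ l.hom.left := rfl

@[simp] lemma id_left (a : Idx R) : (𝟙 a : a ⟶ a).hom.left = 𝟙 a.obj.left := rfl

end Idx

lemma map_map (P : Cᵒᵖ ⥤ Type (u + 1)) {X Y Z : C} (f : X ⟶ Y) (g : Y ⟶ Z) (s : P.obj (op Z)) :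
    P.map f.op (P.map g.op s) = P.map (f ≫ g).op s := by
  rw [op_comp, Functor.map_comp_apply]

lemma map_one (P : Cᵒᵖ ⥤ Type (u + 1)) {X : C} (s : P.obj (op X)) : P.map (𝟙 X).op s = s := by
  simp

variable (J : GrothendieckTopology C) {U : C} (R : Sieve U)

/-- A gluing datum of sheaves over the sieve `R`. -/
structure GD where
  E : Idx R → (Cᵒᵖ ⥤ Type (u + 1))
  sheaf : ∀ a, Presieve.IsSheaf J (E a)
  pr : ∀ (a : Idx R) ⦃W : C⦄, (E a).obj (op W) → (W ⟶ a.obj.left)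
  pr_map : ∀ (a : Idx R) ⦃W W' : C⦄ (g : W' ⟶ W) (s : (E a).obj (op W)),
    pr a ((E a).map g.op s) = g ≫ pr a s
  t : ∀ ⦃a b : Idx R⦄, (a ⟶ b) → (E a ⟶ E b)
  pr_t : ∀ ⦃a b : Idx R⦄ (k : a ⟶ b) ⦃W : C⦄ (s : (E a).obj (op W)),
    pr b ((t k).app (op W) s) = pr a s ≫ k.hom.left
  t_id : ∀ (a : Idx R) ⦃W : C⦄ (s : (E a).obj (op W)), (t (𝟙 a)).app (op W) s = s
  t_comp : ∀ ⦃a b c : Idx R⦄ (k : a ⟶ b) (l : b ⟶ c) ⦃W : C⦄ (s : (E a).obj (op W)),
    (t (k ≫ l)).app (op W) s = (t l).app (op W) ((t k).app (op W) s)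
  cart : ∀ ⦃a b : Idx R⦄ (k : a ⟶ b) ⦃W : C⦄ (s : (E b).obj (op W)) (l : W ⟶ a.obj.left),
    l ≫ k.hom.left = pr b s → ∃! s' : (E a).obj (op W), (t k).app (op W) s' = s ∧ pr a s' = l

variable {J R}
variable (D : GD J R)

lemma GD.t_eq {a b : Idx R} {k k' : a ⟶ b} (e : k = k') {W : C} (s : (D.E a).obj (op W)) :
    (D.t k).app (op W) s = (D.t k').app (op W) s := by
  subst e; rfl

lemma GD.t_nat {a b : Idx R} (k : a ⟶ b) {W W' : C} (g : W' ⟶ W) (s : (D.E a).obj (op W)) :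
    (D.t k).app (op W') ((D.E a).map g.op s) = (D.E b).map g.op ((D.t k).app (op W) s) :=
  NatTrans.naturality_apply (D.t k) g.op s

/-- A point of the glued presheaf. -/
structure Pt (W : C) where
  f : W ⟶ U
  σ : ∀ (a : Idx R) (g : a.obj.left ⟶ W), g ≫ f = a.obj.hom → (D.E a).obj (op a.obj.left)
  pr_σ : ∀ (a : Idx R) (g : a.obj.left ⟶ W) (h : g ≫ f = a.obj.hom), D.pr a (σ a g h) = 𝟙 _
  compat : ∀ ⦃a' a : Idx R⦄ (k : a' ⟶ a) (g : a.obj.left ⟶ W) (h : g ≫ f = a.obj.hom)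
    (h' : (k.hom.left ≫ g) ≫ f = a'.obj.hom),
    (D.t k).app (op a'.obj.left) (σ a' (k.hom.left ≫ g) h') =
      (D.E a).map k.hom.left.op (σ a g h)

variable {D}

lemma Pt.ext' {W : C} {x y : Pt D W} (hf : x.f = y.f)
    (hσ : ∀ (a : Idx R) (g : a.obj.left ⟶ W) (h : g ≫ x.f = a.obj.hom)
      (h' : g ≫ y.f = a.obj.hom), x.σ a g h = y.σ a g h') : x = y := by
  obtain ⟨f, σ, p, c⟩ := x
  obtain ⟨f', σ', p', c'⟩ := y
  have hf' : f = f' := hf
  subst hf'
  have hσ' : σ = σ' := by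
    funext a g h
    exact hσ a g h h
  subst hσ'
  rfl

lemma Pt.σ_congr {W : C} (x : Pt D W) (a : Idx R) {g g' : a.obj.left ⟶ W} (e : g = g')
    (h : g ≫ x.f = a.obj.hom) (h' : g' ≫ x.f = a.obj.hom) : x.σ a g h = x.σ a g' h' := by
  subst e; rfl

lemma Pt.σ_of_eq {W : C} {x y : Pt D W} (e : x = y) (a : Idx R) (g : a.obj.left ⟶ W)
    (h : g ≫ x.f = a.obj.hom) (h' : g ≫ y.f = a.obj.hom) : x.σ a g h = y.σ a g h' := by
  subst e; rfl

/-- Restriction of points. -/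
def res {W W' : C} (w : W' ⟶ W) (x : Pt D W) : Pt D W' where
  f := w ≫ x.f
  σ a g h := x.σ a (g ≫ w) (by rw [Category.assoc, h])
  pr_σ a g h := x.pr_σ a (g ≫ w) _
  compat a' a k g h h' :=
    (congrArg (fun z => (D.t k).app (op a'.obj.left) z)
      (x.σ_congr a' (Category.assoc _ _ _) _ _)).trans
      (x.compat k (g ≫ w) (by rw [Category.assoc, h])
        (by simpa only [Category.assoc] using h'))

@[simp] lemma res_f {W W' : C} (w : W' ⟶ W) (x : Pt D W) : (res w x).f = w ≫ x.f := rfl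

lemma res_σ {W W' : C} (w : W' ⟶ W) (x : Pt D W) (a : Idx R) (g : a.obj.left ⟶ W')
    (h : g ≫ (res w x).f = a.obj.hom) (h' : (g ≫ w) ≫ x.f = a.obj.hom) :
    (res w x).σ a g h = x.σ a (g ≫ w) h' := rfl

variable (D) in
/-- The glued presheaf. -/
def Eu : Cᵒᵖ ⥤ Type (u + 1) where
  obj W := Pt D W.unop
  map w := ↾(res w.unop)
  map_id W := by
    ext x
    exact Pt.ext' (Category.id_comp _) (fun a g h h' => x.σ_congr a (Category.comp_id _) _ _)
  map_comp w w' := by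
    ext x
    exact Pt.ext' (Category.assoc _ _ _)
      (fun a g h h' => x.σ_congr a (Category.assoc _ _ _).symm _ _)

lemma Eu_map {W W' : C} (w : W' ⟶ W) (x : Pt D W) : (Eu D).map w.op x = res w x := rfl

section Glue

variable (hsub : ∀ V : C, Presieve.IsSheaf J (yoneda.obj V))
variable {W : C} (T : Sieve W) (hT : T ∈ J W)

include hsub hT in
lemma Pt.eq_of_locally_eq (y₁ y₂ : Pt D W)
    (h : ∀ ⦃Y : C⦄ (j : Y ⟶ W), T j → res j y₁ = res j y₂) : y₁ = y₂ := by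
  have hf : y₁.f = y₂.f := by
    refine ((hsub U) T hT).isSeparatedFor.ext ?_
    intro Y j hj
    exact congrArg Pt.f (h j hj)
  refine Pt.ext' hf ?_
  intro a g h₁ h₂
  refine ((D.sheaf a) (T.pullback g) (J.pullback_stable g hT)).isSeparatedFor.ext ?_
  intro Y i hi
  have hi' : T (i ≫ g) := hi
  let a₂ : Idx R := imk (i ≫ a.obj.hom) (R.downward_closed a.property i)
  let k : a₂ ⟶ a := ihom i rfl
  have hh₁ : (i ≫ g) ≫ y₁.f = a₂.obj.hom :=
    (Category.assoc _ _ _).trans (congrArg (fun z => i ≫ z) h₁)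
  have hh₂ : (i ≫ g) ≫ y₂.f = a₂.obj.hom :=
    (Category.assoc _ _ _).trans (congrArg (fun z => i ≫ z) h₂)
  have e1 := y₁.compat k g h₁ hh₁
  have e2 := y₂.compat k g h₂ hh₂
  have key : y₁.σ a₂ (i ≫ g) hh₁ = y₂.σ a₂ (i ≫ g) hh₂ := by
    have q := Pt.σ_of_eq (h (i ≫ g) hi') a₂ (𝟙 Y)
      ((Category.id_comp _).trans hh₁) ((Category.id_comp _).trans hh₂)
    exact (y₁.σ_congr a₂ (Category.id_comp _).symm _ _).trans
      (q.trans (y₂.σ_congr a₂ (Category.id_comp _) _ _))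
  exact e1.symm.trans ((congrArg (fun z => (D.t k).app (op a₂.obj.left) z) key).trans e2)

variable (D) in
/-- A compatible family of points over a sieve, with the glued map to `U`. -/
structure Ctx where
  x : Presieve.FamilyOfElements (Eu D) T.arrows
  hx : x.SieveCompatible
  f : W ⟶ U
  hf : ∀ ⦃Y : C⦄ (j : Y ⟶ W) (hj : T j), j ≫ f = (x j hj).f

variable {T}
variable (c : Ctx D T)

lemma Ctx.x_congr {Y : C} {j j' : Y ⟶ W} (e : j = j') (hj : T j) (hj' : T j') :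
    c.x j hj = c.x j' hj' := by
  subst e; rfl

lemma Ctx.x_res {Y Z : C} (j : Y ⟶ W) (hj : T j) (i : Z ⟶ Y) (hij : T (i ≫ j)) :
    c.x (i ≫ j) hij = res i (c.x j hj) := c.hx j i hj

lemma Ctx.hh {a : Idx R} {g : a.obj.left ⟶ W} (h : g ≫ c.f = a.obj.hom) {Y : C}
    (i : Y ⟶ a.obj.left) (hi : T (i ≫ g)) : 𝟙 Y ≫ (c.x (i ≫ g) hi).f = i ≫ a.obj.hom :=
  (Category.id_comp _).trans ((c.hf (i ≫ g) hi).symm.trans
    ((Category.assoc _ _ _).trans (congrArg (fun z => i ≫ z) h)))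

/-- The local family defining the glued section. -/
noncomputable def ya (a : Idx R) (g : a.obj.left ⟶ W) (h : g ≫ c.f = a.obj.hom) :
    Presieve.FamilyOfElements (D.E a) (T.pullback g).arrows :=
  fun Y i hi =>
    (D.t (ihom i rfl : imk (i ≫ a.obj.hom) (R.downward_closed a.property i) ⟶ a)).app (op Y)
      ((c.x (i ≫ g) hi).σ (imk (i ≫ a.obj.hom) (R.downward_closed a.property i)) (𝟙 Y)
        (c.hh h i hi))

/-- The value of the local family, with the auxiliary arrow as a parameter. -/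
lemma ya_eq (a : Idx R) (g : a.obj.left ⟶ W) (h : g ≫ c.f = a.obj.hom) {Y : C}
    (i : Y ⟶ a.obj.left) (hi : T (i ≫ g)) (v : Y ⟶ U) (hv : R v) (e : i ≫ a.obj.hom = v)
    (k : imk v hv ⟶ a) (hk : k.hom.left = i) (hh : 𝟙 Y ≫ (c.x (i ≫ g) hi).f = v) :
    ya c a g h i hi = (D.t k).app (op Y) ((c.x (i ≫ g) hi).σ (imk v hv) (𝟙 Y) hh) := by
  subst e
  obtain rfl : k = ihom i rfl := ihom_ext hk
  rfl

lemma ya_compat (a : Idx R) (g : a.obj.left ⟶ W) (h : g ≫ c.f = a.obj.hom) :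
    (ya c a g h).SieveCompatible := by
  intro Y Z i i' hi
  have hi2 : T (i ≫ g) := hi
  have hi3 : T ((i' ≫ i) ≫ g) := by
    rw [Category.assoc]; exact T.downward_closed hi2 i'
  let a₂ : Idx R := imk (i ≫ a.obj.hom) (R.downward_closed a.property i)
  let a₃ : Idx R := imk (i' ≫ i ≫ a.obj.hom) (R.downward_closed a₂.property i')
  let k₂ : a₂ ⟶ a := ihom i rfl
  let k' : a₃ ⟶ a₂ := ihom i' rfl
  have hx₃ : c.x ((i' ≫ i) ≫ g) hi3 = res i' (c.x (i ≫ g) hi2) :=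
    (c.x_congr (Category.assoc _ _ _) hi3 (T.downward_closed hi2 i')).trans
      (c.x_res (i ≫ g) hi2 i' _)
  have hA : 𝟙 Y ≫ (c.x (i ≫ g) hi2).f = a₂.obj.hom := c.hh h i hi2
  have hB : (k'.hom.left ≫ 𝟙 Y) ≫ (c.x (i ≫ g) hi2).f = a₃.obj.hom :=
    (Category.assoc _ _ _).trans (congrArg (fun z => i' ≫ z) hA)
  have hC : 𝟙 Z ≫ (c.x ((i' ≫ i) ≫ g) hi3).f = a₃.obj.hom :=
    (c.hh h (i' ≫ i) hi3).trans (Category.assoc _ _ _)
  have hC' : 𝟙 Z ≫ (res i' (c.x (i ≫ g) hi2)).f = a₃.obj.hom :=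
    (congrArg (fun p : Pt D Z => 𝟙 Z ≫ p.f) hx₃).symm.trans hC
  have e1 : ya c a g h (i' ≫ i) hi3 =
      (D.t (k' ≫ k₂)).app (op Z) ((c.x ((i' ≫ i) ≫ g) hi3).σ a₃ (𝟙 Z) hC) :=
    ya_eq c a g h (i' ≫ i) hi3 _ _ (Category.assoc _ _ _) (k' ≫ k₂) rfl hC
  have e2 : (c.x ((i' ≫ i) ≫ g) hi3).σ a₃ (𝟙 Z) hC =
      (c.x (i ≫ g) hi2).σ a₃ (k'.hom.left ≫ 𝟙 Y) hB :=
    (Pt.σ_of_eq hx₃ a₃ (𝟙 Z) hC hC').trans
      ((c.x (i ≫ g) hi2).σ_congr a₃
        ((Category.id_comp _).trans (Category.comp_id _).symm) _ _)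
  exact e1.trans ((D.t_comp k' k₂ _).trans
    ((congrArg (fun z => (D.t k₂).app (op Z) z)
      ((congrArg (fun z => (D.t k').app (op Z) z) e2).trans
        ((c.x (i ≫ g) hi2).compat k' (𝟙 Y) hA hB))).trans (D.t_nat k₂ i' _)))

include hT in
/-- The glued section. -/
noncomputable def gσ (a : Idx R) (g : a.obj.left ⟶ W) (h : g ≫ c.f = a.obj.hom) :
    (D.E a).obj (op a.obj.left) :=
  ((D.sheaf a) (T.pullback g) (J.pullback_stable g hT)).amalgamate (ya c a g h)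
    ((Presieve.compatible_iff_sieveCompatible _).2 (ya_compat c a g h))

lemma gσ_spec (a : Idx R) (g : a.obj.left ⟶ W) (h : g ≫ c.f = a.obj.hom) {Y : C}
    (i : Y ⟶ a.obj.left) (hi : T (i ≫ g)) :
    (D.E a).map i.op (gσ hT c a g h) = ya c a g h i hi :=
  Presieve.IsSheafFor.valid_glue _ _ i hi

include hsub in
lemma gσ_pr (a : Idx R) (g : a.obj.left ⟶ W) (h : g ≫ c.f = a.obj.hom) :
    D.pr a (gσ hT c a g h) = 𝟙 _ := by
  refine ((hsub a.obj.left) (T.pullback g) (J.pullback_stable g hT)).isSeparatedFor.ext ?_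
  intro Y i hi
  have hi2 : T (i ≫ g) := hi
  show i ≫ D.pr a (gσ hT c a g h) = i ≫ 𝟙 _
  rw [← D.pr_map a i, gσ_spec hT c a g h i hi2]
  have : D.pr a (ya c a g h i hi2) = 𝟙 Y ≫ i :=
    (D.pr_t _ _).trans (congrArg (fun z => z ≫ i) (Pt.pr_σ _ _ _ _))
  rw [this, Category.id_comp, Category.comp_id]

lemma gσ_compat ⦃a' a : Idx R⦄ (k : a' ⟶ a) (g : a.obj.left ⟶ W) (h : g ≫ c.f = a.obj.hom)
    (h' : (k.hom.left ≫ g) ≫ c.f = a'.obj.hom) :
    (D.t k).app (op a'.obj.left) (gσ hT c a' (k.hom.left ≫ g) h') =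
      (D.E a).map k.hom.left.op (gσ hT c a g h) := by
  refine ((D.sheaf a) (T.pullback (k.hom.left ≫ g))
    (J.pullback_stable (k.hom.left ≫ g) hT)).isSeparatedFor.ext ?_
  intro Y i hi
  have hi1 : T (i ≫ k.hom.left ≫ g) := hi
  have hi2 : T ((i ≫ k.hom.left) ≫ g) := by rw [Category.assoc]; exact hi1
  let a₂ : Idx R := imk (i ≫ a'.obj.hom) (R.downward_closed a'.property i)
  let k₂ : a₂ ⟶ a' := ihom i rfl
  have hA : 𝟙 Y ≫ (c.x (i ≫ k.hom.left ≫ g) hi1).f = a₂.obj.hom := c.hh h' i hi1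
  have hxx : c.x ((i ≫ k.hom.left) ≫ g) hi2 = c.x (i ≫ k.hom.left ≫ g) hi1 :=
    c.x_congr (Category.assoc _ _ _) hi2 hi1
  have hA' : 𝟙 Y ≫ (c.x ((i ≫ k.hom.left) ≫ g) hi2).f = a₂.obj.hom :=
    (congrArg (fun p : Pt D Y => 𝟙 Y ≫ p.f) hxx).trans hA
  have eL : (D.E a).map i.op ((D.t k).app (op a'.obj.left) (gσ hT c a' (k.hom.left ≫ g) h')) =
      (D.t (k₂ ≫ k)).app (op Y) ((c.x (i ≫ k.hom.left ≫ g) hi1).σ a₂ (𝟙 Y) hA) :=
    (D.t_nat k i _).symm.trans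
      ((congrArg (fun z => (D.t k).app (op Y) z) (gσ_spec hT c a' (k.hom.left ≫ g) h' i hi1)).trans
        (D.t_comp k₂ k _).symm)
  have eR : (D.E a).map i.op ((D.E a).map k.hom.left.op (gσ hT c a g h)) =
      (D.t (k₂ ≫ k)).app (op Y) ((c.x ((i ≫ k.hom.left) ≫ g) hi2).σ a₂ (𝟙 Y) hA') :=
    (map_map (D.E a) i k.hom.left _).trans
      ((gσ_spec hT c a g h (i ≫ k.hom.left) hi2).trans
        (ya_eq c a g h (i ≫ k.hom.left) hi2 _ _
          ((Category.assoc _ _ _).trans (congrArg (fun z => i ≫ z) (iw k))) (k₂ ≫ k) rfl hA'))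
  exact eL.trans ((congrArg (fun z => (D.t (k₂ ≫ k)).app (op Y) z)
    (Pt.σ_of_eq hxx a₂ (𝟙 Y) hA' hA).symm).trans eR.symm)

include hsub in
/-- The glued point. -/
noncomputable def gPt : Pt D W where
  f := c.f
  σ := gσ hT c
  pr_σ := gσ_pr hsub hT c
  compat := gσ_compat hT c

include hsub in
lemma gPt_res {Y : C} (j : Y ⟶ W) (hj : T j) : res j (gPt hsub hT c) = c.x j hj := by
  refine Pt.ext' (c.hf j hj) ?_
  intro a g h h'
  have hgj : (g ≫ j) ≫ c.f = a.obj.hom := (Category.assoc _ _ _).trans h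
  show gσ hT c a (g ≫ j) hgj = (c.x j hj).σ a g h'
  have hi0 : T (g ≫ j) := T.downward_closed hj g
  have hi1 : T (𝟙 a.obj.left ≫ g ≫ j) := by rw [Category.id_comp]; exact hi0
  let a₀ : Idx R := imk a.obj.hom a.property
  let k₀ : a₀ ⟶ a := ihom (𝟙 a.obj.left) (Category.id_comp _)
  have hx1 : c.x (𝟙 a.obj.left ≫ g ≫ j) hi1 = res g (c.x j hj) :=
    (c.x_congr (Category.id_comp _) hi1 hi0).trans (c.x_res j hj g hi0)
  have hh : 𝟙 a.obj.left ≫ (c.x (𝟙 a.obj.left ≫ g ≫ j) hi1).f = a.obj.hom :=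
    (c.hh hgj (𝟙 a.obj.left) hi1).trans (Category.id_comp _)
  have hh' : 𝟙 a.obj.left ≫ (res g (c.x j hj)).f = a.obj.hom :=
    (congrArg (fun p : Pt D a.obj.left => 𝟙 a.obj.left ≫ p.f) hx1).symm.trans hh
  have hB : (k₀.hom.left ≫ g) ≫ (c.x j hj).f = a₀.obj.hom :=
    (Category.assoc _ _ _).trans ((Category.id_comp _).trans h')
  have e1 : gσ hT c a (g ≫ j) hgj =
      (D.t k₀).app (op a.obj.left) ((c.x (𝟙 a.obj.left ≫ g ≫ j) hi1).σ a₀ (𝟙 _) hh) :=
    (map_one (D.E a) _).symm.trans ((gσ_spec hT c a (g ≫ j) hgj (𝟙 a.obj.left) hi1).trans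
      (ya_eq c a (g ≫ j) hgj (𝟙 a.obj.left) hi1 a.obj.hom a.property (Category.id_comp _) k₀ rfl hh))
  have e2 : (c.x (𝟙 a.obj.left ≫ g ≫ j) hi1).σ a₀ (𝟙 _) hh =
      (c.x j hj).σ a₀ (k₀.hom.left ≫ g) hB :=
    (Pt.σ_of_eq hx1 a₀ (𝟙 _) hh hh').trans ((c.x j hj).σ_congr a₀ rfl _ _)
  exact e1.trans ((congrArg (fun z => (D.t k₀).app (op a.obj.left) z) e2).trans
    (((c.x j hj).compat k₀ g h' hB).trans (map_one (D.E a) _)))

end Glue

/-- The glued presheaf is a sheaf. -/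
theorem isSheaf_Eu (hsub : ∀ V : C, Presieve.IsSheaf J (yoneda.obj V)) (D : GD J R) :
    Presieve.IsSheaf J (Eu D) := by
  intro W T hT
  rw [← Presieve.isSeparatedFor_and_exists_isAmalgamation_iff_isSheafFor]
  refine ⟨?_, ?_⟩
  · intro x y₁ y₂ h₁ h₂
    refine Pt.eq_of_locally_eq hsub T hT y₁ y₂ ?_
    intro Y j hj
    exact (h₁ j hj).trans (h₂ j hj).symm
  · intro x hx
    have hx' : x.SieveCompatible := (Presieve.compatible_iff_sieveCompatible x).1 hx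
    let xf : Presieve.FamilyOfElements (yoneda.obj U) T.arrows := fun Y j hj => (x j hj).f
    have hxf : xf.Compatible := by
      rw [Presieve.compatible_iff_sieveCompatible]
      intro Y Z j i hj
      exact congrArg Pt.f (hx' j i hj)
    let f : W ⟶ U := ((hsub U) T hT).amalgamate xf hxf
    have hf : ∀ ⦃Y : C⦄ (j : Y ⟶ W) (hj : T j), j ≫ f = (x j hj).f := fun Y j hj =>
      Presieve.IsSheafFor.valid_glue _ hxf j hj
    let c : Ctx D T := ⟨x, hx', f, hf⟩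
    exact ⟨gPt hsub hT c, fun Y j hj => gPt_res hsub hT c j hj⟩

end ShGlue

end H10PT
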