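import Mathlib
import Groth.Agent.Lib.Helper10.ShGlueA

/-!
# Gluing sheaves of types along a covering sieve: the cartesian cocone

For a gluing datum `D : GD J R` we construct the maps `cNat a : D.E a ⟶ Eu D`, show that they are
compatible with the transition maps and that the squares over the representables are cartesian
(elementwise form).
-/

set_option autoImplicit false

universe u

open CategoryTheory Opposite

namespace H10PT

namespace ShGlue

variable {C : Type (u + 1)} [Category.{u} C] {J : GrothendieckTopology C} {U : C} {R : Sieve U}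
  {D : GD J R}

lemma GD.cart_ext (D : GD J R) {a b : Idx R} (k : a ⟶ b) {W : C} (s₁ s₂ : (D.E a).obj (op W))
    (h1 : (D.t k).app (op W) s₁ = (D.t k).app (op W) s₂) (h2 : D.pr a s₁ = D.pr a s₂) :
    s₁ = s₂ :=
  (D.cart k ((D.t k).app (op W) s₂) (D.pr a s₂) (D.pr_t k s₂).symm).unique ⟨h1, h2⟩ ⟨rfl, rfl⟩

section CMap

variable (a : Idx R) {W : C} (s : (D.E a).obj (op W))

lemma cσ_aux (b : Idx R) (g : b.obj.left ⟶ W)
    (h : g ≫ (D.pr a s ≫ a.obj.hom) = b.obj.hom) :
    (g ≫ D.pr a s) ≫ a.obj.hom = b.obj.hom := (Category.assoc _ _ _).trans h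

lemma cσ_ex (b : Idx R) (g : b.obj.left ⟶ W)
    (h : g ≫ (D.pr a s ≫ a.obj.hom) = b.obj.hom) :
    ∃! s' : (D.E b).obj (op b.obj.left),
      (D.t (ihom (g ≫ D.pr a s) (cσ_aux a s b g h) : b ⟶ a)).app (op b.obj.left) s' =
        (D.E a).map g.op s ∧ D.pr b s' = 𝟙 _ :=
  D.cart (ihom (g ≫ D.pr a s) (cσ_aux a s b g h)) ((D.E a).map g.op s) (𝟙 _)
    ((Category.id_comp _).trans (D.pr_map a g s).symm)

/-- The sections of the point attached to a section of `E a`. -/
noncomputable def cσ (b : Idx R) (g : b.obj.left ⟶ W)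
    (h : g ≫ (D.pr a s ≫ a.obj.hom) = b.obj.hom) : (D.E b).obj (op b.obj.left) :=
  (cσ_ex a s b g h).exists.choose

lemma cσ_spec (b : Idx R) (g : b.obj.left ⟶ W)
    (h : g ≫ (D.pr a s ≫ a.obj.hom) = b.obj.hom) (k : b ⟶ a)
    (hk : k.hom.left = g ≫ D.pr a s) :
    (D.t k).app (op b.obj.left) (cσ a s b g h) = (D.E a).map g.op s := by
  obtain rfl : k = ihom (g ≫ D.pr a s) (cσ_aux a s b g h) := ihom_ext hk
  exact (cσ_ex a s b g h).exists.choose_spec.1

lemma cσ_pr (b : Idx R) (g : b.obj.left ⟶ W)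
    (h : g ≫ (D.pr a s ≫ a.obj.hom) = b.obj.hom) : D.pr b (cσ a s b g h) = 𝟙 _ :=
  (cσ_ex a s b g h).exists.choose_spec.2

lemma cσ_unique (b : Idx R) (g : b.obj.left ⟶ W)
    (h : g ≫ (D.pr a s ≫ a.obj.hom) = b.obj.hom) (k : b ⟶ a)
    (hk : k.hom.left = g ≫ D.pr a s) (s' : (D.E b).obj (op b.obj.left))
    (h1 : (D.t k).app (op b.obj.left) s' = (D.E a).map g.op s) (h2 : D.pr b s' = 𝟙 _) :
    s' = cσ a s b g h := by
  obtain rfl : k = ihom (g ≫ D.pr a s) (cσ_aux a s b g h) := ihom_ext hk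
  exact (cσ_ex a s b g h).unique ⟨h1, h2⟩ (cσ_ex a s b g h).exists.choose_spec

/-- The point of the glued presheaf attached to a section of `E a`. -/
noncomputable def cPt : Pt D W where
  f := D.pr a s ≫ a.obj.hom
  σ := cσ a s
  pr_σ := cσ_pr a s
  compat := by
    intro b' b k' g h h'
    let kb : b ⟶ a := ihom (g ≫ D.pr a s) (cσ_aux a s b g h)
    have h1 : (D.t kb).app (op b'.obj.left)
        ((D.t k').app (op b'.obj.left) (cσ a s b' (k'.hom.left ≫ g) h')) =
        (D.E a).map (k'.hom.left ≫ g).op s :=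
      (D.t_comp k' kb _).symm.trans
        (cσ_spec a s b' (k'.hom.left ≫ g) h' (k' ≫ kb) (Category.assoc _ _ _).symm)
    have h2 : (D.t kb).app (op b'.obj.left) ((D.E b).map k'.hom.left.op (cσ a s b g h)) =
        (D.E a).map (k'.hom.left ≫ g).op s :=
      (D.t_nat kb k'.hom.left _).trans
        ((congrArg (fun z => (D.E a).map k'.hom.left.op z) (cσ_spec a s b g h kb rfl)).trans
          (map_map _ _ _ _))
    have p1 : D.pr b ((D.t k').app (op b'.obj.left) (cσ a s b' (k'.hom.left ≫ g) h')) =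
        k'.hom.left :=
      (D.pr_t k' _).trans ((congrArg (fun z => z ≫ k'.hom.left) (cσ_pr a s b' _ h')).trans
        (Category.id_comp _))
    have p2 : D.pr b ((D.E b).map k'.hom.left.op (cσ a s b g h)) = k'.hom.left :=
      (D.pr_map b k'.hom.left _).trans
        ((congrArg (fun z => k'.hom.left ≫ z) (cσ_pr a s b g h)).trans (Category.comp_id _))
    exact D.cart_ext kb _ _ (h1.trans h2.symm) (p1.trans p2.symm)

@[simp] lemma cPt_f : (cPt a s).f = D.pr a s ≫ a.obj.hom := rfl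

lemma cPt_nat {W' : C} (w : W' ⟶ W) : cPt a ((D.E a).map w.op s) = res w (cPt a s) := by
  refine Pt.ext' ((congrArg (fun z => z ≫ a.obj.hom) (D.pr_map a w s)).trans
    (Category.assoc _ _ _)) ?_
  intro b g h h'
  have hgw : (g ≫ w) ≫ (D.pr a s ≫ a.obj.hom) = b.obj.hom := (Category.assoc _ _ _).trans h'
  show cσ a ((D.E a).map w.op s) b g h = cσ a s b (g ≫ w) hgw
  let k : b ⟶ a := ihom ((g ≫ w) ≫ D.pr a s) (cσ_aux a s b (g ≫ w) hgw)
  have hk : k.hom.left = g ≫ D.pr a ((D.E a).map w.op s) :=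
    (Category.assoc _ _ _).trans (congrArg (fun z => g ≫ z) (D.pr_map a w s).symm)
  exact cσ_unique a s b (g ≫ w) hgw k rfl _
    ((cσ_spec a _ b g h k hk).trans (map_map _ _ _ _)) (cσ_pr _ _ _ _ _)

end CMap

/-- The canonical map from `E a` to the glued presheaf. -/
noncomputable def cNat (a : Idx R) : D.E a ⟶ Eu D where
  app W := ↾(fun s => cPt a (W := W.unop) s)
  naturality W W' w := by
    ext s
    exact cPt_nat a s w.unop

lemma cNat_app (a : Idx R) {W : C} (s : (D.E a).obj (op W)) :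
    (cNat (D := D) a).app (op W) s = cPt a s := rfl

lemma cPt_t {a b : Idx R} (k : a ⟶ b) {W : C} (s : (D.E a).obj (op W)) :
    cPt b ((D.t k).app (op W) s) = cPt a s := by
  refine Pt.ext' ((congrArg (fun z => z ≫ b.obj.hom) (D.pr_t k s)).trans
    ((Category.assoc _ _ _).trans (congrArg (fun z => D.pr a s ≫ z) (iw k)))) ?_
  intro b' g h h'
  show cσ b ((D.t k).app (op W) s) b' g h = cσ a s b' g h'
  let ka' : b' ⟶ a := ihom (g ≫ D.pr a s) (cσ_aux a s b' g h')
  have hk : (ka' ≫ k).hom.left = g ≫ D.pr b ((D.t k).app (op W) s) :=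
    (Category.assoc _ _ _).trans (congrArg (fun z => g ≫ z) (D.pr_t k s).symm)
  have h1 : (D.t (ka' ≫ k)).app (op b'.obj.left) (cσ a s b' g h') =
      (D.E b).map g.op ((D.t k).app (op W) s) :=
    (D.t_comp ka' k _).trans
      ((congrArg (fun z => (D.t k).app (op b'.obj.left) z) (cσ_spec a s b' g h' ka' rfl)).trans
        (D.t_nat k g s))
  exact (cσ_unique b _ b' g h (ka' ≫ k) hk _ h1 (cσ_pr _ _ _ _ _)).symm

lemma cNat_t {a b : Idx R} (k : a ⟶ b) : D.t k ≫ cNat b = cNat a := by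
  ext W s
  exact cPt_t k s

/-- The squares over the representables are cartesian (elementwise form). -/
theorem cPt_cart (a : Idx R) {W : C} (x : Pt D W) (l : W ⟶ a.obj.left)
    (hl : l ≫ a.obj.hom = x.f) :
    ∃! s : (D.E a).obj (op W), cPt a s = x ∧ D.pr a s = l := by
  have hb : R x.f := hl ▸ R.downward_closed a.property l
  let b : Idx R := imk x.f hb
  let k : b ⟶ a := ihom l hl
  have hs₀ : D.pr a ((D.t k).app (op W) (x.σ b (𝟙 W) (Category.id_comp _))) = l :=
    (D.pr_t k _).trans ((congrArg (fun z => z ≫ l) (x.pr_σ b (𝟙 W) (Category.id_comp _))).trans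
      (Category.id_comp _))
  refine ⟨(D.t k).app (op W) (x.σ b (𝟙 W) (Category.id_comp _)), ⟨?_, hs₀⟩, ?_⟩
  · refine Pt.ext' ((congrArg (fun z => z ≫ a.obj.hom) hs₀).trans hl) ?_
    intro b' g h h'
    let kg : b' ⟶ b := ihom g h'
    have hB : (kg.hom.left ≫ 𝟙 W) ≫ x.f = b'.obj.hom :=
      (Category.assoc _ _ _).trans ((congrArg (fun z => g ≫ z) (Category.id_comp _)).trans h')
    have hk'' : (kg ≫ k).hom.left =
        g ≫ D.pr a ((D.t k).app (op W) (x.σ b (𝟙 W) (Category.id_comp _))) :=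
      congrArg (fun z => g ≫ z) hs₀.symm
    have e1 : (D.t kg).app (op b'.obj.left) (x.σ b' g h') =
        (D.E b).map g.op (x.σ b (𝟙 W) (Category.id_comp _)) :=
      (congrArg (fun z => (D.t kg).app (op b'.obj.left) z)
        (x.σ_congr b' (Category.comp_id _).symm h' hB)).trans
        (x.compat kg (𝟙 W) (Category.id_comp _) hB)
    have h1 : (D.t (kg ≫ k)).app (op b'.obj.left) (x.σ b' g h') =
        (D.E a).map g.op ((D.t k).app (op W) (x.σ b (𝟙 W) (Category.id_comp _))) :=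
      (D.t_comp kg k _).trans
        ((congrArg (fun z => (D.t k).app (op b'.obj.left) z) e1).trans (D.t_nat k g _))
    exact (cσ_unique a _ b' g h (kg ≫ k) hk'' (x.σ b' g h') h1 (x.pr_σ b' g h')).symm
  · rintro s₁ ⟨h1, h2⟩
    have hh : 𝟙 W ≫ (cPt a s₁).f = b.obj.hom :=
      (Category.id_comp _).trans (congrArg Pt.f h1)
    have hk : k.hom.left = 𝟙 W ≫ D.pr a s₁ := h2.symm.trans (Category.id_comp _).symm
    have e := cσ_spec a s₁ b (𝟙 W) hh k hk
    exact (map_one (D.E a) s₁).symm.trans (e.symm.trans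
      (congrArg (fun z => (D.t k).app (op W) z)
        (Pt.σ_of_eq h1 b (𝟙 W) hh (Category.id_comp _))))

end ShGlue

end H10PT
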