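import Mathlib
import Groth.Prelude.Def_AlgSpRep
import Groth.Agent.Lib.Helper16.FibreProduct

/-!
# Change of base for fppf sheaves and algebraic spaces

For `g : S ⟶ S'` the restriction functor `res g` from fppf sheaves on `Over S'` to fppf sheaves on
`Over S` (precomposition with `Over.map g`) sends `h_{X'}` to `h_{X' ×_{S'} S}`, preserves
morphisms representable by schemes together with their properties, and preserves algebraic spaces.
-/

set_option autoImplicit false
universe u
open CategoryTheory CategoryTheory.Limits AlgebraicGeometry Opposite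

namespace H10PT.SpBC

open AlgSp Groth.Agent.Lib.Helper16

section Pointwise

variable {S : Scheme.{u}}

/-- A commutative square of sheaves which is pointwise a pullback of sets is a pullback. -/
theorem isPullback_of_pointwise {F' F G H : Sp S} {fst : F' ⟶ F} {snd : F' ⟶ H} {a : F ⟶ G}
    {ξ : H ⟶ G} (w : fst ≫ a = snd ≫ ξ)
    (hex : ∀ (T : (Over S)ᵒᵖ) (x : F.obj.obj T) (y : H.obj.obj T),
      a.hom.app T x = ξ.hom.app T y → ∃ z : F'.obj.obj T, fst.hom.app T z = x ∧ snd.hom.app T z = y)
    (huniq : ∀ (T : (Over S)ᵒᵖ) (z z' : F'.obj.obj T), fst.hom.app T z = fst.hom.app T z' →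
      snd.hom.app T z = snd.hom.app T z' → z = z') :
    IsPullback fst snd a ξ := by
  refine isPullback_of_exists_lift w ?_ ?_
  · intro Q α β hαβ
    have hc : ∀ (T : (Over S)ᵒᵖ) (q : Q.obj.obj T),
        a.hom.app T (α.hom.app T q) = ξ.hom.app T (β.hom.app T q) := by
      intro T q
      exact congrArg (fun φ => φ.hom.app T q) hαβ
    choose l hl1 hl2 using fun T q => hex T (α.hom.app T q) (β.hom.app T q) (hc T q)
    refine ⟨ObjectProperty.homMk { app := fun T => ↾(l T), naturality := ?_ }, ?_, ?_⟩
    · intro T₁ T₂ f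
      ext q
      show l T₂ (Q.obj.map f q) = F'.obj.map f (l T₁ q)
      refine huniq T₂ _ _ ?_ ?_
      · have e1 : fst.hom.app T₂ (l T₂ (Q.obj.map f q)) = α.hom.app T₂ (Q.obj.map f q) := hl1 _ _
        have e2 : fst.hom.app T₂ (F'.obj.map f (l T₁ q)) =
            F.obj.map f (fst.hom.app T₁ (l T₁ q)) := NatTrans.naturality_apply fst.hom f _
        have e3 : α.hom.app T₂ (Q.obj.map f q) = F.obj.map f (α.hom.app T₁ q) :=
          NatTrans.naturality_apply α.hom f _
        exact e1.trans (e3.trans ((congrArg (F.obj.map f) (hl1 T₁ q)).symm.trans e2.symm))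
      · have e1 : snd.hom.app T₂ (l T₂ (Q.obj.map f q)) = β.hom.app T₂ (Q.obj.map f q) := hl2 _ _
        have e2 : snd.hom.app T₂ (F'.obj.map f (l T₁ q)) =
            H.obj.map f (snd.hom.app T₁ (l T₁ q)) := NatTrans.naturality_apply snd.hom f _
        have e3 : β.hom.app T₂ (Q.obj.map f q) = H.obj.map f (β.hom.app T₁ q) :=
          NatTrans.naturality_apply β.hom f _
        exact e1.trans (e3.trans ((congrArg (H.obj.map f) (hl2 T₁ q)).symm.trans e2.symm))
    · apply Sheaf.hom_ext
      ext T q
      exact hl1 T q
    · apply Sheaf.hom_ext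
      ext T q
      exact hl2 T q
  · intro Q l l' h1 h2
    apply Sheaf.hom_ext
    ext T q
    refine huniq T _ _ ?_ ?_
    · exact congrArg (fun φ => φ.hom.app T q) h1
    · exact congrArg (fun φ => φ.hom.app T q) h2

end Pointwise

variable {S S' : Scheme.{u}} (g : S ⟶ S')

/-- Restriction of fppf sheaves along `Over.map g`. -/
noncomputable abbrev res : Sp S' ⥤ Sp S := Scheme.fppfTopology.overMapPullback (Type (u + 1)) g

/-- The adjunction `j_! ⊣ j⁻¹`. -/
noncomputable def resAdj : (Over.map g).sheafPullback (Type (u + 1)) (J S) (J S') ⊣ res g :=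
  (Over.map g).sheafAdjunctionContinuous (Type (u + 1)) (J S) (J S')

noncomputable instance : PreservesLimitsOfSize.{0, 0} (res g) :=
  (resAdj g).rightAdjoint_preservesLimits

/-- `j⁻¹ h_{X'}` is represented by `X' ×_{S'} S`. -/
noncomputable def repBy (X' : Over S') :
    ((res g).obj ((yon S').obj X')).obj.RepresentableBy (Over.mk (pullback.snd X'.hom g)) where
  homEquiv {T} := ((Over.mapPullbackAdj g).homEquiv T X').symm.trans Equiv.ulift.symm
  homEquiv_comp {T T₁} f h := by
    apply ULift.ext
    exact (Over.mapPullbackAdj g).homEquiv_naturality_left_symm f h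

/-- The isomorphism `h_{X' ×_{S'} S} ≅ j⁻¹ h_{X'}`. -/
noncomputable def isoRes (X' : Over S') :
    (yon S).obj (Over.mk (pullback.snd X'.hom g)) ≅ (res g).obj ((yon S').obj X') :=
  isoOfRepresentableBy (repBy g X')

/-- The unit `h_U ⟶ j⁻¹ h_{gU}`. -/
noncomputable def eta (U : Over S) :
    (yon S).obj U ⟶ (res g).obj ((yon S').obj ((Over.map g).obj U)) :=
  ObjectProperty.homMk
    { app := fun T => ↾fun x => ULift.up ((Over.map g).map x.down)
      naturality := by
        intro T₁ T₂ f
        ext x
        apply ULift.ext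
        exact (Over.map g).map_comp _ _ }

/-- The `S`-scheme underlying a scheme over `gU`. -/
def Vof {U : Over S} {V' : Over S'} (v : V' ⟶ (Over.map g).obj U) : Over S :=
  Over.mk (v.left ≫ U.hom)

/-- Its structure map to `U`. -/
def vU {U : Over S} {V' : Over S'} (v : V' ⟶ (Over.map g).obj U) : Vof g v ⟶ U :=
  Over.homMk v.left rfl

/-- A morphism `T ⟶ V` over `S` viewed as a morphism `gT ⟶ V'` over `S'`. -/
def thetaFun {U : Over S} {V' : Over S'} (v : V' ⟶ (Over.map g).obj U) {T : Over S}
    (z : T ⟶ Vof g v) : (Over.map g).obj T ⟶ V' :=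
  Over.homMk z.left (by
    have h : v.left ≫ U.hom ≫ g = V'.hom := by
      have h := Over.w v
      simpa only [Over.map_obj_hom] using h
    have hz : z.left ≫ v.left ≫ U.hom = T.hom := Over.w z
    simp only [Over.map_obj_hom]
    rw [← h, ← hz]
    simp only [Category.assoc]
    rfl)

@[simp]
theorem thetaFun_left {U : Over S} {V' : Over S'} (v : V' ⟶ (Over.map g).obj U) {T : Over S}
    (z : T ⟶ Vof g v) : (thetaFun g v z).left = z.left := rfl

@[simp]
theorem vU_left {U : Over S} {V' : Over S'} (v : V' ⟶ (Over.map g).obj U) :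
    (vU g v).left = v.left := rfl

/-- The comparison `h_V ⟶ j⁻¹ h_{V'}`. -/
noncomputable def theta {U : Over S} {V' : Over S'} (v : V' ⟶ (Over.map g).obj U) :
    (yon S).obj (Vof g v) ⟶ (res g).obj ((yon S').obj V') :=
  ObjectProperty.homMk
    { app := fun T => ↾fun z => ULift.up (thetaFun g v z.down)
      naturality := by
        intro T₁ T₂ f
        ext z
        apply ULift.ext
        refine Over.OverMorphism.ext ?_
        rfl }

theorem isPullback_theta {U : Over S} {V' : Over S'} (v : V' ⟶ (Over.map g).obj U) :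
    IsPullback (theta g v) ((yon S).map (vU g v)) ((res g).map ((yon S').map v)) (eta g U) := by
  refine isPullback_of_pointwise ?_ ?_ ?_
  · apply Sheaf.hom_ext
    ext T z
    apply ULift.ext
    refine Over.OverMorphism.ext ?_
    rfl
  · intro T x y hxy
    obtain ⟨T⟩ := T
    let x' : (Over.map g).obj T ⟶ V' := x.down
    let y' : T ⟶ U := y.down
    have h : x' ≫ v = (Over.map g).map y' := congrArg ULift.down hxy
    have hl : x'.left ≫ v.left = y'.left := by
      have := congrArg CommaMorphism.left h
      simpa using this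
    have hw : x'.left ≫ (Vof g v).hom = T.hom := by
      show x'.left ≫ v.left ≫ U.hom = T.hom
      rw [← Category.assoc, hl]
      exact Over.w y'
    refine ⟨ULift.up (Over.homMk x'.left hw : T ⟶ Vof g v), ?_, ?_⟩
    · apply ULift.ext
      refine Over.OverMorphism.ext ?_
      rfl
    · apply ULift.ext
      refine Over.OverMorphism.ext ?_
      exact hl
  · intro T z z' h1 _
    obtain ⟨T⟩ := T
    apply ULift.ext
    have h : thetaFun g v z.down = thetaFun g v z'.down := congrArg ULift.down h1
    have := congrArg CommaMorphism.left h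
    refine Over.OverMorphism.ext ?_
    exact this

/-- The morphism `h_{gU} ⟶ B` over `S'` corresponding to `h_U ⟶ j⁻¹ B`. -/
noncomputable def cPrime {B : Sp S'} {U : Over S} (c : (yon S).obj U ⟶ (res g).obj B) :
    (yon S').obj ((Over.map g).obj U) ⟶ B :=
  (J S').uliftYonedaEquiv.symm ((J S).uliftYonedaEquiv c)

theorem eta_comp_res_map {B : Sp S'} {U : Over S} (c : (yon S).obj U ⟶ (res g).obj B) :
    eta g U ≫ (res g).map (cPrime g c) = c := by
  apply (J S).uliftYonedaEquiv.injective
  rw [GrothendieckTopology.uliftYonedaEquiv_comp, GrothendieckTopology.uliftYonedaEquiv_apply]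
  show (cPrime g c).hom.app (op ((Over.map g).obj U)) (ULift.up ((Over.map g).map (𝟙 U))) = _
  rw [CategoryTheory.Functor.map_id]
  have := (J S').uliftYonedaEquiv_apply (cPrime g c)
  rw [← this]
  exact Equiv.apply_symm_apply _ _

theorem isPullback_res {A B : Sp S'} (f : A ⟶ B) {U : Over S}
    (c : (yon S).obj U ⟶ (res g).obj B) {V' : Over S'} (v : V' ⟶ (Over.map g).obj U)
    (fst' : (yon S').obj V' ⟶ A) (sq : IsPullback fst' ((yon S').map v) f (cPrime g c)) :
    IsPullback (theta g v ≫ (res g).map fst') ((yon S).map (vU g v)) ((res g).map f) c := by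
  have h := (isPullback_theta g v).paste_horiz (sq.map (res g))
  rwa [eta_comp_res_map] at h

theorem representable_res {A B : Sp S'} (f : A ⟶ B) (hf : Representable f) :
    Representable ((res g).map f) := by
  intro U c
  obtain ⟨V', v, fst', sq⟩ := hf (cPrime g c)
  exact ⟨Vof g v, vU g v, _, isPullback_res g f c v fst' sq⟩

theorem repWith_res (P : MorphismProperty Scheme.{u}) [P.IsStableUnderBaseChange] {A B : Sp S'}
    (f : A ⟶ B) (hf : RepWith P f) : RepWith P ((res g).map f) := by
  apply MorphismProperty.relative.of_exists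
  intro U c
  obtain ⟨V', v, fst', sq⟩ := hf.rep (cPrime g c)
  refine ⟨Vof g v, _, vU g v, isPullback_res g f c v fst' sq, ?_⟩
  exact ((repWith_iff P f).1 hf).2 _ _ _ sq

theorem representable_eta (U : Over S) : Representable (eta g U) := by
  have h : Representable ((eta g U ≫ (isoRes g ((Over.map g).obj U)).inv) ≫
      (isoRes g ((Over.map g).obj U)).hom) :=
    MorphismProperty.RespectsIso.postcomp _ _ _ (representable_of_yon _)
  simpa using h

/-- Restriction along `Over.map g` preserves algebraic spaces. -/
theorem isAlgSpace_res {F' : Sp S'} (hF' : IsAlgSpace F') : IsAlgSpace ((res g).obj F') where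
  diag := by
    refine Functor.relativelyRepresentable.diag_of_map_from_obj (fun U c => ?_)
    rw [← eta_comp_res_map g c]
    exact MorphismProperty.comp_mem _ _ _ (representable_eta g U)
      (representable_res g _ (hF'.representable_from_yon _))
  atlas := by
    obtain ⟨U', p', h1, h2⟩ := hF'.atlas
    refine ⟨Over.mk (pullback.snd U'.hom g), (isoRes g U').hom ≫ (res g).map p', ?_, ?_⟩
    · exact MorphismProperty.RespectsIso.precomp _ _ _ (repWith_res g _ p' h1)
    · exact MorphismProperty.RespectsIso.precomp _ _ _ (repWith_res g _ p' h2)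

end H10PT.SpBC
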