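import Mathlib
import Groth.Prelude.Def_AlgSp
import Groth.Agent.Lib.Helper10.ShGlueB
import Groth.Agent.Lib.Helper10.SpBaseChange

/-!
# Gluing fppf sheaves along a sieve: the statement for `AlgSp.Sp S`

`SpGD R`: a family of sheaves `E a` over the representables `h_{V_a}`, `a` an arrow of the sieve `R`
on `U`, with functorial cartesian transition maps.  `SpGD.exists_glue`: there is a sheaf over `h_U`
with a compatible cocone of cartesian squares.
-/

set_option autoImplicit false

universe u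

open CategoryTheory CategoryTheory.Limits AlgebraicGeometry Opposite

namespace H10PT

namespace ShGlue

open AlgSp

variable {S : Scheme.{u}}

/-- A pullback square of sheaves is pointwise a pullback of sets. -/
theorem pointwise_of_isPullback {F' F G H : Sp S} {fst : F' ⟶ F} {snd : F' ⟶ H} {a : F ⟶ G}
    {ξ : H ⟶ G} (h : IsPullback fst snd a ξ) (T : (Over S)ᵒᵖ) (x : F.obj.obj T)
    (y : H.obj.obj T) (hxy : a.hom.app T x = ξ.hom.app T y) :
    ∃! z : F'.obj.obj T, fst.hom.app T z = x ∧ snd.hom.app T z = y := by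
  induction T using Opposite.rec with | _ T => ?_
  have w : (GrothendieckTopology.uliftYonedaEquiv.{u + 1} (J S)).symm x ≫ a = (GrothendieckTopology.uliftYonedaEquiv.{u + 1} (J S)).symm y ≫ ξ := by
    rw [GrothendieckTopology.uliftYonedaEquiv_symm_naturality_right,
      GrothendieckTopology.uliftYonedaEquiv_symm_naturality_right]
    exact congrArg _ hxy
  refine ⟨(GrothendieckTopology.uliftYonedaEquiv.{u + 1} (J S)) (h.lift _ _ w), ⟨?_, ?_⟩, ?_⟩
  · rw [← GrothendieckTopology.uliftYonedaEquiv_comp, h.lift_fst, Equiv.apply_symm_apply]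
  · rw [← GrothendieckTopology.uliftYonedaEquiv_comp, h.lift_snd, Equiv.apply_symm_apply]
  · rintro z' ⟨h1, h2⟩
    have e : (GrothendieckTopology.uliftYonedaEquiv.{u + 1} (J S)).symm z' = h.lift _ _ w := by
      apply h.hom_ext
      · rw [h.lift_fst, GrothendieckTopology.uliftYonedaEquiv_symm_naturality_right]
        exact congrArg _ h1
      · rw [h.lift_snd, GrothendieckTopology.uliftYonedaEquiv_symm_naturality_right]
        exact congrArg _ h2
    rw [← e, Equiv.apply_symm_apply]

variable {U : Over S} (R : Sieve U)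

/-- A gluing datum of fppf sheaves over the arrows of a sieve. -/
structure SpGD where
  E : Idx R → Sp S
  p : ∀ a : Idx R, E a ⟶ (yon S).obj a.obj.left
  t : ∀ ⦃a b : Idx R⦄, (a ⟶ b) → (E a ⟶ E b)
  t_id : ∀ a : Idx R, t (𝟙 a) = 𝟙 (E a)
  t_comp : ∀ ⦃a b c : Idx R⦄ (k : a ⟶ b) (l : b ⟶ c), t (k ≫ l) = t k ≫ t l
  cart : ∀ ⦃a b : Idx R⦄ (k : a ⟶ b), IsPullback (t k) (p a) (p b) ((yon S).map k.hom.left)

variable {R}

/-- The elementwise gluing datum. -/
noncomputable def SpGD.toGD (G : SpGD R) : GD (J S) R where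
  E a := (G.E a).obj
  sheaf a := (isSheaf_iff_isSheaf_of_type _ _).1 (G.E a).property
  pr a W s := ((G.p a).hom.app (op W) s).down
  pr_map a W W' g s := by
    have := NatTrans.naturality_apply (G.p a).hom g.op s
    exact congrArg ULift.down this
  t a b k := (G.t k).hom
  pr_t a b k W s := by
    have := congrArg (fun φ => (φ.hom.app (op W) s).down) (G.cart k).w
    exact this
  t_id a W s := congrArg (fun φ => φ.hom.app (op W) s) (G.t_id a)
  t_comp a b c k l W s := congrArg (fun φ => φ.hom.app (op W) s) (G.t_comp k l)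
  cart a b k W s l hl := by
    obtain ⟨z, ⟨hz1, hz2⟩, hz3⟩ := pointwise_of_isPullback (G.cart k) (op W) s ⟨l⟩ (by
      apply ULift.ext
      exact hl.symm)
    refine ⟨z, ⟨hz1, congrArg ULift.down hz2⟩, ?_⟩
    rintro z' ⟨h1, h2⟩
    exact hz3 z' ⟨h1, ULift.ext _ _ h2⟩

/-- Sheaves over the arrows of a sieve on `U` with cartesian transition maps glue to a sheaf over
`h_U`. -/
theorem SpGD.exists_glue (G : SpGD R) :
    ∃ (Eu : Sp S) (pu : Eu ⟶ (yon S).obj U) (c : ∀ a : Idx R, G.E a ⟶ Eu),
      (∀ a : Idx R, IsPullback (c a) (G.p a) pu ((yon S).map a.obj.hom)) ∧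
      ∀ ⦃a b : Idx R⦄ (k : a ⟶ b), G.t k ≫ c b = c a := by
  have hsub : ∀ V : Over S, Presieve.IsSheaf (J S) (yoneda.obj V) := fun V =>
    GrothendieckTopology.Subcanonical.isSheaf_of_isRepresentable _
  let D := G.toGD
  let EuS : Sp S := ⟨Eu D, (isSheaf_iff_isSheaf_of_type _ _).2 (isSheaf_Eu hsub D)⟩
  let pu : EuS ⟶ (yon S).obj U := ObjectProperty.homMk
    { app := fun W => ↾(fun x : Pt D W.unop => (ULift.up x.f : ULift.{u + 1} (W.unop ⟶ U)))
      naturality := by
        intro W W' w
        ext x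
        rfl }
  let c : ∀ a : Idx R, G.E a ⟶ EuS := fun a => ObjectProperty.homMk (cNat (D := D) a)
  refine ⟨EuS, pu, c, fun a => ?_, fun a b k => ?_⟩
  · refine H10PT.SpBC.isPullback_of_pointwise ?_ ?_ ?_
    · apply Sheaf.hom_ext
      ext W s
      rfl
    · intro T x y hxy
      obtain ⟨s, ⟨h1, h2⟩, -⟩ := cPt_cart (D := D) a x y.down (congrArg ULift.down hxy).symm
      exact ⟨s, h1, ULift.ext _ _ h2⟩
    · intro T z z' h1 h2
      obtain ⟨s, -, hs⟩ := cPt_cart (D := D) a (cPt a z') ((G.p a).hom.app T z').down rfl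
      exact (hs z ⟨h1, congrArg ULift.down h2⟩).trans (hs z' ⟨rfl, rfl⟩).symm
  · apply Sheaf.hom_ext
    exact cNat_t k

end ShGlue

end H10PT
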