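import Mathlib

/-!
# Gluing a map of presheaves out of a locally covering family of sections

Let `M` be a presheaf of types and `N` a sheaf for a Grothendieck topology `J`.  Given a family of
sections `α i ∈ M(V i)` such that every section of `M` is locally a restriction of some `α i`, and
sections `ν i ∈ N(V i)` such that any coincidence between restrictions of the `α i` also holds for the
`ν i`, there is a unique map `g : M ⟶ N` with `g (α i) = ν i`.
-/

set_option autoImplicit false

universe w v₁ u₁ u₂

open CategoryTheory Opposite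

namespace H10PT

namespace SheafGlue

variable {C : Type u₁} [Category.{v₁} C] (J : GrothendieckTopology C) {M N : Cᵒᵖ ⥤ Type w}
  {ι : Type u₂} (V : ι → C) (α : ∀ i, M.obj (op (V i))) (ν : ∀ i, N.obj (op (V i)))

lemma map_map (P : Cᵒᵖ ⥤ Type w) {X Y Z : C} (f : X ⟶ Y) (g : Y ⟶ Z) (s : P.obj (op Z)) :
    P.map f.op (P.map g.op s) = P.map (f ≫ g).op s := by
  rw [op_comp, Functor.map_comp_apply]

/-- The sieve of morphisms along which `m` is a restriction of one of the `α i`. -/
def liftSieve {T : C} (m : M.obj (op T)) : Sieve T where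
  arrows T' t := ∃ (i : ι) (u : T' ⟶ V i), M.map u.op (α i) = M.map t.op m
  downward_closed := by
    rintro T₁ T₂ t ⟨i, u, h⟩ k
    exact ⟨i, k ≫ u, by rw [← map_map, h, map_map]⟩

/-- The compatibility condition between the `α i` and the `ν i`. -/
def Compat : Prop :=
  ∀ ⦃T' : C⦄ (i j : ι) (u : T' ⟶ V i) (u' : T' ⟶ V j),
    M.map u.op (α i) = M.map u'.op (α j) → N.map u.op (ν i) = N.map u'.op (ν j)

/-- The family of local values of the glued map at `m`. -/
noncomputable def glueFam {T : C} (m : M.obj (op T)) :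
    Presieve.FamilyOfElements N (liftSieve V α m).arrows :=
  fun _ _ ht => N.map (ht.choose_spec.choose).op (ν ht.choose)

variable {V α ν}

lemma glueFam_eq (hc : Compat V α ν) {T : C} (m : M.obj (op T)) {T' : C} (t : T' ⟶ T)
    (ht : (liftSieve V α m).arrows t) (i : ι) (u : T' ⟶ V i)
    (h : M.map u.op (α i) = M.map t.op m) :
    glueFam V α ν m t ht = N.map u.op (ν i) :=
  hc _ _ _ _ (ht.choose_spec.choose_spec.trans h.symm)

lemma glueFam_compatible (hc : Compat V α ν) {T : C} (m : M.obj (op T)) :
    (glueFam V α ν m).Compatible := by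
  intro Y₁ Y₂ Z g₁ g₂ f₁ f₂ h₁ h₂ hcomm
  show N.map g₁.op (N.map (h₁.choose_spec.choose).op (ν h₁.choose)) =
    N.map g₂.op (N.map (h₂.choose_spec.choose).op (ν h₂.choose))
  rw [map_map, map_map]
  apply hc
  rw [← map_map, ← map_map, h₁.choose_spec.choose_spec, h₂.choose_spec.choose_spec, map_map,
    map_map, hcomm]

variable (hN : Presieve.IsSheaf J N) (hcov : ∀ (T : C) (m : M.obj (op T)), liftSieve V α m ∈ J T)

/-- The value of the glued map at `m`. -/
noncomputable def glueApp (hc : Compat V α ν) {T : C} (m : M.obj (op T)) : N.obj (op T) :=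
  (hN _ (hcov T m)).amalgamate (glueFam V α ν m) (glueFam_compatible hc m)

lemma glueApp_spec (hc : Compat V α ν) {T : C} (m : M.obj (op T)) {T' : C} (t : T' ⟶ T)
    (i : ι) (u : T' ⟶ V i) (h : M.map u.op (α i) = M.map t.op m) :
    N.map t.op (glueApp J hN hcov hc m) = N.map u.op (ν i) := by
  have ht : (liftSieve V α m).arrows t := ⟨i, u, h⟩
  rw [glueApp, Presieve.IsSheafFor.valid_glue _ _ t ht]
  exact glueFam_eq hc m t ht i u h

lemma glueApp_map (hc : Compat V α ν) {T T₂ : C} (f : T₂ ⟶ T) (m : M.obj (op T)) :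
    glueApp J hN hcov hc (M.map f.op m) = N.map f.op (glueApp J hN hcov hc m) := by
  refine ((hN _ (hcov T₂ (M.map f.op m))).isSeparatedFor).ext ?_
  rintro T' t ⟨i, u, h⟩
  rw [glueApp_spec J hN hcov hc (M.map f.op m) t i u h, map_map]
  refine (glueApp_spec J hN hcov hc m (t ≫ f) i u ?_).symm
  rw [h, map_map]

include hN hcov in
/-- The glued map. -/
theorem exists_glue (hc : Compat V α ν) :
    ∃ g : M ⟶ N, ∀ i, g.app _ (α i) = ν i := by
  refine ⟨{ app := fun T => ↾fun m => glueApp J hN hcov hc (T := T.unop) m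
            naturality := fun T T₂ f => ?_ }, fun i => ?_⟩
  · ext m
    exact glueApp_map J hN hcov hc f.unop m
  · have h := glueApp_spec J hN hcov hc (α i) (𝟙 (V i)) i (𝟙 (V i)) rfl
    simpa using h

include hN hcov in
/-- Uniqueness of the glued map. -/
theorem glue_unique (g g' : M ⟶ N) (h : ∀ i, g.app _ (α i) = g'.app _ (α i)) : g = g' := by
  have key : ∀ (T : Cᵒᵖ) (m : M.obj T), g.app T m = g'.app T m := by
    intro T m
    refine ((hN _ (hcov T.unop m)).isSeparatedFor).ext ?_
    rintro T' t ⟨i, u, e⟩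
    have h1 : N.map t.op (g.app T m) = g.app _ (M.map t.op m) :=
      (NatTrans.naturality_apply g t.op m).symm
    have h2 : N.map t.op (g'.app T m) = g'.app _ (M.map t.op m) :=
      (NatTrans.naturality_apply g' t.op m).symm
    have h3 : g.app _ (M.map u.op (α i)) = N.map u.op (g.app _ (α i)) :=
      NatTrans.naturality_apply g u.op (α i)
    have h4 : g'.app _ (M.map u.op (α i)) = N.map u.op (g'.app _ (α i)) :=
      NatTrans.naturality_apply g' u.op (α i)
    rw [h1, h2, ← e, h3, h4, h i]
  apply NatTrans.ext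
  funext T
  ext m
  exact key T m

end SheafGlue

end H10PT
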