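import Mathlib
import Groth.Prelude.Def_AlgSp
import Groth.Agent.Lib.Helper10.ShGlueC
import Groth.Agent.Lib.Helper10.SheafGlue

/-!
# Cartesian cocones over a covering sieve are colimit cocones

Let `p : E ⟶ h_U` be a sheaf over a representable and `R` a covering sieve of `U`.  A family of
cartesian squares `E_a ⟶ E` over `h_{V_a} ⟶ h_U`, `a` in `R`, is jointly epimorphic
(`CartCocone.hom_ext`) and compatible families of maps out of the `E_a` descend to `E`
(`CartCocone.exists_desc`).
-/

set_option autoImplicit false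

universe u

open CategoryTheory CategoryTheory.Limits AlgebraicGeometry Opposite

namespace H10PT

namespace ShGlue

open AlgSp

variable {S : Scheme.{u}} {U : Over S}

theorem pointwise_ext {F' F G H : Sp S} {fst : F' ⟶ F} {snd : F' ⟶ H} {a : F ⟶ G}
    {ξ : H ⟶ G} (h : IsPullback fst snd a ξ) (T : (Over S)ᵒᵖ) (z z' : F'.obj.obj T)
    (h1 : fst.hom.app T z = fst.hom.app T z') (h2 : snd.hom.app T z = snd.hom.app T z') :
    z = z' := by
  have hw : a.hom.app T (fst.hom.app T z') = ξ.hom.app T (snd.hom.app T z') :=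
    congrArg (fun φ => φ.hom.app T z') h.w
  exact (pointwise_of_isPullback h T _ _ hw).unique ⟨h1, h2⟩ ⟨rfl, rfl⟩

/-- A family of cartesian squares over the arrows of a sieve. -/
structure CartCocone (R : Sieve U) {E : Sp S} (p : E ⟶ (yon S).obj U) where
  Ea : Idx R → Sp S
  c : ∀ a : Idx R, Ea a ⟶ E
  q : ∀ a : Idx R, Ea a ⟶ (yon S).obj a.obj.left
  cart : ∀ a : Idx R, IsPullback (c a) (q a) p ((yon S).map a.obj.hom)

variable {R : Sieve U} {E : Sp S} {p : E ⟶ (yon S).obj U} (CC : CartCocone R p)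

omit CC in
lemma p_map {W W' : Over S} (x : E.obj.obj (op W)) (g : W' ⟶ W) :
    (p.hom.app (op W') (E.obj.map g.op x)).down = g ≫ (p.hom.app (op W) x).down :=
  congrArg ULift.down (NatTrans.naturality_apply p.hom g.op x)

lemma CartCocone.p_c (a : Idx R) {W : Over S} (z : (CC.Ea a).obj.obj (op W)) :
    (p.hom.app (op W) ((CC.c a).hom.app (op W) z)).down =
      ((CC.q a).hom.app (op W) z).down ≫ a.obj.hom :=
  congrArg (fun φ => (φ.hom.app (op W) z).down) (CC.cart a).w

lemma CartCocone.exists_lift {W : Over S} (x : E.obj.obj (op W)) {Y : Over S} (g : Y ⟶ W)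
    (hg : R (g ≫ (p.hom.app (op W) x).down)) :
    ∃ z : (CC.Ea (imk _ hg)).obj.obj (op Y),
      (CC.c (imk _ hg)).hom.app (op Y) z = E.obj.map g.op x ∧
        (CC.q (imk _ hg)).hom.app (op Y) z = ⟨𝟙 Y⟩ := by
  obtain ⟨z, ⟨h1, h2⟩, -⟩ := pointwise_of_isPullback (CC.cart (imk _ hg)) (op Y)
    (E.obj.map g.op x) ⟨𝟙 Y⟩ (by
      apply ULift.ext
      exact (p_map x g).trans (Category.id_comp _).symm)
  exact ⟨z, h1, h2⟩

/-- The members of a cartesian cocone over a covering sieve are jointly epimorphic. -/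
theorem CartCocone.hom_ext (hR : R ∈ J S U) {F : Sp S} (m m' : E ⟶ F)
    (h : ∀ a, CC.c a ≫ m = CC.c a ≫ m') : m = m' := by
  apply Sheaf.hom_ext
  apply NatTrans.ext
  funext T
  ext x
  induction T using Opposite.rec with | _ W => ?_
  have hF := (isSheaf_iff_isSheaf_of_type _ _).1 F.property
  refine ((hF (R.pullback (p.hom.app (op W) x).down)
    ((J S).pullback_stable (p.hom.app (op W) x).down hR)).isSeparatedFor).ext ?_
  intro Y g hg
  have hg' : R (g ≫ (p.hom.app (op W) x).down) := hg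
  obtain ⟨z, hz1, -⟩ := CC.exists_lift x g hg'
  have n1 := NatTrans.naturality_apply m.hom g.op x
  have n2 := NatTrans.naturality_apply m'.hom g.op x
  exact n1.symm.trans ((congrArg (fun y => m.hom.app (op Y) y) hz1.symm).trans
    ((congrArg (fun φ => φ.hom.app (op Y) z) (h _)).trans
      ((congrArg (fun y => m'.hom.app (op Y) y) hz1).trans n2)))

section Desc

variable {F : Sp S} (ma : ∀ a, CC.Ea a ⟶ F)
  (hma : ∀ ⦃a b : Idx R⦄ (k : a ⟶ b) (t : CC.Ea a ⟶ CC.Ea b), t ≫ CC.c b = CC.c a →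
      t ≫ CC.q b = CC.q a ≫ (yon S).map k.hom.left → t ≫ ma b = ma a)

include hma in
lemma CartCocone.desc_key {a b : Idx R} {T' : Over S} (z₁ : (CC.Ea a).obj.obj (op T'))
    (z₂ : (CC.Ea b).obj.obj (op T'))
    (hz : (CC.c a).hom.app (op T') z₁ = (CC.c b).hom.app (op T') z₂) :
    (ma a).hom.app (op T') z₁ = (ma b).hom.app (op T') z₂ := by
  have hp : ((CC.q a).hom.app (op T') z₁).down ≫ a.obj.hom =
      ((CC.q b).hom.app (op T') z₂).down ≫ b.obj.hom := by
    rw [← CC.p_c a z₁, ← CC.p_c b z₂, hz]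
  let cc : Idx R := imk (((CC.q a).hom.app (op T') z₁).down ≫ a.obj.hom)
    (R.downward_closed a.property _)
  let ka : cc ⟶ a := ihom ((CC.q a).hom.app (op T') z₁).down rfl
  let kb : cc ⟶ b := ihom ((CC.q b).hom.app (op T') z₂).down hp.symm
  obtain ⟨zc, ⟨hc1, hc2⟩, -⟩ := pointwise_of_isPullback (CC.cart cc) (op T')
    ((CC.c a).hom.app (op T') z₁) ⟨𝟙 T'⟩ (by
      apply ULift.ext
      exact (CC.p_c a z₁).trans (Category.id_comp _).symm)
  -- the two transition maps
  have wa : CC.c cc ≫ p = (CC.q cc ≫ (yon S).map ka.hom.left) ≫ (yon S).map a.obj.hom :=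
    (CC.cart cc).w.trans ((congrArg (fun z => CC.q cc ≫ z)
      ((yon S).map_comp ka.hom.left a.obj.hom)).trans (Category.assoc _ _ _).symm)
  have wb : CC.c cc ≫ p = (CC.q cc ≫ (yon S).map kb.hom.left) ≫ (yon S).map b.obj.hom :=
    (CC.cart cc).w.trans ((congrArg (fun z => CC.q cc ≫ z)
      ((congrArg (fun z => (yon S).map z) (iw kb).symm).trans
        ((yon S).map_comp kb.hom.left b.obj.hom))).trans (Category.assoc _ _ _).symm)
  have hta := hma ka ((CC.cart a).lift _ _ wa) ((CC.cart a).lift_fst _ _ wa)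
    ((CC.cart a).lift_snd _ _ wa)
  have htb := hma kb ((CC.cart b).lift _ _ wb) ((CC.cart b).lift_fst _ _ wb)
    ((CC.cart b).lift_snd _ _ wb)
  have ea : ((CC.cart a).lift _ _ wa).hom.app (op T') zc = z₁ := by
    refine pointwise_ext (CC.cart a) (op T') _ _ ?_ ?_
    · exact (congrArg (fun φ => φ.hom.app (op T') zc) ((CC.cart a).lift_fst _ _ wa)).trans hc1
    · refine (congrArg (fun φ => φ.hom.app (op T') zc) ((CC.cart a).lift_snd _ _ wa)).trans ?_
      show ((yon S).map ka.hom.left).hom.app (op T') ((CC.q cc).hom.app (op T') zc) = _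
      rw [hc2]
      apply ULift.ext
      show 𝟙 T' ≫ ka.hom.left = _
      exact Category.id_comp _
  have eb : ((CC.cart b).lift _ _ wb).hom.app (op T') zc = z₂ := by
    refine pointwise_ext (CC.cart b) (op T') _ _ ?_ ?_
    · exact (congrArg (fun φ => φ.hom.app (op T') zc) ((CC.cart b).lift_fst _ _ wb)).trans
        (hc1.trans hz)
    · refine (congrArg (fun φ => φ.hom.app (op T') zc) ((CC.cart b).lift_snd _ _ wb)).trans ?_
      show ((yon S).map kb.hom.left).hom.app (op T') ((CC.q cc).hom.app (op T') zc) = _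
      rw [hc2]
      apply ULift.ext
      show 𝟙 T' ≫ kb.hom.left = _
      exact Category.id_comp _
  have ra : (ma a).hom.app (op T') z₁ = (ma cc).hom.app (op T') zc := by
    rw [← ea]
    exact congrArg (fun φ => φ.hom.app (op T') zc) hta
  have rb : (ma b).hom.app (op T') z₂ = (ma cc).hom.app (op T') zc := by
    rw [← eb]
    exact congrArg (fun φ => φ.hom.app (op T') zc) htb
  exact ra.trans rb.symm

include hma in
/-- Compatible families of maps out of a cartesian cocone over a covering sieve descend. -/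
theorem CartCocone.exists_desc (hR : R ∈ J S U) : ∃ m : E ⟶ F, ∀ a, CC.c a ≫ m = ma a := by
  have hF := (isSheaf_iff_isSheaf_of_type _ _).1 F.property
  let ι := Σ (a : Idx R) (W : Over S), (CC.Ea a).obj.obj (op W)
  let V : ι → Over S := fun i => i.2.1
  let α : ∀ i : ι, E.obj.obj (op (V i)) := fun i => (CC.c i.1).hom.app (op i.2.1) i.2.2
  let ν : ∀ i : ι, F.obj.obj (op (V i)) := fun i => (ma i.1).hom.app (op i.2.1) i.2.2
  have hcov : ∀ (T : Over S) (x : E.obj.obj (op T)), SheafGlue.liftSieve V α x ∈ J S T := by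
    intro T x
    refine (J S).superset_covering ?_ ((J S).pullback_stable (p.hom.app (op T) x).down hR)
    intro Y g hg
    have hg' : R (g ≫ (p.hom.app (op T) x).down) := hg
    obtain ⟨z, hz1, -⟩ := CC.exists_lift x g hg'
    refine ⟨⟨_, Y, z⟩, 𝟙 Y, ?_⟩
    exact (map_one E.obj _).trans hz1
  have hc : SheafGlue.Compat V α ν := by
    rintro T' ⟨a, W₁, z⟩ ⟨b, W₂, z'⟩ u u' huu'
    have e₁ : (CC.c a).hom.app (op T') ((CC.Ea a).obj.map u.op z) =
        E.obj.map u.op ((CC.c a).hom.app (op W₁) z) := NatTrans.naturality_apply _ _ _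
    have e₂ : (CC.c b).hom.app (op T') ((CC.Ea b).obj.map u'.op z') =
        E.obj.map u'.op ((CC.c b).hom.app (op W₂) z') := NatTrans.naturality_apply _ _ _
    have n₁ : (ma a).hom.app (op T') ((CC.Ea a).obj.map u.op z) =
        F.obj.map u.op ((ma a).hom.app (op W₁) z) := NatTrans.naturality_apply _ _ _
    have n₂ : (ma b).hom.app (op T') ((CC.Ea b).obj.map u'.op z') =
        F.obj.map u'.op ((ma b).hom.app (op W₂) z') := NatTrans.naturality_apply _ _ _
    exact n₁.symm.trans ((CC.desc_key ma hma _ _ (e₁.trans (huu'.trans e₂.symm))).trans n₂)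
  obtain ⟨g, hg⟩ := SheafGlue.exists_glue (J S) hF hcov hc
  refine ⟨ObjectProperty.homMk g, fun a => ?_⟩
  apply Sheaf.hom_ext
  apply NatTrans.ext
  funext T
  ext z
  exact hg ⟨a, T.unop, z⟩

end Desc

end ShGlue

end H10PT
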