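import Mathlib
import Groth.Prelude.Def_AlgSt6

/-!
# Transferring group actions over a base sheaf

`gaction_of_jointly_mono`: an equivariant lift of an action along a jointly monomorphic pair (one
member equivariant, the other invariant) is an action.
`gaction_of_jointly_epi`: an equivariant descent of a family of actions along a family of maps
which stays jointly epimorphic after products is an action.
-/

set_option autoImplicit false

universe u

open CategoryTheory CategoryTheory.Limits MonoidalCategory CartesianMonoidalCategory MonObj GrpObj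
  AlgebraicGeometry Opposite

namespace H10PT

namespace TQ

open AlgSp

variable {S : Scheme.{u}} {B : Sp S} {G : Over B} [GrpObj G]

theorem gaction_of_jointly_mono {P' P T : Over B} (aP : GAction G P) (m : P' ⟶ P) (n : P' ⟶ T)
    (hmn : ∀ {Z : Over B} (u v : Z ⟶ P'), u ≫ m = v ≫ m → u ≫ n = v ≫ n → u = v)
    (act' : G ⊗ P' ⟶ P') (h1 : act' ≫ m = (G ◁ m) ≫ aP.act) (h2 : act' ≫ n = snd G P' ≫ n) :
    (η[G] ▷ P') ≫ act' = (λ_ P').hom ∧
      (μ[G] ▷ P') ≫ act' = (α_ G G P').hom ≫ (G ◁ act') ≫ act' := by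
  constructor
  · apply hmn
    · rw [Category.assoc, h1, ← whisker_exchange_assoc, aP.one_act, leftUnitor_naturality]
    · rw [Category.assoc, h2, whiskerRight_snd_assoc, leftUnitor_hom]
  · apply hmn
    · have e1 : ((μ[G] ▷ P') ≫ act') ≫ m =
          ((G ⊗ G) ◁ m) ≫ (α_ G G P).hom ≫ (G ◁ aP.act) ≫ aP.act := by
        rw [Category.assoc, h1, ← whisker_exchange_assoc, aP.mul_act]
      have e2 : ((α_ G G P').hom ≫ (G ◁ act') ≫ act') ≫ m =
          ((G ⊗ G) ◁ m) ≫ (α_ G G P).hom ≫ (G ◁ aP.act) ≫ aP.act := by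
        rw [Category.assoc, Category.assoc, h1, ← MonoidalCategory.whiskerLeft_comp_assoc, h1,
          MonoidalCategory.whiskerLeft_comp, Category.assoc, ← associator_naturality_right_assoc]
      exact e1.trans e2.symm
    · have e1 : ((μ[G] ▷ P') ≫ act') ≫ n = snd (G ⊗ G) P' ≫ n := by
        rw [Category.assoc, h2, whiskerRight_snd_assoc]
      have e2 : ((α_ G G P').hom ≫ (G ◁ act') ≫ act') ≫ n = snd (G ⊗ G) P' ≫ n := by
        rw [Category.assoc, Category.assoc, h2, whiskerLeft_snd_assoc, h2,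
          associator_hom_snd_snd_assoc]
      exact e1.trans e2.symm

theorem gaction_of_jointly_epi {κ : Type*} {Pa : κ → Over B} {P : Over B}
    (aPa : ∀ i, GAction G (Pa i)) (m : ∀ i, Pa i ⟶ P)
    (hepi : ∀ (Y : Over B) {Z : Over B} (u v : Y ⊗ P ⟶ Z),
      (∀ i, (Y ◁ m i) ≫ u = (Y ◁ m i) ≫ v) → u = v)
    (act : G ⊗ P ⟶ P) (h1 : ∀ i, (G ◁ m i) ≫ act = (aPa i).act ≫ m i) :
    (η[G] ▷ P) ≫ act = (λ_ P).hom ∧
      (μ[G] ▷ P) ≫ act = (α_ G G P).hom ≫ (G ◁ act) ≫ act := by
  constructor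
  · apply hepi
    intro i
    rw [whisker_exchange_assoc, h1, reassoc_of% (aPa i).one_act, leftUnitor_naturality]
  · apply hepi
    intro i
    have e1 : ((G ⊗ G) ◁ m i) ≫ (μ[G] ▷ P) ≫ act =
        (α_ G G (Pa i)).hom ≫ (G ◁ (aPa i).act) ≫ (aPa i).act ≫ m i := by
      rw [whisker_exchange_assoc, h1, reassoc_of% (aPa i).mul_act]
    have e2 : ((G ⊗ G) ◁ m i) ≫ (α_ G G P).hom ≫ (G ◁ act) ≫ act =
        (α_ G G (Pa i)).hom ≫ (G ◁ (aPa i).act) ≫ (aPa i).act ≫ m i := by
      rw [associator_naturality_right_assoc, ← MonoidalCategory.whiskerLeft_comp_assoc, h1,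
        MonoidalCategory.whiskerLeft_comp, Category.assoc, h1]
    exact e1.trans e2.symm

end TQ

end H10PT
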