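import Mathlib
import Groth.Prelude.Def_QuotSh

/-!
# Representable quotient sheaves: `h_U → h_M` epi with `h_R → h_{U ×_M U}` epi gives `U/R ≅ h_M`
-/

set_option autoImplicit false

namespace H10QS

open CategoryTheory CategoryTheory.Limits AlgebraicGeometry

universe u

variable (K : Precoverage Scheme.{u}) {S : Scheme.{u}}

/-- the functor `V ↦ h_V`. -/
noncomputable def repF : Over S ⥤ QuotSh.Sh K S :=
  yoneda ⋙ (Functor.whiskeringRight _ _ _).obj uliftFunctor.{u + 1, u} ⋙
    presheafToSheaf (QuotSh.J K S) (Type (u + 1))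

lemma repF_map {V W : Over S} (g : V ⟶ W) : (repF K).map g = QuotSh.repMap K g := rfl

instance : PreservesLimitsOfShape WalkingCospan (repF K (S := S)) := by
  unfold repF
  infer_instance

theorem main {R U M : Over S} (s t : R ⟶ U) (q : U ⟶ M) (w : s ≫ q = t ≫ q)
    (w' : t.left ≫ q.left = s.left ≫ q.left) (h₂ : Epi (QuotSh.repMap K q))
    (hp : pullback.lift t.left s.left w' ≫
      (Over.mk (pullback.fst q.left q.left ≫ U.hom)).hom = R.hom)
    (h₃ : Epi (QuotSh.repMap K (Over.homMk (pullback.lift t.left s.left w') hp :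
      R ⟶ Over.mk (pullback.fst q.left q.left ≫ U.hom)))) :
    QuotSh.IsQuotient K s t q := by
  have hpr₂ : pullback.snd q.left q.left ≫ U.hom = pullback.fst q.left q.left ≫ U.hom := by
    rw [← Over.w q, ← Category.assoc, ← Category.assoc, pullback.condition]
  let P : Over S := Over.mk (pullback.fst q.left q.left ≫ U.hom)
  let pr₁ : P ⟶ U := Over.homMk (pullback.fst q.left q.left) rfl
  let pr₂ : P ⟶ U := Over.homMk (pullback.snd q.left q.left) hpr₂
  let e : R ⟶ P := Over.homMk (pullback.lift t.left s.left w') hp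
  have he1 : e ≫ pr₁ = t := by
    ext
    simp only [e, pr₁, Over.comp_left, Over.homMk_left]
    exact pullback.lift_fst _ _ _
  have he2 : e ≫ pr₂ = s := by
    ext
    simp only [e, pr₂, Over.comp_left, Over.homMk_left]
    exact pullback.lift_snd _ _ _
  have hcomm : pr₁ ≫ q = pr₂ ≫ q := by
    ext
    simp [pr₁, pr₂, pullback.condition]
  have hsq : IsPullback pr₁ pr₂ q q := by
    apply IsPullback.of_map (Over.forget S) hcomm
    exact IsPullback.of_hasPullback q.left q.left
  have hsq' : IsPullback (QuotSh.repMap K pr₁) (QuotSh.repMap K pr₂) (QuotSh.repMap K q)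
      (QuotSh.repMap K q) := hsq.map (repF K)
  haveI : EffectiveEpi (QuotSh.repMap K q) := by
    have := IsRegularEpiCategory.regularEpiOfEpi (QuotSh.repMap K q)
    rw [isRegularEpi_iff_effectiveEpi] at this
    exact this
  have h1 : QuotSh.repMap K e ≫ QuotSh.repMap K pr₁ = QuotSh.repMap K t :=
    ((repF K).map_comp e pr₁).symm.trans (congrArg (repF K).map he1)
  have h2 : QuotSh.repMap K e ≫ QuotSh.repMap K pr₂ = QuotSh.repMap K s :=
    ((repF K).map_comp e pr₂).symm.trans (congrArg (repF K).map he2)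
  have key : QuotSh.repMap K pr₁ ≫ QuotSh.quotπ K s t =
      QuotSh.repMap K pr₂ ≫ QuotSh.quotπ K s t := by
    haveI : Epi (QuotSh.repMap K e) := h₃
    rw [← cancel_epi (QuotSh.repMap K e), reassoc_of% h1, reassoc_of% h2]
    exact (QuotSh.quot_condition K s t).symm
  have hdesc : ∀ {Z : QuotSh.Sh K S} (g₁ g₂ : Z ⟶ QuotSh.rep K U),
      g₁ ≫ QuotSh.repMap K q = g₂ ≫ QuotSh.repMap K q →
      g₁ ≫ QuotSh.quotπ K s t = g₂ ≫ QuotSh.quotπ K s t := by
    intro Z g₁ g₂ hg
    rw [← hsq'.lift_fst g₁ g₂ hg, Category.assoc, key, ← Category.assoc, hsq'.lift_snd]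
  have hπd : QuotSh.quotπ K s t ≫ QuotSh.quotDesc K q w = QuotSh.repMap K q := by
    unfold QuotSh.quotπ QuotSh.quotDesc
    exact coequalizer.π_desc _ _
  obtain ⟨inv, hfac⟩ : ∃ inv : QuotSh.rep K M ⟶ QuotSh.quot K s t,
      QuotSh.repMap K q ≫ inv = QuotSh.quotπ K s t := ⟨_, EffectiveEpi.fac _ _ hdesc⟩
  haveI : Epi (QuotSh.quotπ K s t) :=
    show Epi (coequalizer.π (QuotSh.repMap K s) (QuotSh.repMap K t)) from inferInstance
  refine ⟨w, ⟨inv, ?_, ?_⟩⟩
  · refine (cancel_epi (QuotSh.quotπ K s t)).1 ?_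
    calc QuotSh.quotπ K s t ≫ (QuotSh.quotDesc K q w ≫ inv)
        = (QuotSh.quotπ K s t ≫ QuotSh.quotDesc K q w) ≫ inv := (Category.assoc _ _ _).symm
      _ = QuotSh.repMap K q ≫ inv := congrArg (fun f => f ≫ inv) hπd
      _ = QuotSh.quotπ K s t := hfac
      _ = QuotSh.quotπ K s t ≫ 𝟙 _ := (Category.comp_id _).symm
  · refine (cancel_epi (QuotSh.repMap K q)).1 ?_
    calc QuotSh.repMap K q ≫ (inv ≫ QuotSh.quotDesc K q w)
        = (QuotSh.repMap K q ≫ inv) ≫ QuotSh.quotDesc K q w := (Category.assoc _ _ _).symm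
      _ = QuotSh.quotπ K s t ≫ QuotSh.quotDesc K q w :=
          congrArg (fun f => f ≫ QuotSh.quotDesc K q w) hfac
      _ = QuotSh.repMap K q := hπd
      _ = QuotSh.repMap K q ≫ 𝟙 _ := (Category.comp_id _).symm

end H10QS
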