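import Mathlib
import Groth.Prelude.Def_AlgSt6
import Groth.Agent.Lib.Helper10.TQAct
import Groth.Agent.Lib.Helper10.Fib2
import Groth.Agent.Lib.Helper29.QuotUnpack

/-!
# Quotient stacks with sheaf torsors: the fibred structure

For `AlgSt.SpQuotSt K G aX`: every morphism is strongly cartesian, morphisms over isomorphisms are
isomorphisms, torsors pull back along morphisms of schemes, and the category is fibred in
groupoids over `(Sch/S)`.
-/

set_option autoImplicit false

universe u

open CategoryTheory CategoryTheory.Limits MonoidalCategory CartesianMonoidalCategory MonObj GrpObj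
  AlgebraicGeometry Opposite

namespace H10PT

namespace TQ

open AlgSp AlgSt

variable {S : Scheme.{u}} {K : Precoverage Scheme.{u}} {B : Sp S} {G : Over B} [GrpObj G]
  {X : Over B} {aX : GAction G X}

omit [GrpObj G] in
theorem bHom_comp_eq {T T' T'' : Over S} {b : (yon S).obj T ⟶ B} {b' : (yon S).obj T' ⟶ B}
    {b'' : (yon S).obj T'' ⟶ B} (f : T ⟶ T') (g : T' ⟶ T'') (h : T ⟶ T'') (e : f ≫ g = h)
    (w : (yon S).map f ≫ b' = b) (w' : (yon S).map g ≫ b'' = b')
    (w'' : (yon S).map h ≫ b'' = b) : bHom f w ≫ bHom g w' = bHom h w'' := by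
  subst e
  exact (bHom_comp f g w w' w'').symm

section Lift

variable {A A' C : SpQuotObj K G aX} (φ : A' ⟶ A) (ψ : C ⟶ A) (g : C.base ⟶ A'.base)
  (hg : g ≫ φ.base = ψ.base)

include hg in
theorem wb_lift : (yon S).map g ≫ A'.b = C.b := by
  rw [← φ.wb, ← Category.assoc, ← Functor.map_comp, hg, ψ.wb]

/-- The top of the unique lift. -/
noncomputable def liftTop : C.P ⟶ A'.P :=
  φ.cart.lift ψ.top (C.π ≫ bHom g (wb_lift φ ψ g hg)) (by
    rw [ψ.cart.w, Category.assoc, bHom_comp_eq g φ.base ψ.base hg])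

theorem liftTop_top : liftTop φ ψ g hg ≫ φ.top = ψ.top := φ.cart.lift_fst _ _ _

theorem liftTop_π : liftTop φ ψ g hg ≫ A'.π = C.π ≫ bHom g (wb_lift φ ψ g hg) :=
  φ.cart.lift_snd _ _ _

/-- Every morphism is strongly cartesian: the lift. -/
noncomputable def liftHom : C ⟶ A' where
  base := g
  wb := wb_lift φ ψ g hg
  top := liftTop φ ψ g hg
  eqv := by
    apply φ.cart.hom_ext
    · rw [Category.assoc, liftTop_top, ψ.eqv, Category.assoc, φ.eqv,
        ← MonoidalCategory.whiskerLeft_comp_assoc, liftTop_top]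
    · rw [Category.assoc, liftTop_π, Category.assoc, A'.cart.w, whiskerLeft_snd_assoc, liftTop_π,
        ← Category.assoc, ← Category.assoc, C.cart.w]
  cart := by
    refine IsPullback.of_right ?_ (liftTop_π φ ψ g hg) φ.cart
    rw [liftTop_top, bHom_comp_eq g φ.base ψ.base hg (wb_lift φ ψ g hg) φ.wb ψ.wb]
    exact ψ.cart
  wφ := by rw [← φ.wφ, ← Category.assoc, liftTop_top, ψ.wφ]

theorem liftHom_base : (liftHom φ ψ g hg).base = g := rfl

theorem liftHom_comp : liftHom φ ψ g hg ≫ φ = ψ :=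
  SpQuotObj.hom_ext hg (liftTop_top φ ψ g hg)

omit g hg in
theorem hom_eq_of_comp_eq {χ χ' : C ⟶ A'} (h : χ ≫ φ = χ' ≫ φ) (hb : χ.base = χ'.base) :
    χ = χ' := by
  apply SpQuotObj.hom_ext hb
  apply φ.cart.hom_ext
  · exact congrArg SpQuotObj.Hom.top h
  · have e : bHom χ.base χ.wb = bHom χ'.base χ'.wb := by
      ext
      simp [hb]
    rw [χ.cart.w, χ'.cart.w, e]

end Lift

section Iso

theorem isIso_bHom {T T' : Over S} {b : (yon S).obj T ⟶ B} {b' : (yon S).obj T' ⟶ B} (f : T ⟶ T')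
    (w : (yon S).map f ≫ b' = b) [IsIso f] : IsIso (bHom f w) := by
  haveI : IsIso ((Over.forget B).map (bHom f w)) := by
    show IsIso ((yon S).map f)
    infer_instance
  exact isIso_of_reflects_iso (bHom f w) (Over.forget B)

theorem isIso_top {A A' : SpQuotObj K G aX} (m : A ⟶ A') [IsIso m.base] : IsIso m.top := by
  haveI : IsIso (bHom m.base m.wb) := isIso_bHom _ _
  exact m.cart.isIso_fst_of_isIso

theorem inv_wb {A A' : SpQuotObj K G aX} (m : A ⟶ A') [IsIso m.base] :
    (yon S).map (inv m.base) ≫ A.b = A'.b := by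
  rw [← m.wb, ← Category.assoc, ← (yon S).map_comp, IsIso.inv_hom_id, (yon S).map_id,
    Category.id_comp]

theorem bHom_inv {A A' : SpQuotObj K G aX} (m : A ⟶ A') [IsIso m.base] :
    bHom m.base m.wb ≫ bHom (inv m.base) (inv_wb m) = 𝟙 _ := by
  apply Over.OverMorphism.ext
  show (yon S).map m.base ≫ (yon S).map (inv m.base) = 𝟙 _
  rw [← (yon S).map_comp, IsIso.hom_inv_id, (yon S).map_id]

/-- The inverse of a morphism over an isomorphism. -/
noncomputable def invHom {A A' : SpQuotObj K G aX} (m : A ⟶ A') [IsIso m.base] : A' ⟶ A :=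
  haveI := isIso_top m
  { base := inv m.base
    wb := inv_wb m
    top := inv m.top
    eqv := by
      have h := m.eqv
      rw [← cancel_mono m.top, Category.assoc, Category.assoc, IsIso.inv_hom_id, Category.comp_id,
        h, ← MonoidalCategory.whiskerLeft_comp_assoc, IsIso.inv_hom_id,
        MonoidalCategory.whiskerLeft_id, Category.id_comp]
    cart := by
      haveI : IsIso (bHom (inv m.base) (inv_wb m)) := isIso_bHom _ _
      refine IsPullback.of_horiz_isIso ⟨?_⟩
      rw [IsIso.inv_comp_eq, reassoc_of% m.cart.w, bHom_inv, Category.comp_id]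
    wφ := by rw [IsIso.inv_comp_eq, m.wφ] }

theorem isIso_of_isIso_base {A A' : SpQuotObj K G aX} (m : A ⟶ A') [IsIso m.base] : IsIso m := by
  haveI := isIso_top m
  refine ⟨invHom m, ?_, ?_⟩
  · apply SpQuotObj.hom_ext
    · exact IsIso.hom_inv_id m.base
    · exact IsIso.hom_inv_id m.top
  · apply SpQuotObj.hom_ext
    · exact IsIso.inv_hom_id m.base
    · exact IsIso.inv_hom_id m.top

end Iso

section Sec

/-- The sieve of morphisms to `T` along which `π` has a section. -/
def secSieve {T : Over S} {P : Sp S} (π : P ⟶ (yon S).obj T) : Sieve T where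
  arrows V h := ∃ s : (yon S).obj V ⟶ P, s ≫ π = (yon S).map h
  downward_closed := by
    rintro V W h ⟨s, hs⟩ k
    exact ⟨(yon S).map k ≫ s, by rw [Category.assoc, hs, ← Functor.map_comp]⟩

theorem secSieve_mem {T : Over S} {P : Sp S} {π : P ⟶ (yon S).obj T} (h : HasSecLoc K π) :
    secSieve π ∈ QuotSh.J K S T := by
  obtain ⟨R, hR, hsec⟩ := h
  obtain ⟨κ, Y, c, rfl⟩ := R.exists_eq_ofArrows
  let V : κ → Over S := fun l => Over.mk (c l ≫ T.hom)
  let ψ : ∀ l, V l ⟶ T := fun l => Over.homMk (c l) rfl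
  have h1 : Sieve.ofArrows V ψ ∈ QuotSh.J K S T :=
    Groth.Agent.Lib.Helper29.QuotUnpack.mem_J_of_cover K V ψ hR
  refine (QuotSh.J K S).superset_covering ?_ h1
  rw [Sieve.ofArrows, Sieve.generate_le_iff]
  rintro W _ ⟨l⟩
  exact hsec (c l) (Presieve.ofArrows.mk l)

theorem hasSecLoc_of_secSieve_mem [K.IsStableUnderComposition] [K.IsStableUnderBaseChange]
    [K.HasPullbacks] [K.HasIsos] {T : Over S} {P : Sp S} {π : P ⟶ (yon S).obj T}
    (h : secSieve π ∈ QuotSh.J K S T) : HasSecLoc K π := by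
  obtain ⟨κ, Y, c, hc, hmem⟩ :=
    Groth.Agent.Lib.Helper29.QuotUnpack.exists_cover_of_mem K (secSieve π) h
  refine ⟨Presieve.ofArrows Y c, hc, ?_⟩
  rintro T' f ⟨l⟩
  exact hmem l

end Sec

section Pb

variable (x : SpQuotObj K G aX) {V : Over S} (f : V ⟶ x.base)

/-- The section of `B` of the pulled back torsor. -/
noncomputable abbrev pbB : (yon S).obj V ⟶ B := (yon S).map f ≫ x.b

/-- The base morphism over `B`. -/
noncomputable abbrev pbBase : Over.mk (pbB x f) ⟶ Over.mk x.b := bHom f rfl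

/-- The total sheaf of the pulled back torsor. -/
noncomputable abbrev pbP : Over B := pullback x.π (pbBase x f)

noncomputable abbrev pbFst : pbP x f ⟶ x.P := pullback.fst _ _

noncomputable abbrev pbSnd : pbP x f ⟶ Over.mk (pbB x f) := pullback.snd _ _

theorem pb_isPullback : IsPullback (pbFst x f) (pbSnd x f) x.π (pbBase x f) :=
  IsPullback.of_hasPullback _ _

/-- The action on the pulled back torsor. -/
noncomputable def pbAct : G ⊗ pbP x f ⟶ pbP x f :=
  (pb_isPullback x f).lift ((G ◁ pbFst x f) ≫ x.act.act) (snd G _ ≫ pbSnd x f) (by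
    rw [Category.assoc, x.cart.w, whiskerLeft_snd_assoc, (pb_isPullback x f).w, Category.assoc])

theorem pbAct_fst : pbAct x f ≫ pbFst x f = (G ◁ pbFst x f) ≫ x.act.act :=
  (pb_isPullback x f).lift_fst _ _ _

theorem pbAct_snd : pbAct x f ≫ pbSnd x f = snd G _ ≫ pbSnd x f :=
  (pb_isPullback x f).lift_snd _ _ _

theorem pbAct_axioms : (η[G] ▷ pbP x f) ≫ pbAct x f = (λ_ (pbP x f)).hom ∧
    (μ[G] ▷ pbP x f) ≫ pbAct x f = (α_ G G (pbP x f)).hom ≫ (G ◁ pbAct x f) ≫ pbAct x f :=
  gaction_of_jointly_mono x.act (pbFst x f) (pbSnd x f)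
    (fun u v h1 h2 => (pb_isPullback x f).hom_ext h1 h2) (pbAct x f) (pbAct_fst x f)
    (pbAct_snd x f)

theorem pb_cart : IsPullback (pbAct x f) (snd G (pbP x f)) (pbSnd x f) (pbSnd x f) := by
  have h1 : IsPullback (G ◁ pbFst x f) (snd G (pbP x f)) (snd G x.P) (pbFst x f) :=
    isPullback_whiskerLeft' (pbFst x f)
  have h2 := h1.paste_horiz x.cart
  have h3 : IsPullback (pbAct x f ≫ pbFst x f) (snd G (pbP x f)) x.π
      (pbSnd x f ≫ pbBase x f) := by
    rw [pbAct_fst, ← (pb_isPullback x f).w]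
    exact h2
  exact IsPullback.of_right h3 (pbAct_snd x f) (pb_isPullback x f)

theorem pb_loc [K.IsStableUnderComposition] [K.IsStableUnderBaseChange] [K.HasPullbacks]
    [K.HasIsos] : HasSecLoc K (pbSnd x f).left := by
  apply hasSecLoc_of_secSieve_mem
  refine (QuotSh.J K S).superset_covering ?_
    ((QuotSh.J K S).pullback_stable f (secSieve_mem x.loc))
  intro W h hh
  obtain ⟨s, hs⟩ := hh
  have sq : IsPullback (pbFst x f).left (pbSnd x f).left x.π.left ((yon S).map f) :=
    (pb_isPullback x f).map (Over.forget B)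
  refine ⟨sq.lift s ((yon S).map h) (by rw [hs, Functor.map_comp]), ?_⟩
  exact sq.lift_snd _ _ _

variable [K.IsStableUnderComposition] [K.IsStableUnderBaseChange] [K.HasPullbacks] [K.HasIsos]

/-- The pulled back torsor. -/
noncomputable def pb : SpQuotObj K G aX where
  base := V
  b := pbB x f
  P := pbP x f
  act := ⟨pbAct x f, (pbAct_axioms x f).1, (pbAct_axioms x f).2⟩
  π := pbSnd x f
  cart := pb_cart x f
  loc := pb_loc x f
  φ := pbFst x f ≫ x.φ
  eqv := by
    show pbAct x f ≫ pbFst x f ≫ x.φ = (G ◁ (pbFst x f ≫ x.φ)) ≫ aX.act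
    rw [← Category.assoc, pbAct_fst, Category.assoc, x.eqv,
      MonoidalCategory.whiskerLeft_comp, Category.assoc]

/-- The canonical morphism from the pulled back torsor. -/
noncomputable def pbHom : pb x f ⟶ x where
  base := f
  wb := rfl
  top := pbFst x f
  eqv := pbAct_fst x f
  cart := pb_isPullback x f
  wφ := rfl

end Pb

variable (K G aX) in
/-- `[X/G]` (torsors as sheaves) is fibred in groupoids over `(Sch/S)`. -/
theorem isFibGrpd [K.IsStableUnderComposition] [K.IsStableUnderBaseChange] [K.HasPullbacks]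
    [K.HasIsos] : FibCat.IsFibGrpd (SpQuotSt K G aX).p where
  exists_lift := fun {x V} f =>
    ⟨pb x f, pbHom x f, IsHomLift.map (SpQuotSt K G aX).p (pbHom x f)⟩
  isStronglyCartesian := fun {y x} φ => by
    rw [Groth.Agent.Lib.Helper10.Fib.sc_map_iff]
    intro c g φ' hφ'
    have hg : g ≫ φ.base = φ'.base := hφ'.symm
    refine ⟨liftHom φ φ' g hg, ⟨rfl, liftHom_comp φ φ' g hg⟩, ?_⟩
    rintro χ ⟨h1, h2⟩
    exact hom_eq_of_comp_eq φ (h2.trans (liftHom_comp φ φ' g hg).symm) h1

end TQ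

end H10PT
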