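import Mathlib
import Groth.Prelude.Def_AlgSt6
import Groth.Agent.Lib.Helper10.TQ1
import Groth.Agent.Lib.Helper10.ShGlueD
import Groth.Agent.Lib.Helper10.StkElem

/-!
# Quotient stacks with sheaf torsors: morphisms glue

Cartesian cocones of sheaves over `B` (`OCartCocone`), the cocone attached to a functor from a slice
to `[X/G]`, and fullness / faithfulness of restriction to a covering sieve.
-/

set_option autoImplicit false

universe u

open CategoryTheory CategoryTheory.Limits MonoidalCategory CartesianMonoidalCategory MonObj GrpObj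
  AlgebraicGeometry Opposite

namespace H10PT

namespace TQ

open AlgSp AlgSt ShGlue Groth.Agent.Lib.Helper10.Fib Groth.Agent.Lib.Helper10.StkElem

variable {S : Scheme.{u}} {B : Sp S} {U : Over S}

/-- A family of cartesian squares over the arrows of a sieve, in sheaves over `B`. -/
structure OCartCocone (R : Sieve U) (P : Over B) (p : P.left ⟶ (yon S).obj U) where
  Pa : Idx R → Over B
  m : ∀ a : Idx R, Pa a ⟶ P
  q : ∀ a : Idx R, (Pa a).left ⟶ (yon S).obj a.obj.left
  cart : ∀ a : Idx R, IsPullback (m a).left (q a) p ((yon S).map a.obj.hom)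

section OCC

variable {R : Sieve U} {P : Over B} {p : P.left ⟶ (yon S).obj U} (OC : OCartCocone R P p)

/-- The underlying cartesian cocone of sheaves. -/
def OCartCocone.toCC : CartCocone R p :=
  ⟨fun a => (OC.Pa a).left, fun a => (OC.m a).left, OC.q, OC.cart⟩

/-- The product of a cartesian cocone with an object over `B`. -/
noncomputable def OCartCocone.whisker (Y : Over B) :
    OCartCocone R (Y ⊗ P) ((snd Y P).left ≫ p) where
  Pa a := Y ⊗ OC.Pa a
  m a := Y ◁ OC.m a
  q a := (snd Y (OC.Pa a)).left ≫ OC.q a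
  cart a := ((AlgSt.isPullback_whiskerLeft' (G := Y) (OC.m a)).map (Over.forget B)).paste_vert
    (OC.cart a)

theorem OCartCocone.hom_ext (hR : R ∈ J S U) {Z : Over B} (u v : P ⟶ Z)
    (h : ∀ a, OC.m a ≫ u = OC.m a ≫ v) : u = v := by
  apply Over.OverMorphism.ext
  exact OC.toCC.hom_ext hR _ _ (fun a => congrArg (fun z => z.left) (h a))

theorem OCartCocone.exists_desc (hR : R ∈ J S U) {Z : Over B} (ma : ∀ a, OC.Pa a ⟶ Z)
    (hma : ∀ ⦃a b : Idx R⦄ (k : a ⟶ b) (t : (OC.Pa a).left ⟶ (OC.Pa b).left),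
      t ≫ (OC.m b).left = (OC.m a).left → t ≫ OC.q b = OC.q a ≫ (yon S).map k.hom.left →
      t ≫ (ma b).left = (ma a).left) :
    ∃ u : P ⟶ Z, ∀ a, OC.m a ≫ u = ma a := by
  obtain ⟨u₀, hu₀⟩ := OC.toCC.exists_desc (fun a => (ma a).left) hma hR
  have hw : u₀ ≫ Z.hom = P.hom := by
    refine OC.toCC.hom_ext hR _ _ (fun a => ?_)
    show (OC.m a).left ≫ u₀ ≫ Z.hom = (OC.m a).left ≫ P.hom
    have e : (OC.m a).left ≫ u₀ = (ma a).left := hu₀ a
    rw [← Category.assoc, e, Over.w, Over.w]
  refine ⟨Over.homMk u₀ hw, fun a => ?_⟩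
  apply Over.OverMorphism.ext
  exact hu₀ a

end OCC

/-- Maps out of a representable are determined on a covering sieve. -/
theorem yon_hom_ext {R : Sieve U} (hR : R ∈ J S U) {F : Sp S} (β₁ β₂ : (yon S).obj U ⟶ F)
    (h : ∀ a : Idx R, (yon S).map a.obj.hom ≫ β₁ = (yon S).map a.obj.hom ≫ β₂) : β₁ = β₂ := by
  let CC : CartCocone R (𝟙 ((yon S).obj U)) :=
    ⟨fun a => (yon S).obj a.obj.left, fun a => (yon S).map a.obj.hom, fun a => 𝟙 _,
      fun a => IsPullback.of_vert_isIso ⟨by simp⟩⟩
  exact CC.hom_ext hR β₁ β₂ h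

variable {K : Precoverage Scheme.{u}} {G : Over B} [GrpObj G] {X : Over B} {aX : GAction G X}

section OverFunctor

variable (Gf : FibCat.overCat U ⥤ᵇ SpQuotSt K G aX)

theorem bEq (A : Over U) : (Gf.obj A).base = A.left := Gf.w_obj A

theorem map_base {A' A : Over U} (k : A' ⟶ A) :
    (Gf.map k).base = eqToHom (bEq Gf A') ≫ k.left ≫ eqToHom (bEq Gf A).symm := by
  haveI : (SpQuotSt K G aX).p.IsHomLift k.left (Gf.map k) := isHomLift_map_over U Gf k
  exact IsHomLift.fac' (SpQuotSt K G aX).p k.left (Gf.map k)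

/-- The structure map of a value of the functor, with target the expected scheme. -/
noncomputable def πA (A : Over U) : (Gf.obj A).P.left ⟶ (yon S).obj A.left :=
  (Gf.obj A).π.left ≫ (yon S).map (eqToHom (bEq Gf A))

/-- The section of `B` of a value of the functor, with source the expected scheme. -/
noncomputable def bA (A : Over U) : (yon S).obj A.left ⟶ B :=
  (yon S).map (eqToHom (bEq Gf A).symm) ≫ (Gf.obj A).b

theorem bA_map {A' A : Over U} (k : A' ⟶ A) : (yon S).map k.left ≫ bA Gf A = bA Gf A' := by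
  have h := (Gf.map k).wb
  rw [map_base] at h
  unfold bA
  rw [← h]
  simp only [Functor.map_comp, Category.assoc, eqToHom_map, eqToHom_trans_assoc, eqToHom_refl,
    Category.id_comp]

theorem cart_map {A' A : Over U} (k : A' ⟶ A) :
    IsPullback (Gf.map k).top.left (πA Gf A') (πA Gf A) ((yon S).map k.left) := by
  have sq : IsPullback (Gf.map k).top.left (Gf.obj A').π.left (Gf.obj A).π.left
      ((yon S).map (Gf.map k).base) := (Gf.map k).cart.map (Over.forget B)
  refine sq.of_iso (Iso.refl _) (Iso.refl _) ((yon S).mapIso (eqToIso (bEq Gf A')))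
    ((yon S).mapIso (eqToIso (bEq Gf A))) (by simp) (by simp [πA]) (by simp [πA]) ?_
  simp only [Functor.mapIso_hom, eqToIso.hom, ← Functor.map_comp]
  congr 1
  rw [map_base]
  simp

/-- The cartesian cocone attached to a functor from the slice and a sieve. -/
noncomputable def occ (R : Sieve U) :
    OCartCocone R (Gf.obj (Over.mk (𝟙 U))).P (πA Gf (Over.mk (𝟙 U))) where
  Pa a := (Gf.obj a.obj).P
  m a := (Gf.map (toTerminal U a.obj)).top
  q a := πA Gf a.obj
  cart a := cart_map Gf (toTerminal U a.obj)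

end OverFunctor

end TQ

end H10PT
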