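import Mathlib
import Groth.Prelude.Def_AlgSt6
import Groth.Agent.Lib.Helper10.TQ2

/-!
# Quotient stacks with sheaf torsors: points of sheaves and trivialisations of torsors
-/

set_option autoImplicit false

universe u

open CategoryTheory CategoryTheory.Limits MonoidalCategory CartesianMonoidalCategory MonObj GrpObj
  AlgebraicGeometry Opposite

namespace H10PT

namespace TQR

open AlgSp AlgSt

variable {S : Scheme.{u}} {B : Sp S} {K : Precoverage Scheme.{u}} {G : Over B} [GrpObj G]
  {X : Over B} {aX : GAction G X}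

section Pt

/-- The point of a sheaf attached to a section. -/
noncomputable abbrev pt {F : Sp S} (w : (ofSp F).obj) : (yon S).obj w.base ⟶ F :=
  ((AlgSp.J S).uliftYonedaEquiv).symm w.sec

theorem pt_comp {F : Sp S} {w w' : (ofSp F).obj} (k : w ⟶ w') :
    (yon S).map k.hom ≫ pt w' = pt w := by
  change (AlgSp.J S).uliftYoneda.map k.hom ≫ ((AlgSp.J S).uliftYonedaEquiv).symm w'.sec = _
  rw [GrothendieckTopology.uliftYonedaEquiv_symm_naturality_left, k.map_sec]

theorem pt_ofSpMap {F F' : Sp S} (f : F ⟶ F') (w : (ofSp F).obj) :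
    pt ((ofSpMap f).obj w) = pt w ≫ f := by
  change ((AlgSp.J S).uliftYonedaEquiv).symm (f.hom.app _ w.sec) = _
  rw [GrothendieckTopology.uliftYonedaEquiv_symm_naturality_right]

theorem pt_ofSch {U : Over S} (x : (ofSch U).obj) : pt x = (yon S).map x.sec.down := by
  apply ((AlgSp.J S).uliftYonedaEquiv).injective
  rw [Equiv.apply_symm_apply]
  exact (GrothendieckTopology.uliftYonedaEquiv_uliftYoneda_map (AlgSp.J S) x.sec.down).symm

/-- The object attached to a point. -/
noncomputable abbrev mkPt {F : Sp S} {T : Over S} (x : (yon S).obj T ⟶ F) : (ofSp F).obj :=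
  ⟨T, (AlgSp.J S).uliftYonedaEquiv x⟩

theorem mkPt_base {F : Sp S} {T : Over S} (x : (yon S).obj T ⟶ F) : (mkPt x).base = T := rfl

theorem pt_mkPt {F : Sp S} {T : Over S} (x : (yon S).obj T ⟶ F) : pt (mkPt x) = x :=
  Equiv.symm_apply_apply _ _

theorem map_sec_of_pt {F : Sp S} {w w' : (ofSp F).obj} (k : w.base ⟶ w'.base)
    (h : (yon S).map k ≫ pt w' = pt w) : F.obj.map k.op w'.sec = w.sec := by
  have h' : (GrothendieckTopology.uliftYonedaEquiv.{u + 1} (AlgSp.J S)).symm
      (F.obj.map k.op w'.sec) =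
      (GrothendieckTopology.uliftYonedaEquiv.{u + 1} (AlgSp.J S)).symm w.sec := by
    rw [← GrothendieckTopology.uliftYonedaEquiv_symm_naturality_left]
    exact h
  exact (GrothendieckTopology.uliftYonedaEquiv.{u + 1} (AlgSp.J S)).symm.injective h'

/-- A morphism of the category of a sheaf from the compatibility of points. -/
noncomputable def homOfPt {F : Sp S} {w w' : (ofSp F).obj} (k : w.base ⟶ w'.base)
    (h : (yon S).map k ≫ pt w' = pt w) : w ⟶ w' where
  hom := k
  map_sec := map_sec_of_pt k h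

theorem homOfPt_hom {F : Sp S} {w w' : (ofSp F).obj} (k : w.base ⟶ w'.base)
    (h : (yon S).map k ≫ pt w' = pt w) : (homOfPt k h).hom = k := rfl

end Pt

section Unit

/-- The unit section of the trivial torsor. -/
noncomputable def unitSec (T : Over B) : T ⟶ G ⊗ T := lift (1 : T ⟶ G) (𝟙 T)

theorem unitSec_whisker {T Z : Over B} (p : T ⟶ Z) :
    unitSec (G := G) T ≫ (G ◁ p) = lift (1 : T ⟶ G) p := by
  apply CartesianMonoidalCategory.hom_ext <;> simp [unitSec]

theorem lift_one_act {Z : Over B} (aZ : GAction G Z) {T : Over B} (p : T ⟶ Z) :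
    lift (1 : T ⟶ G) p ≫ aZ.act = p := by
  have h : lift (1 : T ⟶ G) p = lift (toUnit T) p ≫ (η[G] ▷ Z) := by
    apply CartesianMonoidalCategory.hom_ext
    · simp [Hom.one_def]
    · simp
  rw [h, Category.assoc, aZ.one_act]
  simp

theorem unitSec_act {Z : Over B} (aZ : GAction G Z) {T : Over B} (p : T ⟶ Z) :
    unitSec T ≫ (G ◁ p) ≫ aZ.act = p := by
  rw [← Category.assoc, unitSec_whisker, lift_one_act]

theorem unitSec_snd (T : Over B) : unitSec (G := G) T ≫ snd G T = 𝟙 T := by
  simp [unitSec]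

theorem top_eq_aux {Z : Over B} (aZ : GAction G Z) {T : Over B} (D : G ⊗ T ⟶ Z)
    (heqv : (spLeftMul G T).act ≫ D = (G ◁ D) ≫ aZ.act) :
    D = (G ◁ (unitSec T ≫ D)) ≫ aZ.act := by
  have hj : lift (fst G T) (lift (1 : G ⊗ T ⟶ G) (snd G T)) ≫ (spLeftMul G T).act = 𝟙 _ := by
    apply CartesianMonoidalCategory.hom_ext <;> simp [spLeftMul, comp_mul]
  have h2 := congrArg (fun t => lift (fst G T) (lift (1 : G ⊗ T ⟶ G) (snd G T)) ≫ t) heqv
  simp only [← Category.assoc] at h2
  rw [hj, Category.id_comp] at h2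
  have h5 : lift (1 : G ⊗ T ⟶ G) (snd G T) = snd G T ≫ unitSec T := by
    apply CartesianMonoidalCategory.hom_ext <;> simp [unitSec]
  have h6 : lift (fst G T) (lift (1 : G ⊗ T ⟶ G) (snd G T)) ≫ (G ◁ D) =
      G ◁ (unitSec T ≫ D) := by
    apply CartesianMonoidalCategory.hom_ext
    · simp
    · rw [Category.assoc, whiskerLeft_snd, lift_snd_assoc, whiskerLeft_snd, h5, Category.assoc]
  rw [h6] at h2
  exact h2

end Unit

section Triv

variable [K.HasIsos]

/-- The object of `Over B` attached to a point of `X`. -/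
noncomputable abbrev ovr (a : (ofSp X.left).obj) : Over B := Over.mk (secYon a ≫ X.hom)

section TrivHom

variable (A : SpQuotObj K G aX) (a : (ofSp X.left).obj) (s : (yon S).obj a.base ⟶ A.P.left)
  (hx : s ≫ A.φ.left = secYon a)

include hx in
omit [K.HasIsos] in
theorem triv_w : s ≫ A.P.hom = secYon a ≫ X.hom := by
  rw [← hx, Category.assoc, Over.w]

/-- The point as a morphism over `B`. -/
noncomputable def ptOver : ovr a ⟶ A.P := Over.homMk s (triv_w A a s hx)

omit [K.HasIsos] in
theorem ptOver_left : (ptOver A a s hx).left = s := rfl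

omit [K.HasIsos] in
theorem ptOver_φ : ptOver A a s hx ≫ A.φ = secOver a := Over.OverMorphism.ext hx

/-- The base of the trivialisation. -/
noncomputable def trivBase : a.base ⟶ A.base := (yon S).preimage (s ≫ A.π.left)

omit [K.HasIsos] in
theorem map_trivBase : (yon S).map (trivBase A a s) = s ≫ A.π.left := (yon S).map_preimage _

include hx in
omit [K.HasIsos] in
theorem trivBase_wb : (yon S).map (trivBase A a s) ≫ A.b = secYon a ≫ X.hom := by
  rw [map_trivBase, Category.assoc]
  have h : A.π.left ≫ A.b = A.P.hom := Over.w A.π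
  rw [h]
  exact triv_w A a s hx

omit [K.HasIsos] in
theorem ptOver_π :
    ptOver A a s hx ≫ A.π = bHom (trivBase A a s) (trivBase_wb A a s hx) :=
  Over.OverMorphism.ext (map_trivBase A a s).symm

/-- A point of a torsor trivialises it. -/
noncomputable def trivHom : (spQuotMap K G aX).obj a ⟶ A where
  base := trivBase A a s
  wb := trivBase_wb A a s hx
  top := (G ◁ ptOver A a s hx) ≫ A.act.act
  eqv := by
    have hμ : fst (G ⊗ G) A.P ≫ μ[G] = (fst _ _ ≫ fst G G) * (fst _ _ ≫ snd G G) := by
      rw [Hom.mul_def, ← comp_lift, lift_fst_snd, Category.comp_id]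
    have h : (spLeftMul G (ovr a)).act ≫ (G ◁ ptOver A a s hx) =
        (G ◁ (G ◁ ptOver A a s hx)) ≫ (α_ G G A.P).inv ≫ (μ[G] ▷ A.P) := by
      apply CartesianMonoidalCategory.hom_ext
      · simp only [spLeftMul, Category.assoc, lift_fst, lift_snd, lift_fst_assoc, lift_snd_assoc, comp_lift, comp_mul, whiskerLeft_fst, whiskerLeft_snd, whiskerLeft_fst_assoc, whiskerLeft_snd_assoc, whiskerRight_fst, whiskerRight_snd, whiskerRight_fst_assoc, whiskerRight_snd_assoc, associator_inv_fst_fst, associator_inv_fst_snd, associator_inv_snd, associator_inv_fst_fst_assoc, associator_inv_fst_snd_assoc, associator_inv_snd_assoc, hμ]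
      · simp only [spLeftMul, Category.assoc, lift_fst, lift_snd, lift_fst_assoc, lift_snd_assoc, comp_lift, comp_mul, whiskerLeft_fst, whiskerLeft_snd, whiskerLeft_fst_assoc, whiskerLeft_snd_assoc, whiskerRight_fst, whiskerRight_snd, whiskerRight_fst_assoc, whiskerRight_snd_assoc, associator_inv_fst_fst, associator_inv_fst_snd, associator_inv_snd, associator_inv_fst_fst_assoc, associator_inv_fst_snd_assoc, associator_inv_snd_assoc]
    have hm : (G ◁ A.act.act) ≫ A.act.act = (α_ G G A.P).inv ≫ (μ[G] ▷ A.P) ≫ A.act.act := by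
      rw [A.act.mul_act, Iso.inv_hom_id_assoc]
    change (spLeftMul G (ovr a)).act ≫ (G ◁ ptOver A a s hx) ≫ A.act.act =
      (G ◁ ((G ◁ ptOver A a s hx) ≫ A.act.act)) ≫ A.act.act
    rw [MonoidalCategory.whiskerLeft_comp, Category.assoc, hm, reassoc_of% h]
  cart := by
    have h := (isPullback_whiskerLeft' (G := G) (ptOver A a s hx)).paste_horiz A.cart
    rw [ptOver_π] at h
    exact h
  wφ := by
    change ((G ◁ ptOver A a s hx) ≫ A.act.act) ≫ A.φ = (G ◁ secOver a) ≫ aX.act
    rw [Category.assoc, A.eqv, ← MonoidalCategory.whiskerLeft_comp_assoc, ptOver_φ]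

theorem trivHom_base : (trivHom A a s hx).base = trivBase A a s := rfl

theorem trivHom_top : (trivHom A a s hx).top = (G ◁ ptOver A a s hx) ≫ A.act.act := rfl

end TrivHom

section PtOf

variable {A : SpQuotObj K G aX} {a : (ofSp X.left).obj} (d : (spQuotMap K G aX).obj a ⟶ A)

/-- The top of a morphism from a trivial torsor, with its source written as a product. -/
def topOf : G ⊗ ovr a ⟶ A.P := d.top

theorem topOf_φ : topOf d ≫ A.φ = (G ◁ secOver a) ≫ aX.act := d.wφ

theorem topOf_π : topOf d ≫ A.π = snd G (ovr a) ≫ bHom d.base d.wb := d.cart.w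

theorem topOf_eqv : (spLeftMul G (ovr a)).act ≫ topOf d = (G ◁ topOf d) ≫ A.act.act := d.eqv

/-- The point of the torsor determined by a morphism from a trivial torsor. -/
noncomputable def ptOf : ovr a ⟶ A.P := unitSec (ovr a) ≫ topOf d

theorem ptOf_φ : ptOf d ≫ A.φ = secOver a := by
  unfold ptOf
  rw [Category.assoc, topOf_φ, unitSec_act]

theorem ptOf_π : ptOf d ≫ A.π = bHom d.base d.wb := by
  unfold ptOf
  rw [Category.assoc, topOf_π, ← Category.assoc, unitSec_snd, Category.id_comp]
  rfl

theorem top_eq : topOf d = (G ◁ ptOf d) ≫ A.act.act :=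
  top_eq_aux A.act (topOf d) (topOf_eqv d)

end PtOf

end Triv

end TQR

end H10PT
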