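import Mathlib
import Groth.Prelude.Def_AlgSt6
import Groth.Agent.Lib.Helper10.TQR1
import Groth.Agent.Lib.Helper10.Fib4

/-!
# Quotient stacks with sheaf torsors: the fibre product of a point with `X ⟶ [X/G]`
-/

set_option autoImplicit false

universe u

open CategoryTheory CategoryTheory.Limits MonoidalCategory CartesianMonoidalCategory MonObj GrpObj
  AlgebraicGeometry Opposite

namespace H10PT

namespace TQR

open AlgSp AlgSt H10PT.TQ Groth.Agent.Lib.Helper10.Fib

variable {S : Scheme.{u}} {B : Sp S} {K : Precoverage Scheme.{u}} {G : Over B} [GrpObj G]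
  {X : Over B} {aX : GAction G X} {U : Over S}

theorem eq_cancel {C : Type*} [Category C] {a b c d : C} (p : a = b) (f : b ⟶ c) (q : d = c) :
    (eqToHom p ≫ f ≫ eqToHom q.symm) ≫ eqToHom q = eqToHom p ≫ f := by
  subst q
  simp

theorem yon_eqToHom_cancel₁ {T T' : Over S} (e : T = T') :
    (yon S).map (eqToHom e) ≫ (yon S).map (eqToHom e.symm) = 𝟙 _ := by
  subst e
  simp

/-- The structure map of a torsor, as a map of sheaves to the representable sheaf. -/
def πc (A : SpQuotObj K G aX) : A.P.left ⟶ (yon S).obj A.base := A.π.left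

theorem πc_b (A : SpQuotObj K G aX) : πc A ≫ A.b = A.P.hom := Over.w A.π

section TV

variable [K.HasIsos]

/-- The trivial torsor at a point of `X`. -/
noncomputable def tv (a : (ofSp X.left).obj) : SpQuotObj K G aX := (spQuotMap K G aX).obj a

/-- The trivial torsor at a point of `X`, on morphisms. -/
noncomputable def tvMap {a a' : (ofSp X.left).obj} (f : a ⟶ a') :
    tv (K := K) (G := G) (aX := aX) a ⟶ tv a' :=
  (spQuotMap K G aX).map f

theorem tvMap_base {a a' : (ofSp X.left).obj} (f : a ⟶ a') :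
    (tvMap (K := K) (G := G) (aX := aX) f).base = f.hom := rfl

omit [K.HasIsos] in
theorem ovrMap_w {a a' : (ofSp X.left).obj} (f : a ⟶ a') :
    (yon S).map f.hom ≫ secYon a' ≫ X.hom = secYon a ≫ X.hom := by
  rw [← Category.assoc, secYon_comp]

/-- The map over `B` induced by a morphism of points of `X`. -/
noncomputable def ovrMap {a a' : (ofSp X.left).obj} (f : a ⟶ a') : ovr a ⟶ ovr a' :=
  bHom f.hom (ovrMap_w f)

theorem tvMap_top {a a' : (ofSp X.left).obj} (f : a ⟶ a') :
    (tvMap (K := K) (G := G) (aX := aX) f).top = G ◁ ovrMap f := rfl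

end TV

section Y

variable (y : FibCat.overCat U ⥤ᵇ SpQuotSt K G aX)

/-- The values of `y`. -/
def yo (g : Over U) : SpQuotObj K G aX := y.obj g

/-- The values of `y` on morphisms. -/
def ym {g' g : Over U} (k : g' ⟶ g) : yo y g' ⟶ yo y g := y.map k

theorem ym_comp {g'' g' g : Over U} (k : g'' ⟶ g') (l : g' ⟶ g) :
    ym y (k ≫ l) = ym y k ≫ ym y l := y.toFunctor.map_comp k l

theorem yo_base (g : Over U) : (yo y g).base = g.left := bEq y g

theorem ym_base {g' g : Over U} (k : g' ⟶ g) :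
    (ym y k).base = eqToHom (yo_base y g') ≫ k.left ≫ eqToHom (yo_base y g).symm :=
  map_base y k

/-- The torsor classified by `y`. -/
noncomputable def tors : SpQuotObj K G aX := yo y (Over.mk (𝟙 U))

theorem tors_base : (tors y).base = U := yo_base y (Over.mk (𝟙 U))

/-- The structure map of the torsor, with target `U`. -/
noncomputable def πU : (tors y).P.left ⟶ (yon S).obj U :=
  πc (tors y) ≫ (yon S).map (eqToHom (tors_base y))

theorem πU_cancel : πU y ≫ (yon S).map (eqToHom (tors_base y).symm) = πc (tors y) := by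
  unfold πU
  rw [Category.assoc, yon_eqToHom_cancel₁, Category.comp_id]

/-- The canonical morphism `y g ⟶ tors y`. -/
noncomputable def cHom (g : Over U) : yo y g ⟶ tors y := ym y (toTerminal U g)

theorem cHom_base (g : Over U) :
    (cHom y g).base = eqToHom (yo_base y g) ≫ g.hom ≫ eqToHom (tors_base y).symm :=
  ym_base y (toTerminal U g)

theorem map_cHom {g' g : Over U} (k : g' ⟶ g) : ym y k ≫ cHom y g = cHom y g' :=
  map_toTerminal_comp U y k

/-- `(T, s) ↦ (T, s ≫ π)` -/
noncomputable abbrev m₁ : ofSp (tors y).P.left ⥤ᵇ FibCat.overCat U :=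
  BasedFunctor.comp (ofSpMap (πU y)) (toOverCat U)

/-- `(T, s) ↦ (T, s ≫ φ)` -/
noncomputable abbrev m₂ : ofSp (tors y).P.left ⥤ᵇ ofSp X.left := ofSpMap (tors y).φ.left

section W

/-- The morphism to `U` of a point of the torsor. -/
noncomputable def g₁ (w : (ofSp (tors y).P.left).obj) : w.base ⟶ U :=
  ((πU y).hom.app (op w.base) w.sec).down

theorem map_g₁ (w : (ofSp (tors y).P.left).obj) : (yon S).map (g₁ y w) = pt w ≫ πU y := by
  have h := pt_ofSch ((ofSpMap (πU y)).obj w)
  rw [pt_ofSpMap] at h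
  exact h.symm

theorem g₁_comp {w' w : (ofSp (tors y).P.left).obj} (k : w' ⟶ w) :
    k.hom ≫ g₁ y w = g₁ y w' := by
  apply (yon S).map_injective
  rw [(yon S).map_comp, map_g₁, map_g₁, ← Category.assoc, pt_comp]

/-- The first projection, on objects. -/
noncomputable def o₁ (w : (ofSp (tors y).P.left).obj) : Over U := Over.mk (g₁ y w)

/-- The first projection, on morphisms. -/
noncomputable def k₁ {w' w : (ofSp (tors y).P.left).obj} (k : w' ⟶ w) : o₁ y w' ⟶ o₁ y w :=
  Over.homMk k.hom (g₁_comp y k)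

theorem yo_base₁ (w : (ofSp (tors y).P.left).obj) : (yo y (o₁ y w)).base = w.base :=
  yo_base y (o₁ y w)

theorem cHom_base₁ (w : (ofSp (tors y).P.left).obj) :
    (cHom y (o₁ y w)).base = eqToHom (yo_base₁ y w) ≫ g₁ y w ≫ eqToHom (tors_base y).symm :=
  cHom_base y (o₁ y w)

/-- The second projection, on objects. -/
noncomputable def o₂ (w : (ofSp (tors y).P.left).obj) : (ofSp X.left).obj := (m₂ y).obj w

/-- The second projection, on morphisms. -/
noncomputable def k₂ {w' w : (ofSp (tors y).P.left).obj} (k : w' ⟶ w) : o₂ y w' ⟶ o₂ y w :=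
  (m₂ y).map k

theorem k₂_hom {w' w : (ofSp (tors y).P.left).obj} (k : w' ⟶ w) : (k₂ y k).hom = k.hom := rfl

theorem secYon_o₂ (w : (ofSp (tors y).P.left).obj) :
    secYon (o₂ y w) = pt w ≫ (tors y).φ.left := pt_ofSpMap _ w

variable [K.HasIsos]

/-- The trivialisation attached to a point of the torsor. -/
noncomputable def dHom (w : (ofSp (tors y).P.left).obj) : tv (o₂ y w) ⟶ tors y :=
  trivHom (tors y) (o₂ y w) (pt w) (secYon_o₂ y w).symm

/-- The base of the trivialisation. -/
noncomputable def dBase (w : (ofSp (tors y).P.left).obj) : w.base ⟶ (tors y).base :=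
  (dHom y w).base

theorem map_dBase (w : (ofSp (tors y).P.left).obj) :
    (yon S).map (dBase y w) = pt w ≫ πc (tors y) :=
  map_trivBase _ _ _

/-- The point of the torsor, over `B`. -/
noncomputable def pO (w : (ofSp (tors y).P.left).obj) : ovr (o₂ y w) ⟶ (tors y).P :=
  ptOver (tors y) (o₂ y w) (pt w) (secYon_o₂ y w).symm

omit [K.HasIsos] in
theorem pO_left (w : (ofSp (tors y).P.left).obj) : (pO y w).left = pt w := rfl

theorem dHom_top (w : (ofSp (tors y).P.left).obj) :
    topOf (dHom y w) = (G ◁ pO y w) ≫ (tors y).act.act := rfl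

theorem eHom_aux (w : (ofSp (tors y).P.left).obj) :
    eqToHom (yo_base₁ y w) ≫ dBase y w = (cHom y (o₁ y w)).base := by
  apply (yon S).map_injective
  have e3 : pt w ≫ πc (tors y) = (yon S).map (g₁ y w) ≫
      (yon S).map (eqToHom (tors_base y).symm) := by
    rw [map_g₁, Category.assoc, πU_cancel]
  calc (yon S).map (eqToHom (yo_base₁ y w) ≫ dBase y w)
      = (yon S).map (eqToHom (yo_base₁ y w)) ≫ (yon S).map (dBase y w) :=
        (yon S).map_comp _ _
    _ = (yon S).map (eqToHom (yo_base₁ y w)) ≫ ((yon S).map (g₁ y w) ≫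
          (yon S).map (eqToHom (tors_base y).symm)) := by rw [map_dBase, e3]
    _ = (yon S).map (eqToHom (yo_base₁ y w) ≫ g₁ y w ≫ eqToHom (tors_base y).symm) := by
        rw [(yon S).map_comp, (yon S).map_comp]
    _ = (yon S).map (cHom y (o₁ y w)).base := by
        rw [cHom_base₁]

/-- The component of the 2-isomorphism. -/
noncomputable def eHom (w : (ofSp (tors y).P.left).obj) : yo y (o₁ y w) ⟶ tv (o₂ y w) :=
  liftHom (dHom y w) (cHom y (o₁ y w)) (eqToHom (yo_base₁ y w)) (eHom_aux y w)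

theorem eHom_base (w : (ofSp (tors y).P.left).obj) :
    (eHom y w).base = eqToHom (yo_base₁ y w) := rfl

theorem eHom_comp (w : (ofSp (tors y).P.left).obj) : eHom y w ≫ dHom y w = cHom y (o₁ y w) :=
  liftHom_comp _ _ _ _

instance (w : (ofSp (tors y).P.left).obj) : IsIso (eHom y w) := by
  haveI : IsIso (eHom y w).base := by
    show IsIso (eqToHom (yo_base₁ y w))
    infer_instance
  exact isIso_of_isIso_base _

theorem ovrMap_pO {w' w : (ofSp (tors y).P.left).obj} (k : w' ⟶ w) :
    ovrMap (k₂ y k) ≫ pO y w = pO y w' :=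
  Over.OverMorphism.ext (pt_comp k)

theorem tvMap_dHom {w' w : (ofSp (tors y).P.left).obj} (k : w' ⟶ w) :
    tvMap (k₂ y k) ≫ dHom y w = dHom y w' := by
  apply SpQuotObj.hom_ext
  · apply (yon S).map_injective
    show (yon S).map (k.hom ≫ dBase y w) = (yon S).map (dBase y w')
    rw [(yon S).map_comp, map_dBase, map_dBase, ← Category.assoc, pt_comp]
  · show (G ◁ ovrMap (k₂ y k)) ≫ topOf (dHom y w) = topOf (dHom y w')
    rw [dHom_top, dHom_top, ← MonoidalCategory.whiskerLeft_comp_assoc, ovrMap_pO]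

theorem eHom_naturality {w' w : (ofSp (tors y).P.left).obj} (k : w' ⟶ w) :
    ym y (k₁ y k) ≫ eHom y w = eHom y w' ≫ tvMap (k₂ y k) := by
  apply hom_eq_of_comp_eq (dHom y w)
  · rw [Category.assoc, Category.assoc, tvMap_dHom, eHom_comp, eHom_comp]
    exact map_cHom y (k₁ y k)
  · show (ym y (k₁ y k)).base ≫ (eHom y w).base = (eHom y w').base ≫ k.hom
    rw [ym_base, eHom_base, eHom_base]
    show (eqToHom _ ≫ k.hom ≫ eqToHom _) ≫ eqToHom _ = eqToHom _ ≫ k.hom
    simp

theorem eHom_isHomLift (w : (ofSp (tors y).P.left).obj) :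
    (SpQuotSt K G aX).p.IsHomLift (𝟙 ((ofSp (tors y).P.left).p.obj w)) (eHom y w) := by
  refine IsHomLift.of_fac' _ _ _ (yo_base₁ y w) rfl ?_
  show eqToHom (yo_base₁ y w) = eqToHom (yo_base₁ y w) ≫ 𝟙 w.base ≫ eqToHom rfl
  simp

end W

variable [K.HasIsos]

/-- the underlying natural isomorphism -/
noncomputable def eNatIso :
    (BasedFunctor.comp (m₁ y) y).toFunctor ≅
      (BasedFunctor.comp (m₂ y) (spQuotMap K G aX)).toFunctor :=
  NatIso.ofComponents (fun w => (asIso (eHom y w) : yo y (o₁ y w) ≅ tv (o₂ y w)))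
    (fun k => eHom_naturality y k)

/-- The 2-isomorphism. -/
noncomputable def eIso :
    BasedFunctor.comp (m₁ y) y ≅ BasedFunctor.comp (m₂ y) (spQuotMap K G aX) :=
  BasedNatIso.mkNatIso (eNatIso y) (fun w => eHom_isHomLift y w)

/-- the comparison functor -/
noncomputable abbrev M : ofSp (tors y).P.left ⥤ᵇ FibCat.fp y (spQuotMap K G aX) :=
  FibCat.fpLift (m₁ y) (m₂ y) (eIso y)

theorem M_iso_hom (w : (ofSp (tors y).P.left).obj) : ((M y).obj w).obj.iso.hom = eHom y w := rfl

instance : (M y).toFunctor.Faithful where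
  map_injective {w' w} k k' h := by
    apply Stk.EltObj.hom_ext
    have := congrArg (fun m => m.hom.fst.left) h
    exact this

theorem full_aux {w' w : (ofSp (tors y).P.left).obj} (h : (M y).obj w' ⟶ (M y).obj w) :
    h.hom.fst.left = h.hom.snd.hom ∧ (yon S).map h.hom.fst.left ≫ pt w = pt w' := by
  obtain ⟨f1, hf1⟩ : ∃ f1 : o₁ y w' ⟶ o₁ y w, f1 = h.hom.fst := ⟨_, rfl⟩
  obtain ⟨f2, hf2⟩ : ∃ f2 : o₂ y w' ⟶ o₂ y w, f2 = h.hom.snd := ⟨_, rfl⟩
  have hw : ym y f1 ≫ eHom y w = eHom y w' ≫ tvMap f2 := by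
    rw [hf1, hf2]
    exact h.hom.w
  have hbase : (ym y f1).base ≫ (eHom y w).base = (eHom y w').base ≫ f2.hom :=
    congrArg SpQuotObj.Hom.base hw
  obtain ⟨l1, hl1⟩ : ∃ l1 : w'.base ⟶ w.base, l1 = f1.left := ⟨_, rfl⟩
  obtain ⟨l2, hl2⟩ : ∃ l2 : w'.base ⟶ w.base, l2 = f2.hom := ⟨_, rfl⟩
  have e1 : (ym y f1).base ≫ (eHom y w).base = eqToHom (yo_base₁ y w') ≫ l1 := by
    rw [hl1]
    exact (congrArg (fun z => z ≫ (eHom y w).base) (ym_base y f1)).trans
      (eq_cancel (yo_base y (o₁ y w')) f1.left (yo_base y (o₁ y w)))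
  have e2 : (eHom y w').base ≫ f2.hom = eqToHom (yo_base₁ y w') ≫ l2 := by
    rw [hl2]
    rfl
  have h3 : eqToHom (yo_base₁ y w') ≫ l1 = eqToHom (yo_base₁ y w') ≫ l2 :=
    e1.symm.trans (hbase.trans e2)
  have hb' : l1 = l2 := (cancel_epi _).1 h3
  have hb : f1.left = f2.hom := by
    rw [← hl1, ← hl2]
    exact hb'
  have h1 : eHom y w' ≫ (tvMap f2 ≫ dHom y w) = eHom y w' ≫ dHom y w' := by
    rw [← Category.assoc, ← hw, Category.assoc, eHom_comp, eHom_comp]
    exact map_cHom y f1
  have h2 : tvMap f2 ≫ dHom y w = dHom y w' := (cancel_epi _).1 h1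
  have h3 : (G ◁ ovrMap f2) ≫ topOf (dHom y w) = topOf (dHom y w') :=
    congrArg SpQuotObj.Hom.top h2
  rw [dHom_top, dHom_top, ← MonoidalCategory.whiskerLeft_comp_assoc] at h3
  have h4 := congrArg (fun t => unitSec (G := G) (ovr (o₂ y w')) ≫ t) h3
  simp only [unitSec_act] at h4
  have h5 : (yon S).map f2.hom ≫ pt w = pt w' := congrArg (fun t => t.left) h4
  rw [← hf1, ← hf2]
  exact ⟨hb, by rw [hb]; exact h5⟩

instance : (M y).toFunctor.Full where
  map_surjective {w' w} h := by
    obtain ⟨hb, hsec⟩ := full_aux y h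
    refine ⟨homOfPt h.hom.fst.left hsec, ?_⟩
    apply ObjectProperty.hom_ext
    apply CategoricalPullback.hom_ext
    · exact Over.OverMorphism.ext rfl
    · exact Stk.EltObj.hom_ext hb

end Y

end TQR

end H10PT
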