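import Mathlib
import Groth.Prelude.Def_AlgSt6
import Groth.Agent.Lib.Helper10.TQR2

/-!
# Quotient stacks with sheaf torsors: `X ⟶ [X/G]` is representable by the torsors
-/

set_option autoImplicit false

universe u

open CategoryTheory CategoryTheory.Limits MonoidalCategory CartesianMonoidalCategory MonObj GrpObj
  AlgebraicGeometry Opposite

namespace H10PT

namespace TQR

open AlgSp AlgSt H10PT.TQ Groth.Agent.Lib.Helper10.Fib

variable {S : Scheme.{u}} {B : Sp S} {K : Precoverage Scheme.{u}} [K.HasIsos] {G : Over B}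
  [GrpObj G] {X : Over B} {aX : GAction G X} {U : Over S}
  (y : FibCat.overCat U ⥤ᵇ SpQuotSt K G aX)

section Ess

variable {y} {g : Over U} {b : (ofSp X.left).obj} (θh : yo y g ⟶ tv b) (θi : tv b ⟶ yo y g)
  (hθ1 : θh ≫ θi = 𝟙 _)

/-- The trivialisation of the torsor attached to an object of the fibre product. -/
noncomputable def essD : tv b ⟶ tors y := θi ≫ cHom y g

/-- Its base, with clean type. -/
noncomputable def essDb : b.base ⟶ (tors y).base := (essD θi).base

/-- The base of the isomorphism, with clean type. -/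
def essTb : (yo y g).base ⟶ b.base := θh.base

/-- The comparison of base schemes. -/
noncomputable def essβ : g.left ⟶ b.base := eqToHom (yo_base y g).symm ≫ essTb θh

/-- The point of the torsor attached to the trivialisation. -/
noncomputable def essPd : (yon S).obj b.base ⟶ (tors y).P.left := (ptOf (essD θi)).left

theorem essPd_π : essPd θi ≫ πc (tors y) = (yon S).map (essDb θi) :=
  congrArg (fun z => z.left) (ptOf_π (essD θi))

theorem essPd_φ : essPd θi ≫ (tors y).φ.left = secYon b :=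
  congrArg (fun z => z.left) (ptOf_φ (essD θi))

include hθ1 in
theorem essTb_Db :
    essTb θh ≫ essDb θi = eqToHom (yo_base y g) ≫ g.hom ≫ eqToHom (tors_base y).symm := by
  have h1 : θh.base ≫ θi.base = 𝟙 _ := congrArg SpQuotObj.Hom.base hθ1
  have h2 : essTb θh ≫ essDb θi = (θh.base ≫ θi.base) ≫ (cHom y g).base :=
    (Category.assoc _ _ _).symm
  rw [h2, h1, Category.id_comp, cHom_base]

/-- The point of the torsor attached to an object of the fibre product. -/
noncomputable def essS : (yon S).obj g.left ⟶ (tors y).P.left :=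
  (yon S).map (essβ θh) ≫ essPd θi

include hθ1 in
theorem essS_πU : essS θh θi ≫ πU y = (yon S).map g.hom := by
  have e : essβ θh ≫ essDb θi ≫ eqToHom (tors_base y) = g.hom := by
    unfold essβ
    rw [Category.assoc, ← Category.assoc (essTb θh), essTb_Db θh θi hθ1]
    simp
  unfold essS πU
  rw [Category.assoc, ← Category.assoc (essPd θi), essPd_π, ← (yon S).map_comp,
    ← (yon S).map_comp, e]

theorem essS_φ : (yon S).map (essβ θh) ≫ secYon b = essS θh θi ≫ (tors y).φ.left := by
  unfold essS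
  rw [Category.assoc, essPd_φ]

/-- The object of the category of the torsor attached to an object of the fibre product. -/
noncomputable abbrev essW : (ofSp (tors y).P.left).obj := mkPt (essS θh θi)

theorem pt_essW : pt (essW θh θi) = essS θh θi := pt_mkPt _

include hθ1 in
theorem g₁_essW : g₁ y (essW θh θi) = g.hom := by
  apply (yon S).map_injective
  rw [map_g₁, pt_essW, essS_πU θh θi hθ1]

theorem pt_o₂_essW : pt (o₂ y (essW θh θi)) = (yon S).map (essβ θh) ≫ pt b := by
  have h : pt (o₂ y (essW θh θi)) = pt (essW θh θi) ≫ (tors y).φ.left := secYon_o₂ y _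
  rw [h, pt_essW, ← essS_φ]

instance essβ_isIso [IsIso θh.base] : IsIso (essβ θh) := by
  haveI : IsIso (essTb θh) := inferInstanceAs (IsIso θh.base)
  unfold essβ
  infer_instance

include hθ1 in
/-- The isomorphism of first components. -/
noncomputable def essI₁ : o₁ y (essW θh θi) ≅ g :=
  Over.isoMk (Iso.refl _) (by
    show 𝟙 _ ≫ g.hom = g₁ y (essW θh θi)
    rw [g₁_essW θh θi hθ1, Category.id_comp])

theorem essI₁_left : (essI₁ θh θi hθ1).hom.left = 𝟙 g.left := rfl

omit θi hθ1 in
theorem essI₂_inv_aux [IsIso θh.base] :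
    (yon S).map (CategoryTheory.inv (essβ θh)) ≫ (yon S).map (essβ θh) ≫ pt b = pt b := by
  rw [← Category.assoc, ← (yon S).map_comp, IsIso.inv_hom_id, (yon S).map_id, Category.id_comp]

/-- The isomorphism of second components. -/
noncomputable def essI₂ [IsIso θh.base] : o₂ y (essW θh θi) ≅ b where
  hom := homOfPt (essβ θh) (pt_o₂_essW θh θi).symm
  inv := homOfPt (CategoryTheory.inv (essβ θh) : b.base ⟶ g.left)
    ((congrArg (fun z => (yon S).map (CategoryTheory.inv (essβ θh)) ≫ z)
      (pt_o₂_essW θh θi)).trans (essI₂_inv_aux θh))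
  hom_inv_id := Stk.EltObj.hom_ext (IsIso.hom_inv_id (essβ θh))
  inv_hom_id := Stk.EltObj.hom_ext (IsIso.inv_hom_id (essβ θh))

theorem essI₂_hom [IsIso θh.base] : (essI₂ θh θi).hom.hom = essβ θh := rfl

theorem ess_e2 [IsIso θh.base] :
    tvMap (essI₂ θh θi).hom ≫ essD θi = dHom y (essW θh θi) := by
  apply SpQuotObj.hom_ext
  · apply (yon S).map_injective
    show (yon S).map (essβ θh ≫ essDb θi) = (yon S).map (dBase y (essW θh θi))
    rw [(yon S).map_comp, map_dBase, pt_essW, ← essPd_π]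
    unfold essS
    exact (Category.assoc _ _ _).symm
  · show (G ◁ ovrMap (essI₂ θh θi).hom) ≫ topOf (essD θi) = topOf (dHom y (essW θh θi))
    rw [top_eq (essD θi), dHom_top, ← MonoidalCategory.whiskerLeft_comp_assoc]
    have e : ovrMap (essI₂ θh θi).hom ≫ ptOf (essD θi) = pO y (essW θh θi) := by
      apply Over.OverMorphism.ext
      show (yon S).map (essβ θh) ≫ essPd θi = pt (essW θh θi)
      rw [pt_essW]
      rfl
    rw [e]

include hθ1 in
theorem ess_hw [IsIso θh.base] :
    ym y (essI₁ θh θi hθ1).hom ≫ θh = eHom y (essW θh θi) ≫ tvMap (essI₂ θh θi).hom := by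
  apply hom_eq_of_comp_eq (essD θi)
  · have e1 : (ym y (essI₁ θh θi hθ1).hom ≫ θh) ≫ essD θi = cHom y (o₁ y (essW θh θi)) := by
      unfold essD
      rw [Category.assoc, ← Category.assoc θh, hθ1, Category.id_comp]
      exact map_cHom y (essI₁ θh θi hθ1).hom
    rw [Category.assoc (eHom y (essW θh θi)), ess_e2]
    exact e1.trans (eHom_comp y _).symm
  · show (ym y (essI₁ θh θi hθ1).hom).base ≫ essTb θh = (eHom y (essW θh θi)).base ≫ essβ θh
    rw [ym_base, eHom_base]
    unfold essβ
    show (eqToHom _ ≫ 𝟙 _ ≫ eqToHom _) ≫ essTb θh = eqToHom _ ≫ eqToHom _ ≫ essTb θh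
    simp

end Ess

theorem ess (z : (FibCat.fp y (spQuotMap K G aX)).obj) :
    ∃ (w : (ofSp (tors y).P.left).obj) (e : (M y).obj w ≅ z),
      (FibCat.fp y (spQuotMap K G aX)).p.IsHomLift
        (𝟙 ((FibCat.fp y (spQuotMap K G aX)).p.obj z)) e.hom := by
  obtain ⟨⟨g₀, b, θ⟩, hz⟩ := z
  obtain ⟨g, hg⟩ : ∃ g : Over U, g = g₀ := ⟨_, rfl⟩
  subst hg
  obtain ⟨θh, hθh⟩ : ∃ θh : yo y g ⟶ tv b, θh = θ.hom := ⟨_, rfl⟩
  obtain ⟨θi, hθi⟩ : ∃ θi : tv b ⟶ yo y g, θi = θ.inv := ⟨_, rfl⟩
  have hθ1 : θh ≫ θi = 𝟙 _ := by rw [hθh, hθi]; exact θ.hom_inv_id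
  haveI : IsIso θh.base := by
    rw [hθh]; exact inferInstanceAs (IsIso ((SpQuotSt K G aX).p.map θ.hom))
  have hw : y.map (essI₁ θh θi hθ1).hom ≫ θ.hom =
      eHom y (essW θh θi) ≫ (spQuotMap K G aX).map (essI₂ θh θi).hom := by
    rw [← hθh]
    exact ess_hw θh θi hθ1
  refine ⟨essW θh θi, (FibCat.fpProp _ _).isoMk (X := (M y).obj (essW θh θi))
    (CategoricalPullback.mkIso (essI₁ θh θi hθ1) (essI₂ θh θi) hw), ?_⟩
  refine IsHomLift.of_fac' _ _ _ rfl rfl ?_
  show 𝟙 g.left = eqToHom rfl ≫ 𝟙 g.left ≫ eqToHom rfl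
  simp

theorem isEquivOver_M : FibCat.IsEquivOver (M y) :=
  Groth.Agent.Lib.Helper10.Fib.isEquivOver_of_ff (M y) (ess y)

theorem secHom_M (w : (ofSp (tors y).P.left).obj) :
    AlgSt.secHom (F := (tors y).P.left)
      (BasedFunctor.comp (M y) (FibCat.fpFst y (spQuotMap K G aX))) w = g₁ y w := by
  unfold AlgSt.secHom
  show eqToHom _ ≫ g₁ y w = _
  simp

theorem spMapOfOver_M :
    AlgSt.spMapOfOver (F := (tors y).P.left)
      (BasedFunctor.comp (M y) (FibCat.fpFst y (spQuotMap K G aX))) = πU y := by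
  apply ObjectProperty.hom_ext
  ext T x
  induction T using Opposite.rec with | _ T => ?_
  have h := AlgSt.spMapOfOver_app (F := (tors y).P.left)
    (BasedFunctor.comp (M y) (FibCat.fpFst y (spQuotMap K G aX))) T x
  refine h.trans ?_
  rw [secHom_M]
  rfl

/-- `X ⟶ [X/G]` is representable by the total spaces of the torsors, with any property that the
structure maps of torsors have. -/
theorem repByAlgSpWith_spQuotMap (Q : MorphismProperty (AlgSp.Sp S))
    (hAS : ∀ A : SpQuotObj K G aX, IsAlgSpace A.P.left)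
    (hQ : ∀ (A : SpQuotObj K G aX) (U : Over S) (h : A.base = U),
      Q (πc A ≫ (yon S).map (eqToHom h))) :
    AlgSt.RepByAlgSpWith Q (spQuotMap K G aX) := by
  intro U y
  refine ⟨⟨(tors y).P.left, hAS _⟩, M y, isEquivOver_M y, ?_⟩
  rw [spMapOfOver_M]
  exact hQ _ _ _

end TQR

end H10PT
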