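import Mathlib
import Groth.Prelude.Def_AlgSt6
import Groth.Agent.Lib.Helper10.TQR3
import Groth.Agent.Lib.Helper10.FD2
import Groth.Agent.Lib.Helper15.EpiRefines
import Groth.Agent.Lib.Helper17.AlgSpEpi

/-!
# Quotient stacks with sheaf torsors: properties of the structure maps of fppf torsors
-/

set_option autoImplicit false

universe u

open CategoryTheory CategoryTheory.Limits MonoidalCategory CartesianMonoidalCategory MonObj GrpObj
  AlgebraicGeometry Opposite

namespace H10PT

namespace TQR

open AlgSp AlgSt Groth.Agent.Lib.Helper15 Groth.Agent.Lib.Helper16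

variable {S : Scheme.{u}} {B : Sp S} {G : Over B} [GrpObj G] {X : Over B} {aX : GAction G X}

theorem epi_πc (A : SpQuotObj Scheme.fppfPrecoverage G aX) : Epi (πc A) := by
  rw [epi_iff_locally_lift]
  intro T yT
  obtain ⟨f, hf⟩ := (yon S).map_surjective yT
  have hmem : TQ.secSieve A.π.left ∈ J S A.base := TQ.secSieve_mem A.loc
  refine ⟨(TQ.secSieve A.π.left).pullback f, (J S).pullback_stable f hmem, ?_⟩
  rintro T' g ⟨s, hs⟩
  refine ⟨s, ?_⟩
  rw [← hf, ← (yon S).map_comp]
  exact hs

theorem epi_πc_comp (A : SpQuotObj Scheme.fppfPrecoverage G aX) {U : Over S} (h : A.base = U) :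
    Epi (πc A ≫ (yon S).map (eqToHom h)) := by
  haveI := epi_πc A
  infer_instance

theorem cart_πc {K : Precoverage Scheme.{u}} (A : SpQuotObj K G aX) {U : Over S}
    (h : A.base = U) :
    IsPullback A.act.act.left (snd G A.P).left (πc A ≫ (yon S).map (eqToHom h))
      (πc A ≫ (yon S).map (eqToHom h)) := by
  have sq : IsPullback A.act.act.left (snd G A.P).left A.π.left A.π.left :=
    A.cart.map (Over.forget B)
  exact sq.of_iso (Iso.refl _) (Iso.refl _) (Iso.refl _) ((yon S).mapIso (eqToIso h))
    ((Category.comp_id _).trans (Category.id_comp _).symm)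
    ((Category.comp_id _).trans (Category.id_comp _).symm)
    (Category.id_comp _).symm (Category.id_comp _).symm

theorem isSurjectiveMor_πc (A : SpQuotObj Scheme.fppfPrecoverage G aX) (U : Over S)
    (h : A.base = U) : IsSurjectiveMor (πc A ≫ (yon S).map (eqToHom h)) := by
  haveI := epi_πc_comp A h
  exact Groth.Agent.Lib.Helper17.isSurjectiveMor_of_epi _

theorem locP_πc (P : MorphismProperty Scheme.{u}) (hP : EtLocalST P) [IsZariskiLocalAtTarget P]
    [P.DescendsAlong (@Surjective ⊓ @Flat ⊓ @QuasiCompact : MorphismProperty Scheme.{u})]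
    (hB : IsAlgSpace B) (hG : IsAlgSpace G.left) (hs : LocP P G.hom)
    (A : SpQuotObj Scheme.fppfPrecoverage G aX) (U : Over S) (h : A.base = U) :
    LocP P (πc A ≫ (yon S).map (eqToHom h)) := by
  haveI := epi_πc_comp A h
  have hAP : IsAlgSpace A.P.left := H10PT.FD.isAlgSpace_torsor hB G hG aX A
  have sqG : IsPullback (fst G A.P).left (snd G A.P).left G.hom A.P.hom :=
    IsPullback.of_hasPullback _ _
  have hGP : IsAlgSpace (G ⊗ A.P).left := isAlgSpace_of_isPullback hG hB.diag hAP sqG
  have hsnd : LocP P (snd G A.P).left := locP_of_isPullback hP hG hB sqG hs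
  exact locP_of_epi_of_isPullback hP _ _ hAP hGP (cart_πc A h) hsnd

end TQR

end H10PT
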