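import Mathlib
import Groth.Prelude.Def_AlgSt6
import Groth.Agent.Lib.Helper10.TQR4

/-!
# Classifying stacks with sheaf torsors: properties local on the base for the structure map of a torsor
-/

set_option autoImplicit false

universe u

open CategoryTheory CategoryTheory.Limits MonoidalCategory CartesianMonoidalCategory MonObj GrpObj
  AlgebraicGeometry Opposite

namespace H10PT

namespace BGP

open AlgSp AlgSt H10PT.TQR H10PT.FD Groth.Agent.Lib.Helper15 Groth.Agent.Lib.Helper16

variable {S : Scheme.{u}} {B : Sp S} {G : Over B} [GrpObj G] {X : Over B} {aX : GAction G X}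

/-- The structure map of an fppf torsor under `G` has every property that `G ⟶ B` has, provided the
property is stable under base change and fppf local on the base. -/
theorem P_πc (P : MorphismProperty (Sp S)) [P.IsStableUnderBaseChange]
    (hloc : IsLocalOnBase IsFppfCover P) (hB : IsAlgSpace B) (hG : IsAlgSpace G.left)
    (hP : P G.hom) (A : SpQuotObj Scheme.fppfPrecoverage G aX) (U : Over S) (h : A.base = U) :
    P (πc A ≫ (yon S).map (eqToHom h)) := by
  classical
  subst h
  have hid : πc A ≫ (yon S).map (eqToHom rfl) = A.π.left := by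
    rw [eqToHom_refl, (yon S).map_id]
    exact Category.comp_id _
  rw [hid]
  have hAP : IsAlgSpace A.P.left := isAlgSpace_torsor hB G hG aX A
  obtain ⟨R, hR, hsec⟩ := A.loc
  have hR' : R ∈ Scheme.precoverage (@Flat ⊓ @LocallyOfFinitePresentation) A.base.left := hR
  obtain ⟨h1, h2⟩ := hR'
  rw [Presieve.mem_comap_jointlySurjectivePrecoverage_iff] at h1
  choose V f hf v hv using h1
  choose s hs using fun x => hsec (f x) (hf x)
  have hfl : ∀ x, Flat (f x) := fun x => (h2 (hf x)).1
  have hfp : ∀ x, LocallyOfFinitePresentation (f x) := fun x => (h2 (hf x)).2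
  obtain ⟨k, hk⟩ : ∃ k : ∀ x, Over.mk (f x ≫ A.base.hom) ⟶ A.base, k = fun x => Over.homMk (f x) :=
    ⟨_, rfl⟩
  have hkl : ∀ x, (k x).left = f x := fun x => by rw [hk]; rfl
  have hcov : IsFppfCover (fun x => (yon S).obj (Over.mk (f x ≫ A.base.hom)))
      (fun x => (yon S).map (k x)) :=
    isFppfCover_yon _ k (fun x => by rw [hkl]; exact hfl x) (fun x => by rw [hkl]; exact hfp x)
      (fun x => ⟨x, v x, by rw [hkl]; exact hv x⟩)
  have cartL : IsPullback A.act.act.left (snd G A.P).left A.π.left A.π.left :=
    A.cart.map (Over.forget B)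
  have sqG : IsPullback (fst G A.P).left (snd G A.P).left G.hom A.P.hom :=
    IsPullback.of_hasPullback _ _
  have hsnd : P (snd G A.P).left := P.of_isPullback sqG hP
  have e : ∀ x, s x ≫ A.π.left = (yon S).map (k x) := fun x => by rw [hs x, hk]
  have sq2 : ∀ x, IsPullback (pullback.fst (snd G A.P).left (s x) ≫ A.act.act.left)
      (pullback.snd (snd G A.P).left (s x)) A.π.left ((yon S).map (k x)) := by
    intro x
    have := (IsPullback.of_hasPullback (snd G A.P).left (s x)).paste_horiz cartL
    rw [e] at this
    exact this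
  have hZ : ∀ x, IsAlgSpace (pullback (snd G A.P).left (s x)) := fun x =>
    isAlgSpace_of_isPullback hG hB.diag (IsAlgSpace.yon_obj _)
      ((IsPullback.of_hasPullback (snd G A.P).left (s x)).paste_horiz sqG)
  refine (hloc (fun x => (yon S).obj (Over.mk (f x ≫ A.base.hom))) (fun x => (yon S).map (k x))
    (IsAlgSpace.yon_obj _) (fun x => IsAlgSpace.yon_obj _) hcov A.π.left hAP
    (fun x => pullback (snd G A.P).left (s x)) (fun x => pullback.snd (snd G A.P).left (s x))
    (fun x => pullback.fst (snd G A.P).left (s x) ≫ A.act.act.left) hZ sq2).mpr ?_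
  intro x
  exact P.of_isPullback (IsPullback.of_hasPullback (snd G A.P).left (s x)) hsnd

end BGP

end H10PT
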