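import Mathlib
import Groth.Prelude.Def_AlgSpRep
import Groth.Agent.Lib.Helper10.SpBaseChange
import Groth.Agent.Lib.Helper16.RepSpace

/-!
# Fixed points of a group acting on a separated sheaf

Tools: a square of fppf sheaves is a pullback as soon as it has the unique lifting property
against representable sheaves; the locus where two sections of a separated sheaf agree is a closed
subscheme; arbitrary intersections of closed subschemes; the sub-sheaf of fixed points of a group
acting on a separated sheaf is representable by closed immersions.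
-/

set_option autoImplicit false
universe u
open CategoryTheory CategoryTheory.Limits AlgebraicGeometry Opposite

namespace H10PT.FixedPts

open AlgSp

variable {S : Scheme.{u}}

/-- A commutative square of fppf sheaves is a pullback if it has the unique lifting property
against representable sheaves. -/
theorem isPullback_of_yon_lift {F' F G H : Sp S} {fst : F' ⟶ F} {snd : F' ⟶ H} {a : F ⟶ G}
    {ξ : H ⟶ G} (w : fst ≫ a = snd ≫ ξ)
    (hex : ∀ (W : Over S) (α : (yon S).obj W ⟶ F) (β : (yon S).obj W ⟶ H),
      α ≫ a = β ≫ ξ → ∃ l : (yon S).obj W ⟶ F', l ≫ fst = α ∧ l ≫ snd = β)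
    (huniq : ∀ (W : Over S) (l l' : (yon S).obj W ⟶ F'), l ≫ fst = l' ≫ fst →
      l ≫ snd = l' ≫ snd → l = l') :
    IsPullback fst snd a ξ := by
  refine H10PT.SpBC.isPullback_of_pointwise w ?_ ?_
  · intro T x y hxy
    obtain ⟨l, h1, h2⟩ := hex T.unop ((J S).uliftYonedaEquiv.symm x)
      ((J S).uliftYonedaEquiv.symm y) (by
        rw [GrothendieckTopology.uliftYonedaEquiv_symm_naturality_right,
          GrothendieckTopology.uliftYonedaEquiv_symm_naturality_right]
        exact congrArg _ hxy)
    refine ⟨(J S).uliftYonedaEquiv l, ?_, ?_⟩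
    · rw [← GrothendieckTopology.uliftYonedaEquiv_comp, h1, Equiv.apply_symm_apply]
    · rw [← GrothendieckTopology.uliftYonedaEquiv_comp, h2, Equiv.apply_symm_apply]
  · intro T z z' h1 h2
    have := huniq T.unop ((J S).uliftYonedaEquiv.symm z) ((J S).uliftYonedaEquiv.symm z')
      (by
        rw [GrothendieckTopology.uliftYonedaEquiv_symm_naturality_right,
          GrothendieckTopology.uliftYonedaEquiv_symm_naturality_right]
        exact congrArg _ h1)
      (by
        rw [GrothendieckTopology.uliftYonedaEquiv_symm_naturality_right,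
          GrothendieckTopology.uliftYonedaEquiv_symm_naturality_right]
        exact congrArg _ h2)
    exact (J S).uliftYonedaEquiv.symm.injective this

/-- The locus where two `T`-points of a separated sheaf agree is a closed subscheme of `T`. -/
theorem exists_equalizing_closed {F : Sp S} (hsep : IsSeparatedSp F) {T : Over S}
    (a b : (yon S).obj T ⟶ F) :
    ∃ (V : Over S) (e : V ⟶ T), IsClosedImmersion e.left ∧
      (yon S).map e ≫ a = (yon S).map e ≫ b ∧
      ∀ (W : Over S) (w : W ⟶ T), (yon S).map w ≫ a = (yon S).map w ≫ b →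
        ∃ w' : W ⟶ V, w' ≫ e = w := by
  obtain ⟨V, e, fst, sq⟩ := hsep.rep (prod.lift a b)
  have h1 : fst = (yon S).map e ≫ a := by
    have h0 : fst = (fst ≫ Limits.diag F) ≫ prod.fst := by
      rw [Category.assoc, prod.lift_fst, Category.comp_id]
    rw [h0, sq.w, Category.assoc, prod.lift_fst]
  have h2 : fst = (yon S).map e ≫ b := by
    have h0 : fst = (fst ≫ Limits.diag F) ≫ prod.snd := by
      rw [Category.assoc, prod.lift_snd, Category.comp_id]
    rw [h0, sq.w, Category.assoc, prod.lift_snd]
  refine ⟨V, e, hsep.property _ _ _ sq, h1.symm.trans h2, ?_⟩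
  intro W w hw
  obtain ⟨w', hw'⟩ := (yon S).map_surjective
    (sq.lift ((yon S).map w ≫ a) ((yon S).map w) (by
      apply Limits.prod.hom_ext
      · rw [Category.assoc, Category.assoc, Category.assoc, prod.lift_fst, prod.lift_fst,
          Category.comp_id]
      · rw [Category.assoc, Category.assoc, Category.assoc, prod.lift_snd, prod.lift_snd,
          Category.comp_id, hw]))
  refine ⟨w', (yon S).map_injective ?_⟩
  rw [Functor.map_comp, hw', sq.lift_snd]

/-- The intersection of a family of closed subschemes of `T` (over `S`). -/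
theorem exists_inter_closed {ι : Type*} {T : Over S} (V : ι → Over S) (e : ∀ g, V g ⟶ T)
    [∀ g, IsClosedImmersion (e g).left] :
    ∃ (V' : Over S) (e' : V' ⟶ T), IsClosedImmersion e'.left ∧
      (∀ g, ∃ l : V' ⟶ V g, l ≫ e g = e') ∧
      ∀ (W : Over S) (w : W ⟶ T), (∀ g, ∃ w' : W ⟶ V g, w' ≫ e g = w) →
        ∃ w' : W ⟶ V', w' ≫ e' = w := by
  let I : T.left.IdealSheafData := ⨆ g, (e g).left.ker
  refine ⟨Over.mk (I.subschemeι ≫ T.hom), Over.homMk I.subschemeι rfl, ?_, ?_, ?_⟩
  · show IsClosedImmersion I.subschemeι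
    infer_instance
  · intro g
    have H : (e g).left.ker ≤ I.subschemeι.ker := by
      rw [I.ker_subschemeι]
      exact le_iSup (fun g => (e g).left.ker) g
    refine ⟨Over.homMk (IsClosedImmersion.lift (e g).left I.subschemeι H) ?_, ?_⟩
    · show _ ≫ (V g).hom = I.subschemeι ≫ T.hom
      rw [← Over.w (e g), IsClosedImmersion.lift_fac_assoc]
    · apply Over.OverMorphism.ext
      exact IsClosedImmersion.lift_fac _ _ _
  · intro W w hw
    have H : I.subschemeι.ker ≤ w.left.ker := by
      rw [I.ker_subschemeι]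
      refine iSup_le fun g => ?_
      obtain ⟨w', hw'⟩ := hw g
      rw [← hw', Over.comp_left]
      exact Scheme.Hom.le_ker_comp _ _
    refine ⟨Over.homMk (IsClosedImmersion.lift I.subschemeι w.left H) ?_, ?_⟩
    · show _ ≫ I.subschemeι ≫ T.hom = W.hom
      rw [IsClosedImmersion.lift_fac_assoc, Over.w]
    · apply Over.OverMorphism.ext
      exact IsClosedImmersion.lift_fac _ _ _

/-- The sub-sheaf of fixed points of a group acting on a separated sheaf is representable by closed
immersions. -/
theorem repWith_isClosedImmersion_fixedPoints {F : Sp S} (hsep : IsSeparatedSp F)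
    {G : Type*} [Group G] (ρ : G →* Aut F)
    (Z : Sp S) (i : Z ⟶ F) (hi : ∀ g : G, i ≫ (ρ g).hom = i)
    (huniv : ∀ (W : Sp S) (x : W ⟶ F), (∀ g : G, x ≫ (ρ g).hom = x) →
      ∃! z : W ⟶ Z, z ≫ i = x) :
    RepWith @IsClosedImmersion i := by
  apply MorphismProperty.relative.of_exists
  intro T t
  choose V e he heq huni using fun g : G => exists_equalizing_closed hsep t (t ≫ (ρ g).hom)
  have : ∀ g, IsClosedImmersion (e g).left := he
  obtain ⟨V', e', he', hfac, huni'⟩ := exists_inter_closed V e
  have hinv : ∀ g : G, ((yon S).map e' ≫ t) ≫ (ρ g).hom = (yon S).map e' ≫ t := by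
    intro g
    obtain ⟨l, hl⟩ := hfac g
    calc ((yon S).map e' ≫ t) ≫ (ρ g).hom
        = (yon S).map l ≫ ((yon S).map (e g) ≫ t ≫ (ρ g).hom) := by
          rw [← hl, Functor.map_comp, Category.assoc, Category.assoc]
      _ = (yon S).map l ≫ ((yon S).map (e g) ≫ t) := by rw [← heq g]
      _ = (yon S).map e' ≫ t := by rw [← hl, Functor.map_comp, Category.assoc]
  obtain ⟨z, hz, -⟩ := huniv _ _ hinv
  refine ⟨V', z, e', ?_, he'⟩
  refine isPullback_of_yon_lift hz ?_ ?_
  · intro W α β hαβ
    obtain ⟨w, rfl⟩ := (yon S).map_surjective β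
    have hwinv : ∀ g, (yon S).map w ≫ t = (yon S).map w ≫ t ≫ (ρ g).hom := by
      intro g
      calc (yon S).map w ≫ t = α ≫ i := hαβ.symm
        _ = α ≫ i ≫ (ρ g).hom := by rw [hi g]
        _ = (α ≫ i) ≫ (ρ g).hom := (Category.assoc _ _ _).symm
        _ = ((yon S).map w ≫ t) ≫ (ρ g).hom := by rw [hαβ]
        _ = _ := Category.assoc _ _ _
    obtain ⟨w', hw'⟩ := huni' W w (fun g => huni g W w (hwinv g))
    refine ⟨(yon S).map w', ?_, ?_⟩
    · obtain ⟨z₀, -, hz₀⟩ := huniv _ (α ≫ i) (fun g => by rw [Category.assoc, hi g])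
      have e1 : (yon S).map w' ≫ z = z₀ := hz₀ _ (by
        show ((yon S).map w' ≫ z) ≫ i = α ≫ i
        rw [Category.assoc, hz, ← Category.assoc, ← Functor.map_comp, hw', hαβ])
      have e2 : α = z₀ := hz₀ _ rfl
      rw [e1, e2]
    · rw [← Functor.map_comp, hw']
  · intro W l l' _ h2
    obtain ⟨w, rfl⟩ := (yon S).map_surjective l
    obtain ⟨w', rfl⟩ := (yon S).map_surjective l'
    rw [← Functor.map_comp, ← Functor.map_comp] at h2
    have h3 := (yon S).map_injective h2
    haveI : IsClosedImmersion e'.left := he'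
    haveI : Mono e'.left := inferInstance
    haveI : Mono e' := (Over.forget S).mono_of_mono_map ‹Mono e'.left›
    rw [(cancel_mono e').1 h3]

end H10PT.FixedPts
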