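import Mathlib
import Groth.Prelude.Def_AlgSp
import Groth.Agent.Lib.Helper10.ShGlueD
import Groth.Agent.Lib.Helper10.FixedPts

/-!
# Pullback squares of sheaves over a representable can be tested on a covering sieve
-/

set_option autoImplicit false

universe u

open CategoryTheory CategoryTheory.Limits AlgebraicGeometry Opposite

namespace H10PT

namespace ShGlue

open AlgSp

variable {S : Scheme.{u}} {U : Over S}

/-- The trivial cartesian cocone of a representable sheaf over a sieve. -/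
def trivCC (R : Sieve U) : CartCocone R (𝟙 ((yon S).obj U)) :=
  ⟨fun a => (yon S).obj a.obj.left, fun a => (yon S).map a.obj.hom, fun a => 𝟙 _,
    fun a => IsPullback.of_vert_isIso ⟨by simp⟩⟩

/-- Maps out of a representable are determined on a covering sieve. -/
theorem yon_hom_ext' {R : Sieve U} (hR : R ∈ J S U) {F : Sp S} (β₁ β₂ : (yon S).obj U ⟶ F)
    (h : ∀ a : Idx R, (yon S).map a.obj.hom ≫ β₁ = (yon S).map a.obj.hom ≫ β₂) : β₁ = β₂ :=
  (trivCC R).hom_ext hR β₁ β₂ h

section Local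

variable {R : Sieve U} (hR : R ∈ J S U) {Q A A' : Sp S} {fst : Q ⟶ A} {snd : Q ⟶ A'}
  {pA : A ⟶ (yon S).obj U} {pA' : A' ⟶ (yon S).obj U} {pQ : Q ⟶ (yon S).obj U}
  (hpQ1 : fst ≫ pA = pQ) (hpQ2 : snd ≫ pA' = pQ)
  (CQ : CartCocone R pQ) (CA : CartCocone R pA) (CA' : CartCocone R pA')
  (fa : ∀ a, CQ.Ea a ⟶ CA.Ea a) (sa : ∀ a, CQ.Ea a ⟶ CA'.Ea a)
  (hfa : ∀ a, fa a ≫ CA.c a = CQ.c a ≫ fst) (hsa : ∀ a, sa a ≫ CA'.c a = CQ.c a ≫ snd)
  (hfq : ∀ a, fa a ≫ CA.q a = CQ.q a) (hsq : ∀ a, sa a ≫ CA'.q a = CQ.q a)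
  (hloc : ∀ a, IsPullback (fa a) (sa a) (CA.q a) (CA'.q a))

include hR hpQ1 hfa hsa hfq hsq hloc in
theorem local_uniq {W : Over S} (l l' : (yon S).obj W ⟶ Q) (h1 : l ≫ fst = l' ≫ fst)
    (h2 : l ≫ snd = l' ≫ snd) : l = l' := by
  obtain ⟨f, hf⟩ := (yon S).map_surjective (l ≫ pQ)
  have hf' : l' ≫ pQ = (yon S).map f := by
    rw [hf, ← hpQ1, ← Category.assoc, ← h1, Category.assoc]
  have hT : R.pullback f ∈ J S W := (J S).pullback_stable f hR
  refine yon_hom_ext' hT l l' (fun g => ?_)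
  have hg : R (g.obj.hom ≫ f) := g.property
  let a : Idx R := imk (g.obj.hom ≫ f) hg
  have w₁ : ((yon S).map g.obj.hom ≫ l) ≫ pQ = 𝟙 _ ≫ (yon S).map a.obj.hom := by
    rw [Category.assoc, ← hf, Category.id_comp, ← Functor.map_comp]
    rfl
  have w₂ : ((yon S).map g.obj.hom ≫ l') ≫ pQ = 𝟙 _ ≫ (yon S).map a.obj.hom := by
    rw [Category.assoc, hf', Category.id_comp, ← Functor.map_comp]
    rfl
  have key : (CQ.cart a).lift _ _ w₁ = (CQ.cart a).lift _ _ w₂ := by
    apply (hloc a).hom_ext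
    · apply (CA.cart a).hom_ext
      · rw [Category.assoc, Category.assoc, hfa a, (CQ.cart a).lift_fst_assoc,
          (CQ.cart a).lift_fst_assoc, Category.assoc, Category.assoc, h1]
      · rw [Category.assoc, Category.assoc, hfq a, (CQ.cart a).lift_snd, (CQ.cart a).lift_snd]
    · apply (CA'.cart a).hom_ext
      · rw [Category.assoc, Category.assoc, hsa a, (CQ.cart a).lift_fst_assoc,
          (CQ.cart a).lift_fst_assoc, Category.assoc, Category.assoc, h2]
      · rw [Category.assoc, Category.assoc, hsq a, (CQ.cart a).lift_snd, (CQ.cart a).lift_snd]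
  have e1 := (CQ.cart a).lift_fst _ _ w₁
  have e2 := (CQ.cart a).lift_fst _ _ w₂
  exact e1.symm.trans ((congrArg (fun z => z ≫ CQ.c a) key).trans e2)

include hR hpQ1 hpQ2 hfa hsa hfq hsq hloc in
/-- A commutative square of sheaves over a representable which is cartesian over the arrows of a
covering sieve is cartesian. -/
theorem isPullback_of_locally : IsPullback fst snd pA pA' := by
  refine H10PT.FixedPts.isPullback_of_yon_lift (hpQ1.trans hpQ2.symm) ?_ ?_
  · intro W α β hαβ
    obtain ⟨f, hf⟩ := (yon S).map_surjective (α ≫ pA)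
    have hf' : β ≫ pA' = (yon S).map f := by rw [hf, hαβ]
    have hT : R.pullback f ∈ J S W := (J S).pullback_stable f hR
    -- the local lifts
    have hloc' : ∀ g : Idx (R.pullback f), ∃ l : (yon S).obj g.obj.left ⟶ Q,
        l ≫ fst = (yon S).map g.obj.hom ≫ α ∧ l ≫ snd = (yon S).map g.obj.hom ≫ β := by
      intro g
      have hg : R (g.obj.hom ≫ f) := g.property
      let a : Idx R := imk (g.obj.hom ≫ f) hg
      have w₁ : ((yon S).map g.obj.hom ≫ α) ≫ pA = 𝟙 _ ≫ (yon S).map a.obj.hom := by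
        rw [Category.assoc, ← hf, Category.id_comp, ← Functor.map_comp]
        rfl
      have w₂ : ((yon S).map g.obj.hom ≫ β) ≫ pA' = 𝟙 _ ≫ (yon S).map a.obj.hom := by
        rw [Category.assoc, hf', Category.id_comp, ← Functor.map_comp]
        rfl
      have w₃ : (CA.cart a).lift _ _ w₁ ≫ CA.q a = (CA'.cart a).lift _ _ w₂ ≫ CA'.q a := by
        rw [(CA.cart a).lift_snd, (CA'.cart a).lift_snd]
      refine ⟨(hloc a).lift _ _ w₃ ≫ CQ.c a, ?_, ?_⟩
      · rw [Category.assoc, ← hfa a, (hloc a).lift_fst_assoc, (CA.cart a).lift_fst]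
      · rw [Category.assoc, ← hsa a, (hloc a).lift_snd_assoc, (CA'.cart a).lift_fst]
    choose lg hlg1 hlg2 using hloc'
    obtain ⟨l, hl⟩ := (trivCC (R.pullback f)).exists_desc lg (by
      intro g' g k t ht1 ht2
      have ht1' : t ≫ (yon S).map g.obj.hom = (yon S).map g'.obj.hom := ht1
      refine local_uniq hR hpQ1 CQ CA CA' fa sa hfa hsa hfq hsq hloc _ _ ?_ ?_
      · exact (Category.assoc _ _ _).trans ((congrArg (fun z => t ≫ z) (hlg1 g)).trans
          ((Category.assoc _ _ _).symm.trans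
            ((congrArg (fun z => z ≫ α) ht1').trans (hlg1 g').symm)))
      · exact (Category.assoc _ _ _).trans ((congrArg (fun z => t ≫ z) (hlg2 g)).trans
          ((Category.assoc _ _ _).symm.trans
            ((congrArg (fun z => z ≫ β) ht1').trans (hlg2 g').symm)))) hT
    refine ⟨l, ?_, ?_⟩
    · refine yon_hom_ext' hT _ _ (fun g => ?_)
      rw [← Category.assoc]
      have := hl g
      show ((trivCC (R.pullback f)).c g ≫ l) ≫ fst = _
      rw [this]
      exact hlg1 g
    · refine yon_hom_ext' hT _ _ (fun g => ?_)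
      rw [← Category.assoc]
      have := hl g
      show ((trivCC (R.pullback f)).c g ≫ l) ≫ snd = _
      rw [this]
      exact hlg2 g
  · intro W l l' h1 h2
    exact local_uniq hR hpQ1 CQ CA CA' fa sa hfa hsa hfq hsq hloc l l' h1 h2

end Local

end ShGlue

end H10PT
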