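import Mathlib
import Groth.Prelude.Def_AlgSt6
import Groth.Agent.Lib.Helper10.TQ2

/-!
# Quotient stacks with sheaf torsors: restriction to a covering sieve is fully faithful
-/

set_option autoImplicit false

universe u

open CategoryTheory CategoryTheory.Limits MonoidalCategory CartesianMonoidalCategory MonObj GrpObj
  AlgebraicGeometry Opposite

namespace H10PT

namespace TQ

open AlgSp AlgSt ShGlue Groth.Agent.Lib.Helper10.Fib Groth.Agent.Lib.Helper10.StkElem

variable {S : Scheme.{u}} {B : Sp S} {U : Over S} {K : Precoverage Scheme.{u}} {G : Over B}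
  [GrpObj G] {X : Over B} {aX : GAction G X}

theorem inv_nat {C : Type*} [Category C] {a a' b b' : C} (f : a ⟶ b) (f' : a' ⟶ b') (s : a ⟶ a')
    (t : b ⟶ b') [IsIso s] [IsIso t] (h : f ≫ t = s ≫ f') : f' ≫ inv t = inv s ≫ f := by
  rw [IsIso.comp_inv_eq, Category.assoc, h, IsIso.inv_hom_id_assoc]

theorem faithful (hfib : FibCat.IsFibGrpd (SpQuotSt K G aX).p) {R : Sieve U} (hR : R ∈ J S U) :
    (Stk.resSieve R (SpQuotSt K G aX)).Faithful := by
  refine faithful_of R hfib ?_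
  intro G₁ G₂ n₁ n₂ h1 h2 h
  apply SpQuotObj.hom_ext
  · have e1 := IsHomLift.fac' (SpQuotSt K G aX).p (𝟙 U) n₁
    have e2 := IsHomLift.fac' (SpQuotSt K G aX).p (𝟙 U) n₂
    exact e1.trans e2.symm
  · exact (occ G₁ R).hom_ext hR _ _ (fun a => congrArg SpQuotObj.Hom.top (h a))

section GlueTop

variable (G₁ G₂ : FibCat.overCat U ⥤ᵇ SpQuotSt K G aX) {R : Sieve U} (hR : R ∈ J S U)
  (θ : ∀ a : Idx R, G₁.obj a.obj ⟶ G₂.obj a.obj)
  (hθn : ∀ ⦃a b : Idx R⦄ (k : a ⟶ b), G₁.map k.hom ≫ θ b = θ a ≫ G₂.map k.hom)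

include hR hθn in
theorem exists_glue_top : ∃ n : (G₁.obj (Over.mk (𝟙 U))).P ⟶ (G₂.obj (Over.mk (𝟙 U))).P,
    ∀ a : Idx R, (G₁.map (toTerminal U a.obj)).top ≫ n =
      (θ a).top ≫ (G₂.map (toTerminal U a.obj)).top := by
  refine (occ G₁ R).exists_desc hR
    (fun a => (θ a).top ≫ (G₂.map (toTerminal U a.obj)).top) ?_
  intro a b k t ht1 ht2
  have et : t = (G₁.map k.hom).top.left := by
    apply ((occ G₁ R).cart b).hom_ext
    · refine ht1.trans ?_
      exact (congrArg (fun z => z.top.left) (map_toTerminal_comp U G₁ k.hom)).symm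
    · exact ht2.trans (cart_map G₁ k.hom).w.symm
  subst et
  have e1 : (G₁.map k.hom).top ≫ (θ b).top = (θ a).top ≫ (G₂.map k.hom).top :=
    congrArg (fun z => z.top) (hθn k)
  have e2 : (G₂.map k.hom).top ≫ (G₂.map (toTerminal U b.obj)).top =
      (G₂.map (toTerminal U a.obj)).top :=
    congrArg (fun z => z.top) (map_toTerminal_comp U G₂ k.hom)
  have e3 : (G₁.map k.hom).top ≫ (θ b).top ≫ (G₂.map (toTerminal U b.obj)).top =
      (θ a).top ≫ (G₂.map (toTerminal U a.obj)).top := by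
    rw [← Category.assoc, e1, Category.assoc, e2]
  exact congrArg (fun z => z.left) e3

end GlueTop

theorem full (hfib : FibCat.IsFibGrpd (SpQuotSt K G aX).p) {R : Sieve U} (hR : R ∈ J S U) :
    (Stk.resSieve R (SpQuotSt K G aX)).Full := by
  refine full_of R hfib ?_
  intro G₁ G₂ δ
  have hθb : ∀ a : Idx R, (rApp δ a).base =
      eqToHom (bEq G₁ a.obj) ≫ eqToHom (bEq G₂ a.obj).symm := fun a => by
    haveI := rApp_lift δ a
    have h := IsHomLift.fac' (SpQuotSt K G aX).p (𝟙 a.obj.left) (rApp δ a)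
    rw [Category.id_comp] at h
    exact h
  have hθn : ∀ ⦃a b : Idx R⦄ (k : a ⟶ b),
      G₁.map k.hom ≫ rApp δ b = rApp δ a ≫ G₂.map k.hom := fun a b k => rApp_nat δ k
  haveI hiso : ∀ a : Idx R, IsIso (rApp δ a) := fun a => by
    haveI : IsIso (rApp δ a).base := by rw [hθb a]; infer_instance
    exact isIso_of_isIso_base _
  have hθn' : ∀ ⦃a b : Idx R⦄ (k : a ⟶ b),
      G₂.map k.hom ≫ inv (rApp δ b) = inv (rApp δ a) ≫ G₁.map k.hom := fun a b k => by
    exact inv_nat _ _ _ _ (hθn k)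
  obtain ⟨n, hn⟩ := exists_glue_top G₁ G₂ hR (fun a => rApp δ a) hθn
  obtain ⟨n', hn'⟩ := exists_glue_top G₂ G₁ hR (fun a => inv (rApp δ a)) hθn'
  have htop : ∀ a : Idx R, (rApp δ a).top ≫ (inv (rApp δ a)).top = 𝟙 _ := fun a =>
    congrArg SpQuotObj.Hom.top (IsIso.hom_inv_id (rApp δ a))
  have htop' : ∀ a : Idx R, (inv (rApp δ a)).top ≫ (rApp δ a).top = 𝟙 _ := fun a =>
    congrArg SpQuotObj.Hom.top (IsIso.inv_hom_id (rApp δ a))
  have hnn' : n ≫ n' = 𝟙 _ := by
    refine (occ G₁ R).hom_ext hR _ _ (fun a => ?_)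
    show (G₁.map (toTerminal U a.obj)).top ≫ n ≫ n' = (G₁.map (toTerminal U a.obj)).top ≫ 𝟙 _
    rw [← Category.assoc, hn a, Category.assoc, hn' a, ← Category.assoc, htop a,
      Category.id_comp, Category.comp_id]
  have hn'n : n' ≫ n = 𝟙 _ := by
    refine (occ G₂ R).hom_ext hR _ _ (fun a => ?_)
    show (G₂.map (toTerminal U a.obj)).top ≫ n' ≫ n = (G₂.map (toTerminal U a.obj)).top ≫ 𝟙 _
    rw [← Category.assoc, hn' a, Category.assoc, hn a, ← Category.assoc, htop' a,
      Category.id_comp, Category.comp_id]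
  haveI : IsIso n := ⟨n', hnn', hn'n⟩
  -- the base and the sections of `B`
  have hx : (G₁.obj (Over.mk (𝟙 U))).base = U := bEq G₁ (Over.mk (𝟙 U))
  have hy : (G₂.obj (Over.mk (𝟙 U))).base = U := bEq G₂ (Over.mk (𝟙 U))
  have hbA : ∀ a : Idx R, bA G₁ a.obj = bA G₂ a.obj := fun a => by
    have h := (rApp δ a).wb
    rw [hθb a] at h
    unfold bA
    rw [← h]
    simp only [Functor.map_comp, Category.assoc, eqToHom_map, eqToHom_trans_assoc, eqToHom_refl,
      Category.id_comp]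
  have hbU : bA G₁ (Over.mk (𝟙 U)) = bA G₂ (Over.mk (𝟙 U)) := by
    refine yon_hom_ext hR _ _ (fun a => ?_)
    have e1 := bA_map G₁ (toTerminal U a.obj)
    have e2 := bA_map G₂ (toTerminal U a.obj)
    exact e1.trans ((hbA a).trans e2.symm)
  have wb : (yon S).map (eqToHom (hx.trans hy.symm)) ≫ (G₂.obj (Over.mk (𝟙 U))).b =
      (G₁.obj (Over.mk (𝟙 U))).b := by
    have h := congrArg (fun z => (yon S).map (eqToHom hx) ≫ z) hbU
    simp only [bA, eqToHom_map, eqToHom_trans_assoc, eqToHom_refl, Category.id_comp] at h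
    rw [h]
    simp only [eqToHom_map, eqToHom_trans_assoc]
  -- base compatibility
  have hbase : ∀ a : Idx R, (rApp δ a).base ≫ (G₂.map (toTerminal U a.obj)).base =
      (G₁.map (toTerminal U a.obj)).base ≫ eqToHom (hx.trans hy.symm) := fun a => by
    rw [hθb a, map_base, map_base]
    simp
  -- the commutative square
  have comm : n ≫ (G₂.obj (Over.mk (𝟙 U))).π =
      (G₁.obj (Over.mk (𝟙 U))).π ≫ bHom (eqToHom (hx.trans hy.symm)) wb := by
    refine (occ G₁ R).hom_ext hR _ _ (fun a => ?_)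
    show (G₁.map (toTerminal U a.obj)).top ≫ n ≫ _ = (G₁.map (toTerminal U a.obj)).top ≫ _ ≫ _
    rw [← Category.assoc, hn a, Category.assoc, (G₂.map (toTerminal U a.obj)).cart.w,
      reassoc_of% (rApp δ a).cart.w, reassoc_of% (G₁.map (toTerminal U a.obj)).cart.w]
    congr 1
    rw [bHom_comp_eq _ _ _ (hbase a) _ _
      (by rw [← (G₁.map (toTerminal U a.obj)).wb, ← wb, ← Category.assoc, ← Functor.map_comp])]
    exact (bHom_comp_eq _ _ _ rfl _ _ _).symm
  haveI : IsIso (bHom (eqToHom (hx.trans hy.symm)) wb) := isIso_bHom _ _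
  let nh : G₁.obj (Over.mk (𝟙 U)) ⟶ G₂.obj (Over.mk (𝟙 U)) :=
    { base := eqToHom (hx.trans hy.symm)
      wb := wb
      top := n
      eqv := by
        refine ((occ G₁ R).whisker G).hom_ext hR _ _ (fun a => ?_)
        show (G ◁ (G₁.map (toTerminal U a.obj)).top) ≫ _ ≫ n =
          (G ◁ (G₁.map (toTerminal U a.obj)).top) ≫ (G ◁ n) ≫ _
        rw [← reassoc_of% (G₁.map (toTerminal U a.obj)).eqv, hn a,
          ← MonoidalCategory.whiskerLeft_comp_assoc, hn a, MonoidalCategory.whiskerLeft_comp,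
          Category.assoc, ← (G₂.map (toTerminal U a.obj)).eqv, reassoc_of% (rApp δ a).eqv]
      cart := IsPullback.of_horiz_isIso ⟨comm⟩
      wφ := by
        refine (occ G₁ R).hom_ext hR _ _ (fun a => ?_)
        show (G₁.map (toTerminal U a.obj)).top ≫ n ≫ _ = (G₁.map (toTerminal U a.obj)).top ≫ _
        rw [← Category.assoc, hn a, Category.assoc, (G₂.map (toTerminal U a.obj)).wφ,
          (rApp δ a).wφ, (G₁.map (toTerminal U a.obj)).wφ] }
  refine ⟨nh, ?_, fun a => ?_⟩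
  · refine IsHomLift.of_fac' _ _ _ hx hy ?_
    show eqToHom (hx.trans hy.symm) = eqToHom hx ≫ 𝟙 U ≫ eqToHom hy.symm
    simp
  · apply SpQuotObj.hom_ext
    · exact (hbase a).symm
    · exact hn a

end TQ

end H10PT
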