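import Mathlib
import Groth.Prelude.Def_AlgSt6
import Groth.Agent.Lib.Helper10.TQ3
import Groth.Agent.Lib.Helper10.ShGlueE

/-!
# Quotient stacks with sheaf torsors: descent data are effective (construction of the torsor)
-/

set_option autoImplicit false

universe u

open CategoryTheory CategoryTheory.Limits MonoidalCategory CartesianMonoidalCategory MonObj GrpObj
  AlgebraicGeometry Opposite

namespace H10PT

namespace TQ

open AlgSp AlgSt ShGlue Groth.Agent.Lib.Helper10.Fib Groth.Agent.Lib.Helper10.StkElem
  Groth.Agent.Lib.Helper10.StkRefine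

variable {S : Scheme.{u}} {B : Sp S} {U : Over S} {K : Precoverage Scheme.{u}} {G : Over B}
  [GrpObj G] {X : Over B} {aX : GAction G X} {R : Sieve U}

section Datum

variable (D : Stk.sieveCat R ⥤ᵇ SpQuotSt K G aX)

/-- A member of the datum. -/
def dObj (a : Idx R) : SpQuotObj K G aX := D.obj a

/-- A transition of the datum. -/
def dMap {a b : Idx R} (k : a ⟶ b) : dObj D a ⟶ dObj D b := D.map k

theorem dMap_id (a : Idx R) : dMap D (𝟙 a) = 𝟙 (dObj D a) := D.toFunctor.map_id a

theorem dMap_comp {a b c : Idx R} (k : a ⟶ b) (l : b ⟶ c) :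
    dMap D (k ≫ l) = dMap D k ≫ dMap D l := D.toFunctor.map_comp k l

theorem dEq (a : Idx R) : (dObj D a).base = a.obj.left := D.w_obj a

theorem dmap_base {a b : Idx R} (k : a ⟶ b) :
    (dMap D k).base = eqToHom (dEq D a) ≫ k.hom.left ≫ eqToHom (dEq D b).symm := by
  haveI : (SpQuotSt K G aX).p.IsHomLift k.hom.left (D.map k) := isHomLift_map_sieve D k
  exact IsHomLift.fac' (SpQuotSt K G aX).p k.hom.left (D.map k)

/-- The structure map of a member of the datum, with target the expected scheme. -/
noncomputable def dπ (a : Idx R) : (dObj D a).P.left ⟶ (yon S).obj a.obj.left :=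
  (dObj D a).π.left ≫ (yon S).map (eqToHom (dEq D a))

/-- The section of `B` of a member of the datum, with source the expected scheme. -/
noncomputable def dB (a : Idx R) : (yon S).obj a.obj.left ⟶ B :=
  (yon S).map (eqToHom (dEq D a).symm) ≫ (dObj D a).b

theorem dB_map {a b : Idx R} (k : a ⟶ b) : (yon S).map k.hom.left ≫ dB D b = dB D a := by
  have h := (dMap D k).wb
  rw [dmap_base] at h
  unfold dB
  rw [← h]
  simp only [Functor.map_comp, Category.assoc, eqToHom_map, eqToHom_trans_assoc, eqToHom_refl,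
    Category.id_comp]

theorem yon_eqToHom_cancel {T T' : Over S} (e : T = T') :
    (yon S).map (eqToHom e) ≫ (yon S).map (eqToHom e.symm) = 𝟙 _ := by
  subst e
  simp

theorem dπ_dB (a : Idx R) : dπ D a ≫ dB D a = (dObj D a).P.hom := by
  have h1 : dπ D a ≫ dB D a = (dObj D a).π.left ≫ ((yon S).map (eqToHom (dEq D a)) ≫
      (yon S).map (eqToHom (dEq D a).symm)) ≫ (dObj D a).b := by
    simp only [dπ, dB, Category.assoc]
  refine h1.trans ?_
  rw [yon_eqToHom_cancel]
  refine (congrArg (fun z => (dObj D a).π.left ≫ z) (Category.id_comp (dObj D a).b)).trans ?_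
  exact Over.w (dObj D a).π

theorem dcart {a b : Idx R} (k : a ⟶ b) :
    IsPullback (dMap D k).top.left (dπ D a) (dπ D b) ((yon S).map k.hom.left) := by
  have sq : IsPullback (dMap D k).top.left (dObj D a).π.left (dObj D b).π.left
      ((yon S).map (dMap D k).base) := (dMap D k).cart.map (Over.forget B)
  refine sq.of_iso (Iso.refl _) (Iso.refl _) ((yon S).mapIso (eqToIso (dEq D a)))
    ((yon S).mapIso (eqToIso (dEq D b))) (by simp) (by simp [dπ]) (by simp [dπ]) ?_
  simp only [Functor.mapIso_hom, eqToIso.hom, ← Functor.map_comp]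
  congr 1
  rw [dmap_base]
  simp

/-- The gluing datum of sheaves attached to a descent datum. -/
noncomputable def dGD : SpGD R where
  E a := (dObj D a).P.left
  p a := dπ D a
  t a b k := (dMap D k).top.left
  t_id a := by
    exact congrArg (fun z : dObj D a ⟶ dObj D a => z.top.left) (dMap_id D a)
  t_comp a b c k l := by
    exact congrArg (fun z : dObj D a ⟶ dObj D c => z.top.left) (dMap_comp D k l)
  cart a b k := dcart D k

/-- The glued sheaf with its cartesian cocone. -/
structure Glued where
  Eu : Sp S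
  pu : Eu ⟶ (yon S).obj U
  c : ∀ a : Idx R, (dObj D a).P.left ⟶ Eu
  cart : ∀ a : Idx R, IsPullback (c a) (dπ D a) pu ((yon S).map a.obj.hom)
  ct : ∀ ⦃a b : Idx R⦄ (k : a ⟶ b), (dMap D k).top.left ≫ c b = c a

theorem exists_glued : Nonempty (Glued D) := by
  obtain ⟨Eu, pu, c, h1, h2⟩ := (dGD D).exists_glue
  exact ⟨⟨Eu, pu, c, h1, h2⟩⟩

variable {D} (g : Glued D)

/-- The cartesian cocone of the glued sheaf. -/
noncomputable def Glued.cc : CartCocone R g.pu := ⟨fun a => (dObj D a).P.left, g.c, dπ D, g.cart⟩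

/-- A map between members of the cocone compatible with the cocone is the transition map. -/
theorem Glued.t_eq {a b : Idx R} (k : a ⟶ b) (t : (dObj D a).P.left ⟶ (dObj D b).P.left)
    (h1 : t ≫ g.c b = g.c a) (h2 : t ≫ dπ D b = dπ D a ≫ (yon S).map k.hom.left) :
    t = (dMap D k).top.left := by
  apply (g.cart b).hom_ext
  · exact h1.trans (g.ct k).symm
  · exact h2.trans (dcart D k).w.symm

theorem Glued.exists_hom (hR : R ∈ J S U) :
    ∃ hP : g.Eu ⟶ B, ∀ a : Idx R, g.c a ≫ hP = (dObj D a).P.hom := by
  refine g.cc.exists_desc (fun a => (dObj D a).P.hom) ?_ hR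
  intro a b k t h1 h2
  have et := g.t_eq k t h1 h2
  subst et
  exact Over.w (dMap D k).top

end Datum

end TQ

end H10PT
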