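import Mathlib
import Groth.Prelude.Def_AlgSt6
import Groth.Agent.Lib.Helper10.TQ4
import Groth.Agent.Lib.Helper10.TQAct

/-!
# Quotient stacks with sheaf torsors: descent data are effective (the glued torsor)
-/

set_option autoImplicit false

universe u

open CategoryTheory CategoryTheory.Limits MonoidalCategory CartesianMonoidalCategory MonObj GrpObj
  AlgebraicGeometry Opposite

namespace H10PT

namespace TQ

open AlgSp AlgSt ShGlue Groth.Agent.Lib.Helper10.Fib Groth.Agent.Lib.Helper10.StkElem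
  Groth.Agent.Lib.Helper10.StkRefine

variable {S : Scheme.{u}} {B : Sp S} {U : Over S} {K : Precoverage Scheme.{u}} {G : Over B}
  [GrpObj G] {X : Over B} {aX : GAction G X} {R : Sieve U}

theorem yon_eqToHom_cancel' {T T' : Over S} (e : T = T') :
    (yon S).map (eqToHom e.symm) ≫ (yon S).map (eqToHom e) = 𝟙 _ := by
  subst e
  simp

/-- Glued torsor data: the total sheaf over `B`, the section of `B`, the action and the map to
`X`. -/
structure GluedT (D : Stk.sieveCat R ⥤ᵇ SpQuotSt K G aX) extends Glued D where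
  hP : Eu ⟶ B
  c_hP : ∀ a : Idx R, c a ≫ hP = (dObj D a).P.hom
  b : (yon S).obj U ⟶ B
  hb : ∀ a : Idx R, (yon S).map a.obj.hom ≫ b = dB D a
  act : G ⊗ Over.mk hP ⟶ Over.mk hP
  hact : ∀ a : Idx R,
    (G ◁ (Over.homMk (c a) (c_hP a) : (dObj D a).P ⟶ Over.mk hP)) ≫ act =
      (dObj D a).act.act ≫ Over.homMk (c a) (c_hP a)
  φ : Over.mk hP ⟶ X
  hφ : ∀ a : Idx R,
    (Over.homMk (c a) (c_hP a) : (dObj D a).P ⟶ Over.mk hP) ≫ φ = (dObj D a).φ

variable {D : Stk.sieveCat R ⥤ᵇ SpQuotSt K G aX}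

theorem exists_gluedT (g : Glued D) (hR : R ∈ J S U) : Nonempty (GluedT D) := by
  obtain ⟨hP, c_hP⟩ := g.exists_hom hR
  -- the section of `B`
  obtain ⟨b, hb⟩ := (trivCC R).exists_desc (dB D) (by
    intro a b' k t h1 h2
    have ht : t = (yon S).map k.hom.left := by
      have h2' : t ≫ 𝟙 _ = 𝟙 _ ≫ (yon S).map k.hom.left := h2
      rwa [Category.comp_id, Category.id_comp] at h2'
    subst ht
    exact dB_map D k) hR
  let OC : OCartCocone R (Over.mk hP) g.pu :=
    ⟨fun a => (dObj D a).P, fun a => Over.homMk (g.c a) (c_hP a), dπ D, g.cart⟩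
  have hct : ∀ ⦃a b' : Idx R⦄ (k : a ⟶ b'), (dMap D k).top ≫ OC.m b' = OC.m a := fun a b' k =>
    Over.OverMorphism.ext (g.ct k)
  -- the action
  obtain ⟨act, hact⟩ := (OC.whisker G).exists_desc hR (fun a => (dObj D a).act.act ≫ OC.m a) (by
    intro a b' k t h1 h2
    have ht : t = (G ◁ (dMap D k).top).left := by
      apply ((OC.whisker G).cart b').hom_ext
      · refine h1.trans ?_
        show (G ◁ OC.m a).left = (G ◁ (dMap D k).top).left ≫ (G ◁ OC.m b').left
        rw [← Over.comp_left, ← MonoidalCategory.whiskerLeft_comp, hct k]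
      · refine h2.trans ?_
        have e1 : (G ◁ (dMap D k).top).left ≫ (snd G (dObj D b').P).left =
            (snd G (dObj D a).P).left ≫ (dMap D k).top.left := by
          rw [← Over.comp_left, ← Over.comp_left, whiskerLeft_snd]
        show ((snd G (dObj D a).P).left ≫ dπ D a) ≫ (yon S).map k.hom.left =
          (G ◁ (dMap D k).top).left ≫ (snd G (dObj D b').P).left ≫ dπ D b'
        rw [← Category.assoc (G ◁ (dMap D k).top).left, e1, Category.assoc, Category.assoc,
          (dcart D k).w]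
    subst ht
    show (G ◁ (dMap D k).top).left ≫ ((dObj D b').act.act ≫ OC.m b').left =
      ((dObj D a).act.act ≫ OC.m a).left
    rw [← Over.comp_left, ← Category.assoc, ← (dMap D k).eqv, Category.assoc, hct k])
  -- the map to `X`
  obtain ⟨φ, hφ⟩ := OC.exists_desc hR (fun a => (dObj D a).φ) (by
    intro a b' k t h1 h2
    have ht : t = (dMap D k).top.left := g.t_eq k t h1 h2
    subst ht
    exact congrArg (fun z => z.left) (dMap D k).wφ)
  exact ⟨{ toGlued := g, hP := hP, c_hP := c_hP, b := b, hb := hb, act := act, hact := hact,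
           φ := φ, hφ := hφ }⟩

section T

variable (h : GluedT D)

/-- The glued total sheaf over `B`. -/
abbrev GluedT.PB : Over B := Over.mk h.hP

/-- The cocone maps over `B`. -/
def GluedT.cB (a : Idx R) : (dObj D a).P ⟶ h.PB := Over.homMk (h.c a) (h.c_hP a)

/-- The cartesian cocone over `B`. -/
noncomputable def GluedT.oc : OCartCocone R h.PB h.pu := ⟨fun a => (dObj D a).P, h.cB, dπ D, h.cart⟩

theorem GluedT.hact' (a : Idx R) : (G ◁ h.cB a) ≫ h.act = (dObj D a).act.act ≫ h.cB a := h.hact a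

theorem GluedT.hφ' (a : Idx R) : h.cB a ≫ h.φ = (dObj D a).φ := h.hφ a

theorem GluedT.hact_left (a : Idx R) :
    (G ◁ h.cB a).left ≫ h.act.left = (dObj D a).act.act.left ≫ h.c a :=
  congrArg (fun z => z.left) (h.hact' a)

theorem GluedT.snd_left (a : Idx R) :
    (G ◁ h.cB a).left ≫ (snd G h.PB).left = (snd G (dObj D a).P).left ≫ h.c a :=
  congrArg (fun z => z.left) (whiskerLeft_snd G (h.cB a))

theorem act_dπ (D : Stk.sieveCat R ⥤ᵇ SpQuotSt K G aX) (a : Idx R) :
    (dObj D a).act.act.left ≫ dπ D a = (snd G (dObj D a).P).left ≫ dπ D a := by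
  have e : (dObj D a).act.act.left ≫ (dObj D a).π.left =
      (snd G (dObj D a).P).left ≫ (dObj D a).π.left :=
    congrArg (fun z => z.left) (dObj D a).cart.w
  unfold dπ
  rw [← Category.assoc, e, Category.assoc]

variable (hR : R ∈ J S U)

include hR

theorem GluedT.pu_b : h.pu ≫ h.b = h.hP := by
  refine h.toGlued.cc.hom_ext hR _ _ (fun a => ?_)
  show h.c a ≫ h.pu ≫ h.b = h.c a ≫ h.hP
  rw [← Category.assoc, (h.cart a).w, Category.assoc, h.hb a, dπ_dB, h.c_hP]

/-- The structure map of the glued torsor. -/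
def GluedT.π : h.PB ⟶ Over.mk h.b := Over.homMk h.pu (h.pu_b hR)

theorem GluedT.act_axioms : (η[G] ▷ h.PB) ≫ h.act = (λ_ h.PB).hom ∧
    (μ[G] ▷ h.PB) ≫ h.act = (α_ G G h.PB).hom ≫ (G ◁ h.act) ≫ h.act :=
  gaction_of_jointly_epi (fun a => (dObj D a).act) h.cB
    (fun Y {Z} u v huv => (h.oc.whisker Y).hom_ext hR u v huv) h.act h.hact'

/-- The action on the glued torsor. -/
def GluedT.gact : GAction G h.PB := ⟨h.act, (h.act_axioms hR).1, (h.act_axioms hR).2⟩

theorem GluedT.act_pu : h.act.left ≫ h.pu = (snd G h.PB).left ≫ h.pu := by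
  refine (h.oc.whisker G).toCC.hom_ext hR _ _ (fun a => ?_)
  show (G ◁ h.cB a).left ≫ h.act.left ≫ h.pu = (G ◁ h.cB a).left ≫ (snd G h.PB).left ≫ h.pu
  rw [← Category.assoc, h.hact_left, ← Category.assoc (G ◁ h.cB a).left, h.snd_left,
    Category.assoc, Category.assoc, (h.cart a).w, ← Category.assoc, ← Category.assoc, act_dπ]

theorem GluedT.cart_left : IsPullback h.act.left (snd G h.PB).left h.pu h.pu := by
  refine isPullback_of_locally hR (h.act_pu hR) rfl (h.oc.whisker G).toCC h.oc.toCC h.oc.toCC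
    (fun a => (dObj D a).act.act.left) (fun a => (snd G (dObj D a).P).left)
    (fun a => (h.hact_left a).symm) (fun a => (h.snd_left a).symm) (fun a => act_dπ D a)
    (fun a => rfl) (fun a => ?_)
  have sq : IsPullback (dObj D a).act.act.left (snd G (dObj D a).P).left (dObj D a).π.left
      (dObj D a).π.left := (dObj D a).cart.map (Over.forget B)
  exact sq.of_iso (Iso.refl _) (Iso.refl _) (Iso.refl _) ((yon S).mapIso (eqToIso (dEq D a)))
    ((Category.comp_id _).trans (Category.id_comp _).symm)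
    ((Category.comp_id _).trans (Category.id_comp _).symm)
    (Category.id_comp _).symm (Category.id_comp _).symm

theorem GluedT.cart' : IsPullback h.act (snd G h.PB) (h.π hR) (h.π hR) := by
  have comm : h.act ≫ h.π hR = snd G h.PB ≫ h.π hR := Over.OverMorphism.ext (h.act_pu hR)
  exact IsPullback.of_map (Over.forget B) comm (h.cart_left hR)

theorem GluedT.eqv : h.act ≫ h.φ = (G ◁ h.φ) ≫ aX.act := by
  refine (h.oc.whisker G).hom_ext hR _ _ (fun a => ?_)
  show (G ◁ h.cB a) ≫ h.act ≫ h.φ = (G ◁ h.cB a) ≫ (G ◁ h.φ) ≫ aX.act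
  rw [← Category.assoc, h.hact', Category.assoc, h.hφ', ← MonoidalCategory.whiskerLeft_comp_assoc,
    h.hφ']
  exact (dObj D a).eqv

omit hR in
theorem secSieve_eqToHom_mem {T T' : Over S} (e : T = T') {P : Sp S} (π : P ⟶ (yon S).obj T)
    (Jt : GrothendieckTopology (Over S)) (hm : secSieve π ∈ Jt T) :
    secSieve (π ≫ (yon S).map (eqToHom e)) ∈ Jt T' := by
  subst e
  simpa using hm

theorem GluedT.secSieve_mem (hK : QuotSh.J K S = J S) : secSieve h.pu ∈ J S U := by
  refine (J S).transitive hR (secSieve h.pu) (fun V f hf => ?_)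
  let a : Idx R := imk f hf
  have h1 : secSieve (dObj D a).π.left ∈ J S (dObj D a).base := by
    rw [← hK]
    exact TQ.secSieve_mem (dObj D a).loc
  have h2 : secSieve (dπ D a) ∈ J S a.obj.left := secSieve_eqToHom_mem (dEq D a) _ _ h1
  refine (J S).superset_covering ?_ h2
  rintro W j ⟨s, hs⟩
  refine ⟨s ≫ h.c a, ?_⟩
  rw [Category.assoc, (h.cart a).w, ← Category.assoc, hs, ← Functor.map_comp]
  rfl

theorem GluedT.loc [K.IsStableUnderComposition] [K.IsStableUnderBaseChange] [K.HasPullbacks]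
    [K.HasIsos] (hK : QuotSh.J K S = J S) : HasSecLoc K (h.π hR).left := by
  apply hasSecLoc_of_secSieve_mem
  rw [hK]
  exact h.secSieve_mem hR hK

end T

end TQ

end H10PT
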