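import Mathlib
import Groth.Prelude.Def_AlgSt6
import Groth.Agent.Lib.Helper10.TQ5

/-!
# Quotient stacks with sheaf torsors are stacks
-/

set_option autoImplicit false

universe u

open CategoryTheory CategoryTheory.Limits MonoidalCategory CartesianMonoidalCategory MonObj GrpObj
  AlgebraicGeometry Opposite

namespace H10PT

namespace TQ

open AlgSp AlgSt ShGlue Groth.Agent.Lib.Helper10.Fib Groth.Agent.Lib.Helper10.StkElem
  Groth.Agent.Lib.Helper10.StkRefine

variable {S : Scheme.{u}} {B : Sp S} {U : Over S} {K : Precoverage Scheme.{u}} {G : Over B}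
  [GrpObj G] {X : Over B} {aX : GAction G X} {R : Sieve U}
  {D : Stk.sieveCat R ⥤ᵇ SpQuotSt K G aX}

section Obj

variable [K.IsStableUnderComposition] [K.IsStableUnderBaseChange] [K.HasPullbacks] [K.HasIsos]
variable (h : GluedT D) (hR : R ∈ J S U) (hK : QuotSh.J K S = J S)

/-- The glued object. -/
noncomputable def GluedT.x : SpQuotObj K G aX where
  base := U
  b := h.b
  P := h.PB
  act := h.gact hR
  π := h.π hR
  cart := h.cart' hR
  loc := h.loc hR hK
  φ := h.φ
  eqv := h.eqv hR

omit [K.IsStableUnderComposition] [K.IsStableUnderBaseChange] [K.HasPullbacks] [K.HasIsos] in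
theorem GluedT.ψ_wb (a : Idx R) :
    (yon S).map (eqToHom (dEq D a) ≫ a.obj.hom) ≫ h.b = (dObj D a).b := by
  have e : (yon S).map (eqToHom (dEq D a) ≫ a.obj.hom) ≫ h.b =
      (yon S).map (eqToHom (dEq D a)) ≫ (yon S).map a.obj.hom ≫ h.b := by
    rw [(yon S).map_comp, Category.assoc]
  refine e.trans ?_
  rw [h.hb a]
  unfold dB
  rw [← Category.assoc]
  exact (congrArg (fun z => z ≫ (dObj D a).b) (yon_eqToHom_cancel (dEq D a))).trans
    (Category.id_comp _)

omit [K.IsStableUnderComposition] [K.IsStableUnderBaseChange] [K.HasPullbacks] [K.HasIsos] in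
theorem GluedT.ψ_cart_left (a : Idx R) :
    IsPullback (h.c a) (dObj D a).π.left h.pu
      ((yon S).map (eqToHom (dEq D a) ≫ a.obj.hom)) := by
  refine (h.cart a).of_iso (Iso.refl _) (Iso.refl _)
    ((yon S).mapIso (eqToIso (dEq D a).symm)) (Iso.refl _)
    ((Category.comp_id _).trans (Category.id_comp _).symm) ?_
    ((Category.comp_id _).trans (Category.id_comp _).symm) ?_
  · show ((dObj D a).π.left ≫ (yon S).map (eqToHom (dEq D a))) ≫
        (yon S).map (eqToHom (dEq D a).symm) = 𝟙 _ ≫ (dObj D a).π.left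
    exact (Category.assoc _ _ _).trans
      ((congrArg (fun z => (dObj D a).π.left ≫ z) (yon_eqToHom_cancel (dEq D a))).trans
        ((Category.comp_id _).trans (Category.id_comp _).symm))
  · show (yon S).map a.obj.hom ≫ 𝟙 _ = (yon S).map (eqToHom (dEq D a).symm) ≫
        (yon S).map (eqToHom (dEq D a) ≫ a.obj.hom)
    rw [Category.comp_id, ← (yon S).map_comp, ← Category.assoc, eqToHom_trans, eqToHom_refl,
      Category.id_comp]

/-- The cone from the datum to the glued object. -/
noncomputable def GluedT.ψ (a : Idx R) : dObj D a ⟶ h.x hR hK where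
  base := eqToHom (dEq D a) ≫ a.obj.hom
  wb := h.ψ_wb a
  top := h.cB a
  eqv := (h.hact' a).symm
  cart := by
    have comm : h.cB a ≫ h.π hR =
        (dObj D a).π ≫ bHom (eqToHom (dEq D a) ≫ a.obj.hom) (h.ψ_wb a) :=
      Over.OverMorphism.ext (h.ψ_cart_left a).w
    exact IsPullback.of_map (Over.forget B) comm (h.ψ_cart_left a)
  wφ := h.hφ' a

include h hR hK in
theorem GluedT.hasCone : HasCone R D := by
  refine ⟨h.x hR hK, rfl, fun a => h.ψ hR hK a, fun a => ?_, fun a b k => ?_⟩
  · exact IsHomLift.of_fac' _ _ _ (dEq D a) rfl (by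
      show eqToHom (dEq D a) ≫ a.obj.hom = eqToHom _ ≫ a.obj.hom ≫ eqToHom _
      simp)
  · apply SpQuotObj.hom_ext
    · show (dMap D k).base ≫ (eqToHom (dEq D b) ≫ b.obj.hom) = eqToHom (dEq D a) ≫ a.obj.hom
      rw [dmap_base]
      simp only [Category.assoc, eqToHom_trans_assoc, eqToHom_refl, Category.id_comp]
      congr 1
      exact Over.w k.hom
    · apply Over.OverMorphism.ext
      exact h.ct k

end Obj

section Main

variable [K.IsStableUnderComposition] [K.IsStableUnderBaseChange] [K.HasPullbacks] [K.HasIsos]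

theorem essSurj (hfib : FibCat.IsFibGrpd (SpQuotSt K G aX).p) (hR : R ∈ J S U)
    (hK : QuotSh.J K S = J S) : (Stk.resSieve R (SpQuotSt K G aX)).EssSurj := by
  constructor
  intro D
  obtain ⟨g⟩ := exists_glued D
  obtain ⟨h⟩ := exists_gluedT g hR
  obtain ⟨Gf, ⟨i⟩⟩ := exists_iso_of_hasCone R hfib D (h.hasCone hR hK)
  exact ⟨Gf, ⟨i⟩⟩

variable (K G aX) in
theorem isStackFor (hR : R ∈ J S U) (hK : QuotSh.J K S = J S) :
    Stk.IsStackFor R (SpQuotSt K G aX) := by
  have hfib := isFibGrpd K G aX
  haveI := faithful hfib hR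
  haveI := full hfib hR
  haveI := essSurj hfib hR hK
  exact Functor.IsEquivalence.mk

variable (K G aX) in
/-- The quotient stack `[X/G]` with sheaf torsors is a stack in groupoids. -/
theorem isStack (hK : QuotSh.J K S = J S) : Stk.IsStack (J S) (SpQuotSt K G aX) :=
  ⟨isFibGrpd K G aX, fun _ R hR => isStackFor K G aX hR hK⟩

end Main

end TQ

end H10PT
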