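import Mathlib
import Groth.Prelude.Def_FibCat2
import Groth.Prelude.Def_AlgSt
import Groth.Agent.Lib.Helper10.FibRep
import Groth.Agent.Lib.Helper10.Fib4

/-!
# The presheaf of isomorphisms between the two components of a functor to `𝒮 ×_C 𝒮`

For `𝒮` fibred in groupoids over `C` and `H : C/U ⥤ᵇ 𝒮 ×_C 𝒮`, the presheaf `I` on `C` with
`I(T) = {(g : T ⟶ U, n : H₁(g) ⟶ H₂(g) over the identity)}`, and the equivalence over `C` of its category
of elements with the 2-fibre product of `H` and the diagonal of `𝒮`.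
-/

set_option autoImplicit false

universe v₂ u₂ v u

open CategoryTheory Functor Opposite

namespace H10PT

namespace IsoPsh

open Groth.Agent.Lib.Helper10.Fib

variable {C : Type u} [Category.{v} C] {𝒮 : BasedCategory.{v₂, u₂} C} {U : C}
  (H : FibCat.overCat U ⥤ᵇ FibCat.fp (FibCat.toSelf 𝒮) (FibCat.toSelf 𝒮))

/-- The first component of `H`. -/
def H₁ : FibCat.overCat U ⥤ᵇ 𝒮 := BasedFunctor.comp H (FibCat.fpFst _ _)

/-- The second component of `H`. -/
def H₂ : FibCat.overCat U ⥤ᵇ 𝒮 := BasedFunctor.comp H (FibCat.fpSnd _ _)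

/-- Values of the first component. -/
def o1 (A : Over U) : 𝒮.obj := (H.obj A).obj.fst

/-- Values of the second component. -/
def o2 (A : Over U) : 𝒮.obj := (H.obj A).obj.snd

/-- Values of the first component on morphisms. -/
def m1 {A' A : Over U} (κ : A' ⟶ A) : o1 H A' ⟶ o1 H A := (H.map κ).hom.fst

/-- Values of the second component on morphisms. -/
def m2 {A' A : Over U} (κ : A' ⟶ A) : o2 H A' ⟶ o2 H A := (H.map κ).hom.snd

theorem m1_id (A : Over U) : m1 H (𝟙 A) = 𝟙 (o1 H A) := (H₁ H).toFunctor.map_id A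

theorem m2_id (A : Over U) : m2 H (𝟙 A) = 𝟙 (o2 H A) := (H₂ H).toFunctor.map_id A

theorem m1_comp {A'' A' A : Over U} (κ' : A'' ⟶ A') (κ : A' ⟶ A) :
    m1 H (κ' ≫ κ) = m1 H κ' ≫ m1 H κ := (H₁ H).toFunctor.map_comp κ' κ

theorem m2_comp {A'' A' A : Over U} (κ' : A'' ⟶ A') (κ : A' ⟶ A) :
    m2 H (κ' ≫ κ) = m2 H κ' ≫ m2 H κ := (H₂ H).toFunctor.map_comp κ' κ

theorem o1_base (A : Over U) : 𝒮.p.obj (o1 H A) = A.left := (H₁ H).w_obj A

theorem o2_base (A : Over U) : 𝒮.p.obj (o2 H A) = A.left := (H₂ H).w_obj A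

theorem m1_lift {A' A : Over U} (κ : A' ⟶ A) : 𝒮.p.IsHomLift κ.left (m1 H κ) :=
  isHomLift_map_over U (H₁ H) κ

theorem m2_lift {A' A : Over U} (κ : A' ⟶ A) : 𝒮.p.IsHomLift κ.left (m2 H κ) :=
  isHomLift_map_over U (H₂ H) κ

/-- Morphisms over the identity from the first to the second component. -/
def Sec (A : Over U) : Type v₂ := {n : o1 H A ⟶ o2 H A // 𝒮.p.IsHomLift (𝟙 A.left) n}

variable {H} in
theorem Sec.ext {A : Over U} {n n' : Sec H A} (h : n.1 = n'.1) : n = n' := Subtype.ext h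

/-- Compatibility of two sections along a morphism. -/
def Compat {A' A : Over U} (κ : A' ⟶ A) (n' : Sec H A') (n : Sec H A) : Prop :=
  n'.1 ≫ m2 H κ = m1 H κ ≫ n.1

theorem compat_id {A : Over U} (n : Sec H A) : Compat H (𝟙 A) n n := by
  unfold Compat
  rw [m1_id, m2_id, Category.comp_id, Category.id_comp]

theorem compat_comp {A'' A' A : Over U} (κ' : A'' ⟶ A') (κ : A' ⟶ A) {n'' : Sec H A''}
    {n' : Sec H A'} {n : Sec H A} (h' : Compat H κ' n'' n') (h : Compat H κ n' n) :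
    Compat H (κ' ≫ κ) n'' n := by
  unfold Compat at *
  rw [m1_comp, m2_comp, ← Category.assoc, h', Category.assoc, h, Category.assoc]

theorem eq_of_compat_id {A : Over U} {n' n : Sec H A} (h : Compat H (𝟙 A) n' n) : n' = n := by
  unfold Compat at h
  rw [m1_id, m2_id, Category.comp_id, Category.id_comp] at h
  exact Sec.ext h

variable (h𝒮 : FibCat.IsFibGrpd 𝒮.p)

include h𝒮 in
theorem existsUnique_res {A' A : Over U} (κ : A' ⟶ A) (n : Sec H A) :
    ∃! n' : Sec H A', Compat H κ n' n := by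
  haveI := m2_lift H κ
  haveI := m1_lift H κ
  haveI := n.2
  haveI : 𝒮.p.IsStronglyCartesian κ.left (m2 H κ) := IsFibGrpd.sc h𝒮 κ.left (m2 H κ)
  haveI : 𝒮.p.IsHomLift κ.left (m1 H κ ≫ n.1) := inferInstance
  obtain ⟨χ, ⟨h1, h2⟩, h3⟩ := IsStronglyCartesian.universal_property 𝒮.p κ.left (m2 H κ)
    (𝟙 A'.left) κ.left (Category.id_comp _).symm (m1 H κ ≫ n.1)
  refine ⟨⟨χ, h1⟩, h2, ?_⟩
  rintro ⟨χ', h1'⟩ h2'
  exact Sec.ext (h3 χ' ⟨h1', h2'⟩)

/-- Restriction of sections along a morphism. -/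
noncomputable def res {A' A : Over U} (κ : A' ⟶ A) (n : Sec H A) : Sec H A' :=
  (existsUnique_res H h𝒮 κ n).exists.choose

theorem compat_res {A' A : Over U} (κ : A' ⟶ A) (n : Sec H A) :
    Compat H κ (res H h𝒮 κ n) n :=
  (existsUnique_res H h𝒮 κ n).exists.choose_spec

theorem res_unique {A' A : Over U} (κ : A' ⟶ A) (n : Sec H A) (n' : Sec H A')
    (h : Compat H κ n' n) : n' = res H h𝒮 κ n :=
  (existsUnique_res H h𝒮 κ n).unique h (compat_res H h𝒮 κ n)

/-- Sections of the presheaf of isomorphisms. -/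
def Elt (T : C) : Type (max v v₂) := Σ g : T ⟶ U, Sec H (Over.mk g)

/-- The transition maps of the presheaf of isomorphisms. -/
noncomputable def mapFun {T' T : C} (k : T' ⟶ T) (x : Elt H T) : Elt H T' :=
  ⟨k ≫ x.1, res H h𝒮 (Over.homMk k rfl : Over.mk (k ≫ x.1) ⟶ Over.mk x.1) x.2⟩

theorem mapFun_fst {T' T : C} (k : T' ⟶ T) (x : Elt H T) : (mapFun H h𝒮 k x).1 = k ≫ x.1 := rfl

theorem mapFun_eq {T' T : C} (k : T' ⟶ T) (x : Elt H T) (x' : Elt H T') (h : k ≫ x.1 = x'.1)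
    (hc : Compat H (Over.homMk k h : Over.mk x'.1 ⟶ Over.mk x.1) x'.2 x.2) :
    mapFun H h𝒮 k x = x' := by
  obtain ⟨g, n⟩ := x
  obtain ⟨g', n'⟩ := x'
  dsimp only at h
  subst h
  exact Sigma.ext rfl (heq_of_eq (res_unique H h𝒮 _ n n' hc).symm)

theorem of_mapFun_eq {T' T : C} (k : T' ⟶ T) (x : Elt H T) (x' : Elt H T')
    (h : mapFun H h𝒮 k x = x') :
    ∃ w : k ≫ x.1 = x'.1, Compat H (Over.homMk k w : Over.mk x'.1 ⟶ Over.mk x.1) x'.2 x.2 := by
  subst h
  exact ⟨rfl, compat_res H h𝒮 _ x.2⟩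

theorem compat_homMk_id {T : C} {g : T ⟶ U} (n : Sec H (Over.mk g)) (w : 𝟙 T ≫ g = g) :
    Compat H (Over.homMk (𝟙 T) w : Over.mk g ⟶ Over.mk g) n n := by
  have e : (Over.homMk (𝟙 T) w : Over.mk g ⟶ Over.mk g) = 𝟙 (Over.mk g) :=
    Over.OverMorphism.ext rfl
  rw [e]
  exact compat_id H n

/-- The presheaf of isomorphisms from the first to the second component of `H`. -/
noncomputable def I : Cᵒᵖ ⥤ Type (max v v₂) where
  obj T := Elt H T.unop
  map k := ↾fun x => mapFun H h𝒮 k.unop x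
  map_id T := by
    ext x
    exact mapFun_eq H h𝒮 (𝟙 T.unop) x x (Category.id_comp _) (compat_homMk_id H x.2 _)
  map_comp {T₁ T₂ T₃} f g := by
    ext x
    refine mapFun_eq H h𝒮 (g.unop ≫ f.unop) x (mapFun H h𝒮 g.unop (mapFun H h𝒮 f.unop x))
      (Category.assoc _ _ _) ?_
    have e : (Over.homMk (g.unop ≫ f.unop) (Category.assoc _ _ _) :
        Over.mk (g.unop ≫ f.unop ≫ x.1) ⟶ Over.mk x.1) =
        (Over.homMk g.unop rfl : Over.mk (g.unop ≫ f.unop ≫ x.1) ⟶ Over.mk (f.unop ≫ x.1)) ≫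
          (Over.homMk f.unop rfl : Over.mk (f.unop ≫ x.1) ⟶ Over.mk x.1) :=
      Over.OverMorphism.ext rfl
    show Compat H (Over.homMk (g.unop ≫ f.unop) (Category.assoc _ _ _) :
        Over.mk (g.unop ≫ f.unop ≫ x.1) ⟶ Over.mk x.1) _ x.2
    rw [e]
    exact compat_comp H _ _ (compat_res H h𝒮 _ _) (compat_res H h𝒮 _ _)

theorem I_map_apply {T' T : C} (k : T' ⟶ T) (x : Elt H T) :
    (I H h𝒮).map k.op x = mapFun H h𝒮 k x := rfl

end IsoPsh

end H10PT
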