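import Mathlib
import Groth.Agent.Lib.Helper10.IsoPsh1

/-!
# The presheaf of isomorphisms represents the fibre product with the diagonal
-/

set_option autoImplicit false

universe v₂ u₂ v u

open CategoryTheory Functor Opposite CategoryTheory.Limits

namespace H10PT

namespace IsoPsh

open Groth.Agent.Lib.Helper10.Fib

variable {C : Type u} [Category.{v} C] {𝒮 : BasedCategory.{v₂, u₂} C} {U : C}
  (H : FibCat.overCat U ⥤ᵇ FibCat.fp (FibCat.toSelf 𝒮) (FibCat.toSelf 𝒮))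
  (h𝒮 : FibCat.IsFibGrpd 𝒮.p)

include h𝒮 in
theorem isIso_sec {A : Over U} (n : Sec H A) : IsIso n.1 := by
  haveI := n.2
  exact IsFibGrpd.isIso_of_isHomLift_id h𝒮 (U := A.left) n.1

/-- The isomorphism underlying a section. -/
noncomputable def secIso {A : Over U} (n : Sec H A) : o1 H A ≅ o2 H A :=
  haveI := isIso_sec H h𝒮 n
  asIso n.1

theorem secIso_hom {A : Over U} (n : Sec H A) : (secIso H h𝒮 n).hom = n.1 := rfl

/-- The object of the fibre product attached to a section. -/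
noncomputable def eObj (A : Over U) (n : Sec H A) :
    (FibCat.fp H (FibCat.diag (FibCat.toSelf 𝒮))).obj :=
  mkObjD H A (o2 H A) (secIso H h𝒮 n) (Iso.refl _) n.2 (IsHomLift.id (o2_base H A))

theorem eObj_fst (A : Over U) (n : Sec H A) : (eObj H h𝒮 A n).obj.fst = A := rfl

theorem eObj_snd (A : Over U) (n : Sec H A) : (eObj H h𝒮 A n).obj.snd = o2 H A := rfl

theorem th1_eObj (A : Over U) (n : Sec H A) : (th1 H (eObj H h𝒮 A n)).hom = n.1 := rfl

theorem th2_eObj (A : Over U) (n : Sec H A) : (th2 H (eObj H h𝒮 A n)).hom = 𝟙 (o2 H A) := rfl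

/-- The morphism of the fibre product attached to a compatible pair of sections. -/
noncomputable def eHom {A' A : Over U} (κ : A' ⟶ A) (n' : Sec H A') (n : Sec H A)
    (hc : Compat H κ n' n) : eObj H h𝒮 A' n' ⟶ eObj H h𝒮 A n :=
  mkHomD H (z := eObj H h𝒮 A' n') (z' := eObj H h𝒮 A n) κ (m2 H κ) hc.symm
    ((Category.comp_id _).trans (Category.id_comp _).symm)

theorem eHom_fst {A' A : Over U} (κ : A' ⟶ A) (n' : Sec H A') (n : Sec H A)
    (hc : Compat H κ n' n) : (eHom H h𝒮 κ n' n hc).hom.fst = κ := rfl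

theorem eHom_snd {A' A : Over U} (κ : A' ⟶ A) (n' : Sec H A') (n : Sec H A)
    (hc : Compat H κ n' n) : (eHom H h𝒮 κ n' n hc).hom.snd = m2 H κ := rfl

theorem hom_ext_fp {z z' : (FibCat.fp H (FibCat.diag (FibCat.toSelf 𝒮))).obj} (f f' : z ⟶ z')
    (h1 : f.hom.fst = f'.hom.fst) (h2 : f.hom.snd = f'.hom.snd) : f = f' := by
  apply ObjectProperty.hom_ext
  apply CategoricalPullback.hom_ext
  · exact h1
  · exact h2

/-- The object of `Over U` of an element. -/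
def ov (w : (Stk.ofPsh (I H h𝒮)).obj) : Over U := Over.mk (show w.base ⟶ U from w.sec.1)

/-- The section of an element. -/
def sc (w : (Stk.ofPsh (I H h𝒮)).obj) : Sec H (ov H h𝒮 w) := w.sec.2

theorem exists_compat {w' w : (Stk.ofPsh (I H h𝒮)).obj} (f : w' ⟶ w) :
    ∃ e : f.hom ≫ (ov H h𝒮 w).hom = (ov H h𝒮 w').hom,
      Compat H (Over.homMk f.hom e : ov H h𝒮 w' ⟶ ov H h𝒮 w) (sc H h𝒮 w') (sc H h𝒮 w) :=
  of_mapFun_eq H h𝒮 f.hom w.sec w'.sec f.map_sec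

/-- The morphism of `Over U` of a morphism of elements. -/
def ovMap {w' w : (Stk.ofPsh (I H h𝒮)).obj} (f : w' ⟶ w) : ov H h𝒮 w' ⟶ ov H h𝒮 w :=
  Over.homMk f.hom (exists_compat H h𝒮 f).choose

theorem ovMap_left {w' w : (Stk.ofPsh (I H h𝒮)).obj} (f : w' ⟶ w) :
    (ovMap H h𝒮 f).left = f.hom := rfl

theorem ovMap_compat {w' w : (Stk.ofPsh (I H h𝒮)).obj} (f : w' ⟶ w) :
    Compat H (ovMap H h𝒮 f) (sc H h𝒮 w') (sc H h𝒮 w) :=
  (exists_compat H h𝒮 f).choose_spec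

theorem ovMap_id (w : (Stk.ofPsh (I H h𝒮)).obj) : ovMap H h𝒮 (𝟙 w) = 𝟙 (ov H h𝒮 w) :=
  Over.OverMorphism.ext rfl

theorem ovMap_comp {w'' w' w : (Stk.ofPsh (I H h𝒮)).obj} (f : w'' ⟶ w') (g : w' ⟶ w) :
    ovMap H h𝒮 (f ≫ g) = ovMap H h𝒮 f ≫ ovMap H h𝒮 g :=
  Over.OverMorphism.ext rfl

/-- The comparison functor from the category of elements of the presheaf of isomorphisms to the
fibre product of `H` with the diagonal. -/
noncomputable def E : Stk.ofPsh (I H h𝒮) ⥤ᵇ FibCat.fp H (FibCat.diag (FibCat.toSelf 𝒮)) where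
  toFunctor :=
    { obj := fun w => eObj H h𝒮 (ov H h𝒮 w) (sc H h𝒮 w)
      map := fun {w' w} f => eHom H h𝒮 (ovMap H h𝒮 f) (sc H h𝒮 w') (sc H h𝒮 w) (ovMap_compat H h𝒮 f)
      map_id := fun w => by
        apply hom_ext_fp
        · exact ovMap_id H h𝒮 w
        · show m2 H (ovMap H h𝒮 (𝟙 w)) = 𝟙 _
          rw [ovMap_id]
          exact m2_id H _
      map_comp := fun {w'' w' w} f g => by
        apply hom_ext_fp
        · exact ovMap_comp H h𝒮 f g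
        · show m2 H (ovMap H h𝒮 (f ≫ g)) = m2 H (ovMap H h𝒮 f) ≫ m2 H (ovMap H h𝒮 g)
          rw [ovMap_comp]
          exact m2_comp H _ _ }
  w := rfl

theorem E_obj (w : (Stk.ofPsh (I H h𝒮)).obj) :
    (E H h𝒮).obj w = eObj H h𝒮 (ov H h𝒮 w) (sc H h𝒮 w) := rfl

theorem E_map_fst {w' w : (Stk.ofPsh (I H h𝒮)).obj} (f : w' ⟶ w) :
    ((E H h𝒮).map f).hom.fst = ovMap H h𝒮 f := rfl

theorem E_map_snd {w' w : (Stk.ofPsh (I H h𝒮)).obj} (f : w' ⟶ w) :
    ((E H h𝒮).map f).hom.snd = m2 H (ovMap H h𝒮 f) := rfl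

instance : (E H h𝒮).toFunctor.Faithful where
  map_injective {w' w} f f' h := by
    apply Stk.EltObj.hom_ext
    have h1 : ovMap H h𝒮 f = ovMap H h𝒮 f' := congrArg (fun m => m.hom.fst) h
    exact congrArg (fun m => m.left) h1

theorem full_aux' {A' A : Over U} (n' : Sec H A') (n : Sec H A)
    (h : eObj H h𝒮 A' n' ⟶ eObj H h𝒮 A n) :
    m2 H h.hom.fst = h.hom.snd ∧ Compat H h.hom.fst n' n := by
  have h2 : m2 H h.hom.fst ≫ 𝟙 _ = 𝟙 _ ≫ h.hom.snd := hom_w2 H h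
  have h1 : m1 H h.hom.fst ≫ n.1 = n'.1 ≫ h.hom.snd := hom_w1 H h
  have e2 : m2 H h.hom.fst = h.hom.snd :=
    ((Category.comp_id _).symm.trans h2).trans (Category.id_comp _)
  refine ⟨e2, ?_⟩
  unfold Compat
  rw [e2]
  exact h1.symm

theorem full_aux {w' w : (Stk.ofPsh (I H h𝒮)).obj} (h : (E H h𝒮).obj w' ⟶ (E H h𝒮).obj w) :
    ∃ k : ov H h𝒮 w' ⟶ ov H h𝒮 w, k = h.hom.fst ∧ m2 H k = h.hom.snd ∧
      Compat H k (sc H h𝒮 w') (sc H h𝒮 w) :=
  ⟨h.hom.fst, rfl, (full_aux' H h𝒮 _ _ h).1, (full_aux' H h𝒮 _ _ h).2⟩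

instance : (E H h𝒮).toFunctor.Full where
  map_surjective {w' w} h := by
    obtain ⟨k, hk1, hk2, hk3⟩ := full_aux H h𝒮 h
    have hk : (Over.homMk k.left (Over.w k) : ov H h𝒮 w' ⟶ ov H h𝒮 w) = k :=
      Over.OverMorphism.ext rfl
    have hsec : (I H h𝒮).map k.left.op w.sec = w'.sec := by
      refine mapFun_eq H h𝒮 k.left w.sec w'.sec (Over.w k) ?_
      show Compat H (Over.homMk k.left (Over.w k) : ov H h𝒮 w' ⟶ ov H h𝒮 w) (sc H h𝒮 w')
        (sc H h𝒮 w)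
      rw [hk]
      exact hk3
    obtain ⟨f, hf⟩ : ∃ f : w' ⟶ w, f.hom = k.left := ⟨⟨k.left, hsec⟩, rfl⟩
    have hov : ovMap H h𝒮 f = k := Over.OverMorphism.ext hf
    refine ⟨f, ?_⟩
    apply hom_ext_fp
    · rw [E_map_fst, hov, hk1]
    · rw [E_map_snd, hov, hk2]

section Ess

variable (z : (FibCat.fp H (FibCat.diag (FibCat.toSelf 𝒮))).obj)

/-- The object of `Over U` under an object of the fibre product. -/
def zA : Over U := z.obj.fst

/-- First structure isomorphism. -/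
def zθ₁ : o1 H (zA H z) ≅ z.obj.snd := th1 H z

/-- Second structure isomorphism. -/
def zθ₂ : o2 H (zA H z) ≅ z.obj.snd := th2 H z

theorem zθ₁_lift : 𝒮.p.IsHomLift (𝟙 (zA H z).left) (zθ₁ H z).hom := th1_lift H z

theorem zθ₂_lift : 𝒮.p.IsHomLift (𝟙 (zA H z).left) (zθ₂ H z).hom := th2_lift H z

/-- The section attached to an object of the fibre product. -/
def zSec : Sec H (zA H z) :=
  ⟨(zθ₁ H z).hom ≫ (zθ₂ H z).inv, by
    haveI := zθ₁_lift H z
    haveI := lift_inv_of_lift 𝒮.p (zθ₂ H z) (zθ₂_lift H z)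
    infer_instance⟩

theorem zSec_val : (zSec H z).1 = (zθ₁ H z).hom ≫ (zθ₂ H z).inv := rfl

/-- The element attached to an object of the fibre product. -/
def zElt : (Stk.ofPsh (I H h𝒮)).obj := ⟨(zA H z).left, ⟨(zA H z).hom, zSec H z⟩⟩

theorem ov_zElt : ov H h𝒮 (zElt H h𝒮 z) = zA H z := rfl

theorem sc_zElt : sc H h𝒮 (zElt H h𝒮 z) = zSec H z := rfl

/-- The comparison morphism. -/
noncomputable def zHom : eObj H h𝒮 (zA H z) (zSec H z) ⟶ z :=
  mkHomD H (z := eObj H h𝒮 (zA H z) (zSec H z)) (z' := z) (𝟙 (zA H z)) (zθ₂ H z).hom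
    (by
      show m1 H (𝟙 (zA H z)) ≫ (zθ₁ H z).hom = (zSec H z).1 ≫ (zθ₂ H z).hom
      rw [m1_id, zSec_val, Category.id_comp, Category.assoc, Iso.inv_hom_id, Category.comp_id])
    (by
      show m2 H (𝟙 (zA H z)) ≫ (zθ₂ H z).hom = 𝟙 _ ≫ (zθ₂ H z).hom
      rw [m2_id])

/-- The inverse of the comparison morphism. -/
noncomputable def zInv : z ⟶ eObj H h𝒮 (zA H z) (zSec H z) :=
  mkHomD H (z := z) (z' := eObj H h𝒮 (zA H z) (zSec H z)) (𝟙 (zA H z)) (zθ₂ H z).inv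
    (by
      show m1 H (𝟙 (zA H z)) ≫ (zSec H z).1 = (zθ₁ H z).hom ≫ (zθ₂ H z).inv
      rw [m1_id, zSec_val, Category.id_comp])
    (by
      show m2 H (𝟙 (zA H z)) ≫ 𝟙 _ = (zθ₂ H z).hom ≫ (zθ₂ H z).inv
      rw [m2_id, Iso.hom_inv_id, Category.comp_id])

/-- The comparison isomorphism. -/
noncomputable def zIso : eObj H h𝒮 (zA H z) (zSec H z) ≅ z where
  hom := zHom H h𝒮 z
  inv := zInv H h𝒮 z
  hom_inv_id := by
    apply hom_ext_fp
    · exact Category.comp_id _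
    · exact (zθ₂ H z).hom_inv_id
  inv_hom_id := by
    apply hom_ext_fp
    · exact Category.comp_id _
    · exact (zθ₂ H z).inv_hom_id

theorem zIso_lift : (FibCat.fp H (FibCat.diag (FibCat.toSelf 𝒮))).p.IsHomLift
    (𝟙 ((FibCat.fp H (FibCat.diag (FibCat.toSelf 𝒮))).p.obj z)) (zIso H h𝒮 z).hom := by
  rw [fp_isHomLift_iff]
  exact IsHomLift.id rfl

end Ess

theorem isEquivOver_E : FibCat.IsEquivOver (E H h𝒮) := by
  apply isEquivOver_of_ff
  intro z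
  exact ⟨zElt H h𝒮 z, zIso H h𝒮 z, zIso_lift H h𝒮 z⟩

end IsoPsh

end H10PT
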