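import Mathlib
import Groth.Prelude.Def_AlgSt2
import Groth.Agent.Lib.Helper10.IsoPsh2
import Groth.Agent.Lib.Helper10.StkPost
import Groth.Agent.Lib.Helper10.StkPsh

/-!
# The sheaf of isomorphisms between the two components of a functor to `𝒮 ×_C 𝒮`, over `(Sch/S)`
-/

set_option autoImplicit false

universe u

open CategoryTheory Functor Opposite CategoryTheory.Limits AlgebraicGeometry

namespace H10PT

namespace IsoPsh

open Groth.Agent.Lib.Helper10.Fib AlgSp AlgSt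

variable {S : Scheme.{u}} {𝒮 : BasedCategory.{u + 1, u + 2} (Over S)} {U : Over S}
  (H : FibCat.overCat U ⥤ᵇ FibCat.fp (FibCat.toSelf 𝒮) (FibCat.toSelf 𝒮))
  (h𝒮 : FibCat.IsFibGrpd 𝒮.p)
  (hst : Stk.IsStack (J S) (FibCat.fp H (FibCat.diag (FibCat.toSelf 𝒮))))

include hst in
theorem isSheaf_I : Presheaf.IsSheaf (J S) (I H h𝒮) := by
  rw [isSheaf_iff_isSheaf_of_type]
  have h1 : Stk.IsStack (J S) (Stk.ofPsh (I H h𝒮)) :=
    (Groth.Agent.Lib.Helper10.StkPost.isStack_iff_of_isEquivOver (J S) (E H h𝒮)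
      (isEquivOver_E H h𝒮)).2 hst
  exact (Groth.Agent.Lib.Helper10.StkPsh.isStack_ofPsh_iff (J S) (I H h𝒮)).1 h1

/-- The sheaf of isomorphisms. -/
noncomputable def Isp : Sp S := ⟨I H h𝒮, isSheaf_I H h𝒮 hst⟩

/-- The comparison functor, from the category of the sheaf of isomorphisms. -/
noncomputable def Esp : ofSp (Isp H h𝒮 hst) ⥤ᵇ FibCat.fp H (FibCat.diag (FibCat.toSelf 𝒮)) :=
  E H h𝒮

theorem isEquivOver_Esp : FibCat.IsEquivOver (Esp H h𝒮 hst) := isEquivOver_E H h𝒮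

/-- The structure map of the sheaf of isomorphisms. -/
noncomputable def pI : Isp H h𝒮 hst ⟶ (yon S).obj U :=
  spMapOfOver (BasedFunctor.comp (Esp H h𝒮 hst) (FibCat.fpFst _ _))

theorem pI_app (T : Over S) (x : Elt H T) :
    (pI H h𝒮 hst).hom.app (op T) x = ⟨x.1⟩ := by
  show (⟨secHom (BasedFunctor.comp (Esp H h𝒮 hst) (FibCat.fpFst _ _)) ⟨T, x⟩⟩ : ULift (T ⟶ U)) = _
  apply ULift.ext
  show eqToHom _ ≫ x.1 = x.1
  rw [eqToHom_refl, Category.id_comp]

theorem Isp_map (T' T : Over S) (κ : T' ⟶ T) (x : Elt H T) :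
    (Isp H h𝒮 hst).obj.map κ.op x = mapFun H h𝒮 κ x := rfl

end IsoPsh

end H10PT
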