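import Mathlib
import Groth.Prelude.Def_AlgSt6
import Groth.Agent.Lib.Helper10.TQR2

/-!
# Quotient stacks with sheaf torsors: points of the classified torsor and trivialisations of the values
-/

set_option autoImplicit false

universe u

open CategoryTheory CategoryTheory.Limits MonoidalCategory CartesianMonoidalCategory MonObj GrpObj
  AlgebraicGeometry Opposite

namespace H10PT

namespace TQI

open AlgSp AlgSt H10PT.TQ H10PT.TQR Groth.Agent.Lib.Helper10.Fib

variable {S : Scheme.{u}} {B : Sp S} {K : Precoverage Scheme.{u}} {G : Over B} [GrpObj G]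
  {X : Over B} {aX : GAction G X} {U : Over S}

section Gen

variable [K.HasIsos] {A : SpQuotObj K G aX} {a : (ofSp X.left).obj}

theorem ptOf_trivHom (s : (yon S).obj a.base ⟶ A.P.left) (hx : s ≫ A.φ.left = secYon a) :
    ptOf (trivHom A a s hx) = ptOver A a s hx := by
  unfold ptOf
  show unitSec (ovr a) ≫ (G ◁ ptOver A a s hx) ≫ A.act.act = ptOver A a s hx
  exact unitSec_act A.act _

/-- The point of a morphism from a trivial torsor, as a map of sheaves. -/
noncomputable def ptL (d : (spQuotMap K G aX).obj a ⟶ A) : (yon S).obj a.base ⟶ A.P.left :=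
  (ptOf d).left

theorem ptL_φ (d : (spQuotMap K G aX).obj a ⟶ A) : ptL d ≫ A.φ.left = secYon a :=
  congrArg (fun t => t.left) (ptOf_φ d)

theorem ptL_π (d : (spQuotMap K G aX).obj a ⟶ A) : ptL d ≫ πc A = (yon S).map d.base :=
  congrArg (fun t => t.left) (ptOf_π d)

theorem ptL_trivHom (s : (yon S).obj a.base ⟶ A.P.left) (hx : s ≫ A.φ.left = secYon a) :
    ptL (trivHom A a s hx) = s :=
  congrArg (fun t => t.left) (ptOf_trivHom s hx)

theorem trivHom_ptL (d : (spQuotMap K G aX).obj a ⟶ A) :
    trivHom A a (ptL d) (ptL_φ d) = d := by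
  apply SpQuotObj.hom_ext
  · apply (yon S).map_injective
    show (yon S).map (trivBase A a (ptL d)) = (yon S).map d.base
    rw [map_trivBase]
    exact ptL_π d
  · have e : ptOver A a (ptL d) (ptL_φ d) = ptOf d := Over.OverMorphism.ext rfl
    show (G ◁ ptOver A a (ptL d) (ptL_φ d)) ≫ A.act.act = topOf d
    rw [e, top_eq]

end Gen

section Y

variable [K.HasIsos] (y : FibCat.overCat U ⥤ᵇ SpQuotSt K G aX)

/-- A point of the torsor classified by `y`, over `g` and over the point `a` of `X`. -/
structure PtO (a : (ofSp X.left).obj) (g : a.base ⟶ U) where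
  /-- the point -/
  t : (yon S).obj a.base ⟶ (tors y).P.left
  hφ : t ≫ (tors y).φ.left = secYon a
  hπ : t ≫ πU y = (yon S).map g

variable {y}

theorem PtO.ext' {a : (ofSp X.left).obj} {g : a.base ⟶ U} {p p' : PtO y a g} (h : p.t = p'.t) :
    p = p' := by
  cases p
  cases p'
  cases h
  rfl

variable {a : (ofSp X.left).obj} {g : a.base ⟶ U} (p : PtO y a g)

/-- The value of `y` at `g`. -/
def yg (y : FibCat.overCat U ⥤ᵇ SpQuotSt K G aX) {T : Over S} (g : T ⟶ U) : SpQuotObj K G aX :=
  yo y (Over.mk g)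

omit [K.HasIsos] in
theorem yg_base {T : Over S} (g : T ⟶ U) : (yg y g).base = T := yo_base y (Over.mk g)

/-- The canonical morphism to the classified torsor. -/
noncomputable def cg (y : FibCat.overCat U ⥤ᵇ SpQuotSt K G aX) {T : Over S} (g : T ⟶ U) :
    yg y g ⟶ tors y := cHom y (Over.mk g)

omit [K.HasIsos] in
theorem cg_base {T : Over S} (g : T ⟶ U) :
    (cg y g).base = eqToHom (yg_base g) ≫ g ≫ eqToHom (tors_base y).symm :=
  cHom_base y (Over.mk g)

/-- The transition morphisms of the values of `y`. -/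
def ygMap (y : FibCat.overCat U ⥤ᵇ SpQuotSt K G aX) {T' T : Over S} (κ : T' ⟶ T) (g : T ⟶ U) :
    yg y (κ ≫ g) ⟶ yg y g :=
  ym y (Over.homMk κ rfl : Over.mk (κ ≫ g) ⟶ Over.mk g)

omit [K.HasIsos] in
theorem ygMap_base {T' T : Over S} (κ : T' ⟶ T) (g : T ⟶ U) :
    (ygMap y κ g).base = eqToHom (yg_base (κ ≫ g)) ≫ κ ≫ eqToHom (yg_base g).symm :=
  ym_base y _

omit [K.HasIsos] in
theorem ygMap_cg {T' T : Over S} (κ : T' ⟶ T) (g : T ⟶ U) :
    ygMap y κ g ≫ cg y g = cg y (κ ≫ g) :=
  map_cHom y _

/-- The trivialisation of the classified torsor attached to a point. -/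
noncomputable def PtO.d : tv a ⟶ tors y := trivHom (tors y) a p.t p.hφ

/-- The base of the trivialisation. -/
noncomputable def PtO.db : a.base ⟶ (tors y).base := p.d.base

theorem PtO.map_db : (yon S).map p.db = p.t ≫ πc (tors y) := map_trivBase _ _ _

theorem PtO.db_eq : p.db = g ≫ eqToHom (tors_base y).symm := by
  apply (yon S).map_injective
  have h1 : p.t ≫ πc (tors y) = (yon S).map g ≫ (yon S).map (eqToHom (tors_base y).symm) := by
    rw [← p.hπ, Category.assoc, πU_cancel]
  exact (p.map_db).trans (h1.trans ((yon S).map_comp _ _).symm)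

theorem PtO.d_base : p.d.base = g ≫ eqToHom (tors_base y).symm := p.db_eq

theorem PtO.ptL_d : ptL p.d = p.t := ptL_trivHom _ _

theorem PtO.e_aux : eqToHom (yg_base g) ≫ p.d.base = (cg y g).base := by
  rw [p.d_base, cg_base]

/-- The trivialisation of the value of `y` at `g` attached to a point. -/
noncomputable def PtO.e : yg y g ⟶ tv a :=
  liftHom p.d (cg y g) (eqToHom (yg_base g)) p.e_aux

theorem PtO.e_base : p.e.base = eqToHom (yg_base g) := rfl

theorem PtO.e_comp : p.e ≫ p.d = cg y g := liftHom_comp _ _ _ _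

instance PtO.isIso_e : IsIso p.e := by
  haveI : IsIso p.e.base := by
    show IsIso (eqToHom (yg_base g))
    infer_instance
  exact isIso_of_isIso_base _

theorem PtO.inv_e_comp : CategoryTheory.inv p.e ≫ cg y g = p.d := by
  rw [IsIso.inv_comp_eq]
  exact p.e_comp.symm

theorem PtO.e_injective {p p' : PtO y a g} (h : p.e = p'.e) : p = p' := by
  apply PtO.ext'
  have hd : p.d = p'.d := by
    have h1 : p.e ≫ p.d = p.e ≫ p'.d := by
      rw [p.e_comp]
      rw [h, p'.e_comp]
    exact (cancel_epi p.e).1 h1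
  rw [← p.ptL_d, ← p'.ptL_d, hd]

end Y

end TQI

end H10PT
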