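import Mathlib
import Groth.Prelude.Def_AlgSt6
import Groth.Agent.Lib.Helper10.TQI1

/-!
# Quotient stacks with sheaf torsors: trivialisations of the values of a point, surjectivity and naturality
-/

set_option autoImplicit false

universe u

open CategoryTheory CategoryTheory.Limits MonoidalCategory CartesianMonoidalCategory MonObj GrpObj
  AlgebraicGeometry Opposite

namespace H10PT

namespace TQI

open AlgSp AlgSt H10PT.TQ H10PT.TQR Groth.Agent.Lib.Helper10.Fib

variable {S : Scheme.{u}} {B : Sp S} {K : Precoverage Scheme.{u}} {G : Over B} [GrpObj G]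
  {X : Over B} {aX : GAction G X} {U : Over S}

variable [K.HasIsos] {y : FibCat.overCat U ⥤ᵇ SpQuotSt K G aX}

section Surj

variable {a : (ofSp X.left).obj} {g : a.base ⟶ U}

theorem PtO.exists_of_hom (ε : yg y g ⟶ tv a) (hε : ε.base = eqToHom (yg_base g)) :
    ∃ p : PtO y a g, p.e = ε := by
  obtain ⟨εb, hεb⟩ : ∃ εb : (yg y g).base ⟶ a.base, εb = ε.base := ⟨_, rfl⟩
  have hεb' : εb = eqToHom (yg_base g) := hεb.trans hε
  have hI : IsIso εb := by
    rw [hεb']
    infer_instance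
  haveI : IsIso ε.base := by
    rw [← hεb]
    exact hI
  haveI : IsIso ε := isIso_of_isIso_base ε
  obtain ⟨d, hd⟩ : ∃ d : tv a ⟶ tors y, d = CategoryTheory.inv ε ≫ cg y g := ⟨_, rfl⟩
  have hεd : ε ≫ d = cg y g := by rw [hd, IsIso.hom_inv_id_assoc]
  obtain ⟨ib, hib⟩ : ∃ ib : a.base ⟶ (yg y g).base, ib = (CategoryTheory.inv ε).base := ⟨_, rfl⟩
  have h1 : εb ≫ ib = 𝟙 _ := by
    rw [hεb, hib]
    exact congrArg SpQuotObj.Hom.base (IsIso.hom_inv_id ε)
  have hib' : ib = eqToHom (yg_base g).symm := by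
    calc ib = (eqToHom (yg_base g).symm ≫ eqToHom (yg_base g)) ≫ ib := by simp
      _ = eqToHom (yg_base g).symm ≫ (εb ≫ ib) := by rw [hεb', Category.assoc]
      _ = eqToHom (yg_base g).symm := by rw [h1, Category.comp_id]
  obtain ⟨db, hdb⟩ : ∃ db : a.base ⟶ (tors y).base, db = d.base := ⟨_, rfl⟩
  have hdb' : db = g ≫ eqToHom (tors_base y).symm := by
    have e1 : db = ib ≫ (cg y g).base := by
      rw [hdb, hib, hd]
      rfl
    rw [e1, hib', cg_base]
    simp
  have hπ0 : ptL d ≫ πc (tors y) = (yon S).map db := by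
    rw [hdb]
    exact ptL_π d
  have hπ : ptL d ≫ πU y = (yon S).map g := by
    unfold πU
    rw [← Category.assoc, hπ0, hdb', ← (yon S).map_comp]
    congr 1
    simp
  refine ⟨⟨ptL d, ptL_φ d, hπ⟩, ?_⟩
  have hpd : (PtO.mk (y := y) (g := g) (ptL d) (ptL_φ d) hπ).d = d := trivHom_ptL d
  have h3 := PtO.e_comp (PtO.mk (y := y) (g := g) (ptL d) (ptL_φ d) hπ)
  rw [hpd] at h3
  apply hom_eq_of_comp_eq d
  · exact h3.trans hεd.symm
  · exact hε.symm

end Surj

section Nat

variable {a' a : (ofSp X.left).obj} {g : a.base ⟶ U} (p : PtO y a g) (κ : a' ⟶ a)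

/-- Pull a point back along a morphism of points of `X`. -/
noncomputable def PtO.pull : PtO y a' (κ.hom ≫ g) where
  t := (yon S).map κ.hom ≫ p.t
  hφ := by rw [Category.assoc, p.hφ, secYon_comp]
  hπ := by rw [Category.assoc, p.hπ, ← (yon S).map_comp]

theorem PtO.pull_t : (p.pull κ).t = (yon S).map κ.hom ≫ p.t := rfl

theorem PtO.tvMap_d : tvMap κ ≫ p.d = (p.pull κ).d := by
  apply SpQuotObj.hom_ext
  · apply (yon S).map_injective
    show (yon S).map (κ.hom ≫ p.db) = (yon S).map (p.pull κ).db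
    rw [(yon S).map_comp, p.map_db, (p.pull κ).map_db, p.pull_t, Category.assoc]
  · have e : ovrMap κ ≫ ptOver (tors y) a p.t p.hφ =
        ptOver (tors y) a' (p.pull κ).t (p.pull κ).hφ := Over.OverMorphism.ext rfl
    show (G ◁ ovrMap κ) ≫ (G ◁ ptOver (tors y) a p.t p.hφ) ≫ (tors y).act.act =
      (G ◁ ptOver (tors y) a' (p.pull κ).t (p.pull κ).hφ) ≫ (tors y).act.act
    rw [← MonoidalCategory.whiskerLeft_comp_assoc, e]

theorem PtO.e_naturality : ygMap y κ.hom g ≫ p.e = (p.pull κ).e ≫ tvMap κ := by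
  apply hom_eq_of_comp_eq p.d
  · rw [Category.assoc, Category.assoc, p.tvMap_d, p.e_comp, (p.pull κ).e_comp]
    exact ygMap_cg κ.hom g
  · show (ygMap y κ.hom g).base ≫ p.e.base = (p.pull κ).e.base ≫ κ.hom
    rw [ygMap_base, p.e_base, (p.pull κ).e_base]
    exact eq_cancel _ _ _

end Nat

end TQI

end H10PT
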