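import Mathlib
import Groth.Prelude.Def_AlgSt6
import Groth.Agent.Lib.Helper10.TQI2
import Groth.Agent.Lib.Helper10.IsoPsh2

/-!
# Quotient stacks with sheaf torsors: sections of the presheaf of isomorphisms from pairs of points
-/

set_option autoImplicit false

universe u

open CategoryTheory CategoryTheory.Limits MonoidalCategory CartesianMonoidalCategory MonObj GrpObj
  AlgebraicGeometry Opposite

namespace H10PT

namespace TQI

open AlgSp AlgSt H10PT.TQ H10PT.TQR Groth.Agent.Lib.Helper10.Fib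

variable {S : Scheme.{u}} {B : Sp S} {K : Precoverage Scheme.{u}} {G : Over B} [GrpObj G]
  {X : Over B} {aX : GAction G X} {U : Over S}

section Base

theorem base_of_lift_id {A A' : SpQuotObj K G aX} {T : Over S} (m : A ⟶ A')
    (hm : (SpQuotSt K G aX).p.IsHomLift (𝟙 T) m) (hA : A.base = T) (hA' : A'.base = T) :
    m.base = eqToHom (hA.trans hA'.symm) := by
  have h := IsHomLift.fac' (SpQuotSt K G aX).p (𝟙 T) m
  have h' : m.base = eqToHom (IsHomLift.domain_eq (SpQuotSt K G aX).p (𝟙 T) m) ≫ 𝟙 T ≫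
      eqToHom (IsHomLift.codomain_eq (SpQuotSt K G aX).p (𝟙 T) m).symm := h
  rw [h']
  simp
  rfl

theorem lift_id_of_base {A A' : SpQuotObj K G aX} {T : Over S} (m : A ⟶ A')
    (hA : A.base = T) (hA' : A'.base = T) (h : m.base = eqToHom (hA.trans hA'.symm)) :
    (SpQuotSt K G aX).p.IsHomLift (𝟙 T) m := by
  refine IsHomLift.of_fac' _ _ _ hA hA' ?_
  show m.base = _
  rw [h]
  simp
  rfl

theorem inv_base_eq {A A' : SpQuotObj K G aX} (m : A ⟶ A') [IsIso m] {T : Over S}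
    (hA : A.base = T) (hA' : A'.base = T) (hm : m.base = eqToHom (hA.trans hA'.symm)) :
    (CategoryTheory.inv m).base = eqToHom (hA'.trans hA.symm) := by
  have h1 : m.base ≫ (CategoryTheory.inv m).base = 𝟙 A.base :=
    congrArg SpQuotObj.Hom.base (IsIso.hom_inv_id m)
  calc (CategoryTheory.inv m).base
      = (eqToHom (hA'.trans hA.symm) ≫ eqToHom (hA.trans hA'.symm)) ≫
          (CategoryTheory.inv m).base := by simp
    _ = eqToHom (hA'.trans hA.symm) ≫ (m.base ≫ (CategoryTheory.inv m).base) := by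
        rw [hm, Category.assoc]
    _ = eqToHom (hA'.trans hA.symm) := by rw [h1, Category.comp_id]

theorem comp_base_eq {A A' A'' : SpQuotObj K G aX} (m : A ⟶ A') (m' : A' ⟶ A'') {T : Over S}
    (hA : A.base = T) (hA' : A'.base = T) (hA'' : A''.base = T)
    (hm : m.base = eqToHom (hA.trans hA'.symm)) (hm' : m'.base = eqToHom (hA'.trans hA''.symm)) :
    (m ≫ m').base = eqToHom (hA.trans hA''.symm) := by
  show m.base ≫ m'.base = _
  rw [hm, hm']
  simp

end Base

section Pair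

variable [K.HasIsos]
  (H : FibCat.overCat U ⥤ᵇ
    FibCat.fp (FibCat.toSelf (SpQuotSt K G aX)) (FibCat.toSelf (SpQuotSt K G aX)))

/-- The first component. -/
abbrev y₁ : FibCat.overCat U ⥤ᵇ SpQuotSt K G aX := IsoPsh.H₁ H

/-- The second component. -/
abbrev y₂ : FibCat.overCat U ⥤ᵇ SpQuotSt K G aX := IsoPsh.H₂ H

variable {H}

theorem PtO.e_base' {y : FibCat.overCat U ⥤ᵇ SpQuotSt K G aX} {a : (ofSp X.left).obj}
    {g : a.base ⟶ U} (p : PtO y a g) :
    p.e.base = eqToHom ((yg_base g).trans (rfl : (tv (K := K) (G := G) (aX := aX) a).base = a.base).symm) :=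
  p.e_base

theorem PtO.inv_e_base {y : FibCat.overCat U ⥤ᵇ SpQuotSt K G aX} {a : (ofSp X.left).obj}
    {g : a.base ⟶ U} (p : PtO y a g) :
    (CategoryTheory.inv p.e).base =
      eqToHom ((rfl : (tv (K := K) (G := G) (aX := aX) a).base = a.base).trans (yg_base g).symm) :=
  inv_base_eq p.e (yg_base g) rfl p.e_base'

/-- The underlying morphism of the section attached to a pair of points. -/
noncomputable def nHom {a : (ofSp X.left).obj} {g : a.base ⟶ U} (p₁ : PtO (y₁ H) a g)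
    (p₂ : PtO (y₂ H) a g) : yg (y₁ H) g ⟶ yg (y₂ H) g :=
  p₁.e ≫ CategoryTheory.inv p₂.e

theorem nHom_base {a : (ofSp X.left).obj} {g : a.base ⟶ U} (p₁ : PtO (y₁ H) a g)
    (p₂ : PtO (y₂ H) a g) :
    (nHom p₁ p₂).base = eqToHom ((yg_base g).trans (yg_base g).symm) :=
  comp_base_eq p₁.e (CategoryTheory.inv p₂.e) (yg_base g) rfl (yg_base g) p₁.e_base' p₂.inv_e_base

/-- The section attached to a pair of points. -/
noncomputable def nOf {a : (ofSp X.left).obj} {g : a.base ⟶ U} (p₁ : PtO (y₁ H) a g)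
    (p₂ : PtO (y₂ H) a g) : IsoPsh.Sec H (Over.mk g) :=
  ⟨nHom p₁ p₂, lift_id_of_base (nHom p₁ p₂) (yg_base g) (yg_base g) (nHom_base p₁ p₂)⟩

theorem nOf_val {a : (ofSp X.left).obj} {g : a.base ⟶ U} (p₁ : PtO (y₁ H) a g)
    (p₂ : PtO (y₂ H) a g) : (nOf p₁ p₂).1 = nHom p₁ p₂ := rfl

theorem nHom_comp {a : (ofSp X.left).obj} {g : a.base ⟶ U} (p₁ : PtO (y₁ H) a g)
    (p₂ : PtO (y₂ H) a g) : nHom p₁ p₂ ≫ p₂.e = p₁.e := by
  unfold nHom
  rw [Category.assoc, IsIso.inv_hom_id, Category.comp_id]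

theorem compat_nOf {a' a : (ofSp X.left).obj} {g : a.base ⟶ U} (p₁ : PtO (y₁ H) a g)
    (p₂ : PtO (y₂ H) a g) (κ : a' ⟶ a) :
    IsoPsh.Compat H (Over.homMk κ.hom rfl : Over.mk (κ.hom ≫ g) ⟶ Over.mk g)
      (nOf (p₁.pull κ) (p₂.pull κ)) (nOf p₁ p₂) := by
  show nHom (p₁.pull κ) (p₂.pull κ) ≫ ygMap (y₂ H) κ.hom g =
    ygMap (y₁ H) κ.hom g ≫ nHom p₁ p₂
  have N1 := p₁.e_naturality κ
  have N2 := p₂.e_naturality κ
  rw [← cancel_mono p₂.e, Category.assoc, Category.assoc, nHom_comp, N2, N1, ← Category.assoc,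
    nHom_comp]

end Pair

end TQI

end H10PT
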