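import Mathlib
import Groth.Prelude.Def_AlgSt6
import Groth.Agent.Lib.Helper10.TQI3

/-!
# Quotient stacks with sheaf torsors: elements of the presheaf of isomorphisms from pairs of points
(the case where `X` is terminal)
-/

set_option autoImplicit false

universe u

open CategoryTheory CategoryTheory.Limits MonoidalCategory CartesianMonoidalCategory MonObj GrpObj
  AlgebraicGeometry Opposite

namespace H10PT

namespace TQI

open AlgSp AlgSt H10PT.TQ H10PT.TQR Groth.Agent.Lib.Helper10.Fib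

variable {S : Scheme.{u}} {B : Sp S} {K : Precoverage Scheme.{u}} {G : Over B} [GrpObj G]
  {X : Over B} {aX : GAction G X} {U : Over S}

variable [K.HasIsos]
  (H : FibCat.overCat U ⥤ᵇ
    FibCat.fp (FibCat.toSelf (SpQuotSt K G aX)) (FibCat.toSelf (SpQuotSt K G aX)))
  (c : ∀ T : Over S, (yon S).obj T ⟶ X.left)
  (hX : ∀ (T : Over S) (u v : (yon S).obj T ⟶ X.left), u = v)

/-- The chosen point of `X` over `T`. -/
noncomputable abbrev aT (T : Over S) : (ofSp X.left).obj := mkPt (c T)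

omit [GrpObj G] in
theorem aT_base (T : Over S) : (aT c T).base = T := rfl

/-- The morphism of chosen points over a morphism of schemes. -/
noncomputable def aMap {T' T : Over S} (κ : T' ⟶ T) : aT c T' ⟶ aT c T :=
  homOfPt κ (hX _ _ _)

omit [GrpObj G] in
theorem aMap_hom {T' T : Over S} (κ : T' ⟶ T) : (aMap c hX κ).hom = κ := rfl

/-- A pair of points of the two classified torsors over the same morphism to `U`. -/
structure Dat (T : Over S) where
  /-- the morphism to `U` -/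
  g : T ⟶ U
  /-- the point of the first torsor -/
  p₁ : PtO (y₁ H) (aT c T) g
  /-- the point of the second torsor -/
  p₂ : PtO (y₂ H) (aT c T) g

variable {H c}

theorem Dat.ext' {T : Over S} {d d' : Dat H c T} (hg : d.g = d'.g) (h1 : d.p₁.t = d'.p₁.t)
    (h2 : d.p₂.t = d'.p₂.t) : d = d' := by
  obtain ⟨g, p₁, p₂⟩ := d
  obtain ⟨g', p₁', p₂'⟩ := d'
  dsimp only at hg
  subst hg
  have e1 : p₁ = p₁' := PtO.ext' h1
  have e2 : p₂ = p₂' := PtO.ext' h2
  rw [e1, e2]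

/-- The element of the presheaf of isomorphisms attached to a pair of points. -/
noncomputable def Dat.elt {T : Over S} (d : Dat H c T) : IsoPsh.Elt H T := ⟨d.g, nOf d.p₁ d.p₂⟩

theorem Dat.elt_fst {T : Over S} (d : Dat H c T) : d.elt.1 = d.g := rfl

/-- Pull a pair of points back. -/
noncomputable def Dat.pull {T' T : Over S} (κ : T' ⟶ T) (d : Dat H c T) : Dat H c T' where
  g := κ ≫ d.g
  p₁ := d.p₁.pull (aMap c hX κ)
  p₂ := d.p₂.pull (aMap c hX κ)

theorem Dat.pull_g {T' T : Over S} (κ : T' ⟶ T) (d : Dat H c T) : (d.pull hX κ).g = κ ≫ d.g := rfl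

theorem Dat.pull_t₁ {T' T : Over S} (κ : T' ⟶ T) (d : Dat H c T) :
    (d.pull hX κ).p₁.t = (yon S).map κ ≫ d.p₁.t := rfl

theorem Dat.pull_t₂ {T' T : Over S} (κ : T' ⟶ T) (d : Dat H c T) :
    (d.pull hX κ).p₂.t = (yon S).map κ ≫ d.p₂.t := rfl

theorem Dat.mapFun_elt (h𝒬 : FibCat.IsFibGrpd (SpQuotSt K G aX).p) {T' T : Over S} (κ : T' ⟶ T)
    (d : Dat H c T) : IsoPsh.mapFun H h𝒬 κ d.elt = (d.pull hX κ).elt :=
  IsoPsh.mapFun_eq H h𝒬 κ d.elt (d.pull hX κ).elt rfl (compat_nOf d.p₁ d.p₂ (aMap c hX κ))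

theorem Dat.elt_inj {T : Over S} {d d' : Dat H c T} (h : d.elt = d'.elt)
    (h1 : d.p₁.t = d'.p₁.t) : d.p₂.t = d'.p₂.t := by
  obtain ⟨g, p₁, p₂⟩ := d
  obtain ⟨g', p₁', p₂'⟩ := d'
  have hg : g = g' := congrArg Sigma.fst h
  subst hg
  have e1 : p₁ = p₁' := PtO.ext' h1
  subst e1
  have hn : nOf p₁ p₂ = nOf p₁ p₂' := eq_of_heq (Sigma.mk.inj h).2
  have hn' : nHom p₁ p₂ = nHom p₁ p₂' := congrArg Subtype.val hn
  have h3 : p₂.e = p₂'.e := by
    have h4 : nHom p₁ p₂ ≫ p₂.e = nHom p₁ p₂ ≫ p₂'.e := by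
      rw [nHom_comp, hn', nHom_comp]
    haveI : IsIso (nHom p₁ p₂) := by
      unfold nHom
      infer_instance
    exact (cancel_epi _).1 h4
  exact congrArg PtO.t (PtO.e_injective h3)

theorem Dat.exists_elt (h𝒬 : FibCat.IsFibGrpd (SpQuotSt K G aX).p) {T : Over S} (g : T ⟶ U)
    (n : IsoPsh.Sec H (Over.mk g)) (p₁ : PtO (y₁ H) (aT c T) g) :
    ∃ p₂ : PtO (y₂ H) (aT c T) g, (Dat.mk g p₁ p₂).elt = ⟨g, n⟩ := by
  obtain ⟨m, hm⟩ : ∃ m : yg (y₁ H) g ⟶ yg (y₂ H) g, m = n.1 := ⟨_, rfl⟩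
  have hml : (SpQuotSt K G aX).p.IsHomLift (𝟙 T) m := by
    rw [hm]
    exact n.2
  haveI : IsIso m := by
    haveI := hml
    exact IsFibGrpd.isIso_of_isHomLift_id h𝒬 (U := T) m
  have hmb : m.base = eqToHom ((yg_base g).trans (yg_base g).symm) :=
    base_of_lift_id m hml (yg_base g) (yg_base g)
  have hib := inv_base_eq m (yg_base g) (yg_base g) hmb
  obtain ⟨p₂, hp₂⟩ := PtO.exists_of_hom (y := y₂ H) (a := aT c T) (g := g)
    (CategoryTheory.inv m ≫ p₁.e)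
    (comp_base_eq (CategoryTheory.inv m) p₁.e (yg_base g) (yg_base g) rfl hib p₁.e_base')
  refine ⟨p₂, ?_⟩
  have hn : nOf p₁ p₂ = n := by
    apply IsoPsh.Sec.ext
    show nHom p₁ p₂ = n.1
    rw [← hm, ← cancel_mono p₂.e, nHom_comp, hp₂, IsIso.hom_inv_id_assoc]
  show (⟨g, nOf p₁ p₂⟩ : IsoPsh.Elt H T) = ⟨g, n⟩
  rw [hn]

end TQI

end H10PT
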