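import Mathlib
import Groth.Prelude.Def_AlgSt6
import Groth.Agent.Lib.Helper10.TQI4
import Groth.Agent.Lib.Helper10.IsoPsh3
import Groth.Agent.Lib.Helper10.FixedPts

/-!
# Quotient stacks with sheaf torsors: the sheaf of isomorphisms of two torsors, after trivialising the
first one, is the second torsor
-/

set_option autoImplicit false

universe u

open CategoryTheory CategoryTheory.Limits MonoidalCategory CartesianMonoidalCategory MonObj GrpObj
  AlgebraicGeometry Opposite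

namespace H10PT

namespace TQI

open AlgSp AlgSt H10PT.TQ H10PT.TQR Groth.Agent.Lib.Helper10.Fib

variable {S : Scheme.{u}}

section Sec

theorem sec_comp {F F' : Sp S} {T : Over S} (ζ : (yon S).obj T ⟶ F) (f : F ⟶ F') :
    (mkPt (ζ ≫ f)).sec = f.hom.app (op T) (mkPt ζ).sec := rfl

theorem sec_injective {F : Sp S} {T : Over S} {ζ ζ' : (yon S).obj T ⟶ F}
    (h : (mkPt ζ).sec = (mkPt ζ').sec) : ζ = ζ' :=
  (GrothendieckTopology.uliftYonedaEquiv.{u + 1} (AlgSp.J S)).injective h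

theorem sec_yon_map {T V : Over S} (l : T ⟶ V) : (mkPt ((yon S).map l)).sec = ⟨l⟩ :=
  GrothendieckTopology.uliftYonedaEquiv_uliftYoneda_map (AlgSp.J S) l

end Sec

variable {B : Sp S} {K : Precoverage Scheme.{u}} {G : Over B} [GrpObj G]
  {X : Over B} {aX : GAction G X} {U : Over S}

variable [K.HasIsos]
  (H : FibCat.overCat U ⥤ᵇ
    FibCat.fp (FibCat.toSelf (SpQuotSt K G aX)) (FibCat.toSelf (SpQuotSt K G aX)))
  (c : ∀ T : Over S, (yon S).obj T ⟶ X.left)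
  (hX : ∀ (T : Over S) (u v : (yon S).obj T ⟶ X.left), u = v)
  {V : Over S} (k : V ⟶ U) (s : (yon S).obj V ⟶ (tors (y₁ H)).P.left)
  (hs : s ≫ πU (y₁ H) = (yon S).map k)

/-- The base change of the second torsor. -/
noncomputable abbrev Zk : Sp S := pullback (πU (y₂ H)) ((yon S).map k)

section Dat

variable {T : Over S} (ζ : (yon S).obj T ⟶ Zk H k)

/-- The morphism to `V` of a point. -/
noncomputable def lOf : T ⟶ V := (yon S).preimage (ζ ≫ pullback.snd _ _)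

theorem map_lOf : (yon S).map (lOf H k ζ) = ζ ≫ pullback.snd _ _ := (yon S).map_preimage _

include hs in
theorem datOf_aux₁ : ((yon S).map (lOf H k ζ) ≫ s) ≫ πU (y₁ H) = (yon S).map (lOf H k ζ ≫ k) := by
  rw [Category.assoc, hs, ← (yon S).map_comp]

theorem datOf_aux₂ : (ζ ≫ pullback.fst _ _) ≫ πU (y₂ H) = (yon S).map (lOf H k ζ ≫ k) := by
  rw [Category.assoc, pullback.condition, ← Category.assoc, ← map_lOf, ← (yon S).map_comp]

/-- The pair of points attached to a point of the base change of the second torsor. -/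
noncomputable def datOf : Dat H c T where
  g := lOf H k ζ ≫ k
  p₁ := ⟨(yon S).map (lOf H k ζ) ≫ s, hX _ _ _, datOf_aux₁ H k s hs ζ⟩
  p₂ := ⟨ζ ≫ pullback.fst _ _, hX _ _ _, datOf_aux₂ H k ζ⟩

theorem datOf_g : (datOf H c hX k s hs ζ).g = lOf H k ζ ≫ k := rfl

theorem datOf_t₁ : (datOf H c hX k s hs ζ).p₁.t = (yon S).map (lOf H k ζ) ≫ s := rfl

theorem datOf_t₂ : (datOf H c hX k s hs ζ).p₂.t = ζ ≫ pullback.fst _ _ := rfl

theorem lOf_comp {T' : Over S} (κ : T' ⟶ T) : lOf H k ((yon S).map κ ≫ ζ) = κ ≫ lOf H k ζ := by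
  apply (yon S).map_injective
  rw [map_lOf, (yon S).map_comp, map_lOf, Category.assoc]

theorem datOf_pull {T' : Over S} (κ : T' ⟶ T) :
    (datOf H c hX k s hs ζ).pull hX κ = datOf H c hX k s hs ((yon S).map κ ≫ ζ) := by
  apply Dat.ext'
  · rw [Dat.pull_g, datOf_g, datOf_g, lOf_comp, Category.assoc]
  · rw [Dat.pull_t₁, datOf_t₁, datOf_t₁, lOf_comp, (yon S).map_comp, Category.assoc]
  · rw [Dat.pull_t₂, datOf_t₂, datOf_t₂, Category.assoc]

end Dat

section R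

variable (h𝒬 : FibCat.IsFibGrpd (SpQuotSt K G aX).p)
  (hst : Stk.IsStack (J S) (FibCat.fp H (FibCat.diag (FibCat.toSelf (SpQuotSt K G aX)))))

/-- The values of the comparison map. -/
noncomputable def rFun (T : (Over S)ᵒᵖ) (z : (Zk H k).obj.obj T) : IsoPsh.Elt H T.unop :=
  (datOf H c hX k s hs (pt ⟨T.unop, z⟩)).elt

theorem rFun_naturality {T T' : (Over S)ᵒᵖ} (f : T ⟶ T') (z : (Zk H k).obj.obj T) :
    rFun H c hX k s hs T' ((Zk H k).obj.map f z) =
      IsoPsh.mapFun H h𝒬 f.unop (rFun H c hX k s hs T z) := by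
  unfold rFun
  rw [Dat.mapFun_elt hX h𝒬, datOf_pull]
  congr 2
  exact (pt_comp (F := Zk H k) (w := ⟨T'.unop, (Zk H k).obj.map f z⟩) (w' := ⟨T.unop, z⟩)
    ⟨f.unop, rfl⟩).symm

/-- The comparison map from the base change of the second torsor to the sheaf of isomorphisms. -/
noncomputable def r : Zk H k ⟶ IsoPsh.Isp H h𝒬 hst :=
  ObjectProperty.homMk
    { app := fun T => ↾fun z => rFun H c hX k s hs T z
      naturality := fun T T' f => by
        ext z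
        exact rFun_naturality H c hX k s hs h𝒬 f z }

theorem r_sec {T : Over S} (ζ : (yon S).obj T ⟶ Zk H k) :
    (mkPt (ζ ≫ r H c hX k s hs h𝒬 hst)).sec = (datOf H c hX k s hs ζ).elt := by
  show (datOf H c hX k s hs (pt (mkPt ζ))).elt = _
  rw [pt_mkPt]

theorem r_comm : r H c hX k s hs h𝒬 hst ≫ IsoPsh.pI H h𝒬 hst =
    pullback.snd (πU (y₂ H)) ((yon S).map k) ≫ (yon S).map k := by
  apply GrothendieckTopology.hom_ext_uliftYoneda.{u + 1} (AlgSp.J S)
  intro T ζ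
  apply sec_injective
  rw [← Category.assoc, ← Category.assoc, sec_comp, r_sec, IsoPsh.pI_app, Dat.elt_fst, datOf_g,
    ← map_lOf, ← (yon S).map_comp, sec_yon_map]

theorem r_exists {W : Over S} (α : (yon S).obj W ⟶ IsoPsh.Isp H h𝒬 hst)
    (β : (yon S).obj W ⟶ (yon S).obj V)
    (hαβ : α ≫ IsoPsh.pI H h𝒬 hst = β ≫ (yon S).map k) :
    ∃ ζ : (yon S).obj W ⟶ Zk H k, ζ ≫ r H c hX k s hs h𝒬 hst = α ∧
      ζ ≫ pullback.snd (πU (y₂ H)) ((yon S).map k) = β := by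
  obtain ⟨l, hl⟩ := (yon S).map_surjective β
  obtain ⟨g, n, hx⟩ : ∃ (g : W ⟶ U) (n : IsoPsh.Sec H (Over.mk g)),
      (mkPt α).sec = (⟨g, n⟩ : IsoPsh.Elt H W) := ⟨_, _, rfl⟩
  have hg : g = l ≫ k := by
    have h1 : (mkPt (α ≫ IsoPsh.pI H h𝒬 hst)).sec = (mkPt (β ≫ (yon S).map k)).sec := by
      rw [hαβ]
    rw [sec_comp, hx, IsoPsh.pI_app, ← hl, ← (yon S).map_comp, sec_yon_map] at h1
    exact congrArg ULift.down h1
  subst hg
  obtain ⟨p₁, hp₁⟩ : ∃ p₁ : PtO (y₁ H) (aT c W) (l ≫ k), p₁.t = (yon S).map l ≫ s :=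
    ⟨⟨(yon S).map l ≫ s, hX _ _ _, by rw [Category.assoc, hs, ← (yon S).map_comp]⟩, rfl⟩
  obtain ⟨p₂, hp₂⟩ := Dat.exists_elt h𝒬 (l ≫ k) n p₁
  obtain ⟨ζ, hζ⟩ : ∃ ζ : (yon S).obj W ⟶ Zk H k, ζ = pullback.lift p₂.t ((yon S).map l)
      (p₂.hπ.trans ((yon S).map_comp _ _)) := ⟨_, rfl⟩
  have hζ₁ : ζ ≫ pullback.fst _ _ = p₂.t := by rw [hζ, pullback.lift_fst]
  have hζ₂ : ζ ≫ pullback.snd _ _ = (yon S).map l := by rw [hζ, pullback.lift_snd]
  have hlOf : lOf H k ζ = l := by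
    apply (yon S).map_injective
    rw [map_lOf, hζ₂]
  refine ⟨ζ, ?_, hζ₂.trans hl⟩
  apply sec_injective
  rw [r_sec, hx, ← hp₂]
  congr 1
  apply Dat.ext'
  · rw [datOf_g, hlOf]
  · rw [datOf_t₁, hlOf, hp₁]
  · rw [datOf_t₂, hζ₁]

theorem r_unique {W : Over S} (ζ ζ' : (yon S).obj W ⟶ Zk H k)
    (h1 : ζ ≫ r H c hX k s hs h𝒬 hst = ζ' ≫ r H c hX k s hs h𝒬 hst)
    (h2 : ζ ≫ pullback.snd (πU (y₂ H)) ((yon S).map k) =
      ζ' ≫ pullback.snd (πU (y₂ H)) ((yon S).map k)) : ζ = ζ' := by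
  have hl : lOf H k ζ = lOf H k ζ' := by
    apply (yon S).map_injective
    rw [map_lOf, map_lOf, h2]
  have he : (datOf H c hX k s hs ζ).elt = (datOf H c hX k s hs ζ').elt := by
    rw [← r_sec H c hX k s hs h𝒬 hst, ← r_sec H c hX k s hs h𝒬 hst, h1]
  have ht := Dat.elt_inj he (by rw [datOf_t₁, datOf_t₁, hl])
  rw [datOf_t₂, datOf_t₂] at ht
  exact pullback.hom_ext ht h2

theorem isPullback_r : IsPullback (r H c hX k s hs h𝒬 hst)
    (pullback.snd (πU (y₂ H)) ((yon S).map k)) (IsoPsh.pI H h𝒬 hst) ((yon S).map k) :=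
  H10PT.FixedPts.isPullback_of_yon_lift (r_comm H c hX k s hs h𝒬 hst)
    (fun W α β h => r_exists H c hX k s hs h𝒬 hst α β h)
    (fun W ζ ζ' h1 h2 => r_unique H c hX k s hs h𝒬 hst ζ ζ' h1 h2)

end R

end TQI

end H10PT
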