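import Mathlib
import Groth.Prelude.Def_AlgSt6
import Groth.Agent.Lib.Helper10.BGP1
import Groth.Agent.Lib.Helper10.TQI5
import Groth.Agent.Lib.Helper10.TQ6
import Groth.Agent.Lib.Helper10.StkFp
import Groth.Agent.Lib.Helper28.AlgSt.StackDesc
import Groth.Agent.Lib.Helper28.AlgSt.DiagRep

/-!
# Classifying stacks with sheaf torsors: the diagonal is representable, with the properties of `G ⟶ B`
-/

set_option autoImplicit false

universe u

open CategoryTheory CategoryTheory.Limits MonoidalCategory CartesianMonoidalCategory MonObj GrpObj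
  AlgebraicGeometry Opposite

namespace H10PT

namespace BGP

open AlgSp AlgSt H10PT.TQR H10PT.TQI H10PT.FD Groth.Agent.Lib.Helper15 Groth.Agent.Lib.Helper16

variable {S : Scheme.{u}} {B : Sp S} {G : Over B} [GrpObj G] {X : Over B} {aX : GAction G X}

/-- An fppf torsor is trivialised by an fppf covering of its base by schemes. -/
theorem exists_cover (A : SpQuotObj Scheme.fppfPrecoverage G aX) (U : Over S) (h : A.base = U) :
    ∃ (Idx : Type u) (V : Idx → Over S) (k : ∀ i, V i ⟶ U) (s : ∀ i, (yon S).obj (V i) ⟶ A.P.left),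
      IsFppfCover (fun i => (yon S).obj (V i)) (fun i => (yon S).map (k i)) ∧
      ∀ i, s i ≫ (πc A ≫ (yon S).map (eqToHom h)) = (yon S).map (k i) := by
  classical
  subst h
  have hid : πc A ≫ (yon S).map (eqToHom rfl) = A.π.left := by
    rw [eqToHom_refl, (yon S).map_id]
    exact Category.comp_id _
  rw [hid]
  obtain ⟨R, hR, hsec⟩ := A.loc
  have hR' : R ∈ Scheme.precoverage (@Flat ⊓ @LocallyOfFinitePresentation) A.base.left := hR
  obtain ⟨h1, h2⟩ := hR'
  rw [Presieve.mem_comap_jointlySurjectivePrecoverage_iff] at h1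
  choose V f hf v hv using h1
  choose s hs using fun x => hsec (f x) (hf x)
  have hfl : ∀ x, Flat (f x) := fun x => (h2 (hf x)).1
  have hfp : ∀ x, LocallyOfFinitePresentation (f x) := fun x => (h2 (hf x)).2
  obtain ⟨k, hk⟩ : ∃ k : ∀ x, Over.mk (f x ≫ A.base.hom) ⟶ A.base, k = fun x => Over.homMk (f x) :=
    ⟨_, rfl⟩
  have hkl : ∀ x, (k x).left = f x := fun x => by rw [hk]; rfl
  have hcov : IsFppfCover (fun x => (yon S).obj (Over.mk (f x ≫ A.base.hom)))
      (fun x => (yon S).map (k x)) :=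
    isFppfCover_yon _ k (fun x => by rw [hkl]; exact hfl x) (fun x => by rw [hkl]; exact hfp x)
      (fun x => ⟨x, v x, by rw [hkl]; exact hv x⟩)
  exact ⟨A.base.left, fun x => Over.mk (f x ≫ A.base.hom), k, s, hcov, fun x => by rw [hs x, hk]⟩

variable (G aX) in
theorem isStack_fp_diag {U : Over S}
    (H : FibCat.overCat U ⥤ᵇ FibCat.fp (FibCat.toSelf (SpQuotSt Scheme.fppfPrecoverage G aX))
      (FibCat.toSelf (SpQuotSt Scheme.fppfPrecoverage G aX))) :
    Stk.IsStack (J S)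
      (FibCat.fp H (FibCat.diag (FibCat.toSelf (SpQuotSt Scheme.fppfPrecoverage G aX)))) := by
  have hQ : Stk.IsStack (J S) (SpQuotSt Scheme.fppfPrecoverage G aX) := H10PT.TQ.isStack _ G aX rfl
  have hS : Stk.IsStack (J S) (FibCat.selfOver (Over S)) :=
    Groth.Agent.Lib.Helper28.AlgSt.StackDesc.isStack_of_repByAlgSp
      Groth.Agent.Lib.Helper28.AlgSt.DiagRep.repByAlgSp_selfOver
  have hS' : Stk.IsPrestack (J S) (FibCat.selfOver (Over S)) :=
    ⟨hS.1, fun _ R hR => by
      have : (Stk.resSieve R (FibCat.selfOver (Over S))).IsEquivalence := hS.2 R hR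
      exact ⟨inferInstance, inferInstance⟩⟩
  have hQQ : Stk.IsStack (J S) (FibCat.fp (FibCat.toSelf (SpQuotSt Scheme.fppfPrecoverage G aX))
      (FibCat.toSelf (SpQuotSt Scheme.fppfPrecoverage G aX))) :=
    Groth.Agent.Lib.Helper10.StkFp.isStack_fp _ _ (J S) hQ hQ hS'
  have hQQ' : Stk.IsPrestack (J S) (FibCat.fp (FibCat.toSelf (SpQuotSt Scheme.fppfPrecoverage G aX))
      (FibCat.toSelf (SpQuotSt Scheme.fppfPrecoverage G aX))) :=
    ⟨hQQ.1, fun _ R hR => by
      have : (Stk.resSieve R _).IsEquivalence := hQQ.2 R hR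
      exact ⟨inferInstance, inferInstance⟩⟩
  exact Groth.Agent.Lib.Helper10.StkFp.isStack_fp _ _ (J S)
    (Groth.Agent.Lib.Helper28.AlgSt.StackDesc.isStack_overCat U) hQ hQQ'

/-- The diagonal of the classifying stack (the case of a terminal `X`) is representable by the sheaves of
isomorphisms, with any property of `G ⟶ B` that is stable under base change and fppf local on the base. -/
theorem repByAlgSpWith_diag (P : MorphismProperty (Sp S)) [P.IsStableUnderBaseChange]
    (hloc : IsLocalOnBase IsFppfCover P) (hB : IsAlgSpace B) (hG : IsAlgSpace G.left)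
    (hP : P G.hom) (c : ∀ T : Over S, (yon S).obj T ⟶ X.left)
    (hX : ∀ (T : Over S) (u v : (yon S).obj T ⟶ X.left), u = v) :
    AlgSt.RepByAlgSpWith P
      (FibCat.diag (FibCat.toSelf (SpQuotSt Scheme.fppfPrecoverage G aX))) := by
  intro U H
  have h𝒬 : FibCat.IsFibGrpd (SpQuotSt Scheme.fppfPrecoverage G aX).p :=
    H10PT.TQ.isFibGrpd Scheme.fppfPrecoverage G aX
  have hst := isStack_fp_diag G aX H
  obtain ⟨Idx, V, k, s, hcov, hs⟩ := exists_cover (tors (y₁ H)) U (tors_base (y₁ H))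
  have hπ₂ : P (πU (y₂ H)) := P_πc P hloc hB hG hP (tors (y₂ H)) U (tors_base (y₂ H))
  have hA₂ : IsAlgSpace (tors (y₂ H)).P.left := isAlgSpace_torsor hB G hG aX _
  have hZ : ∀ i, IsAlgSpace (Zk H (k i)) := fun i =>
    isAlgSpace_of_isPullback hA₂ (IsAlgSpace.yon_obj U).diag (IsAlgSpace.yon_obj (V i))
      (IsPullback.of_hasPullback _ _)
  have sq : ∀ i, IsPullback (r H c hX (k i) (s i) (hs i) h𝒬 hst)
      (pullback.snd (πU (y₂ H)) ((yon S).map (k i))) (IsoPsh.pI H h𝒬 hst) ((yon S).map (k i)) :=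
    fun i => isPullback_r H c hX (k i) (s i) (hs i) h𝒬 hst
  have hI : IsAlgSpace (IsoPsh.Isp H h𝒬 hst) :=
    isAlgSpace_of_fppf_cover (IsAlgSpace.yon_obj U) _ (fun i => IsAlgSpace.yon_obj _) _ hcov
      (IsoPsh.Isp H h𝒬 hst) (IsoPsh.pI H h𝒬 hst) (fun i => (hZ i).of_iso (sq i).isoPullback)
  have hPI : P (IsoPsh.pI H h𝒬 hst) :=
    (hloc _ _ (IsAlgSpace.yon_obj U) (fun i => IsAlgSpace.yon_obj _) hcov (IsoPsh.pI H h𝒬 hst) hI
      (fun i => Zk H (k i)) (fun i => pullback.snd (πU (y₂ H)) ((yon S).map (k i)))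
      (fun i => r H c hX (k i) (s i) (hs i) h𝒬 hst) hZ sq).mpr
      (fun i => P.of_isPullback (IsPullback.of_hasPullback _ _) hπ₂)
  exact ⟨⟨IsoPsh.Isp H h𝒬 hst, hI⟩, IsoPsh.Esp H h𝒬 hst, IsoPsh.isEquivOver_Esp H h𝒬 hst, hPI⟩

end BGP

end H10PT
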