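import Groth.Agent.Lib.Helper10.QSC6
import Groth.Agent.Lib.Helper10.StkLoc
import Groth.Agent.Lib.Helper28.QuotSt.Iso
import Groth.Prelude.Def_ChGrp

/-!
# Helper library (helper10): points calculus for torsors of schemes over a base

* `isPullback_of_pts`: cartesian squares can be checked on points.
* `hom_ext_of_sieve`, `exists_glue`: morphisms of schemes over `S` are an fppf sheaf.
* `sm`: the action on points; `tor_inv`, `tor_diff`: the torsor property on points.
* `desc`: an invariant morphism descends along a torsor; `cart_of_equivariant`: an equivariant morphism of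
  torsors is cartesian.
-/

set_option autoImplicit false
set_option linter.style.haveILetI false
set_option backward.isDefEq.respectTransparency false
set_option backward.isDefEq.respectTransparency.types false
universe v₀ u₀ u
open CategoryTheory CategoryTheory.Limits AlgebraicGeometry Opposite Functor MonoidalCategory
  CartesianMonoidalCategory MonObj GrpObj

namespace H10PT.BPQ

open H10PT.QSC AlgSp AlgSt

section Cat

variable {C : Type u₀} [Category.{v₀} C]

theorem isPullback_of_pts {P X Y Z : C} (p₁ : P ⟶ X) (p₂ : P ⟶ Y) (f : X ⟶ Z) (g : Y ⟶ Z)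
    (w : p₁ ≫ f = p₂ ≫ g)
    (h : ∀ (T : C) (a : T ⟶ X) (b : T ⟶ Y), a ≫ f = b ≫ g →
      ∃! l : T ⟶ P, l ≫ p₁ = a ∧ l ≫ p₂ = b) : IsPullback p₁ p₂ f g := by
  refine ⟨⟨w⟩, ⟨PullbackCone.IsLimit.mk w (fun s => (h _ s.fst s.snd s.condition).choose)
    (fun s => (h _ s.fst s.snd s.condition).choose_spec.1.1)
    (fun s => (h _ s.fst s.snd s.condition).choose_spec.1.2) ?_⟩⟩
  intro s m h1 h2
  exact (h _ s.fst s.snd s.condition).choose_spec.2 m ⟨h1, h2⟩

end Cat

variable {S : Scheme.{u}}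

section Sheaf

theorem hom_ext_of_sieve {W Q : Over S} (R : Sieve W) (hR : R ∈ J S W) (a b : W ⟶ Q)
    (h : ∀ ⦃V : Over S⦄ (k : V ⟶ W), R k → k ≫ a = k ≫ b) : a = b := by
  have hsh : Presieve.IsSheaf (J S) (yoneda.obj Q) :=
    GrothendieckTopology.Subcanonical.isSheaf_of_isRepresentable _
  apply (hsh R hR).isSeparatedFor.ext
  intro V k hk
  exact h k hk

theorem exists_glue {W Q : Over S} (R : Sieve W) (hR : R ∈ J S W)
    (x : ∀ ⦃V : Over S⦄ (k : V ⟶ W), R k → (V ⟶ Q))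
    (hx : ∀ ⦃V V' : Over S⦄ (k : V ⟶ W) (hk : R k) (l : V' ⟶ V),
      l ≫ x k hk = x (l ≫ k) (R.downward_closed hk l)) :
    ∃ a : W ⟶ Q, ∀ ⦃V : Over S⦄ (k : V ⟶ W) (hk : R k), k ≫ a = x k hk := by
  have hsh : Presieve.IsSheaf (J S) (yoneda.obj Q) :=
    GrothendieckTopology.Subcanonical.isSheaf_of_isRepresentable _
  obtain ⟨a, ha, -⟩ := hsh R hR (fun V k hk => x k hk) (by
    intro V₁ V₂ Z g₁ g₂ f₁ f₂ h₁ h₂ heq
    show g₁ ≫ x f₁ h₁ = g₂ ≫ x f₂ h₂
    rw [hx f₁ h₁ g₁, hx f₂ h₂ g₂]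
    congr 1)
  exact ⟨a, fun V k hk => ha k hk⟩

/-- the sieve of morphisms along which `π` has a section -/
def secS {P B : Over S} (π : P ⟶ B) : Sieve B where
  arrows V f := ∃ s : V ⟶ P, s ≫ π = f
  downward_closed := by
    rintro V W f ⟨s, rfl⟩ k
    exact ⟨k ≫ s, Category.assoc _ _ _⟩

theorem secS_mem_of_loc {P B : Over S} (π : P ⟶ B)
    (h : NonAbH1.IsLocallyTrivialFor Scheme.fppfPrecoverage (Over.mk π.left : Over B.left)) :
    secS π ∈ J S B := by
  obtain ⟨R, hR, hsec⟩ := h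
  obtain ⟨κ, Y, c, rfl⟩ := R.exists_eq_ofArrows
  let V : κ → Over S := fun l => Over.mk (c l ≫ B.hom)
  let ψ : ∀ l, V l ⟶ B := fun l => Over.homMk (c l) rfl
  have h1 : Sieve.ofArrows V ψ ∈ QuotSh.J Scheme.fppfPrecoverage S B :=
    Groth.Agent.Lib.Helper29.QuotUnpack.mem_J_of_cover Scheme.fppfPrecoverage V ψ hR
  refine (QuotSh.J Scheme.fppfPrecoverage S).superset_covering ?_ h1
  rw [Sieve.ofArrows, Sieve.generate_le_iff]
  rintro W _ ⟨l⟩
  obtain ⟨s, hs⟩ := hsec (c l) (Presieve.ofArrows.mk l)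
  have hs' : s ≫ π.left = c l := hs
  refine ⟨Over.homMk s ?_, ?_⟩
  · show s ≫ P.hom = c l ≫ B.hom
    rw [← hs', Category.assoc, Over.w]
  · ext
    exact hs'

theorem loc_of_secS_mem {P B : Over S} (π : P ⟶ B) (h : secS π ∈ J S B) :
    NonAbH1.IsLocallyTrivialFor Scheme.fppfPrecoverage (Over.mk π.left : Over B.left) := by
  apply loc_of_hasSecLoc
  apply H10PT.TQ.hasSecLoc_of_secSieve_mem
  refine (J S).superset_covering ?_ h
  rintro V f ⟨s, rfl⟩
  exact ⟨(yon S).map s, (Functor.map_comp _ _ _).symm⟩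

end Sheaf

section Act

variable {G X : Over S} [GrpObj G]

/-- the action on points -/
noncomputable def sm (a : AlgGrp.Action G X) {T : Over S} (g : T ⟶ G) (x : T ⟶ X) : T ⟶ X := lift g x ≫ a.act

theorem comp_sm (a : AlgGrp.Action G X) {T T' : Over S} (k : T' ⟶ T) (g : T ⟶ G) (x : T ⟶ X) :
    k ≫ sm a g x = sm a (k ≫ g) (k ≫ x) := by
  unfold sm
  rw [← Category.assoc, comp_lift]

@[simp] theorem one_sm (a : AlgGrp.Action G X) {T : Over S} (x : T ⟶ X) : sm a 1 x = x :=
  AlgGrp.Action.lift_one_act a x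

theorem mul_sm (a : AlgGrp.Action G X) {T : Over S} (g g' : T ⟶ G) (x : T ⟶ X) :
    sm a (g * g') x = sm a g (sm a g' x) := AlgGrp.Action.lift_mul_act a g g' x

theorem inv_sm_sm (a : AlgGrp.Action G X) {T : Over S} (g : T ⟶ G) (x : T ⟶ X) :
    sm a g⁻¹ (sm a g x) = x := by
  rw [← mul_sm, inv_mul_cancel, one_sm]

theorem sm_inv_sm (a : AlgGrp.Action G X) {T : Over S} (g : T ⟶ G) (x : T ⟶ X) :
    sm a g (sm a g⁻¹ x) = x := by
  rw [← mul_sm, mul_inv_cancel, one_sm]

/-- equivariance on points -/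
theorem sm_comp_of_eqv {Y : Over S} (a : AlgGrp.Action G X) (b : AlgGrp.Action G Y) (f : X ⟶ Y)
    (hf : a.act ≫ f = (G ◁ f) ≫ b.act) {T : Over S} (g : T ⟶ G) (x : T ⟶ X) :
    sm a g x ≫ f = sm b g (x ≫ f) := by
  unfold sm
  rw [Category.assoc, hf, ← Category.assoc, lift_whiskerLeft]

theorem eqv_of_sm {Y : Over S} (a : AlgGrp.Action G X) (b : AlgGrp.Action G Y) (f : X ⟶ Y)
    (h : ∀ (T : Over S) (g : T ⟶ G) (x : T ⟶ X), sm a g x ≫ f = sm b g (x ≫ f)) :
    a.act ≫ f = (G ◁ f) ≫ b.act := by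
  apply AlgGrp.Action.hom_ext_lift₂
  intro T g x
  have := h T g x
  unfold sm at this
  rw [← Category.assoc, this, ← Category.assoc, lift_whiskerLeft]

/-- an action from its laws on points -/
noncomputable def actionOfPts {P : Over S} (act : G ⊗ P ⟶ P)
    (h1 : ∀ (T : Over S) (p : T ⟶ P), lift (1 : T ⟶ G) p ≫ act = p)
    (h2 : ∀ (T : Over S) (g h : T ⟶ G) (p : T ⟶ P),
      lift (g * h) p ≫ act = lift g (lift h p ≫ act) ≫ act) : AlgGrp.Action G P where
  act := act
  one_act := (one_act_iff act).2 h1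
  mul_act := (mul_act_iff act).2 h2

end Act

section Torsor

variable {G P B : Over S} [GrpObj G] (a : AlgGrp.Action G P) (π : P ⟶ B)
  (cart : IsPullback a.act (snd G P) π π)

include cart in
theorem tor_inv {T : Over S} (g : T ⟶ G) (p : T ⟶ P) : sm a g p ≫ π = p ≫ π := by
  unfold sm
  rw [Category.assoc, cart.w, ← Category.assoc, lift_snd]

include cart in
theorem tor_diff {T : Over S} (p p' : T ⟶ P) (h : p ≫ π = p' ≫ π) :
    ∃! g : T ⟶ G, sm a g p' = p := by
  refine ⟨cart.lift p p' h ≫ fst G P, ?_, ?_⟩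
  · have e : lift (cart.lift p p' h ≫ fst G P) p' = cart.lift p p' h := by
      apply CartesianMonoidalCategory.hom_ext
      · simp
      · simp
    show lift _ _ ≫ a.act = p
    rw [e, cart.lift_fst]
  · intro g hg
    have e : lift g p' = cart.lift p p' h := by
      apply cart.hom_ext
      · rw [cart.lift_fst]
        exact hg
      · rw [cart.lift_snd, lift_snd]
    rw [← e, lift_fst]

include cart in
theorem tor_free {T : Over S} (g : T ⟶ G) (p : T ⟶ P) (h : sm a g p = p) : g = 1 := by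
  obtain ⟨g₀, -, hu⟩ := tor_diff a π cart p p rfl
  rw [hu g h, hu 1 (one_sm a p)]

variable (hloc : secS π ∈ J S B)

include hloc in
theorem epi_of_secS {W : Over S} (x y : B ⟶ W) (h : π ≫ x = π ≫ y) : x = y := by
  apply hom_ext_of_sieve _ hloc
  rintro V f ⟨s, rfl⟩
  rw [Category.assoc, Category.assoc, h]

include hloc in
theorem whisker_epi_of_secS {E W : Over S} (x y : E ⊗ B ⟶ W) (h : (E ◁ π) ≫ x = (E ◁ π) ≫ y) :
    x = y := by
  apply hom_ext_of_sieve _ ((J S).pullback_stable (snd E B) hloc)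
  rintro V f ⟨s, hs⟩
  have e : f = lift (f ≫ fst E B) s ≫ (E ◁ π) := by
    apply CartesianMonoidalCategory.hom_ext
    · rw [Category.assoc, whiskerLeft_fst, lift_fst]
    · rw [Category.assoc, whiskerLeft_snd, ← Category.assoc, lift_snd, hs]
  rw [e, Category.assoc, Category.assoc, h]

include cart hloc in
/-- an invariant morphism descends along a torsor -/
theorem desc {W : Over S} (f₀ : P ⟶ W) (hf₀ : a.act ≫ f₀ = snd G P ≫ f₀) :
    ∃ F : B ⟶ W, π ≫ F = f₀ := by
  have hinv : ∀ {T : Over S} (p p' : T ⟶ P), p ≫ π = p' ≫ π → p ≫ f₀ = p' ≫ f₀ := by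
    intro T p p' h
    obtain ⟨g, hg, -⟩ := tor_diff a π cart p p' h
    rw [← hg]
    unfold sm
    rw [Category.assoc, hf₀, ← Category.assoc, lift_snd]
  obtain ⟨F, hF⟩ := exists_glue (secS π) hloc (fun V k hk => hk.choose ≫ f₀) (by
    intro V V' k hk l
    rw [← Category.assoc]
    apply hinv
    rw [Category.assoc, hk.choose_spec]
    exact ((secS π).downward_closed hk l).choose_spec.symm)
  refine ⟨F, ?_⟩
  have h1 : secS π π := ⟨𝟙 P, Category.id_comp _⟩
  rw [hF π h1]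
  have := hinv h1.choose (𝟙 P) (by rw [h1.choose_spec, Category.id_comp])
  rw [this, Category.id_comp]

end Torsor

section Cart

variable {G P B P' B' : Over S} [GrpObj G] (a : AlgGrp.Action G P) (π : P ⟶ B)
  (cart : IsPullback a.act (snd G P) π π) (hloc : secS π ∈ J S B)
  (a' : AlgGrp.Action G P') (π' : P' ⟶ B') (cart' : IsPullback a'.act (snd G P') π' π')

include cart hloc cart' in
/-- an equivariant morphism of torsors is cartesian -/
theorem cart_of_equivariant (F : P ⟶ P') (b : B ⟶ B') (hF : a.act ≫ F = (G ◁ F) ≫ a'.act)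
    (hb : F ≫ π' = π ≫ b) : IsPullback F π π' b := by
  have huniq : ∀ {V : Over S} (q₁ q₂ : V ⟶ P), q₁ ≫ F = q₂ ≫ F → q₁ ≫ π = q₂ ≫ π → q₁ = q₂ := by
    intro V q₁ q₂ h1 h2
    obtain ⟨g, hg, -⟩ := tor_diff a π cart q₁ q₂ h2
    have h3 : sm a' g (q₂ ≫ F) = q₂ ≫ F := by
      rw [← sm_comp_of_eqv a a' F hF, hg, h1]
    have h4 := tor_free a' π' cart' g (q₂ ≫ F) h3
    rw [← hg, h4, one_sm]
  apply isPullback_of_pts _ _ _ _ hb
  intro V q' t hq
  have hex : ∃ q : V ⟶ P, q ≫ F = q' ∧ q ≫ π = t := by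
    have hloc' : ∀ ⦃V' : Over S⦄ (l : V' ⟶ V), (secS π).pullback t l →
        ∃ x : V' ⟶ P, x ≫ F = l ≫ q' ∧ x ≫ π = l ≫ t := by
      rintro V' l ⟨q₀, hq₀⟩
      have h1 : (l ≫ q') ≫ π' = (q₀ ≫ F) ≫ π' :=
        calc (l ≫ q') ≫ π' = l ≫ t ≫ b := by rw [Category.assoc, hq]
          _ = (q₀ ≫ π) ≫ b := by rw [hq₀, Category.assoc]
          _ = (q₀ ≫ F) ≫ π' := by rw [Category.assoc, Category.assoc, hb]
      obtain ⟨g, hg, -⟩ := tor_diff a' π' cart' (l ≫ q') (q₀ ≫ F) h1
      refine ⟨sm a g q₀, ?_, ?_⟩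
      · rw [sm_comp_of_eqv a a' F hF, hg]
      · rw [tor_inv a π cart, hq₀]
    obtain ⟨q, hq⟩ := exists_glue ((secS π).pullback t) ((J S).pullback_stable t hloc)
      (fun V' l hl => (hloc' l hl).choose) (by
        intro V' V'' l hl k
        apply huniq
        · rw [Category.assoc, (hloc' l hl).choose_spec.1,
            (hloc' (k ≫ l) (((secS π).pullback t).downward_closed hl k)).choose_spec.1,
            Category.assoc]
        · rw [Category.assoc, (hloc' l hl).choose_spec.2,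
            (hloc' (k ≫ l) (((secS π).pullback t).downward_closed hl k)).choose_spec.2,
            Category.assoc])
    refine ⟨q, ?_, ?_⟩
    · apply hom_ext_of_sieve _ ((J S).pullback_stable t hloc)
      intro V' l hl
      rw [← Category.assoc, hq l hl, (hloc' l hl).choose_spec.1]
    · apply hom_ext_of_sieve _ ((J S).pullback_stable t hloc)
      intro V' l hl
      rw [← Category.assoc, hq l hl, (hloc' l hl).choose_spec.2]
  obtain ⟨q, hq1, hq2⟩ := hex
  refine ⟨q, ⟨hq1, hq2⟩, ?_⟩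
  rintro q₂ ⟨h1, h2⟩
  exact huniq _ _ (h1.trans hq1.symm) (h2.trans hq2.symm)

end Cart

end H10PT.BPQ
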