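import Groth.Agent.Lib.Helper10.BPQ1

/-!
# Helper library (helper10): balanced products, the restriction functor `[Y/G] ⟶ [Z/H]` on objects
-/

set_option autoImplicit false
set_option linter.style.haveILetI false
set_option backward.isDefEq.respectTransparency false
set_option backward.isDefEq.respectTransparency.types false
universe v₀ u₀ u
open CategoryTheory CategoryTheory.Limits AlgebraicGeometry Opposite Functor MonoidalCategory
  CartesianMonoidalCategory MonObj GrpObj

namespace H10PT.BPQ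

open H10PT.QSC AlgSp AlgSt

variable {S : Scheme.{u}} {G H Z Y : Over S} [GrpObj G] [GrpObj H]

section Pts

variable (j : G ⊗ Z ⟶ Y)

/-- `j` on points -/
noncomputable def jp {T : Over S} (g : T ⟶ G) (z : T ⟶ Z) : T ⟶ Y := lift g z ≫ j

theorem comp_jp {T T' : Over S} (k : T' ⟶ T) (g : T ⟶ G) (z : T ⟶ Z) :
    k ≫ jp j g z = jp j (k ≫ g) (k ≫ z) := by
  unfold jp
  rw [← Category.assoc, comp_lift]

variable (i : H ⟶ G) [IsMonHom i] (aZ : AlgGrp.Action H Z) (aY : AlgGrp.Action G Y)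
  (hY : ChGrp.IsBalProd Scheme.fppfPrecoverage i aZ aY j)

include hY in
theorem jp_mul {T : Over S} (g' g : T ⟶ G) (z : T ⟶ Z) :
    jp j (g' * g) z = sm aY g' (jp j g z) := by
  have h : ((NonAbH1.trivialAction G).prod (AlgGrp.Action.trivial G Z)).act ≫ j
      = (G ◁ j) ≫ aY.act := hY.1
  have h2 : lift g' (lift g z) ≫ ((NonAbH1.trivialAction G).prod (AlgGrp.Action.trivial G Z)).act ≫ j
      = lift g' (lift g z) ≫ (G ◁ j) ≫ aY.act := by rw [h]
  rw [← Category.assoc, AlgGrp.Action.lift_prod_act, AlgGrp.Action.lift_trivial_act,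
    ← Category.assoc, lift_whiskerLeft] at h2
  have h3 : lift g' g ≫ (NonAbH1.trivialAction G).act = g' * g := (Hom.mul_def g' g).symm
  rw [h3] at h2
  exact h2

theorem sm_twist {T : Over S} (h : T ⟶ H) (g : T ⟶ G) (z : T ⟶ Z) :
    sm (ChGrp.twist i aZ) h (lift g z) = lift (g * (h ≫ i)⁻¹) (sm aZ h z) :=
  ChGrp.lift_twist_act i aZ h g z

include hY in
theorem jp_twist {T : Over S} (g : T ⟶ G) (h : T ⟶ H) (z : T ⟶ Z) :
    jp j (g * (h ≫ i)⁻¹) (sm aZ h z) = jp j g z := by
  have := tor_inv (ChGrp.twist i aZ) j hY.2.1 h (lift g z)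
  rw [sm_twist] at this
  exact this

include hY in
theorem jp_diff {T : Over S} (g₁ g₂ : T ⟶ G) (z₁ z₂ : T ⟶ Z) (heq : jp j g₁ z₁ = jp j g₂ z₂) :
    ∃! h : T ⟶ H, g₂ * (h ≫ i)⁻¹ = g₁ ∧ sm aZ h z₂ = z₁ := by
  obtain ⟨h, hh, hu⟩ := tor_diff (ChGrp.twist i aZ) j hY.2.1 (lift g₁ z₁) (lift g₂ z₂) heq
  rw [sm_twist] at hh
  refine ⟨h, ⟨?_, ?_⟩, ?_⟩
  · have := congrArg (fun k => k ≫ fst G Z) hh
    simpa using this
  · have := congrArg (fun k => k ≫ snd G Z) hh
    simpa using this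
  · rintro h' ⟨e1, e2⟩
    apply hu
    rw [sm_twist, e1, e2]

include hY in
theorem secS_j_mem : secS j ∈ J S Y := secS_mem_of_loc j hY.2.2

/-- the inclusion `z ↦ [1, z]` of `Z` into the balanced product -/
noncomputable def iotaZ : Z ⟶ Y := jp j 1 (𝟙 Z)

theorem comp_iotaZ {T : Over S} (z : T ⟶ Z) : z ≫ iotaZ j = jp j 1 z := by
  unfold iotaZ
  rw [comp_jp, MonObj.comp_one, Category.comp_id]

end Pts

section Obj

variable {i : H ⟶ G} [IsMonHom i] {aZ : AlgGrp.Action H Z} {aY : AlgGrp.Action G Y} (j : G ⊗ Z ⟶ Y)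
  (hY : ChGrp.IsBalProd Scheme.fppfPrecoverage i aZ aY j)
  (A : QuotObj Scheme.fppfPrecoverage G aY)

/-- the total space of the restricted torsor -/
noncomputable def PP : Over S := pullback A.φ (iotaZ j)

noncomputable def pfst : PP j A ⟶ A.P := pullback.fst _ _
noncomputable def psnd : PP j A ⟶ Z := pullback.snd _ _

theorem PP_w : pfst j A ≫ A.φ = jp j 1 (psnd j A) := by
  rw [← comp_iotaZ]
  exact pullback.condition

variable {j A} in
noncomputable def mkP {T : Over S} (q : T ⟶ A.P) (z : T ⟶ Z) (h : q ≫ A.φ = jp j 1 z) : T ⟶ PP j A :=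
  pullback.lift q z (by rw [h, comp_iotaZ])

variable {j A} in
@[simp] theorem mkP_fst {T : Over S} (q : T ⟶ A.P) (z : T ⟶ Z) (h : q ≫ A.φ = jp j 1 z) :
    mkP q z h ≫ pfst j A = q := pullback.lift_fst _ _ _

variable {j A} in
@[simp] theorem mkP_snd {T : Over S} (q : T ⟶ A.P) (z : T ⟶ Z) (h : q ≫ A.φ = jp j 1 z) :
    mkP q z h ≫ psnd j A = z := pullback.lift_snd _ _ _

variable {j A} in
theorem PP_ext {T : Over S} (a b : T ⟶ PP j A) (h1 : a ≫ pfst j A = b ≫ pfst j A)
    (h2 : a ≫ psnd j A = b ≫ psnd j A) : a = b := pullback.hom_ext h1 h2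

variable {j A} in
theorem pt_w {T : Over S} (p : T ⟶ PP j A) : (p ≫ pfst j A) ≫ A.φ = jp j 1 (p ≫ psnd j A) := by
  rw [Category.assoc, PP_w, comp_jp, MonObj.comp_one]

include hY in
theorem hact_w {T : Over S} (h : T ⟶ H) (p : T ⟶ PP j A) :
    sm A.act (h ≫ i) (p ≫ pfst j A) ≫ A.φ = jp j 1 (sm aZ h (p ≫ psnd j A)) := by
  rw [sm_comp_of_eqv A.act aY A.φ A.eqv, pt_w, ← jp_mul j i aZ aY hY, _root_.mul_one,
    ← jp_twist j i aZ aY hY (h ≫ i) h, mul_inv_cancel]

/-- the `H`-action on points of `PP` -/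
noncomputable def hact {T : Over S} (h : T ⟶ H) (p : T ⟶ PP j A) : T ⟶ PP j A :=
  mkP (sm A.act (h ≫ i) (p ≫ pfst j A)) (sm aZ h (p ≫ psnd j A)) (hact_w j hY A h p)

theorem comp_hact {T T' : Over S} (k : T' ⟶ T) (h : T ⟶ H) (p : T ⟶ PP j A) :
    k ≫ hact j hY A h p = hact j hY A (k ≫ h) (k ≫ p) := by
  apply PP_ext
  · unfold hact
    rw [Category.assoc, mkP_fst, mkP_fst, comp_sm, Category.assoc, Category.assoc]
  · unfold hact
    rw [Category.assoc, mkP_snd, mkP_snd, comp_sm, Category.assoc]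

/-- the `H`-action morphism on `PP` -/
noncomputable def actP : H ⊗ PP j A ⟶ PP j A := hact j hY A (fst H (PP j A)) (snd H (PP j A))

theorem lift_actP {T : Over S} (h : T ⟶ H) (p : T ⟶ PP j A) :
    lift h p ≫ actP j hY A = hact j hY A h p := by
  unfold actP
  rw [comp_hact, lift_fst, lift_snd]

/-- the `H`-action on `PP` -/
noncomputable def aP : AlgGrp.Action H (PP j A) :=
  actionOfPts (actP j hY A)
    (by
      intro T p
      rw [lift_actP]
      apply PP_ext
      · unfold hact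
        rw [mkP_fst, MonObj.one_comp, one_sm]
      · unfold hact
        rw [mkP_snd, one_sm])
    (by
      intro T g h p
      rw [lift_actP, lift_actP, lift_actP]
      apply PP_ext
      · unfold hact
        rw [mkP_fst, mkP_fst, mkP_fst, MonObj.mul_comp, mul_sm]
      · unfold hact
        rw [mkP_snd, mkP_snd, mkP_snd, mul_sm])

theorem sm_aP {T : Over S} (h : T ⟶ H) (p : T ⟶ PP j A) :
    sm (aP j hY A) h p = hact j hY A h p := lift_actP j hY A h p

theorem sm_aP_fst {T : Over S} (h : T ⟶ H) (p : T ⟶ PP j A) :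
    sm (aP j hY A) h p ≫ pfst j A = sm A.act (h ≫ i) (p ≫ pfst j A) := by
  rw [sm_aP]
  unfold hact
  rw [mkP_fst]

theorem sm_aP_snd {T : Over S} (h : T ⟶ H) (p : T ⟶ PP j A) :
    sm (aP j hY A) h p ≫ psnd j A = sm aZ h (p ≫ psnd j A) := by
  rw [sm_aP]
  unfold hact
  rw [mkP_snd]

/-- the structure map of the restricted torsor -/
noncomputable def piP : PP j A ⟶ A.base := pfst j A ≫ A.π

theorem piP_inv {T : Over S} (h : T ⟶ H) (p : T ⟶ PP j A) :
    sm (aP j hY A) h p ≫ piP j A = p ≫ piP j A := by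
  unfold piP
  rw [← Category.assoc, sm_aP_fst, tor_inv A.act A.π A.cart, Category.assoc]

theorem cartP : IsPullback (aP j hY A).act (snd H (PP j A)) (piP j A) (piP j A) := by
  apply isPullback_of_pts
  · apply AlgGrp.Action.hom_ext_lift₂
    intro T h p
    rw [← Category.assoc, ← Category.assoc, lift_snd]
    exact piP_inv j hY A h p
  · intro T a b hab
    -- the difference in `G`
    have hab' : (a ≫ pfst j A) ≫ A.π = (b ≫ pfst j A) ≫ A.π := by
      rw [Category.assoc, Category.assoc]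
      exact hab
    obtain ⟨g, hg, hgu⟩ := tor_diff A.act A.π A.cart (a ≫ pfst j A) (b ≫ pfst j A) hab'
    have e1 : jp j 1 (a ≫ psnd j A) = jp j g (b ≫ psnd j A) := by
      rw [← pt_w, ← hg, sm_comp_of_eqv A.act aY A.φ A.eqv, pt_w, ← jp_mul j i aZ aY hY,
        _root_.mul_one]
    obtain ⟨h, ⟨hh1, hh2⟩, hhu⟩ := jp_diff j i aZ aY hY 1 g (a ≫ psnd j A) (b ≫ psnd j A) e1
    have hgi : g = h ≫ i := by
      have : g * (h ≫ i)⁻¹ * (h ≫ i) = 1 * (h ≫ i) := by rw [hh1]
      rw [inv_mul_cancel_right, _root_.one_mul] at this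
      exact this
    refine ⟨lift h b, ⟨?_, lift_snd _ _⟩, ?_⟩
    · show sm (aP j hY A) h b = a
      apply PP_ext
      · rw [sm_aP_fst, ← hgi, hg]
      · rw [sm_aP_snd, hh2]
    · rintro l ⟨hl1, hl2⟩
      have el : l = lift (l ≫ fst _ _) b := by
        apply CartesianMonoidalCategory.hom_ext
        · rw [lift_fst]
        · rw [lift_snd, hl2]
      have hl1' : sm (aP j hY A) (l ≫ fst _ _) b = a := by
        unfold sm
        rw [← el, hl1]
      have e2 : (l ≫ fst _ _) ≫ i = g := by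
        apply hgu
        rw [← sm_aP_fst j hY A, hl1']
      have e3 : l ≫ fst _ _ = h := by
        apply hhu
        refine ⟨?_, ?_⟩
        · rw [e2, hgi, mul_inv_cancel]
        · rw [← sm_aP_snd j hY A, hl1']
      rw [el, e3]

include hY in
theorem locP : secS (piP j A) ∈ J S A.base := by
  have hA : secS A.π ∈ J S A.base := secS_mem_of_loc A.π A.loc
  refine (J S).transitive hA _ ?_
  rintro V f ⟨q, rfl⟩
  refine (J S).superset_covering ?_ ((J S).pullback_stable (q ≫ A.φ) (secS_j_mem j i aZ aY hY))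
  rintro W k ⟨s, hs⟩
  -- s = (g, z) with j(g,z) = φ(k q)
  have e0 : jp j (s ≫ fst G Z) (s ≫ snd G Z) = (k ≫ q) ≫ A.φ := by
    unfold jp
    rw [← comp_lift, lift_fst_snd, Category.comp_id, hs, Category.assoc]
  have e1 : sm A.act (s ≫ fst G Z)⁻¹ (k ≫ q) ≫ A.φ = jp j 1 (s ≫ snd G Z) := by
    rw [sm_comp_of_eqv A.act aY A.φ A.eqv, ← e0, ← jp_mul j i aZ aY hY, inv_mul_cancel]
  refine ⟨mkP _ _ e1, ?_⟩
  unfold piP
  rw [← Category.assoc, mkP_fst, tor_inv A.act A.π A.cart, Category.assoc]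

/-- the restriction functor on objects -/
noncomputable def PsiObj : QuotObj Scheme.fppfPrecoverage H aZ where
  base := A.base
  P := PP j A
  act := aP j hY A
  π := piP j A
  cart := cartP j hY A
  loc := loc_of_secS_mem _ (locP j hY A)
  φ := psnd j A
  eqv := by
    apply eqv_of_sm
    intro T h p
    exact sm_aP_snd j hY A h p

end Obj

end H10PT.BPQ
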