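import Groth.Agent.Lib.Helper10.BPQ2

/-!
# Helper library (helper10): balanced products, the restriction functor `[Y/G] ⟶ [Z/H]`
-/

set_option autoImplicit false
set_option linter.style.haveILetI false
set_option backward.isDefEq.respectTransparency false
set_option backward.isDefEq.respectTransparency.types false
universe v₀ u₀ u
open CategoryTheory CategoryTheory.Limits AlgebraicGeometry Opposite Functor MonoidalCategory
  CartesianMonoidalCategory MonObj GrpObj

namespace H10PT.BPQ

open H10PT.QSC AlgSp AlgSt

variable {S : Scheme.{u}} {G H Z Y : Over S} [GrpObj G] [GrpObj H]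
  {i : H ⟶ G} [IsMonHom i] {aZ : AlgGrp.Action H Z} {aY : AlgGrp.Action G Y} (j : G ⊗ Z ⟶ Y)
  (hY : ChGrp.IsBalProd Scheme.fppfPrecoverage i aZ aY j)

section Map

variable {A A' : QuotObj Scheme.fppfPrecoverage G aY} (f : A ⟶ A')

/-- the restriction functor on total spaces -/
noncomputable def topP : PP j A ⟶ PP j A' :=
  mkP (pfst j A ≫ f.top) (psnd j A) (by rw [Category.assoc, f.wφ, PP_w])

@[simp] theorem topP_fst : topP j f ≫ pfst j A' = pfst j A ≫ f.top := mkP_fst _ _ _

@[simp] theorem topP_snd : topP j f ≫ psnd j A' = psnd j A := mkP_snd _ _ _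

theorem topP_eqv : (aP j hY A).act ≫ topP j f = (H ◁ topP j f) ≫ (aP j hY A').act := by
  apply eqv_of_sm
  intro T h p
  apply PP_ext
  · rw [Category.assoc, topP_fst, ← Category.assoc, sm_aP_fst, sm_aP_fst,
      sm_comp_of_eqv A.act A'.act f.top f.eqv, Category.assoc, Category.assoc, topP_fst]
  · rw [Category.assoc, topP_snd, sm_aP_snd, sm_aP_snd, Category.assoc, topP_snd]

theorem topP_pi : topP j f ≫ piP j A' = piP j A ≫ f.base := by
  unfold piP
  rw [← Category.assoc, topP_fst, Category.assoc, f.cart.w, Category.assoc]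

/-- the restriction functor on morphisms -/
noncomputable def PsiMap : PsiObj j hY A ⟶ PsiObj j hY A' where
  base := f.base
  top := topP j f
  eqv := topP_eqv j hY f
  cart := cart_of_equivariant (aP j hY A) (piP j A) (cartP j hY A) (locP j hY A)
    (aP j hY A') (piP j A') (cartP j hY A') (topP j f) f.base (topP_eqv j hY f) (topP_pi j f)
  wφ := topP_snd j f

end Map

/-- the restriction functor `[Y/G] ⟶ [Z/H]` -/
noncomputable def Psi : QuotSt Scheme.fppfPrecoverage G aY ⥤ᵇ QuotSt Scheme.fppfPrecoverage H aZ where
  toFunctor :=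
    { obj := PsiObj j hY
      map := fun f => PsiMap j hY f
      map_id := fun A => QuotObj.hom_ext rfl (by
        apply PP_ext
        · show topP j (𝟙 A) ≫ pfst j A = 𝟙 _ ≫ pfst j A
          rw [topP_fst, Category.id_comp]
          exact Category.comp_id _
        · show topP j (𝟙 A) ≫ psnd j A = 𝟙 _ ≫ psnd j A
          rw [topP_snd, Category.id_comp])
      map_comp := fun {A A' A''} f g => QuotObj.hom_ext rfl (by
        apply PP_ext
        · show topP j (f ≫ g) ≫ pfst j A'' = (topP j f ≫ topP j g) ≫ pfst j A''
          rw [topP_fst, Category.assoc, topP_fst, ← Category.assoc, topP_fst, Category.assoc]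
          rfl
        · show topP j (f ≫ g) ≫ psnd j A'' = (topP j f ≫ topP j g) ≫ psnd j A''
          rw [topP_snd, Category.assoc, topP_snd, topP_snd]) }
  w := rfl

end H10PT.BPQ
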