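import Groth.Agent.Lib.Helper10.BPQ3

/-!
# Helper library (helper10): balanced products, the restriction functor is fully faithful
-/

set_option autoImplicit false
set_option linter.style.haveILetI false
set_option backward.isDefEq.respectTransparency false
set_option backward.isDefEq.respectTransparency.types false
universe v₀ u₀ u
open CategoryTheory CategoryTheory.Limits AlgebraicGeometry Opposite Functor MonoidalCategory
  CartesianMonoidalCategory MonObj GrpObj

namespace H10PT.BPQ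

open H10PT.QSC AlgSp AlgSt

variable {S : Scheme.{u}} {G H Z Y : Over S} [GrpObj G] [GrpObj H]
  {i : H ⟶ G} [IsMonHom i] {aZ : AlgGrp.Action H Z} {aY : AlgGrp.Action G Y} (j : G ⊗ Z ⟶ Y)
  (hY : ChGrp.IsBalProd Scheme.fppfPrecoverage i aZ aY j)

section Kappa

variable (A : QuotObj Scheme.fppfPrecoverage G aY)

/-- the induction map `G × P' ⟶ P` -/
noncomputable def kap : G ⊗ PP j A ⟶ A.P := (G ◁ pfst j A) ≫ A.act.act

theorem lift_kap {T : Over S} (g : T ⟶ G) (p : T ⟶ PP j A) :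
    lift g p ≫ kap j A = sm A.act g (p ≫ pfst j A) := by
  unfold kap sm
  rw [← Category.assoc, lift_whiskerLeft]

include hY in
/-- every point of `P` is locally of the form `g • p` with `p` a point of the restricted torsor -/
theorem secS_kap_mem : secS (kap j A) ∈ J S A.P := by
  refine (J S).superset_covering ?_ ((J S).pullback_stable A.φ (secS_j_mem j i aZ aY hY))
  rintro W k ⟨s, hs⟩
  have e0 : jp j (s ≫ fst G Z) (s ≫ snd G Z) = k ≫ A.φ := by
    unfold jp
    rw [← comp_lift, lift_fst_snd, Category.comp_id, hs]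
  have e1 : sm A.act (s ≫ fst G Z)⁻¹ k ≫ A.φ = jp j 1 (s ≫ snd G Z) := by
    rw [sm_comp_of_eqv A.act aY A.φ A.eqv, ← e0, ← jp_mul j i aZ aY hY, inv_mul_cancel]
  refine ⟨lift (s ≫ fst G Z) (mkP _ _ e1), ?_⟩
  rw [lift_kap, mkP_fst, sm_inv_sm]

include hY in
theorem kap_epi {W : Over S} (x y : A.P ⟶ W) (h : kap j A ≫ x = kap j A ≫ y) : x = y :=
  epi_of_secS (kap j A) (secS_kap_mem j hY A) x y h

include hY in
/-- induction on points of `P` -/
theorem pt_ind {T W : Over S} (q : T ⟶ A.P) (a b : T ⟶ W)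
    (h : ∀ (T' : Over S) (k : T' ⟶ T) (g : T' ⟶ G) (p : T' ⟶ PP j A),
      k ≫ q = sm A.act g (p ≫ pfst j A) → k ≫ a = k ≫ b) : a = b := by
  apply hom_ext_of_sieve _ ((J S).pullback_stable q (secS_kap_mem j hY A))
  rintro V k ⟨s, hs⟩
  apply h V k (s ≫ fst _ _) (s ≫ snd _ _)
  rw [← lift_kap, ← comp_lift, lift_fst_snd, Category.comp_id, hs]

theorem kap_diff {T : Over S} (g₁ g₂ : T ⟶ G) (p₁ p₂ : T ⟶ PP j A)
    (heq : sm A.act g₁ (p₁ ≫ pfst j A) = sm A.act g₂ (p₂ ≫ pfst j A)) :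
    ∃! h : T ⟶ H, g₂ * (h ≫ i)⁻¹ = g₁ ∧ sm (aP j hY A) h p₂ = p₁ := by
  have e0 : p₁ ≫ pfst j A = sm A.act (g₁⁻¹ * g₂) (p₂ ≫ pfst j A) := by
    rw [mul_sm, ← heq, inv_sm_sm]
  have e1 : jp j 1 (p₁ ≫ psnd j A) = jp j (g₁⁻¹ * g₂) (p₂ ≫ psnd j A) := by
    rw [← pt_w, e0, sm_comp_of_eqv A.act aY A.φ A.eqv, pt_w, ← jp_mul j i aZ aY hY,
      _root_.mul_one]
  obtain ⟨h, ⟨hh1, hh2⟩, hhu⟩ := jp_diff j i aZ aY hY 1 (g₁⁻¹ * g₂) (p₁ ≫ psnd j A)
    (p₂ ≫ psnd j A) e1
  have hgi : g₁⁻¹ * g₂ = h ≫ i := by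
    have : g₁⁻¹ * g₂ * (h ≫ i)⁻¹ * (h ≫ i) = 1 * (h ≫ i) := by rw [hh1]
    rw [inv_mul_cancel_right, _root_.one_mul] at this
    exact this
  refine ⟨h, ⟨?_, ?_⟩, ?_⟩
  · rw [← hgi, _root_.mul_inv_rev, _root_.inv_inv, ← _root_.mul_assoc, mul_inv_cancel, _root_.one_mul]
  · apply PP_ext
    · rw [sm_aP_fst, ← hgi, e0]
    · rw [sm_aP_snd, hh2]
  · rintro h' ⟨e2, e3⟩
    apply hhu
    refine ⟨?_, ?_⟩
    · rw [← e2, _root_.mul_inv_rev, _root_.inv_inv, _root_.mul_assoc, _root_.mul_assoc,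
        inv_mul_cancel_left, mul_inv_cancel]
    · rw [← e3, sm_aP_snd]

theorem sm_twistP {T : Over S} (h : T ⟶ H) (g : T ⟶ G) (p : T ⟶ PP j A) :
    sm (ChGrp.twist i (aP j hY A)) h (lift g p) = lift (g * (h ≫ i)⁻¹) (sm (aP j hY A) h p) :=
  ChGrp.lift_twist_act i (aP j hY A) h g p

theorem kap_inv {T : Over S} (h : T ⟶ H) (g : T ⟶ G) (p : T ⟶ PP j A) :
    sm A.act (g * (h ≫ i)⁻¹) (sm (aP j hY A) h p ≫ pfst j A) = sm A.act g (p ≫ pfst j A) := by
  rw [sm_aP_fst, ← mul_sm, inv_mul_cancel_right]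

theorem cartK : IsPullback (ChGrp.twist i (aP j hY A)).act (snd H (G ⊗ PP j A)) (kap j A) (kap j A) := by
  apply isPullback_of_pts
  · apply AlgGrp.Action.hom_ext_lift₂
    intro T h x
    have ex : x = lift (x ≫ fst _ _) (x ≫ snd _ _) := by
      rw [← comp_lift, lift_fst_snd, Category.comp_id]
    rw [← Category.assoc, ← Category.assoc, lift_snd]
    show sm (ChGrp.twist i (aP j hY A)) h x ≫ kap j A = x ≫ kap j A
    rw [ex, sm_twistP, lift_kap, lift_kap, kap_inv]
  · intro T a b hab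
    have ea : a = lift (a ≫ fst _ _) (a ≫ snd _ _) := by
      rw [← comp_lift, lift_fst_snd, Category.comp_id]
    have eb : b = lift (b ≫ fst _ _) (b ≫ snd _ _) := by
      rw [← comp_lift, lift_fst_snd, Category.comp_id]
    have hab' : sm A.act (a ≫ fst _ _) ((a ≫ snd _ _) ≫ pfst j A)
        = sm A.act (b ≫ fst _ _) ((b ≫ snd _ _) ≫ pfst j A) := by
      rw [← lift_kap, ← lift_kap, ← ea, ← eb, hab]
    obtain ⟨h, ⟨hh1, hh2⟩, hhu⟩ := kap_diff j hY A _ _ _ _ hab'
    refine ⟨lift h b, ⟨?_, lift_snd _ _⟩, ?_⟩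
    · show sm (ChGrp.twist i (aP j hY A)) h b = a
      rw [eb, sm_twistP, hh1, hh2, ← ea]
    · rintro l ⟨hl1, hl2⟩
      have el : l = lift (l ≫ fst _ _) b := by
        apply CartesianMonoidalCategory.hom_ext
        · rw [lift_fst]
        · rw [lift_snd, hl2]
      have hl1' : sm (ChGrp.twist i (aP j hY A)) (l ≫ fst _ _) b = a := by
        unfold sm
        rw [← el, hl1]
      rw [eb, sm_twistP] at hl1'
      have e3 : l ≫ fst _ _ = h := by
        apply hhu
        refine ⟨?_, ?_⟩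
        · have := congrArg (fun k => k ≫ fst _ _) hl1'
          simpa using this
        · have := congrArg (fun k => k ≫ snd _ _) hl1'
          simpa using this
      rw [el, e3]

end Kappa

section Faithful

theorem Psi_faithful : (Psi j hY).toFunctor.Faithful := by
  constructor
  intro A A' f f' h
  have hb : f.base = f'.base := congrArg (fun k => k.base) h
  have ht : topP j f = topP j f' := congrArg (fun k => k.top) h
  apply QuotObj.hom_ext hb
  apply kap_epi j hY A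
  apply AlgGrp.Action.hom_ext_lift₂
  intro T g p
  rw [← Category.assoc, ← Category.assoc, lift_kap, sm_comp_of_eqv A.act A'.act f.top f.eqv,
    sm_comp_of_eqv A.act A'.act f'.top f'.eqv, Category.assoc, Category.assoc, ← topP_fst,
    ← topP_fst, ht]

end Faithful

section Full

variable {A A' : QuotObj Scheme.fppfPrecoverage G aY} (m : PsiObj j hY A ⟶ PsiObj j hY A')

/-- the candidate on `G × P'` -/
noncomputable def f0 : G ⊗ PP j A ⟶ A'.P := (G ◁ (m.top ≫ pfst j A')) ≫ A'.act.act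

theorem lift_f0 {T : Over S} (g : T ⟶ G) (p : T ⟶ PP j A) :
    lift g p ≫ f0 j hY m = sm A'.act g (p ≫ m.top ≫ pfst j A') := by
  unfold f0 sm
  rw [← Category.assoc, lift_whiskerLeft]

theorem m_sm {T : Over S} (h : T ⟶ H) (p : T ⟶ PP j A) :
    sm (aP j hY A) h p ≫ m.top = sm (aP j hY A') h (p ≫ m.top) :=
  sm_comp_of_eqv (aP j hY A) (aP j hY A') m.top m.eqv h p

theorem m_snd : m.top ≫ psnd j A' = psnd j A := m.wφ

theorem m_pi : m.top ≫ piP j A' = piP j A ≫ m.base := m.cart.w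

theorem f0_inv : (ChGrp.twist i (aP j hY A)).act ≫ f0 j hY m = snd H (G ⊗ PP j A) ≫ f0 j hY m := by
  apply AlgGrp.Action.hom_ext_lift₂
  intro T h x
  have ex : x = lift (x ≫ fst _ _) (x ≫ snd _ _) := by
    rw [← comp_lift, lift_fst_snd, Category.comp_id]
  rw [← Category.assoc, ← Category.assoc, lift_snd]
  show sm (ChGrp.twist i (aP j hY A)) h x ≫ f0 j hY m = x ≫ f0 j hY m
  rw [ex, sm_twistP, lift_f0, lift_f0, ← Category.assoc _ m.top, m_sm, ← Category.assoc _ m.top]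
  exact kap_inv j hY A' h _ _

theorem exists_F : ∃ F : A.P ⟶ A'.P, kap j A ≫ F = f0 j hY m :=
  desc (ChGrp.twist i (aP j hY A)) (kap j A) (cartK j hY A) (secS_kap_mem j hY A) (f0 j hY m)
    (f0_inv j hY m)

variable {j hY m} in
theorem F_pt {F : A.P ⟶ A'.P} (hF : kap j A ≫ F = f0 j hY m) {T : Over S} (g : T ⟶ G)
    (p : T ⟶ PP j A) : sm A.act g (p ≫ pfst j A) ≫ F = sm A'.act g (p ≫ m.top ≫ pfst j A') := by
  rw [← lift_kap, Category.assoc, hF, lift_f0]

theorem exists_preimage : ∃ f : A ⟶ A', PsiMap j hY f = m := by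
  obtain ⟨F, hF⟩ := exists_F j hY m
  have hm : ∀ {T : Over S} (q : T ⟶ A.P) (g : T ⟶ G), sm A.act g q ≫ F = sm A'.act g (q ≫ F) := by
    intro T q g
    apply pt_ind j hY A q
    intro T' k g₀ p hk
    rw [← Category.assoc, comp_sm, hk, ← mul_sm, F_pt hF, comp_sm, ← Category.assoc k q, hk,
      F_pt hF, ← mul_sm]
  have heqv : A.act.act ≫ F = (G ◁ F) ≫ A'.act.act := eqv_of_sm A.act A'.act F (fun T g q => hm q g)
  have hπ : F ≫ A'.π = A.π ≫ m.base := by
    apply kap_epi j hY A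
    apply AlgGrp.Action.hom_ext_lift₂
    intro T g p
    have h1 := m_pi j hY m
    unfold piP at h1
    calc lift g p ≫ kap j A ≫ F ≫ A'.π
        = (sm A.act g (p ≫ pfst j A) ≫ F) ≫ A'.π := by
          rw [← lift_kap]
          simp only [Category.assoc]
      _ = sm A'.act g (p ≫ m.top ≫ pfst j A') ≫ A'.π := by rw [F_pt hF]
      _ = (p ≫ m.top ≫ pfst j A') ≫ A'.π := tor_inv A'.act A'.π A'.cart _ _
      _ = p ≫ (pfst j A ≫ A.π) ≫ m.base := by
          simp only [Category.assoc]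
          rw [h1]
          simp only [Category.assoc]
      _ = ((p ≫ pfst j A) ≫ A.π) ≫ m.base := by simp only [Category.assoc]
      _ = (sm A.act g (p ≫ pfst j A) ≫ A.π) ≫ m.base := by rw [tor_inv A.act A.π A.cart]
      _ = lift g p ≫ kap j A ≫ A.π ≫ m.base := by
          rw [← lift_kap]
          simp only [Category.assoc]
  have hφ : F ≫ A'.φ = A.φ := by
    apply kap_epi j hY A
    apply AlgGrp.Action.hom_ext_lift₂
    intro T g p
    calc lift g p ≫ kap j A ≫ F ≫ A'.φ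
        = (sm A.act g (p ≫ pfst j A) ≫ F) ≫ A'.φ := by
          rw [← lift_kap]
          simp only [Category.assoc]
      _ = sm A'.act g (p ≫ m.top ≫ pfst j A') ≫ A'.φ := by rw [F_pt hF]
      _ = sm aY g ((p ≫ m.top ≫ pfst j A') ≫ A'.φ) := sm_comp_of_eqv A'.act aY A'.φ A'.eqv _ _
      _ = sm aY g (jp j 1 (p ≫ psnd j A)) := by
          rw [← Category.assoc p, pt_w, Category.assoc, m_snd]
      _ = sm aY g ((p ≫ pfst j A) ≫ A.φ) := by rw [pt_w]
      _ = sm A.act g (p ≫ pfst j A) ≫ A.φ := (sm_comp_of_eqv A.act aY A.φ A.eqv _ _).symm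
      _ = lift g p ≫ kap j A ≫ A.φ := by rw [← lift_kap, Category.assoc]
  have hcart : IsPullback F A.π A'.π m.base :=
    cart_of_equivariant A.act A.π A.cart (secS_mem_of_loc A.π A.loc) A'.act A'.π A'.cart F m.base
      heqv hπ
  refine ⟨⟨m.base, F, heqv, hcart, hφ⟩, ?_⟩
  apply QuotObj.hom_ext
  · rfl
  · show topP j _ = m.top
    apply PP_ext
    · rw [topP_fst]
      show pfst j A ≫ F = m.top ≫ pfst j A'
      have := F_pt hF (1 : PP j A ⟶ G) (𝟙 _)
      rw [one_sm, one_sm, Category.id_comp, Category.id_comp] at this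
      exact this
    · rw [topP_snd]
      exact (m_snd j hY m).symm

theorem Psi_full : (Psi j hY).toFunctor.Full :=
  ⟨fun {A A'} m => exists_preimage j hY (A := A) (A' := A') m⟩

end Full

end H10PT.BPQ
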