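import Groth.Agent.Lib.Helper10.BPQ4
import Groth.Agent.Lib.Helper10.Fib4
import Groth.Agent.Lib.Helper10.StkPost

/-!
# Helper library (helper10): balanced products, `[Z/H] ≃ [G ×^H Z / G]`
-/

set_option autoImplicit false
set_option linter.style.haveILetI false
set_option backward.isDefEq.respectTransparency false
set_option backward.isDefEq.respectTransparency.types false
universe v₀ u₀ u
open CategoryTheory CategoryTheory.Limits AlgebraicGeometry Opposite Functor MonoidalCategory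
  CartesianMonoidalCategory MonObj GrpObj

namespace H10PT.BPQ

open H10PT.QSC AlgSp AlgSt Groth.Agent.Lib.Helper28.QuotSt.Iso

variable {S : Scheme.{u}} {G H Z Y : Over S} [GrpObj G] [GrpObj H]
  {i : H ⟶ G} [IsMonHom i] {aZ : AlgGrp.Action H Z} {aY : AlgGrp.Action G Y} (j : G ⊗ Z ⟶ Y)
  (hY : ChGrp.IsBalProd Scheme.fppfPrecoverage i aZ aY j)

section Ess

variable (y : QuotObj Scheme.fppfPrecoverage H aZ) {V : Over S} (s : V ⟶ y.P)

variable (aY) in
/-- the induced trivial `G`-torsor with its map to `Y` -/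
noncomputable def xOf : QuotObj Scheme.fppfPrecoverage G aY :=
  (quotMap Scheme.fppfPrecoverage G aY).obj (⟨V, ⟨(s ≫ y.φ) ≫ iotaZ j⟩⟩ : (ofSch Y).obj)

variable (aY) in
theorem xOf_w : lift (1 : V ⟶ G) (𝟙 V) ≫ (xOf aY j y s).φ = jp j 1 (s ≫ y.φ) := by
  show lift (1 : V ⟶ G) (𝟙 V) ≫ (G ◁ ((s ≫ y.φ) ≫ iotaZ j)) ≫ aY.act = _
  rw [← Category.assoc, lift_whiskerLeft, Category.id_comp, comp_iotaZ]
  exact one_sm aY _

variable (aY) in
/-- the canonical point of the restriction of the induced torsor -/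
noncomputable def p1 : V ⟶ PP j (xOf aY j y s) := mkP (lift (1 : V ⟶ G) (𝟙 V)) (s ≫ y.φ) (xOf_w aY j y s)

theorem exists_local_hom (f : V ⟶ y.base) (hs : s ≫ y.π = f) :
    ∃ (x : QuotObj Scheme.fppfPrecoverage G aY) (φ : (Psi j hY).obj x ⟶ y),
      (QuotSt Scheme.fppfPrecoverage H aZ).p.IsHomLift f φ := by
  let t₁ : (quotMap Scheme.fppfPrecoverage H aZ).obj (⟨V, ⟨s ≫ y.φ⟩⟩ : (ofSch Z).obj) ⟶
      PsiObj j hY (xOf aY j y s) :=
    trivHom' (PsiObj j hY (xOf aY j y s)) (p1 aY j y s) (s ≫ y.φ) (mkP_snd _ _ _)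
  let t₂ : (quotMap Scheme.fppfPrecoverage H aZ).obj (⟨V, ⟨s ≫ y.φ⟩⟩ : (ofSch Z).obj) ⟶ y :=
    trivHom' y s (s ≫ y.φ) rfl
  have hb1 : t₁.base = 𝟙 V := by
    rw [trivHom'_base]
    show p1 aY j y s ≫ pfst j (xOf aY j y s) ≫ snd G V = 𝟙 V
    unfold p1
    rw [← Category.assoc, mkP_fst, lift_snd]
  have hb2 : t₂.base = f := by
    rw [trivHom'_base, hs]
  haveI : IsIso t₁.base := by
    rw [hb1]
    exact IsIso.id V
  haveI : IsIso t₁ := isIso_of_isIso_base t₁
  refine ⟨xOf aY j y s, inv t₁ ≫ t₂, ?_⟩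
  have hb : (QuotSt Scheme.fppfPrecoverage H aZ).p.map (inv t₁ ≫ t₂) = f := by
    rw [Functor.map_comp, Functor.map_inv]
    show inv t₁.base ≫ t₂.base = f
    rw [hb2, IsIso.inv_comp_eq, hb1]
    exact (Category.id_comp _).symm
  have h0 : (QuotSt Scheme.fppfPrecoverage H aZ).p.IsHomLift
      ((QuotSt Scheme.fppfPrecoverage H aZ).p.map (inv t₁ ≫ t₂)) (inv t₁ ≫ t₂) := inferInstance
  exact hb ▸ h0

end Ess

theorem isEquivOver_Psi [IsAffineHom G.hom] [IsAffineHom H.hom] :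
    FibCat.IsEquivOver (Psi j hY) := by
  haveI := Psi_full j hY
  haveI := Psi_faithful j hY
  apply Groth.Agent.Lib.Helper10.Fib.isEquivOver_of_ff
  intro y
  apply Groth.Agent.Lib.Helper10.StkLoc.exists_iso_of_locally (J S) (isStack_quotSt G aY)
    (isStack_quotSt H aZ) (Psi j hY) y (secS y.π) (secS_mem_of_loc y.π y.loc)
  rintro V f ⟨s, hs⟩
  exact exists_local_hom j hY y s f hs

include hY in
/-- **Induction equivalence.** If `Y = G ×^H Z`, then `[Z/H] ≃ [Y/G]`. -/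
theorem isQuotientOf_balProd [IsAffineHom G.hom] [IsAffineHom H.hom] :
    AlgSt.IsQuotientOf Scheme.fppfPrecoverage H aZ (AlgSt.QuotSt Scheme.fppfPrecoverage G aY) :=
  Groth.Agent.Lib.Helper10.StkPost.isEquivOver_symm (isEquivOver_Psi j hY)

end H10PT.BPQ
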