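import Groth.Agent.Lib.Helper10.BPQ5

/-!
# Helper library (helper10): `G/H × X` is the balanced product `G ×^H X`
-/

set_option autoImplicit false
set_option linter.style.haveILetI false
set_option backward.isDefEq.respectTransparency false
set_option backward.isDefEq.respectTransparency.types false
universe v₀ u₀ u
open CategoryTheory CategoryTheory.Limits AlgebraicGeometry Opposite Functor MonoidalCategory
  CartesianMonoidalCategory MonObj GrpObj

namespace H10PT.BPQ

open H10PT.QSC AlgSp AlgSt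

variable {S : Scheme.{u}} {G H X Q : Over S} [GrpObj G] [GrpObj H]

section Prod

theorem sm_prod {A B : Over S} (a : AlgGrp.Action G A) (b : AlgGrp.Action G B) {T : Over S}
    (g : T ⟶ G) (x : T ⟶ A) (y : T ⟶ B) :
    sm (a.prod b) g (lift x y) = lift (sm a g x) (sm b g y) :=
  AlgGrp.Action.lift_prod_act a b g x y

theorem sm_restrict (i : H ⟶ G) [IsMonHom i] (a : AlgGrp.Action G X) {T : Over S}
    (h : T ⟶ H) (x : T ⟶ X) : sm (a.restrict i) h x = sm a (h ≫ i) x :=
  AlgGrp.Action.lift_restrict_act i a h x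

theorem sm_trivialAction {T : Over S} (g' g : T ⟶ G) : sm (NonAbH1.trivialAction G) g' g = g' * g :=
  (Hom.mul_def g' g).symm

theorem sm_trivial {T : Over S} (g' : T ⟶ G) (x : T ⟶ X) : sm (AlgGrp.Action.trivial G X) g' x = x :=
  AlgGrp.Action.lift_trivial_act g' x

theorem pair_eta {A B T : Over S} (p : T ⟶ A ⊗ B) : p = lift (p ≫ fst A B) (p ≫ snd A B) := by
  rw [← comp_lift, lift_fst_snd, Category.comp_id]

end Prod

variable (i : H ⟶ G) [IsMonHom i] (aX : AlgGrp.Action G X) (aQ : AlgGrp.Action G Q)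
  (q₀ : 𝟙_ (Over S) ⟶ Q)

/-- the base point, as a `T`-point -/
noncomputable def qT (T : Over S) : T ⟶ Q := toUnit T ≫ q₀

theorem comp_qT {T T' : Over S} (k : T' ⟶ T) : k ≫ qT q₀ T = qT q₀ T' := by
  unfold qT
  rw [← Category.assoc, toUnit_unique (k ≫ toUnit T) (toUnit T')]

theorem comp_orbit {T : Over S} (g : T ⟶ G) : g ≫ aQ.orbitMap q₀ = sm aQ g (qT q₀ T) :=
  AlgGrp.Action.comp_orbitMap aQ g q₀

/-- `(g, x) ↦ (g q₀, g x)` -/
noncomputable def jH : G ⊗ X ⟶ Q ⊗ X := lift (fst G X ≫ aQ.orbitMap q₀) aX.act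

theorem jp_jH {T : Over S} (g : T ⟶ G) (x : T ⟶ X) :
    jp (jH aX aQ q₀) g x = lift (sm aQ g (qT q₀ T)) (sm aX g x) := by
  unfold jp jH
  rw [comp_lift, ← Category.assoc, lift_fst, comp_orbit]
  rfl

variable (hQ : ChGrp.IsHomog Scheme.fppfPrecoverage i aQ q₀)

include hQ in
theorem orb_mul {T : Over S} (g : T ⟶ G) (h : T ⟶ H) :
    sm aQ (g * (h ≫ i)) (qT q₀ T) = sm aQ g (qT q₀ T) := by
  have hw := hQ.2.1.w
  have h2 : lift g h ≫ fst G H ≫ aQ.orbitMap q₀ = lift g h ≫ ((G ◁ i) ≫ μ[G]) ≫ aQ.orbitMap q₀ := by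
    rw [hw]
  rw [← Category.assoc, lift_fst, comp_orbit, ← Category.assoc, ← Category.assoc, lift_whiskerLeft,
    ← Hom.mul_def, comp_orbit] at h2
  exact h2.symm

include hQ in
theorem orb_diff {T : Over S} (a b : T ⟶ G) (hab : sm aQ a (qT q₀ T) = sm aQ b (qT q₀ T)) :
    ∃! h : T ⟶ H, a * (h ≫ i) = b := by
  have hab' : a ≫ aQ.orbitMap q₀ = b ≫ aQ.orbitMap q₀ := by
    rw [comp_orbit, comp_orbit, hab]
  have hl : ∀ h : T ⟶ H, lift a h ≫ (G ◁ i) ≫ μ[G] = a * (h ≫ i) := by
    intro h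
    rw [← Category.assoc, lift_whiskerLeft, ← Hom.mul_def]
  refine ⟨hQ.2.1.lift a b hab' ≫ snd G H, ?_, ?_⟩
  · have e : lift a (hQ.2.1.lift a b hab' ≫ snd G H) = hQ.2.1.lift a b hab' := by
      apply CartesianMonoidalCategory.hom_ext
      · rw [lift_fst, hQ.2.1.lift_fst]
      · rw [lift_snd]
    show a * ((hQ.2.1.lift a b hab' ≫ snd G H) ≫ i) = b
    rw [← hl, e, hQ.2.1.lift_snd]
  · intro h' hh'
    have e : lift a h' = hQ.2.1.lift a b hab' := by
      apply hQ.2.1.hom_ext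
      · rw [lift_fst, hQ.2.1.lift_fst]
      · rw [hQ.2.1.lift_snd, hl, hh']
    rw [← e, lift_snd]

include hQ in
theorem isBalProd_of_isHomog :
    ChGrp.IsBalProd Scheme.fppfPrecoverage i (aX.restrict i) (aQ.prod aX) (jH aX aQ q₀) := by
  refine ⟨?_, ?_, ?_⟩
  · -- equivariance
    apply eqv_of_sm
    intro T g' p
    rw [pair_eta p, sm_prod, sm_trivialAction, sm_trivial]
    show jp (jH aX aQ q₀) _ _ = sm _ g' (jp (jH aX aQ q₀) _ _)
    rw [jp_jH, jp_jH, sm_prod, mul_sm, mul_sm]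
  · -- the cartesian square
    apply isPullback_of_pts
    · apply AlgGrp.Action.hom_ext_lift₂
      intro T h x
      rw [← Category.assoc, ← Category.assoc, lift_snd]
      show sm (ChGrp.twist i (aX.restrict i)) h x ≫ jH aX aQ q₀ = x ≫ jH aX aQ q₀
      rw [pair_eta x, sm_twist]
      show jp (jH aX aQ q₀) _ _ = jp (jH aX aQ q₀) _ _
      rw [jp_jH, jp_jH, sm_restrict, ← mul_sm, inv_mul_cancel_right]
      congr 1
      have := orb_mul i aQ q₀ hQ (x ≫ fst G X * (h ≫ i)⁻¹) h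
      rw [inv_mul_cancel_right] at this
      exact this.symm
    · intro T a b hab
      have hab' : jp (jH aX aQ q₀) (a ≫ fst _ _) (a ≫ snd _ _)
          = jp (jH aX aQ q₀) (b ≫ fst _ _) (b ≫ snd _ _) := by
        unfold jp
        rw [← pair_eta, ← pair_eta, hab]
      rw [jp_jH, jp_jH] at hab'
      have h1 : sm aQ (a ≫ fst _ _) (qT q₀ T) = sm aQ (b ≫ fst _ _) (qT q₀ T) := by
        have := congrArg (fun k => k ≫ fst Q X) hab'
        simpa using this
      have h2 : sm aX (a ≫ fst _ _) (a ≫ snd _ _) = sm aX (b ≫ fst _ _) (b ≫ snd _ _) := by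
        have := congrArg (fun k => k ≫ snd Q X) hab'
        simpa using this
      obtain ⟨h, hh, hu⟩ := orb_diff i aQ q₀ hQ (a ≫ fst _ _) (b ≫ fst _ _) h1
      have hh' : b ≫ fst G X * (h ≫ i)⁻¹ = a ≫ fst G X := by
        rw [← hh, mul_inv_cancel_right]
      have hx : sm aX (h ≫ i) (b ≫ snd _ _) = a ≫ snd _ _ := by
        have e : h ≫ i = (a ≫ fst G X)⁻¹ * (b ≫ fst G X) := by
          rw [← hh, inv_mul_cancel_left]
        rw [e, mul_sm, ← h2, inv_sm_sm]
      refine ⟨lift h b, ⟨?_, lift_snd _ _⟩, ?_⟩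
      · show sm (ChGrp.twist i (aX.restrict i)) h b = a
        rw [pair_eta b, sm_twist, sm_restrict, hh', hx, ← pair_eta]
      · rintro l ⟨hl1, hl2⟩
        have el : l = lift (l ≫ fst _ _) b := by
          apply CartesianMonoidalCategory.hom_ext
          · rw [lift_fst]
          · rw [lift_snd, hl2]
        have hl1' : sm (ChGrp.twist i (aX.restrict i)) (l ≫ fst _ _) b = a := by
          unfold sm
          rw [← el, hl1]
        rw [pair_eta b, sm_twist] at hl1'
        have e3 : l ≫ fst _ _ = h := by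
          apply hu
          have := congrArg (fun k => k ≫ fst G X) hl1'
          simp only [lift_fst] at this
          rw [← this, inv_mul_cancel_right]
        rw [el, e3]
  · -- local sections
    apply loc_of_secS_mem
    have hO : secS (aQ.orbitMap q₀) ∈ J S Q := secS_mem_of_loc _ hQ.2.2
    refine (J S).superset_covering ?_ ((J S).pullback_stable (fst Q X) hO)
    rintro W k ⟨g, hg⟩
    refine ⟨lift g (sm aX g⁻¹ (k ≫ snd Q X)), ?_⟩
    show jp (jH aX aQ q₀) _ _ = k
    rw [jp_jH, sm_inv_sm, ← comp_orbit, hg, ← pair_eta]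

end H10PT.BPQ
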