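import Mathlib

/-!
# Helper library (helper10): fppf bootstrap, part 1

Plain equivalence relations on schemes, the scheme `Z_g = X ×_{g,U,s} R` attached to `g : X ⟶ U`,
the restricted relation `RX`, and the stabilizer `Stab(V)` of a clopen `V ⊆ Z_g` which is universally
closed over `X`: it is a clopen sub-equivalence relation of `RX`.
-/

set_option autoImplicit false
universe u
open CategoryTheory CategoryTheory.Limits AlgebraicGeometry

namespace H10PT.BS

theorem isPullback_of_lift {C : Type*} [Category C] {P X Y Z : C} {fst : P ⟶ X} {snd : P ⟶ Y}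
    {f : X ⟶ Z} {g : Y ⟶ Z} (w : fst ≫ f = snd ≫ g)
    (lift : ∀ {Q : C} (a : Q ⟶ X) (b : Q ⟶ Y), a ≫ f = b ≫ g → ∃ l : Q ⟶ P, l ≫ fst = a ∧ l ≫ snd = b)
    (ext : ∀ {Q : C} (l l' : Q ⟶ P), l ≫ fst = l' ≫ fst → l ≫ snd = l' ≫ snd → l = l') :
    IsPullback fst snd f g := by
  refine ⟨⟨w⟩, ⟨PullbackCone.IsLimit.mk w (fun s => (lift s.fst s.snd s.condition).choose)
    (fun s => (lift s.fst s.snd s.condition).choose_spec.1)
    (fun s => (lift s.fst s.snd s.condition).choose_spec.2) ?_⟩⟩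
  intro s m h1 h2
  exact ext _ _ (h1.trans (lift s.fst s.snd s.condition).choose_spec.1.symm)
    (h2.trans (lift s.fst s.snd s.condition).choose_spec.2.symm)

/-- A plain equivalence relation on schemes: `a ∼ b` iff `∃ r, t r = a ∧ s r = b`. -/
structure ER {U R : Scheme.{u}} (s t : R ⟶ U) : Prop where
  inj : ∀ {T : Scheme.{u}} (r r' : T ⟶ R), r ≫ t = r' ≫ t → r ≫ s = r' ≫ s → r = r'
  refl : ∀ {T : Scheme.{u}} (a : T ⟶ U), ∃ r : T ⟶ R, r ≫ t = a ∧ r ≫ s = a
  symm : ∀ {T : Scheme.{u}} (r : T ⟶ R), ∃ r' : T ⟶ R, r' ≫ t = r ≫ s ∧ r' ≫ s = r ≫ t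
  trans : ∀ {T : Scheme.{u}} (r₁ r₂ : T ⟶ R), r₁ ≫ s = r₂ ≫ t →
    ∃ r : T ⟶ R, r ≫ t = r₁ ≫ t ∧ r ≫ s = r₂ ≫ s

section Rel

variable {U R : Scheme.{u}} (s t : R ⟶ U)

/-- the relation on `T`-points -/
def Rel {T : Scheme.{u}} (a b : T ⟶ U) : Prop := ∃ r : T ⟶ R, r ≫ t = a ∧ r ≫ s = b

variable {s t}

theorem ER.rel_refl (h : ER s t) {T : Scheme.{u}} (a : T ⟶ U) : Rel s t a a := h.refl a

theorem ER.rel_symm (h : ER s t) {T : Scheme.{u}} {a b : T ⟶ U} (hab : Rel s t a b) : Rel s t b a := by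
  obtain ⟨r, rfl, rfl⟩ := hab
  exact h.symm r

theorem ER.rel_trans (h : ER s t) {T : Scheme.{u}} {a b c : T ⟶ U} (hab : Rel s t a b)
    (hbc : Rel s t b c) : Rel s t a c := by
  obtain ⟨r₁, rfl, h1⟩ := hab
  obtain ⟨r₂, h2, rfl⟩ := hbc
  exact h.trans r₁ r₂ (h1.trans h2.symm)

theorem Rel.precomp {T T' : Scheme.{u}} (f : T' ⟶ T) {a b : T ⟶ U} (hab : Rel s t a b) :
    Rel s t (f ≫ a) (f ≫ b) := by
  obtain ⟨r, rfl, rfl⟩ := hab
  exact ⟨f ≫ r, Category.assoc _ _ _, Category.assoc _ _ _⟩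

theorem ER.swap (h : ER s t) : ER t s where
  inj r r' h1 h2 := h.inj r r' h2 h1
  refl a := by obtain ⟨r, h1, h2⟩ := h.refl a; exact ⟨r, h2, h1⟩
  symm r := by obtain ⟨r', h1, h2⟩ := h.symm r; exact ⟨r', h2, h1⟩
  trans r₁ r₂ h12 := by
    obtain ⟨r, h1, h2⟩ := h.trans r₂ r₁ h12.symm
    exact ⟨r, h2, h1⟩

end Rel

section Z

variable {U R X : Scheme.{u}} (s t : R ⟶ U) (g : X ⟶ U)

theorem Z_ext (h : ER s t) {T : Scheme.{u}} (z z' : T ⟶ pullback g s)
    (h1 : z ≫ pullback.fst g s = z' ≫ pullback.fst g s)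
    (h2 : z ≫ pullback.snd g s ≫ t = z' ≫ pullback.snd g s ≫ t) : z = z' := by
  apply pullback.hom_ext h1
  apply h.inj
  · simpa only [Category.assoc] using h2
  · rw [Category.assoc, Category.assoc, ← pullback.condition, ← Category.assoc, h1, Category.assoc]

variable {s t g} in
theorem Z_lift {T : Scheme.{u}} (x : T ⟶ X) (u : T ⟶ U) (hr : Rel s t u (x ≫ g)) :
    ∃ z : T ⟶ pullback g s, z ≫ pullback.fst g s = x ∧ z ≫ pullback.snd g s ≫ t = u := by
  obtain ⟨r, h1, h2⟩ := hr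
  exact ⟨pullback.lift x r h2.symm, pullback.lift_fst _ _ _, by rw [pullback.lift_snd_assoc, h1]⟩

theorem Z_rel0 : Rel s t (pullback.snd g s ≫ t) (pullback.fst g s ≫ g) :=
  ⟨pullback.snd g s, rfl, pullback.condition.symm⟩

variable {X' : Scheme.{u}} (j : X' ⟶ X)

/-- the map `Z_{j ≫ g} ⟶ Z_g` -/
noncomputable abbrev zmap : pullback (j ≫ g) s ⟶ pullback g s :=
  pullback.map (j ≫ g) s g s j (𝟙 R) (𝟙 U) (by simp) (by simp)

@[reassoc]
theorem zmap_fst : zmap s g j ≫ pullback.fst g s = pullback.fst (j ≫ g) s ≫ j :=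
  pullback.lift_fst _ _ _

@[reassoc]
theorem zmap_snd : zmap s g j ≫ pullback.snd g s = pullback.snd (j ≫ g) s := by
  rw [zmap, pullback.map, pullback.lift_snd, Category.comp_id]

theorem zmap_isPullback : IsPullback (pullback.fst (j ≫ g) s) (zmap s g j) j (pullback.fst g s) := by
  have big : IsPullback (zmap s g j ≫ pullback.snd g s) (pullback.fst (j ≫ g) s) s (j ≫ g) := by
    rw [zmap_snd]; exact (IsPullback.of_hasPullback (j ≫ g) s).flip
  have right : IsPullback (pullback.snd g s) (pullback.fst g s) s g :=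
    (IsPullback.of_hasPullback g s).flip
  exact (IsPullback.of_right big (zmap_fst s g j) right).flip

theorem restrict_prop (P : MorphismProperty Scheme.{u}) [P.IsStableUnderBaseChange]
    (V : (pullback g s).Opens) (hP : P (V.ι ≫ pullback.fst g s)) :
    P ((zmap s g j ⁻¹ᵁ V).ι ≫ pullback.fst (j ≫ g) s) := by
  have sq := (isPullback_morphismRestrict (zmap s g j) V).paste_vert (zmap_isPullback s g j).flip
  exact P.of_isPullback sq hP

end Z

section Stab

variable {U R X : Scheme.{u}} (s t : R ⟶ U) (g : X ⟶ U)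

/-- the stabilizer relation of an open `V ⊆ Z_g` on `T`-points of `X` -/
def StabRel (V : (pullback g s).Opens) {T : Scheme.{u}} (a b : T ⟶ X) : Prop :=
  ∀ ⦃T' : Scheme.{u}⦄ (f : T' ⟶ T) (za zb : T' ⟶ pullback g s),
    za ≫ pullback.fst g s = f ≫ a → zb ≫ pullback.fst g s = f ≫ b →
    za ≫ pullback.snd g s ≫ t = zb ≫ pullback.snd g s ≫ t → ∀ w : T', za w ∈ V ↔ zb w ∈ V

variable {s t g} {V : (pullback g s).Opens}

theorem StabRel.refl (h : ER s t) {T : Scheme.{u}} (a : T ⟶ X) : StabRel s t g V a a := by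
  intro T' f za zb h1 h2 h3 w
  rw [Z_ext s t g h za zb (h1.trans h2.symm) h3]

theorem StabRel.symm {T : Scheme.{u}} {a b : T ⟶ X} (hab : StabRel s t g V a b) :
    StabRel s t g V b a :=
  fun _ f za zb h1 h2 h3 w => (hab f zb za h2 h1 h3.symm w).symm

theorem StabRel.precomp {T T₁ : Scheme.{u}} (k : T₁ ⟶ T) {a b : T ⟶ X} (hab : StabRel s t g V a b) :
    StabRel s t g V (k ≫ a) (k ≫ b) :=
  fun _ f za zb h1 h2 h3 w => hab (f ≫ k) za zb (by rw [h1, Category.assoc])
    (by rw [h2, Category.assoc]) h3 w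

theorem StabRel.trans (h : ER s t) {T : Scheme.{u}} {a b c : T ⟶ X} (hab : StabRel s t g V a b)
    (hbc : StabRel s t g V b c) (hr : Rel s t (a ≫ g) (b ≫ g)) : StabRel s t g V a c := by
  intro T' f za zc h1 h2 h3 w
  have hrel : Rel s t (za ≫ pullback.snd g s ≫ t) ((f ≫ b) ≫ g) := by
    have e1 : Rel s t (za ≫ pullback.snd g s ≫ t) (za ≫ pullback.fst g s ≫ g) :=
      (Z_rel0 s t g).precomp za
    have e0 : za ≫ pullback.fst g s ≫ g = f ≫ a ≫ g := by
      rw [← Category.assoc, h1, Category.assoc]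
    rw [e0] at e1
    have e2 : Rel s t (f ≫ a ≫ g) (f ≫ b ≫ g) := hr.precomp f
    rw [Category.assoc]
    exact h.rel_trans e1 e2
  obtain ⟨zb, hzb1, hzb2⟩ := Z_lift (f ≫ b) _ hrel
  exact (hab f za zb h1 hzb1 hzb2.symm w).trans (hbc f zb zc hzb1 h2 (hzb2.trans h3) w)

theorem stabRel_zmap_iff (h : ER s t) {X' : Scheme.{u}} (j : X' ⟶ X) (V : (pullback g s).Opens)
    {T : Scheme.{u}} (a b : T ⟶ X') :
    StabRel s t (j ≫ g) (zmap s g j ⁻¹ᵁ V) a b ↔ StabRel s t g V (a ≫ j) (b ≫ j) := by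
  have sq := zmap_isPullback s g j
  constructor
  · intro hab T' f za zb h1 h2 h3 w
    have wa : (f ≫ a) ≫ j = za ≫ pullback.fst g s := by rw [h1, Category.assoc]
    have wb : (f ≫ b) ≫ j = zb ≫ pullback.fst g s := by rw [h2, Category.assoc]
    have e3 : sq.lift (f ≫ a) za wa ≫ pullback.snd (j ≫ g) s ≫ t =
        sq.lift (f ≫ b) zb wb ≫ pullback.snd (j ≫ g) s ≫ t := by
      rw [← zmap_snd s g j, ← Category.assoc, ← Category.assoc, ← Category.assoc, ← Category.assoc,
        sq.lift_snd, sq.lift_snd, Category.assoc, Category.assoc]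
      exact h3
    have := hab f (sq.lift (f ≫ a) za wa) (sq.lift (f ≫ b) zb wb) (sq.lift_fst _ _ _)
      (sq.lift_fst _ _ _) e3 w
    have ea : zmap s g j (sq.lift (f ≫ a) za wa w) = za w := by
      rw [← Scheme.Hom.comp_apply, sq.lift_snd]
    have eb : zmap s g j (sq.lift (f ≫ b) zb wb w) = zb w := by
      rw [← Scheme.Hom.comp_apply, sq.lift_snd]
    rw [← ea, ← eb]
    exact this
  · intro hab T' f za zb h1 h2 h3 w
    have := hab f (za ≫ zmap s g j) (zb ≫ zmap s g j)
      (by rw [Category.assoc, zmap_fst, ← Category.assoc, h1, Category.assoc])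
      (by rw [Category.assoc, zmap_fst, ← Category.assoc, h2, Category.assoc])
      (by rw [Category.assoc, Category.assoc, zmap_snd_assoc]; exact h3) w
    rw [Scheme.Hom.comp_apply, Scheme.Hom.comp_apply] at this
    exact this

end Stab

section RX

variable {U R X : Scheme.{u}} (s t : R ⟶ U) (g : X ⟶ U)

/-- the restricted relation `{(a, b) : g a ∼ g b}` -/
noncomputable abbrev RX : Scheme.{u} := pullback (pullback.snd g s ≫ t) g

noncomputable def pa : RX s t g ⟶ X := pullback.fst (pullback.snd g s ≫ t) g ≫ pullback.fst g s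

noncomputable def pb : RX s t g ⟶ X := pullback.snd (pullback.snd g s ≫ t) g

theorem pa_def : pa s t g = pullback.fst (pullback.snd g s ≫ t) g ≫ pullback.fst g s := rfl

theorem pb_def : pb s t g = pullback.snd (pullback.snd g s ≫ t) g := rfl

theorem RX_ext (h : ER s t) {T : Scheme.{u}} (c c' : T ⟶ RX s t g) (h1 : c ≫ pa s t g = c' ≫ pa s t g)
    (h2 : c ≫ pb s t g = c' ≫ pb s t g) : c = c' := by
  rw [pa_def] at h1
  rw [pb_def] at h2
  apply pullback.hom_ext _ h2
  apply Z_ext s t g h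
  · simpa only [Category.assoc] using h1
  · have e : ∀ d : T ⟶ RX s t g, (d ≫ pullback.fst (pullback.snd g s ≫ t) g) ≫ pullback.snd g s ≫ t =
        (d ≫ pullback.snd (pullback.snd g s ≫ t) g) ≫ g := by
      intro d
      rw [Category.assoc, pullback.condition, Category.assoc]
    rw [e, e, h2]

theorem RX_rel0 : Rel s t (pb s t g ≫ g) (pa s t g ≫ g) := by
  have := (Z_rel0 s t g).precomp (pullback.fst (pullback.snd g s ≫ t) g)
  rw [pullback.condition] at this
  rw [pa_def, pb_def, Category.assoc]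
  exact this

variable {s t g} in
theorem RX_lift {T : Scheme.{u}} (a b : T ⟶ X) (hr : Rel s t (b ≫ g) (a ≫ g)) :
    ∃ c : T ⟶ RX s t g, c ≫ pa s t g = a ∧ c ≫ pb s t g = b := by
  obtain ⟨z, hz1, hz2⟩ := Z_lift a (b ≫ g) hr
  refine ⟨pullback.lift z b hz2, ?_, ?_⟩
  · rw [pa_def, pullback.lift_fst_assoc, hz1]
  · rw [pb_def, pullback.lift_snd]

/-- `β : Y = Z_{pa ≫ g} ⟶ Z_g`, `(a, b, u) ↦ (b, u)` -/
theorem exists_beta (h : ER s t) : ∃ β : pullback (pa s t g ≫ g) s ⟶ pullback g s,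
    β ≫ pullback.fst g s = pullback.fst (pa s t g ≫ g) s ≫ pb s t g ∧
    β ≫ pullback.snd g s ≫ t = pullback.snd (pa s t g ≫ g) s ≫ t := by
  apply Z_lift
  have e1 : Rel s t (pullback.snd (pa s t g ≫ g) s ≫ t)
      (pullback.fst (pa s t g ≫ g) s ≫ pa s t g ≫ g) := Z_rel0 s t (pa s t g ≫ g)
  have e2 : Rel s t (pullback.fst (pa s t g ≫ g) s ≫ pb s t g ≫ g)
      (pullback.fst (pa s t g ≫ g) s ≫ pa s t g ≫ g) :=
    (RX_rel0 s t g).precomp _
  rw [Category.assoc]
  exact h.rel_trans e1 (h.rel_symm e2)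

noncomputable def beta (h : ER s t) : pullback (pa s t g ≫ g) s ⟶ pullback g s :=
  (exists_beta s t g h).choose

@[reassoc]
theorem beta_fst (h : ER s t) :
    beta s t g h ≫ pullback.fst g s = pullback.fst (pa s t g ≫ g) s ≫ pb s t g :=
  (exists_beta s t g h).choose_spec.1

@[reassoc]
theorem beta_snd (h : ER s t) :
    beta s t g h ≫ pullback.snd g s ≫ t = pullback.snd (pa s t g ≫ g) s ≫ t :=
  (exists_beta s t g h).choose_spec.2

theorem beta_isPullback (h : ER s t) :
    IsPullback (pullback.fst (pa s t g ≫ g) s) (beta s t g h) (pb s t g) (pullback.fst g s) := by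
  refine isPullback_of_lift (beta_fst s t g h).symm ?_ ?_
  · intro T c z hcz
    have e1 : Rel s t (z ≫ pullback.snd g s ≫ t) (z ≫ pullback.fst g s ≫ g) :=
      (Z_rel0 s t g).precomp z
    have e0 : z ≫ pullback.fst g s ≫ g = c ≫ pb s t g ≫ g := by
      rw [← Category.assoc, ← hcz, Category.assoc]
    rw [e0] at e1
    have e2 : Rel s t (c ≫ pb s t g ≫ g) (c ≫ pa s t g ≫ g) := (RX_rel0 s t g).precomp c
    obtain ⟨y, hy1, hy2⟩ := Z_lift (g := pa s t g ≫ g) c (z ≫ pullback.snd g s ≫ t)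
      (h.rel_trans e1 e2)
    refine ⟨y, hy1, ?_⟩
    apply Z_ext s t g h
    · rw [Category.assoc, beta_fst, ← Category.assoc, hy1, hcz]
    · rw [Category.assoc, beta_snd, hy2]
  · intro T l l' h1 h2
    apply Z_ext s t (pa s t g ≫ g) h _ _ h1
    have e := congrArg (· ≫ pullback.snd g s ≫ t) h2
    simpa only [Category.assoc, beta_snd] using e

end RX

section Top

theorem isClosed_image_of_isPullback {Y B Z X : Scheme.{u}} {q : Y ⟶ B} {α : Y ⟶ Z} {a : B ⟶ X}
    {p : Z ⟶ X} (sq : IsPullback q α a p) (V : Z.Opens) [UniversallyClosed (V.ι ≫ p)] (C : Set Y)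
    (hC : IsClosed C) (hCV : C ⊆ α ⁻¹' V) : IsClosed (q '' C) := by
  have sqT : IsPullback (pullback.fst α V.ι) (pullback.snd α V.ι) α V.ι := IsPullback.of_hasPullback _ _
  have big := sqT.flip.paste_vert sq.flip
  have huc : UniversallyClosed (pullback.fst α V.ι ≫ q) :=
    MorphismProperty.of_isPullback (P := @UniversallyClosed) big inferInstance
  have hrange : Set.range (pullback.fst α V.ι) = α ⁻¹' V := by
    rw [IsOpenImmersion.range_pullbackFst, Scheme.Opens.opensRange_ι]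
    rfl
  have himg : q '' C = (pullback.fst α V.ι ≫ q) '' (pullback.fst α V.ι ⁻¹' C) := by
    ext b
    constructor
    · rintro ⟨y, hy, rfl⟩
      obtain ⟨w, rfl⟩ : y ∈ Set.range (pullback.fst α V.ι) := by rw [hrange]; exact hCV hy
      exact ⟨w, hy, Scheme.Hom.comp_apply _ _ _⟩
    · rintro ⟨w, hw, rfl⟩
      exact ⟨pullback.fst α V.ι w, hw, (Scheme.Hom.comp_apply _ _ _).symm⟩
  rw [himg]
  exact (pullback.fst α V.ι ≫ q).isClosedMap _ (hC.preimage (pullback.fst α V.ι).continuous)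

end Top

section Bad

variable {U R X : Scheme.{u}} (s t : R ⟶ U) (g : X ⟶ U) (V : (pullback g s).Opens) (h : ER s t)

/-- points of `Y` over which the two pullbacks of `V` differ -/
def dSet : Set ↥(pullback (pa s t g ≫ g) s) :=
  {y | ¬ (zmap s g (pa s t g) y ∈ V ↔ beta s t g h y ∈ V)}

/-- the complement of the stabilizer -/
def badSet : Set ↥(RX s t g) := pullback.fst (pa s t g ≫ g) s '' dSet s t g V h

theorem dSet_eq : dSet s t g V h =
    (zmap s g (pa s t g) ⁻¹' V ∩ (beta s t g h ⁻¹' V)ᶜ) ∪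
      (beta s t g h ⁻¹' V ∩ (zmap s g (pa s t g) ⁻¹' V)ᶜ) := by
  ext y
  simp only [dSet, Set.mem_setOf_eq, Set.mem_union, Set.mem_inter_iff, Set.mem_preimage,
    Set.mem_compl_iff, SetLike.mem_coe]
  tauto

variable (hV : IsClopen (V : Set ↥(pullback g s)))
include hV

theorem isOpen_badSet [Flat s] [LocallyOfFinitePresentation s] : IsOpen (badSet s t g V h) := by
  apply (pullback.fst (pa s t g ≫ g) s).isOpenMap
  rw [dSet_eq]
  have hA : IsClopen (zmap s g (pa s t g) ⁻¹' (V : Set ↥(pullback g s))) :=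
    hV.preimage (zmap s g (pa s t g)).continuous
  have hB : IsClopen (beta s t g h ⁻¹' (V : Set ↥(pullback g s))) :=
    hV.preimage (beta s t g h).continuous
  exact (hA.2.inter hB.1.isOpen_compl).union (hB.2.inter hA.1.isOpen_compl)

theorem isClosed_badSet [UniversallyClosed (V.ι ≫ pullback.fst g s)] : IsClosed (badSet s t g V h) := by
  rw [badSet, dSet_eq, Set.image_union]
  have hA : IsClopen (zmap s g (pa s t g) ⁻¹' (V : Set ↥(pullback g s))) :=
    hV.preimage (zmap s g (pa s t g)).continuous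
  have hB : IsClopen (beta s t g h ⁻¹' (V : Set ↥(pullback g s))) :=
    hV.preimage (beta s t g h).continuous
  refine IsClosed.union ?_ ?_
  · exact isClosed_image_of_isPullback (zmap_isPullback s g (pa s t g)) V _
      (hA.1.inter hB.2.isClosed_compl) Set.inter_subset_left
  · exact isClosed_image_of_isPullback (beta_isPullback s t g h) V _
      (hB.1.inter hA.2.isClosed_compl) Set.inter_subset_left

omit hV in
theorem not_mem_badSet_iff {T : Scheme.{u}} (c : T ⟶ RX s t g) :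
    (∀ x : T, c x ∉ badSet s t g V h) ↔ StabRel s t g V (c ≫ pa s t g) (c ≫ pb s t g) := by
  have sqα := zmap_isPullback s g (pa s t g)
  constructor
  · intro hc T' f za zb h1 h2 h3 w
    have wa : (f ≫ c) ≫ pa s t g = za ≫ pullback.fst g s := by rw [h1, Category.assoc]
    have hy1 : sqα.lift (f ≫ c) za wa ≫ pullback.fst (pa s t g ≫ g) s = f ≫ c := sqα.lift_fst _ _ _
    have hy2 : sqα.lift (f ≫ c) za wa ≫ zmap s g (pa s t g) = za := sqα.lift_snd _ _ _
    have hy3 : sqα.lift (f ≫ c) za wa ≫ beta s t g h = zb := by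
      apply Z_ext s t g h
      · rw [Category.assoc, beta_fst, ← Category.assoc, hy1, h2, Category.assoc]
      · rw [Category.assoc, beta_snd, ← h3]
        have e := congrArg (· ≫ pullback.snd g s ≫ t) hy2
        simpa only [Category.assoc, zmap_snd_assoc] using e
    by_contra hne
    apply hc (f w)
    refine ⟨sqα.lift (f ≫ c) za wa w, ?_, ?_⟩
    · show ¬ (_ ↔ _)
      rw [← Scheme.Hom.comp_apply, ← Scheme.Hom.comp_apply, hy2, hy3]
      exact hne
    · rw [← Scheme.Hom.comp_apply, hy1, Scheme.Hom.comp_apply]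
  · intro hst x hx
    obtain ⟨d, hd, hqd⟩ := hx
    obtain ⟨w, hw1, hw2⟩ := Scheme.Pullback.exists_preimage_pullback (f := c)
      (g := pullback.fst (pa s t g ≫ g) s) x d hqd.symm
    have := hst (pullback.fst c (pullback.fst (pa s t g ≫ g) s))
      (pullback.snd c (pullback.fst (pa s t g ≫ g) s) ≫ zmap s g (pa s t g))
      (pullback.snd c (pullback.fst (pa s t g ≫ g) s) ≫ beta s t g h)
      (by rw [Category.assoc, zmap_fst, ← Category.assoc, ← pullback.condition, Category.assoc])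
      (by rw [Category.assoc, beta_fst, ← Category.assoc, ← pullback.condition, Category.assoc])
      (by rw [Category.assoc, Category.assoc, zmap_snd_assoc, beta_snd]) w
    rw [Scheme.Hom.comp_apply, Scheme.Hom.comp_apply, hw2] at this
    exact hd this

end Bad

section P

variable {U R X : Scheme.{u}} (s t : R ⟶ U) (g : X ⟶ U) (V : (pullback g s).Opens) (h : ER s t)
  (hc : IsClosed (badSet s t g V h))

/-- the stabilizer as an open of `RX` -/
def stab : (RX s t g).Opens := ⟨(badSet s t g V h)ᶜ, hc.isOpen_compl⟩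

theorem mem_stab_iff (x : ↥(RX s t g)) : x ∈ stab s t g V h hc ↔ x ∉ badSet s t g V h := Iff.rfl

theorem stab_rel_iff {T : Scheme.{u}} (a b : T ⟶ X) :
    (∃ c' : T ⟶ (stab s t g V h hc).toScheme, c' ≫ (stab s t g V h hc).ι ≫ pa s t g = a ∧
      c' ≫ (stab s t g V h hc).ι ≫ pb s t g = b) ↔
    (Rel s t (b ≫ g) (a ≫ g) ∧ StabRel s t g V a b) := by
  constructor
  · rintro ⟨c', rfl, rfl⟩
    refine ⟨?_, ?_⟩
    · have := (RX_rel0 s t g).precomp (c' ≫ (stab s t g V h hc).ι)
      simpa only [Category.assoc] using this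
    · have := (not_mem_badSet_iff s t g V h (c' ≫ (stab s t g V h hc).ι)).1 (fun x => by
        rw [Scheme.Hom.comp_apply]
        exact (c' x).2)
      simpa only [Category.assoc] using this
  · rintro ⟨hr, hst⟩
    obtain ⟨c, rfl, rfl⟩ := RX_lift a b hr
    have hcx := (not_mem_badSet_iff s t g V h c).2 hst
    refine ⟨IsOpenImmersion.lift (stab s t g V h hc).ι c ?_, ?_, ?_⟩
    · rintro _ ⟨x, rfl⟩
      rw [Scheme.Opens.range_ι]
      exact hcx x
    · rw [← Category.assoc, IsOpenImmersion.lift_fac]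
    · rw [← Category.assoc, IsOpenImmersion.lift_fac]

theorem stab_ER : ER ((stab s t g V h hc).ι ≫ pb s t g) ((stab s t g V h hc).ι ≫ pa s t g) where
  inj r r' h1 h2 := by
    rw [← cancel_mono (stab s t g V h hc).ι]
    apply RX_ext s t g h
    · simpa only [Category.assoc] using h1
    · simpa only [Category.assoc] using h2
  refl a := (stab_rel_iff s t g V h hc a a).2 ⟨h.rel_refl _, StabRel.refl h a⟩
  symm r := by
    obtain ⟨h1, h2⟩ := (stab_rel_iff s t g V h hc _ _).1 ⟨r, rfl, rfl⟩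
    exact (stab_rel_iff s t g V h hc _ _).2 ⟨h.rel_symm h1, h2.symm⟩
  trans r₁ r₂ h12 := by
    obtain ⟨h1, h2⟩ := (stab_rel_iff s t g V h hc _ _).1 ⟨r₁, rfl, rfl⟩
    obtain ⟨h3, h4⟩ := (stab_rel_iff s t g V h hc _ _).1 ⟨r₂, rfl, rfl⟩
    rw [← h12] at h3 h4
    exact (stab_rel_iff s t g V h hc _ _).2 ⟨h.rel_trans h3 h1, h2.trans h h4 (h.rel_symm h1)⟩

end P

end H10PT.BS
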