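import Groth.Agent.Lib.Helper10.BS1

/-!
# Helper library (helper10): fppf bootstrap, part 2

The stabilizer `P = Stab(V)` maps to `V` by an open immersion when `g` is etale and the etale part of
`P` is trivial; the loci `W₂`, `W₃`; restriction to invariant opens and finiteness.
-/

set_option autoImplicit false
universe u
open CategoryTheory CategoryTheory.Limits AlgebraicGeometry

namespace H10PT.BS

section Pts

variable {U R : Scheme.{u}} {s t : R ⟶ U}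

theorem ER.pt_symm (h : ER s t) (r : R) : ∃ r' : R, t r' = s r ∧ s r' = t r := by
  obtain ⟨i, h1, h2⟩ := h.symm (𝟙 R)
  rw [Category.id_comp] at h1 h2
  refine ⟨i r, ?_, ?_⟩
  · rw [← Scheme.Hom.comp_apply, h1]
  · rw [← Scheme.Hom.comp_apply, h2]

theorem ER.pt_trans (h : ER s t) (r₁ r₂ : R) (h12 : s r₁ = t r₂) :
    ∃ r : R, t r = t r₁ ∧ s r = s r₂ := by
  obtain ⟨c, h1, h2⟩ := h.trans (pullback.fst s t) (pullback.snd s t) pullback.condition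
  obtain ⟨w, hw1, hw2⟩ := Scheme.Pullback.exists_preimage_pullback (f := s) (g := t) r₁ r₂ h12
  refine ⟨c w, ?_, ?_⟩
  · rw [← Scheme.Hom.comp_apply, h1, Scheme.Hom.comp_apply, hw1]
  · rw [← Scheme.Hom.comp_apply, h2, Scheme.Hom.comp_apply, hw2]

theorem isClosed_image_of_subset {Z X : Scheme.{u}} (p : Z ⟶ X) (V : Z.Opens)
    [UniversallyClosed (V.ι ≫ p)] (K : Set Z) (hK : IsClosed K) (hKV : K ⊆ V) :
    IsClosed (p '' K) := by
  have : p '' K = (V.ι ≫ p) '' (V.ι ⁻¹' K) := by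
    ext x
    constructor
    · rintro ⟨z, hz, rfl⟩
      exact ⟨⟨z, hKV hz⟩, hz, Scheme.Hom.comp_apply _ _ _⟩
    · rintro ⟨w, hw, rfl⟩
      exact ⟨V.ι w, hw, (Scheme.Hom.comp_apply _ _ _).symm⟩
  rw [this]
  exact (V.ι ≫ p).isClosedMap _ (hK.preimage V.ι.continuous)

end Pts

section Phi

variable {U R X : Scheme.{u}} (s t : R ⟶ U) (g : X ⟶ U) (V : (pullback g s).Opens) (h : ER s t)
  (hc : IsClosed (badSet s t g V h))

noncomputable def tP : (stab s t g V h hc).toScheme ⟶ X := (stab s t g V h hc).ι ≫ pa s t g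

noncomputable def sP : (stab s t g V h hc).toScheme ⟶ X := (stab s t g V h hc).ι ≫ pb s t g

theorem tP_def : tP s t g V h hc = (stab s t g V h hc).ι ≫ pa s t g := rfl

theorem sP_def : sP s t g V h hc = (stab s t g V h hc).ι ≫ pb s t g := rfl

theorem stabP_ER : ER (sP s t g V h hc) (tP s t g V h hc) := stab_ER s t g V h hc

theorem stabP_rel_iff {T : Scheme.{u}} (a b : T ⟶ X) :
    (∃ c' : T ⟶ (stab s t g V h hc).toScheme, c' ≫ tP s t g V h hc = a ∧ c' ≫ sP s t g V h hc = b) ↔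
    (Rel s t (b ≫ g) (a ≫ g) ∧ StabRel s t g V a b) := stab_rel_iff s t g V h hc a b

include h in
theorem exists_eps : ∃ ε : X ⟶ pullback g s, ε ≫ pullback.fst g s = 𝟙 X ∧
    ε ≫ pullback.snd g s ≫ t = g :=
  Z_lift (𝟙 X) g (by rw [Category.id_comp]; exact h.rel_refl g)

/-- the identity section of `Z_g ⟶ X` -/
noncomputable def eps : X ⟶ pullback g s := (exists_eps s t g h).choose

@[reassoc]
theorem eps_fst : eps s t g h ≫ pullback.fst g s = 𝟙 X := (exists_eps s t g h).choose_spec.1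

@[reassoc]
theorem eps_snd : eps s t g h ≫ pullback.snd g s ≫ t = g := (exists_eps s t g h).choose_spec.2

/-- `(a, b) ↦ (a, g b)` -/
noncomputable def phi : (stab s t g V h hc).toScheme ⟶ pullback g s :=
  (stab s t g V h hc).ι ≫ pullback.fst (pullback.snd g s ≫ t) g

@[reassoc]
theorem phi_fst : phi s t g V h hc ≫ pullback.fst g s = tP s t g V h hc := by
  rw [phi, tP_def, pa_def, Category.assoc]

@[reassoc]
theorem phi_snd : phi s t g V h hc ≫ pullback.snd g s ≫ t = sP s t g V h hc ≫ g := by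
  rw [phi, sP_def, pb_def, Category.assoc, pullback.condition, Category.assoc]

theorem phi_mem (hε : ∀ x : X, eps s t g h x ∈ V) (p : ↥(stab s t g V h hc).toScheme) :
    phi s t g V h hc p ∈ V := by
  obtain ⟨-, hst⟩ := (stabP_rel_iff s t g V h hc _ _).1
    ⟨𝟙 _, Category.id_comp _, Category.id_comp _⟩
  have := hst (𝟙 _) (phi s t g V h hc) (sP s t g V h hc ≫ eps s t g h)
    (by rw [phi_fst, Category.id_comp])
    (by rw [Category.assoc, eps_fst, Category.comp_id, Category.id_comp])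
    (by rw [phi_snd, Category.assoc, eps_snd]) p
  rw [this, Scheme.Hom.comp_apply]
  exact hε _

/-- triviality of the etale part of the stabilizer -/
def TrivE : Prop := ∀ ⦃T : Scheme.{u}⦄ (b b' : T ⟶ X), b ≫ g = b' ≫ g → StabRel s t g V b b' → b = b'

theorem phi_mono (hT : TrivE s t g V) : Mono (phi s t g V h hc) := by
  refine ⟨fun {T} c₁ c₂ hcc => ?_⟩
  have e1 : c₁ ≫ tP s t g V h hc = c₂ ≫ tP s t g V h hc := by
    rw [← phi_fst, ← Category.assoc, hcc, Category.assoc]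
  have e2 : (c₁ ≫ sP s t g V h hc) ≫ g = (c₂ ≫ sP s t g V h hc) ≫ g := by
    rw [Category.assoc, Category.assoc, ← phi_snd, ← Category.assoc, hcc, Category.assoc]
  obtain ⟨hr1, hs1⟩ := (stabP_rel_iff s t g V h hc _ _).1 ⟨c₁, rfl, rfl⟩
  obtain ⟨-, hs2⟩ := (stabP_rel_iff s t g V h hc _ _).1 ⟨c₂, rfl, rfl⟩
  rw [← e1] at hs2
  have := hT _ _ e2 (hs1.symm.trans h hs2 hr1)
  exact (stabP_ER s t g V h hc).inj c₁ c₂ e1 this

theorem phi_isOpenImmersion [Etale g] (hT : TrivE s t g V) : IsOpenImmersion (phi s t g V h hc) := by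
  haveI := phi_mono s t g V h hc hT
  haveI : Etale (phi s t g V h hc) := by
    unfold phi
    infer_instance
  exact IsOpenImmersion.of_flat_of_mono _

theorem exists_eP : ∃ e : X ⟶ (stab s t g V h hc).toScheme, e ≫ tP s t g V h hc = 𝟙 X ∧
    e ≫ sP s t g V h hc = 𝟙 X := (stabP_ER s t g V h hc).refl (𝟙 X)

theorem eP_phi (e : X ⟶ (stab s t g V h hc).toScheme) (he1 : e ≫ tP s t g V h hc = 𝟙 X)
    (he2 : e ≫ sP s t g V h hc = 𝟙 X) : e ≫ phi s t g V h hc = eps s t g h := by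
  apply Z_ext s t g h
  · rw [Category.assoc, phi_fst, he1, eps_fst]
  · rw [Category.assoc, phi_snd, ← Category.assoc, he2, Category.id_comp, eps_snd]

/-- points over which `V` is covered by `phi` -/
def W2 : Set ↥X := {x | ∀ z : ↥(pullback g s), z ∈ V → pullback.fst g s z = x →
  z ∈ Set.range (phi s t g V h hc)}

theorem W2_compl : (W2 s t g V h hc)ᶜ =
    pullback.fst g s '' ((V : Set ↥(pullback g s)) ∩ (Set.range (phi s t g V h hc))ᶜ) := by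
  ext x
  constructor
  · intro hx
    by_contra hcon
    apply hx
    intro z hzV hzx
    by_contra hzr
    exact hcon ⟨z, ⟨hzV, hzr⟩, hzx⟩
  · rintro ⟨z, ⟨hzV, hzr⟩, rfl⟩ hx
    exact hzr (hx z hzV rfl)

variable (hV : IsClopen (V : Set ↥(pullback g s)))

include hV in
theorem isOpen_W2 [UniversallyClosed (V.ι ≫ pullback.fst g s)] [IsOpenImmersion (phi s t g V h hc)] :
    IsOpen (W2 s t g V h hc) := by
  rw [← isClosed_compl_iff, W2_compl]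
  exact isClosed_image_of_subset _ V _
    (hV.1.inter (phi s t g V h hc).isOpenEmbedding.isOpen_range.isClosed_compl) Set.inter_subset_left

/-- points of `W₂` whose whole orbit lies in `W₂` -/
def W3 : Set ↥X := {x | x ∈ W2 s t g V h hc ∧
  ∀ p : ↥(stab s t g V h hc).toScheme, tP s t g V h hc p = x → sP s t g V h hc p ∈ W2 s t g V h hc}

include hV in
theorem isOpen_W3 [UniversallyClosed (V.ι ≫ pullback.fst g s)] [IsOpenImmersion (phi s t g V h hc)]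
    (hε : ∀ x : X, eps s t g h x ∈ V) : IsOpen (W3 s t g V h hc) := by
  have hW2 := isOpen_W2 s t g V h hc hV
  have hA : IsClosed (sP s t g V h hc ⁻¹' (W2 s t g V h hc)ᶜ) :=
    hW2.isClosed_compl.preimage (sP s t g V h hc).continuous
  have hN : IsClosed (pullback.fst g s ''
      (closure (phi s t g V h hc '' (sP s t g V h hc ⁻¹' (W2 s t g V h hc)ᶜ)) ∩
        (V : Set ↥(pullback g s)))) :=
    isClosed_image_of_subset _ V _ (isClosed_closure.inter hV.1) Set.inter_subset_right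
  have heq : W3 s t g V h hc = W2 s t g V h hc ∩ (pullback.fst g s ''
      (closure (phi s t g V h hc '' (sP s t g V h hc ⁻¹' (W2 s t g V h hc)ᶜ)) ∩
        (V : Set ↥(pullback g s))))ᶜ := by
    ext x
    constructor
    · rintro ⟨hx2, hx3⟩
      refine ⟨hx2, ?_⟩
      rintro ⟨z, ⟨hzc, hzV⟩, rfl⟩
      obtain ⟨p, rfl⟩ := hx2 z hzV rfl
      have hpA : p ∈ sP s t g V h hc ⁻¹' (W2 s t g V h hc)ᶜ := by
        have e := (phi s t g V h hc).isOpenEmbedding.isEmbedding.closure_eq_preimage_closure_image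
          (sP s t g V h hc ⁻¹' (W2 s t g V h hc)ᶜ)
        have hp : p ∈ closure (sP s t g V h hc ⁻¹' (W2 s t g V h hc)ᶜ) := by
          rw [e]; exact hzc
        rwa [hA.closure_eq] at hp
      exact hpA (hx3 p (by rw [← phi_fst, Scheme.Hom.comp_apply]))
    · rintro ⟨hx2, hxN⟩
      refine ⟨hx2, fun p hp => ?_⟩
      by_contra hcon
      apply hxN
      refine ⟨phi s t g V h hc p, ⟨subset_closure ⟨p, hcon, rfl⟩, phi_mem s t g V h hc hε p⟩, ?_⟩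
      rw [← Scheme.Hom.comp_apply, phi_fst]
      exact hp
  rw [heq]
  exact hW2.inter hN.isOpen_compl

theorem W3_inv (p : ↥(stab s t g V h hc).toScheme) (hp : tP s t g V h hc p ∈ W3 s t g V h hc) :
    sP s t g V h hc p ∈ W3 s t g V h hc := by
  refine ⟨hp.2 p rfl, fun p' hp' => ?_⟩
  obtain ⟨p'', h1, h2⟩ := (stabP_ER s t g V h hc).pt_trans p p' hp'.symm
  rw [← h2]
  exact hp.2 p'' h1

theorem W3_inv' (p : ↥(stab s t g V h hc).toScheme) (hp : sP s t g V h hc p ∈ W3 s t g V h hc) :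
    tP s t g V h hc p ∈ W3 s t g V h hc := by
  obtain ⟨p', h1, h2⟩ := (stabP_ER s t g V h hc).pt_symm p
  rw [← h2]
  exact W3_inv s t g V h hc p' (by rw [h1]; exact hp)

theorem special [IsOpenImmersion (phi s t g V h hc)] (hε : ∀ x : X, eps s t g h x ∈ V) (x₁ : X)
    (hx₁ : ∀ z : ↥(pullback g s), z ∈ V → pullback.fst g s z = x₁ → z = eps s t g h x₁) :
    x₁ ∈ W3 s t g V h hc ∧
      ∀ p : ↥(stab s t g V h hc).toScheme, tP s t g V h hc p = x₁ → sP s t g V h hc p = x₁ := by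
  obtain ⟨e, he1, he2⟩ := exists_eP s t g V h hc
  have hphie : phi s t g V h hc (e x₁) = eps s t g h x₁ := by
    rw [← Scheme.Hom.comp_apply, eP_phi s t g V h hc e he1 he2]
  have key : ∀ p : ↥(stab s t g V h hc).toScheme, tP s t g V h hc p = x₁ → p = e x₁ := by
    intro p hp
    apply (phi s t g V h hc).isOpenEmbedding.injective
    rw [hphie]
    apply hx₁ _ (phi_mem s t g V h hc hε p)
    rw [← Scheme.Hom.comp_apply, phi_fst]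
    exact hp
  have hs : ∀ p : ↥(stab s t g V h hc).toScheme, tP s t g V h hc p = x₁ →
      sP s t g V h hc p = x₁ := by
    intro p hp
    rw [key p hp, ← Scheme.Hom.comp_apply, he2]
    rfl
  have h2 : x₁ ∈ W2 s t g V h hc := by
    intro z hzV hzx
    exact ⟨e x₁, by rw [hphie, hx₁ z hzV hzx]⟩
  exact ⟨⟨h2, fun p hp => by rw [hs p hp]; exact h2⟩, hs⟩

end Phi

section Restrict

variable {U R X : Scheme.{u}} (s t : R ⟶ U) (g : X ⟶ U) (V : (pullback g s).Opens) (h : ER s t)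
  (hc : IsClosed (badSet s t g V h)) (𝒲 : X.Opens)
  (hc₀ : IsClosed (badSet s t (𝒲.ι ≫ g) (zmap s g 𝒲.ι ⁻¹ᵁ V) h))

theorem eps_zmap : eps s t (𝒲.ι ≫ g) h ≫ zmap s g 𝒲.ι = 𝒲.ι ≫ eps s t g h := by
  apply Z_ext s t g h
  · rw [Category.assoc, zmap_fst, eps_fst_assoc, Category.assoc, eps_fst, Category.comp_id]
  · rw [Category.assoc, zmap_snd_assoc, eps_snd, Category.assoc, eps_snd]

theorem hε_restrict (hε : ∀ x : X, eps s t g h x ∈ V) (x : ↥𝒲.toScheme) :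
    eps s t (𝒲.ι ≫ g) h x ∈ zmap s g 𝒲.ι ⁻¹ᵁ V := by
  show zmap s g 𝒲.ι (eps s t (𝒲.ι ≫ g) h x) ∈ V
  rw [← Scheme.Hom.comp_apply, eps_zmap, Scheme.Hom.comp_apply]
  exact hε _

include h in
theorem trivE_restrict (hT : TrivE s t g V) : TrivE s t (𝒲.ι ≫ g) (zmap s g 𝒲.ι ⁻¹ᵁ V) := by
  intro T b b' hbb hst
  rw [← cancel_mono 𝒲.ι]
  apply hT
  · simpa only [Category.assoc] using hbb
  · exact (stabRel_zmap_iff h 𝒲.ι V b b').1 hst

instance zmap_isOpenImmersion : IsOpenImmersion (zmap s g 𝒲.ι) :=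
  MorphismProperty.of_isPullback (P := @IsOpenImmersion) (zmap_isPullback s g 𝒲.ι) inferInstance

/-- points of `P₀` give points of `P` -/
theorem exists_map_P0 : ∃ c : (stab s t (𝒲.ι ≫ g) (zmap s g 𝒲.ι ⁻¹ᵁ V) h hc₀).toScheme ⟶
    (stab s t g V h hc).toScheme,
    c ≫ tP s t g V h hc = tP s t (𝒲.ι ≫ g) (zmap s g 𝒲.ι ⁻¹ᵁ V) h hc₀ ≫ 𝒲.ι ∧
    c ≫ sP s t g V h hc = sP s t (𝒲.ι ≫ g) (zmap s g 𝒲.ι ⁻¹ᵁ V) h hc₀ ≫ 𝒲.ι := by
  obtain ⟨hr, hst⟩ := (stabP_rel_iff s t (𝒲.ι ≫ g) (zmap s g 𝒲.ι ⁻¹ᵁ V) h hc₀ _ _).1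
    ⟨𝟙 _, Category.id_comp _, Category.id_comp _⟩
  apply (stabP_rel_iff s t g V h hc _ _).2
  refine ⟨?_, (stabRel_zmap_iff h 𝒲.ι V _ _).1 hst⟩
  simpa only [Category.assoc] using hr

/-- points of `P` with both ends in `𝒲` come from `P₀` -/
theorem exists_lift_P0 {T : Scheme.{u}} (c : T ⟶ (stab s t g V h hc).toScheme)
    (h1 : ∀ x : T, (c ≫ tP s t g V h hc) x ∈ 𝒲) (h2 : ∀ x : T, (c ≫ sP s t g V h hc) x ∈ 𝒲) :
    ∃ c₀ : T ⟶ (stab s t (𝒲.ι ≫ g) (zmap s g 𝒲.ι ⁻¹ᵁ V) h hc₀).toScheme,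
      c₀ ≫ tP s t (𝒲.ι ≫ g) (zmap s g 𝒲.ι ⁻¹ᵁ V) h hc₀ ≫ 𝒲.ι = c ≫ tP s t g V h hc ∧
      c₀ ≫ sP s t (𝒲.ι ≫ g) (zmap s g 𝒲.ι ⁻¹ᵁ V) h hc₀ ≫ 𝒲.ι = c ≫ sP s t g V h hc ∧
      c₀ ≫ phi s t (𝒲.ι ≫ g) (zmap s g 𝒲.ι ⁻¹ᵁ V) h hc₀ ≫ zmap s g 𝒲.ι = c ≫ phi s t g V h hc := by
  have r1 : Set.range (c ≫ tP s t g V h hc) ⊆ Set.range 𝒲.ι := by
    rintro _ ⟨x, rfl⟩
    rw [Scheme.Opens.range_ι]
    exact h1 x
  have r2 : Set.range (c ≫ sP s t g V h hc) ⊆ Set.range 𝒲.ι := by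
    rintro _ ⟨x, rfl⟩
    rw [Scheme.Opens.range_ι]
    exact h2 x
  obtain ⟨hr, hst⟩ := (stabP_rel_iff s t g V h hc _ _).1 ⟨c, rfl, rfl⟩
  have ea : IsOpenImmersion.lift 𝒲.ι (c ≫ tP s t g V h hc) r1 ≫ 𝒲.ι = c ≫ tP s t g V h hc :=
    IsOpenImmersion.lift_fac _ _ _
  have eb : IsOpenImmersion.lift 𝒲.ι (c ≫ sP s t g V h hc) r2 ≫ 𝒲.ι = c ≫ sP s t g V h hc :=
    IsOpenImmersion.lift_fac _ _ _
  obtain ⟨c₀, hc1, hc2⟩ := (stabP_rel_iff s t (𝒲.ι ≫ g) (zmap s g 𝒲.ι ⁻¹ᵁ V) h hc₀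
    (IsOpenImmersion.lift 𝒲.ι (c ≫ tP s t g V h hc) r1)
    (IsOpenImmersion.lift 𝒲.ι (c ≫ sP s t g V h hc) r2)).2 ⟨by
      rw [← Category.assoc, ← Category.assoc, ea, eb]; exact hr, by
      apply (stabRel_zmap_iff h 𝒲.ι V _ _).2
      rw [ea, eb]; exact hst⟩
  refine ⟨c₀, by rw [← Category.assoc, hc1, ea], by rw [← Category.assoc, hc2, eb], ?_⟩
  apply Z_ext s t g h
  · rw [Category.assoc, Category.assoc, zmap_fst, phi_fst_assoc, Category.assoc, phi_fst,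
      ← Category.assoc, hc1, ea]
  · rw [Category.assoc, Category.assoc, zmap_snd_assoc, phi_snd, Category.assoc, phi_snd,
      ← Category.assoc c₀, hc2, ← Category.assoc _ 𝒲.ι, eb, Category.assoc]

variable (hV : IsClopen (V : Set ↥(pullback g s))) [Etale g]

include hV in
theorem isFinite_restrict [IsFinite (V.ι ≫ pullback.fst g s)] (hε : ∀ x : X, eps s t g h x ∈ V)
    (hT : TrivE s t g V) [IsOpenImmersion (phi s t g V h hc)]
    (h𝒲 : ∀ x : X, x ∈ 𝒲 → x ∈ W2 s t g V h hc)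
    (hinv : ∀ p : ↥(stab s t g V h hc).toScheme, tP s t g V h hc p ∈ 𝒲 → sP s t g V h hc p ∈ 𝒲) :
    IsFinite (tP s t (𝒲.ι ≫ g) (zmap s g 𝒲.ι ⁻¹ᵁ V) h hc₀) ∧
      IsFinite (sP s t (𝒲.ι ≫ g) (zmap s g 𝒲.ι ⁻¹ᵁ V) h hc₀) := by
  haveI : Etale (𝒲.ι ≫ g) := inferInstance
  haveI := phi_isOpenImmersion s t (𝒲.ι ≫ g) (zmap s g 𝒲.ι ⁻¹ᵁ V) h hc₀
    (trivE_restrict s t g V h 𝒲 hT)
  have hmem := phi_mem s t (𝒲.ι ≫ g) (zmap s g 𝒲.ι ⁻¹ᵁ V) h hc₀ (hε_restrict s t g V h 𝒲 hε)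
  have hfin₀ : IsFinite ((zmap s g 𝒲.ι ⁻¹ᵁ V).ι ≫ pullback.fst (𝒲.ι ≫ g) s) :=
    restrict_prop s g 𝒲.ι @IsFinite V inferInstance
  -- the lift to `V₀`
  have hr : Set.range (phi s t (𝒲.ι ≫ g) (zmap s g 𝒲.ι ⁻¹ᵁ V) h hc₀) ⊆
      Set.range (zmap s g 𝒲.ι ⁻¹ᵁ V).ι := by
    rintro _ ⟨p, rfl⟩
    rw [Scheme.Opens.range_ι]
    exact hmem p
  have hfac : IsOpenImmersion.lift (zmap s g 𝒲.ι ⁻¹ᵁ V).ι
      (phi s t (𝒲.ι ≫ g) (zmap s g 𝒲.ι ⁻¹ᵁ V) h hc₀) hr ≫ (zmap s g 𝒲.ι ⁻¹ᵁ V).ι =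
      phi s t (𝒲.ι ≫ g) (zmap s g 𝒲.ι ⁻¹ᵁ V) h hc₀ := IsOpenImmersion.lift_fac _ _ _
  haveI : IsOpenImmersion (IsOpenImmersion.lift (zmap s g 𝒲.ι ⁻¹ᵁ V).ι
      (phi s t (𝒲.ι ≫ g) (zmap s g 𝒲.ι ⁻¹ᵁ V) h hc₀) hr ≫ (zmap s g 𝒲.ι ⁻¹ᵁ V).ι) := by
    rw [hfac]; infer_instance
  haveI hoi : IsOpenImmersion (IsOpenImmersion.lift (zmap s g 𝒲.ι ⁻¹ᵁ V).ι
      (phi s t (𝒲.ι ≫ g) (zmap s g 𝒲.ι ⁻¹ᵁ V) h hc₀) hr) :=
    IsOpenImmersion.of_comp _ (zmap s g 𝒲.ι ⁻¹ᵁ V).ι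
  have hsurj : Surjective (IsOpenImmersion.lift (zmap s g 𝒲.ι ⁻¹ᵁ V).ι
      (phi s t (𝒲.ι ≫ g) (zmap s g 𝒲.ι ⁻¹ᵁ V) h hc₀) hr) := by
    refine ⟨fun z₀ => ?_⟩
    have hzV : zmap s g 𝒲.ι z₀.1 ∈ V := z₀.2
    have hzx : pullback.fst g s (zmap s g 𝒲.ι z₀.1) = 𝒲.ι (pullback.fst (𝒲.ι ≫ g) s z₀.1) := by
      rw [← Scheme.Hom.comp_apply, zmap_fst, Scheme.Hom.comp_apply]
    obtain ⟨p, hp⟩ := h𝒲 _ (pullback.fst (𝒲.ι ≫ g) s z₀.1).2 _ hzV hzx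
    have htp : tP s t g V h hc p ∈ 𝒲 := by
      rw [← phi_fst, Scheme.Hom.comp_apply, hp, hzx]
      exact (pullback.fst (𝒲.ι ≫ g) s z₀.1).2
    have hsp := hinv p htp
    let Ω : (stab s t g V h hc).toScheme.Opens := tP s t g V h hc ⁻¹ᵁ 𝒲 ⊓ sP s t g V h hc ⁻¹ᵁ 𝒲
    obtain ⟨c₀, -, -, hc3⟩ := exists_lift_P0 s t g V h hc 𝒲 hc₀ Ω.ι
      (fun x => by rw [Scheme.Hom.comp_apply]; exact x.2.1)
      (fun x => by rw [Scheme.Hom.comp_apply]; exact x.2.2)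
    refine ⟨c₀ ⟨p, htp, hsp⟩, ?_⟩
    apply (zmap s g 𝒲.ι ⁻¹ᵁ V).ι.isOpenEmbedding.injective
    apply (zmap s g 𝒲.ι).isOpenEmbedding.injective
    have e1 : (zmap s g 𝒲.ι ⁻¹ᵁ V).ι ((IsOpenImmersion.lift (zmap s g 𝒲.ι ⁻¹ᵁ V).ι
        (phi s t (𝒲.ι ≫ g) (zmap s g 𝒲.ι ⁻¹ᵁ V) h hc₀) hr) (c₀ ⟨p, htp, hsp⟩)) =
        phi s t (𝒲.ι ≫ g) (zmap s g 𝒲.ι ⁻¹ᵁ V) h hc₀ (c₀ ⟨p, htp, hsp⟩) := by
      rw [← Scheme.Hom.comp_apply, hfac]
    have e2 : (c₀ ≫ phi s t (𝒲.ι ≫ g) (zmap s g 𝒲.ι ⁻¹ᵁ V) h hc₀ ≫ zmap s g 𝒲.ι) ⟨p, htp, hsp⟩ =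
        (Ω.ι ≫ phi s t g V h hc) ⟨p, htp, hsp⟩ := by rw [hc3]
    rw [Scheme.Hom.comp_apply, Scheme.Hom.comp_apply, Scheme.Hom.comp_apply] at e2
    rw [e1, e2]
    exact hp
  haveI : IsIso (IsOpenImmersion.lift (zmap s g 𝒲.ι ⁻¹ᵁ V).ι
      (phi s t (𝒲.ι ≫ g) (zmap s g 𝒲.ι ⁻¹ᵁ V) h hc₀) hr) :=
    (isIso_iff_isOpenImmersion_and_surjective _).2 ⟨hoi, hsurj⟩
  have ht : IsFinite (tP s t (𝒲.ι ≫ g) (zmap s g 𝒲.ι ⁻¹ᵁ V) h hc₀) := by
    rw [← phi_fst, ← hfac, Category.assoc]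
    infer_instance
  refine ⟨ht, ?_⟩
  obtain ⟨i, hi1, hi2⟩ := (stabP_ER s t (𝒲.ι ≫ g) (zmap s g 𝒲.ι ⁻¹ᵁ V) h hc₀).symm (𝟙 _)
  rw [Category.id_comp] at hi1 hi2
  haveI : IsIso i := by
    refine ⟨i, ?_, ?_⟩ <;>
    · apply (stabP_ER s t (𝒲.ι ≫ g) (zmap s g 𝒲.ι ⁻¹ᵁ V) h hc₀).inj
      · rw [Category.assoc, hi1, hi2, Category.id_comp]
      · rw [Category.assoc, hi2, hi1, Category.id_comp]
  rw [← hi1]
  infer_instance

end Restrict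

end H10PT.BS
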