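import Mathlib
import Groth.Prelude.Def_AlgSpRep

/-!
# Limit preservation is fppf local: the abstract descent step

A sheaf of sets `F` on `Over S` turns a cofiltered system with a cone into a filtered system of
sets with a cocone.  If the system admits a finite family of "pieces" covering it (compatibly with
the cone) such that the colimit comparison is bijective for the pieces and injective for the double
overlaps, then the colimit comparison is bijective for the system itself.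
-/

set_option autoImplicit false
universe u w
open CategoryTheory CategoryTheory.Limits AlgebraicGeometry Opposite

namespace H10PT.LimLoc

open AlgSp

section Basic

variable {C : Type*} [Category C] (F : Cᵒᵖ ⥤ Type w)

theorem map_op_comp {X Y Z : C} (g : X ⟶ Y) (h : Y ⟶ Z) (x : F.obj (op Z)) :
    F.map (g ≫ h).op x = F.map g.op (F.map h.op x) := by
  rw [op_comp, FunctorToTypes.map_comp_apply]

theorem map_op_sq {W X Y Z : C} {g : W ⟶ X} {h : X ⟶ Z} {g' : W ⟶ Y} {h' : Y ⟶ Z}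
    (e : g ≫ h = g' ≫ h') (x : F.obj (op Z)) :
    F.map g.op (F.map h.op x) = F.map g'.op (F.map h'.op x) := by
  rw [← map_op_comp, ← map_op_comp, e]

theorem map_op_tri {X Y Z : C} {g : X ⟶ Y} {h : Y ⟶ Z} {k : X ⟶ Z}
    (e : g ≫ h = k) (x : F.obj (op Z)) :
    F.map g.op (F.map h.op x) = F.map k.op x := by
  rw [← map_op_comp, e]

end Basic

/-- In a cofiltered category, finitely many "eventually true" monotone predicates hold
simultaneously at some object. -/
theorem exists_common_obj {C : Type*} [Category C] [IsCofiltered C] {K : Type*} [Finite K]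
    (P : K → C → Prop) (hmono : ∀ k (X Y : C) (_ : Y ⟶ X), P k X → P k Y)
    (hex : ∀ k, ∃ X, P k X) : ∃ X, ∀ k, P k X := by
  classical
  haveI := Fintype.ofFinite K
  choose X hX using hex
  obtain ⟨Y, hY⟩ := IsCofiltered.inf_objs_exists (Finset.univ.image X)
  refine ⟨Y, fun k => ?_⟩
  obtain ⟨f⟩ := hY (Finset.mem_image_of_mem X (Finset.mem_univ k))
  exact hmono k _ _ f (hX k)

section Cover

variable {S : Scheme.{u}} (F : (Over S)ᵒᵖ ⥤ Type (u + 1)) (hF : Presheaf.IsSheaf (J S) F)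
include hF

theorem isSheafFor_arrows {K : Type*} {X : Over S} (Y : K → Over S) (π : ∀ k, Y k ⟶ X)
    (hcov : Sieve.generate (Presieve.ofArrows Y π) ∈ J S X) :
    ∀ (x : (k : K) → F.obj (op (Y k))), Presieve.Arrows.Compatible F π x →
      ∃! t, ∀ k, F.map (π k).op t = x k := by
  have hsh : Presieve.IsSheafFor F (Presieve.ofArrows Y π) :=
    (Presieve.isSheafFor_iff_generate _).2 (((isSheaf_iff_isSheaf_of_type _ _).1 hF) _ hcov)
  rwa [Presieve.isSheafFor_arrows_iff] at hsh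

theorem ext_of_cover {K : Type*} {X : Over S} (Y : K → Over S) (π : ∀ k, Y k ⟶ X)
    (hcov : Sieve.generate (Presieve.ofArrows Y π) ∈ J S X) (x y : F.obj (op X))
    (h : ∀ k, F.map (π k).op x = F.map (π k).op y) : x = y := by
  obtain ⟨t, _, ht⟩ := isSheafFor_arrows F hF Y π hcov (fun k => F.map (π k).op x) (by
    intro k l Z g₁ g₂ hg
    exact map_op_sq F hg x)
  exact (ht x (fun k => rfl)).trans (ht y (fun k => (h k).symm)).symm

theorem glue_of_cover {K : Type*} {X : Over S} (Y : K → Over S) (π : ∀ k, Y k ⟶ X)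
    (hcov : Sieve.generate (Presieve.ofArrows Y π) ∈ J S X) (z : ∀ k, F.obj (op (Y k)))
    (hz : ∀ k l (Z : Over S) (g₁ : Z ⟶ Y k) (g₂ : Z ⟶ Y l), g₁ ≫ π k = g₂ ≫ π l →
      F.map g₁.op (z k) = F.map g₂.op (z l)) :
    ∃ x : F.obj (op X), ∀ k, F.map (π k).op x = z k := by
  obtain ⟨t, ht, _⟩ := isSheafFor_arrows F hF Y π hcov z (by
    intro k l Z g₁ g₂ hg
    exact hz k l Z g₁ g₂ hg)
  exact ⟨t, ht⟩

end Cover

section Descent

variable {S : Scheme.{u}} (F : (Over S)ᵒᵖ ⥤ Type (u + 1))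

/-- The descent step. -/
theorem surj_inj_of_pieces (hF : Presheaf.IsSheaf (J S) F)
    {I : Type*} [Category I] [IsCofiltered I] (D : I ⥤ Over S) (c : Cone D)
    {K : Type*} [Finite K]
    (Dk : K → (I ⥤ Over S)) (ck : ∀ k, Cone (Dk k)) (πk : ∀ k, Dk k ⟶ D)
    (πinf : ∀ k, (ck k).pt ⟶ c.pt)
    (hπ : ∀ k i, (ck k).π.app i ≫ (πk k).app i = πinf k ≫ c.π.app i)
    (hcov : ∀ i, Sieve.generate (Presieve.ofArrows (fun k => (Dk k).obj i)
      (fun k => (πk k).app i)) ∈ J S (D.obj i))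
    (hcovinf : Sieve.generate (Presieve.ofArrows (fun k => (ck k).pt) πinf) ∈ J S c.pt)
    (Dkl : K → K → (I ⥤ Over S)) (ckl : ∀ k l, Cone (Dkl k l))
    (pr₁ : ∀ k l, Dkl k l ⟶ Dk k) (pr₂ : ∀ k l, Dkl k l ⟶ Dk l)
    (pr₁inf : ∀ k l, (ckl k l).pt ⟶ (ck k).pt) (pr₂inf : ∀ k l, (ckl k l).pt ⟶ (ck l).pt)
    (hpr₁ : ∀ k l i, (ckl k l).π.app i ≫ (pr₁ k l).app i = pr₁inf k l ≫ (ck k).π.app i)
    (hpr₂ : ∀ k l i, (ckl k l).π.app i ≫ (pr₂ k l).app i = pr₂inf k l ≫ (ck l).π.app i)
    (hprinf : ∀ k l, pr₁inf k l ≫ πinf k = pr₂inf k l ≫ πinf l)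
    (hwpb : ∀ k l i (Z : Over S) (g₁ : Z ⟶ (Dk k).obj i) (g₂ : Z ⟶ (Dk l).obj i),
      g₁ ≫ (πk k).app i = g₂ ≫ (πk l).app i →
      ∃ h : Z ⟶ (Dkl k l).obj i, h ≫ (pr₁ k l).app i = g₁ ∧ h ≫ (pr₂ k l).app i = g₂)
    (hsurjk : ∀ k (z : F.obj (op (ck k).pt)), ∃ (i : I) (z' : F.obj (op ((Dk k).obj i))),
      F.map ((ck k).π.app i).op z' = z)
    (hinjk : ∀ k i (x y : F.obj (op ((Dk k).obj i))),
      F.map ((ck k).π.app i).op x = F.map ((ck k).π.app i).op y →
      ∃ (i' : I) (g : i' ⟶ i), F.map ((Dk k).map g).op x = F.map ((Dk k).map g).op y)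
    (hinjkl : ∀ k l i (x y : F.obj (op ((Dkl k l).obj i))),
      F.map ((ckl k l).π.app i).op x = F.map ((ckl k l).π.app i).op y →
      ∃ (i' : I) (g : i' ⟶ i), F.map ((Dkl k l).map g).op x = F.map ((Dkl k l).map g).op y) :
    (∀ z : F.obj (op c.pt), ∃ (i : I) (z' : F.obj (op (D.obj i))), F.map (c.π.app i).op z' = z) ∧
    (∀ i (x y : F.obj (op (D.obj i))), F.map (c.π.app i).op x = F.map (c.π.app i).op y →
      ∃ (i' : I) (g : i' ⟶ i), F.map (D.map g).op x = F.map (D.map g).op y) := by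
  -- monotonicity helper
  have hmono : ∀ (G : I ⥤ Over S) (i : I) (a b : F.obj (op (G.obj i))) (X Y : Over i)
      (_ : Y ⟶ X), F.map (G.map X.hom).op a = F.map (G.map X.hom).op b →
      F.map (G.map Y.hom).op a = F.map (G.map Y.hom).op b := by
    intro G i a b X Y f h
    have e : G.map f.left ≫ G.map X.hom = G.map Y.hom := by
      rw [← G.map_comp, Over.w f]
    rw [← map_op_tri F e a, ← map_op_tri F e b, h]
  refine ⟨?_, ?_⟩
  · intro z
    have h1 : ∀ k, ∃ i : I, ∃ z' : F.obj (op ((Dk k).obj i)),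
        F.map ((ck k).π.app i).op z' = F.map (πinf k).op z := fun k => hsurjk k _
    obtain ⟨i, hi⟩ := exists_common_obj
      (fun k (i : I) => ∃ z' : F.obj (op ((Dk k).obj i)),
        F.map ((ck k).π.app i).op z' = F.map (πinf k).op z)
      (by
        rintro k i' i'' f ⟨z', hz'⟩
        exact ⟨F.map ((Dk k).map f).op z', by rw [map_op_tri F ((ck k).w f) z', hz']⟩) h1
    choose zk hzk using hi
    have h2 : ∀ kl : K × K, ∃ X : Over i,
        F.map ((Dkl kl.1 kl.2).map X.hom).op (F.map ((pr₁ kl.1 kl.2).app i).op (zk kl.1)) =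
        F.map ((Dkl kl.1 kl.2).map X.hom).op (F.map ((pr₂ kl.1 kl.2).app i).op (zk kl.2)) := by
      rintro ⟨k, l⟩
      obtain ⟨i', g, hg⟩ := hinjkl k l i (F.map ((pr₁ k l).app i).op (zk k))
        (F.map ((pr₂ k l).app i).op (zk l)) (by
          rw [map_op_sq F (hpr₁ k l i), map_op_sq F (hpr₂ k l i), hzk k, hzk l,
            map_op_sq F (hprinf k l)])
      exact ⟨Over.mk g, hg⟩
    obtain ⟨X, hX⟩ := exists_common_obj
      (fun (kl : K × K) (X : Over i) =>
        F.map ((Dkl kl.1 kl.2).map X.hom).op (F.map ((pr₁ kl.1 kl.2).app i).op (zk kl.1)) =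
        F.map ((Dkl kl.1 kl.2).map X.hom).op (F.map ((pr₂ kl.1 kl.2).app i).op (zk kl.2)))
      (fun kl X Y f h => hmono (Dkl kl.1 kl.2) i _ _ X Y f h) h2
    obtain ⟨x, hx⟩ := glue_of_cover F hF _ _ (hcov X.left)
      (fun k => F.map ((Dk k).map X.hom).op (zk k)) (by
        intro k l Z g₁ g₂ hg
        obtain ⟨h, e1, e2⟩ := hwpb k l X.left Z g₁ g₂ hg
        rw [← e1, ← e2, map_op_comp, map_op_comp]
        congr 1
        rw [map_op_sq F ((pr₁ k l).naturality X.hom).symm (zk k),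
          map_op_sq F ((pr₂ k l).naturality X.hom).symm (zk l)]
        exact hX (k, l))
    refine ⟨X.left, x, ?_⟩
    refine ext_of_cover F hF _ _ hcovinf _ _ (fun k => ?_)
    rw [← map_op_sq F (hπ k X.left) x, hx k, map_op_tri F ((ck k).w X.hom) (zk k), hzk k]
  · intro i x y hxy
    have hk : ∀ k, ∃ X : Over i,
        F.map ((Dk k).map X.hom).op (F.map ((πk k).app i).op x) =
        F.map ((Dk k).map X.hom).op (F.map ((πk k).app i).op y) := by
      intro k
      obtain ⟨i', g, hg⟩ := hinjk k i (F.map ((πk k).app i).op x) (F.map ((πk k).app i).op y) (by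
        rw [map_op_sq F (hπ k i) x, map_op_sq F (hπ k i) y, hxy])
      exact ⟨Over.mk g, hg⟩
    obtain ⟨X, hX⟩ := exists_common_obj
      (fun k (X : Over i) =>
        F.map ((Dk k).map X.hom).op (F.map ((πk k).app i).op x) =
        F.map ((Dk k).map X.hom).op (F.map ((πk k).app i).op y))
      (fun k X Y f h => hmono (Dk k) i _ _ X Y f h) hk
    refine ⟨X.left, X.hom, ?_⟩
    refine ext_of_cover F hF _ _ (hcov X.left) _ _ (fun k => ?_)
    rw [map_op_sq F ((πk k).naturality X.hom).symm x, map_op_sq F ((πk k).naturality X.hom).symm y]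
    exact hX k

end Descent

end H10PT.LimLoc
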