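import Mathlib
import Groth.Prelude.Def_AlgSpRep
import Groth.Agent.Lib.Helper10.LimLocA

/-!
# Limit preservation is fppf local: pieces of a cofiltered system of affine schemes

Given a cofiltered system `D : I ⥤ Over S` with cone `c`, an index `i₀` and a scheme `W` over
`D i₀` that also maps to a member `U j` of a family of schemes over `S`, the base changes
`W ×_{D i₀} D i` form a system of schemes over `U j` indexed by `Over i₀`, with limit
`W ×_{D i₀} c.pt`.
-/

set_option autoImplicit false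
universe u w
open CategoryTheory CategoryTheory.Limits AlgebraicGeometry Opposite

namespace H10PT.LimLoc

open AlgSp

/-- A jointly surjective family of flat, locally finitely presented morphisms generates a
covering sieve (same statement and proof as helper16's lemma, restated here to keep imports
light). -/
theorem generate_ofArrows_mem_J {S : Scheme.{u}} {κ : Type w} {X : Over S} (Xj : κ → Over S)
    (s : ∀ j, Xj j ⟶ X) (hflat : ∀ j, Flat (s j).left)
    (hlfp : ∀ j, LocallyOfFinitePresentation (s j).left)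
    (hsurj : ∀ x : X.left, ∃ j, x ∈ Set.range (s j).left) :
    Sieve.generate (Presieve.ofArrows Xj s) ∈ J S X := by
  rw [J_eq, GrothendieckTopology.mem_over_iff]
  have hmem : Presieve.ofArrows (fun j => (Xj j).left) (fun j => (s j).left) ∈
      Scheme.fppfPrecoverage X.left := by
    rw [Scheme.fppfPrecoverage, Scheme.ofArrows_mem_precoverage_iff]
    exact ⟨hsurj, fun j => ⟨hflat j, hlfp j⟩⟩
  refine GrothendieckTopology.superset_covering _ ?_ (Precoverage.generate_mem_toGrothendieck hmem)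
  rw [Sieve.generate_le_iff]
  rintro _ _ ⟨j⟩
  rw [Sieve.overEquiv_iff]
  refine ⟨Xj j, Over.homMk (𝟙 _) (by simp), s j, ⟨j⟩, ?_⟩
  ext1
  simp

section Clean

variable {C : Type*} [Category C] [HasPullbacks C] {T₀ W W' X X' X'' : C}

/-- Transition map between base changes of `q`. -/
noncomputable def tr (q : W ⟶ T₀) {a : X ⟶ T₀} {a' : X' ⟶ T₀} (t : X ⟶ X') (ht : t ≫ a' = a) :
    pullback a q ⟶ pullback a' q :=
  pullback.lift (pullback.fst a q ≫ t) (pullback.snd a q)
    (by rw [Category.assoc, ht, pullback.condition])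

@[reassoc]
theorem tr_fst (q : W ⟶ T₀) {a : X ⟶ T₀} {a' : X' ⟶ T₀} (t : X ⟶ X') (ht : t ≫ a' = a) :
    tr q t ht ≫ pullback.fst a' q = pullback.fst a q ≫ t := pullback.lift_fst _ _ _

@[reassoc]
theorem tr_snd (q : W ⟶ T₀) {a : X ⟶ T₀} {a' : X' ⟶ T₀} (t : X ⟶ X') (ht : t ≫ a' = a) :
    tr q t ht ≫ pullback.snd a' q = pullback.snd a q := pullback.lift_snd _ _ _

theorem tr_eq_id (q : W ⟶ T₀) {a : X ⟶ T₀} (t : X ⟶ X) (ht : t ≫ a = a) (h : t = 𝟙 X) :
    tr q t ht = 𝟙 (pullback a q) := by
  subst h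
  apply pullback.hom_ext
  · rw [tr_fst, Category.comp_id, Category.id_comp]
  · rw [tr_snd, Category.id_comp]

theorem tr_comp (q : W ⟶ T₀) {a : X ⟶ T₀} {a' : X' ⟶ T₀} {a'' : X'' ⟶ T₀}
    (t : X ⟶ X') (ht : t ≫ a' = a) (t' : X' ⟶ X'') (ht' : t' ≫ a'' = a')
    (t'' : X ⟶ X'') (ht'' : t'' ≫ a'' = a) (h : t'' = t ≫ t') :
    tr q t'' ht'' = tr q t ht ≫ tr q t' ht' := by
  subst h
  apply pullback.hom_ext
  · rw [tr_fst, Category.assoc, tr_fst, tr_fst_assoc]
  · rw [tr_snd, Category.assoc, tr_snd, tr_snd]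

/-- Change of piece. -/
noncomputable def lm (q : W ⟶ T₀) (q' : W' ⟶ T₀) (m : W' ⟶ W) (hm : m ≫ q = q') (a : X ⟶ T₀) :
    pullback a q' ⟶ pullback a q :=
  pullback.lift (pullback.fst a q') (pullback.snd a q' ≫ m)
    (by rw [Category.assoc, hm, pullback.condition])

@[reassoc]
theorem lm_fst (q : W ⟶ T₀) (q' : W' ⟶ T₀) (m : W' ⟶ W) (hm : m ≫ q = q') (a : X ⟶ T₀) :
    lm q q' m hm a ≫ pullback.fst a q = pullback.fst a q' := pullback.lift_fst _ _ _

@[reassoc]
theorem lm_snd (q : W ⟶ T₀) (q' : W' ⟶ T₀) (m : W' ⟶ W) (hm : m ≫ q = q') (a : X ⟶ T₀) :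
    lm q q' m hm a ≫ pullback.snd a q = pullback.snd a q' ≫ m := pullback.lift_snd _ _ _

theorem tr_lm (q : W ⟶ T₀) (q' : W' ⟶ T₀) (m : W' ⟶ W) (hm : m ≫ q = q')
    {a : X ⟶ T₀} {a' : X' ⟶ T₀} (t : X ⟶ X') (ht : t ≫ a' = a) :
    tr q' t ht ≫ lm q q' m hm a' = lm q q' m hm a ≫ tr q t ht := by
  apply pullback.hom_ext
  · rw [Category.assoc, lm_fst, tr_fst, Category.assoc, tr_fst, lm_fst_assoc]
  · rw [Category.assoc, lm_snd, tr_snd_assoc, Category.assoc, tr_snd, lm_snd]

theorem exists_lift_inter (q : W ⟶ T₀) (q' : W' ⟶ T₀) (a : X ⟶ T₀) {Z : C}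
    (a₁ : Z ⟶ pullback a q) (a₂ : Z ⟶ pullback a q')
    (e : a₁ ≫ pullback.fst a q = a₂ ≫ pullback.fst a q') :
    ∃ h0 : Z ⟶ pullback a (pullback.fst q q' ≫ q),
      h0 ≫ lm q (pullback.fst q q' ≫ q) (pullback.fst q q') rfl a = a₁ ∧
      h0 ≫ lm q' (pullback.fst q q' ≫ q) (pullback.snd q q') pullback.condition.symm a = a₂ ∧
      h0 ≫ pullback.fst a (pullback.fst q q' ≫ q) = a₁ ≫ pullback.fst a q := by
  have e2 : (a₁ ≫ pullback.snd a q) ≫ q = (a₂ ≫ pullback.snd a q') ≫ q' := by
    rw [Category.assoc, Category.assoc, ← pullback.condition, ← pullback.condition,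
      ← Category.assoc, ← Category.assoc, e]
  have e3 : (a₁ ≫ pullback.fst a q) ≫ a =
      pullback.lift (a₁ ≫ pullback.snd a q) (a₂ ≫ pullback.snd a q') e2 ≫
        pullback.fst q q' ≫ q := by
    rw [pullback.lift_fst_assoc, Category.assoc, Category.assoc, pullback.condition]
  refine ⟨pullback.lift (a₁ ≫ pullback.fst a q)
    (pullback.lift (a₁ ≫ pullback.snd a q) (a₂ ≫ pullback.snd a q') e2) e3, ?_, ?_, ?_⟩
  · apply pullback.hom_ext
    · rw [Category.assoc, lm_fst, pullback.lift_fst]
    · rw [Category.assoc, lm_snd, pullback.lift_snd_assoc, pullback.lift_fst]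
  · apply pullback.hom_ext
    · rw [Category.assoc, lm_fst, pullback.lift_fst, e]
    · rw [Category.assoc, lm_snd, pullback.lift_snd_assoc, pullback.lift_snd]
  · rw [pullback.lift_fst]

end Clean

variable {S : Scheme.{u}} {ι : Type u} (U : ι → Over S)
  {I : Type u} [SmallCategory I] [IsCofiltered I] (D : I ⥤ Over S) (c : Cone D) (i₀ : I)

/-- A scheme over `D i₀` together with a map to some `U j` over `S`. -/
structure Piece where
  W : Scheme.{u}
  q : W ⟶ (D.obj i₀).left
  j : ι
  r : W ⟶ (U j).left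
  w : r ≫ (U j).hom = q ≫ (D.obj i₀).hom

namespace Piece

variable {U D i₀} (p : Piece U D i₀)

omit [IsCofiltered I] in
theorem ht₁ {f f' : Over i₀} (g : f ⟶ f') :
    (D.map g.left).left ≫ (D.map f'.hom).left = (D.map f.hom).left := by
  rw [← Over.comp_left, ← D.map_comp, Over.w g]

omit [IsCofiltered I] in
theorem ht₂ (f : Over i₀) :
    (c.π.app f.left).left ≫ (D.map f.hom).left = (c.π.app i₀).left := by
  rw [← Over.comp_left, c.w f.hom]

/-- The system of base changes, over `U j`. -/
noncomputable def E : Over i₀ ⥤ Over (U p.j).left where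
  obj f := Over.mk (pullback.snd (D.map f.hom).left p.q ≫ p.r)
  map {f f'} g := Over.homMk (tr p.q (D.map g.left).left (ht₁ g))
    (tr_snd_assoc p.q (D.map g.left).left (ht₁ g) p.r)
  map_id f := by
    apply Over.OverMorphism.ext
    exact tr_eq_id p.q (D.map (𝟙 f : f ⟶ f).left).left (ht₁ (𝟙 f))
      (by rw [Over.id_left, D.map_id]; rfl)
  map_comp {f f' f''} g h := by
    apply Over.OverMorphism.ext
    exact tr_comp p.q (D.map g.left).left (ht₁ g) (D.map h.left).left (ht₁ h)
      (D.map (g ≫ h).left).left (ht₁ (g ≫ h)) (by rw [Over.comp_left, D.map_comp]; rfl)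

/-- The limit cone of the system of base changes, over `U j`. -/
noncomputable def cE : Cone p.E where
  pt := Over.mk (pullback.snd (c.π.app i₀).left p.q ≫ p.r)
  π :=
    { app := fun f => Over.homMk (tr p.q (c.π.app f.left).left (ht₂ c f))
        (tr_snd_assoc p.q (c.π.app f.left).left (ht₂ c f) p.r)
      naturality := fun f f' g => by
        apply Over.OverMorphism.ext
        refine (Category.id_comp _).trans ?_
        exact tr_comp p.q (c.π.app f.left).left (ht₂ c f) (D.map g.left).left (ht₁ g)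
          (c.π.app f'.left).left (ht₂ c f') (by rw [← Over.comp_left, c.w g.left]) }

attribute [local instance] IsCofiltered.isConnected in
/-- The cone of base changes is a limit cone of schemes. -/
noncomputable def isLimitCE (hc : IsLimit ((Over.forget S).mapCone c)) :
    IsLimit ((Over.forget _).mapCone (p.cE c)) :=
  (isLimitOfPreserves (Over.pullback p.q ⋙ Over.forget _)
    (Over.isLimitConePost (F := D ⋙ Over.forget S) i₀ hc) : _)

/-- The system of base changes, over `S`. -/
noncomputable def Dk : Over i₀ ⥤ Over S := p.E ⋙ Over.map (U p.j).hom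

/-- The cone of base changes, over `S`. -/
noncomputable def ck : Cone p.Dk := (Over.map (U p.j).hom).mapCone (p.cE c)

omit [IsCofiltered I] in
theorem hom_eq {X : Scheme.{u}} (a : X ⟶ (D.obj i₀).left) :
    (pullback.snd a p.q ≫ p.r) ≫ (U p.j).hom = pullback.fst a p.q ≫ a ≫ (D.obj i₀).hom := by
  rw [Category.assoc, p.w, ← pullback.condition_assoc]

omit [IsCofiltered I] in
theorem Dk_hom (f : Over i₀) : (p.Dk.obj f).hom =
    pullback.fst (D.map f.hom).left p.q ≫ (D.obj f.left).hom :=
  (p.hom_eq (D.map f.hom).left).trans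
    (congrArg (fun t => pullback.fst (D.map f.hom).left p.q ≫ t) (Over.w (D.map f.hom)))

omit [IsCofiltered I] in
theorem ck_pt_hom : (p.ck c).pt.hom = pullback.fst (c.π.app i₀).left p.q ≫ c.pt.hom :=
  (p.hom_eq (c.π.app i₀).left).trans
    (congrArg (fun t => pullback.fst (c.π.app i₀).left p.q ≫ t) (Over.w (c.π.app i₀)))

/-- The projections of the pieces to the system. -/
noncomputable def πk : p.Dk ⟶ Over.forget i₀ ⋙ D where
  app f := Over.homMk (pullback.fst (D.map f.hom).left p.q) (p.Dk_hom f).symm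
  naturality f f' g := by
    apply Over.OverMorphism.ext
    exact tr_fst p.q (D.map g.left).left (ht₁ g)

/-- The projection of the limit piece. -/
noncomputable def πinf : (p.ck c).pt ⟶ c.pt :=
  Over.homMk (pullback.fst (c.π.app i₀).left p.q) (p.ck_pt_hom c).symm

omit [IsCofiltered I] in
theorem hπ (f : Over i₀) : (p.ck c).π.app f ≫ p.πk.app f = p.πinf c ≫ c.π.app f.left := by
  apply Over.OverMorphism.ext
  exact tr_fst p.q (c.π.app f.left).left (ht₂ c f)

/-- The colimit comparison is bijective for a piece when `F` restricted over `U j` is limit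
preserving. -/
theorem surj_inj [IsAffine p.W] (F : (Over S)ᵒᵖ ⥤ Type (u + 1))
    (hloc : AlgSp.IsLimitPreserving (S := (U p.j).left) ((Over.map (U p.j).hom).op ⋙ F))
    (hc : IsLimit ((Over.forget S).mapCone c)) (hD : ∀ i, IsAffine (D.obj i).left)
    (hT : IsAffine c.pt.left) :
    (∀ z : F.obj (op (p.ck c).pt), ∃ (f : Over i₀) (z' : F.obj (op (p.Dk.obj f))),
      F.map ((p.ck c).π.app f).op z' = z) ∧
    (∀ (f : Over i₀) (x y : F.obj (op (p.Dk.obj f))),
      F.map ((p.ck c).π.app f).op x = F.map ((p.ck c).π.app f).op y →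
      ∃ (f' : Over i₀) (g : f' ⟶ f), F.map (p.Dk.map g).op x = F.map (p.Dk.map g).op y) := by
  haveI := hD i₀
  obtain ⟨hcol⟩ := hloc p.E (p.cE c) (p.isLimitCE c hc)
    (fun f => by
      haveI := hD f.left
      show IsAffine (pullback (D.map f.hom).left p.q)
      infer_instance)
    (by
      haveI : IsAffine (((Functor.const I).obj c.pt).obj i₀).left := hT
      show IsAffine (pullback (c.π.app i₀).left p.q)
      infer_instance)
  have hcol' : IsColimit (F.mapCocone (p.ck c).op) := hcol
  refine ⟨fun z => ?_, fun f x y hxy => ?_⟩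
  · obtain ⟨f, z', hz'⟩ := Types.jointly_surjective_of_isColimit hcol' z
    exact ⟨f.unop, z', hz'⟩
  · obtain ⟨f', g, hg⟩ := (Types.FilteredColimit.isColimit_eq_iff' hcol' (i := op f) x y).1 hxy
    exact ⟨f'.unop, g.unop, hg⟩

/-- Morphisms of pieces. -/
structure Hom (p' p : Piece U D i₀) where
  m : p'.W ⟶ p.W
  w : m ≫ p.q = p'.q

variable {p}
variable {p' : Piece U D i₀}

/-- The induced map of systems. -/
noncomputable def pm (m : Hom p' p) : p'.Dk ⟶ p.Dk where
  app f := Over.homMk (lm p.q p'.q m.m m.w (D.map f.hom).left) (by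
    rw [p.Dk_hom, p'.Dk_hom]
    exact lm_fst_assoc p.q p'.q m.m m.w (D.map f.hom).left _)
  naturality f f' g := by
    apply Over.OverMorphism.ext
    exact tr_lm p.q p'.q m.m m.w (D.map g.left).left (ht₁ g)

/-- The induced map of limit pieces. -/
noncomputable def pminf (m : Hom p' p) : (p'.ck c).pt ⟶ (p.ck c).pt :=
  Over.homMk (lm p.q p'.q m.m m.w (c.π.app i₀).left) (by
    rw [p.ck_pt_hom, p'.ck_pt_hom]
    exact lm_fst_assoc p.q p'.q m.m m.w (c.π.app i₀).left _)

omit [IsCofiltered I] in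
theorem hpm (m : Hom p' p) (f : Over i₀) :
    (p'.ck c).π.app f ≫ (pm m).app f = pminf c m ≫ (p.ck c).π.app f := by
  apply Over.OverMorphism.ext
  exact tr_lm p.q p'.q m.m m.w (c.π.app f.left).left (ht₂ c f)

omit [IsCofiltered I] in
theorem pminf_πinf (m : Hom p' p) : pminf c m ≫ p.πinf c = p'.πinf c := by
  apply Over.OverMorphism.ext
  exact lm_fst p.q p'.q m.m m.w (c.π.app i₀).left

variable (p p')

/-- The overlap of two pieces. -/
noncomputable def inter : Piece U D i₀ where
  W := pullback p.q p'.q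
  q := pullback.fst p.q p'.q ≫ p.q
  j := p.j
  r := pullback.fst p.q p'.q ≫ p.r
  w := by rw [Category.assoc, p.w, Category.assoc]

/-- First projection of the overlap. -/
noncomputable def interFst : Hom (inter p p') p := ⟨pullback.fst p.q p'.q, rfl⟩

/-- Second projection of the overlap. -/
noncomputable def interSnd : Hom (inter p p') p' :=
  ⟨pullback.snd p.q p'.q, pullback.condition.symm⟩

omit [IsCofiltered I] in
theorem isAffine_inter [IsAffine p.W] [IsAffine p'.W] [IsAffine (D.obj i₀).left] :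
    IsAffine (inter p p').W := by
  show IsAffine (pullback p.q p'.q)
  infer_instance

omit [IsCofiltered I] in
theorem wpb (f : Over i₀) (Z : Over S) (g₁ : Z ⟶ p.Dk.obj f) (g₂ : Z ⟶ p'.Dk.obj f)
    (hg : g₁ ≫ p.πk.app f = g₂ ≫ p'.πk.app f) :
    ∃ h : Z ⟶ (inter p p').Dk.obj f, h ≫ (pm (interFst p p')).app f = g₁ ∧
      h ≫ (pm (interSnd p p')).app f = g₂ := by
  obtain ⟨h0, h1, h2, h3⟩ := exists_lift_inter p.q p'.q (D.map f.hom).left
    (Z := Z.left) g₁.left g₂.left (congrArg (fun m => m.left) hg)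
  have hw : h0 ≫ ((inter p p').Dk.obj f).hom = Z.hom := by
    rw [(inter p p').Dk_hom f]
    refine Eq.trans ?_ (Over.w g₁)
    rw [p.Dk_hom f]
    exact (Category.assoc _ _ _).symm.trans
      ((congrArg (fun t => t ≫ (D.obj f.left).hom) h3).trans (Category.assoc _ _ _))
  exact ⟨Over.homMk h0 hw, Over.OverMorphism.ext h1, Over.OverMorphism.ext h2⟩

end Piece

section Covers

variable {U D i₀} {K : Type*} (p : K → Piece U D i₀) (hfl : ∀ k, Flat (p k).q)
  (hfp : ∀ k, LocallyOfFinitePresentation (p k).q)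
  (hsurj : ∀ t : (D.obj i₀).left, ∃ k, t ∈ Set.range (p k).q)
include hfl hfp hsurj

theorem cover_mem (f : Over i₀) :
    Sieve.generate (Presieve.ofArrows (fun k => (p k).Dk.obj f) (fun k => (p k).πk.app f)) ∈
      J S (D.obj f.left) := by
  refine generate_ofArrows_mem_J _ _ (fun k => ?_) (fun k => ?_) (fun x => ?_)
  · haveI := hfl k
    show Flat (pullback.fst (D.map f.hom).left (p k).q)
    infer_instance
  · haveI := hfp k
    show LocallyOfFinitePresentation (pullback.fst (D.map f.hom).left (p k).q)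
    infer_instance
  · obtain ⟨k, w, hw⟩ := hsurj ((D.map f.hom).left x)
    obtain ⟨z, hz1, _⟩ := Scheme.Pullback.exists_preimage_pullback
      (f := (D.map f.hom).left) (g := (p k).q) x w hw.symm
    exact ⟨k, z, hz1⟩

theorem cover_mem_inf :
    Sieve.generate (Presieve.ofArrows (fun k => ((p k).ck c).pt) (fun k => (p k).πinf c)) ∈
      J S c.pt := by
  refine generate_ofArrows_mem_J _ _ (fun k => ?_) (fun k => ?_) (fun x => ?_)
  · haveI := hfl k
    show Flat (pullback.fst (c.π.app i₀).left (p k).q)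
    infer_instance
  · haveI := hfp k
    show LocallyOfFinitePresentation (pullback.fst (c.π.app i₀).left (p k).q)
    infer_instance
  · obtain ⟨k, w, hw⟩ := hsurj ((c.π.app i₀).left x)
    obtain ⟨z, hz1, _⟩ := Scheme.Pullback.exists_preimage_pullback
      (f := (c.π.app i₀).left) (g := (p k).q) x w hw.symm
    exact ⟨k, z, hz1⟩

end Covers

end H10PT.LimLoc
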