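import Mathlib
import Groth.Prelude.Def_AlgSpRep
import Groth.Agent.Lib.Helper10.LimLocB

/-!
# Refining fppf covering sieves of quasi-compact schemes by finite affine families
-/

set_option autoImplicit false
universe u
open CategoryTheory CategoryTheory.Limits AlgebraicGeometry Opposite

namespace H10PT.CovDesc

open AlgSp H10PT.LimLoc

section Clean

variable {C : Type*} [Category C] [HasPullbacks C] {T₀ W X X' : C}

/-- The transition square between base changes is cartesian. -/
theorem tr_isPullback (q : W ⟶ T₀) {a : X ⟶ T₀} {a' : X' ⟶ T₀} (t : X ⟶ X') (ht : t ≫ a' = a) :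
    IsPullback (tr q t ht) (pullback.fst a q) (pullback.fst a' q) t := by
  have hbig : IsPullback (tr q t ht ≫ pullback.snd a' q) (pullback.fst a q) q (t ≫ a') := by
    rw [tr_snd, ht]
    exact (IsPullback.of_hasPullback a q).flip
  exact IsPullback.of_right hbig (tr_fst q t ht) (IsPullback.of_hasPullback a' q).flip

end Clean

variable {S : Scheme.{u}}

/-- The trivial covering family of `S`. -/
def U₀ (S : Scheme.{u}) : PUnit.{u + 1} → Over S := fun _ => Over.mk (𝟙 S)

/-- A piece from a morphism to a member of the system. -/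
def mkPiece {I : Type u} [SmallCategory I] (D : I ⥤ Over S) (i₀ : I) {W : Scheme.{u}}
    (q : W ⟶ (D.obj i₀).left) : Piece (U₀ S) D i₀ where
  W := W
  q := q
  j := PUnit.unit
  r := q ≫ (D.obj i₀).hom
  w := Category.comp_id _

/-- Any fppf covering sieve of a quasi-compact scheme contains a finite jointly surjective family
of flat, locally finitely presented morphisms from affine schemes. -/
theorem exists_finite_affine_refinement {X : Over S} [CompactSpace X.left] (W : Sieve X)
    (hW : W ∈ J S X) :
    ∃ (K : Type u) (_ : Finite K) (V : K → Over S) (g : ∀ k, V k ⟶ X),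
      (∀ k, IsAffine (V k).left) ∧ (∀ k, Flat (g k).left) ∧
      (∀ k, LocallyOfFinitePresentation (g k).left) ∧
      (∀ x : X.left, ∃ k, x ∈ Set.range (g k).left) ∧ ∀ k, W.arrows (g k) := by
  rw [J_eq, GrothendieckTopology.mem_over_iff] at hW
  haveI : (@Flat ⊓ @LocallyOfFinitePresentation :
      MorphismProperty Scheme.{u}).ContainsIdentities :=
    ⟨fun X => ⟨inferInstance, inferInstance⟩⟩
  haveI : (@Flat ⊓ @LocallyOfFinitePresentation : MorphismProperty Scheme.{u}).RespectsIso :=
    inferInstance
  haveI : Scheme.fppfPrecoverage.{u}.HasIsos := by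
    unfold Scheme.fppfPrecoverage
    infer_instance
  haveI : Scheme.fppfPrecoverage.{u}.HasPullbacks := by
    unfold Scheme.fppfPrecoverage
    infer_instance
  obtain ⟨R, hR, hle⟩ :=
    (Precoverage.mem_toGrothendieck_iff_of_isStableUnderComposition
      (J := Scheme.fppfPrecoverage)).1 hW
  have hR' : R ∈ Scheme.precoverage (@Flat ⊓ @LocallyOfFinitePresentation) X.left := hR
  have hsurj := hR'.1
  have hprop := hR'.2
  rw [Scheme.jointlySurjectivePrecoverage, Presieve.mem_comap_jointlySurjectivePrecoverage_iff]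
    at hsurj
  choose Y f hf hx using hsurj
  choose y hy using hx
  have haff : ∀ x, ∃ V : (Y x).Opens, IsAffineOpen V ∧ y x ∈ V := by
    intro x
    obtain ⟨V, hV, hyV, -⟩ := exists_isAffineOpen_mem_and_subset
      (X := Y x) (x := y x) (U := ⊤) trivial
    exact ⟨V, hV, hyV⟩
  choose V hV hyV using haff
  let gx : ∀ x : X.left, ((V x : (Y x).Opens) : Scheme.{u}) ⟶ X.left := fun x => (V x).ι ≫ f x
  have hPf : ∀ x, (@Flat ⊓ @LocallyOfFinitePresentation : MorphismProperty Scheme.{u}) (f x) :=
    fun x => hprop (hf x)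
  have hfl : ∀ x, Flat (gx x) := fun x => by
    haveI : Flat (f x) := (hPf x).1
    dsimp only [gx]
    infer_instance
  have hfp : ∀ x, LocallyOfFinitePresentation (gx x) := fun x => by
    haveI : LocallyOfFinitePresentation (f x) := (hPf x).2
    dsimp only [gx]
    infer_instance
  have hopen : ∀ x, IsOpen (Set.range (gx x)) := fun x => by
    haveI := hfl x
    haveI := hfp x
    exact (gx x).isOpenMap.isOpen_range
  have hcov : ∀ x : X.left, x ∈ Set.range (gx x) := by
    intro x
    refine ⟨⟨y x, hyV x⟩, ?_⟩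
    show ((V x).ι ≫ f x) ⟨y x, hyV x⟩ = x
    rw [Scheme.Hom.comp_apply]
    exact hy x
  obtain ⟨t, ht⟩ := isCompact_univ.elim_finite_subcover (fun x => Set.range (gx x)) hopen
    (fun x _ => Set.mem_iUnion.2 ⟨x, hcov x⟩)
  refine ⟨↥t, inferInstance, fun k => Over.mk (gx k.1 ≫ X.hom), fun k => Over.homMk (gx k.1) rfl,
    fun k => hV k.1, fun k => hfl k.1, fun k => hfp k.1, fun x => ?_, fun k => ?_⟩
  · obtain ⟨a, hat, hxa⟩ := Set.mem_iUnion₂.1 (ht (Set.mem_univ x))
    exact ⟨⟨a, hat⟩, hxa⟩
  · have h1 : (Sieve.overEquiv X W).arrows (gx k.1) :=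
      (Sieve.overEquiv X W).downward_closed (hle _ _ (hf k.1)) (V k.1).ι
    rw [Sieve.overEquiv_iff] at h1
    exact h1

end H10PT.CovDesc
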