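import Mathlib
import Groth.Prelude.Def_AlgSpRep
import Groth.Agent.Lib.Helper10.CovDescA
import Groth.Agent.S0591
import Groth.Agent.S2075

/-!
# Descending a finite affine fppf covering of a cofiltered limit of affine schemes
-/

set_option autoImplicit false
universe u
open CategoryTheory CategoryTheory.Limits AlgebraicGeometry Opposite

namespace H10PT.CovDesc

open AlgSp H10PT.LimLoc

section Clean

variable {C : Type*} [Category C] [HasPullbacks C]

theorem approx_baseChange {V T Ti Ti' X : C} {v : V ⟶ X} {g : V ⟶ T} {q : X ⟶ Ti} {π : T ⟶ Ti}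
    (h : IsPullback v g q π) (φ : Ti' ⟶ Ti) (π' : T ⟶ Ti') (hπ : π' ≫ φ = π) :
    IsPullback (pullback.lift (g ≫ π') v (by rw [Category.assoc, hπ, h.w])) g
      (pullback.fst φ q) π' := by
  have hbig : IsPullback (pullback.lift (g ≫ π') v (by rw [Category.assoc, hπ, h.w]) ≫
      pullback.snd φ q) g q (π' ≫ φ) := by
    rw [pullback.lift_snd, hπ]
    exact h
  exact IsPullback.of_right hbig (pullback.lift_fst _ _ _) (IsPullback.of_hasPullback φ q).flip

theorem comm_aux {T Tj T₀ X : C} (πj : T ⟶ Tj) (d : Tj ⟶ T₀) (q : X ⟶ T₀) (π₀ : T ⟶ T₀)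
    (h : πj ≫ d = π₀) :
    (pullback.snd πj (pullback.fst d q) ≫ pullback.snd d q) ≫ q =
      pullback.fst πj (pullback.fst d q) ≫ π₀ := by
  rw [Category.assoc, ← pullback.condition, ← Category.assoc, ← pullback.condition,
    Category.assoc, h]

end Clean

variable {S : Scheme.{u}} {I : Type u} [SmallCategory I] [IsCofiltered I] (D : I ⥤ Over S)
  (c : Cone D)

/-- A finitely presented morphism to the limit comes from a finite stage. -/
theorem exists_approx (hc : IsLimit ((Over.forget S).mapCone c))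
    (hD : ∀ i, IsAffine (D.obj i).left) (hT : IsAffine c.pt.left)
    (V : Over S) (g : V ⟶ c.pt) [IsAffine V.left] [LocallyOfFinitePresentation g.left] :
    ∃ (i : I) (X : Scheme.{u}) (q : X ⟶ (D.obj i).left) (v : V.left ⟶ X),
      LocallyOfFinitePresentation q ∧ QuasiCompact q ∧ QuasiSeparated q ∧
      IsPullback v g.left q (c.π.app i).left := by
  haveI : ∀ i, IsAffine ((D ⋙ Over.forget S).obj i) := hD
  haveI : IsAffine ((Over.forget S).mapCone c).pt := hT
  haveI : IsAffine c.pt.left := hT
  let g' : V.left ⟶ ((Over.forget S).mapCone c).pt := g.left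
  haveI : LocallyOfFinitePresentation g' := ‹LocallyOfFinitePresentation g.left›
  obtain ⟨i, X, q, v, h1, h2, h3, h4⟩ := Groth.Agent.S0591.result (D ⋙ Over.forget S)
    ((Over.forget S).mapCone c) hc V.left g'
  exact ⟨i, X, q, v, h1, h2, h3, h4⟩

/-- Finitely many finitely presented morphisms to the limit come from a common finite stage. -/
theorem exists_common_approx (hc : IsLimit ((Over.forget S).mapCone c))
    (hD : ∀ i, IsAffine (D.obj i).left) (hT : IsAffine c.pt.left)
    {K : Type u} [Finite K] (V : K → Over S) (g : ∀ k, V k ⟶ c.pt)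
    (hV : ∀ k, IsAffine (V k).left) (hfp : ∀ k, LocallyOfFinitePresentation (g k).left) :
    ∃ (i₀ : I) (X : K → Scheme.{u}) (q : ∀ k, X k ⟶ (D.obj i₀).left)
      (v : ∀ k, (V k).left ⟶ X k),
      (∀ k, LocallyOfFinitePresentation (q k)) ∧ (∀ k, QuasiCompact (q k)) ∧
      (∀ k, QuasiSeparated (q k)) ∧ ∀ k, IsPullback (v k) (g k).left (q k) (c.π.app i₀).left := by
  classical
  haveI := Fintype.ofFinite K
  have h : ∀ k, ∃ (i : I) (X : Scheme.{u}) (q : X ⟶ (D.obj i).left) (v : (V k).left ⟶ X),
      LocallyOfFinitePresentation q ∧ QuasiCompact q ∧ QuasiSeparated q ∧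
      IsPullback v (g k).left q (c.π.app i).left := fun k => by
    haveI := hV k
    haveI := hfp k
    exact exists_approx D c hc hD hT (V k) (g k)
  choose i X q v h1 h2 h3 h4 using h
  obtain ⟨i₀, hi₀⟩ := IsCofiltered.inf_objs_exists (Finset.univ.image i)
  have φ : ∀ k, i₀ ⟶ i k := fun k =>
    (hi₀ (Finset.mem_image_of_mem i (Finset.mem_univ k))).some
  have hw : ∀ k, (c.π.app i₀).left ≫ (D.map (φ k)).left = (c.π.app (i k)).left := fun k => by
    rw [← Over.comp_left, c.w]
  refine ⟨i₀, _, fun k => pullback.fst (D.map (φ k)).left (q k), _, fun k => ?_, fun k => ?_,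
    fun k => ?_, fun k => approx_baseChange (h4 k) (D.map (φ k)).left (c.π.app i₀).left (hw k)⟩
  · haveI := h1 k
    infer_instance
  · haveI := h2 k
    infer_instance
  · haveI := h3 k
    infer_instance

/-- A finite affine fppf covering of the limit of a cofiltered system of affine schemes comes
from a finite affine fppf covering of a member of the system. -/
theorem exists_descend_cover (hc : IsLimit ((Over.forget S).mapCone c))
    (hD : ∀ i, IsAffine (D.obj i).left) (hT : IsAffine c.pt.left)
    {K : Type u} [Finite K] (V : K → Over S) (g : ∀ k, V k ⟶ c.pt)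
    (hV : ∀ k, IsAffine (V k).left) (hfl : ∀ k, Flat (g k).left)
    (hfp : ∀ k, LocallyOfFinitePresentation (g k).left)
    (hsurj : ∀ x : c.pt.left, ∃ k, x ∈ Set.range (g k).left) :
    ∃ (i₁ : I) (p : K → Piece (U₀ S) D i₁), (∀ k, IsAffine (p k).W) ∧ (∀ k, Flat (p k).q) ∧
      (∀ k, LocallyOfFinitePresentation (p k).q) ∧
      (∀ t : (D.obj i₁).left, ∃ k, t ∈ Set.range (p k).q) ∧
      ∀ k, ∃ m : ((p k).ck c).pt ⟶ V k, m ≫ g k = (p k).πinf c := by
  classical
  obtain ⟨i₀, X, q, v, hq1, hq2, hq3, hq4⟩ := exists_common_approx D c hc hD hT V g hV hfp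
  haveI : ∀ i, IsAffine ((D ⋙ Over.forget S).obj i) := hD
  haveI : IsAffine ((Over.forget S).mapCone c).pt := hT
  haveI : ∀ i, IsAffine (D.obj i).left := hD
  haveI : IsAffine c.pt.left := hT
  haveI hXc : ∀ k, CompactSpace (X k) := fun k => by
    haveI := hq2 k
    exact QuasiCompact.compactSpace_of_compactSpace (q k)
  haveI hXq : ∀ k, QuasiSeparatedSpace (X k) := fun k => by
    haveI := hq3 k
    exact quasiSeparatedSpace_of_quasiSeparated (q k)
  -- monotonicity
  have hmonoF : ∀ k (f f' : Over i₀) (_ : f' ⟶ f),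
      Flat (pullback.fst (D.map f.hom).left (q k)) →
      Flat (pullback.fst (D.map f'.hom).left (q k)) := by
    intro k f f' m hf
    exact MorphismProperty.of_isPullback (P := @Flat)
      (tr_isPullback (q k) (D.map m.left).left (Piece.ht₁ m)) hf
  have hmonoA : ∀ k (f f' : Over i₀) (_ : f' ⟶ f),
      IsAffine (pullback (D.map f.hom).left (q k)) →
      IsAffine (pullback (D.map f'.hom).left (q k)) := by
    intro k f f' m hf
    haveI := hf
    exact IsAffine.of_isIso
      (tr_isPullback (q k) (D.map m.left).left (Piece.ht₁ m)).isoPullback.hom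
  -- flatness at a finite stage
  have hB : ∀ k, ∃ f : Over i₀, Flat (pullback.fst (D.map f.hom).left (q k)) := by
    intro k
    haveI := hq1 k
    haveI := hfl k
    obtain ⟨i, φ, Xi, Yi, fi, gi, pY, pX, hYi, hXi, hflat⟩ :=
      Groth.Agent.S2075.result (D ⋙ Over.forget S) ((Over.forget S).mapCone c) hc i₀ (q k)
        (𝟙 ((D ⋙ Over.forget S).obj i₀)) (g k).left (𝟙 _)
        (((Over.forget S).mapCone c).π.app i₀) (v k) (IsPullback.id_vert _) (hq4 k)
    haveI : IsIso gi := hYi.isIso_snd_of_isIso (IsIso.id _)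
    have sq1 : IsPullback pX (fi ≫ gi) (q k) ((D ⋙ Over.forget S).map φ) :=
      (congrArg (fun t => IsPullback pX (fi ≫ gi) t ((D ⋙ Over.forget S).map φ))
        (Category.comp_id (q k))).mp (hXi.paste_vert hYi)
    have sq2 := (IsPullback.of_hasPullback ((D ⋙ Over.forget S).map φ) (q k)).flip
    refine ⟨Over.mk φ, ?_⟩
    show Flat (pullback.fst ((D ⋙ Over.forget S).map φ) (q k))
    rw [← sq2.isoIsPullback_hom_snd _ _ sq1]
    infer_instance
  -- affineness at a finite stage
  have hC : ∀ k, ∃ f : Over i₀, IsAffine (pullback (D.map f.hom).left (q k)) := by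
    intro k
    let p : Piece (U₀ S) D i₀ := mkPiece D i₀ (q k)
    let Es : Over i₀ ⥤ Scheme.{u} := p.E ⋙ Over.forget _
    haveI : ∀ f : Over i₀, CompactSpace (Es.obj f) := fun f => by
      haveI := hq2 k
      show CompactSpace ((pullback (D.map f.hom).left (q k) : Scheme.{u}))
      exact QuasiCompact.compactSpace_of_compactSpace (pullback.fst (D.map f.hom).left (q k))
    haveI : ∀ f : Over i₀, QuasiSeparatedSpace (Es.obj f) := fun f => by
      haveI := hq3 k
      show QuasiSeparatedSpace ((pullback (D.map f.hom).left (q k) : Scheme.{u}))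
      exact quasiSeparatedSpace_of_quasiSeparated (pullback.fst (D.map f.hom).left (q k))
    haveI : ∀ {f f' : Over i₀} (m : f ⟶ f'), IsAffineHom (Es.map m) := fun {f f'} m => by
      show IsAffineHom (tr (q k) (D.map m.left).left (Piece.ht₁ m))
      haveI : IsAffineHom (pullback.snd (D.map f.hom).left (q k)) :=
        MorphismProperty.pullback_snd (P := @IsAffineHom) _ _ inferInstance
      haveI : IsAffineHom (pullback.snd (D.map f'.hom).left (q k)) :=
        MorphismProperty.pullback_snd (P := @IsAffineHom) _ _ inferInstance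
      haveI : IsAffineHom (tr (q k) (D.map m.left).left (Piece.ht₁ m) ≫
          pullback.snd (D.map f'.hom).left (q k)) := by
        rw [tr_snd]
        infer_instance
      exact IsAffineHom.of_comp _ (pullback.snd (D.map f'.hom).left (q k))
    haveI : IsAffine ((Over.forget _).mapCone (p.cE c)).pt := by
      show IsAffine (pullback (c.π.app i₀).left (q k))
      haveI := hV k
      exact IsAffine.of_isIso (hq4 k).flip.isoPullback.inv
    obtain ⟨f, hf⟩ := Scheme.exists_isAffine_of_isLimit Es ((Over.forget _).mapCone (p.cE c))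
      (p.isLimitCE c hc)
    exact ⟨f, hf⟩
  -- common stage
  obtain ⟨f₁, hf₁⟩ := exists_common_obj
    (fun (s : K ⊕ K) (f : Over i₀) => Sum.elim
      (fun k => Flat (pullback.fst (D.map f.hom).left (q k)))
      (fun k => IsAffine (pullback (D.map f.hom).left (q k))) s)
    (by
      rintro (k | k) f f' m hf
      · exact hmonoF k f f' m hf
      · exact hmonoA k f f' m hf)
    (by
      rintro (k | k)
      · exact hB k
      · exact hC k)
  have hflat₁ : ∀ k, Flat (pullback.fst (D.map f₁.hom).left (q k)) := fun k => hf₁ (Sum.inl k)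
  have haff₁ : ∀ k, IsAffine (pullback (D.map f₁.hom).left (q k)) := fun k => hf₁ (Sum.inr k)
  -- surjectivity at a finite stage
  have hopen : ∀ k, IsOpen (Set.range (pullback.fst (D.map f₁.hom).left (q k))) := fun k => by
    haveI := hflat₁ k
    haveI := hq1 k
    exact (pullback.fst (D.map f₁.hom).left (q k)).isOpenMap.isOpen_range
  let Uo : ((D ⋙ Over.forget S).obj f₁.left).Opens :=
    ⟨⋃ k, Set.range (pullback.fst (D.map f₁.hom).left (q k)), isOpen_iUnion hopen⟩
  have hUtop : ((Over.forget S).mapCone c).π.app f₁.left ⁻¹ᵁ Uo = ⊤ := by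
    refine eq_top_iff.2 (fun t _ => ?_)
    obtain ⟨k, w, hw⟩ := hsurj t
    have hcomm : ((g k).left ≫ (c.π.app f₁.left).left) ≫ (D.map f₁.hom).left = v k ≫ q k := by
      rw [Category.assoc, ← Over.comp_left, c.w, (hq4 k).w]
    refine Set.mem_iUnion.2 ⟨k, (pullback.lift ((g k).left ≫ (c.π.app f₁.left).left) (v k)
      hcomm) w, ?_⟩
    rw [← Scheme.Hom.comp_apply, pullback.lift_fst, Scheme.Hom.comp_apply, hw]
    rfl
  obtain ⟨j, ψ, hj⟩ := exists_map_eq_top (D ⋙ Over.forget S) ((Over.forget S).mapCone c) hc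
    Uo hUtop
  let f₂ : Over i₀ := Over.mk (ψ ≫ f₁.hom)
  let m : f₂ ⟶ f₁ := Over.homMk ψ rfl
  refine ⟨j, fun k => mkPiece D j (pullback.fst (D.map (ψ ≫ f₁.hom)).left (q k)),
    fun k => hmonoA k f₁ f₂ m (haff₁ k), fun k => hmonoF k f₁ f₂ m (hflat₁ k), fun k => ?_,
    fun x => ?_, fun k => ?_⟩
  · haveI := hq1 k
    show LocallyOfFinitePresentation (pullback.fst (D.map (ψ ≫ f₁.hom)).left (q k))
    infer_instance
  · have hx : x ∈ ((D ⋙ Over.forget S).map ψ ⁻¹ᵁ Uo) := by
      rw [hj]
      trivial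
    obtain ⟨k, w, hw⟩ := Set.mem_iUnion.1 hx
    have hw' : pullback.fst (D.map f₁.hom).left (q k) w = (D.map ψ).left x := hw
    have h : (D.map (ψ ≫ f₁.hom)).left x = q k (pullback.snd (D.map f₁.hom).left (q k) w) := by
      rw [← Scheme.Hom.comp_apply, ← pullback.condition, Scheme.Hom.comp_apply, hw',
        ← Scheme.Hom.comp_apply, ← Over.comp_left, ← D.map_comp]
    obtain ⟨z, hz1, _⟩ := Scheme.Pullback.exists_preimage_pullback
      (f := (D.map (ψ ≫ f₁.hom)).left) (g := q k) x _ h
    exact ⟨k, z, hz1⟩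
  · let p : Piece (U₀ S) D j := mkPiece D j (pullback.fst (D.map (ψ ≫ f₁.hom)).left (q k))
    have hcomm : (pullback.snd (c.π.app j).left p.q ≫
        pullback.snd (D.map (ψ ≫ f₁.hom)).left (q k)) ≫ q k =
        pullback.fst (c.π.app j).left p.q ≫ (c.π.app i₀).left :=
      comm_aux (c.π.app j).left (D.map (ψ ≫ f₁.hom)).left (q k) (c.π.app i₀).left
        (by rw [← Over.comp_left, c.w])
    let l : pullback (c.π.app j).left p.q ⟶ (V k).left :=
      (hq4 k).lift _ _ hcomm
    have hl : l ≫ (g k).left = pullback.fst (c.π.app j).left p.q := (hq4 k).lift_snd _ _ hcomm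
    refine ⟨Over.homMk l ?_, Over.OverMorphism.ext hl⟩
    exact (congrArg (fun t => l ≫ t) (Over.w (g k)).symm).trans
      ((Category.assoc _ _ _).symm.trans
        ((congrArg (fun t => t ≫ c.pt.hom) hl).trans (p.ck_pt_hom c).symm))
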