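import Mathlib
import Groth.Prelude.Def_AlgSpRep
import Groth.Agent.Lib.Helper10.CovDescB

/-!
# Pieces of affine systems: further API, and refinement of coverings by pieces
-/

set_option autoImplicit false
universe u
open CategoryTheory CategoryTheory.Limits AlgebraicGeometry Opposite

namespace H10PT.LimLoc

open AlgSp

theorem comp_aux {C : Type*} [Category C] {A B B' E E' : C} {x : A ⟶ B} {y : B ⟶ E}
    {x' : A ⟶ B'} {y' : B' ⟶ E} {z : E ⟶ E'} {w : B' ⟶ E'}
    (h1 : x ≫ y = x' ≫ y') (h2 : y' ≫ z = w) : x ≫ y ≫ z = x' ≫ w := by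
  rw [← Category.assoc, h1, Category.assoc, h2]

namespace Piece

variable {S : Scheme.{u}} {ι : Type u} {U : ι → Over S}
  {I : Type u} [SmallCategory I] {D : I ⥤ Over S} (c : Cone D) {i₀ : I}
  (p : Piece U D i₀)

/-- The canonical map to the terminal object of `Over i₀`. -/
def can (f : Over i₀) : f ⟶ Over.mk (𝟙 i₀) := Over.homMk f.hom (Category.comp_id _)

theorem eq_can {f : Over i₀} (e : f ⟶ Over.mk (𝟙 i₀)) : e = can f := by
  apply Over.OverMorphism.ext
  have h := Over.w e
  exact (by simpa using h : e.left = f.hom)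

/-- The projection of the base piece. -/
noncomputable def π₀ : p.Dk.obj (Over.mk (𝟙 i₀)) ⟶ D.obj i₀ := p.πk.app (Over.mk (𝟙 i₀))

/-- The projection of a stage of the piece to the base of the system. -/
noncomputable def ρ (f : Over i₀) : p.Dk.obj f ⟶ D.obj i₀ := p.πk.app f ≫ D.map f.hom

theorem map_ρ {f f' : Over i₀} (m : f' ⟶ f) : p.Dk.map m ≫ p.ρ f = p.ρ f' := by
  have h1 : p.Dk.map m ≫ p.πk.app f = p.πk.app f' ≫ D.map m.left := p.πk.naturality m
  have h2 : D.map m.left ≫ D.map f.hom = D.map f'.hom := by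
    rw [← D.map_comp, Over.w m]
  exact comp_aux h1 h2

theorem map_π₀ {f : Over i₀} (e : f ⟶ Over.mk (𝟙 i₀)) : p.Dk.map e ≫ p.π₀ = p.ρ f := by
  have h1 : p.Dk.map e ≫ p.πk.app (Over.mk (𝟙 i₀)) = p.πk.app f ≫ D.map e.left :=
    p.πk.naturality e
  have h2 : e.left = f.hom := by
    have h := Over.w e
    simpa using h
  exact h1.trans (congrArg (fun t : f.left ⟶ i₀ => p.πk.app f ≫ D.map t) h2)

theorem ck_ρ (f : Over i₀) : (p.ck c).π.app f ≫ p.ρ f = p.πinf c ≫ c.π.app i₀ := by
  have h1 : (p.ck c).π.app f ≫ p.πk.app f = p.πinf c ≫ c.π.app f.left := p.hπ c f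
  exact comp_aux h1 (c.w f.hom)

theorem ck_π₀ : (p.ck c).π.app (Over.mk (𝟙 i₀)) ≫ p.π₀ = p.πinf c ≫ c.π.app i₀ :=
  p.hπ c (Over.mk (𝟙 i₀))

variable {p}
variable {p' : Piece U D i₀}

theorem pm_πk (m : Hom p' p) (f : Over i₀) : (pm m).app f ≫ p.πk.app f = p'.πk.app f := by
  apply Over.OverMorphism.ext
  exact lm_fst p.q p'.q m.m m.w (D.map f.hom).left

theorem pm_ρ (m : Hom p' p) (f : Over i₀) : (pm m).app f ≫ p.ρ f = p'.ρ f := by
  exact (Category.assoc _ _ _).symm.trans
    (congrArg (fun t => t ≫ D.map f.hom) (pm_πk m f))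

end Piece

variable {S : Scheme.{u}}

/-- An affine cofiltered system with its limit cone. -/
structure AffSys {I : Type u} [SmallCategory I] (D : I ⥤ Over S) (c : Cone D) : Prop where
  lim : Nonempty (IsLimit ((Over.forget S).mapCone c))
  aff : ∀ i, IsAffine (D.obj i).left
  affpt : IsAffine c.pt.left

theorem AffSys.piece {I : Type u} [SmallCategory I] [IsCofiltered I] {D : I ⥤ Over S}
    {c : Cone D} (hs : AffSys D c) {i₀ : I} (p : Piece (CovDesc.U₀ S) D i₀) (hp : IsAffine p.W) :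
    AffSys p.Dk (p.ck c) := by
  obtain ⟨hc⟩ := hs.lim
  haveI := hs.aff i₀
  refine ⟨⟨(p.isLimitCE c hc : _)⟩, fun f => ?_, ?_⟩
  · haveI := hs.aff f.left
    show IsAffine (pullback (D.map f.hom).left p.q)
    infer_instance
  · haveI : IsAffine (((Functor.const I).obj c.pt).obj i₀).left := hs.affpt
    show IsAffine (pullback (c.π.app i₀).left p.q)
    infer_instance

theorem AffSys.over {I : Type u} [SmallCategory I] [IsCofiltered I] {D : I ⥤ Over S}
    {c : Cone D} (hs : AffSys D c) (i : I) :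
    AffSys (Over.forget i ⋙ D) (c.whisker (Over.forget i)) := by
  obtain ⟨hc⟩ := hs.lim
  exact ⟨⟨((Functor.Initial.isLimitWhiskerEquiv (Over.forget i)
    ((Over.forget S).mapCone c)).symm hc : _)⟩, fun f => hs.aff f.left, hs.affpt⟩

/-- A finite family of affine, flat, finitely presented, jointly surjective pieces. -/
structure GoodCover {I : Type u} [SmallCategory I] (D : I ⥤ Over S) (i : I) where
  K : Type u
  fin : Finite K
  p : K → Piece (CovDesc.U₀ S) D i
  aff : ∀ k, IsAffine (p k).W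
  fl : ∀ k, Flat (p k).q
  fp : ∀ k, LocallyOfFinitePresentation (p k).q
  surj : ∀ t : (D.obj i).left, ∃ k, t ∈ Set.range (p k).q

section Refine

variable {I : Type u} [SmallCategory I] [IsCofiltered I] {D : I ⥤ Over S} {c : Cone D}

/-- Refinement of a covering sieve of a member of the system by pieces. -/
theorem exists_cover_fin (hs : AffSys D c) (i : I) (W : Sieve (D.obj i)) (hW : W ∈ J S (D.obj i)) :
    ∃ C : GoodCover D i, ∀ k, W.arrows (C.p k).π₀ := by
  haveI := hs.aff i
  obtain ⟨K, hK, V, g, hV, hfl, hfp, hsurj, hg⟩ :=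
    CovDesc.exists_finite_affine_refinement W hW
  refine ⟨⟨K, hK, fun k => CovDesc.mkPiece D i (g k).left, hV, hfl, hfp, hsurj⟩, fun k => ?_⟩
  let p : Piece (CovDesc.U₀ S) D i := CovDesc.mkPiece D i (g k).left
  have hfst : pullback.snd (D.map (𝟙 i)).left (g k).left ≫ (g k).left =
      pullback.fst (D.map (𝟙 i)).left (g k).left := by
    rw [← pullback.condition, D.map_id]
    exact Category.comp_id _
  have hw : pullback.snd (D.map (𝟙 i)).left (g k).left ≫ (V k).hom =
      (p.Dk.obj (Over.mk (𝟙 i))).hom := by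
    rw [← Over.w (g k), ← Category.assoc, hfst]
    exact (p.Dk_hom (Over.mk (𝟙 i))).symm
  let s : p.Dk.obj (Over.mk (𝟙 i)) ⟶ V k :=
    Over.homMk (pullback.snd (D.map (𝟙 i)).left (g k).left) hw
  have hs' : s ≫ g k = p.π₀ := Over.OverMorphism.ext hfst
  have := W.downward_closed (hg k) s
  rw [hs'] at this
  exact this

/-- Refinement of a covering sieve of the limit by pieces coming from a finite stage. -/
theorem exists_cover_inf (hs : AffSys D c) (W : Sieve c.pt) (hW : W ∈ J S c.pt) :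
    ∃ (i₁ : I) (C : GoodCover D i₁), ∀ k, W.arrows ((C.p k).πinf c) := by
  haveI := hs.affpt
  obtain ⟨hc⟩ := hs.lim
  obtain ⟨K, hK, V, g, hV, hfl, hfp, hsurj, hg⟩ :=
    CovDesc.exists_finite_affine_refinement W hW
  haveI := hK
  obtain ⟨i₁, p, h1, h2, h3, h4, h5⟩ :=
    CovDesc.exists_descend_cover D c hc hs.aff hs.affpt V g hV hfl hfp hsurj
  refine ⟨i₁, ⟨K, hK, p, h1, h2, h3, h4⟩, fun k => ?_⟩
  obtain ⟨m, hm⟩ := h5 k
  have := W.downward_closed (hg k) m
  rw [hm] at this
  exact this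

end Refine

end H10PT.LimLoc
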