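import Mathlib
import Groth.Prelude.Def_AlgSpRep
import Groth.Prelude.Def_QuotSh
import Groth.Agent.Lib.Helper10.LimLocD
import Groth.Agent.S9192

/-!
# Etale analogues: covers of affine systems for the big etale topology
-/

set_option autoImplicit false
universe u w
open CategoryTheory CategoryTheory.Limits AlgebraicGeometry Opposite

namespace H10PT.EtSh

open AlgSp H10PT.LimLoc H10PT.CovDesc

/-- The big etale topology on schemes over `S`. -/
abbrev Jet (S : Scheme.{u}) : GrothendieckTopology (Over S) :=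
  QuotSh.J Scheme.etalePrecoverage S

section Cover

variable {S : Scheme.{u}} (F : (Over S)ᵒᵖ ⥤ Type (u + 1)) (hF : Presheaf.IsSheaf (Jet S) F)
include hF

theorem isSheafFor_arrows {K : Type*} {X : Over S} (Y : K → Over S) (π : ∀ k, Y k ⟶ X)
    (hcov : Sieve.generate (Presieve.ofArrows Y π) ∈ Jet S X) :
    ∀ (x : (k : K) → F.obj (op (Y k))), Presieve.Arrows.Compatible F π x →
      ∃! t, ∀ k, F.map (π k).op t = x k := by
  have hsh : Presieve.IsSheafFor F (Presieve.ofArrows Y π) :=
    (Presieve.isSheafFor_iff_generate _).2 (((isSheaf_iff_isSheaf_of_type _ _).1 hF) _ hcov)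
  rwa [Presieve.isSheafFor_arrows_iff] at hsh

theorem ext_of_cover {K : Type*} {X : Over S} (Y : K → Over S) (π : ∀ k, Y k ⟶ X)
    (hcov : Sieve.generate (Presieve.ofArrows Y π) ∈ Jet S X) (x y : F.obj (op X))
    (h : ∀ k, F.map (π k).op x = F.map (π k).op y) : x = y := by
  obtain ⟨t, _, ht⟩ := isSheafFor_arrows F hF Y π hcov (fun k => F.map (π k).op x) (by
    intro k l Z g₁ g₂ hg
    exact map_op_sq F hg x)
  exact (ht x (fun k => rfl)).trans (ht y (fun k => (h k).symm)).symm

theorem glue_of_cover {K : Type*} {X : Over S} (Y : K → Over S) (π : ∀ k, Y k ⟶ X)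
    (hcov : Sieve.generate (Presieve.ofArrows Y π) ∈ Jet S X) (z : ∀ k, F.obj (op (Y k)))
    (hz : ∀ k l (Z : Over S) (g₁ : Z ⟶ Y k) (g₂ : Z ⟶ Y l), g₁ ≫ π k = g₂ ≫ π l →
      F.map g₁.op (z k) = F.map g₂.op (z l)) :
    ∃ x : F.obj (op X), ∀ k, F.map (π k).op x = z k := by
  obtain ⟨t, ht, _⟩ := isSheafFor_arrows F hF Y π hcov z (by
    intro k l Z g₁ g₂ hg
    exact hz k l Z g₁ g₂ hg)
  exact ⟨t, ht⟩

end Cover

/-- A jointly surjective family of flat, locally finitely presented morphisms generates a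
covering sieve (same statement and proof as helper16's lemma, restated here to keep imports
light). -/
theorem generate_ofArrows_mem_J {S : Scheme.{u}} {κ : Type w} {X : Over S} (Xj : κ → Over S)
    (s : ∀ j, Xj j ⟶ X) (hflat : ∀ j, Etale (s j).left)
    (hlfp : ∀ j, LocallyOfFinitePresentation (s j).left)
    (hsurj : ∀ x : X.left, ∃ j, x ∈ Set.range (s j).left) :
    Sieve.generate (Presieve.ofArrows Xj s) ∈ Jet S X := by
  show _ ∈ (Scheme.etalePrecoverage.toGrothendieck).over S X
  rw [GrothendieckTopology.mem_over_iff]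
  have hmem : Presieve.ofArrows (fun j => (Xj j).left) (fun j => (s j).left) ∈
      Scheme.etalePrecoverage X.left := by
    rw [Scheme.etalePrecoverage, Scheme.ofArrows_mem_precoverage_iff]
    exact ⟨hsurj, fun j => hflat j⟩
  refine GrothendieckTopology.superset_covering _ ?_ (Precoverage.generate_mem_toGrothendieck hmem)
  rw [Sieve.generate_le_iff]
  rintro _ _ ⟨j⟩
  rw [Sieve.overEquiv_iff]
  refine ⟨Xj j, Over.homMk (𝟙 _) (by simp), s j, ⟨j⟩, ?_⟩
  ext1
  simp

section CoversCtx

variable {S : Scheme.{u}} {ι : Type u} (U : ι → Over S)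
  {I : Type u} [SmallCategory I] [IsCofiltered I] (D : I ⥤ Over S) (c : Cone D) (i₀ : I)

section Covers

variable {U D i₀} {K : Type*} (p : K → Piece U D i₀) (hfl : ∀ k, Etale (p k).q)
  (hfp : ∀ k, LocallyOfFinitePresentation (p k).q)
  (hsurj : ∀ t : (D.obj i₀).left, ∃ k, t ∈ Set.range (p k).q)
include hfl hfp hsurj

theorem cover_mem (f : Over i₀) :
    Sieve.generate (Presieve.ofArrows (fun k => (p k).Dk.obj f) (fun k => (p k).πk.app f)) ∈
      Jet S (D.obj f.left) := by
  refine generate_ofArrows_mem_J _ _ (fun k => ?_) (fun k => ?_) (fun x => ?_)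
  · haveI := hfl k
    show Etale (pullback.fst (D.map f.hom).left (p k).q)
    infer_instance
  · haveI := hfp k
    show LocallyOfFinitePresentation (pullback.fst (D.map f.hom).left (p k).q)
    infer_instance
  · obtain ⟨k, w, hw⟩ := hsurj ((D.map f.hom).left x)
    obtain ⟨z, hz1, _⟩ := Scheme.Pullback.exists_preimage_pullback
      (f := (D.map f.hom).left) (g := (p k).q) x w hw.symm
    exact ⟨k, z, hz1⟩

theorem cover_mem_inf :
    Sieve.generate (Presieve.ofArrows (fun k => ((p k).ck c).pt) (fun k => (p k).πinf c)) ∈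
      Jet S c.pt := by
  refine generate_ofArrows_mem_J _ _ (fun k => ?_) (fun k => ?_) (fun x => ?_)
  · haveI := hfl k
    show Etale (pullback.fst (c.π.app i₀).left (p k).q)
    infer_instance
  · haveI := hfp k
    show LocallyOfFinitePresentation (pullback.fst (c.π.app i₀).left (p k).q)
    infer_instance
  · obtain ⟨k, w, hw⟩ := hsurj ((c.π.app i₀).left x)
    obtain ⟨z, hz1, _⟩ := Scheme.Pullback.exists_preimage_pullback
      (f := (c.π.app i₀).left) (g := (p k).q) x w hw.symm
    exact ⟨k, z, hz1⟩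

end Covers

end CoversCtx

variable {S : Scheme.{u}}

/-- Any fppf covering sieve of a quasi-compact scheme contains a finite jointly surjective family
of flat, locally finitely presented morphisms from affine schemes. -/
theorem exists_finite_affine_refinement {X : Over S} [CompactSpace X.left] (W : Sieve X)
    (hW : W ∈ Jet S X) :
    ∃ (K : Type u) (_ : Finite K) (V : K → Over S) (g : ∀ k, V k ⟶ X),
      (∀ k, IsAffine (V k).left) ∧ (∀ k, Etale (g k).left) ∧
      (∀ k, LocallyOfFinitePresentation (g k).left) ∧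
      (∀ x : X.left, ∃ k, x ∈ Set.range (g k).left) ∧ ∀ k, W.arrows (g k) := by
  replace hW : W ∈ (Scheme.etalePrecoverage.toGrothendieck).over S X := hW
  rw [GrothendieckTopology.mem_over_iff] at hW
  haveI : Scheme.etalePrecoverage.{u}.HasIsos := by
    unfold Scheme.etalePrecoverage
    infer_instance
  haveI : Scheme.etalePrecoverage.{u}.HasPullbacks := by
    unfold Scheme.etalePrecoverage
    infer_instance
  haveI : Scheme.etalePrecoverage.{u}.IsStableUnderBaseChange := by
    unfold Scheme.etalePrecoverage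
    infer_instance
  haveI : Scheme.etalePrecoverage.{u}.IsStableUnderComposition := by
    unfold Scheme.etalePrecoverage
    infer_instance
  obtain ⟨R, hR, hle⟩ :=
    (Precoverage.mem_toGrothendieck_iff_of_isStableUnderComposition
      (J := Scheme.etalePrecoverage)).1 hW
  have hR' : R ∈ Scheme.precoverage (@Etale) X.left := hR
  have hsurj := hR'.1
  have hprop := hR'.2
  rw [Scheme.jointlySurjectivePrecoverage, Presieve.mem_comap_jointlySurjectivePrecoverage_iff]
    at hsurj
  choose Y f hf hx using hsurj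
  choose y hy using hx
  have haff : ∀ x, ∃ V : (Y x).Opens, IsAffineOpen V ∧ y x ∈ V := by
    intro x
    obtain ⟨V, hV, hyV, -⟩ := exists_isAffineOpen_mem_and_subset
      (X := Y x) (x := y x) (U := ⊤) trivial
    exact ⟨V, hV, hyV⟩
  choose V hV hyV using haff
  let gx : ∀ x : X.left, ((V x : (Y x).Opens) : Scheme.{u}) ⟶ X.left := fun x => (V x).ι ≫ f x
  have hPf : ∀ x, Etale (f x) := fun x => hprop (hf x)
  have hfl : ∀ x, Etale (gx x) := fun x => by
    haveI : Etale (f x) := hPf x
    dsimp only [gx]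
    infer_instance
  have hfp : ∀ x, LocallyOfFinitePresentation (gx x) := fun x => by
    haveI := hfl x
    infer_instance
  have hopen : ∀ x, IsOpen (Set.range (gx x)) := fun x => by
    haveI := hfl x
    haveI := hfp x
    exact (gx x).isOpenMap.isOpen_range
  have hcov : ∀ x : X.left, x ∈ Set.range (gx x) := by
    intro x
    refine ⟨⟨y x, hyV x⟩, ?_⟩
    show ((V x).ι ≫ f x) ⟨y x, hyV x⟩ = x
    rw [Scheme.Hom.comp_apply]
    exact hy x
  obtain ⟨t, ht⟩ := isCompact_univ.elim_finite_subcover (fun x => Set.range (gx x)) hopen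
    (fun x _ => Set.mem_iUnion.2 ⟨x, hcov x⟩)
  refine ⟨↥t, inferInstance, fun k => Over.mk (gx k.1 ≫ X.hom), fun k => Over.homMk (gx k.1) rfl,
    fun k => hV k.1, fun k => hfl k.1, fun k => hfp k.1, fun x => ?_, fun k => ?_⟩
  · obtain ⟨a, hat, hxa⟩ := Set.mem_iUnion₂.1 (ht (Set.mem_univ x))
    exact ⟨⟨a, hat⟩, hxa⟩
  · have h1 : (Sieve.overEquiv X W).arrows (gx k.1) :=
      (Sieve.overEquiv X W).downward_closed (hle _ _ (hf k.1)) (V k.1).ι
    rw [Sieve.overEquiv_iff] at h1
    exact h1

section Desc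

variable {S : Scheme.{u}} {I : Type u} [SmallCategory I] [IsCofiltered I] (D : I ⥤ Over S)
  (c : Cone D)

/-- A finite affine fppf covering of the limit of a cofiltered system of affine schemes comes
from a finite affine fppf covering of a member of the system. -/
theorem exists_descend_cover (hc : IsLimit ((Over.forget S).mapCone c))
    (hD : ∀ i, IsAffine (D.obj i).left) (hT : IsAffine c.pt.left)
    {K : Type u} [Finite K] (V : K → Over S) (g : ∀ k, V k ⟶ c.pt)
    (hV : ∀ k, IsAffine (V k).left) (hfl : ∀ k, Etale (g k).left)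
    (hfp : ∀ k, LocallyOfFinitePresentation (g k).left)
    (hsurj : ∀ x : c.pt.left, ∃ k, x ∈ Set.range (g k).left) :
    ∃ (i₁ : I) (p : K → Piece (U₀ S) D i₁), (∀ k, IsAffine (p k).W) ∧ (∀ k, Etale (p k).q) ∧
      (∀ k, LocallyOfFinitePresentation (p k).q) ∧
      (∀ t : (D.obj i₁).left, ∃ k, t ∈ Set.range (p k).q) ∧
      ∀ k, ∃ m : ((p k).ck c).pt ⟶ V k, m ≫ g k = (p k).πinf c := by
  classical
  obtain ⟨i₀, X, q, v, hq1, hq2, hq3, hq4⟩ := exists_common_approx D c hc hD hT V g hV hfp
  haveI : ∀ i, IsAffine ((D ⋙ Over.forget S).obj i) := hD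
  haveI : IsAffine ((Over.forget S).mapCone c).pt := hT
  haveI : ∀ i, IsAffine (D.obj i).left := hD
  haveI : IsAffine c.pt.left := hT
  haveI hXc : ∀ k, CompactSpace (X k) := fun k => by
    haveI := hq2 k
    exact QuasiCompact.compactSpace_of_compactSpace (q k)
  haveI hXq : ∀ k, QuasiSeparatedSpace (X k) := fun k => by
    haveI := hq3 k
    exact quasiSeparatedSpace_of_quasiSeparated (q k)
  -- monotonicity
  have hmonoF : ∀ k (f f' : Over i₀) (_ : f' ⟶ f),
      Etale (pullback.fst (D.map f.hom).left (q k)) →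
      Etale (pullback.fst (D.map f'.hom).left (q k)) := by
    intro k f f' m hf
    exact MorphismProperty.of_isPullback (P := @Etale)
      (tr_isPullback (q k) (D.map m.left).left (Piece.ht₁ m)) hf
  have hmonoA : ∀ k (f f' : Over i₀) (_ : f' ⟶ f),
      IsAffine (pullback (D.map f.hom).left (q k)) →
      IsAffine (pullback (D.map f'.hom).left (q k)) := by
    intro k f f' m hf
    haveI := hf
    exact IsAffine.of_isIso
      (tr_isPullback (q k) (D.map m.left).left (Piece.ht₁ m)).isoPullback.hom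
  -- flatness at a finite stage
  have hB : ∀ k, ∃ f : Over i₀, Etale (pullback.fst (D.map f.hom).left (q k)) := by
    intro k
    haveI := hq1 k
    haveI := hfl k
    obtain ⟨i, φ, Xi, Yi, fi, gi, pY, pX, hYi, hXi, hflat⟩ :=
      Groth.Agent.S9192.result (D ⋙ Over.forget S) ((Over.forget S).mapCone c) hc i₀ (q k)
        (𝟙 ((D ⋙ Over.forget S).obj i₀)) (g k).left (𝟙 _)
        (((Over.forget S).mapCone c).π.app i₀) (v k) (IsPullback.id_vert _) (hq4 k)
    haveI : IsIso gi := hYi.isIso_snd_of_isIso (IsIso.id _)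
    have sq1 : IsPullback pX (fi ≫ gi) (q k) ((D ⋙ Over.forget S).map φ) :=
      (congrArg (fun t => IsPullback pX (fi ≫ gi) t ((D ⋙ Over.forget S).map φ))
        (Category.comp_id (q k))).mp (hXi.paste_vert hYi)
    have sq2 := (IsPullback.of_hasPullback ((D ⋙ Over.forget S).map φ) (q k)).flip
    refine ⟨Over.mk φ, ?_⟩
    show Etale (pullback.fst ((D ⋙ Over.forget S).map φ) (q k))
    rw [← sq2.isoIsPullback_hom_snd _ _ sq1]
    infer_instance
  -- affineness at a finite stage
  have hC : ∀ k, ∃ f : Over i₀, IsAffine (pullback (D.map f.hom).left (q k)) := by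
    intro k
    let p : Piece (U₀ S) D i₀ := mkPiece D i₀ (q k)
    let Es : Over i₀ ⥤ Scheme.{u} := p.E ⋙ Over.forget _
    haveI : ∀ f : Over i₀, CompactSpace (Es.obj f) := fun f => by
      haveI := hq2 k
      show CompactSpace ((pullback (D.map f.hom).left (q k) : Scheme.{u}))
      exact QuasiCompact.compactSpace_of_compactSpace (pullback.fst (D.map f.hom).left (q k))
    haveI : ∀ f : Over i₀, QuasiSeparatedSpace (Es.obj f) := fun f => by
      haveI := hq3 k
      show QuasiSeparatedSpace ((pullback (D.map f.hom).left (q k) : Scheme.{u}))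
      exact quasiSeparatedSpace_of_quasiSeparated (pullback.fst (D.map f.hom).left (q k))
    haveI : ∀ {f f' : Over i₀} (m : f ⟶ f'), IsAffineHom (Es.map m) := fun {f f'} m => by
      show IsAffineHom (tr (q k) (D.map m.left).left (Piece.ht₁ m))
      haveI : IsAffineHom (pullback.snd (D.map f.hom).left (q k)) :=
        MorphismProperty.pullback_snd (P := @IsAffineHom) _ _ inferInstance
      haveI : IsAffineHom (pullback.snd (D.map f'.hom).left (q k)) :=
        MorphismProperty.pullback_snd (P := @IsAffineHom) _ _ inferInstance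
      haveI : IsAffineHom (tr (q k) (D.map m.left).left (Piece.ht₁ m) ≫
          pullback.snd (D.map f'.hom).left (q k)) := by
        rw [tr_snd]
        infer_instance
      exact IsAffineHom.of_comp _ (pullback.snd (D.map f'.hom).left (q k))
    haveI : IsAffine ((Over.forget _).mapCone (p.cE c)).pt := by
      show IsAffine (pullback (c.π.app i₀).left (q k))
      haveI := hV k
      exact IsAffine.of_isIso (hq4 k).flip.isoPullback.inv
    obtain ⟨f, hf⟩ := Scheme.exists_isAffine_of_isLimit Es ((Over.forget _).mapCone (p.cE c))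
      (p.isLimitCE c hc)
    exact ⟨f, hf⟩
  -- common stage
  obtain ⟨f₁, hf₁⟩ := exists_common_obj
    (fun (s : K ⊕ K) (f : Over i₀) => Sum.elim
      (fun k => Etale (pullback.fst (D.map f.hom).left (q k)))
      (fun k => IsAffine (pullback (D.map f.hom).left (q k))) s)
    (by
      rintro (k | k) f f' m hf
      · exact hmonoF k f f' m hf
      · exact hmonoA k f f' m hf)
    (by
      rintro (k | k)
      · exact hB k
      · exact hC k)
  have hflat₁ : ∀ k, Etale (pullback.fst (D.map f₁.hom).left (q k)) := fun k => hf₁ (Sum.inl k)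
  have haff₁ : ∀ k, IsAffine (pullback (D.map f₁.hom).left (q k)) := fun k => hf₁ (Sum.inr k)
  -- surjectivity at a finite stage
  have hopen : ∀ k, IsOpen (Set.range (pullback.fst (D.map f₁.hom).left (q k))) := fun k => by
    haveI := hflat₁ k
    haveI := hq1 k
    exact (pullback.fst (D.map f₁.hom).left (q k)).isOpenMap.isOpen_range
  let Uo : ((D ⋙ Over.forget S).obj f₁.left).Opens :=
    ⟨⋃ k, Set.range (pullback.fst (D.map f₁.hom).left (q k)), isOpen_iUnion hopen⟩
  have hUtop : ((Over.forget S).mapCone c).π.app f₁.left ⁻¹ᵁ Uo = ⊤ := by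
    refine eq_top_iff.2 (fun t _ => ?_)
    obtain ⟨k, w, hw⟩ := hsurj t
    have hcomm : ((g k).left ≫ (c.π.app f₁.left).left) ≫ (D.map f₁.hom).left = v k ≫ q k := by
      rw [Category.assoc, ← Over.comp_left, c.w, (hq4 k).w]
    refine Set.mem_iUnion.2 ⟨k, (pullback.lift ((g k).left ≫ (c.π.app f₁.left).left) (v k)
      hcomm) w, ?_⟩
    rw [← Scheme.Hom.comp_apply, pullback.lift_fst, Scheme.Hom.comp_apply, hw]
    rfl
  obtain ⟨j, ψ, hj⟩ := exists_map_eq_top (D ⋙ Over.forget S) ((Over.forget S).mapCone c) hc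
    Uo hUtop
  let f₂ : Over i₀ := Over.mk (ψ ≫ f₁.hom)
  let m : f₂ ⟶ f₁ := Over.homMk ψ rfl
  refine ⟨j, fun k => mkPiece D j (pullback.fst (D.map (ψ ≫ f₁.hom)).left (q k)),
    fun k => hmonoA k f₁ f₂ m (haff₁ k), fun k => hmonoF k f₁ f₂ m (hflat₁ k), fun k => ?_,
    fun x => ?_, fun k => ?_⟩
  · haveI := hq1 k
    show LocallyOfFinitePresentation (pullback.fst (D.map (ψ ≫ f₁.hom)).left (q k))
    infer_instance
  · have hx : x ∈ ((D ⋙ Over.forget S).map ψ ⁻¹ᵁ Uo) := by
      rw [hj]
      trivial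
    obtain ⟨k, w, hw⟩ := Set.mem_iUnion.1 hx
    have hw' : pullback.fst (D.map f₁.hom).left (q k) w = (D.map ψ).left x := hw
    have h : (D.map (ψ ≫ f₁.hom)).left x = q k (pullback.snd (D.map f₁.hom).left (q k) w) := by
      rw [← Scheme.Hom.comp_apply, ← pullback.condition, Scheme.Hom.comp_apply, hw',
        ← Scheme.Hom.comp_apply, ← Over.comp_left, ← D.map_comp]
    obtain ⟨z, hz1, _⟩ := Scheme.Pullback.exists_preimage_pullback
      (f := (D.map (ψ ≫ f₁.hom)).left) (g := q k) x _ h
    exact ⟨k, z, hz1⟩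
  · let p : Piece (U₀ S) D j := mkPiece D j (pullback.fst (D.map (ψ ≫ f₁.hom)).left (q k))
    have hcomm : (pullback.snd (c.π.app j).left p.q ≫
        pullback.snd (D.map (ψ ≫ f₁.hom)).left (q k)) ≫ q k =
        pullback.fst (c.π.app j).left p.q ≫ (c.π.app i₀).left :=
      comm_aux (c.π.app j).left (D.map (ψ ≫ f₁.hom)).left (q k) (c.π.app i₀).left
        (by rw [← Over.comp_left, c.w])
    let l : pullback (c.π.app j).left p.q ⟶ (V k).left :=
      (hq4 k).lift _ _ hcomm
    have hl : l ≫ (g k).left = pullback.fst (c.π.app j).left p.q := (hq4 k).lift_snd _ _ hcomm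
    refine ⟨Over.homMk l ?_, Over.OverMorphism.ext hl⟩
    exact (congrArg (fun t => l ≫ t) (Over.w (g k)).symm).trans
      ((Category.assoc _ _ _).symm.trans
        ((congrArg (fun t => t ≫ c.pt.hom) hl).trans (p.ck_pt_hom c).symm))

end Desc

/-- A finite family of affine, flat, finitely presented, jointly surjective pieces. -/
structure GoodCover {I : Type u} [SmallCategory I] (D : I ⥤ Over S) (i : I) where
  K : Type u
  fin : Finite K
  p : K → Piece (U₀ S) D i
  aff : ∀ k, IsAffine (p k).W
  fl : ∀ k, Etale (p k).q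
  fp : ∀ k, LocallyOfFinitePresentation (p k).q
  surj : ∀ t : (D.obj i).left, ∃ k, t ∈ Set.range (p k).q

section Refine

variable {I : Type u} [SmallCategory I] [IsCofiltered I] {D : I ⥤ Over S} {c : Cone D}

/-- Refinement of a covering sieve of a member of the system by pieces. -/
theorem exists_cover_fin (hs : AffSys D c) (i : I) (W : Sieve (D.obj i)) (hW : W ∈ Jet S (D.obj i)) :
    ∃ C : GoodCover D i, ∀ k, W.arrows (C.p k).π₀ := by
  haveI := hs.aff i
  obtain ⟨K, hK, V, g, hV, hfl, hfp, hsurj, hg⟩ :=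
    exists_finite_affine_refinement W hW
  refine ⟨⟨K, hK, fun k => mkPiece D i (g k).left, hV, hfl, hfp, hsurj⟩, fun k => ?_⟩
  let p : Piece (U₀ S) D i := mkPiece D i (g k).left
  have hfst : pullback.snd (D.map (𝟙 i)).left (g k).left ≫ (g k).left =
      pullback.fst (D.map (𝟙 i)).left (g k).left := by
    rw [← pullback.condition, D.map_id]
    exact Category.comp_id _
  have hw : pullback.snd (D.map (𝟙 i)).left (g k).left ≫ (V k).hom =
      (p.Dk.obj (Over.mk (𝟙 i))).hom := by
    rw [← Over.w (g k), ← Category.assoc, hfst]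
    exact (p.Dk_hom (Over.mk (𝟙 i))).symm
  let s : p.Dk.obj (Over.mk (𝟙 i)) ⟶ V k :=
    Over.homMk (pullback.snd (D.map (𝟙 i)).left (g k).left) hw
  have hs' : s ≫ g k = p.π₀ := Over.OverMorphism.ext hfst
  have := W.downward_closed (hg k) s
  rw [hs'] at this
  exact this

/-- Refinement of a covering sieve of the limit by pieces coming from a finite stage. -/
theorem exists_cover_inf (hs : AffSys D c) (W : Sieve c.pt) (hW : W ∈ Jet S c.pt) :
    ∃ (i₁ : I) (C : GoodCover D i₁), ∀ k, W.arrows ((C.p k).πinf c) := by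
  haveI := hs.affpt
  obtain ⟨hc⟩ := hs.lim
  obtain ⟨K, hK, V, g, hV, hfl, hfp, hsurj, hg⟩ :=
    exists_finite_affine_refinement W hW
  haveI := hK
  obtain ⟨i₁, p, h1, h2, h3, h4, h5⟩ :=
    exists_descend_cover D c hc hs.aff hs.affpt V g hV hfl hfp hsurj
  refine ⟨i₁, ⟨K, hK, p, h1, h2, h3, h4⟩, fun k => ?_⟩
  obtain ⟨m, hm⟩ := h5 k
  have := W.downward_closed (hg k) m
  rw [hm] at this
  exact this

end Refine

end H10PT.EtSh
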