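import Mathlib
import Groth.Prelude.Def_AlgSpRep
import Groth.Prelude.Def_QuotSh
import Groth.Agent.Lib.Helper10.EtShA

/-!
# Helper library (helper10): epimorphisms of big-etale sheaves with the same kernel relation

* `jet_le`, `isSheaf_jet`: the etale topology is coarser than the fppf topology.
* `isLocallySurjective_of_covers`, `isLocallySurjective_of_relative`: etale-local surjectivity of a
  map out of a representable presheaf with etale surjective pullbacks.
* `rel_iff_of_isPullback`: the kernel relation read off a pullback square of representables.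
* `exists_desc_sec`, `exists_iso_of_epi_epi_sec`: two epimorphisms of etale sheaves with the same
  kernel relation on sections have isomorphic targets.
-/

set_option autoImplicit false
universe u
open CategoryTheory CategoryTheory.Limits AlgebraicGeometry Opposite

namespace H10PT.EtQuot

open AlgSp H10PT.EtSh

variable {S : Scheme.{u}}

theorem etale_le_fppf : Scheme.etalePrecoverage ≤ Scheme.fppfPrecoverage.{u} :=
  Scheme.precoverage_mono fun _ _ f hf => by
    have : Etale f := hf
    exact ⟨inferInstance, inferInstance⟩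

theorem jet_le : Jet S ≤ J S := by
  intro Y R hR
  show R ∈ (Scheme.fppfPrecoverage.toGrothendieck).over S Y
  rw [GrothendieckTopology.mem_over_iff]
  exact Precoverage.toGrothendieck_mono etale_le_fppf _
    ((GrothendieckTopology.mem_over_iff _ _).1 hR)

theorem isSheaf_jet {G : PSp S} (h : Presheaf.IsSheaf (J S) G) : Presheaf.IsSheaf (Jet S) G := by
  rw [isSheaf_iff_isSheaf_of_type] at h ⊢
  exact Presieve.isSheaf_of_le G jet_le h

theorem isLocallySurjective_of_covers {A B : PSp S} (a : A ⟶ B)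
    (h : ∀ (T : Over S) (x : B.obj (op T)), ∃ (V : Over S) (v : V ⟶ T) (y : A.obj (op V)),
      Etale v.left ∧ Surjective v.left ∧ a.app (op V) y = B.map v.op x) :
    Presheaf.IsLocallySurjective (Jet S) a where
  imageSieve_mem {T} x := by
    obtain ⟨V, v, y, h1, h2, h3⟩ := h T x
    have hcov : Sieve.generate (Presieve.ofArrows (fun _ : Unit => V) (fun _ => v)) ∈ Jet S T :=
      generate_ofArrows_mem_J _ _ (fun _ => h1) (fun _ => inferInstance) (fun t => by
        obtain ⟨z, hz⟩ := v.left.surjective t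
        exact ⟨(), z, hz⟩)
    refine (Jet S).superset_covering ?_ hcov
    rw [Sieve.generate_le_iff]
    rintro _ _ ⟨_⟩
    exact ⟨y, h3⟩

theorem app_up_eq {A T : Over S} {B : PSp S} (a : (pyon S).obj A ⟶ B) (x : T ⟶ A) :
    a.app (op T) (ULift.up x) = uliftYonedaEquiv.{u + 1} ((pyon S).map x ≫ a) := by
  rw [uliftYonedaEquiv_comp, uliftYonedaEquiv_uliftYoneda_map]

theorem app_up_eq_iff {A T : Over S} {B : PSp S} (a : (pyon S).obj A ⟶ B) (x y : T ⟶ A) :
    a.app (op T) (ULift.up x) = a.app (op T) (ULift.up y) ↔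
      (pyon S).map x ≫ a = (pyon S).map y ≫ a := by
  rw [app_up_eq, app_up_eq, Equiv.apply_eq_iff_eq]

theorem isLocallySurjective_of_relative {A : Over S} {B : PSp S} (a : (pyon S).obj A ⟶ B)
    (h : ∀ ⦃T : Over S⦄ (ξ : (pyon S).obj T ⟶ B), ∃ (V : Over S) (v : V ⟶ T)
      (fst : (pyon S).obj V ⟶ (pyon S).obj A),
      fst ≫ a = (pyon S).map v ≫ ξ ∧ Etale v.left ∧ Surjective v.left) :
    Presheaf.IsLocallySurjective (Jet S) a := by
  apply isLocallySurjective_of_covers
  intro T x
  obtain ⟨V, v, fst, hw, h1, h2⟩ := h (uliftYonedaEquiv.{u + 1}.symm x)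
  refine ⟨V, v, uliftYonedaEquiv.{u + 1} fst, h1, h2, ?_⟩
  rw [← uliftYonedaEquiv_comp, hw]
  have := uliftYonedaEquiv_naturality.{u + 1} (uliftYonedaEquiv.{u + 1}.symm x) v.op
  rw [Equiv.apply_symm_apply] at this
  exact this.symm

theorem rel_iff_of_isPullback {R U : Over S} {B : PSp S} (s t : R ⟶ U) (a : (pyon S).obj U ⟶ B)
    (sq : IsPullback ((pyon S).map t) ((pyon S).map s) a a) {T : Over S} (x y : T ⟶ U) :
    (pyon S).map x ≫ a = (pyon S).map y ≫ a ↔ ∃ r : T ⟶ R, r ≫ t = x ∧ r ≫ s = y := by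
  constructor
  · intro h
    obtain ⟨r, hr⟩ := (pyon S).map_surjective (sq.lift _ _ h)
    refine ⟨r, (pyon S).map_injective ?_, (pyon S).map_injective ?_⟩
    · rw [Functor.map_comp, hr, sq.lift_fst]
    · rw [Functor.map_comp, hr, sq.lift_snd]
  · rintro ⟨r, rfl, rfl⟩
    rw [Functor.map_comp, Functor.map_comp, Category.assoc, Category.assoc, sq.w]

theorem exists_desc_sec {A M B : Sheaf (Jet S) (Type (u + 1))} (q : A ⟶ M) [Epi q] (φ : A ⟶ B)
    (hφ : ∀ (T : (Over S)ᵒᵖ) (x y : A.obj.obj T),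
      q.hom.app T x = q.hom.app T y → φ.hom.app T x = φ.hom.app T y) :
    ∃ ψ : M ⟶ B, q ≫ ψ = φ := by
  haveI : IsRegularEpi q := IsRegularEpiCategory.regularEpiOfEpi q
  haveI : EffectiveEpi q := inferInstance
  refine ⟨EffectiveEpi.desc q φ (fun {Z} g₁ g₂ h => ?_), EffectiveEpi.fac _ _ _⟩
  apply (sheafToPresheaf _ _).map_injective
  ext T z
  exact hφ T (g₁.hom.app T z) (g₂.hom.app T z)
    (congrArg (fun η : Z ⟶ M => η.hom.app T z) h)

theorem exists_iso_of_epi_epi_sec {A B B' : Sheaf (Jet S) (Type (u + 1))} (a : A ⟶ B) (a' : A ⟶ B')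
    [Epi a] [Epi a']
    (h : ∀ (T : (Over S)ᵒᵖ) (x y : A.obj.obj T),
      a.hom.app T x = a.hom.app T y ↔ a'.hom.app T x = a'.hom.app T y) :
    ∃ e : B ≅ B', a ≫ e.hom = a' := by
  obtain ⟨ψ, hψ⟩ := exists_desc_sec a a' (fun T x y hxy => (h T x y).1 hxy)
  obtain ⟨ψ', hψ'⟩ := exists_desc_sec a' a (fun T x y hxy => (h T x y).2 hxy)
  refine ⟨⟨ψ, ψ', ?_, ?_⟩, hψ⟩
  · rw [← cancel_epi a, ← Category.assoc, hψ, hψ', Category.comp_id]
  · rw [← cancel_epi a', ← Category.assoc, hψ', hψ, Category.comp_id]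

end H10PT.EtQuot
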