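import Groth.Agent.Lib.Helper10.DescF

/-!
# Helper library (helper10): the quotient map of an étale equivalence relation is representable and
étale (assembly: Zariski localisation on `T` and on `U`)
-/

set_option autoImplicit false
set_option backward.isDefEq.respectTransparency false
set_option backward.isDefEq.respectTransparency.types false
universe u
open CategoryTheory CategoryTheory.Limits AlgebraicGeometry Opposite

namespace H10PT.Desc

open AlgSp Groth.Agent.Lib.Helper16 Groth.Agent.Lib.Helper15 Groth.Agent.Lib.Helper16.GlueRep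
  Groth.Agent.Lib.Helper28.EffDesc

variable {S : Scheme.{u}} {R U : Over S} (s t : R ⟶ U) {F : Sp S} (p : (yon S).obj U ⟶ F)
  (hpb : IsPullback ((yon S).map t) ((yon S).map s) p p)
  (hinj : ∀ (T : Over S) (r r' : T ⟶ R), r ≫ t = r' ≫ t → r ≫ s = r' ≫ s → r = r')

theorem exists_affineOpen_mem {X : Scheme.{u}} (x : X) : ∃ b : X.affineOpens, x ∈ Set.range b.1.ι := by
  obtain ⟨O, hO, ht, -⟩ := (TopologicalSpace.Opens.isBasis_iff_nbhd.mp X.isBasis_affineOpens)
    (show x ∈ (⊤ : X.Opens) from trivial)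
  exact ⟨⟨O, hO⟩, by rw [Scheme.Opens.range_ι]; exact ht⟩

include hpb hinj in
theorem rep_affine_source (hepi : Epi p) (het : Etale t.left) {Ua : Over S} [IsAffine Ua.left]
    (ιa : Ua ⟶ U) [IsOpenImmersion ιa.left] {T : Over S} (ξ : (yon S).obj T ⟶ F) :
    ∃ (W : Over S) (w : W ⟶ T) (ε : (yon S).obj W ≅ pullback ((yon S).map ιa ≫ p) ξ),
      ε.hom ≫ pullback.snd ((yon S).map ιa ≫ p) ξ = (yon S).map w ∧ Etale w.left := by
  have hb : ∀ b : T.left.affineOpens, ∃ (Wb : Over S) (wb : Wb ⟶ Over.mk (b.1.ι ≫ T.hom))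
      (fb : (yon S).obj Wb ⟶ pullback ((yon S).map ιa ≫ p) ξ),
      IsPullback fb ((yon S).map wb) (pullback.snd ((yon S).map ιa ≫ p) ξ)
        ((yon S).map (Over.homMk b.1.ι rfl : Over.mk (b.1.ι ≫ T.hom) ⟶ T)) ∧ Etale wb.left := by
    intro b
    haveI : IsAffine (Over.mk (b.1.ι ≫ T.hom)).left := b.2
    obtain ⟨jb, hjb⟩ : ∃ jb : Over.mk (b.1.ι ≫ T.hom) ⟶ T, jb = Over.homMk b.1.ι rfl := ⟨_, rfl⟩
    rw [← hjb]
    obtain ⟨Wb, wb, εb, hεb, hwb⟩ := rep_affine s t p hpb hinj hepi het ιa ((yon S).map jb ≫ ξ)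
    obtain ⟨mb, hm1, hm2⟩ : ∃ mb : pullback ((yon S).map ιa ≫ p) ((yon S).map jb ≫ ξ) ⟶
        pullback ((yon S).map ιa ≫ p) ξ,
        mb ≫ pullback.fst ((yon S).map ιa ≫ p) ξ =
          pullback.fst ((yon S).map ιa ≫ p) ((yon S).map jb ≫ ξ) ∧
        mb ≫ pullback.snd ((yon S).map ιa ≫ p) ξ =
          pullback.snd ((yon S).map ιa ≫ p) ((yon S).map jb ≫ ξ) ≫ (yon S).map jb :=
      ⟨pullback.lift _ _ (by rw [Category.assoc]; exact pullback.condition),
        pullback.lift_fst _ _ _, pullback.lift_snd _ _ _⟩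
    have hsqm : IsPullback mb (pullback.snd ((yon S).map ιa ≫ p) ((yon S).map jb ≫ ξ))
        (pullback.snd ((yon S).map ιa ≫ p) ξ) ((yon S).map jb) := by
      refine IsPullback.of_right ?_ hm2 (IsPullback.of_hasPullback ((yon S).map ιa ≫ p) ξ)
      rw [hm1]
      exact IsPullback.of_hasPullback _ _
    exact ⟨Wb, wb, εb.hom ≫ mb, isPullback_iso_comp hsqm εb hεb, hwb⟩
  choose Wb wb fb hsqb hetb using hb
  obtain ⟨W, w, ε, k, hε, hk, hkopen, hkcov, hkw⟩ :=
    rep_of_zariski_local (pullback.snd ((yon S).map ιa ≫ p) ξ)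
      (fun b : T.left.affineOpens => Over.mk (b.1.ι ≫ T.hom)) Wb
      (fun b => Over.homMk b.1.ι rfl) wb fb
      (fun b => by change IsOpenImmersion b.1.ι; infer_instance)
      (fun x => exists_affineOpen_mem x) hsqb
  refine ⟨W, w, ε, hε, ?_⟩
  haveI := fun b => hkopen b
  refine etale_of_open_cover w.left (fun b => (Wb b).left) (fun b => (k b).left) hkcov (fun b => ?_)
  have e : (k b).left ≫ w.left = (wb b).left ≫ b.1.ι := congrArg CommaMorphism.left (hkw b)
  rw [e]
  haveI := hetb b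
  infer_instance

include hpb hinj in
/-- **The quotient map of an étale equivalence relation is representable and étale.** -/
theorem repWith_etale_of_eqvRel (hepi : Epi p) (het : Etale t.left) : RepWith @Etale p := by
  refine MorphismProperty.relative.of_exists ?_
  intro T ξ
  have ha : ∀ a : U.left.affineOpens, ∃ (Wa : Over S) (wa' : Wa ⟶ Over.mk (a.1.ι ≫ U.hom))
      (fa : (yon S).obj Wa ⟶ pullback p ξ) (wa : Wa ⟶ T),
      IsPullback fa ((yon S).map wa') (pullback.fst p ξ)
        ((yon S).map (Over.homMk a.1.ι rfl : Over.mk (a.1.ι ≫ U.hom) ⟶ U)) ∧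
      fa ≫ pullback.snd p ξ = (yon S).map wa ∧ Etale wa.left := by
    intro a
    haveI : IsAffine (Over.mk (a.1.ι ≫ U.hom)).left := a.2
    obtain ⟨ιa, hιa⟩ : ∃ ιa : Over.mk (a.1.ι ≫ U.hom) ⟶ U, ιa = Over.homMk a.1.ι rfl := ⟨_, rfl⟩
    rw [← hιa]
    haveI : IsOpenImmersion ιa.left := by
      rw [hιa]; change IsOpenImmersion a.1.ι; infer_instance
    obtain ⟨Wa, wa, εa, hεa, hwa⟩ := rep_affine_source s t p hpb hinj hepi het ιa ξ
    obtain ⟨na, hn1, hn2⟩ : ∃ na : pullback ((yon S).map ιa ≫ p) ξ ⟶ pullback p ξ,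
        na ≫ pullback.fst p ξ = pullback.fst ((yon S).map ιa ≫ p) ξ ≫ (yon S).map ιa ∧
        na ≫ pullback.snd p ξ = pullback.snd ((yon S).map ιa ≫ p) ξ :=
      ⟨pullback.lift _ _ (by rw [Category.assoc]; exact pullback.condition),
        pullback.lift_fst _ _ _, pullback.lift_snd _ _ _⟩
    have hsqn : IsPullback na (pullback.fst ((yon S).map ιa ≫ p) ξ) (pullback.fst p ξ)
        ((yon S).map ιa) := by
      refine (IsPullback.of_bot ?_ hn1.symm (IsPullback.of_hasPullback p ξ)).flip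
      rw [hn2]
      exact IsPullback.of_hasPullback _ _
    obtain ⟨wa', hwa'⟩ := (yon S).map_surjective (εa.hom ≫ pullback.fst ((yon S).map ιa ≫ p) ξ)
    refine ⟨Wa, wa', εa.hom ≫ na, wa, isPullback_iso_comp hsqn εa hwa'.symm, ?_, hwa⟩
    rw [Category.assoc, hn2, hεa]
  choose Wa wa' fa wa hsqa hfa heta using ha
  obtain ⟨W, w', ε, k, hε, hk, hkopen, hkcov, -⟩ :=
    rep_of_zariski_local (pullback.fst p ξ)
      (fun a : U.left.affineOpens => Over.mk (a.1.ι ≫ U.hom)) Wa
      (fun a => Over.homMk a.1.ι rfl) wa' fa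
      (fun a => by change IsOpenImmersion a.1.ι; infer_instance)
      (fun x => exists_affineOpen_mem x) hsqa
  obtain ⟨w, hw⟩ := (yon S).map_surjective (ε.hom ≫ pullback.snd p ξ)
  refine ⟨W, ε.hom ≫ pullback.fst p ξ, w, ?_, ?_⟩
  · exact IsPullback.of_iso_pullback
      ⟨by rw [Category.assoc, pullback.condition, ← Category.assoc, ← hw]⟩ ε rfl hw.symm
  · change Etale w.left
    haveI := fun a => hkopen a
    refine etale_of_open_cover w.left (fun a => (Wa a).left) (fun a => (k a).left) hkcov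
      (fun a => ?_)
    have e : k a ≫ w = wa a := by
      apply (yon S).map_injective
      rw [Functor.map_comp, hw, ← Category.assoc, hk, hfa]
    have e' : (k a).left ≫ w.left = (wa a).left := congrArg CommaMorphism.left e
    rw [e']
    exact heta a

end H10PT.Desc
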