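import Groth.Agent.Lib.Helper10.BS2
import Groth.Agent.S9868
import Groth.Agent.S9869
import Groth.Agent.S10259
import Groth.Agent.S0083
import Groth.Agent.Lib.Helper16.EtChartSp
import Groth.Agent.Lib.Helper16.DiagProps
import Groth.Agent.Lib.Helper16.SpCoprod
import Groth.Agent.Lib.Helper10.EtQuotA

/-!
# Helper library (helper10): fppf bootstrap, part 3

The quotient `W = X / E'` of `X` (etale over `U`) by the etale part `E' = Stab(V) ∩ (X ×_U X)` of the
stabilizer is a scheme etale over `U` (via S9868, S9869 and S10259, over the base `U`).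
-/

set_option autoImplicit false
universe u
open CategoryTheory CategoryTheory.Limits AlgebraicGeometry Opposite

namespace H10PT.BS

open AlgSp Groth.Agent.Lib.Helper15 Groth.Agent.Lib.Helper16

section Quot

variable {U R X : Scheme.{u}} (s t : R ⟶ U) (g : X ⟶ U) (V : (pullback g s).Opens) (h : ER s t)
  (hc : IsClosed (badSet s t g V h))

/-- `g` as a morphism to the terminal object of `Over U` -/
noncomputable abbrev A0 : Over.mk g ⟶ Over.mk (𝟙 U) := Over.homMk g (Category.comp_id g)

theorem A0_eq {T : Over U} (a b : T ⟶ Over.mk g) : a ≫ A0 g = b ≫ A0 g := by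
  apply Over.OverMorphism.ext
  rw [Over.comp_left, Over.comp_left]
  show a.left ≫ g = b.left ≫ g
  exact (Over.w a).trans (Over.w b).symm

include h in
theorem exists_delta : ∃ δ : (pullback (A0 g) (A0 g)).left ⟶ RX s t g,
    δ ≫ pa s t g = (pullback.fst (A0 g) (A0 g)).left ∧
    δ ≫ pb s t g = (pullback.snd (A0 g) (A0 g)).left := by
  apply RX_lift
  have e : (pullback.snd (A0 g) (A0 g)).left ≫ g = (pullback.fst (A0 g) (A0 g)).left ≫ g :=
    (Over.w (pullback.snd (A0 g) (A0 g))).trans (Over.w (pullback.fst (A0 g) (A0 g))).symm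
  rw [e]
  exact h.rel_refl _

noncomputable def delta : (pullback (A0 g) (A0 g)).left ⟶ RX s t g := (exists_delta s t g h).choose

@[reassoc]
theorem delta_pa : delta s t g h ≫ pa s t g = (pullback.fst (A0 g) (A0 g)).left :=
  (exists_delta s t g h).choose_spec.1

@[reassoc]
theorem delta_pb : delta s t g h ≫ pb s t g = (pullback.snd (A0 g) (A0 g)).left :=
  (exists_delta s t g h).choose_spec.2

/-- the etale part of the stabilizer, as an open of `X ×_U X` -/
noncomputable def OmE : (pullback (A0 g) (A0 g)).left.Opens := delta s t g h ⁻¹ᵁ stab s t g V h hc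

noncomputable abbrev EU : Over U := Over.mk ((OmE s t g V h hc).ι ≫ (pullback (A0 g) (A0 g)).hom)

noncomputable abbrev jE : EU s t g V h hc ⟶ pullback (A0 g) (A0 g) := Over.homMk (OmE s t g V h hc).ι rfl

noncomputable abbrev tE : EU s t g V h hc ⟶ Over.mk g := jE s t g V h hc ≫ pullback.fst (A0 g) (A0 g)

noncomputable abbrev sE : EU s t g V h hc ⟶ Over.mk g := jE s t g V h hc ≫ pullback.snd (A0 g) (A0 g)

theorem E_rel_iff {T : Over U} (a b : T ⟶ Over.mk g) :
    (∃ r : T ⟶ EU s t g V h hc, r ≫ tE s t g V h hc = a ∧ r ≫ sE s t g V h hc = b) ↔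
      StabRel s t g V a.left b.left := by
  constructor
  · rintro ⟨r, rfl, rfl⟩
    have := (not_mem_badSet_iff s t g V h (r.left ≫ (OmE s t g V h hc).ι ≫ delta s t g h)).1
      (fun x => by
        rw [Scheme.Hom.comp_apply, Scheme.Hom.comp_apply]
        exact (r.left x).2)
    simp only [Category.assoc, delta_pa, delta_pb] at this
    exact this
  · intro hst
    have hcx := (not_mem_badSet_iff s t g V h
      ((pullback.lift a b (A0_eq g a b)).left ≫ delta s t g h)).2 (by
        rw [Category.assoc, Category.assoc, delta_pa, delta_pb, ← Over.comp_left, ← Over.comp_left,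
          pullback.lift_fst, pullback.lift_snd]
        exact hst)
    have hr : Set.range (pullback.lift a b (A0_eq g a b)).left ⊆ Set.range (OmE s t g V h hc).ι := by
      rintro _ ⟨x, rfl⟩
      rw [Scheme.Opens.range_ι]
      have := hcx x
      rw [Scheme.Hom.comp_apply] at this
      exact this
    have hfac : IsOpenImmersion.lift (OmE s t g V h hc).ι (pullback.lift a b (A0_eq g a b)).left hr ≫
        (OmE s t g V h hc).ι = (pullback.lift a b (A0_eq g a b)).left := IsOpenImmersion.lift_fac _ _ _
    obtain ⟨r, hrj⟩ : ∃ r : T ⟶ EU s t g V h hc, r ≫ jE s t g V h hc =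
        pullback.lift a b (A0_eq g a b) := by
      refine ⟨Over.homMk (IsOpenImmersion.lift (OmE s t g V h hc).ι
        (pullback.lift a b (A0_eq g a b)).left hr) ?_, ?_⟩
      · show _ ≫ (OmE s t g V h hc).ι ≫ (pullback (A0 g) (A0 g)).hom = T.hom
        rw [← Category.assoc, hfac]
        exact Over.w _
      · apply Over.OverMorphism.ext
        exact hfac
    refine ⟨r, ?_, ?_⟩
    · rw [← Category.assoc, hrj, pullback.lift_fst]
    · rw [← Category.assoc, hrj, pullback.lift_snd]

theorem isEtaleEqvRel_E [Etale g] : IsEtaleEqvRel (sE s t g V h hc) (tE s t g V h hc) where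
  injective T r r' h1 h2 := by
    have e : r ≫ jE s t g V h hc = r' ≫ jE s t g V h hc := by
      apply pullback.hom_ext
      · simpa only [Category.assoc] using h1
      · simpa only [Category.assoc] using h2
    apply Over.OverMorphism.ext
    rw [← cancel_mono (OmE s t g V h hc).ι]
    exact congrArg (·.left) e
  equivalence T := by
    have key := fun a b => E_rel_iff s t g V h hc (T := T) a b
    refine ⟨fun a => (key a a).2 (StabRel.refl h _), fun {a b} hab => (key b a).2 ((key a b).1 hab).symm,
      fun {a b c} hab hbc => (key a c).2 (((key a b).1 hab).trans h ((key b c).1 hbc) ?_)⟩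
    rw [show a.left ≫ g = b.left ≫ g from (Over.w a).trans (Over.w b).symm]
    exact h.rel_refl _
  etale_left := by
    have : Etale (pullback.snd (A0 g) (A0 g)).left :=
      MorphismProperty.of_isPullback (P := @Etale)
        ((IsPullback.of_hasPullback (A0 g) (A0 g)).map (Over.forget U)) ‹Etale g›
    show Etale ((OmE s t g V h hc).ι ≫ (pullback.snd (A0 g) (A0 g)).left)
    infer_instance
  etale_right := by
    have : Etale (pullback.fst (A0 g) (A0 g)).left :=
      MorphismProperty.of_isPullback (P := @Etale)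
        ((IsPullback.of_hasPullback (A0 g) (A0 g)).map (Over.forget U)).flip ‹Etale g›
    show Etale ((OmE s t g V h hc).ι ≫ (pullback.fst (A0 g) (A0 g)).left)
    infer_instance

theorem isClosedImmersion_jE (hb : IsOpen (badSet s t g V h)) :
    IsClosedImmersion (jE s t g V h hc).left := by
  show IsClosedImmersion (OmE s t g V h hc).ι
  apply IsClosedImmersion.of_isPreimmersion
  rw [Scheme.Opens.range_ι]
  exact hb.isClosed_compl.preimage (delta s t g h).continuous

end Quot

section Main

variable {U R X : Scheme.{u}} (s t : R ⟶ U) (g : X ⟶ U) (V : (pullback g s).Opens) (h : ER s t)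
  (hc : IsClosed (badSet s t g V h))

include hc in
set_option maxHeartbeats 1600000 in
theorem exists_etale_quotient [Etale g] (hb : IsOpen (badSet s t g V h)) :
    ∃ (W₀ : Scheme.{u}) (ϖ : X ⟶ W₀) (gW : W₀ ⟶ U), g = ϖ ≫ gW ∧ Etale ϖ ∧ Surjective ϖ ∧ Etale gW ∧
      ∀ ⦃T : Scheme.{u}⦄ (a b : T ⟶ X), a ≫ ϖ = b ≫ ϖ ↔ (a ≫ g = b ≫ g ∧ StabRel s t g V a b) := by
  have hEt := isEtaleEqvRel_E s t g V h hc
  have hW := Groth.Agent.S9868.result U (sE s t g V h hc) (tE s t g V h hc) hEt
  have hPres := Groth.Agent.S9869.result U (sE s t g V h hc) (tE s t g V h hc) hEt hW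
  obtain ⟨W, hWdef⟩ : ∃ W : Sp U, W = QuotSh.quot Scheme.fppfPrecoverage (sE s t g V h hc)
    (tE s t g V h hc) := ⟨_, rfl⟩
  obtain ⟨p, hpdef⟩ : ∃ p : (yon U).obj (Over.mk g) ⟶
      QuotSh.quot Scheme.fppfPrecoverage (sE s t g V h hc) (tE s t g V h hc),
      p = (QuotSh.repIsoUliftYoneda Scheme.fppfPrecoverage (Over.mk g)).inv ≫
        QuotSh.quotπ Scheme.fppfPrecoverage (sE s t g V h hc) (tE s t g V h hc) := ⟨_, rfl⟩
  rw [← hpdef] at hPres
  rw [← hWdef] at hW
  subst hWdef
  have hpe := hPres.etale
  have hps := hPres.surjective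
  have hpb := hPres.isPullback
  -- the map to the terminal object
  obtain ⟨f, -⟩ : ∃ f : QuotSh.quot Scheme.fppfPrecoverage (sE s t g V h hc) (tE s t g V h hc) ⟶
      (yon U).obj (Over.mk (𝟙 U)), f = f := ⟨(SpCoprod.isTerminalOne U).from _, rfl⟩
  have hterm : ∀ {F : Sp U} (a b : F ⟶ (yon U).obj (Over.mk (𝟙 U))), a = b :=
    fun a b => (SpCoprod.isTerminalOne U).hom_ext a b
  -- locally quasi-finite
  have hqf : LocP (@LocallyQuasiFinite ⊓ @LocallyOfFiniteType) f := by
    intro A B a b m ha hbb _
    obtain ⟨b₀, rfl⟩ := (yon U).map_surjective b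
    have hb₀ : Etale b₀.left := (repWith_yon_map_iff _ _).1 hbb
    have hB : Etale B.hom := by
      have e : b₀.left = B.hom := by
        have := Over.w b₀
        simpa using this
      rw [← e]; exact hb₀
    obtain ⟨A', e, u₀, sq⟩ := hpe.rep a
    obtain ⟨u, rfl⟩ := (yon U).map_surjective u₀
    have hee : Etale e.left := hpe.property _ _ _ sq
    have hes : Surjective e.left := hps.property _ _ _ sq
    have hue : Etale u.left := ha.property _ _ _ sq.flip
    have hA : Etale A.hom := by
      refine etLocalST_etale.ofCover' e.left A.hom hee hes ?_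
      have e1 : e.left ≫ A.hom = u.left ≫ g := (Over.w e).trans (Over.w u).symm
      rw [e1]
      infer_instance
    have hm : Etale (m.left ≫ B.hom) := by
      rw [Over.w m]; exact hA
    have : Etale m.left := Etale.of_comp m.left B.hom
    exact etLocalST_locallyQuasiFinite.etale_le _ _ _ this
  -- separated
  have hsep : IsSeparatedMor f := by
    have sqY := (IsPullback.of_hasPullback (A0 g) (A0 g)).map (yon U)
    obtain ⟨q', hq'1, hq'2⟩ : ∃ q' : (yon U).obj (pullback (A0 g) (A0 g)) ⟶ pullback f f,
        q' ≫ pullback.fst f f = (yon U).map (pullback.fst (A0 g) (A0 g)) ≫ p ∧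
        q' ≫ pullback.snd f f = (yon U).map (pullback.snd (A0 g) (A0 g)) ≫ p :=
      ⟨pullback.lift _ _ (hterm _ _), pullback.lift_fst _ _ _, pullback.lift_snd _ _ _⟩
    have hpf : (yon U).map (A0 g) = p ≫ f := hterm _ _
    have hq'eq : q' = sqY.isoPullback.hom ≫ pullback.map ((yon U).map (A0 g)) ((yon U).map (A0 g)) f f
        p p (𝟙 _) (by rw [Category.comp_id, hpf]) (by rw [Category.comp_id, hpf]) := by
      apply pullback.hom_ext
      · rw [hq'1, Category.assoc, pullback.lift_fst, ← Category.assoc, sqY.isoPullback_hom_fst]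
      · rw [hq'2, Category.assoc, pullback.lift_snd, ← Category.assoc, sqY.isoPullback_hom_snd]
    have hq'e : RepWith @Etale q' := by
      rw [hq'eq]
      exact MorphismProperty.RespectsIso.precomp _ _ _
        (MorphismProperty.pullbackMap hpe hpe hpf hpf)
    have hq's : RepWith @Surjective q' := by
      rw [hq'eq]
      exact MorphismProperty.RespectsIso.precomp _ _ _
        (MorphismProperty.pullbackMap hps hps hpf hpf)
    have sq₀ := EtChart.isPullback_diag_of_isPullback' p p ((yon U).map (tE s t g V h hc))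
      ((yon U).map (sE s t g V h hc)) hpb (A0 g) (A0 g) ((yon U).map (jE s t g V h hc))
      (by rw [← Functor.map_comp]) (by rw [← Functor.map_comp])
    rw [← hq'1, ← hq'2] at sq₀
    have sqD := isPullback_diagonal_of_diag f q' _ (jE s t g V h hc) sq₀
    have hrep : Representable (pullback.diagonal f) :=
      (repWith_diagonal_of_repWith_diag (Q := ⊤) f
        ⟨hW.diag, fun _ _ _ _ _ _ => MorphismProperty.top_apply _⟩).rep
    haveI := Groth.Agent.S0083.result.{u}
    exact repWith_of_chart_of_descends (pullback.diagonal f) hrep q' hq'e hq's _ _ sqD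
      @IsClosedImmersion (isClosedImmersion_jE s t g V h hc hb)
  -- representability
  have hrepW := Groth.Agent.S10259.result (Over.mk (𝟙 U)) ⟨_, hW⟩
    (ObjectProperty.homMk f) hqf hsep
  obtain ⟨W₀, ⟨e⟩⟩ := SchLocus.exists_iso_yon_of_isRepresentable hrepW
  obtain ⟨ϖ, hϖ⟩ := (yon U).map_surjective (p ≫ e.inv)
  have hp_eq : p = (yon U).map ϖ ≫ e.hom := by rw [hϖ, Category.assoc, Iso.inv_hom_id, Category.comp_id]
  have hϖe : Etale ϖ.left := by
    apply (repWith_yon_map_iff @Etale ϖ).1
    rw [hϖ]
    exact MorphismProperty.RespectsIso.postcomp _ _ _ hpe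
  have hϖs : Surjective ϖ.left := by
    apply (repWith_yon_map_iff @Surjective ϖ).1
    rw [hϖ]
    exact MorphismProperty.RespectsIso.postcomp _ _ _ hps
  have hpbϖ : IsPullback ((yon U).map (tE s t g V h hc)) ((yon U).map (sE s t g V h hc))
      ((yon U).map ϖ) ((yon U).map ϖ) := by
    rw [hp_eq] at hpb
    exact Groth.Agent.Lib.Helper15.isPullback_of_comp_mono e.hom hpb
  have hker : ∀ {T : Over U} (a b : T ⟶ Over.mk g), a ≫ ϖ = b ≫ ϖ ↔ StabRel s t g V a.left b.left := by
    intro T a b
    rw [← E_rel_iff s t g V h hc a b]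
    constructor
    · intro hab
      have hab' : (yon U).map a ≫ (yon U).map ϖ = (yon U).map b ≫ (yon U).map ϖ := by
        rw [← Functor.map_comp, ← Functor.map_comp, hab]
      obtain ⟨r, hr⟩ := (yon U).map_surjective (hpbϖ.lift _ _ hab')
      refine ⟨r, (yon U).map_injective ?_, (yon U).map_injective ?_⟩
      · rw [Functor.map_comp, hr, hpbϖ.lift_fst]
      · rw [Functor.map_comp, hr, hpbϖ.lift_snd]
    · rintro ⟨r, rfl, rfl⟩
      apply (yon U).map_injective
      have := congrArg (fun k => (yon U).map r ≫ k) hpbϖ.w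
      simpa only [Functor.map_comp, Category.assoc] using this
  have hgW : g = ϖ.left ≫ W₀.hom := (Over.w ϖ).symm
  have hgWe : Etale W₀.hom := by
    refine etLocalST_etale.ofCover' ϖ.left W₀.hom hϖe hϖs ?_
    rw [← hgW]; infer_instance
  refine ⟨W₀.left, ϖ.left, W₀.hom, hgW, hϖe, hϖs, hgWe, ?_⟩
  intro T a b
  constructor
  · intro hab
    have hg : a ≫ g = b ≫ g := by
      rw [hgW, ← Category.assoc, hab, Category.assoc]
    refine ⟨hg, ?_⟩
    have := (hker (T := Over.mk (a ≫ g)) (Over.homMk a rfl) (Over.homMk b hg.symm)).1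
      (Over.OverMorphism.ext hab)
    exact this
  · rintro ⟨hg, hst⟩
    have := (hker (T := Over.mk (a ≫ g)) (Over.homMk a rfl) (Over.homMk b hg.symm)).2 hst
    exact congrArg (·.left) this

end Main

end H10PT.BS
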