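import Groth.Agent.Lib.Helper10.BS3
import Groth.Agent.S0408
import Groth.Agent.S1881
import Groth.Agent.S0084
import Groth.Agent.Lib.Helper14.EqvSlice.Grpd

/-!
# Helper library (helper10): fppf bootstrap, part 4

Descent of the clopen `V` to the etale quotient `W`, and the local chart theorem (Theorem A): around
every point of `U` there is an affine scheme `X₀` etale over `U` such that the restriction of `R` to
`X₀` contains an open sub-equivalence relation which is finite over `X₀`.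
-/

set_option autoImplicit false
universe u
open CategoryTheory CategoryTheory.Limits AlgebraicGeometry Opposite

namespace H10PT.BS

section General

variable {U R X : Scheme.{u}} (s t : R ⟶ U) (g : X ⟶ U) (h : ER s t)

theorem eps_zmap' {X' : Scheme.{u}} (j : X' ⟶ X) :
    eps s t (j ≫ g) h ≫ zmap s g j = j ≫ eps s t g h := by
  apply Z_ext s t g h
  · rw [Category.assoc, zmap_fst, eps_fst_assoc, Category.assoc, eps_fst, Category.comp_id]
  · rw [Category.assoc, zmap_snd_assoc, eps_snd, Category.assoc, eps_snd]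

theorem ER.nonempty_eqvData {S U R : Scheme.{u}} {s t : R ⟶ U} (h : ER s t) (pU : U ⟶ S)
    (w : s ≫ pU = t ≫ pU) : Nonempty (Groth.Agent.Lib.Helper14.EqvSlice.EqvData pU s t) := by
  obtain ⟨e, he1, he2⟩ := h.refl (𝟙 U)
  obtain ⟨i, hi1, hi2⟩ := h.symm (𝟙 R)
  rw [Category.id_comp] at hi1 hi2
  obtain ⟨c, hc1, hc2⟩ := h.trans (pullback.fst s t) (pullback.snd s t) pullback.condition
  exact ⟨{ w := w, e := e, e_s := he2, e_t := he1, i := i, i_s := hi2, i_t := hi1, c := c,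
           c_s := hc2, c_t := hc1, ext := fun a b h1 h2 => h.inj a b h1 h2 }⟩

end General

section Descend

variable {U R X W₀ : Scheme.{u}} (s t : R ⟶ U) (gW : W₀ ⟶ U) (ϖ : X ⟶ W₀) (h : ER s t)
  (V : (pullback (ϖ ≫ gW) s).Opens)

theorem zmap_etale [Etale ϖ] : Etale (zmap s gW ϖ) :=
  MorphismProperty.of_isPullback (P := @Etale) (zmap_isPullback s gW ϖ) inferInstance

theorem zmap_surjective [Surjective ϖ] : Surjective (zmap s gW ϖ) :=
  MorphismProperty.of_isPullback (P := @Surjective) (zmap_isPullback s gW ϖ) inferInstance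

/-- saturation of `V` with respect to `Z_g ⟶ Z_{gW}` -/
theorem sat_of_ker
    (hker : ∀ ⦃T : Scheme.{u}⦄ (a b : T ⟶ X), a ≫ ϖ = b ≫ ϖ → StabRel s t (ϖ ≫ gW) V a b)
    (z z' : ↥(pullback (ϖ ≫ gW) s)) (hzz : zmap s gW ϖ z = zmap s gW ϖ z') : z ∈ V ↔ z' ∈ V := by
  obtain ⟨w, hw1, hw2⟩ := Scheme.Pullback.exists_preimage_pullback (f := zmap s gW ϖ)
    (g := zmap s gW ϖ) z z' hzz
  have hcond := pullback.condition (f := zmap s gW ϖ) (g := zmap s gW ϖ)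
  have hab : (pullback.fst (zmap s gW ϖ) (zmap s gW ϖ) ≫ pullback.fst (ϖ ≫ gW) s) ≫ ϖ =
      (pullback.snd (zmap s gW ϖ) (zmap s gW ϖ) ≫ pullback.fst (ϖ ≫ gW) s) ≫ ϖ := by
    have e := congrArg (· ≫ pullback.fst gW s) hcond
    simp only [Category.assoc, zmap_fst] at e
    simpa only [Category.assoc] using e
  have h3 : pullback.fst (zmap s gW ϖ) (zmap s gW ϖ) ≫ pullback.snd (ϖ ≫ gW) s ≫ t =
      pullback.snd (zmap s gW ϖ) (zmap s gW ϖ) ≫ pullback.snd (ϖ ≫ gW) s ≫ t := by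
    have e := congrArg (· ≫ pullback.snd gW s ≫ t) hcond
    simpa only [Category.assoc, zmap_snd_assoc] using e
  have := hker _ _ hab (𝟙 _) (pullback.fst _ _) (pullback.snd _ _) (Category.id_comp _).symm
    (Category.id_comp _).symm h3 w
  rw [hw1, hw2] at this
  exact this

/-- the image of `V` in `Z_{gW}` -/
def VW [Etale ϖ] : (pullback gW s).Opens :=
  haveI := zmap_etale s gW ϖ
  ⟨zmap s gW ϖ '' (V : Set ↥(pullback (ϖ ≫ gW) s)), (zmap s gW ϖ).isOpenMap _ V.2⟩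

theorem mem_VW [Etale ϖ] (y : ↥(pullback gW s)) :
    y ∈ VW s gW ϖ V ↔ ∃ z, z ∈ V ∧ zmap s gW ϖ z = y := Iff.rfl

variable (hsat : ∀ z z' : ↥(pullback (ϖ ≫ gW) s), zmap s gW ϖ z = zmap s gW ϖ z' → (z ∈ V ↔ z' ∈ V))

include hsat in
theorem VW_preimage [Etale ϖ] : zmap s gW ϖ ⁻¹ᵁ VW s gW ϖ V = V := by
  refine SetLike.ext fun z => ⟨fun hz => ?_,
    fun hz => (show zmap s gW ϖ z ∈ VW s gW ϖ V from ⟨z, hz, rfl⟩)⟩
  obtain ⟨z', hz', hzz⟩ := (show zmap s gW ϖ z ∈ VW s gW ϖ V from hz)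
  exact (hsat z' z hzz).1 hz'

include hsat in
theorem VW_isClopen [Etale ϖ] [Surjective ϖ] (hV : IsClopen (V : Set ↥(pullback (ϖ ≫ gW) s))) :
    IsClopen (VW s gW ϖ V : Set ↥(pullback gW s)) := by
  haveI := zmap_etale s gW ϖ
  haveI := zmap_surjective s gW ϖ
  refine ⟨?_, (VW s gW ϖ V).2⟩
  have e : ((VW s gW ϖ V : Set ↥(pullback gW s)))ᶜ =
      zmap s gW ϖ '' ((V : Set ↥(pullback (ϖ ≫ gW) s))ᶜ) := by
    ext y
    obtain ⟨z, rfl⟩ := (zmap s gW ϖ).surjective y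
    constructor
    · intro hy
      exact ⟨z, fun hz => hy ⟨z, hz, rfl⟩, rfl⟩
    · rintro ⟨z', hz', hzz⟩ ⟨z'', hz'', hzz''⟩
      exact hz' ((hsat z'' z' (hzz''.trans hzz.symm)).1 hz'')
  rw [← isOpen_compl_iff, e]
  exact (zmap s gW ϖ).isOpenMap _ hV.1.isOpen_compl

theorem VW_isFinite [Etale ϖ] [Surjective ϖ] (hpre : zmap s gW ϖ ⁻¹ᵁ VW s gW ϖ V = V)
    [IsFinite (V.ι ≫ pullback.fst (ϖ ≫ gW) s)] :
    IsFinite ((VW s gW ϖ V).ι ≫ pullback.fst gW s) := by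
  have sq := (isPullback_morphismRestrict (zmap s gW ϖ) (VW s gW ϖ V)).paste_vert
    (zmap_isPullback s gW ϖ).flip
  have hfin : IsFinite ((zmap s gW ϖ ⁻¹ᵁ VW s gW ϖ V).ι ≫ pullback.fst (ϖ ≫ gW) s) := by
    rw [hpre]; infer_instance
  haveI := Groth.Agent.S0084.result.{u}
  exact MorphismProperty.of_isPullback_of_descendsAlong (P := @IsFinite)
    (Q := (@Surjective ⊓ @Flat ⊓ @LocallyOfFinitePresentation : MorphismProperty Scheme.{u}))
    sq.flip ⟨⟨inferInstance, inferInstance⟩, inferInstance⟩ hfin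

theorem VW_hε [Etale ϖ] [Surjective ϖ] (hε : ∀ x : X, eps s t (ϖ ≫ gW) h x ∈ V) (w : W₀) :
    eps s t gW h w ∈ VW s gW ϖ V := by
  obtain ⟨x, rfl⟩ := ϖ.surjective w
  refine ⟨eps s t (ϖ ≫ gW) h x, hε x, ?_⟩
  rw [← Scheme.Hom.comp_apply, eps_zmap', Scheme.Hom.comp_apply]

include h in
theorem VW_trivE [Etale ϖ] [Surjective ϖ] (hpre : zmap s gW ϖ ⁻¹ᵁ VW s gW ϖ V = V)
    (hker : ∀ ⦃T : Scheme.{u}⦄ (a b : T ⟶ X), a ≫ ϖ ≫ gW = b ≫ ϖ ≫ gW →
      StabRel s t (ϖ ≫ gW) V a b → a ≫ ϖ = b ≫ ϖ) :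
    TrivE s t gW (VW s gW ϖ V) := by
  intro T b b' hbb hst
  -- lift both to `X` etale locally
  let q₁ := pullback.fst b ϖ
  let a₁ := pullback.snd b ϖ
  let q₂ := pullback.fst (q₁ ≫ b') ϖ
  let a₂ := pullback.snd (q₁ ≫ b') ϖ
  have hq : Epi (q₂ ≫ q₁) := by
    haveI : Flat (q₂ ≫ q₁) := inferInstance
    haveI : Surjective (q₂ ≫ q₁) := inferInstance
    exact Flat.epi_of_flat_of_surjective _
  have e1 : (q₂ ≫ a₁) ≫ ϖ = (q₂ ≫ q₁) ≫ b := by
    rw [Category.assoc, Category.assoc, ← pullback.condition]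
  have e2 : a₂ ≫ ϖ = (q₂ ≫ q₁) ≫ b' := by
    rw [Category.assoc]; exact pullback.condition.symm
  have hst' : StabRel s t (ϖ ≫ gW) V (q₂ ≫ a₁) a₂ := by
    have := (stabRel_zmap_iff h ϖ (VW s gW ϖ V) (q₂ ≫ a₁) a₂).2 (by
      rw [e1, e2]; exact hst.precomp _)
    rwa [hpre] at this
  have e3 : (q₂ ≫ a₁) ≫ ϖ ≫ gW = a₂ ≫ ϖ ≫ gW := by
    have h1 := congrArg (· ≫ gW) e1
    have h2 := congrArg (· ≫ gW) e2
    simp only [Category.assoc] at h1 h2 ⊢
    rw [h1, h2, hbb]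
  have := hker (q₂ ≫ a₁) a₂ e3 hst'
  rw [e1, e2] at this
  exact (cancel_epi _).1 this

theorem VW_special [Etale ϖ] (hpre : zmap s gW ϖ ⁻¹ᵁ VW s gW ϖ V = V) (x₁ : X)
    (hx₁ : ∀ z : ↥(pullback (ϖ ≫ gW) s), z ∈ V → pullback.fst (ϖ ≫ gW) s z = x₁ →
      z = eps s t (ϖ ≫ gW) h x₁)
    (y : ↥(pullback gW s)) (hy : y ∈ VW s gW ϖ V) (hy1 : pullback.fst gW s y = ϖ x₁) :
    y = eps s t gW h (ϖ x₁) := by
  obtain ⟨z, hz1, hz2⟩ := Scheme.exists_preimage_of_isPullback (zmap_isPullback s gW ϖ) x₁ y hy1.symm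
  have hzV : z ∈ V := by
    rw [← hpre]
    show zmap s gW ϖ z ∈ VW s gW ϖ V
    rw [hz2]; exact hy
  rw [← hz2, hx₁ z hzV hz1, ← Scheme.Hom.comp_apply, eps_zmap', Scheme.Hom.comp_apply]

end Descend

end H10PT.BS
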