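import Groth.Agent.Lib.Helper10.BS4

/-!
# Helper library (helper10): fppf bootstrap, part 5 (Theorem A: local charts)
-/

set_option autoImplicit false
universe u
open CategoryTheory CategoryTheory.Limits AlgebraicGeometry Opposite

namespace H10PT.BS

section TheoremA

variable {U R : Scheme.{u}} (s t : R ⟶ U) (h : ER s t)

set_option maxHeartbeats 1600000 in
theorem exists_chart1 [Flat s] [LocallyOfFinitePresentation s] [LocallyQuasiFinite s] [IsSeparated s]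
    (u : U) :
    ∃ (X : Scheme.{u}) (g : X ⟶ U) (V : (pullback g s).Opens) (x₁ : X), Etale g ∧ g x₁ = u ∧
      IsClopen (V : Set ↥(pullback g s)) ∧ IsFinite (V.ι ≫ pullback.fst g s) ∧
      (∀ x : X, eps s t g h x ∈ V) ∧
      (∀ z : ↥(pullback g s), z ∈ V → pullback.fst g s z = x₁ → z = eps s t g h x₁) := by
  obtain ⟨e, he1, he2⟩ := h.refl (𝟙 U)
  haveI : LocallyOfFiniteType s := inferInstance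
  obtain ⟨U₁, g₁, u₁, hg₁, hgu, -, V₁, v, hV₁, hfin₁, hvV, hv1, hv2, -, huniq⟩ :=
    Groth.Agent.S0408.result s (e u) (s.quasiFiniteAt (e u))
  haveI := hg₁
  have hgu' : g₁ u₁ = u := by
    rw [hgu, ← Scheme.Hom.comp_apply, he2]; rfl
  obtain ⟨σ, hσ1, hσ2, hσiso⟩ : ∃ σ : pullback g₁ s ⟶ pullback s g₁,
      σ ≫ pullback.fst s g₁ = pullback.snd g₁ s ∧ σ ≫ pullback.snd s g₁ = pullback.fst g₁ s ∧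
      IsIso σ :=
    ⟨(pullbackSymmetry g₁ s).hom, pullbackSymmetry_hom_comp_fst _ _, pullbackSymmetry_hom_comp_snd _ _,
      inferInstance⟩
  obtain ⟨V₁', hV'mem, hV₁', hfin₁'⟩ : ∃ V₁' : (pullback g₁ s).Opens, (∀ z, z ∈ V₁' ↔ σ z ∈ V₁) ∧
      IsClopen (V₁' : Set ↥(pullback g₁ s)) ∧ IsFinite (V₁'.ι ≫ pullback.fst g₁ s) := by
    refine ⟨σ ⁻¹ᵁ V₁, fun z => Iff.rfl, hV₁.preimage σ.continuous, ?_⟩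
    have e1 : (σ ⁻¹ᵁ V₁).ι ≫ pullback.fst g₁ s = (σ ∣_ V₁) ≫ V₁.ι ≫ pullback.snd s g₁ := by
      rw [← hσ2, ← Category.assoc, ← Category.assoc, morphismRestrict_ι]
    rw [e1]
    haveI := hfin₁
    infer_instance
  -- the identity section lands in `V₁'` at `u₁`
  have hεe : eps s t g₁ h ≫ pullback.snd g₁ s = g₁ ≫ e := by
    apply h.inj
    · rw [Category.assoc, eps_snd, Category.assoc, he1, Category.comp_id]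
    · rw [Category.assoc, ← pullback.condition, eps_fst_assoc, Category.assoc, he2, Category.comp_id]
  have hσε : σ (eps s t g₁ h u₁) = v := by
    apply huniq
    · rw [← Scheme.Hom.comp_apply, hσ2, ← Scheme.Hom.comp_apply, eps_fst]; rfl
    · right
      rw [← Scheme.Hom.comp_apply, hσ1, ← Scheme.Hom.comp_apply, hεe, Scheme.Hom.comp_apply, hgu']
  obtain ⟨𝒳, h𝒳mem⟩ : ∃ 𝒳 : U₁.Opens, ∀ x, x ∈ 𝒳 ↔ eps s t g₁ h x ∈ V₁' :=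
    ⟨eps s t g₁ h ⁻¹ᵁ V₁', fun x => Iff.rfl⟩
  have hu₁ : u₁ ∈ 𝒳 := by
    rw [h𝒳mem, hV'mem, hσε]; exact hvV
  have hεV : ∀ x : ↥𝒳.toScheme, zmap s g₁ 𝒳.ι (eps s t (𝒳.ι ≫ g₁) h x) ∈ V₁' := by
    intro x
    rw [← Scheme.Hom.comp_apply, eps_zmap', Scheme.Hom.comp_apply]
    exact (h𝒳mem _).1 x.2
  refine ⟨𝒳.toScheme, 𝒳.ι ≫ g₁, zmap s g₁ 𝒳.ι ⁻¹ᵁ V₁', ⟨u₁, hu₁⟩, inferInstance, ?_,
    hV₁'.preimage (zmap s g₁ 𝒳.ι).continuous, restrict_prop s g₁ 𝒳.ι @IsFinite V₁' hfin₁', hεV, ?_⟩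
  · rw [Scheme.Hom.comp_apply]; exact hgu'
  · intro z hz hz1
    have hz' : σ (zmap s g₁ 𝒳.ι z) ∈ V₁ := (hV'mem _).1 hz
    have e1 : pullback.snd s g₁ (σ (zmap s g₁ 𝒳.ι z)) = u₁ := by
      rw [← Scheme.Hom.comp_apply, hσ2, ← Scheme.Hom.comp_apply, zmap_fst, Scheme.Hom.comp_apply, hz1]
      rfl
    have e2 := huniq _ e1 (Or.inl hz')
    have e3 : σ (zmap s g₁ 𝒳.ι (eps s t (𝒳.ι ≫ g₁) h ⟨u₁, hu₁⟩)) = v := by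
      rw [← Scheme.Hom.comp_apply (eps s t (𝒳.ι ≫ g₁) h), eps_zmap', Scheme.Hom.comp_apply]
      exact hσε
    exact (zmap s g₁ 𝒳.ι).isOpenEmbedding.injective
      (σ.isOpenEmbedding.injective (e2.trans e3.symm))

set_option maxHeartbeats 3200000 in
theorem theoremA [Flat s] [LocallyOfFinitePresentation s] [Flat t] [LocallyOfFinitePresentation t]
    [LocallyQuasiFinite s] [IsSeparated s] (u : U) :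
    ∃ (X₀ : Scheme.{u}) (g₀ : X₀ ⟶ U) (V₀ : (pullback g₀ s).Opens)
      (hc₀ : IsClosed (badSet s t g₀ V₀ h)), IsAffine X₀ ∧ Etale g₀ ∧ u ∈ Set.range g₀ ∧
      IsFinite (tP s t g₀ V₀ h hc₀) ∧ IsFinite (sP s t g₀ V₀ h hc₀) := by
  obtain ⟨X, g, V, x₁, hg, hgx, hV, hfin, hε, hx₁⟩ := exists_chart1 s t h u
  haveI := hg
  haveI := hfin
  have hc := isClosed_badSet s t g V h hV
  have hb := isOpen_badSet s t g V h hV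
  obtain ⟨W₀, ϖ, gW, rfl, hϖe, hϖs, hgW, hker⟩ := exists_etale_quotient s t g V h hc hb
  haveI := hϖe
  haveI := hϖs
  haveI := hgW
  have hsat := sat_of_ker s t gW ϖ V (fun T a b hab => ((hker a b).1 hab).2)
  have hpre := VW_preimage s gW ϖ V hsat
  have hVW := VW_isClopen s gW ϖ V hsat hV
  haveI hfinW := VW_isFinite s gW ϖ V hpre
  have hεW := VW_hε s t gW ϖ h V hε
  have hTW := VW_trivE s t gW ϖ h V hpre (fun T a b hab hst => (hker a b).2 ⟨hab, hst⟩)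
  have hspW := VW_special s t gW ϖ h V hpre x₁ hx₁
  rw [Scheme.Hom.comp_apply] at hgx
  -- BS2 on `W`
  have hcW := isClosed_badSet s t gW (VW s gW ϖ V) h hVW
  haveI := phi_isOpenImmersion s t gW (VW s gW ϖ V) h hcW hTW
  obtain ⟨hw₁, hw₁s⟩ := special s t gW (VW s gW ϖ V) h hcW hεW (ϖ x₁) hspW
  have hW3 := isOpen_W3 s t gW (VW s gW ϖ V) h hcW hVW hεW
  obtain ⟨𝒲₃, h𝒲₃⟩ : ∃ 𝒲₃ : W₀.Opens, (𝒲₃ : Set W₀) = W3 s t gW (VW s gW ϖ V) h hcW :=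
    ⟨⟨_, hW3⟩, rfl⟩
  have hmem₃ : ∀ x : W₀, x ∈ 𝒲₃ ↔ x ∈ W3 s t gW (VW s gW ϖ V) h hcW := fun x => by
    rw [← h𝒲₃]; exact Iff.rfl
  have hV₃ : IsClopen ((zmap s gW 𝒲₃.ι ⁻¹ᵁ VW s gW ϖ V : (pullback (𝒲₃.ι ≫ gW) s).Opens) :
      Set ↥(pullback (𝒲₃.ι ≫ gW) s)) := hVW.preimage (zmap s gW 𝒲₃.ι).continuous
  haveI hfin₃ : IsFinite ((zmap s gW 𝒲₃.ι ⁻¹ᵁ VW s gW ϖ V).ι ≫ pullback.fst (𝒲₃.ι ≫ gW) s) :=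
    restrict_prop s gW 𝒲₃.ι @IsFinite _ hfinW
  have hc₃ := isClosed_badSet s t (𝒲₃.ι ≫ gW) (zmap s gW 𝒲₃.ι ⁻¹ᵁ VW s gW ϖ V) h hV₃
  obtain ⟨hft₃, hfs₃⟩ := isFinite_restrict s t gW (VW s gW ϖ V) h hcW 𝒲₃ hc₃ hVW hεW hTW
    (fun x hx => ((hmem₃ x).1 hx).1)
    (fun p hp => (hmem₃ _).2 (W3_inv s t gW _ h hcW p ((hmem₃ _).1 hp)))
  have hER₃ := stabP_ER s t (𝒲₃.ι ≫ gW) (zmap s gW 𝒲₃.ι ⁻¹ᵁ VW s gW ϖ V) h hc₃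
  obtain ⟨D⟩ := hER₃.nonempty_eqvData (terminal.from _) (terminal.hom_ext _ _)
  -- the special point has trivial orbit
  have hw₁3 : ϖ x₁ ∈ 𝒲₃ := (hmem₃ _).2 hw₁
  obtain ⟨cm, hcm1, hcm2⟩ := exists_map_P0 s t gW (VW s gW ϖ V) h hcW 𝒲₃ hc₃
  have horb : ∀ p₃ : ↥(stab s t (𝒲₃.ι ≫ gW) (zmap s gW 𝒲₃.ι ⁻¹ᵁ VW s gW ϖ V) h hc₃).toScheme,
      sP s t (𝒲₃.ι ≫ gW) (zmap s gW 𝒲₃.ι ⁻¹ᵁ VW s gW ϖ V) h hc₃ p₃ = ⟨ϖ x₁, hw₁3⟩ →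
      tP s t (𝒲₃.ι ≫ gW) (zmap s gW 𝒲₃.ι ⁻¹ᵁ VW s gW ϖ V) h hc₃ p₃ = ⟨ϖ x₁, hw₁3⟩ := by
    intro p₃ hp₃
    obtain ⟨p', hp'1, hp'2⟩ := hER₃.pt_symm p₃
    have e1 : tP s t gW (VW s gW ϖ V) h hcW (cm p') = ϖ x₁ := by
      rw [← Scheme.Hom.comp_apply, hcm1, Scheme.Hom.comp_apply, hp'1, hp₃]; rfl
    have e2 := hw₁s (cm p') e1
    rw [← Scheme.Hom.comp_apply, hcm2, Scheme.Hom.comp_apply, hp'2] at e2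
    exact 𝒲₃.ι.isOpenEmbedding.injective e2
  -- affine invariant neighbourhood
  obtain ⟨A₀, hA₀, hwA₀, -⟩ := exists_isAffineOpen_mem_and_subset (X := 𝒲₃.toScheme)
    (x := ⟨ϖ x₁, hw₁3⟩) (U := ⊤) trivial
  haveI : Flat (sP s t (𝒲₃.ι ≫ gW) (zmap s gW 𝒲₃.ι ⁻¹ᵁ VW s gW ϖ V) h hc₃) := by
    rw [sP_def, pb_def]; infer_instance
  haveI : LocallyOfFinitePresentation
      (sP s t (𝒲₃.ι ≫ gW) (zmap s gW 𝒲₃.ι ⁻¹ᵁ VW s gW ϖ V) h hc₃) := by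
    rw [sP_def, pb_def]; infer_instance
  haveI : Flat (tP s t (𝒲₃.ι ≫ gW) (zmap s gW 𝒲₃.ι ⁻¹ᵁ VW s gW ϖ V) h hc₃) := by
    rw [tP_def, pa_def]; infer_instance
  haveI : LocallyOfFinitePresentation
      (tP s t (𝒲₃.ι ≫ gW) (zmap s gW 𝒲₃.ι ⁻¹ᵁ VW s gW ϖ V) h hc₃) := by
    rw [tP_def, pa_def]; infer_instance
  haveI : IsFinite D.toGrpd.s := hfs₃
  haveI : IsFinite D.toGrpd.t := hft₃
  haveI : Flat D.toGrpd.s :=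
    (inferInstance : Flat (sP s t (𝒲₃.ι ≫ gW) (zmap s gW 𝒲₃.ι ⁻¹ᵁ VW s gW ϖ V) h hc₃))
  haveI : Flat D.toGrpd.t :=
    (inferInstance : Flat (tP s t (𝒲₃.ι ≫ gW) (zmap s gW 𝒲₃.ι ⁻¹ᵁ VW s gW ϖ V) h hc₃))
  haveI : LocallyOfFinitePresentation D.toGrpd.s :=
    (inferInstance : LocallyOfFinitePresentation
      (sP s t (𝒲₃.ι ≫ gW) (zmap s gW 𝒲₃.ι ⁻¹ᵁ VW s gW ϖ V) h hc₃))
  haveI : LocallyOfFinitePresentation D.toGrpd.t :=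
    (inferInstance : LocallyOfFinitePresentation
      (tP s t (𝒲₃.ι ≫ gW) (zmap s gW 𝒲₃.ι ⁻¹ᵁ VW s gW ϖ V) h hc₃))
  obtain ⟨A, hA, hwA, hAinv⟩ := Groth.Agent.S1881.result (⊤_ Scheme.{u}) D.toGrpd
    (⟨ϖ x₁, hw₁3⟩ : ↥𝒲₃.toScheme) A₀ hA₀ (fun r hr => (horb r hr).symm ▸ hwA₀)
  obtain ⟨𝒲, h𝒲aff, hmem𝒲⟩ : ∃ 𝒲 : W₀.Opens, IsAffineOpen 𝒲 ∧
      ∀ x : W₀, x ∈ 𝒲 ↔ ∃ a : ↥𝒲₃.toScheme, a ∈ A ∧ 𝒲₃.ι a = x :=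
    ⟨𝒲₃.ι ''ᵁ A, hA.image_of_isOpenImmersion 𝒲₃.ι, fun x => Iff.rfl⟩
  have hV₀ : IsClopen ((zmap s gW 𝒲.ι ⁻¹ᵁ VW s gW ϖ V : (pullback (𝒲.ι ≫ gW) s).Opens) :
      Set ↥(pullback (𝒲.ι ≫ gW) s)) := hVW.preimage (zmap s gW 𝒲.ι).continuous
  haveI hfin₀ : IsFinite ((zmap s gW 𝒲.ι ⁻¹ᵁ VW s gW ϖ V).ι ≫ pullback.fst (𝒲.ι ≫ gW) s) :=
    restrict_prop s gW 𝒲.ι @IsFinite _ hfinW
  have hc₀ := isClosed_badSet s t (𝒲.ι ≫ gW) (zmap s gW 𝒲.ι ⁻¹ᵁ VW s gW ϖ V) h hV₀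
  have h𝒲3 : ∀ x : W₀, x ∈ 𝒲 → x ∈ 𝒲₃ := by
    intro x hx
    obtain ⟨a, -, rfl⟩ := (hmem𝒲 x).1 hx
    exact a.2
  obtain ⟨hft₀, hfs₀⟩ := isFinite_restrict s t gW (VW s gW ϖ V) h hcW 𝒲 hc₀ hVW hεW hTW
    (fun x hx => ((hmem₃ x).1 (h𝒲3 x hx)).1) (by
      intro p hp
      obtain ⟨a, haA, hap⟩ := (hmem𝒲 _).1 hp
      have htp3 : tP s t gW (VW s gW ϖ V) h hcW p ∈ 𝒲₃ := h𝒲3 _ hp
      have hsp3 : sP s t gW (VW s gW ϖ V) h hcW p ∈ 𝒲₃ :=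
        (hmem₃ _).2 (W3_inv s t gW _ h hcW p ((hmem₃ _).1 htp3))
      obtain ⟨c₀, hc01, hc02, -⟩ := exists_lift_P0 s t gW (VW s gW ϖ V) h hcW 𝒲₃ hc₃
        (tP s t gW (VW s gW ϖ V) h hcW ⁻¹ᵁ 𝒲₃ ⊓ sP s t gW (VW s gW ϖ V) h hcW ⁻¹ᵁ 𝒲₃).ι
        (fun x => by rw [Scheme.Hom.comp_apply]; exact x.2.1)
        (fun x => by rw [Scheme.Hom.comp_apply]; exact x.2.2)
      have e1 : (c₀ ≫ tP s t (𝒲₃.ι ≫ gW) (zmap s gW 𝒲₃.ι ⁻¹ᵁ VW s gW ϖ V) h hc₃ ≫ 𝒲₃.ι)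
          ⟨p, htp3, hsp3⟩ =
          ((tP s t gW (VW s gW ϖ V) h hcW ⁻¹ᵁ 𝒲₃ ⊓ sP s t gW (VW s gW ϖ V) h hcW ⁻¹ᵁ 𝒲₃).ι ≫
            tP s t gW (VW s gW ϖ V) h hcW) ⟨p, htp3, hsp3⟩ := by rw [hc01]
      have e2 : (c₀ ≫ sP s t (𝒲₃.ι ≫ gW) (zmap s gW 𝒲₃.ι ⁻¹ᵁ VW s gW ϖ V) h hc₃ ≫ 𝒲₃.ι)
          ⟨p, htp3, hsp3⟩ =
          ((tP s t gW (VW s gW ϖ V) h hcW ⁻¹ᵁ 𝒲₃ ⊓ sP s t gW (VW s gW ϖ V) h hcW ⁻¹ᵁ 𝒲₃).ι ≫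
            sP s t gW (VW s gW ϖ V) h hcW) ⟨p, htp3, hsp3⟩ := by rw [hc02]
      rw [Scheme.Hom.comp_apply, Scheme.Hom.comp_apply, Scheme.Hom.comp_apply] at e1 e2
      have e3 : tP s t (𝒲₃.ι ≫ gW) (zmap s gW 𝒲₃.ι ⁻¹ᵁ VW s gW ϖ V) h hc₃ (c₀ ⟨p, htp3, hsp3⟩) = a :=
        𝒲₃.ι.isOpenEmbedding.injective (e1.trans hap.symm)
      have hmemA : c₀ ⟨p, htp3, hsp3⟩ ∈ D.toGrpd.t ⁻¹ᵁ A := by
        show tP s t (𝒲₃.ι ≫ gW) (zmap s gW 𝒲₃.ι ⁻¹ᵁ VW s gW ϖ V) h hc₃ (c₀ ⟨p, htp3, hsp3⟩) ∈ A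
        rw [e3]; exact haA
      rw [← hAinv] at hmemA
      exact (hmem𝒲 _).2 ⟨_, hmemA, e2⟩)
  have hw𝒲 : ϖ x₁ ∈ 𝒲 := (hmem𝒲 _).2 ⟨⟨ϖ x₁, hw₁3⟩, hwA, rfl⟩
  refine ⟨𝒲.toScheme, 𝒲.ι ≫ gW, _, hc₀, h𝒲aff, inferInstance, ⟨⟨ϖ x₁, hw𝒲⟩, ?_⟩, hft₀, hfs₀⟩
  rw [Scheme.Hom.comp_apply]
  exact hgx

end TheoremA

end H10PT.BS
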