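import Groth.Agent.Lib.Helper10.BS1

/-!
# Helper library (helper10): fppf bootstrap, part 6

The restricted relation `RX` is an equivalence relation; double restriction; separatedness over an affine base.
-/

set_option autoImplicit false
universe u
open CategoryTheory CategoryTheory.Limits AlgebraicGeometry

namespace H10PT.BS

section

variable {U R X : Scheme.{u}} (s t : R ⟶ U) (g : X ⟶ U)

theorem RX_ER (h : ER s t) : ER (pb s t g) (pa s t g) where
  inj r r' h1 h2 := RX_ext s t g h r r' h1 h2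
  refl a := RX_lift a a (h.rel_refl _)
  symm r := by
    have e := (RX_rel0 s t g).precomp r
    exact RX_lift (s := s) (t := t) (g := g) (r ≫ pb s t g) (r ≫ pa s t g) (by
      simpa only [Category.assoc] using h.rel_symm e)
  trans r₁ r₂ h12 := by
    have e1 := (RX_rel0 s t g).precomp r₁
    have e2 := (RX_rel0 s t g).precomp r₂
    have e3 : r₂ ≫ pa s t g ≫ g = r₁ ≫ pb s t g ≫ g := by
      rw [← Category.assoc, ← h12, Category.assoc]
    rw [e3] at e2
    exact RX_lift (s := s) (t := t) (g := g) (r₁ ≫ pa s t g) (r₂ ≫ pb s t g) (by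
      simpa only [Category.assoc] using h.rel_trans e2 e1)

theorem RX_over {S : Scheme.{u}} (pU : U ⟶ S) (w : s ≫ pU = t ≫ pU) :
    pb s t g ≫ g ≫ pU = pa s t g ≫ g ≫ pU := by
  obtain ⟨r, h1, h2⟩ := RX_rel0 s t g
  rw [← Category.assoc, ← h1, ← Category.assoc, ← h2, Category.assoc, Category.assoc, w]

theorem pb_prop (P : MorphismProperty Scheme.{u}) [P.IsStableUnderBaseChange]
    [P.IsStableUnderComposition] (hg : P g) (ht : P t) : P (pb s t g) := by
  rw [pb_def]
  exact P.pullback_snd _ _ (P.comp_mem _ _ (P.pullback_snd _ _ hg) ht)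

theorem pa_prop (P : MorphismProperty Scheme.{u}) [P.IsStableUnderBaseChange]
    [P.IsStableUnderComposition] (hg : P g) (hs : P s) : P (pa s t g) := by
  rw [pa_def]
  exact P.comp_mem _ _ (P.pullback_fst _ _ hg) (P.pullback_fst _ _ hs)

variable {X₀ : Scheme.{u}} (g₀ : X₀ ⟶ X)

theorem DR_map : ∃ ρ : RX (pb s t g) (pa s t g) g₀ ⟶ R,
    ρ ≫ t = pa (pb s t g) (pa s t g) g₀ ≫ g₀ ≫ g ∧
    ρ ≫ s = pb (pb s t g) (pa s t g) g₀ ≫ g₀ ≫ g := by
  obtain ⟨ra, h1, h2⟩ := RX_rel0 (pb s t g) (pa s t g) g₀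
  obtain ⟨r, h3, h4⟩ := RX_rel0 s t g
  refine ⟨ra ≫ r, ?_, ?_⟩
  · rw [Category.assoc, h3, ← Category.assoc, h2, Category.assoc]
  · rw [Category.assoc, h4, ← Category.assoc, h1, Category.assoc]

theorem DR_lift (h : ER s t) {T : Scheme.{u}} (a b : T ⟶ X₀) (ρ : T ⟶ R)
    (h1 : ρ ≫ t = a ≫ g₀ ≫ g) (h2 : ρ ≫ s = b ≫ g₀ ≫ g) :
    ∃ c : T ⟶ RX (pb s t g) (pa s t g) g₀, c ≫ pa (pb s t g) (pa s t g) g₀ = a ∧
      c ≫ pb (pb s t g) (pa s t g) g₀ = b := by
  have hA := RX_ER s t g h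
  have e0 : Rel s t ((a ≫ g₀) ≫ g) ((b ≫ g₀) ≫ g) :=
    ⟨ρ, by rw [h1, Category.assoc], by rw [h2, Category.assoc]⟩
  obtain ⟨ca, hca1, hca2⟩ := RX_lift (s := s) (t := t) (g := g) (a ≫ g₀) (b ≫ g₀) (h.rel_symm e0)
  have e1 : Rel (pb s t g) (pa s t g) (a ≫ g₀) (b ≫ g₀) := ⟨ca, hca1, hca2⟩
  exact RX_lift (s := pb s t g) (t := pa s t g) (g := g₀) a b (hA.rel_symm e1)

end

theorem isSeparated_of_ER_affine {X R : Scheme.{u}} (s t : R ⟶ X) (h : ER s t) [IsAffine X] :
    IsSeparated s := by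
  have hj : Mono (pullback.lift t s (terminal.hom_ext _ _) :
      R ⟶ pullback (terminal.from X) (terminal.from X)) := by
    refine ⟨fun a b hab => h.inj a b ?_ ?_⟩
    · simpa only [Category.assoc, pullback.lift_fst] using congrArg (· ≫ pullback.fst _ _) hab
    · simpa only [Category.assoc, pullback.lift_snd] using congrArg (· ≫ pullback.snd _ _) hab
  have e : (pullback.lift t s (terminal.hom_ext _ _) :
      R ⟶ pullback (terminal.from X) (terminal.from X)) ≫ pullback.snd _ _ = s :=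
    pullback.lift_snd _ _ _
  rw [← e]
  infer_instance

end H10PT.BS
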