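import Groth.Agent.Lib.Helper2.TExact.WeakSerreEquiv

/-!
# Bounded dévissage: an exact functor inducing an equivalence on weak Serre subcategories and
bijections on all `Ext` groups between them induces an equivalence `D^b_P ≌ D^b_{P'}`.
-/

set_option autoImplicit false
universe w₁ w₂ v₁ v₂ u₁ u₂
open CategoryTheory CategoryTheory.Limits Pretriangulated

namespace H10BD

section Tri

variable {C : Type u₁} [Category.{v₁} C] [Preadditive C] [HasZeroObject C] [HasShift C ℤ]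
  [∀ n : ℤ, (shiftFunctor C n).Additive] [Pretriangulated C]
  {D : Type u₂} [Category.{v₂} D] [Preadditive D] [HasZeroObject D] [HasShift D ℤ]
  [∀ n : ℤ, (shiftFunctor D n).Additive] [Pretriangulated D]
  (F : C ⥤ D) [F.CommShift ℤ] [F.IsTriangulated] [F.Additive]

/-- `F` is bijective on `Hom(K, L)`. -/
def FF (K L : C) : Prop := Function.Bijective (fun φ : K ⟶ L => F.map φ)

omit [F.CommShift ℤ] [F.IsTriangulated] [F.Additive] [HasZeroObject C] [HasShift C ℤ]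
  [∀ n : ℤ, (shiftFunctor C n).Additive] [Pretriangulated C] [HasZeroObject D] [HasShift D ℤ]
  [∀ n : ℤ, (shiftFunctor D n).Additive] [Pretriangulated D] [Preadditive C] [Preadditive D] in
lemma FF_of_iso_left {K K' L : C} (e : K ≅ K') (h : FF F K L) : FF F K' L := by
  constructor
  · intro φ₁ φ₂ hφ
    have hφ' : F.map φ₁ = F.map φ₂ := hφ
    have : e.hom ≫ φ₁ = e.hom ≫ φ₂ := h.1 (by
      show F.map (e.hom ≫ φ₁) = F.map (e.hom ≫ φ₂)
      rw [F.map_comp, F.map_comp, hφ'])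
    exact (cancel_epi e.hom).1 this
  · intro ψ
    obtain ⟨φ, hφ⟩ := h.2 (F.map e.hom ≫ ψ)
    have hφ' : F.map φ = F.map e.hom ≫ ψ := hφ
    refine ⟨e.inv ≫ φ, ?_⟩
    show F.map (e.inv ≫ φ) = ψ
    rw [F.map_comp, hφ', ← F.map_comp_assoc, e.inv_hom_id, F.map_id, Category.id_comp]

omit [F.CommShift ℤ] [F.IsTriangulated] [F.Additive] [HasZeroObject C] [HasShift C ℤ]
  [∀ n : ℤ, (shiftFunctor C n).Additive] [Pretriangulated C] [HasZeroObject D] [HasShift D ℤ]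
  [∀ n : ℤ, (shiftFunctor D n).Additive] [Pretriangulated D] [Preadditive C] [Preadditive D] in
lemma FF_of_iso_right {K L L' : C} (e : L ≅ L') (h : FF F K L) : FF F K L' := by
  constructor
  · intro φ₁ φ₂ hφ
    have hφ' : F.map φ₁ = F.map φ₂ := hφ
    have : φ₁ ≫ e.inv = φ₂ ≫ e.inv := h.1 (by
      show F.map (φ₁ ≫ e.inv) = F.map (φ₂ ≫ e.inv)
      rw [F.map_comp, F.map_comp, hφ'])
    exact (cancel_mono e.inv).1 this
  · intro ψ
    obtain ⟨φ, hφ⟩ := h.2 (ψ ≫ F.map e.inv)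
    have hφ' : F.map φ = ψ ≫ F.map e.inv := hφ
    refine ⟨φ ≫ e.hom, ?_⟩
    show F.map (φ ≫ e.hom) = ψ
    rw [F.map_comp, hφ', Category.assoc, ← F.map_comp, e.inv_hom_id, F.map_id, Category.comp_id]

omit [F.IsTriangulated] [F.Additive] [HasZeroObject C] [Pretriangulated C] [HasZeroObject D]
  [Pretriangulated D] [∀ n : ℤ, (shiftFunctor C n).Additive]
  [∀ n : ℤ, (shiftFunctor D n).Additive] in
lemma FF_shift {K L : C} (m : ℤ) (h : FF F K L) : FF F (K⟦m⟧) (L⟦m⟧) := by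
  have nat : ∀ g : K ⟶ L, F.map (g⟦m⟧') =
      (F.commShiftIso m).hom.app K ≫ (F.map g)⟦m⟧' ≫ (F.commShiftIso m).inv.app L := by
    intro g
    have h1 : F.map (g⟦m⟧') ≫ (F.commShiftIso m).hom.app L =
        (F.commShiftIso m).hom.app K ≫ (F.map g)⟦m⟧' :=
      (F.commShiftIso m).hom.naturality g
    rw [← Category.assoc, ← h1, Category.assoc, Iso.hom_inv_id_app]
    exact (Category.comp_id _).symm
  constructor
  · intro φ₁ φ₂ hφ
    have hφ' : F.map φ₁ = F.map φ₂ := hφ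
    obtain ⟨g₁, rfl⟩ := (shiftFunctor C m).map_surjective φ₁
    obtain ⟨g₂, rfl⟩ := (shiftFunctor C m).map_surjective φ₂
    rw [nat, nat] at hφ'
    have h2 : (F.map g₁)⟦m⟧' = (F.map g₂)⟦m⟧' :=
      (cancel_mono _).1 ((cancel_epi _).1 hφ')
    have h3 : F.map g₁ = F.map g₂ := (shiftFunctor D m).map_injective h2
    have h4 : g₁ = g₂ := h.1 h3
    rw [h4]
  · intro ψ
    obtain ⟨h', hh'⟩ := (shiftFunctor D m).map_surjective
      ((F.commShiftIso m).inv.app K ≫ ψ ≫ (F.commShiftIso m).hom.app L)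
    obtain ⟨g, hg⟩ := h.2 h'
    have hg' : F.map g = h' := hg
    refine ⟨g⟦m⟧', ?_⟩
    show F.map (g⟦m⟧') = ψ
    rw [nat, hg', hh']
    simp

omit [F.CommShift ℤ] [F.IsTriangulated] [HasShift C ℤ]
  [∀ n : ℤ, (shiftFunctor C n).Additive] [Pretriangulated C] [HasShift D ℤ]
  [∀ n : ℤ, (shiftFunctor D n).Additive] [Pretriangulated D] [HasZeroObject C]
  [HasZeroObject D] in
lemma FF_of_isZero_left {K L : C} (hK : IsZero K) : FF F K L := by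
  have hFK : IsZero (F.obj K) := F.map_isZero hK
  exact ⟨fun φ₁ φ₂ _ => hK.eq_of_src _ _, fun ψ => ⟨0, hFK.eq_of_src _ _⟩⟩

omit [F.CommShift ℤ] [F.IsTriangulated] [HasShift C ℤ]
  [∀ n : ℤ, (shiftFunctor C n).Additive] [Pretriangulated C] [HasShift D ℤ]
  [∀ n : ℤ, (shiftFunctor D n).Additive] [Pretriangulated D] [HasZeroObject C]
  [HasZeroObject D] in
lemma FF_of_isZero_right {K L : C} (hL : IsZero L) : FF F K L := by
  have hFL : IsZero (F.obj L) := F.map_isZero hL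
  exact ⟨fun φ₁ φ₂ _ => hL.eq_of_tgt _ _, fun ψ => ⟨0, hFL.eq_of_tgt _ _⟩⟩

lemma FF_obj₂_left (T : Triangle C) (hT : T ∈ distTriang C) (L : C)
    (h₁ : FF F T.obj₁ L) (h₃ : FF F T.obj₃ L) (h₁' : FF F (T.obj₁⟦(1 : ℤ)⟧) L)
    (h₃' : FF F (T.obj₃⟦(-1 : ℤ)⟧) L) : FF F T.obj₂ L := by
  have hFT := F.map_distinguished T hT
  have hTi := inv_rot_of_distTriang T hT
  obtain ⟨r, hr⟩ : ∃ r : T.obj₃⟦(-1 : ℤ)⟧ ⟶ T.obj₁, r = T.invRotate.mor₁ := ⟨_, rfl⟩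
  have hz : r ≫ T.mor₁ = 0 := by
    rw [hr]
    exact comp_distTriang_mor_zero₁₂ _ hTi
  have exF₂ : ∀ (x : F.obj T.obj₂ ⟶ F.obj L), F.map T.mor₁ ≫ x = 0 →
      ∃ y : F.obj T.obj₃ ⟶ F.obj L, x = F.map T.mor₂ ≫ y :=
    fun x hx => Triangle.yoneda_exact₂ _ hFT x hx
  have exF₃ : ∀ (x : F.obj T.obj₃ ⟶ F.obj L), F.map T.mor₂ ≫ x = 0 →
      ∃ y : (F.obj T.obj₁)⟦(1 : ℤ)⟧ ⟶ F.obj L,
        x = (F.map T.mor₃ ≫ (F.commShiftIso (1 : ℤ)).hom.app T.obj₁) ≫ y :=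
    fun x hx => Triangle.yoneda_exact₃ _ hFT x hx
  have exi : ∀ (x : T.obj₁ ⟶ L), r ≫ x = 0 → ∃ y : T.obj₂ ⟶ L, x = T.mor₁ ≫ y := by
    intro x hx
    rw [hr] at hx
    exact Triangle.yoneda_exact₂ _ hTi x hx
  constructor
  · intro f₁ f₂ hf
    have hf0 : F.map f₁ = F.map f₂ := hf
    have hf' : F.map (f₁ - f₂) = 0 := by rw [F.map_sub]; exact sub_eq_zero.2 hf0
    suffices H : f₁ - f₂ = 0 from sub_eq_zero.1 H
    obtain ⟨f, hfdef⟩ : ∃ f : T.obj₂ ⟶ L, f = f₁ - f₂ := ⟨_, rfl⟩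
    rw [← hfdef] at hf' ⊢
    have h1 : T.mor₁ ≫ f = 0 := h₁.1 (by
      show F.map (T.mor₁ ≫ f) = F.map 0
      rw [F.map_comp, hf', comp_zero, F.map_zero])
    obtain ⟨g, hg⟩ := Triangle.yoneda_exact₂ T hT f h1
    have h2 : F.map T.mor₂ ≫ F.map g = 0 := by
      rw [← F.map_comp, ← hg, hf']
    obtain ⟨k, hk⟩ := exF₃ (F.map g) h2
    obtain ⟨h, hh⟩ := h₁'.2 ((F.commShiftIso (1 : ℤ)).hom.app T.obj₁ ≫ k)
    have hh' : F.map h = (F.commShiftIso (1 : ℤ)).hom.app T.obj₁ ≫ k := hh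
    have h3 : g = T.mor₃ ≫ h := h₃.1 (by
      show F.map g = F.map (T.mor₃ ≫ h)
      rw [F.map_comp, hh', hk, Category.assoc])
    rw [hg, h3, ← Category.assoc, comp_distTriang_mor_zero₂₃ T hT, zero_comp]
  · intro f'
    obtain ⟨a, ha⟩ := h₁.2 (F.map T.mor₁ ≫ f')
    have ha' : F.map a = F.map T.mor₁ ≫ f' := ha
    have h1 : r ≫ a = 0 := h₃'.1 (by
      show F.map (r ≫ a) = F.map 0
      rw [F.map_comp, ha', ← Category.assoc, ← F.map_comp, hz, F.map_zero, zero_comp, F.map_zero])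
    obtain ⟨b, hb⟩ := exi a h1
    have h2 : F.map T.mor₁ ≫ (f' - F.map b) = 0 := by
      rw [Preadditive.comp_sub, ← ha', hb, F.map_comp, sub_self]
    obtain ⟨c', hc'⟩ := exF₂ (f' - F.map b) h2
    obtain ⟨c, hc⟩ := h₃.2 c'
    have hc'' : F.map c = c' := hc
    refine ⟨b + T.mor₂ ≫ c, ?_⟩
    show F.map (b + T.mor₂ ≫ c) = f'
    rw [F.map_add, F.map_comp, hc'', ← hc']
    abel

lemma FF_obj₂_right (T : Triangle C) (hT : T ∈ distTriang C) (K : C)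
    (h₁ : FF F K T.obj₁) (h₃ : FF F K T.obj₃) (h₁' : FF F K (T.obj₁⟦(1 : ℤ)⟧))
    (h₃' : FF F K (T.obj₃⟦(-1 : ℤ)⟧)) : FF F K T.obj₂ := by
  have hFT := F.map_distinguished T hT
  have hTi := inv_rot_of_distTriang T hT
  have hFTi := F.map_distinguished _ hTi
  obtain ⟨r, hr⟩ : ∃ r : T.obj₃⟦(-1 : ℤ)⟧ ⟶ T.obj₁, r = T.invRotate.mor₁ := ⟨_, rfl⟩
  have hz : r ≫ T.mor₁ = 0 := by
    rw [hr]
    exact comp_distTriang_mor_zero₁₂ _ hTi
  have exF₂ : ∀ (x : F.obj K ⟶ F.obj T.obj₂), x ≫ F.map T.mor₂ = 0 →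
      ∃ y : F.obj K ⟶ F.obj T.obj₁, x = y ≫ F.map T.mor₁ :=
    fun x hx => Triangle.coyoneda_exact₂ _ hFT x hx
  have exFi : ∀ (x : F.obj K ⟶ F.obj T.obj₁), x ≫ F.map T.mor₁ = 0 →
      ∃ y : F.obj K ⟶ F.obj (T.obj₃⟦(-1 : ℤ)⟧), x = y ≫ F.map r := by
    intro x hx
    rw [hr]
    exact Triangle.coyoneda_exact₂ _ hFTi x hx
  constructor
  · intro f₁ f₂ hf
    have hf0 : F.map f₁ = F.map f₂ := hf
    have hf' : F.map (f₁ - f₂) = 0 := by rw [F.map_sub]; exact sub_eq_zero.2 hf0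
    suffices H : f₁ - f₂ = 0 from sub_eq_zero.1 H
    obtain ⟨f, hfdef⟩ : ∃ f : K ⟶ T.obj₂, f = f₁ - f₂ := ⟨_, rfl⟩
    rw [← hfdef] at hf' ⊢
    have h1 : f ≫ T.mor₂ = 0 := h₃.1 (by
      show F.map (f ≫ T.mor₂) = F.map 0
      rw [F.map_comp, hf', zero_comp, F.map_zero])
    obtain ⟨g, hg⟩ := Triangle.coyoneda_exact₂ T hT f h1
    have h2 : F.map g ≫ F.map T.mor₁ = 0 := by
      rw [← F.map_comp, ← hg, hf']
    obtain ⟨k, hk⟩ := exFi (F.map g) h2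
    obtain ⟨h, hh⟩ := h₃'.2 k
    have hh' : F.map h = k := hh
    have h3 : g = h ≫ r := h₁.1 (by
      show F.map g = F.map (h ≫ r)
      rw [F.map_comp, hh', hk])
    rw [hg, h3, Category.assoc, hz, comp_zero]
  · intro f'
    obtain ⟨a, ha⟩ := h₃.2 (f' ≫ F.map T.mor₂)
    have ha' : F.map a = f' ≫ F.map T.mor₂ := ha
    have h1 : a ≫ T.mor₃ = 0 := h₁'.1 (by
      show F.map (a ≫ T.mor₃) = F.map 0
      rw [F.map_comp, ha', Category.assoc, ← F.map_comp, comp_distTriang_mor_zero₂₃ T hT,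
        F.map_zero, comp_zero, F.map_zero])
    obtain ⟨b, hb⟩ := Triangle.coyoneda_exact₃ T hT a h1
    have h2 : (f' - F.map b) ≫ F.map T.mor₂ = 0 := by
      rw [Preadditive.sub_comp, ← ha', hb, F.map_comp, sub_self]
    obtain ⟨c', hc'⟩ := exF₂ (f' - F.map b) h2
    obtain ⟨c, hc⟩ := h₁.2 c'
    have hc'' : F.map c = c' := hc
    refine ⟨b + c ≫ T.mor₁, ?_⟩
    show F.map (b + c ≫ T.mor₁) = f'
    rw [F.map_add, F.map_comp, hc'', ← hc']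
    abel

/-- shift-closure for the left class -/
lemma left_shift (𝒯 : ObjectProperty C) (h𝒯sh : ∀ (X : C) (n : ℤ), 𝒯 X → 𝒯 (X⟦n⟧))
    (K : C) (hK : ∀ L, 𝒯 L → FF F K L) (m : ℤ) : ∀ L, 𝒯 L → FF F (K⟦m⟧) L := by
  intro L hL
  exact FF_of_iso_right F ((shiftFunctorCompIsoId C (-m) m (by simp)).app L)
    (FF_shift F m (hK (L⟦-m⟧) (h𝒯sh L (-m) hL)))

/-- shift-closure for the right class -/
lemma right_shift (𝒯 : ObjectProperty C) (h𝒯sh : ∀ (X : C) (n : ℤ), 𝒯 X → 𝒯 (X⟦n⟧))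
    (L : C) (hL : ∀ K, 𝒯 K → FF F K L) (m : ℤ) : ∀ K, 𝒯 K → FF F K (L⟦m⟧) := by
  intro K hK
  exact FF_of_iso_left F ((shiftFunctorCompIsoId C (-m) m (by simp)).app K)
    (FF_shift F m (hL (K⟦-m⟧) (h𝒯sh K (-m) hK)))

end Tri

end H10BD
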