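import Groth.Agent.Lib.Helper10.BddDevissage

/-!
# Bounded dévissage, derived category part
-/

set_option autoImplicit false
universe w₁ w₂ v₁ v₂ u₁ u₂
open CategoryTheory CategoryTheory.Limits Pretriangulated ZeroObject

namespace H10BD

open Groth.Agent.Lib.Helper2.TExactIso DerivedCategory

section Der

variable {𝒜 : Type u₁} [Category.{v₁} 𝒜] [Abelian 𝒜] [HasDerivedCategory.{w₁} 𝒜]
  {D : Type u₂} [Category.{v₂} D] [Preadditive D] [HasZeroObject D] [HasShift D ℤ]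
  [∀ n : ℤ, (shiftFunctor D n).Additive] [Pretriangulated D]
  (F : DerivedCategory 𝒜 ⥤ D) [F.CommShift ℤ] [F.IsTriangulated] [F.Additive]

lemma devissable_left (𝒯 : ObjectProperty (DerivedCategory 𝒜))
    (h𝒯sh : ∀ (X : DerivedCategory 𝒜) (n : ℤ), 𝒯 X → 𝒯 (X⟦n⟧)) :
    IsDevissable (fun K : DerivedCategory 𝒜 => ∀ L, 𝒯 L → FF F K L) where
  of_iso e h L hL := FF_of_iso_left F e (h L hL)
  of_isZero hX L _ := FF_of_isZero_left F hX
  shift X n h := left_shift F 𝒯 h𝒯sh X h n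
  ext₂ T hT h₁ h₃ L hL := FF_obj₂_left F T hT L (h₁ L hL) (h₃ L hL)
    (left_shift F 𝒯 h𝒯sh T.obj₁ h₁ 1 L hL) (left_shift F 𝒯 h𝒯sh T.obj₃ h₃ (-1) L hL)

lemma devissable_right (𝒯 : ObjectProperty (DerivedCategory 𝒜))
    (h𝒯sh : ∀ (X : DerivedCategory 𝒜) (n : ℤ), 𝒯 X → 𝒯 (X⟦n⟧)) :
    IsDevissable (fun L : DerivedCategory 𝒜 => ∀ K, 𝒯 K → FF F K L) where
  of_iso e h K hK := FF_of_iso_right F e (h K hK)
  of_isZero hX K _ := FF_of_isZero_right F hX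
  shift X n h := right_shift F 𝒯 h𝒯sh X h n
  ext₂ T hT h₁ h₃ K hK := FF_obj₂_right F T hT K (h₁ K hK) (h₃ K hK)
    (right_shift F 𝒯 h𝒯sh T.obj₁ h₁ 1 K hK) (right_shift F 𝒯 h𝒯sh T.obj₃ h₃ (-1) K hK)

end Der

section Main

variable {𝒜 : Type u₁} [Category.{v₁} 𝒜] [Abelian 𝒜] [HasDerivedCategory.{w₁} 𝒜]
  {ℬ : Type u₂} [Category.{v₂} ℬ] [Abelian ℬ] [HasDerivedCategory.{w₂} ℬ]
  (Φ : 𝒜 ⥤ ℬ) [Φ.Additive] [PreservesFiniteLimits Φ] [PreservesFiniteColimits Φ]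
  (P : ObjectProperty 𝒜) [WSerre.IsWeakSerre P] (P' : ObjectProperty ℬ) [WSerre.IsWeakSerre P']

/-- shifted single objects on `P` -/
def T0 : ObjectProperty (DerivedCategory 𝒜) :=
  fun L => ∃ (G : 𝒜) (n : ℤ), P G ∧ Nonempty (L ≅ ((singleFunctor 𝒜 0).obj G)⟦n⟧)

omit [WSerre.IsWeakSerre P] in
lemma T0_shift (X : DerivedCategory 𝒜) (m : ℤ) (h : T0 P X) : T0 P (X⟦m⟧) := by
  obtain ⟨G, n, hG, ⟨e⟩⟩ := h
  exact ⟨G, n + m, hG, ⟨(shiftFunctor _ m).mapIso e ≪≫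
    ((shiftFunctorAdd' (DerivedCategory 𝒜) n m (n + m) rfl).app _).symm⟩⟩

lemma cohInBdd_iso {X Y : DerivedCategory 𝒜} (e : X ≅ Y) (h : WSerre.cohInBdd P X) :
    WSerre.cohInBdd P Y := by
  obtain ⟨h1, h2⟩ := h
  exact ⟨fun q => P.prop_of_iso ((homologyFunctor 𝒜 q).mapIso e) (h1 q),
    TStructure.t.bounded.prop_of_iso e h2⟩

lemma cohInBdd_shift (X : DerivedCategory 𝒜) (n : ℤ) (h : WSerre.cohInBdd P X) :
    WSerre.cohInBdd P (X⟦n⟧) := by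
  obtain ⟨h1, h2⟩ := h
  exact ⟨fun q => P.prop_of_iso (homologyShiftIso X n q).symm (h1 (n + q)),
    (TStructure.t.bounded.prop_shift_iff_of_isStableUnderShift X n).2 h2⟩

lemma cohInBdd_ext₂ (T : Triangle (DerivedCategory 𝒜)) (hT : T ∈ distTriang _)
    (h₁ : WSerre.cohInBdd P T.obj₁) (h₃ : WSerre.cohInBdd P T.obj₃) :
    WSerre.cohInBdd P T.obj₂ := by
  obtain ⟨h11, h12⟩ := h₁
  obtain ⟨h31, h32⟩ := h₃
  exact ⟨(isDevissable_cohIn_map (𝟭 (DerivedCategory 𝒜)) P).ext₂ T hT h11 h31,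
    TStructure.t.bounded.ext_of_isTriangulatedClosed₂ T hT h12 h32⟩

lemma cohInBdd_of_isZero {X : DerivedCategory 𝒜} (hX : IsZero X) : WSerre.cohInBdd P X := by
  refine ⟨fun q => P.prop_of_isZero ((homologyFunctor 𝒜 q).map_isZero hX), ⟨0, ?_⟩, ⟨0, ?_⟩⟩
  · exact (isGE_iff X 0).2 (fun i _ => (homologyFunctor 𝒜 i).map_isZero hX)
  · exact (isLE_iff X 0).2 (fun i _ => (homologyFunctor 𝒜 i).map_isZero hX)

lemma cohInBdd_single (G : 𝒜) (hG : P G) : WSerre.cohInBdd P ((singleFunctor 𝒜 0).obj G) := by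
  refine ⟨fun q => ?_, ⟨0, inferInstance⟩, ⟨0, inferInstance⟩⟩
  by_cases hq : q = 0
  · subst hq
    exact P.prop_of_iso ((singleFunctorCompHomologyFunctorIso 𝒜 0).app G).symm hG
  · rcases lt_or_gt_of_ne hq with h | h
    · exact P.prop_of_isZero (isZero_of_isGE _ 0 q h)
    · exact P.prop_of_isZero (isZero_of_isLE _ 0 q h)

theorem bdd_equiv
    (h1 : ∀ G : 𝒜, P G → P' (Φ.obj G))
    (h1s : ∀ H : ℬ, P' H → ∃ G : 𝒜, P G ∧ Nonempty (Φ.obj G ≅ H))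
    (h2 : ∀ G G' : 𝒜, P G → P G' → ∀ n : ℤ,
      Function.Bijective (fun φ : ((singleFunctor 𝒜 0).obj G ⟶
        ((singleFunctor 𝒜 0).obj G')⟦n⟧) => Φ.mapDerivedCategory.map φ)) :
    (∀ K : DerivedCategory 𝒜, WSerre.cohInBdd P K →
        WSerre.cohInBdd P' (Φ.mapDerivedCategory.obj K)) ∧
      (∀ K L : DerivedCategory 𝒜, WSerre.cohInBdd P K → WSerre.cohInBdd P L →
        Function.Bijective (fun φ : (K ⟶ L) => Φ.mapDerivedCategory.map φ)) ∧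
      (∀ M : DerivedCategory ℬ, WSerre.cohInBdd P' M →
        ∃ K : DerivedCategory 𝒜, WSerre.cohInBdd P K ∧
          Nonempty (Φ.mapDerivedCategory.obj K ≅ M)) := by
  have part1 : ∀ K : DerivedCategory 𝒜, WSerre.cohInBdd P K →
      WSerre.cohInBdd P' (Φ.mapDerivedCategory.obj K) := by
    rintro K ⟨hc, ⟨a, ha⟩, ⟨b, hb⟩⟩
    exact ⟨fun q => P'.prop_of_iso (mapDerivedCategoryHomologyIso Φ K q).symm (h1 _ (hc q)),
      ⟨a, isGE_mapDerivedCategory_obj Φ K a ha⟩, ⟨b, isLE_mapDerivedCategory_obj Φ K b hb⟩⟩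
  have claimA : ∀ K : DerivedCategory 𝒜, WSerre.cohInBdd P K →
      ∀ L, T0 P L → FF Φ.mapDerivedCategory K L := by
    rintro K ⟨hc, ⟨a, ha⟩, ⟨b, hb⟩⟩
    refine (devissable_left Φ.mapDerivedCategory (T0 P) (T0_shift P)).of_isGE_of_isLE
      K a b ha hb (fun q L hL => ?_)
    obtain ⟨G', n, hG', ⟨e⟩⟩ := hL
    exact FF_of_iso_right _ e.symm (h2 _ G' (hc q) hG' n)
  have claimB : ∀ K L : DerivedCategory 𝒜, WSerre.cohInBdd P K → WSerre.cohInBdd P L →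
      FF Φ.mapDerivedCategory K L := by
    intro K L hK hL
    obtain ⟨hc, ⟨a, ha⟩, ⟨b, hb⟩⟩ := hL
    exact (devissable_right Φ.mapDerivedCategory (WSerre.cohInBdd P)
      (cohInBdd_shift P)).of_isGE_of_isLE L a b ha hb
      (fun q K' hK' => claimA K' hK' _
        ⟨_, 0, hc q, ⟨((shiftFunctorZero (DerivedCategory 𝒜) ℤ).app _).symm⟩⟩) K hK
  refine ⟨part1, claimB, ?_⟩
  -- essential surjectivity
  have hU : IsDevissable (fun M : DerivedCategory ℬ =>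
      ∃ K : DerivedCategory 𝒜, WSerre.cohInBdd P K ∧
        Nonempty (Φ.mapDerivedCategory.obj K ≅ M)) :=
    { of_iso := by
        rintro X Y e ⟨K, hK, ⟨e'⟩⟩
        exact ⟨K, hK, ⟨e' ≪≫ e⟩⟩
      of_isZero := by
        intro X hX
        exact ⟨0, cohInBdd_of_isZero P (isZero_zero _),
          ⟨(Φ.mapDerivedCategory.map_isZero (isZero_zero _)).iso hX⟩⟩
      shift := by
        rintro X n ⟨K, hK, ⟨e⟩⟩
        exact ⟨K⟦n⟧, cohInBdd_shift P K n hK,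
          ⟨(Φ.mapDerivedCategory.commShiftIso n).app K ≪≫ (shiftFunctor _ n).mapIso e⟩⟩
      ext₂ := by
        rintro T hT ⟨K₁, hK₁, ⟨e₁⟩⟩ ⟨K₃, hK₃, ⟨e₃⟩⟩
        obtain ⟨φ, hφ⟩ := (claimB K₃ (K₁⟦(1 : ℤ)⟧) hK₃ (cohInBdd_shift P K₁ 1 hK₁)).2
          (e₃.hom ≫ T.mor₃ ≫ (e₁.inv)⟦(1 : ℤ)⟧' ≫
            (Φ.mapDerivedCategory.commShiftIso (1 : ℤ)).inv.app K₁)
        have hφ' : Φ.mapDerivedCategory.map φ = e₃.hom ≫ T.mor₃ ≫ (e₁.inv)⟦(1 : ℤ)⟧' ≫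
            (Φ.mapDerivedCategory.commShiftIso (1 : ℤ)).inv.app K₁ := hφ
        obtain ⟨Y, f, g, hT'⟩ := distinguished_cocone_triangle₂ φ
        have hFT' := Φ.mapDerivedCategory.map_distinguished _ hT'
        have comm : (Φ.mapDerivedCategory.mapTriangle.obj (Triangle.mk f g φ)).mor₃ ≫
            (shiftFunctor (DerivedCategory ℬ) (1 : ℤ)).map e₁.hom = e₃.hom ≫ T.mor₃ := by
          show (Φ.mapDerivedCategory.map φ ≫
            (Φ.mapDerivedCategory.commShiftIso (1 : ℤ)).hom.app K₁) ≫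
            (shiftFunctor (DerivedCategory ℬ) (1 : ℤ)).map e₁.hom = e₃.hom ≫ T.mor₃
          rw [hφ']
          simp only [Category.assoc, Iso.inv_hom_id_app_assoc]
          rw [← Functor.map_comp, e₁.inv_hom_id, CategoryTheory.Functor.map_id, Category.comp_id]
        have iso := isoTriangleOfIso₁₃ _ T hFT' hT e₁ e₃ comm
        exact ⟨Y, cohInBdd_ext₂ P (Triangle.mk f g φ) hT' hK₁ hK₃,
          ⟨Triangle.π₂.mapIso iso⟩⟩ }
  rintro M ⟨hc, ⟨a, ha⟩, ⟨b, hb⟩⟩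
  refine hU.of_isGE_of_isLE M a b ha hb (fun q => ?_)
  obtain ⟨G, hG, ⟨e⟩⟩ := h1s _ (hc q)
  exact ⟨(singleFunctor 𝒜 0).obj G, cohInBdd_single P G hG, ⟨(singleIsoMapSingle e).symm⟩⟩

end Main

end H10BD
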