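import Mathlib
import Groth.Agent.Lib.Helper10.Gerbe
import Groth.Agent.Lib.Helper10.AlgStPtsTop
import Groth.Agent.Lib.Helper10.AlgStPtsFib
import Groth.Agent.Lib.Helper10.AlgStPtsSch
import Groth.Agent.Lib.Helper10.Fib5
import Groth.Agent.Lib.Helper29.QuotUnpack

/-!
# Points of gerbes

* `exists_pt_mem_sieve`, `exists_field_mem_sieve`: members of fppf covering sieves through a point.
* `points_surjective_of_locSurjObj`, `points_injective_of_locSurjHom`: a gerbe is bijective on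
  points.
* `isOpenMap_points_of_locSurjObj`: and open on points.
* `isHomeomorph_points_of_isGerbeOver`.
-/

set_option autoImplicit false
set_option backward.isDefEq.respectTransparency false
set_option backward.isDefEq.respectTransparency.types false

universe u

open CategoryTheory CategoryTheory.Limits AlgebraicGeometry Opposite

namespace H10PT

open Groth.Agent.Lib.Helper10.Fib Groth.Agent.Lib.Helper10.Gerbe Groth.Agent.Lib.Helper10.AlgStRep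
open Groth.Agent.Lib.Helper28.AlgSt.ChartOver

variable {S : Scheme.{u}}

/-- A covering sieve of `T` has, through every point of `T`, a flat locally finitely presented member. -/
theorem exists_pt_mem_sieve {T : Over S} (R : Sieve T)
    (hR : R ∈ QuotSh.J Scheme.fppfPrecoverage S T) (t : ↥T.left) :
    ∃ (T' : Over S) (g : T' ⟶ T) (t' : ↥T'.left), R g ∧ g.left t' = t ∧ Flat g.left ∧
      LocallyOfFinitePresentation g.left := by
  obtain ⟨ι, Y, c, hc, hmem⟩ :=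
    Groth.Agent.Lib.Helper29.QuotUnpack.exists_cover_of_mem Scheme.fppfPrecoverage R hR
  rw [Scheme.fppfPrecoverage, Scheme.ofArrows_mem_precoverage_iff] at hc
  obtain ⟨hsurj, hP⟩ := hc
  obtain ⟨l, y, hy⟩ := hsurj t
  exact ⟨Over.mk (c l ≫ T.hom), Over.homMk (c l) rfl, y, hmem l, hy, (hP l).1, (hP l).2⟩

/-- A covering sieve of a nonempty `T` contains a morphism from the spectrum of a field. -/
theorem exists_field_mem_sieve {T : Over S} (R : Sieve T)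
    (hR : R ∈ QuotSh.J Scheme.fppfPrecoverage S T) (t : ↥T.left) :
    ∃ (K : Type u) (_ : Field K) (str : Spec (CommRingCat.of K) ⟶ S) (g : Over.mk str ⟶ T),
      R g := by
  obtain ⟨T', g, t', hg, -, -, -⟩ := exists_pt_mem_sieve R hR t
  exact ⟨↥(T'.left.residueField t'), inferInstance, T'.left.fromSpecResidueField t' ≫ T'.hom,
    (Over.homMk (T'.left.fromSpecResidueField t') rfl :
      Over.mk (T'.left.fromSpecResidueField t' ≫ T'.hom) ⟶ T') ≫ g, R.downward_closed hg _⟩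

variable {𝒳 𝒴 : AlgSt.Cat S}

theorem points_surjective_of_locSurjObj (h𝒳 : FibCat.IsFibGrpd 𝒳.p) (F : 𝒳 ⥤ᵇ 𝒴)
    (hF : Gerb.LocSurjObj (QuotSh.J Scheme.fppfPrecoverage S) F) :
    Function.Surjective (AlgSt.Points.map F) := by
  intro η
  obtain ⟨y, rfl⟩ := AlgSt.Points.mk_surjective η
  have hs := (locSurjObj_iff _ F h𝒳).1 hF y.obj (Over.mk y.str) y.lies
  obtain ⟨K, _, str, g, hg⟩ := exists_field_mem_sieve _ hs
    (IsLocalRing.closedPoint y.K : ↥(Spec (CommRingCat.of y.K)))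
  obtain ⟨x, m, hm⟩ := hg
  haveI := hm
  have hx : 𝒳.p.obj x = Over.mk str := (F.w_obj x).symm.trans (IsHomLift.domain_eq 𝒴.p g m)
  refine ⟨AlgSt.Points.mk ⟨K, str, x, hx⟩, ?_⟩
  exact AlgSt.Points.sound ⟨AlgSt.FPt.map F ⟨K, str, x, hx⟩, 𝟙 _, m, trivial⟩

theorem points_injective_of_locSurjHom (h𝒳 : FibCat.IsFibGrpd 𝒳.p) (h𝒴 : FibCat.IsFibGrpd 𝒴.p)
    (F : 𝒳 ⥤ᵇ 𝒴) (hF : Gerb.LocSurjHom (QuotSh.J Scheme.fppfPrecoverage S) F) :
    Function.Injective (AlgSt.Points.map F) := by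
  intro ξ ξ' h
  obtain ⟨p, rfl⟩ := AlgSt.Points.mk_surjective ξ
  obtain ⟨q, rfl⟩ := AlgSt.Points.mk_surjective ξ'
  have hrel : AlgSt.FPt.Rel (p.map F) (q.map F) :=
    (rel_equivalence h𝒴).eqvGen_iff.mp (Quot.eqvGen_exact h)
  obtain ⟨r, a, b, -⟩ := hrel
  obtain ⟨a', ha'⟩ : ∃ a' : r.obj ⟶ F.obj p.obj, a' = a := ⟨_, rfl⟩
  obtain ⟨b', hb'⟩ : ∃ b' : r.obj ⟶ F.obj q.obj, b' = b := ⟨_, rfl⟩
  obtain ⟨α, hα⟩ := exists_baseHom r.lies ((F.w_obj p.obj).trans p.lies) a'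
  obtain ⟨β, hβ⟩ := exists_baseHom r.lies ((F.w_obj q.obj).trans q.lies) b'
  obtain ⟨p', πp, hπp⟩ := IsFibGrpd.exists_lift' h𝒳 p.lies α
  obtain ⟨q', πq, hπq⟩ := IsFibGrpd.exists_lift' h𝒳 q.lies β
  haveI := hα
  haveI := hβ
  haveI := hπp
  haveI := hπq
  haveI : 𝒴.p.IsHomLift α (F.map πp) := BasedFunctor.preserves_isHomLift F α πp
  haveI : 𝒴.p.IsHomLift β (F.map πq) := BasedFunctor.preserves_isHomLift F β πq
  obtain ⟨θ₁, hθ₁, -⟩ := exists_factor_iso h𝒴 α a' (F.map πp)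
  obtain ⟨θ₂, hθ₂, -⟩ := exists_factor_iso h𝒴 β b' (F.map πq)
  haveI := hθ₁
  haveI := hθ₂
  have hκ : 𝒴.p.IsHomLift (𝟙 (Over.mk r.str)) (θ₁.inv ≫ θ₂.hom) := inferInstance
  have hs := (locSurjHom_iff _ F h𝒳 h𝒴).1 hF p' q' (θ₁.inv ≫ θ₂.hom) (𝟙 (Over.mk r.str)) hκ
  obtain ⟨K, _, str, g, hg⟩ := exists_field_mem_sieve _ hs
    (IsLocalRing.closedPoint r.K : ↥(Spec (CommRingCat.of r.K)))
  obtain ⟨x₀, φ, ψ, hφ, hψ, -⟩ := hg
  haveI := hφ
  have hx₀ : 𝒳.p.obj x₀ = Over.mk str := IsHomLift.domain_eq 𝒳.p g φ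
  exact AlgSt.Points.sound ⟨⟨K, str, x₀, hx₀⟩, φ ≫ πp, ψ ≫ πq, trivial⟩

lemma homOfOver_overMap' {T U : Over S} (γ : T ⟶ U) : homOfOver (overMap' γ) = γ := by
  simp [homOfOver, overMap']

/-- The chart `ξ` of `𝒳` through an object `x` over `T` mapping to `y(𝟙_U)` over `γ : T ⟶ U`
computes the chart `y` of `𝒴` along `γ`. -/
theorem ofChart_eq_of_lift (h𝒴 : FibCat.IsFibGrpd 𝒴.p) (F : 𝒳 ⥤ᵇ 𝒴) {T U : Over S} (γ : T ⟶ U)
    (y : FibCat.overCat U ⥤ᵇ 𝒴) (ξ : FibCat.overCat T ⥤ᵇ 𝒳)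
    (m : F.obj (ξ.obj (Over.mk (𝟙 T))) ⟶ y.obj (Over.mk (𝟙 U))) (hm : 𝒴.p.IsHomLift γ m)
    (τ : ↥T.left) :
    AlgSt.Points.ofChart y (γ.left τ) = AlgSt.Points.map F (AlgSt.Points.ofChart ξ τ) := by
  let H : FibCat.overCat T ⥤ᵇ 𝒴 := BasedFunctor.comp (overMap' γ) y
  have hH : ∀ A : Over T, 𝒴.p.IsStronglyCartesian (homU T A) (H.map (toTerminal T A)) := by
    intro A
    haveI := isHomLift_toTerminal T H A
    exact IsFibGrpd.sc h𝒴 _ _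
  -- the morphism `H(𝟙_T) ⟶ y(𝟙_U)` over `γ`
  let n : H.obj (Over.mk (𝟙 T)) ⟶ y.obj (Over.mk (𝟙 U)) :=
    y.map (toTerminal U ((overMap' γ).obj (Over.mk (𝟙 T))))
  have hn : 𝒴.p.IsHomLift γ n := by
    have h0 := isHomLift_toTerminal U y ((overMap' γ).obj (Over.mk (𝟙 T)))
    have e : homU U ((overMap' γ).obj (Over.mk (𝟙 T))) = γ := by
      simp [homU, overMap']
    rw [e] at h0
    exact h0
  haveI := hm
  haveI := hn
  obtain ⟨m₀, hm₀, -⟩ := exists_factor h𝒴 γ m n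
  obtain ⟨α, -, -⟩ := yoneda_existsUnique T (BasedFunctor.comp ξ F) H hH m₀ hm₀
  have e1 := ofChart_comp (overMap' γ) y τ
  rw [homOfOver_overMap'] at e1
  rw [← e1, ← ofChart_comp_right, ofChart_eq, ofChart_eq]
  exact (congrFun (points_map_eq_of_natTrans α) _).symm

theorem isOpenMap_points_of_locSurjObj (h𝒳 : AlgSt.IsAlgStack Scheme.fppfPrecoverage 𝒳)
    (h𝒴 : AlgSt.IsAlgStack Scheme.fppfPrecoverage 𝒴) (F : 𝒳 ⥤ᵇ 𝒴)
    (hF : Gerb.LocSurjObj (QuotSh.J Scheme.fppfPrecoverage S) F)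
    (hinj : Function.Injective (AlgSt.Points.map F)) : IsOpenMap (AlgSt.Points.map F) := by
  intro W hW
  rw [AlgSt.Points.isOpen_iff]
  intro U y hy
  rw [isOpen_iff_forall_mem_open]
  intro u hu
  have hs := (locSurjObj_iff _ F h𝒳.isStack.1).1 hF (y.obj (Over.mk (𝟙 U))) U (y.w_obj _)
  obtain ⟨T, γ, t, hγ, hγt, hflat, hlfp⟩ := exists_pt_mem_sieve _ hs u
  obtain ⟨x, m, hm⟩ := hγ
  haveI := hm
  have hxT : 𝒳.p.obj x = T := (F.w_obj x).symm.trans (IsHomLift.domain_eq 𝒴.p γ m)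
  obtain ⟨ξ, -, ⟨e⟩⟩ := yoneda_essSurj T (Functor.Fiber.mk hxT)
    (fun V f => IsFibGrpd.exists_lift' h𝒳.isStack.1 hxT f)
  obtain ⟨ε, hε⟩ : ∃ ε : ξ.obj (Over.mk (𝟙 T)) ⟶ x, 𝒳.p.IsHomLift (𝟙 T) ε := ⟨e.hom.1, e.hom.2⟩
  haveI := hε
  haveI : 𝒴.p.IsHomLift (𝟙 T) (F.map ε) := BasedFunctor.preserves_isHomLift F (𝟙 T) ε
  have hm' : 𝒴.p.IsHomLift γ (F.map ε ≫ m) := by
    have : 𝒴.p.IsHomLift (𝟙 T ≫ γ) (F.map ε ≫ m) := inferInstance
    rwa [Category.id_comp] at this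
  have key : ∀ τ : ↥T.left,
      AlgSt.Points.ofChart y (γ.left τ) = AlgSt.Points.map F (AlgSt.Points.ofChart ξ τ) :=
    fun τ => ofChart_eq_of_lift h𝒴.isStack.1 F γ y ξ (F.map ε ≫ m) hm' τ
  refine ⟨γ.left '' (AlgSt.Points.ofChart ξ ⁻¹' W), ?_, ?_, ?_⟩
  · rintro _ ⟨τ, hτ, rfl⟩
    exact ⟨AlgSt.Points.ofChart ξ τ, hτ, (key τ).symm⟩
  · exact γ.left.isOpenMap _ ((continuous_ofChart h𝒳 ξ).isOpen_preimage W hW)
  · refine ⟨t, ?_, hγt⟩
    obtain ⟨w, hw, hwu⟩ := hu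
    have h1 : AlgSt.Points.map F w = AlgSt.Points.map F (AlgSt.Points.ofChart ξ t) := by
      rw [hwu, ← key t, hγt]
    show AlgSt.Points.ofChart ξ t ∈ W
    rw [← hinj h1]
    exact hw

theorem isHomeomorph_points_of_isGerbeOver (h𝒳 : AlgSt.IsAlgStack Scheme.fppfPrecoverage 𝒳)
    (h𝒴 : AlgSt.IsAlgStack Scheme.fppfPrecoverage 𝒴) (F : 𝒳 ⥤ᵇ 𝒴)
    (hF : Gerb.IsGerbeOver (QuotSh.J Scheme.fppfPrecoverage S) F) :
    IsHomeomorph (AlgSt.Points.map F) := by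
  have hinj := points_injective_of_locSurjHom h𝒳.isStack.1 h𝒴.isStack.1 F hF.2
  have hsurj := points_surjective_of_locSurjObj h𝒳.isStack.1 F hF.1
  exact ⟨continuous_points_map h𝒴 F, isOpenMap_points_of_locSurjObj h𝒳 h𝒴 F hF.1 hinj,
    ⟨hinj, hsurj⟩⟩

end H10PT
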