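import Mathlib
import Groth.Agent.Lib.Helper10.GerbePts
import Groth.Agent.Lib.Helper10.AlgStQCSelf
import Groth.Agent.Lib.Helper10.FibMagic
import Groth.Agent.Lib.Helper28.AlgSt.DiagComp

/-!
# Quasi-compactness of the diagonal descends along gerbes

* `isIso_basedNatTrans`: 2-morphisms into a category fibred in groupoids are invertible.
* `isQuasiCompactMor_of_comp_surjective`: if `h` is surjective and `h ≫ g` is quasi-compact then `g`
  is quasi-compact.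
* `isSurjective_diag_of_locSurjHom`: the diagonal of a functor whose morphisms lift locally is
  surjective on points.
* `locSurjObj_magN`: `f × g` is locally surjective on objects if `f` and `g` are.
* `exists_chart_iso_of_lift`: charts through lifted objects.
* `isQuasiCompactMor_of_locSurjObj_cover`: quasi-compactness descends along functors that are locally
  surjective on objects.
* `isQuasiCompactMor_diag_toSelf_of_isGerbeOver`.
-/

set_option autoImplicit false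
set_option backward.isDefEq.respectTransparency false
set_option backward.isDefEq.respectTransparency.types false

universe v₂ u₂ v₃ u₃ v₄ u₄ v₅ u₅ v' u' u

open CategoryTheory CategoryTheory.Limits AlgebraicGeometry Opposite

namespace H10PT

open Groth.Agent.Lib.Helper10.Fib Groth.Agent.Lib.Helper10.Gerbe Groth.Agent.Lib.Helper10.AlgStRep
open Groth.Agent.Lib.Helper28.AlgSt.ChartOver Groth.Agent.Lib.Helper28.AlgSt.DiagComp

theorem isIso_basedNatTrans {C : Type*} [Category C] {𝒜 ℬ : BasedCategory C}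
    (hℬ : FibCat.IsFibGrpd ℬ.p) {G H : 𝒜 ⥤ᵇ ℬ} (α : G ⟶ H) : IsIso α := by
  haveI : ∀ a, IsIso (α.toNatTrans.app a) := fun a =>
    IsFibGrpd.isIso_of_isHomLift_id hℬ (U := 𝒜.p.obj a) (α.toNatTrans.app a)
  haveI : IsIso (X := G.toFunctor) α.toNatTrans := NatIso.isIso_of_isIso_app _
  exact BasedNatIso.isIso_of_toNatTrans_isIso α

variable {S : Scheme.{u}}

section Cancel

variable {𝒜 ℬ 𝒞 : AlgSt.Cat S}

theorem isQuasiCompactMor_of_comp_surjective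
    (h𝒜 : AlgSt.IsAlgStack Scheme.fppfPrecoverage 𝒜)
    (hℬ : AlgSt.IsAlgStack Scheme.fppfPrecoverage ℬ)
    (h𝒞 : AlgSt.IsAlgStack Scheme.fppfPrecoverage 𝒞) (h : 𝒜 ⥤ᵇ ℬ) (g : ℬ ⥤ᵇ 𝒞)
    (hs : AlgSt.IsSurjective h)
    (hc : AlgSt.IsQuasiCompactMor Scheme.fppfPrecoverage (BasedFunctor.comp h g)) :
    AlgSt.IsQuasiCompactMor Scheme.fppfPrecoverage g := by
  intro 𝒵 h𝒵 hqc k
  have q := hc 𝒵 h𝒵 hqc k
  have q2 : AlgSt.IsQuasiCompact (FibCat.fp (FibCat.fpSnd k g) h) :=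
    isQuasiCompact_of_isEquivOver' (paste2 k g h) (isEquivOver_paste2 k g h) q
  have a1 : AlgSt.IsAlgStack Scheme.fppfPrecoverage (FibCat.fp k g) :=
    Groth.Agent.S12763.result h𝒞.isStack h𝒞.diag h𝒵 hℬ k g
  have a2 : AlgSt.IsAlgStack Scheme.fppfPrecoverage (FibCat.fp (FibCat.fpSnd k g) h) :=
    Groth.Agent.S12763.result hℬ.isStack hℬ.diag a1 h𝒜 (FibCat.fpSnd k g) h
  have hsurj : AlgSt.IsSurjective (FibCat.fpFst (FibCat.fpSnd k g) h) := by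
    intro z
    obtain ⟨x, hx⟩ := hs (AlgSt.Points.map (FibCat.fpSnd k g) z)
    obtain ⟨w', hw1, -⟩ := exists_fp_point h𝒜.isStack.1 hℬ.isStack.1 a1.isStack.1 h
      (FibCat.fpSnd k g) z x hx.symm
    exact ⟨w', hw1⟩
  exact isQuasiCompact_of_isSurjective a2 a1 _ hsurj q2

end Cancel

section Diag

variable {𝒳 𝒴 : AlgSt.Cat S}

theorem isSurjective_diag_of_locSurjHom (h𝒳 : FibCat.IsFibGrpd 𝒳.p) (h𝒴 : FibCat.IsFibGrpd 𝒴.p)
    (f : 𝒳 ⥤ᵇ 𝒴) (hf : Gerb.LocSurjHom (QuotSh.J Scheme.fppfPrecoverage S) f) :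
    AlgSt.IsSurjective (FibCat.diag f) := by
  intro t'
  obtain ⟨t, rfl⟩ := AlgSt.Points.mk_surjective t'
  obtain ⟨K, str, ⟨⟨x₁, x₂, κ⟩, hκ⟩, lies⟩ := t
  change 𝒴.p.IsHomLift (𝟙 (𝒳.p.obj x₁)) κ.hom at hκ
  change 𝒳.p.obj x₁ = Over.mk str at lies
  haveI := hκ
  have hκ' : 𝒴.p.IsHomLift (𝟙 (Over.mk str)) κ.hom := isHomLift_id_of_eq 𝒴.p lies κ.hom
  have hs := (locSurjHom_iff _ f h𝒳 h𝒴).1 hf x₁ x₂ κ.hom (𝟙 (Over.mk str)) hκ'
  obtain ⟨L, _, str', g, hg⟩ := exists_field_mem_sieve _ hs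
    (IsLocalRing.closedPoint K : ↥(Spec (CommRingCat.of K)))
  obtain ⟨x₀, φ, ψ, hφ, -, e⟩ := hg
  haveI := hφ
  have hx₀ : 𝒳.p.obj x₀ = Over.mk str' := IsHomLift.domain_eq 𝒳.p g φ
  obtain ⟨s, hs'⟩ : ∃ s : AlgSt.FPt 𝒳, s = ⟨L, str', x₀, hx₀⟩ := ⟨_, rfl⟩
  refine ⟨AlgSt.Points.mk s, ?_⟩
  subst hs'
  refine AlgSt.Points.sound ⟨AlgSt.FPt.map (FibCat.diag f) ⟨L, str', x₀, hx₀⟩, 𝟙 _,
    ObjectProperty.homMk ⟨φ, ψ, ?_⟩, trivial⟩
  show f.map φ ≫ κ.hom = _ ≫ f.map ψ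
  rw [e]
  exact (Category.id_comp _).symm

end Diag

section MagN

variable {C : Type u'} [Category.{v'} C] (J : GrothendieckTopology C)
  {𝒳 : BasedCategory.{v₂, u₂} C} {𝒴 : BasedCategory.{v₃, u₃} C} {𝒵 : BasedCategory.{v₄, u₄} C}
  {𝒯 : BasedCategory.{v₅, u₅} C} (f : 𝒳 ⥤ᵇ 𝒵) (g : 𝒴 ⥤ᵇ 𝒵) (t : 𝒵 ⥤ᵇ 𝒯)

theorem locSurjObj_magN (h𝒳 : FibCat.IsFibGrpd 𝒳.p) (h𝒴 : FibCat.IsFibGrpd 𝒴.p)
    (h𝒯 : FibCat.IsFibGrpd 𝒯.p) (hf : Gerb.LocSurjObj J f) (hg : Gerb.LocSurjObj J g) :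
    Gerb.LocSurjObj J (magN f g t) := by
  intro P
  obtain ⟨⟨z₁, z₂, ι⟩, hι⟩ := P
  change 𝒯.p.IsHomLift (𝟙 (𝒵.p.obj z₁)) ι.hom at hι
  haveI := hι
  have hz₂ : 𝒵.p.obj z₂ = 𝒵.p.obj z₁ :=
    (t.w_obj z₂).symm.trans (IsHomLift.codomain_eq 𝒯.p (𝟙 (𝒵.p.obj z₁)) ι.hom)
  have h1 := (locSurjObj_iff J f h𝒳).1 hf z₁ _ rfl
  have h2 := (locSurjObj_iff J g h𝒴).1 hg z₂ (𝒵.p.obj z₁) hz₂
  refine ⟨objSieve f h𝒳 z₁ _ ⊓ objSieve g h𝒴 z₂ _, J.intersection_covering h1 h2, ?_⟩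
  intro V γ hγ
  change V ⟶ 𝒵.p.obj z₁ at γ
  obtain ⟨⟨x, m₁, hm₁⟩, ⟨y, m₂, hm₂⟩⟩ := hγ
  haveI := hm₁
  haveI := hm₂
  haveI : 𝒯.p.IsHomLift γ (t.map m₁) := BasedFunctor.preserves_isHomLift t γ m₁
  haveI : 𝒯.p.IsHomLift γ (t.map m₂) := BasedFunctor.preserves_isHomLift t γ m₂
  haveI : 𝒯.p.IsHomLift γ (t.map m₁ ≫ ι.hom) := by
    have h0 : 𝒯.p.IsHomLift (γ ≫ 𝟙 (𝒵.p.obj z₁)) (t.map m₁ ≫ ι.hom) := inferInstance
    rwa [Category.comp_id] at h0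
  obtain ⟨θ, hθ, eθ⟩ := exists_factor_iso h𝒯 γ (t.map m₁ ≫ ι.hom) (t.map m₂)
  have hx : 𝒳.p.obj x = V := (f.w_obj x).symm.trans (IsHomLift.domain_eq 𝒵.p γ m₁)
  haveI := hθ
  have hθ' : 𝒯.p.IsHomLift (𝟙 (𝒳.p.obj x)) θ.hom := isHomLift_id_of_eq 𝒯.p hx.symm θ.hom
  refine ⟨fpObj (BasedFunctor.comp f t) (BasedFunctor.comp g t) x y θ hθ',
    ObjectProperty.homMk ⟨m₁, m₂, eθ.symm⟩, ?_⟩
  rw [fp_isHomLift_iff]
  exact hm₁

end MagN

section Chart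

variable {𝒲 ℬ 𝒜 : AlgSt.Cat S}

/-- If `a` is an object of `𝒲` over `V` with `w a ⟶ κ(𝟙_U)` lying over `γ : V ⟶ U`, the chart `κ`
restricted along `γ` factors through `w` up to 2-isomorphism. -/
theorem exists_chart_iso_of_lift (h𝒲 : FibCat.IsFibGrpd 𝒲.p) (hℬ : FibCat.IsFibGrpd ℬ.p)
    (w : 𝒲 ⥤ᵇ ℬ) {V U : Over S} (γ : V ⟶ U) (κ : FibCat.overCat U ⥤ᵇ ℬ) (a : 𝒲.obj)
    (m : w.obj a ⟶ κ.obj (Over.mk (𝟙 U))) (hm : ℬ.p.IsHomLift γ m) :
    ∃ ξ : FibCat.overCat V ⥤ᵇ 𝒲,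
      Nonempty (BasedFunctor.comp (overMap' γ) κ ≅ BasedFunctor.comp ξ w) := by
  haveI := hm
  have ha : 𝒲.p.obj a = V := (w.w_obj a).symm.trans (IsHomLift.domain_eq ℬ.p γ m)
  obtain ⟨ξ, -, ⟨e⟩⟩ := yoneda_essSurj V (Functor.Fiber.mk ha)
    (fun V' f' => IsFibGrpd.exists_lift' h𝒲 ha f')
  obtain ⟨ε, hε⟩ : ∃ ε : ξ.obj (Over.mk (𝟙 V)) ⟶ a, 𝒲.p.IsHomLift (𝟙 V) ε := ⟨e.hom.1, e.hom.2⟩
  haveI := hε
  haveI : ℬ.p.IsHomLift (𝟙 V) (w.map ε) := BasedFunctor.preserves_isHomLift w (𝟙 V) ε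
  have hm' : ℬ.p.IsHomLift γ (w.map ε ≫ m) := by
    have h0 : ℬ.p.IsHomLift (𝟙 V ≫ γ) (w.map ε ≫ m) := inferInstance
    rwa [Category.id_comp] at h0
  let H : FibCat.overCat V ⥤ᵇ ℬ := BasedFunctor.comp (overMap' γ) κ
  have hH : ∀ A : Over V, ℬ.p.IsStronglyCartesian (homU V A) (H.map (toTerminal V A)) := by
    intro A
    haveI := isHomLift_toTerminal V H A
    exact IsFibGrpd.sc hℬ _ _
  let n : H.obj (Over.mk (𝟙 V)) ⟶ κ.obj (Over.mk (𝟙 U)) :=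
    κ.map (toTerminal U ((overMap' γ).obj (Over.mk (𝟙 V))))
  have hn : ℬ.p.IsHomLift γ n := by
    have h0 := isHomLift_toTerminal U κ ((overMap' γ).obj (Over.mk (𝟙 V)))
    have e : homU U ((overMap' γ).obj (Over.mk (𝟙 V))) = γ := by
      simp [homU, overMap']
    rw [e] at h0
    exact h0
  haveI := hm'
  haveI := hn
  obtain ⟨m₀, hm₀, -⟩ := exists_factor hℬ γ (w.map ε ≫ m) n
  obtain ⟨α, -, -⟩ := yoneda_existsUnique V (BasedFunctor.comp ξ w) H hH m₀ hm₀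
  haveI := isIso_basedNatTrans hℬ α
  exact ⟨ξ, ⟨(asIso α).symm⟩⟩

/-- Quasi-compactness of a morphism descends along a functor that is locally surjective on objects
for the fppf topology. -/
theorem isQuasiCompactMor_of_locSurjObj_cover
    (h𝒜 : AlgSt.IsAlgStack Scheme.fppfPrecoverage 𝒜)
    (hℬ : AlgSt.IsAlgStack Scheme.fppfPrecoverage ℬ)
    (h𝒲 : AlgSt.IsAlgStack Scheme.fppfPrecoverage 𝒲) (h : 𝒜 ⥤ᵇ ℬ) (w : 𝒲 ⥤ᵇ ℬ)
    (hw : Gerb.LocSurjObj (QuotSh.J Scheme.fppfPrecoverage S) w)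
    (H : AlgSt.IsQuasiCompactMor Scheme.fppfPrecoverage (FibCat.fpFst w h)) :
    AlgSt.IsQuasiCompactMor Scheme.fppfPrecoverage h := by
  intro 𝒵 h𝒵 hqc k
  obtain ⟨U, x, hU, hx1, hx2⟩ := hqc
  haveI := hU
  have hUalg := isAlgStack_overCat U
  refine isQuasiCompact_fp_of_surj_left hUalg h𝒜 hℬ h𝒵 x hx2 k h ?_
  obtain ⟨κ, hκ⟩ : ∃ κ : FibCat.overCat U ⥤ᵇ ℬ, κ = BasedFunctor.comp x k := ⟨_, rfl⟩
  rw [← hκ]
  have hs := (locSurjObj_iff _ w h𝒲.isStack.1).1 hw (κ.obj (Over.mk (𝟙 U))) U (κ.w_obj _)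
  have a3 : AlgSt.IsAlgStack Scheme.fppfPrecoverage (FibCat.fp κ h) :=
    Groth.Agent.S12763.result hℬ.isStack hℬ.diag hUalg h𝒜 κ h
  have loc : ∀ u : ↥U.left, ∃ (V : Over S) (γ : V ⟶ U) (v : ↥V.left), IsAffine V.left ∧
      IsOpenMap γ.left ∧ γ.left v = u ∧
      AlgSt.IsQuasiCompact (FibCat.fp (overMap' γ) (FibCat.fpFst κ h)) := by
    intro u
    obtain ⟨T, γ₀, t, hγ₀, hγt, hflat, hlfp⟩ := exists_pt_mem_sieve _ hs u
    obtain ⟨i, v₀, hv₀⟩ := T.left.affineCover.exists_eq t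
    have key : ∃ (V : Over S) (γ : V ⟶ U) (v : ↥V.left), IsAffine V.left ∧ IsOpenMap γ.left ∧
        γ.left v = u ∧ objSieve w h𝒲.isStack.1 (κ.obj (Over.mk (𝟙 U))) U γ := by
      refine ⟨Over.mk (T.left.affineCover.f i ≫ T.hom),
        (Over.homMk (T.left.affineCover.f i) rfl :
          Over.mk (T.left.affineCover.f i ≫ T.hom) ⟶ T) ≫ γ₀, v₀, ?_, ?_, ?_, ?_⟩
      · show IsAffine (T.left.affineCover.X i)
        infer_instance
      · have hfl : Flat (T.left.affineCover.f i ≫ γ₀.left) := inferInstance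
        have hlf : LocallyOfFinitePresentation (T.left.affineCover.f i ≫ γ₀.left) := inferInstance
        exact (T.left.affineCover.f i ≫ γ₀.left).isOpenMap
      · show (T.left.affineCover.f i ≫ γ₀.left) v₀ = u
        rw [Scheme.Hom.comp_apply, hv₀, hγt]
      · exact Sieve.downward_closed _ hγ₀ _
    obtain ⟨V, γ, v, hVa, hop, hvu, a, m, hm⟩ := key
    haveI := hVa
    obtain ⟨ξ, ⟨θ⟩⟩ := exists_chart_iso_of_lift h𝒲.isStack.1 hℬ.isStack.1 w γ κ a m hm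
    have hValg := isAlgStack_overCat V
    have qc1 : AlgSt.IsQuasiCompact (FibCat.fp ξ (FibCat.fpFst w h)) :=
      H (FibCat.overCat V) hValg (isQuasiCompact_overCat V) ξ
    have qc2 : AlgSt.IsQuasiCompact (FibCat.fp (BasedFunctor.comp ξ w) h) :=
      isQuasiCompact_of_isEquivOver (paste1 ξ w h) (isEquivOver_paste1 ξ w h) qc1
    have := id_full ℬ
    have := id_faithful ℬ
    have hE : FibCat.IsEquivOver (fpMap (γ := BasedFunctor.id ℬ)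
        (α := BasedFunctor.id (FibCat.overCat V)) (β := BasedFunctor.id 𝒜)
        (G' := BasedFunctor.comp (overMap' γ) κ) (G := BasedFunctor.comp ξ w) (f' := h) (f := h)
        θ (Iso.refl _)) :=
      isEquivOver_fpMap _ _ (isEquivOver_id _) (isEquivOver_id _)
    have qc3 : AlgSt.IsQuasiCompact (FibCat.fp (BasedFunctor.comp (overMap' γ) κ) h) :=
      isQuasiCompact_of_isEquivOver' _ hE qc2
    exact ⟨V, γ, v, hVa, hop, hvu,
      isQuasiCompact_of_isEquivOver' (paste1 (overMap' γ) κ h) (isEquivOver_paste1 _ κ h) qc3⟩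
  choose V γ v hVaff hopen hγv hqcV using loc
  obtain ⟨s, hs'⟩ := isCompact_univ.elim_finite_subcover (fun u => Set.range (γ u).left)
    (fun u => (hopen u).isOpen_range) (fun u _ => Set.mem_iUnion.2 ⟨u, v u, hγv u⟩)
  have a4 : ∀ u, AlgSt.IsAlgStack Scheme.fppfPrecoverage
      (FibCat.fp (overMap' (γ u)) (FibCat.fpFst κ h)) := fun u =>
    Groth.Agent.S12763.result hUalg.isStack hUalg.diag (isAlgStack_overCat (V u)) a3
      (overMap' (γ u)) (FibCat.fpFst κ h)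
  haveI : CompactSpace (AlgSt.Points (FibCat.fp κ h)) := by
    constructor
    have hcov : (Set.univ : Set (AlgSt.Points (FibCat.fp κ h))) ⊆ ⋃ u ∈ s,
        Set.range (AlgSt.Points.map (FibCat.fpSnd (overMap' (γ u)) (FibCat.fpFst κ h))) := by
      intro z _
      obtain ⟨q, hq⟩ := AlgSt.Points.mk_surjective (AlgSt.Points.map (FibCat.fpFst κ h) z)
      have hu := hs' (Set.mem_univ (ptOf q))
      simp only [Set.mem_iUnion] at hu
      obtain ⟨u, hus, v', hv'⟩ := hu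
      have hτ : AlgSt.Points.map (overMap' (γ u)) (AlgSt.Points.mk (resFPt (V u) v')) =
          AlgSt.Points.map (FibCat.fpFst κ h) z := by
        rw [map_resFPt, homOfOver_overMap', hv', ← mk_eq_mk_resFPt, hq]
      obtain ⟨w', -, hw2⟩ := exists_fp_point a3.isStack.1 hUalg.isStack.1
        (isAlgStack_overCat (V u)).isStack.1 (FibCat.fpFst κ h) (overMap' (γ u)) _ z hτ
      exact Set.mem_iUnion₂.2 ⟨u, hus, w', hw2⟩
    refine IsCompact.of_isClosed_subset (s.isCompact_biUnion (fun u _ => ?_)) isClosed_univ hcov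
    haveI := compactSpace_points_of_isQuasiCompact (a4 u) (hqcV u)
    exact isCompact_range (continuous_points_map a3 _)
  exact isQuasiCompact_of_compactSpace_points a3

end Chart

section Main

variable {𝒳 𝒴 : AlgSt.Cat S}

theorem isQuasiCompactMor_diag_toSelf_of_isGerbeOver
    (h𝒳 : AlgSt.IsAlgStack Scheme.fppfPrecoverage 𝒳)
    (h𝒴 : AlgSt.IsAlgStack Scheme.fppfPrecoverage 𝒴) (f : 𝒳 ⥤ᵇ 𝒴)
    (hf : Gerb.IsGerbeOver (QuotSh.J Scheme.fppfPrecoverage S) f)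
    (hΔ : AlgSt.IsQuasiCompactMor Scheme.fppfPrecoverage (FibCat.diag (FibCat.toSelf 𝒳))) :
    AlgSt.IsQuasiCompactMor Scheme.fppfPrecoverage (FibCat.diag (FibCat.toSelf 𝒴)) := by
  obtain ⟨t, ht⟩ : ∃ t : 𝒴 ⥤ᵇ FibCat.selfOver (Over S), t = FibCat.toSelf 𝒴 := ⟨_, rfl⟩
  rw [← ht]
  have hΔ' : AlgSt.IsQuasiCompactMor Scheme.fppfPrecoverage
      (FibCat.diag (BasedFunctor.comp f t)) := by
    have e : BasedFunctor.comp f t = FibCat.toSelf 𝒳 := by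
      rw [ht]
      exact comp_toSelf f
    rw [e]
    exact hΔ
  have hself : AlgSt.IsAlgStack Scheme.fppfPrecoverage (FibCat.selfOver (Over S)) :=
    isAlgStack_selfOver
  have f𝒳 := h𝒳.isStack.1
  have f𝒴 := h𝒴.isStack.1
  have fS := hself.isStack.1
  have aXX : AlgSt.IsAlgStack Scheme.fppfPrecoverage (FibCat.fp f f) :=
    Groth.Agent.S12763.result h𝒴.isStack h𝒴.diag h𝒳 h𝒳 f f
  have aXSX : AlgSt.IsAlgStack Scheme.fppfPrecoverage
      (FibCat.fp (BasedFunctor.comp f t) (BasedFunctor.comp f t)) :=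
    Groth.Agent.S12763.result hself.isStack hself.diag h𝒳 h𝒳 _ _
  have aYY : AlgSt.IsAlgStack Scheme.fppfPrecoverage (FibCat.fp t t) :=
    Groth.Agent.S12763.result hself.isStack hself.diag h𝒴 h𝒴 t t
  have h1 : AlgSt.IsQuasiCompactMor Scheme.fppfPrecoverage
      (BasedFunctor.comp (FibCat.diag f) (fpComp f t)) :=
    isQuasiCompactMor_of_iso _ _ (diagCompIso f t).symm hΔ'
  have h2 : AlgSt.IsQuasiCompactMor Scheme.fppfPrecoverage (fpComp f t) :=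
    isQuasiCompactMor_of_comp_surjective h𝒳 aXX aXSX (FibCat.diag f) (fpComp f t)
      (isSurjective_diag_of_locSurjHom f𝒳 f𝒴 f hf.2) h1
  have hE := isEquivOver_magLam f f t (compE f t) (fun _ => rfl) f𝒳 f𝒳 f𝒴 fS
  have aM : AlgSt.IsAlgStack Scheme.fppfPrecoverage
      (FibCat.fp (magN f f t) (FibCat.diag t)) :=
    Groth.Agent.S12763.result aYY.isStack aYY.diag aXSX h𝒴 _ _
  have h3 : AlgSt.IsQuasiCompactMor Scheme.fppfPrecoverage
      (BasedFunctor.comp (magLam f f t (compE f t) (fun _ => rfl))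
        (FibCat.fpFst (magN f f t) (FibCat.diag t))) :=
    isQuasiCompactMor_of_iso _ _ (Iso.refl _) h2
  have h4 : AlgSt.IsQuasiCompactMor Scheme.fppfPrecoverage
      (FibCat.fpFst (magN f f t) (FibCat.diag t)) :=
    isQuasiCompactMor_of_comp_surjective aXX aM aXSX _ _
      (points_map_bijective_of_isEquivOver _ hE).2 h3
  exact isQuasiCompactMor_of_locSurjObj_cover h𝒴 aYY aXSX (FibCat.diag t) (magN f f t)
    (locSurjObj_magN _ f f t f𝒳 f𝒳 fS hf.1 hf.1) h4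

end Main

end H10PT
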