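import Mathlib
import Groth.Agent.Lib.Helper10.GerbeQC
import Groth.Agent.Lib.Helper10.AlgStSmoothLocus
import Groth.Agent.Lib.Helper28.AlgSt.MonoField
import Groth.Agent.S12774

/-!
# Monomorphisms of algebraic stacks: lifting and quasi-compactness of fibre products

* `Liftable f c`: the 1-morphism `c : (Sch/Z) ⟶ 𝒳` lifts through `f : 𝒴 ⟶ 𝒳` up to 2-isomorphism.
* `isQuasiCompact_fp_of_liftable`: for a monomorphism `f` and `T` affine, if `a : (Sch/T) ⟶ 𝒳` lifts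
  then `(Sch/T) ×_𝒳 𝒴` is quasi-compact.
* `isQuasiCompact_of_isEmpty_points`.
* `liftable_of_field`: over the spectrum of a field, a monomorphism with nonempty fibre admits a lift.
* `isQuasiCompact_fp_of_finite_cover`: quasi-compactness of `(Sch/T) ×_𝒳 𝒴` can be tested on a finite
  jointly surjective family `Z k ⟶ T`.
-/

set_option autoImplicit false
set_option backward.isDefEq.respectTransparency false
set_option backward.isDefEq.respectTransparency.types false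

universe u

open CategoryTheory CategoryTheory.Limits AlgebraicGeometry Opposite

namespace H10PT.MonoQC

open Groth.Agent.Lib.Helper10.Fib Groth.Agent.Lib.Helper10.Gerbe Groth.Agent.Lib.Helper10.AlgStRep
open Groth.Agent.Lib.Helper28.AlgSt.ChartOver Groth.Agent.Lib.Helper28.AlgSt.SpaceCalc
open Groth.Agent.Lib.Helper28.AlgSt.PropInst Groth.Agent.Lib.Helper28.AlgSt.Key
open Groth.Agent.Lib.Helper28.AlgSt.IsoEquiv Groth.Agent.Lib.Helper28.AlgSt.Descent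
open Groth.Agent.Lib.Helper16 Groth.Agent.Lib.Helper16.AlgStDC
open Groth.Agent.Lib.Helper28.AlgSt.Whisker

variable {S : Scheme.{u}} {𝒳 𝒴 : AlgSt.Cat S}

/-- `c` lifts through `f` up to 2-isomorphism. -/
def Liftable (f : 𝒴 ⥤ᵇ 𝒳) {Z : Over S} (c : FibCat.overCat Z ⥤ᵇ 𝒳) : Prop :=
  ∃ y : FibCat.overCat Z ⥤ᵇ 𝒴, Nonempty (BasedFunctor.comp y f ≅ c)

theorem Liftable.of_iso {f : 𝒴 ⥤ᵇ 𝒳} {Z : Over S} {c c' : FibCat.overCat Z ⥤ᵇ 𝒳} (θ : c ≅ c')
    (h : Liftable f c) : Liftable f c' := by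
  obtain ⟨y, ⟨ι⟩⟩ := h
  exact ⟨y, ⟨ι ≪≫ θ⟩⟩

theorem Liftable.precomp {f : 𝒴 ⥤ᵇ 𝒳} {Z Z' : Over S} {c : FibCat.overCat Z ⥤ᵇ 𝒳}
    (G : FibCat.overCat Z' ⥤ᵇ FibCat.overCat Z) (h : Liftable f c) :
    Liftable f (BasedFunctor.comp G c) := by
  obtain ⟨y, ⟨ι⟩⟩ := h
  exact ⟨BasedFunctor.comp G y, ⟨wl G ι⟩⟩

/-- Quasi-compactness of `𝒵 ×_𝒳 𝒴` only depends on the 2-isomorphism class of `𝒵 ⟶ 𝒳`. -/
theorem isQuasiCompact_fp_of_iso_left {𝒵 : AlgSt.Cat S} (f : 𝒴 ⥤ᵇ 𝒳) (c c' : 𝒵 ⥤ᵇ 𝒳) (θ : c' ≅ c)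
    (h : AlgSt.IsQuasiCompact (FibCat.fp c f)) : AlgSt.IsQuasiCompact (FibCat.fp c' f) := by
  have := id_full 𝒳
  have := id_faithful 𝒳
  obtain ⟨e₁, -⟩ : ∃ _ : BasedFunctor.comp c' (BasedFunctor.id 𝒳) ≅
      BasedFunctor.comp (BasedFunctor.id 𝒵) c, True := ⟨θ, trivial⟩
  obtain ⟨e₂, -⟩ : ∃ _ : BasedFunctor.comp f (BasedFunctor.id 𝒳) ≅
      BasedFunctor.comp (BasedFunctor.id 𝒴) f, True := ⟨Iso.refl _, trivial⟩
  exact isQuasiCompact_of_isEquivOver' (fpMap e₁ e₂)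
    (isEquivOver_fpMap e₁ e₂ (isEquivOver_id _) (isEquivOver_id _)) h

theorem isQuasiCompact_of_isEmpty_points {𝒵 : AlgSt.Cat S}
    (h𝒵 : AlgSt.IsAlgStack Scheme.fppfPrecoverage 𝒵) (h : IsEmpty (AlgSt.Points 𝒵)) :
    AlgSt.IsQuasiCompact 𝒵 := by
  haveI := h
  haveI : CompactSpace (AlgSt.Points 𝒵) := Finite.compactSpace
  exact isQuasiCompact_of_compactSpace_points h𝒵

/-- For a monomorphism `f` and `T` affine, if `a : (Sch/T) ⟶ 𝒳` lifts through `f` then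
`(Sch/T) ×_𝒳 𝒴` is quasi-compact: the section given by the lift is surjective on points. -/
theorem isQuasiCompact_fp_of_liftable (h𝒳 : AlgSt.IsAlgStack Scheme.fppfPrecoverage 𝒳)
    (h𝒴 : AlgSt.IsAlgStack Scheme.fppfPrecoverage 𝒴) (f : 𝒴 ⥤ᵇ 𝒳) (ha : AlgSt.IsMono f)
    (T : Over S) [IsAffine T.left] (a : FibCat.overCat T ⥤ᵇ 𝒳) (h : Liftable f a) :
    AlgSt.IsQuasiCompact (FibCat.fp a f) := by
  obtain ⟨y, ⟨ι⟩⟩ := h
  have hT := isAlgStack_overCat T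
  have a1 : AlgSt.IsAlgStack Scheme.fppfPrecoverage (FibCat.fp a f) :=
    Groth.Agent.S12763.result h𝒳.isStack h𝒳.diag hT h𝒴 a f
  haveI : f.toFunctor.Full := (Groth.Agent.S12774.result h𝒴.isStack.1 h𝒳.isStack.1 f ha).1
  obtain ⟨θ, -⟩ : ∃ θ : BasedFunctor.comp (BasedFunctor.id (FibCat.overCat T)) a ≅
      BasedFunctor.comp y f, True := ⟨ι.symm, trivial⟩
  obtain ⟨σ, hσ⟩ : ∃ σ : FibCat.overCat T ⥤ᵇ FibCat.fp a f,
      σ = FibCat.fpLift (BasedFunctor.id _) y θ := ⟨_, rfl⟩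
  refine isQuasiCompact_of_isSurjective hT a1 σ ?_ (isQuasiCompact_overCat T)
  intro ξ
  obtain ⟨q, rfl⟩ := AlgSt.Points.mk_surjective ξ
  refine ⟨AlgSt.Points.mk (q.map (FibCat.fpFst a f)), ?_⟩
  apply AlgSt.Points.sound
  subst hσ
  obtain ⟨β, hβ⟩ := f.toFunctor.map_surjective
    ((((BasedNatTrans.forgetful _ _).mapIso θ).app q.obj.obj.fst).inv ≫ q.obj.obj.iso.hom)
  refine ⟨(q.map (FibCat.fpFst a f)).map (FibCat.fpLift (BasedFunctor.id _) y θ), 𝟙 _, ?_, trivial⟩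
  refine fpHom a f (𝟙 _) β ?_
  rw [hβ]
  show a.map (𝟙 _) ≫ q.obj.obj.iso.hom =
    (((BasedNatTrans.forgetful _ _).mapIso θ).app q.obj.obj.fst).hom ≫
      (((BasedNatTrans.forgetful _ _).mapIso θ).app q.obj.obj.fst).inv ≫ q.obj.obj.iso.hom
  rw [Iso.hom_inv_id_assoc]
  simp


/-- Over the spectrum of a field, a monomorphism with nonempty fibre admits a lift. -/
theorem liftable_of_field (h𝒳 : AlgSt.IsAlgStack Scheme.fppfPrecoverage 𝒳)
    (h𝒴 : AlgSt.IsAlgStack Scheme.fppfPrecoverage 𝒴) (f : 𝒴 ⥤ᵇ 𝒳) (ha : AlgSt.IsMono f)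
    (κ : Type u) [Field κ] (sκ : Spec (CommRingCat.of κ) ⟶ S)
    (b : FibCat.overCat (Over.mk sκ) ⥤ᵇ 𝒳) (hne : Nonempty (AlgSt.Points (FibCat.fp b f))) :
    Liftable f b := by
  obtain ⟨F, e, he, hmono⟩ := ha (Over.mk sκ) b
  have hT := isAlgStack_overCat (Over.mk sκ)
  have a1 : AlgSt.IsAlgStack Scheme.fppfPrecoverage (FibCat.fp b f) :=
    Groth.Agent.S12763.result h𝒳.isStack h𝒳.diag hT h𝒴 b f
  obtain ⟨g₀, hg₀⟩ : ∃ g₀ : FibCat.fp b f ⥤ᵇ FibCat.overCat (Over.mk sκ),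
      g₀ = FibCat.fpFst b f := ⟨_, rfl⟩
  rw [← hg₀] at hmono
  let m : F ⟶ (AlgSp.ofScheme S).obj (Over.mk sκ) :=
    ObjectProperty.homMk (AlgSt.spMapOfOver (BasedFunctor.comp e g₀))
  haveI : Mono m.hom := hmono
  rcases Groth.Agent.S9929.result sκ F m with hE | hI
  · exfalso
    obtain ⟨w⟩ := hne
    obtain ⟨w', -⟩ := (points_map_bijective_of_isEquivOver e he).2 w
    exact hE.false ((H10PT.ptsEquiv F.obj).symm w')
  · have hm : IsIso (AlgSt.spMapOfOver (BasedFunctor.comp e g₀)) :=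
      (inferInstance : IsIso ((ObjectProperty.ι _).map m))
    have hg₀iso : AlgSt.RepByAlgSpWith (MorphismProperty.isomorphisms (AlgSp.Sp S)) g₀ :=
      (repByAlgSpWith_iff_chart _ good_iso.bc good_iso.loc g₀ e he).2 hm
    have hequiv : FibCat.IsEquivOver g₀ :=
      isEquivOver_of_repWith_iso a1.isStack.1 (isFibGrpd_overForget _) g₀ hg₀iso
    obtain ⟨G, ⟨η⟩, ⟨ε⟩⟩ := hequiv
    subst hg₀
    refine ⟨BasedFunctor.comp G (FibCat.fpSnd b f), ⟨?_⟩⟩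
    exact (wl G (FibCat.fpIso b f).symm) ≪≫ (wr ε b)


/-- Quasi-compactness of `(Sch/T) ×_𝒳 𝒴` can be tested on a finite jointly surjective family
`Z k ⟶ T`. -/
theorem isQuasiCompact_fp_of_finite_cover (h𝒳 : AlgSt.IsAlgStack Scheme.fppfPrecoverage 𝒳)
    (h𝒴 : AlgSt.IsAlgStack Scheme.fppfPrecoverage 𝒴) (f : 𝒴 ⥤ᵇ 𝒳)
    (T : Over S) (a : FibCat.overCat T ⥤ᵇ 𝒳) {ι : Type*} [Finite ι] (Z : ι → Over S)
    (j : ∀ k, Z k ⟶ T) (hcov : ∀ t : ↥T.left, ∃ (k : ι) (z : ↥(Z k).left), (j k).left z = t)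
    (H : ∀ k, AlgSt.IsQuasiCompact (FibCat.fp (BasedFunctor.comp (AlgSt.overMap (j k)) a) f)) :
    AlgSt.IsQuasiCompact (FibCat.fp a f) := by
  have hT := isAlgStack_overCat T
  have a1 : AlgSt.IsAlgStack Scheme.fppfPrecoverage (FibCat.fp a f) :=
    Groth.Agent.S12763.result h𝒳.isStack h𝒳.diag hT h𝒴 a f
  have hP : ∀ k, AlgSt.IsAlgStack Scheme.fppfPrecoverage
      (FibCat.fp (AlgSt.overMap (j k)) (FibCat.fpFst a f)) := fun k =>
    Groth.Agent.S12763.result hT.isStack hT.diag (isAlgStack_overCat (Z k)) a1 _ _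
  have hqc : ∀ k, AlgSt.IsQuasiCompact (FibCat.fp (AlgSt.overMap (j k)) (FibCat.fpFst a f)) :=
    fun k => isQuasiCompact_of_isEquivOver' (paste1 (AlgSt.overMap (j k)) a f)
      (isEquivOver_paste1 (AlgSt.overMap (j k)) a f) (H k)
  have hcomp : ∀ k, IsCompact (Set.range (AlgSt.Points.map
      (FibCat.fpSnd (AlgSt.overMap (j k)) (FibCat.fpFst a f)))) := fun k => by
    haveI := compactSpace_points_of_isQuasiCompact (hP k) (hqc k)
    exact isCompact_range (continuous_points_map a1 _)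
  have hU : (⋃ k, Set.range (AlgSt.Points.map
      (FibCat.fpSnd (AlgSt.overMap (j k)) (FibCat.fpFst a f)))) = Set.univ := by
    apply Set.eq_univ_of_forall
    intro ξ
    obtain ⟨q, hq⟩ := AlgSt.Points.mk_surjective (AlgSt.Points.map (FibCat.fpFst a f) ξ)
    obtain ⟨k, z, hz⟩ := hcov (ptOf q)
    have h1 : AlgSt.Points.map (AlgSt.overMap (j k)) (AlgSt.Points.mk (resFPt (Z k) z)) =
        AlgSt.Points.map (FibCat.fpFst a f) ξ := by
      rw [map_resFPt, homOfOver_overMap, hz, ← mk_eq_mk_resFPt, hq]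
    obtain ⟨w, -, hw⟩ := exists_fp_point a1.isStack.1 hT.isStack.1
      (isAlgStack_overCat (Z k)).isStack.1 (FibCat.fpFst a f) (AlgSt.overMap (j k)) _ ξ h1
    exact Set.mem_iUnion.2 ⟨k, w, hw⟩
  haveI : CompactSpace (AlgSt.Points (FibCat.fp a f)) := by
    constructor
    rw [← hU]
    exact isCompact_iUnion hcomp
  exact isQuasiCompact_of_compactSpace_points a1


end H10PT.MonoQC
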