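import Mathlib
import Groth.Agent.Lib.Helper10.MonoQC1

/-!
# Monomorphisms of algebraic stacks: pullback covers and residue points

* `isoOfHomEq`: functors `(Sch/T) ⟶ (Sch/U)` over `(Sch/S)` with the same underlying morphism are
  2-isomorphic.
* `homOfOver_comp_overMap`.
* `isQuasiCompact_fp_of_two_cover`, `isQuasiCompact_fp_pullback_piece`,
  `isQuasiCompact_fp_of_two_pieces`: covering arguments.
* `isQuasiCompact_fp_of_isEmpty`.
* `exists_residue_point_of_fp_point`: a point of `(Sch/T) ×_𝒳 𝒴` gives a point of the fibre over a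
  residue field point.
-/

set_option autoImplicit false
set_option backward.isDefEq.respectTransparency false
set_option backward.isDefEq.respectTransparency.types false

universe u

open CategoryTheory CategoryTheory.Limits AlgebraicGeometry Opposite

namespace H10PT.MonoQC

open Groth.Agent.Lib.Helper10.Fib Groth.Agent.Lib.Helper10.Gerbe Groth.Agent.Lib.Helper10.AlgStRep
open Groth.Agent.Lib.Helper28.AlgSt.ChartOver Groth.Agent.Lib.Helper28.AlgSt.SpaceCalc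
open Groth.Agent.Lib.Helper28.AlgSt.PropInst Groth.Agent.Lib.Helper28.AlgSt.Key
open Groth.Agent.Lib.Helper28.AlgSt.IsoEquiv Groth.Agent.Lib.Helper28.AlgSt.Descent
open Groth.Agent.Lib.Helper16 Groth.Agent.Lib.Helper16.AlgStDC
open Groth.Agent.Lib.Helper28.AlgSt.Whisker

variable {S : Scheme.{u}} {𝒳 𝒴 : AlgSt.Cat S}

/-- Functors `(Sch/T) ⟶ (Sch/U)` over `(Sch/S)` with the same underlying morphism are
2-isomorphic. -/
noncomputable def isoOfHomEq {T U : Over S} (G₁ G₂ : FibCat.overCat T ⥤ᵇ FibCat.overCat U)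
    (h : homOfOver G₁ = homOfOver G₂) : G₁ ≅ G₂ :=
  isoOverMap G₁ ≪≫ eqToIso (congrArg overMap' h) ≪≫ (isoOverMap G₂).symm

theorem homOfOver_comp_overMap {T U V : Over S} (G : FibCat.overCat T ⥤ᵇ FibCat.overCat U)
    (ζ : U ⟶ V) : homOfOver (BasedFunctor.comp G (AlgSt.overMap ζ)) = homOfOver G ≫ ζ := by
  have e : BasedFunctor.comp G (AlgSt.overMap ζ) ≅
      BasedFunctor.comp (AlgSt.overMap (homOfOver G)) (AlgSt.overMap ζ) :=
    wr (isoOverMap G) (AlgSt.overMap ζ)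
  rw [homOfOver_eq_of_iso e, homOfOver_overMap_comp, homOfOver_overMap]

/-- If `T` has no points, `(Sch/T) ×_𝒳 𝒴` is quasi-compact. -/
theorem isQuasiCompact_fp_of_isEmpty (h𝒳 : AlgSt.IsAlgStack Scheme.fppfPrecoverage 𝒳)
    (h𝒴 : AlgSt.IsAlgStack Scheme.fppfPrecoverage 𝒴) (f : 𝒴 ⥤ᵇ 𝒳)
    (T : Over S) (a : FibCat.overCat T ⥤ᵇ 𝒳) (hT : IsEmpty ↥T.left) :
    AlgSt.IsQuasiCompact (FibCat.fp a f) := by
  have a1 : AlgSt.IsAlgStack Scheme.fppfPrecoverage (FibCat.fp a f) :=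
    Groth.Agent.S12763.result h𝒳.isStack h𝒳.diag (isAlgStack_overCat T) h𝒴 a f
  refine isQuasiCompact_of_isEmpty_points a1 ⟨fun ξ => ?_⟩
  obtain ⟨q, -⟩ := AlgSt.Points.mk_surjective (AlgSt.Points.map (FibCat.fpFst a f) ξ)
  exact hT.false (ptOf q)

/-- Binary form of `isQuasiCompact_fp_of_finite_cover`. -/
theorem isQuasiCompact_fp_of_two_cover (h𝒳 : AlgSt.IsAlgStack Scheme.fppfPrecoverage 𝒳)
    (h𝒴 : AlgSt.IsAlgStack Scheme.fppfPrecoverage 𝒴) (f : 𝒴 ⥤ᵇ 𝒳)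
    (T : Over S) (a : FibCat.overCat T ⥤ᵇ 𝒳) (Z₁ Z₂ : Over S) (j₁ : Z₁ ⟶ T) (j₂ : Z₂ ⟶ T)
    (hcov : ∀ t : ↥T.left, (∃ z : ↥Z₁.left, j₁.left z = t) ∨ (∃ z : ↥Z₂.left, j₂.left z = t))
    (H₁ : AlgSt.IsQuasiCompact (FibCat.fp (BasedFunctor.comp (AlgSt.overMap j₁) a) f))
    (H₂ : AlgSt.IsQuasiCompact (FibCat.fp (BasedFunctor.comp (AlgSt.overMap j₂) a) f)) :
    AlgSt.IsQuasiCompact (FibCat.fp a f) := by
  refine isQuasiCompact_fp_of_finite_cover h𝒳 h𝒴 f T a (ι := Bool)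
    (fun b => Bool.rec Z₂ Z₁ b) (fun b => Bool.rec j₂ j₁ b) ?_ ?_
  · intro t
    rcases hcov t with ⟨z, hz⟩ | ⟨z, hz⟩
    · exact ⟨true, z, hz⟩
    · exact ⟨false, z, hz⟩
  · intro b
    cases b
    · exact H₂
    · exact H₁

/-- The property of `c : (Sch/Z) ⟶ 𝒳` that all its affine base changes have quasi-compact fibre
product with `f`. -/
def QCAll (f : 𝒴 ⥤ᵇ 𝒳) {Z : Over S} (c : FibCat.overCat Z ⥤ᵇ 𝒳) : Prop :=
  ∀ (T : Over S) [IsAffine T.left] (G : FibCat.overCat T ⥤ᵇ FibCat.overCat Z),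
    AlgSt.IsQuasiCompact (FibCat.fp (BasedFunctor.comp G c) f)

theorem QCAll.of_iso {f : 𝒴 ⥤ᵇ 𝒳} {Z : Over S} {c c' : FibCat.overCat Z ⥤ᵇ 𝒳} (θ : c' ≅ c)
    (h : QCAll f c) : QCAll f c' := fun T _ G =>
  isQuasiCompact_fp_of_iso_left f _ _ (wl G θ) (h T G)

theorem QCAll.precomp {f : 𝒴 ⥤ᵇ 𝒳} {Z Z' : Over S} {c : FibCat.overCat Z ⥤ᵇ 𝒳}
    (G' : FibCat.overCat Z' ⥤ᵇ FibCat.overCat Z) (h : QCAll f c) :
    QCAll f (BasedFunctor.comp G' c) := fun T _ G => h T (BasedFunctor.comp G G')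

theorem qcAll_of_liftable (h𝒳 : AlgSt.IsAlgStack Scheme.fppfPrecoverage 𝒳)
    (h𝒴 : AlgSt.IsAlgStack Scheme.fppfPrecoverage 𝒴) (f : 𝒴 ⥤ᵇ 𝒳) (ha : AlgSt.IsMono f)
    {Z : Over S} (c : FibCat.overCat Z ⥤ᵇ 𝒳) (h : Liftable f c) : QCAll f c := fun T _ G =>
  isQuasiCompact_fp_of_liftable h𝒳 h𝒴 f ha T _ (h.precomp G)

/-- The pullback piece: for `G : (Sch/T) ⟶ (Sch/X)` and `ζ : Z ⟶ X` with `T`, `X`, `Z` affine, the
base change of `T` to `Z` is affine, so `QCAll` of `ζ ≫ a` applies to it. -/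
theorem isQuasiCompact_fp_of_two_pieces (h𝒳 : AlgSt.IsAlgStack Scheme.fppfPrecoverage 𝒳)
    (h𝒴 : AlgSt.IsAlgStack Scheme.fppfPrecoverage 𝒴) (f : 𝒴 ⥤ᵇ 𝒳)
    (X : Over S) [IsAffine X.left] (a : FibCat.overCat X ⥤ᵇ 𝒳)
    (T : Over S) [IsAffine T.left] (G : FibCat.overCat T ⥤ᵇ FibCat.overCat X)
    (Z₁ Z₂ : Over S) [IsAffine Z₁.left] [IsAffine Z₂.left] (ζ₁ : Z₁ ⟶ X) (ζ₂ : Z₂ ⟶ X)
    (hcov : ∀ t : ↥T.left, (∃ z : ↥Z₁.left, ζ₁.left z = (homOfOver G).left t) ∨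
      (∃ z : ↥Z₂.left, ζ₂.left z = (homOfOver G).left t))
    (H₁ : QCAll f (BasedFunctor.comp (AlgSt.overMap ζ₁) a))
    (H₂ : QCAll f (BasedFunctor.comp (AlgSt.overMap ζ₂) a)) :
    AlgSt.IsQuasiCompact (FibCat.fp (BasedFunctor.comp G a) f) := by
  have key : ∀ (Z : Over S) [IsAffine Z.left] (ζ : Z ⟶ X)
      (_ : QCAll f (BasedFunctor.comp (AlgSt.overMap ζ) a)),
      ∃ (T' : Over S) (j : T' ⟶ T),
        (∀ t : ↥T.left, (∃ z : ↥Z.left, ζ.left z = (homOfOver G).left t) →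
          ∃ t' : ↥T'.left, j.left t' = t) ∧
        AlgSt.IsQuasiCompact (FibCat.fp (BasedFunctor.comp (AlgSt.overMap j)
          (BasedFunctor.comp G a)) f) := by
    intro Z _ ζ H
    obtain ⟨g, hg⟩ : ∃ g : T ⟶ X, g = homOfOver G := ⟨_, rfl⟩
    rw [← hg]
    have hw : pullback.snd g.left ζ.left ≫ Z.hom = pullback.fst g.left ζ.left ≫ T.hom := by
      rw [← Over.w ζ, ← Over.w g, ← Category.assoc, ← Category.assoc, pullback.condition]
    obtain ⟨T', hT'⟩ : ∃ T' : Over S, T' = Over.mk (pullback.fst g.left ζ.left ≫ T.hom) :=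
      ⟨_, rfl⟩
    obtain ⟨j, hj⟩ : ∃ j : Over.mk (pullback.fst g.left ζ.left ≫ T.hom) ⟶ T,
        j = Over.homMk (pullback.fst g.left ζ.left) rfl := ⟨_, rfl⟩
    obtain ⟨j', hj'⟩ : ∃ j' : Over.mk (pullback.fst g.left ζ.left ≫ T.hom) ⟶ Z,
        j' = Over.homMk (pullback.snd g.left ζ.left) hw := ⟨_, rfl⟩
    refine ⟨_, j, ?_, ?_⟩
    · rintro t ⟨z, hz⟩
      obtain ⟨w, hw1, -⟩ := Scheme.Pullback.exists_preimage_pullback (f := g.left) (g := ζ.left)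
        t z hz.symm
      refine ⟨w, ?_⟩
      rw [hj]
      exact hw1
    · haveI : IsAffine (Over.mk (pullback.fst g.left ζ.left ≫ T.hom)).left :=
        (inferInstance : IsAffine (pullback g.left ζ.left))
      have hq := H _ (AlgSt.overMap j')
      have heq : homOfOver (BasedFunctor.comp (AlgSt.overMap j) G) =
          homOfOver (BasedFunctor.comp (AlgSt.overMap j') (AlgSt.overMap ζ)) := by
        rw [homOfOver_overMap_comp, homOfOver_overMap_comp, homOfOver_overMap, ← hg, hj, hj']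
        apply Over.OverMorphism.ext
        exact pullback.condition
      exact isQuasiCompact_fp_of_iso_left f _ _ (wr (isoOfHomEq _ _ heq) a) hq
  obtain ⟨T₁, j₁, hc₁, hq₁⟩ := key Z₁ ζ₁ H₁
  obtain ⟨T₂, j₂, hc₂, hq₂⟩ := key Z₂ ζ₂ H₂
  refine isQuasiCompact_fp_of_two_cover h𝒳 h𝒴 f T _ T₁ T₂ j₁ j₂ ?_ hq₁ hq₂
  intro t
  rcases hcov t with h | h
  · exact Or.inl (hc₁ t h)
  · exact Or.inr (hc₂ t h)


/-- The inclusion of the residue field point `p` of `X'`, as a morphism over `S`. -/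
noncomputable abbrev resHom (X' : Over S) (p : ↥X'.left) :
    Over.mk (X'.left.fromSpecResidueField p ≫ X'.hom) ⟶ X' :=
  Over.homMk (X'.left.fromSpecResidueField p) rfl

/-- A point of `(Sch/T') ×_𝒳 𝒴` gives a point of the fibre of `f` over the residue field point of
its image in `X'`. -/
theorem exists_residue_point_of_fp_point (h𝒳 : AlgSt.IsAlgStack Scheme.fppfPrecoverage 𝒳)
    (h𝒴 : AlgSt.IsAlgStack Scheme.fppfPrecoverage 𝒴) (f : 𝒴 ⥤ᵇ 𝒳) {X' : Over S}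
    (c : FibCat.overCat X' ⥤ᵇ 𝒳) (T' : Over S) (G : FibCat.overCat T' ⥤ᵇ FibCat.overCat X')
    (ξ : AlgSt.Points (FibCat.fp (BasedFunctor.comp G c) f)) :
    ∃ t : ↥T'.left, Nonempty (AlgSt.Points (FibCat.fp
      (BasedFunctor.comp (AlgSt.overMap (resHom X' ((homOfOver G).left t))) c) f)) := by
  obtain ⟨c'', hc''⟩ : ∃ c'' : FibCat.overCat T' ⥤ᵇ 𝒳, c'' = BasedFunctor.comp G c := ⟨_, rfl⟩
  rw [← hc''] at ξ
  obtain ⟨q, hq⟩ := AlgSt.Points.mk_surjective (AlgSt.Points.map (FibCat.fpFst c'' f) ξ)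
  refine ⟨ptOf q, ?_⟩
  obtain ⟨p, hp⟩ : ∃ p : ↥X'.left, p = (homOfOver G).left (ptOf q) := ⟨_, rfl⟩
  rw [← hp]
  obtain ⟨b, hb⟩ : ∃ b : FibCat.overCat (Over.mk (X'.left.fromSpecResidueField p ≫ X'.hom)) ⥤ᵇ 𝒳,
      b = BasedFunctor.comp (AlgSt.overMap (resHom X' p)) c := ⟨_, rfl⟩
  rw [← hb]
  have pt₀ : ↥(Over.mk (X'.left.fromSpecResidueField p ≫ X'.hom)).left :=
    (IsLocalRing.closedPoint (X'.left.residueField p) : ↥(Spec (X'.left.residueField p)))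
  have hL : AlgSt.Points.map b (AlgSt.Points.mk (resFPt _ pt₀)) = AlgSt.Points.ofChart c p := by
    rw [← ofChart_eq, hb, ofChart_comp, homOfOver_overMap]
    congr 1
    exact Scheme.fromSpecResidueField_apply _ _
  have hR : AlgSt.Points.map f (AlgSt.Points.map (FibCat.fpSnd c'' f) ξ) =
      AlgSt.Points.ofChart c p := by
    have h1 : AlgSt.Points.map f (AlgSt.Points.map (FibCat.fpSnd c'' f) ξ) =
        AlgSt.Points.map c'' (AlgSt.Points.map (FibCat.fpFst c'' f) ξ) := by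
      have := congrFun (points_map_eq_of_iso (FibCat.fpIso c'' f)) ξ
      rw [points_map_comp, points_map_comp] at this
      exact this.symm
    rw [h1, ← hq, map_mk_eq_ofChart, hc'', ofChart_comp, hp]
  have hT := isAlgStack_overCat (Over.mk (X'.left.fromSpecResidueField p ≫ X'.hom))
  obtain ⟨w, -, -⟩ := exists_fp_point h𝒴.isStack.1 h𝒳.isStack.1 hT.isStack.1 f b _ _
    (hL.trans hR.symm)
  exact ⟨w⟩


end H10PT.MonoQC
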