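import Mathlib
import Groth.Agent.Lib.Helper10.MonoQC2

/-!
# Monomorphisms of algebraic stacks: Noetherian induction

* `DenseLift f`: the generic lifting hypothesis.
* `exists_away_qcAll`: over a domain `B`, some nonempty basic open `D(h)` of `Spec B` has `QCAll`.
* `qcOn_of_noetherian`: over a Noetherian ring, Noetherian induction on closed subsets.
-/

set_option autoImplicit false
set_option backward.isDefEq.respectTransparency false
set_option backward.isDefEq.respectTransparency.types false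

universe u

open CategoryTheory CategoryTheory.Limits AlgebraicGeometry Opposite

namespace H10PT.MonoQC

open Groth.Agent.Lib.Helper10.Fib Groth.Agent.Lib.Helper10.Gerbe Groth.Agent.Lib.Helper10.AlgStRep
open Groth.Agent.Lib.Helper28.AlgSt.ChartOver Groth.Agent.Lib.Helper28.AlgSt.SpaceCalc
open Groth.Agent.Lib.Helper28.AlgSt.PropInst Groth.Agent.Lib.Helper28.AlgSt.Key
open Groth.Agent.Lib.Helper28.AlgSt.IsoEquiv Groth.Agent.Lib.Helper28.AlgSt.Descent
open Groth.Agent.Lib.Helper16 Groth.Agent.Lib.Helper16.AlgStDC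
open Groth.Agent.Lib.Helper28.AlgSt.Whisker

section Ring

theorem exists_quot_point {A : Type u} [CommRing A] (J : Ideal A)
    (x : ↥(Spec (CommRingCat.of A))) (hx : J ≤ x.asIdeal) :
    ∃ z : ↥(Spec (CommRingCat.of (A ⧸ J))),
      (Spec.map (CommRingCat.ofHom (Ideal.Quotient.mk J))) z = x := by
  have h := _root_.range_comap_of_surjective (A ⧸ J) (Ideal.Quotient.mk J)
    Ideal.Quotient.mk_surjective
  have hx' : x ∈ PrimeSpectrum.zeroLocus (RingHom.ker (Ideal.Quotient.mk J) : Set A) := by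
    rw [Ideal.mk_ker]
    exact hx
  rw [← h] at hx'
  obtain ⟨z, hz⟩ := hx'
  exact ⟨z, hz⟩

theorem quot_point_le {A : Type u} [CommRing A] (J : Ideal A)
    (z : ↥(Spec (CommRingCat.of (A ⧸ J)))) :
    J ≤ ((Spec.map (CommRingCat.ofHom (Ideal.Quotient.mk J))) z).asIdeal := by
  intro a ha
  show Ideal.Quotient.mk J a ∈ z.asIdeal
  rw [Ideal.Quotient.eq_zero_iff_mem.2 ha]
  exact z.asIdeal.zero_mem

theorem exists_away_point {B : Type u} [CommRing B] (h : B)
    (p : ↥(Spec (CommRingCat.of B))) (hp : h ∉ p.asIdeal) :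
    ∃ z : ↥(Spec (CommRingCat.of (Localization.Away h))),
      (Spec.map (CommRingCat.ofHom (algebraMap B (Localization.Away h)))) z = p := by
  have hr := PrimeSpectrum.localization_away_comap_range (Localization.Away h) h
  have hp' : p ∈ (PrimeSpectrum.basicOpen h : Set (PrimeSpectrum B)) := hp
  rw [← hr] at hp'
  obtain ⟨z, hz⟩ := hp'
  exact ⟨z, hz⟩

theorem away_point_notMem {B : Type u} [CommRing B] (h : B)
    (z : ↥(Spec (CommRingCat.of (Localization.Away h)))) :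
    h ∉ ((Spec.map (CommRingCat.ofHom (algebraMap B (Localization.Away h)))) z).asIdeal := by
  have hr := PrimeSpectrum.localization_away_comap_range (Localization.Away h) h
  have : (Spec.map (CommRingCat.ofHom (algebraMap B (Localization.Away h)))) z ∈
      (PrimeSpectrum.basicOpen h : Set (PrimeSpectrum B)) := by
    rw [← hr]
    exact ⟨z, rfl⟩
  exact this

theorem exists_basic_subset {B : Type u} [CommRing B] (V : Set ↥(Spec (CommRingCat.of B)))
    (hV : IsOpen V) (p : ↥(Spec (CommRingCat.of B))) (hp : p ∈ V) :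
    ∃ h : B, h ∉ p.asIdeal ∧ ∀ q : ↥(Spec (CommRingCat.of B)), h ∉ q.asIdeal → q ∈ V := by
  obtain ⟨v, ⟨h, rfl⟩, hpv, hvV⟩ :=
    (PrimeSpectrum.isTopologicalBasis_basic_opens (R := B)).exists_subset_of_mem_open hp hV
  exact ⟨h, hpv, fun q hq => hvV hq⟩

end Ring

variable {S : Scheme.{u}} {𝒳 𝒴 : AlgSt.Cat S}

/-- The generic lifting hypothesis: over a domain, a morphism to `𝒳` whose restrictions to a dense
set of residue field points lift through `f` lifts over a nonempty open. -/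
def DenseLift (f : 𝒴 ⥤ᵇ 𝒳) : Prop :=
  ∀ (A : Type u) [CommRing A] [IsDomain A] (sA : Spec (CommRingCat.of A) ⟶ S)
    (a : FibCat.overCat (Over.mk sA) ⥤ᵇ 𝒳) (D : Set ↥(Spec (CommRingCat.of A))), Dense D →
    (∀ p ∈ D, ∃ yp : FibCat.overCat (Over.mk ((Spec (CommRingCat.of A)).fromSpecResidueField p ≫ sA)) ⥤ᵇ 𝒴,
        Nonempty (BasedFunctor.comp yp f ≅ BasedFunctor.comp (AlgSt.overMap (Over.homMk ((Spec (CommRingCat.of A)).fromSpecResidueField p) rfl : Over.mk (((Spec (CommRingCat.of A)).fromSpecResidueField p) ≫ sA) ⟶ Over.mk sA)) a)) →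
    ∃ U : (Spec (CommRingCat.of A)).Opens, (U : Set ↥(Spec (CommRingCat.of A))).Nonempty ∧
      ∃ yU : FibCat.overCat (Over.mk (U.ι ≫ sA)) ⥤ᵇ 𝒴,
        Nonempty (BasedFunctor.comp yU f ≅ BasedFunctor.comp (AlgSt.overMap (Over.homMk (U.ι) rfl : Over.mk ((U.ι) ≫ sA) ⟶ Over.mk sA)) a)

/-- The closed immersion `Spec (A/J) ⟶ Spec A` over `S`. -/
noncomputable abbrev quotHom {A : Type u} [CommRing A] (sA : Spec (CommRingCat.of A) ⟶ S)
    (J : Ideal A) :
    Over.mk (Spec.map (CommRingCat.ofHom (Ideal.Quotient.mk J)) ≫ sA) ⟶ Over.mk sA :=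
  Over.homMk (Spec.map (CommRingCat.ofHom (Ideal.Quotient.mk J))) rfl

/-- The open immersion `Spec B_h ⟶ Spec B` over `S`. -/
noncomputable abbrev awayHom {B : Type u} [CommRing B] (sB : Spec (CommRingCat.of B) ⟶ S) (h : B) :
    Over.mk (Spec.map (CommRingCat.ofHom (algebraMap B (Localization.Away h))) ≫ sB) ⟶
      Over.mk sB :=
  Over.homMk (Spec.map (CommRingCat.ofHom (algebraMap B (Localization.Away h)))) rfl

theorem exists_away_qcAll (h𝒳 : AlgSt.IsAlgStack Scheme.fppfPrecoverage 𝒳)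
    (h𝒴 : AlgSt.IsAlgStack Scheme.fppfPrecoverage 𝒴) (f : 𝒴 ⥤ᵇ 𝒳) (ha : AlgSt.IsMono f)
    (hc : DenseLift f) (B : Type u) [CommRing B] [IsDomain B]
    (sB : Spec (CommRingCat.of B) ⟶ S) (aB : FibCat.overCat (Over.mk sB) ⥤ᵇ 𝒳) :
    ∃ h : B, h ≠ 0 ∧ QCAll f (BasedFunctor.comp (AlgSt.overMap (awayHom sB h)) aB) := by
  obtain ⟨D, hD⟩ : ∃ D : Set ↥(Spec (CommRingCat.of B)),
      D = {p | Liftable f (BasedFunctor.comp (AlgSt.overMap (resHom (Over.mk sB) p)) aB)} :=
    ⟨_, rfl⟩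
  by_cases hdense : Dense D
  · obtain ⟨U, ⟨p, hp⟩, hU⟩ := hc B sB aB D hdense (fun p hp => by rw [hD] at hp; exact hp)
    have hUl : Liftable f (BasedFunctor.comp (AlgSt.overMap
        (Over.homMk U.ι rfl : Over.mk (U.ι ≫ sB) ⟶ Over.mk sB)) aB) := hU
    obtain ⟨h, hhp, hhU⟩ := exists_basic_subset (U : Set ↥(Spec (CommRingCat.of B))) U.isOpen p hp
    refine ⟨h, ?_, ?_⟩
    · rintro rfl
      exact hhp p.asIdeal.zero_mem
    · apply qcAll_of_liftable h𝒳 h𝒴 f ha
      have hrange : Set.range (Spec.map (CommRingCat.ofHom (algebraMap B (Localization.Away h)))) ⊆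
          Set.range U.ι := by
        rintro _ ⟨z, rfl⟩
        rw [Scheme.Opens.range_ι]
        exact hhU _ (away_point_notMem h z)
      obtain ⟨l, hl⟩ : ∃ l : Spec (CommRingCat.of (Localization.Away h)) ⟶ ↑U,
          l ≫ U.ι = Spec.map (CommRingCat.ofHom (algebraMap B (Localization.Away h))) :=
        ⟨IsOpenImmersion.lift U.ι _ hrange, IsOpenImmersion.lift_fac _ _ _⟩
      have hw : l ≫ U.ι ≫ sB =
          Spec.map (CommRingCat.ofHom (algebraMap B (Localization.Away h))) ≫ sB := by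
        rw [← Category.assoc, hl]
      obtain ⟨l', hl'⟩ : ∃ l' : Over.mk (Spec.map (CommRingCat.ofHom
          (algebraMap B (Localization.Away h))) ≫ sB) ⟶ Over.mk (U.ι ≫ sB),
          l' = Over.homMk l hw := ⟨_, rfl⟩
      have heq : awayHom sB h = l' ≫ (Over.homMk U.ι rfl : Over.mk (U.ι ≫ sB) ⟶ Over.mk sB) := by
        apply Over.OverMorphism.ext
        rw [hl']
        exact hl.symm
      rw [heq]
      exact (hUl.precomp (AlgSt.overMap l')).of_iso (wr (overMapCompIso l' _) aB)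
  · rw [dense_iff_inter_open] at hdense
    push Not at hdense
    obtain ⟨V, hV, ⟨p, hp⟩, hVD⟩ := hdense
    obtain ⟨h, hhp, hhV⟩ := exists_basic_subset V hV p hp
    refine ⟨h, ?_, ?_⟩
    · rintro rfl
      exact hhp p.asIdeal.zero_mem
    · intro T _ G
      have a1 : AlgSt.IsAlgStack Scheme.fppfPrecoverage (FibCat.fp (BasedFunctor.comp G
          (BasedFunctor.comp (AlgSt.overMap (awayHom sB h)) aB)) f) :=
        Groth.Agent.S12763.result h𝒳.isStack h𝒳.diag (isAlgStack_overCat T) h𝒴 _ f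
      refine isQuasiCompact_of_isEmpty_points a1 ⟨fun ξ => ?_⟩
      obtain ⟨t, ⟨w⟩⟩ := exists_residue_point_of_fp_point h𝒳 h𝒴 f aB T
        (BasedFunctor.comp G (AlgSt.overMap (awayHom sB h))) ξ
      obtain ⟨p', hp'⟩ : ∃ p' : ↥(Spec (CommRingCat.of B)),
          p' = (homOfOver (BasedFunctor.comp G (AlgSt.overMap (awayHom sB h)))).left t := ⟨_, rfl⟩
      rw [← hp'] at w
      have hlift : Liftable f (BasedFunctor.comp (AlgSt.overMap (resHom (Over.mk sB) p')) aB) :=
        liftable_of_field h𝒳 h𝒴 f ha (↥((Spec (CommRingCat.of B)).residueField p'))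
          ((Spec (CommRingCat.of B)).fromSpecResidueField p' ≫ sB) _ ⟨w⟩
      have hp'V : p' ∈ V := by
        rw [hp', homOfOver_comp_overMap]
        exact hhV _ (away_point_notMem h _)
      have hmem : p' ∈ V ∩ D := by
        refine ⟨hp'V, ?_⟩
        rw [hD]
        exact hlift
      rw [hVD] at hmem
      exact hmem

/-- Affine schemes over `Spec A` landing in `V(I)` have quasi-compact fibre product with `f`. -/
def QCOnIdeal (f : 𝒴 ⥤ᵇ 𝒳) {A : Type u} [CommRing A] (sA : Spec (CommRingCat.of A) ⟶ S)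
    (a₀ : FibCat.overCat (Over.mk sA) ⥤ᵇ 𝒳) (I : Ideal A) : Prop :=
  ∀ (T : Over S) [IsAffine T.left] (G : FibCat.overCat T ⥤ᵇ FibCat.overCat (Over.mk sA)),
    (∀ t : ↥T.left, I ≤ (((homOfOver G).left t : ↥(Spec (CommRingCat.of A)))).asIdeal) →
    AlgSt.IsQuasiCompact (FibCat.fp (BasedFunctor.comp G a₀) f)

theorem qcOnIdeal_step (h𝒳 : AlgSt.IsAlgStack Scheme.fppfPrecoverage 𝒳)
    (h𝒴 : AlgSt.IsAlgStack Scheme.fppfPrecoverage 𝒴) (f : 𝒴 ⥤ᵇ 𝒳) (ha : AlgSt.IsMono f)
    (hc : DenseLift f) (A : Type u) [CommRing A]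
    (sA : Spec (CommRingCat.of A) ⟶ S) (a₀ : FibCat.overCat (Over.mk sA) ⥤ᵇ 𝒳) (I : Ideal A)
    (IH : ∀ J : Ideal A, I < J → QCOnIdeal f sA a₀ J) : QCOnIdeal f sA a₀ I := by
  intro T _ G hG
  haveI hX : IsAffine (Over.mk sA).left := (inferInstance : IsAffine (Spec (CommRingCat.of A)))
  have closedPiece : ∀ J : Ideal A, I < J →
      QCAll f (BasedFunctor.comp (AlgSt.overMap (quotHom sA J)) a₀) := by
    intro J hIJ T' _ G'
    refine IH J hIJ T' (BasedFunctor.comp G' (AlgSt.overMap (quotHom sA J))) (fun t => ?_)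
    rw [homOfOver_comp_overMap]
    exact quot_point_le J _
  by_cases hI : I.IsPrime
  · haveI := hI
    obtain ⟨h, hh0, hQ⟩ := exists_away_qcAll h𝒳 h𝒴 f ha hc (A ⧸ I)
      (Spec.map (CommRingCat.ofHom (Ideal.Quotient.mk I)) ≫ sA)
      (BasedFunctor.comp (AlgSt.overMap (quotHom sA I)) a₀)
    obtain ⟨h', rfl⟩ := Ideal.Quotient.mk_surjective h
    have hh' : h' ∉ I := fun hm => hh0 (Ideal.Quotient.eq_zero_iff_mem.2 hm)
    obtain ⟨J, hJ⟩ : ∃ J : Ideal A, J = I ⊔ Ideal.span {h'} := ⟨_, rfl⟩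
    have hh'J : h' ∈ J := by
      rw [hJ]
      exact Ideal.mem_sup_right (Ideal.subset_span (Set.mem_singleton h'))
    have hIJ : I < J := by
      refine lt_of_le_of_ne (by rw [hJ]; exact le_sup_left) (fun e => hh' ?_)
      rw [e]
      exact hh'J
    haveI hZ1 : IsAffine (Over.mk (Spec.map (CommRingCat.ofHom
        (algebraMap (A ⧸ I) (Localization.Away (Ideal.Quotient.mk I h')))) ≫
        Spec.map (CommRingCat.ofHom (Ideal.Quotient.mk I)) ≫ sA)).left :=
      (inferInstance : IsAffine (Spec _))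
    haveI hZ2 : IsAffine (Over.mk (Spec.map (CommRingCat.ofHom (Ideal.Quotient.mk J)) ≫ sA)).left :=
      (inferInstance : IsAffine (Spec _))
    refine isQuasiCompact_fp_of_two_pieces h𝒳 h𝒴 f (Over.mk sA) a₀ T G _ _
      (awayHom (Spec.map (CommRingCat.ofHom (Ideal.Quotient.mk I)) ≫ sA) (Ideal.Quotient.mk I h') ≫
        quotHom sA I) (quotHom sA J) ?_ ?_ (closedPiece J hIJ)
    · intro t
      obtain ⟨x, hx⟩ : ∃ x : ↥(Spec (CommRingCat.of A)), x = (homOfOver G).left t := ⟨_, rfl⟩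
      have hIx : I ≤ x.asIdeal := by rw [hx]; exact hG t
      by_cases hxh : h' ∈ x.asIdeal
      · right
        have hJx : J ≤ x.asIdeal := by
          rw [hJ]
          exact sup_le hIx ((Ideal.span_singleton_le_iff_mem _).2 hxh)
        obtain ⟨z, hz⟩ := exists_quot_point J x hJx
        exact ⟨z, hz.trans hx⟩
      · left
        obtain ⟨p, hp⟩ := exists_quot_point I x hIx
        have hph : Ideal.Quotient.mk I h' ∉ p.asIdeal := by
          intro hm
          apply hxh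
          rw [← hp]
          exact hm
        obtain ⟨z, hz⟩ := exists_away_point (Ideal.Quotient.mk I h') p hph
        refine ⟨z, ?_⟩
        show (Spec.map (CommRingCat.ofHom (Ideal.Quotient.mk I)))
          ((Spec.map (CommRingCat.ofHom (algebraMap (A ⧸ I)
            (Localization.Away (Ideal.Quotient.mk I h'))))) z) = _
        rw [hz, hp, hx]
    · exact hQ.of_iso (wr (overMapCompIso _ _).symm a₀)
  · rcases Ideal.not_isPrime_iff.1 hI with hI | ⟨x, hx, y, hy, hxy⟩
    · apply isQuasiCompact_fp_of_isEmpty h𝒳 h𝒴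
      refine ⟨fun t => ?_⟩
      have h1 := hG t
      rw [hI] at h1
      exact ((homOfOver G).left t : ↥(Spec (CommRingCat.of A))).isPrime.ne_top (top_le_iff.1 h1)
    · obtain ⟨J₁, hJ₁⟩ : ∃ J : Ideal A, J = I ⊔ Ideal.span {x} := ⟨_, rfl⟩
      obtain ⟨J₂, hJ₂⟩ : ∃ J : Ideal A, J = I ⊔ Ideal.span {y} := ⟨_, rfl⟩
      have hxJ : x ∈ J₁ := by
        rw [hJ₁]
        exact Ideal.mem_sup_right (Ideal.subset_span (Set.mem_singleton x))
      have hyJ : y ∈ J₂ := by
        rw [hJ₂]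
        exact Ideal.mem_sup_right (Ideal.subset_span (Set.mem_singleton y))
      have hIJ₁ : I < J₁ := by
        refine lt_of_le_of_ne (by rw [hJ₁]; exact le_sup_left) (fun e => hx ?_)
        rw [e]
        exact hxJ
      have hIJ₂ : I < J₂ := by
        refine lt_of_le_of_ne (by rw [hJ₂]; exact le_sup_left) (fun e => hy ?_)
        rw [e]
        exact hyJ
      haveI hZ1 : IsAffine (Over.mk (Spec.map (CommRingCat.ofHom (Ideal.Quotient.mk J₁)) ≫
          sA)).left := (inferInstance : IsAffine (Spec _))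
      haveI hZ2 : IsAffine (Over.mk (Spec.map (CommRingCat.ofHom (Ideal.Quotient.mk J₂)) ≫
          sA)).left := (inferInstance : IsAffine (Spec _))
      refine isQuasiCompact_fp_of_two_pieces h𝒳 h𝒴 f (Over.mk sA) a₀ T G _ _
        (quotHom sA J₁) (quotHom sA J₂) ?_ (closedPiece J₁ hIJ₁) (closedPiece J₂ hIJ₂)
      intro t
      obtain ⟨x', hx'⟩ : ∃ x' : ↥(Spec (CommRingCat.of A)), x' = (homOfOver G).left t := ⟨_, rfl⟩
      have hIx : I ≤ x'.asIdeal := by rw [hx']; exact hG t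
      rcases x'.isPrime.mem_or_mem (hIx hxy) with hm | hm
      · left
        have hJx : J₁ ≤ x'.asIdeal := by
          rw [hJ₁]
          exact sup_le hIx ((Ideal.span_singleton_le_iff_mem _).2 hm)
        obtain ⟨z, hz⟩ := exists_quot_point J₁ x' hJx
        exact ⟨z, hz.trans hx'⟩
      · right
        have hJx : J₂ ≤ x'.asIdeal := by
          rw [hJ₂]
          exact sup_le hIx ((Ideal.span_singleton_le_iff_mem _).2 hm)
        obtain ⟨z, hz⟩ := exists_quot_point J₂ x' hJx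
        exact ⟨z, hz.trans hx'⟩

/-- Noetherian induction: over a Noetherian ring `A`, for `a₀ : Spec A ⟶ 𝒳` and every ideal `I`,
affine schemes over `Spec A` landing in `V(I)` have quasi-compact fibre product with `f`. -/
theorem qcOn_of_noetherian (h𝒳 : AlgSt.IsAlgStack Scheme.fppfPrecoverage 𝒳)
    (h𝒴 : AlgSt.IsAlgStack Scheme.fppfPrecoverage 𝒴) (f : 𝒴 ⥤ᵇ 𝒳) (ha : AlgSt.IsMono f)
    (hc : DenseLift f) (A : Type u) [CommRing A] [IsNoetherianRing A]
    (sA : Spec (CommRingCat.of A) ⟶ S) (a₀ : FibCat.overCat (Over.mk sA) ⥤ᵇ 𝒳) (I : Ideal A) :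
    QCOnIdeal f sA a₀ I :=
  IsNoetherian.induction (P := fun I : Ideal A => QCOnIdeal f sA a₀ I)
    (fun I IH => qcOnIdeal_step h𝒳 h𝒴 f ha hc A sA a₀ I (fun J hJ => IH J hJ)) I

/-- Over a Noetherian ring `A`, every `a₀ : Spec A ⟶ 𝒳` has `QCAll`. -/
theorem qcAll_of_noetherian (h𝒳 : AlgSt.IsAlgStack Scheme.fppfPrecoverage 𝒳)
    (h𝒴 : AlgSt.IsAlgStack Scheme.fppfPrecoverage 𝒴) (f : 𝒴 ⥤ᵇ 𝒳) (ha : AlgSt.IsMono f)
    (hc : DenseLift f) (A : Type u) [CommRing A] [IsNoetherianRing A]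
    (sA : Spec (CommRingCat.of A) ⟶ S) (a₀ : FibCat.overCat (Over.mk sA) ⥤ᵇ 𝒳) :
    QCAll f a₀ := fun T _ G =>
  qcOn_of_noetherian h𝒳 h𝒴 f ha hc A sA a₀ ⊥ T G (fun _ => bot_le)


end H10PT.MonoQC
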