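import Mathlib
import Groth.Agent.Lib.Helper10.MonoQC3

/-!
# Monomorphisms of algebraic stacks: locally Noetherian charts

* `isQuasiCompact_fp_affine_piece`, `qcAll_of_isLocallyNoetherian`: for a locally Noetherian scheme
  `W` and `w : (Sch/W) ⟶ 𝒳`, every affine scheme over `W` has quasi-compact fibre product with `f`.
* `isQuasiCompactMor_of_denseLift`.
-/

set_option autoImplicit false
set_option backward.isDefEq.respectTransparency false
set_option backward.isDefEq.respectTransparency.types false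

universe u

open CategoryTheory CategoryTheory.Limits AlgebraicGeometry Opposite

namespace H10PT.MonoQC

open Groth.Agent.Lib.Helper10.Fib Groth.Agent.Lib.Helper10.Gerbe Groth.Agent.Lib.Helper10.AlgStRep
open Groth.Agent.Lib.Helper28.AlgSt.ChartOver Groth.Agent.Lib.Helper28.AlgSt.SpaceCalc
open Groth.Agent.Lib.Helper28.AlgSt.PropInst Groth.Agent.Lib.Helper28.AlgSt.Key
open Groth.Agent.Lib.Helper28.AlgSt.IsoEquiv Groth.Agent.Lib.Helper28.AlgSt.Descent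
open Groth.Agent.Lib.Helper16 Groth.Agent.Lib.Helper16.AlgStDC
open Groth.Agent.Lib.Helper28.AlgSt.Whisker

variable {S : Scheme.{u}} {𝒳 𝒴 : AlgSt.Cat S}

theorem isQuasiCompact_fp_affine_piece (h𝒳 : AlgSt.IsAlgStack Scheme.fppfPrecoverage 𝒳)
    (h𝒴 : AlgSt.IsAlgStack Scheme.fppfPrecoverage 𝒴) (f : 𝒴 ⥤ᵇ 𝒳) (ha : AlgSt.IsMono f)
    (hc : DenseLift f) (W : Over S) [IsLocallyNoetherian W.left] (w : FibCat.overCat W ⥤ᵇ 𝒳)
    (T : Over S) (G : FibCat.overCat T ⥤ᵇ FibCat.overCat W) (U : T.left.Opens) (O : W.left.Opens)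
    (hU : IsAffineOpen U) (hO : IsAffineOpen O) (hUO : U ≤ (homOfOver G).left ⁻¹ᵁ O) :
    AlgSt.IsQuasiCompact (FibCat.fp (BasedFunctor.comp
      (AlgSt.overMap (Over.homMk U.ι rfl : Over.mk (U.ι ≫ T.hom) ⟶ T))
      (BasedFunctor.comp G w)) f) := by
  obtain ⟨g, hg⟩ : ∃ g : T ⟶ W, g = homOfOver G := ⟨_, rfl⟩
  rw [← hg] at hUO
  haveI : IsNoetherianRing Γ(W.left, O) := IsLocallyNoetherian.component_noetherian ⟨O, hO⟩
  obtain ⟨φ, hφ⟩ : ∃ φ : Over.mk (hO.fromSpec ≫ W.hom) ⟶ W, φ = Over.homMk hO.fromSpec rfl :=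
    ⟨_, rfl⟩
  have Q : QCAll f (BasedFunctor.comp (AlgSt.overMap φ) w) :=
    qcAll_of_noetherian h𝒳 h𝒴 f ha hc (↑Γ(W.left, O)) (hO.fromSpec ≫ W.hom) _
  haveI : IsAffine (Over.mk (U.ι ≫ T.hom)).left := hU
  obtain ⟨m, hm⟩ : ∃ m : U.toScheme ⟶ Spec Γ(W.left, O), m ≫ hO.fromSpec = U.ι ≫ g.left :=
    ⟨g.left.resLE O U hUO ≫ hO.isoSpec.hom, by
      rw [Category.assoc, IsAffineOpen.isoSpec_hom_fromSpec, Scheme.Hom.resLE_comp_ι]⟩
  have hmw : m ≫ hO.fromSpec ≫ W.hom = U.ι ≫ T.hom := by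
    rw [← Category.assoc, hm, Category.assoc, Over.w g]
  obtain ⟨m', hm'⟩ : ∃ m' : Over.mk (U.ι ≫ T.hom) ⟶ Over.mk (hO.fromSpec ≫ W.hom),
      m' = Over.homMk m hmw := ⟨_, rfl⟩
  have hq := Q _ (AlgSt.overMap m')
  have heq : homOfOver (BasedFunctor.comp
      (AlgSt.overMap (Over.homMk U.ι rfl : Over.mk (U.ι ≫ T.hom) ⟶ T)) G) =
      homOfOver (BasedFunctor.comp (AlgSt.overMap m') (AlgSt.overMap φ)) := by
    rw [homOfOver_overMap_comp, homOfOver_overMap_comp, homOfOver_overMap, ← hg, hm', hφ]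
    apply Over.OverMorphism.ext
    exact hm.symm
  exact isQuasiCompact_fp_of_iso_left f _ _ (wr (isoOfHomEq _ _ heq) w) hq

/-- For a locally Noetherian scheme `W` and `w : (Sch/W) ⟶ 𝒳`, every affine scheme over `W` has
quasi-compact fibre product with `f`. -/
theorem qcAll_of_isLocallyNoetherian (h𝒳 : AlgSt.IsAlgStack Scheme.fppfPrecoverage 𝒳)
    (h𝒴 : AlgSt.IsAlgStack Scheme.fppfPrecoverage 𝒴) (f : 𝒴 ⥤ᵇ 𝒳) (ha : AlgSt.IsMono f)
    (hc : DenseLift f) (W : Over S) [IsLocallyNoetherian W.left] (w : FibCat.overCat W ⥤ᵇ 𝒳) :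
    QCAll f w := by
  intro T _ G
  have key : ∀ t : ↥T.left, ∃ (U : T.left.Opens) (O : W.left.Opens), IsAffineOpen U ∧
      IsAffineOpen O ∧ t ∈ U ∧ U ≤ (homOfOver G).left ⁻¹ᵁ O := by
    intro t
    obtain ⟨_, ⟨O, hO, rfl⟩, hxO, -⟩ := W.left.isBasis_affineOpens.exists_subset_of_mem_open
      (Set.mem_univ ((homOfOver G).left t)) isOpen_univ
    obtain ⟨_, ⟨U, hU, rfl⟩, htU, hUO⟩ := T.left.isBasis_affineOpens.exists_subset_of_mem_open
      (show t ∈ ((homOfOver G).left ⁻¹ᵁ O : Set ↥T.left) from hxO)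
      ((homOfOver G).left ⁻¹ᵁ O).isOpen
    exact ⟨U, O, hU, hO, htU, hUO⟩
  choose U O hU hO htU hUO using key
  obtain ⟨s, hs⟩ := isCompact_univ.elim_finite_subcover (fun t : ↥T.left => (U t : Set ↥T.left))
    (fun t => (U t).isOpen) (fun t _ => Set.mem_iUnion.2 ⟨t, htU t⟩)
  refine isQuasiCompact_fp_of_finite_cover h𝒳 h𝒴 f T (BasedFunctor.comp G w) (ι := ↥s)
    (fun k => Over.mk ((U k.1).ι ≫ T.hom)) (fun k => Over.homMk (U k.1).ι rfl) ?_ ?_
  · intro t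
    have ht := hs (Set.mem_univ t)
    simp only [Set.mem_iUnion] at ht
    obtain ⟨k, hk, htk⟩ := ht
    exact ⟨⟨k, hk⟩, ⟨t, htk⟩, rfl⟩
  · intro k
    exact isQuasiCompact_fp_affine_piece h𝒳 h𝒴 f ha hc W w T G (U k.1) (O k.1) (hU k.1) (hO k.1)
      (hUO k.1)

/-- The main theorem: a monomorphism into a locally Noetherian algebraic stack satisfying the generic
lifting hypothesis is quasi-compact. -/
theorem isQuasiCompactMor_of_denseLift (h𝒳 : AlgSt.IsAlgStack Scheme.fppfPrecoverage 𝒳)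
    (h𝒴 : AlgSt.IsAlgStack Scheme.fppfPrecoverage 𝒴)
    (hnoeth : AlgSt.SmoothLocally (fun X => IsLocallyNoetherian X) 𝒳) (f : 𝒴 ⥤ᵇ 𝒳)
    (ha : AlgSt.IsMono f) (hc : DenseLift f) :
    AlgSt.IsQuasiCompactMor Scheme.fppfPrecoverage f := by
  obtain ⟨W, w, hw1, hw2⟩ := h𝒳.atlas
  haveI : IsLocallyNoetherian W.left := hnoeth W w hw1
  have star : QCAll f w := qcAll_of_isLocallyNoetherian h𝒳 h𝒴 f ha hc W w
  have hW := isAlgStack_overCat W
  have a1 : AlgSt.IsAlgStack Scheme.fppfPrecoverage (FibCat.fp w f) :=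
    Groth.Agent.S12763.result h𝒳.isStack h𝒳.diag hW h𝒴 w f
  have H' : AlgSt.IsQuasiCompactMor Scheme.fppfPrecoverage (FibCat.fpFst w f) := by
    intro 𝒵' h𝒵' hq k
    obtain ⟨T, u, hT, hu1, hu2⟩ := hq
    haveI := hT
    refine isQuasiCompact_fp_of_surj_left (isAlgStack_overCat T) a1 hW h𝒵' u hu2 k
      (FibCat.fpFst w f) ?_
    exact isQuasiCompact_of_isEquivOver' (paste1 (BasedFunctor.comp u k) w f)
      (isEquivOver_paste1 (BasedFunctor.comp u k) w f) (star T (BasedFunctor.comp u k))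
  intro 𝒵 h𝒵 hq g
  exact isQuasiCompact_fp_of_cover h𝒴 h𝒳 hW h𝒵 f w (repFlat_of_smooth w hw1)
    (repLfp_of_smooth w hw1) hw2 H' hq g


end H10PT.MonoQC
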