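import Mathlib
import Groth.Agent.Lib.Helper10.MonoQC4
import Groth.Agent.Lib.Helper10.AlgStNoethImm
import Groth.Agent.Lib.Helper16.SchLocus

/-!
# Scheme charts of fibre products and lifting

* `exists_scheme_chart`: if `𝒜 ⟶ (Sch/W)` is represented by an algebraic space which is a scheme `Y`,
  there are an equivalence `E : (Sch/Y) ⟶ 𝒜` and `fY : Y ⟶ W` inducing the morphism.
* `liftable_of_factor`, `exists_factor_of_liftable`: for `E : (Sch/Y) ≃ (Sch/W) ×_𝒳 𝒴` over `fY`,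
  `Z ⟶ W ⟶ 𝒳` lifts through `f` iff `Z ⟶ W` factors through `fY`.
-/

set_option autoImplicit false
set_option backward.isDefEq.respectTransparency false
set_option backward.isDefEq.respectTransparency.types false

universe u

open CategoryTheory CategoryTheory.Limits AlgebraicGeometry Opposite

namespace H10PT.ImmQC

open Groth.Agent.Lib.Helper10.Fib Groth.Agent.Lib.Helper10.Gerbe Groth.Agent.Lib.Helper10.AlgStRep
open Groth.Agent.Lib.Helper28.AlgSt.ChartOver Groth.Agent.Lib.Helper28.AlgSt.SpaceCalc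
open Groth.Agent.Lib.Helper28.AlgSt.PropInst Groth.Agent.Lib.Helper28.AlgSt.Key
open Groth.Agent.Lib.Helper28.AlgSt.Bridge
open Groth.Agent.Lib.Helper16 Groth.Agent.Lib.Helper16.AlgStDC
open Groth.Agent.Lib.Helper28.AlgSt.Whisker
open H10PT.MonoQC

variable {S : Scheme.{u}} {𝒳 𝒴 : AlgSt.Cat S}

theorem exists_scheme_chart {𝒜 : AlgSt.Cat S} {W : Over S} (F : AlgSp.Space S)
    (hF : F.obj.obj.IsRepresentable) (e : AlgSt.ofSp F.obj ⥤ᵇ 𝒜) (he : FibCat.IsEquivOver e)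
    (j : 𝒜 ⥤ᵇ FibCat.overCat W) :
    ∃ (Y : Over S) (i : (AlgSp.yon S).obj Y ≅ F.obj) (fY : Y ⟶ W) (E : FibCat.overCat Y ⥤ᵇ 𝒜),
      FibCat.IsEquivOver E ∧
      i.hom ≫ AlgSt.spMapOfOver (BasedFunctor.comp e j) = (AlgSp.yon S).map fY ∧
      Nonempty (BasedFunctor.comp E j ≅ AlgSt.overMap fY) := by
  obtain ⟨Y, ⟨i⟩⟩ := Groth.Agent.Lib.Helper16.SchLocus.exists_iso_yon_of_isRepresentable hF
  obtain ⟨fY, hfY⟩ := (AlgSp.yon S).map_surjective
    (i.hom ≫ AlgSt.spMapOfOver (BasedFunctor.comp e j))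
  haveI : IsIso i.hom := inferInstance
  refine ⟨Y, i, fY, BasedFunctor.comp (AlgSt.ofOverCat Y) (BasedFunctor.comp (AlgSt.ofSpMap i.hom) e),
    isEquivOver_comp _ _ (isEquivOver_ofOverCat Y)
      (isEquivOver_comp _ _ (isEquivOver_ofSpMap_of_isIso i.hom) he), hfY.symm, ?_⟩
  have key : ∀ (m : (AlgSp.yon S).obj Y ⟶ (AlgSp.yon S).obj W), m = (AlgSp.yon S).map fY →
      Nonempty (BasedFunctor.comp (BasedFunctor.comp (AlgSt.ofOverCat Y) (AlgSt.ofSpMap m))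
        (AlgSt.toOverCat W) ≅ AlgSt.overMap fY) := by
    rintro _ rfl
    exact ⟨isoOfHomEq _ _ (by rw [homOfOver_chart, homOfOver_overMap])⟩
  obtain ⟨κ⟩ := key _ hfY.symm
  refine ⟨?_ ≪≫ κ⟩
  exact wl (AlgSt.ofOverCat Y) (wl (AlgSt.ofSpMap i.hom) (spIso (BasedFunctor.comp e j)))

section Factor

variable {W Y : Over S} (w : FibCat.overCat W ⥤ᵇ 𝒳) (f : 𝒴 ⥤ᵇ 𝒳) (fY : Y ⟶ W)
  (E : FibCat.overCat Y ⥤ᵇ FibCat.fp w f)
  (ψ : BasedFunctor.comp E (FibCat.fpFst w f) ≅ AlgSt.overMap fY)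

include ψ in
/-- A morphism `Z ⟶ W` that factors through `fY` lifts through `f`. -/
theorem liftable_of_factor {Z : Over S} (s : Z ⟶ W) (l : Z ⟶ Y) (hl : l ≫ fY = s) :
    Liftable f (BasedFunctor.comp (AlgSt.overMap s) w) := by
  subst hl
  refine ⟨BasedFunctor.comp (AlgSt.overMap l) (BasedFunctor.comp E (FibCat.fpSnd w f)), ⟨?_⟩⟩
  exact wl (BasedFunctor.comp (AlgSt.overMap l) E) (FibCat.fpIso w f).symm ≪≫
    wl (AlgSt.overMap l) (wr ψ w) ≪≫ wr (overMapCompIso l fY) w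

include ψ in
/-- A morphism `Z ⟶ W` that lifts through `f` factors through `fY`. -/
theorem exists_factor_of_liftable (hE : FibCat.IsEquivOver E) {Z : Over S} (s : Z ⟶ W)
    (h : Liftable f (BasedFunctor.comp (AlgSt.overMap s) w)) : ∃ l : Z ⟶ Y, l ≫ fY = s := by
  obtain ⟨y, ⟨θ⟩⟩ := h
  obtain ⟨E', ⟨η⟩, ⟨ε⟩⟩ := hE
  obtain ⟨L, hL⟩ : ∃ L : FibCat.overCat Z ⥤ᵇ FibCat.fp w f,
      L = FibCat.fpLift (AlgSt.overMap s) y θ.symm := ⟨_, rfl⟩
  refine ⟨homOfOver (BasedFunctor.comp L E'), ?_⟩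
  rw [← homOfOver_comp_overMap]
  have e1 : BasedFunctor.comp (BasedFunctor.comp L E') (AlgSt.overMap fY) ≅ AlgSt.overMap s := by
    refine wl (BasedFunctor.comp L E') ψ.symm ≪≫ ?_
    refine wl L (wr ε (FibCat.fpFst w f)) ≪≫ ?_
    rw [hL]
    exact Iso.refl _
  rw [homOfOver_eq_of_iso e1, homOfOver_overMap]

end Factor


end H10PT.ImmQC
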