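import Mathlib
import Groth.Agent.Lib.Helper10.Boot1

/-!
# Smooth covers by algebraic spaces, continued (helper10)
-/

set_option autoImplicit false
set_option backward.isDefEq.respectTransparency false
set_option backward.isDefEq.respectTransparency.types false

universe u

open CategoryTheory CategoryTheory.Limits AlgebraicGeometry Opposite

namespace H10PT.Boot

open Groth.Agent.Lib.Helper10.Fib Groth.Agent.Lib.Helper10.AlgStRep
open Groth.Agent.Lib.Helper10.StkPsh Groth.Agent.Lib.Helper10.HomSheaf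
open Groth.Agent.Lib.Helper10.StkPost Groth.Agent.Lib.Helper10.StkElem
open Groth.Agent.Lib.Helper28.AlgSt.Bridge Groth.Agent.Lib.Helper28.AlgSt.SpaceCalc
open Groth.Agent.Lib.Helper28.AlgSt.PropInst Groth.Agent.Lib.Helper28.AlgSt.Comp
open Groth.Agent.Lib.Helper28.AlgSt.Whisker Groth.Agent.Lib.Helper28.AlgSt.Key
open Groth.Agent.Lib.Helper28.AlgSt.Descent Groth.Agent.Lib.Helper28.AlgSt.DiagComp
open Groth.Agent.Lib.Helper28.AlgSt.ChartOver Groth.Agent.Lib.Helper28.AlgSt.IsoEquiv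
open Groth.Agent.Lib.Helper28.AlgSt.ClsPsh Groth.Agent.Lib.Helper28.AlgSt.PshFun
open Groth.Agent.Lib.Helper28.AlgSt.Chart Groth.Agent.Lib.Helper28.AlgSt.DiagRep
open Groth.Agent.Lib.Helper28.AlgSt.Basic Groth.Agent.Lib.Helper28.AlgSt.FpStack
open Groth.Agent.Lib.Helper28.AlgSt.StackDesc
open Groth.Agent.Lib.Helper16 Groth.Agent.Lib.Helper16.AlgStDC Groth.Agent.Lib.Helper15
open H10PT.MonoQC

variable {S : Scheme.{u}}

/-- Etale-local sections of a smooth surjective morphism from an algebraic space to a scheme. -/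
theorem exists_etale_lift {𝒜 : AlgSt.Cat S} (h𝒜 : AlgSt.RepByAlgSp 𝒜) {V : Over S}
    (q : 𝒜 ⥤ᵇ FibCat.overCat V)
    (hq1 : AlgSt.RepByAlgSpWith (AlgSp.LocP @Smooth) q)
    (hq2 : AlgSt.RepByAlgSpWith AlgSp.IsSurjectiveMor q) :
    ∃ (V' : Over S) (c : V' ⟶ V) (k : FibCat.overCat V' ⥤ᵇ 𝒜), Etale c.left ∧
      Surjective c.left ∧ Nonempty (BasedFunctor.comp k q ≅ AlgSt.overMap c) := by
  obtain ⟨F, e, he⟩ := h𝒜
  have a_sm := (repByAlgSpWith_iff_chart _ good_smooth.bc good_smooth.loc q e he).1 hq1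
  have a_surj := (repByAlgSpWith_iff_chart _ good_surjective.bc good_surjective.loc q e he).1 hq2
  obtain ⟨m, hm⟩ : ∃ m : F.obj ⟶ (AlgSp.yon S).obj V,
      m = AlgSt.spMapOfOver (BasedFunctor.comp e q) := ⟨_, rfl⟩
  rw [← hm] at a_sm a_surj
  obtain ⟨W, p, hpe, hps⟩ := F.property.atlas
  obtain ⟨g, hg⟩ := (AlgSp.yon S).map_surjective (p ≫ m)
  have hc : p ≫ m = (AlgSp.yon S).map g ≫ 𝟙 _ := by rw [Category.comp_id, hg]
  haveI hgsm : Smooth g.left := a_sm p (𝟙 _) g hpe (AlgSp.repWith_id _ V) hc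
  haveI hgsurj : Surjective g.left := by
    apply surjective_left_of_surjective_points
    rw [hg]
    intro y
    obtain ⟨x, hx⟩ := a_surj y
    obtain ⟨z, hz⟩ := (repWith_surjective_iff p hps.rep).1 hps x
    exact ⟨z, by rw [AlgSp.Points.map_comp, hz, hx]⟩
  obtain ⟨Y', cc, hh, hcc1, hcc2, hcc3⟩ := exists_etale_cover_section g.left
  obtain ⟨V', hV'⟩ : ∃ V' : Over S, V' = Over.mk (cc ≫ V.hom) := ⟨_, rfl⟩
  obtain ⟨c, hcdef⟩ : ∃ c : Over.mk (cc ≫ V.hom) ⟶ V, c = Over.homMk cc rfl := ⟨_, rfl⟩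
  have hhw : hh ≫ W.hom = cc ≫ V.hom := by
    rw [← hcc3, Category.assoc, Over.w g]
  obtain ⟨h', hh'def⟩ : ∃ h' : Over.mk (cc ≫ V.hom) ⟶ W, h' = Over.homMk hh hhw := ⟨_, rfl⟩
  have hcg : h' ≫ g = c := by
    apply Over.OverMorphism.ext
    rw [hh'def, hcdef]
    exact hcc3
  have hc1 : Etale c.left := by rw [hcdef]; exact hcc1
  have hc2 : Surjective c.left := by rw [hcdef]; exact hcc2
  refine ⟨Over.mk (cc ≫ V.hom), c, BasedFunctor.comp (AlgSt.ofOverCat (Over.mk (cc ≫ V.hom)))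
    (BasedFunctor.comp (AlgSt.ofSpMap ((AlgSp.yon S).map h' ≫ p)) e), hc1, hc2, ?_⟩
  have key : ∀ (m' : (AlgSp.yon S).obj (Over.mk (cc ≫ V.hom)) ⟶ (AlgSp.yon S).obj V),
      m' = (AlgSp.yon S).map c →
      Nonempty (BasedFunctor.comp (BasedFunctor.comp (AlgSt.ofOverCat (Over.mk (cc ≫ V.hom)))
        (AlgSt.ofSpMap m')) (AlgSt.toOverCat V) ≅ AlgSt.overMap c) := by
    rintro _ rfl
    exact ⟨isoOfHomEq _ _ (by rw [homOfOver_chart, homOfOver_overMap])⟩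
  have hm' : ((AlgSp.yon S).map h' ≫ p) ≫ m = (AlgSp.yon S).map c := by
    rw [Category.assoc, ← hg, ← Functor.map_comp, hcg]
  obtain ⟨κ⟩ := key _ hm'
  refine ⟨?_ ≪≫ κ⟩
  subst hm
  exact wl (AlgSt.ofOverCat (Over.mk (cc ≫ V.hom)))
    (wl (AlgSt.ofSpMap ((AlgSp.yon S).map h' ≫ p)) (spIso (BasedFunctor.comp e q)))

/-- Etale-local lifting through a smooth surjective morphism representable by algebraic spaces
whose source is an algebraic space. -/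
theorem exists_etale_lift_through {𝒰 𝒳 : AlgSt.Cat S} (u : 𝒰 ⥤ᵇ 𝒳)
    (hsm : AlgSt.RepByAlgSpWith (AlgSp.LocP @Smooth) u)
    (hsurj : AlgSt.RepByAlgSpWith AlgSp.IsSurjectiveMor u)
    {V : Over S} (y : FibCat.overCat V ⥤ᵇ 𝒳) :
    ∃ (V' : Over S) (c : V' ⟶ V) (s : FibCat.overCat V' ⥤ᵇ 𝒰), Etale c.left ∧
      Surjective c.left ∧
      Nonempty (BasedFunctor.comp s u ≅ BasedFunctor.comp (AlgSt.overMap c) y) := by
  have hu1 : AlgSt.RepByAlgSp1 u := repByAlgSp1_of_with _ _ hsm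
  obtain ⟨V', c, k, h1, h2, ⟨ψ⟩⟩ := exists_etale_lift (hu1 V y) (FibCat.fpFst y u)
    (repByAlgSpWith_fpFst _ u y hsm) (repByAlgSpWith_fpFst _ u y hsurj)
  refine ⟨V', c, BasedFunctor.comp k (FibCat.fpSnd y u), h1, h2, ⟨?_⟩⟩
  exact wl k (FibCat.fpIso y u).symm ≪≫ wr ψ y

/-- The product of two covers, for a good property. -/
theorem exists_cover_fp_good {Q : MorphismProperty (AlgSp.Sp S)} (hQ : Good Q)
    {𝒰 𝒱 𝒳 𝒴 𝒵 : AlgSt.Cat S} (h𝒰 : FibCat.IsFibGrpd 𝒰.p)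
    (h𝒱 : FibCat.IsFibGrpd 𝒱.p) (h𝒳 : FibCat.IsFibGrpd 𝒳.p) (h𝒴 : FibCat.IsFibGrpd 𝒴.p)
    (h𝒵 : FibCat.IsFibGrpd 𝒵.p) (f : 𝒳 ⥤ᵇ 𝒵) (g : 𝒴 ⥤ᵇ 𝒵) (x : 𝒰 ⥤ᵇ 𝒳) (y : 𝒱 ⥤ᵇ 𝒴)
    (hx : AlgSt.RepByAlgSpWith Q x) (hy : AlgSt.RepByAlgSpWith Q y) :
    ∃ a : FibCat.fp (BasedFunctor.comp x f) (BasedFunctor.comp y g) ⥤ᵇ FibCat.fp f g,
      AlgSt.RepByAlgSpWith Q a := by
  obtain ⟨i₁, hi₁⟩ := Groth.Agent.Lib.Helper10.StkPost.isEquivOver_symm
    (isEquivOver_paste1 x f (BasedFunctor.comp y g))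
  obtain ⟨i₂, hi₂⟩ := Groth.Agent.Lib.Helper10.StkPost.isEquivOver_symm (isEquivOver_paste2 f g y)
  have hA := isFibGrpd_fp x (FibCat.fpFst f (BasedFunctor.comp y g)) h𝒰
    (isFibGrpd_fp f (BasedFunctor.comp y g) h𝒳 h𝒱 h𝒵) h𝒳
  have hB := isFibGrpd_fp f (BasedFunctor.comp y g) h𝒳 h𝒱 h𝒵
  refine ⟨BasedFunctor.comp i₁ (BasedFunctor.comp (FibCat.fpSnd x (FibCat.fpFst f
    (BasedFunctor.comp y g))) (BasedFunctor.comp i₂ (FibCat.fpFst (FibCat.fpSnd f g) y))), ?_⟩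
  exact repByAlgSpWith_equiv_comp _ i₁ hi₁ _ (repByAlgSpWith_comp_good hQ hA hB _ _
      (repByAlgSpWith_fpSnd _ x _ hx)
      (repByAlgSpWith_equiv_comp _ i₂ hi₂ _ (repByAlgSpWith_fpFst _ y _ hy)))

/-- A functor over the base out of a category fibred in setoids is faithful. -/
theorem faithful_of_isFibSetoid {C : Type*} [Category C] {𝒲 𝒳 : BasedCategory C}
    (h𝒲 : FibCat.IsFibSetoid 𝒲.p) (x : 𝒲 ⥤ᵇ 𝒳) : x.toFunctor.Faithful := by
  constructor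
  intro a b φ ψ h
  have e1 := Functor.congr_hom x.w φ
  have e2 := Functor.congr_hom x.w ψ
  simp only [Functor.comp_map] at e1 e2
  rw [h] at e1
  have e3 := e1.symm.trans e2
  have h0 : 𝒲.p.map φ = 𝒲.p.map ψ := by
    have e4 := (cancel_epi _).1 e3
    exact (cancel_mono _).1 e4
  haveI : 𝒲.p.IsHomLift (𝒲.p.map φ) ψ := by rw [h0]; infer_instance
  exact hom_eq_of_isFibSetoid h𝒲 (𝒲.p.map φ) φ ψ

end H10PT.Boot
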