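import Groth.Agent.Lib.Helper10.SS2
import Groth.Agent.Lib.Helper10.BS6
import Groth.Agent.Lib.Helper16.LocSurj
import Groth.Agent.Lib.Helper16.SpCoprod2
import Groth.Agent.S9877
import Groth.Agent.S9881
import Groth.Agent.S10139

/-!
# Helper library (helper10): fppf bootstrap, sheaf side, part 3 (Theorem C: assembly)
-/

set_option autoImplicit false
universe u
open CategoryTheory CategoryTheory.Limits AlgebraicGeometry Opposite

namespace H10PT.SS

open AlgSp H10PT.BS Groth.Agent.Lib.Helper15 Groth.Agent.Lib.Helper16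

variable {S : Scheme.{u}}

/-- `theoremB` with explicit instance arguments -/
theorem theoremB' {Xo Ro : Over S} (s₁ t₁ : Ro ⟶ Xo) {P₀ : Scheme.{u}} (ι : P₀ ⟶ Ro.left)
    (hR : IsEqvRel s₁ t₁) (hP : ER (ι ≫ s₁.left) (ι ≫ t₁.left)) (_ : IsAffine Xo.left)
    (_ : IsOpenImmersion ι) (_ : Flat s₁.left) (_ : LocallyOfFinitePresentation s₁.left)
    (_ : Flat t₁.left) (_ : LocallyOfFinitePresentation t₁.left) (_ : IsFinite (ι ≫ s₁.left))
    (_ : IsFinite (ι ≫ t₁.left)) :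
    IsAlgSpace (quotSp ((yon S).map s₁) ((yon S).map t₁)) :=
  theoremB s₁ t₁ ι hR hP

section Core

variable {R U Ro Xo : Over S} (s t : R ⟶ U) (s₁ t₁ : Ro ⟶ Xo) (gu : Xo ⟶ U)

set_option maxHeartbeats 1600000 in
/-- restriction of an equivalence relation along an etale morphism gives an open immersion of quotients -/
theorem chart_core (h : IsEqvRel s t) (ρo : Ro ⟶ R) (hρt : ρo ≫ t = t₁ ≫ gu) (hρs : ρo ≫ s = s₁ ≫ gu)
    (hlift : ∀ (T : Over S) (a b : T ⟶ Xo) (ρ' : T ⟶ R), ρ' ≫ t = a ≫ gu → ρ' ≫ s = b ≫ gu →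
      ∃ ρ'' : T ⟶ Ro, ρ'' ≫ t₁ = a ∧ ρ'' ≫ s₁ = b)
    [Etale gu.left] [Flat s.left] [LocallyOfFinitePresentation s.left] :
    ∃ fu : quotSp ((yon S).map s₁) ((yon S).map t₁) ⟶ quotSp ((yon S).map s) ((yon S).map t),
      RepWith @IsOpenImmersion fu ∧
      quotSpπ ((yon S).map s₁) ((yon S).map t₁) ≫ fu =
        (yon S).map gu ≫ quotSpπ ((yon S).map s) ((yon S).map t) := by
  have hw : (yon S).map s₁ ≫ (yon S).map gu ≫ quotSpπ ((yon S).map s) ((yon S).map t) =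
      (yon S).map t₁ ≫ (yon S).map gu ≫ quotSpπ ((yon S).map s) ((yon S).map t) := by
    rw [← Category.assoc, ← Functor.map_comp, ← hρs, Functor.map_comp, Category.assoc,
      quotSp_condition, ← Category.assoc, ← Functor.map_comp, hρt, Functor.map_comp, Category.assoc]
  refine ⟨quotSpDesc _ hw, ?_, quotSpπ_desc _ _ _ hw⟩
  haveI : Flat (pullback.snd gu.left t.left ≫ s.left) := inferInstance
  haveI : LocallyOfFinitePresentation (pullback.snd gu.left t.left ≫ s.left) := inferInstance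
  obtain ⟨W, hWdef⟩ : ∃ W : U.left.Opens,
      (W : Set U.left) = Set.range (pullback.snd gu.left t.left ≫ s.left) :=
    ⟨⟨_, (pullback.snd gu.left t.left ≫ s.left).isOpenMap.isOpen_range⟩, rfl⟩
  have hWmem : ∀ x : U.left, x ∈ W ↔ x ∈ Set.range (pullback.snd gu.left t.left ≫ s.left) :=
    fun x => by rw [← hWdef]; exact Iff.rfl
  refine QuotOpen.repWith_isOpenImmersion_quotSp_map s t gu s₁ t₁
    (QuotOpen.isPreEqvRelSp_yon s t h.equivalence) hlift W ?_ ?_ _ (quotSpπ_desc _ _ _ hw)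
  · intro x
    rw [hWmem]
    constructor
    · rintro ⟨y, rfl⟩
      refine ⟨pullback.fst gu.left t.left y, pullback.snd gu.left t.left y, ?_, ?_⟩
      · rw [← Scheme.Hom.comp_apply, ← Scheme.Hom.comp_apply, pullback.condition]
      · rw [Scheme.Hom.comp_apply]
    · rintro ⟨u', ρ, h1, h2⟩
      obtain ⟨y, -, hy2⟩ := Scheme.Pullback.exists_preimage_pullback (f := gu.left) (g := t.left)
        u' ρ h1.symm
      exact ⟨y, by rw [Scheme.Hom.comp_apply, hy2, h2]⟩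
  · intro T b hb
    obtain ⟨hhm, hhdef⟩ : ∃ hhm : pullback gu.left t.left ⟶ U.left,
        hhm = pullback.snd gu.left t.left ≫ s.left := ⟨_, rfl⟩
    haveI : Flat hhm := by rw [hhdef]; infer_instance
    haveI : LocallyOfFinitePresentation hhm := by rw [hhdef]; infer_instance
    have hw1 : (pullback.snd b.left hhm ≫ pullback.snd gu.left t.left) ≫ R.hom =
        pullback.fst b.left hhm ≫ T.hom := by
      calc (pullback.snd b.left hhm ≫ pullback.snd gu.left t.left) ≫ R.hom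
          = (pullback.snd b.left hhm ≫ pullback.snd gu.left t.left) ≫ s.left ≫ U.hom := by
            rw [Over.w s]
        _ = (pullback.snd b.left hhm ≫ hhm) ≫ U.hom := by rw [hhdef]; simp only [Category.assoc]
        _ = pullback.fst b.left hhm ≫ b.left ≫ U.hom := by
            rw [← pullback.condition, Category.assoc]
        _ = pullback.fst b.left hhm ≫ T.hom := by rw [Over.w b]
    have hw2 : (pullback.snd b.left hhm ≫ pullback.fst gu.left t.left) ≫ Xo.hom =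
        pullback.fst b.left hhm ≫ T.hom := by
      rw [← hw1, Category.assoc, Category.assoc, ← Over.w t, ← Over.w gu,
        ← Category.assoc (pullback.fst gu.left t.left), pullback.condition, Category.assoc]
    obtain ⟨T₁, hT₁⟩ : ∃ T₁ : Over S, T₁ = Over.mk (pullback.fst b.left hhm ≫ T.hom) := ⟨_, rfl⟩
    subst hT₁
    obtain ⟨c₁, hc₁⟩ : ∃ c₁ : Over.mk (pullback.fst b.left hhm ≫ T.hom) ⟶ T,
        c₁.left = pullback.fst b.left hhm := ⟨Over.homMk (pullback.fst b.left hhm) rfl, rfl⟩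
    obtain ⟨ρ₁, hρ₁⟩ : ∃ ρ₁ : Over.mk (pullback.fst b.left hhm ≫ T.hom) ⟶ R,
        ρ₁.left = pullback.snd b.left hhm ≫ pullback.snd gu.left t.left :=
      ⟨Over.homMk _ hw1, rfl⟩
    obtain ⟨v₁, hv₁⟩ : ∃ v₁ : Over.mk (pullback.fst b.left hhm ≫ T.hom) ⟶ Xo,
        v₁.left = pullback.snd b.left hhm ≫ pullback.fst gu.left t.left :=
      ⟨Over.homMk _ hw2, rfl⟩
    haveI : Flat c₁.left := by rw [hc₁]; infer_instance
    haveI : LocallyOfFinitePresentation c₁.left := by rw [hc₁]; infer_instance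
    haveI : Surjective c₁.left := by
      rw [hc₁]
      refine ⟨fun x => ?_⟩
      obtain ⟨y, hy⟩ := (hWmem _).1 (hb x)
      rw [← hhdef] at hy
      obtain ⟨z, hz1, -⟩ := Scheme.Pullback.exists_preimage_pullback (f := b.left) (g := hhm)
        x y hy.symm
      exact ⟨z, hz1⟩
    have e1 : ρ₁ ≫ t = v₁ ≫ gu := by
      apply Over.OverMorphism.ext
      rw [Over.comp_left, Over.comp_left, hρ₁, hv₁, Category.assoc, Category.assoc,
        pullback.condition]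
    have e2 : ρ₁ ≫ s = c₁ ≫ b := by
      apply Over.OverMorphism.ext
      rw [Over.comp_left, Over.comp_left, hρ₁, hc₁, Category.assoc, pullback.condition, hhdef]
    refine ⟨⟨fun T' c => ∃ d : T' ⟶ Over.mk (pullback.fst b.left hhm ≫ T.hom), d ≫ c₁ = c, ?_⟩,
      sieve_mem_J_of_fppf c₁ _ ⟨𝟙 _, Category.id_comp _⟩, ?_⟩
    · rintro Y Z' c ⟨d, rfl⟩ e
      exact ⟨e ≫ d, Category.assoc _ _ _⟩
    · rintro T' c ⟨d, rfl⟩
      exact ⟨d ≫ v₁, d ≫ ρ₁, by rw [Category.assoc, e1, Category.assoc],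
        by rw [Category.assoc, e2, Category.assoc]⟩

end Core

section Plain

variable {R U : Over S} (s t : R ⟶ U) {X₀ R₁ P₀ : Scheme.{u}} (gX : X₀ ⟶ U.left) (s₁ t₁ : R₁ ⟶ X₀)
  (ι : P₀ ⟶ R₁) (ρ : R₁ ⟶ R.left)

theorem chart_w (hρt : ρ ≫ t.left = t₁ ≫ gX) (hρs : ρ ≫ s.left = s₁ ≫ gX) :
    s₁ ≫ gX ≫ U.hom = t₁ ≫ gX ≫ U.hom := by
  rw [← Category.assoc, ← hρs, ← Category.assoc t₁, ← hρt, Category.assoc, Category.assoc,
    Over.w s, Over.w t]

set_option maxHeartbeats 1600000 in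
theorem chart_of_plain (h : IsEqvRel s t) (h₁ : ER s₁ t₁) (hP : ER (ι ≫ s₁) (ι ≫ t₁))
    (hρt : ρ ≫ t.left = t₁ ≫ gX) (hρs : ρ ≫ s.left = s₁ ≫ gX)
    (hlift : ∀ ⦃T : Scheme.{u}⦄ (a b : T ⟶ X₀) (ρ' : T ⟶ R.left), ρ' ≫ t.left = a ≫ gX →
      ρ' ≫ s.left = b ≫ gX → ∃ c : T ⟶ R₁, c ≫ t₁ = a ∧ c ≫ s₁ = b)
    [IsAffine X₀] [Etale gX] [IsOpenImmersion ι] [Flat s₁] [LocallyOfFinitePresentation s₁]
    [Flat t₁] [LocallyOfFinitePresentation t₁] [IsFinite (ι ≫ s₁)] [IsFinite (ι ≫ t₁)]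
    [Flat s.left] [LocallyOfFinitePresentation s.left] :
    ∃ (Fu : Sp S) (fu : Fu ⟶ quotSp ((yon S).map s) ((yon S).map t))
      (πu : (yon S).obj (Over.mk (gX ≫ U.hom)) ⟶ Fu), IsAlgSpace Fu ∧
      RepWith @IsOpenImmersion fu ∧
      πu ≫ fu = (yon S).map (Over.homMk gX rfl : Over.mk (gX ≫ U.hom) ⟶ U) ≫
        quotSpπ ((yon S).map s) ((yon S).map t) := by
  have w₁ := chart_w s t gX s₁ t₁ ρ hρt hρs
  have hRo := isEqvRel_of_ER h₁ (gX ≫ U.hom) w₁
  have hFu := theoremB' (Over.homMk s₁ w₁ : Over.mk (t₁ ≫ gX ≫ U.hom) ⟶ Over.mk (gX ≫ U.hom))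
    (Over.homMk t₁ rfl) ι hRo hP ‹IsAffine X₀› ‹_› ‹Flat s₁› ‹LocallyOfFinitePresentation s₁›
    ‹Flat t₁› ‹LocallyOfFinitePresentation t₁› ‹IsFinite (ι ≫ s₁)› ‹IsFinite (ι ≫ t₁)›
  have hρw : ρ ≫ R.hom = t₁ ≫ gX ≫ U.hom := by
    rw [← Over.w t, ← Category.assoc, hρt, Category.assoc]
  haveI : Etale (Over.homMk gX rfl : Over.mk (gX ≫ U.hom) ⟶ U).left := ‹Etale gX›
  obtain ⟨fu, hfu1, hfu2⟩ := chart_core s t
    (Over.homMk s₁ w₁ : Over.mk (t₁ ≫ gX ≫ U.hom) ⟶ Over.mk (gX ≫ U.hom)) (Over.homMk t₁ rfl)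
    (Over.homMk gX rfl : Over.mk (gX ≫ U.hom) ⟶ U) h
    (Over.homMk ρ hρw : Over.mk (t₁ ≫ gX ≫ U.hom) ⟶ R)
    (Over.OverMorphism.ext hρt) (Over.OverMorphism.ext hρs) (by
      intro T a b ρ' h1 h2
      obtain ⟨c, hc1, hc2⟩ := hlift a.left b.left ρ'.left (congrArg (·.left) h1)
        (congrArg (·.left) h2)
      refine ⟨Over.homMk c ?_, Over.OverMorphism.ext hc1, Over.OverMorphism.ext hc2⟩
      show c ≫ t₁ ≫ gX ≫ U.hom = T.hom
      rw [← Category.assoc, hc1]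
      exact Over.w a)
  exact ⟨_, fu, _, hFu, hfu1, hfu2⟩

end Plain

section Local

variable {R U : Over S} (s t : R ⟶ U)

set_option maxHeartbeats 3200000 in
theorem exists_local_chart (h : IsEqvRel s t)
    [Flat s.left] [LocallyOfFinitePresentation s.left] [LocallyQuasiFinite s.left]
    [Flat t.left] [LocallyOfFinitePresentation t.left] [LocallyQuasiFinite t.left] (u : U.left) :
    ∃ (Fu : Sp S) (fu : Fu ⟶ quotSp ((yon S).map s) ((yon S).map t)) (Xu : Over S) (gu : Xu ⟶ U)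
      (πu : (yon S).obj Xu ⟶ Fu), IsAlgSpace Fu ∧ RepWith @IsOpenImmersion fu ∧
      πu ≫ fu = (yon S).map gu ≫ quotSpπ ((yon S).map s) ((yon S).map t) ∧ Etale gu.left ∧
      u ∈ Set.range gu.left := by
  have hpl := ER_of_isEqvRel h
  obtain ⟨𝒰, h𝒰aff, hu𝒰, -⟩ := exists_isAffineOpen_mem_and_subset (X := U.left) (x := u) (U := ⊤)
    trivial
  haveI : IsAffine 𝒰.toScheme := h𝒰aff
  have hA := RX_ER s.left t.left 𝒰.ι hpl
  haveI : Flat (pb s.left t.left 𝒰.ι) := pb_prop _ _ _ @Flat inferInstance inferInstance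
  haveI : LocallyOfFinitePresentation (pb s.left t.left 𝒰.ι) :=
    pb_prop _ _ _ @LocallyOfFinitePresentation inferInstance inferInstance
  haveI : LocallyQuasiFinite (pb s.left t.left 𝒰.ι) :=
    pb_prop _ _ _ @LocallyQuasiFinite inferInstance inferInstance
  haveI : Flat (pa s.left t.left 𝒰.ι) := pa_prop _ _ _ @Flat inferInstance inferInstance
  haveI : LocallyOfFinitePresentation (pa s.left t.left 𝒰.ι) :=
    pa_prop _ _ _ @LocallyOfFinitePresentation inferInstance inferInstance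
  haveI : IsSeparated (pb s.left t.left 𝒰.ι) := isSeparated_of_ER_affine _ _ hA
  obtain ⟨X₀, g₀, V₀, hc₀, hX₀aff, hg₀, ⟨x₀, hx₀⟩, hft, hfs⟩ :=
    theoremA (pb s.left t.left 𝒰.ι) (pa s.left t.left 𝒰.ι) hA ⟨u, hu𝒰⟩
  haveI := hX₀aff
  haveI := hg₀
  have hER₁ := RX_ER (pb s.left t.left 𝒰.ι) (pa s.left t.left 𝒰.ι) g₀ hA
  have hP := stab_ER (pb s.left t.left 𝒰.ι) (pa s.left t.left 𝒰.ι) g₀ V₀ hA hc₀
  obtain ⟨ρ, hρt, hρs⟩ := DR_map s.left t.left 𝒰.ι g₀
  haveI : Flat (pb (pb s.left t.left 𝒰.ι) (pa s.left t.left 𝒰.ι) g₀) :=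
    pb_prop _ _ _ @Flat inferInstance inferInstance
  haveI : LocallyOfFinitePresentation (pb (pb s.left t.left 𝒰.ι) (pa s.left t.left 𝒰.ι) g₀) :=
    pb_prop _ _ _ @LocallyOfFinitePresentation inferInstance inferInstance
  haveI : Flat (pa (pb s.left t.left 𝒰.ι) (pa s.left t.left 𝒰.ι) g₀) :=
    pa_prop _ _ _ @Flat inferInstance inferInstance
  haveI : LocallyOfFinitePresentation (pa (pb s.left t.left 𝒰.ι) (pa s.left t.left 𝒰.ι) g₀) :=
    pa_prop _ _ _ @LocallyOfFinitePresentation inferInstance inferInstance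
  haveI : IsFinite ((stab (pb s.left t.left 𝒰.ι) (pa s.left t.left 𝒰.ι) g₀ V₀ hA hc₀).ι ≫
      pb (pb s.left t.left 𝒰.ι) (pa s.left t.left 𝒰.ι) g₀) := hfs
  haveI : IsFinite ((stab (pb s.left t.left 𝒰.ι) (pa s.left t.left 𝒰.ι) g₀ V₀ hA hc₀).ι ≫
      pa (pb s.left t.left 𝒰.ι) (pa s.left t.left 𝒰.ι) g₀) := hft
  haveI : Etale (g₀ ≫ 𝒰.ι) := inferInstance
  obtain ⟨Fu, fu, πu, hFu, hopen, hcomm⟩ := chart_of_plain s t (g₀ ≫ 𝒰.ι)
    (pb (pb s.left t.left 𝒰.ι) (pa s.left t.left 𝒰.ι) g₀)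
    (pa (pb s.left t.left 𝒰.ι) (pa s.left t.left 𝒰.ι) g₀)
    (stab (pb s.left t.left 𝒰.ι) (pa s.left t.left 𝒰.ι) g₀ V₀ hA hc₀).ι ρ h hER₁ hP
    hρt hρs (fun T a b ρ' h1 h2 => DR_lift s.left t.left 𝒰.ι g₀ hpl a b ρ' h1 h2)
  refine ⟨Fu, fu, _, _, πu, hFu, hopen, hcomm, ‹Etale (g₀ ≫ 𝒰.ι)›, ⟨x₀, ?_⟩⟩
  show (g₀ ≫ 𝒰.ι) x₀ = u
  rw [Scheme.Hom.comp_apply, hx₀]
  rfl

end Local

section Global

variable {R U : Over S} (s t : R ⟶ U)

set_option maxHeartbeats 1600000 in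
theorem isAlgSpace_quotSp_lqf (h : IsEqvRel s t)
    [Flat s.left] [LocallyOfFinitePresentation s.left] [LocallyQuasiFinite s.left]
    [Flat t.left] [LocallyOfFinitePresentation t.left] [LocallyQuasiFinite t.left] :
    IsAlgSpace (quotSp ((yon S).map s) ((yon S).map t)) := by
  choose Fu fu Xu gu πu hFu hopen hcomm hget hrange using exists_local_chart s t h
  obtain ⟨c, hc⟩ : ∃ c : Cofan Fu, Nonempty (IsColimit c) :=
    ⟨Cofan.mk (∐ Fu) (Sigma.ι Fu), ⟨coproductIsCoproduct Fu⟩⟩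
  obtain ⟨hc⟩ := hc
  have hcop := Groth.Agent.S9881.result S Fu hFu c hc
  refine Groth.Agent.S9877.result S _ Fu fu hFu hopen c hc ?_ hcop
  rw [Sheaf.isLocallySurjective_iff_epi]
  obtain ⟨hW⟩ := SpCoprod.isColimit_sig Xu
  obtain ⟨A, hA⟩ : ∃ A : (yon S).obj (SpCoprod.sig Xu) ⟶ c.pt,
      ∀ x, (yon S).map (SpCoprod.sigι Xu x) ≫ A = πu x ≫ c.inj x :=
    ⟨Cofan.IsColimit.desc hW (fun x => πu x ≫ c.inj x), fun x => Cofan.IsColimit.fac hW _ x⟩
  have hAd : A ≫ Cofan.IsColimit.desc hc fu = (yon S).map (SpCoprod.sigDesc Xu gu) ≫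
      quotSpπ ((yon S).map s) ((yon S).map t) := by
    refine Cofan.IsColimit.hom_ext hW _ _ (fun x => ?_)
    simp only [Cofan.mk_pt, cofan_mk_inj]
    rw [← Category.assoc, hA, Category.assoc, Cofan.IsColimit.fac, hcomm, ← Category.assoc,
      ← Functor.map_comp, SpCoprod.sigι_desc]
  haveI : Etale (SpCoprod.sigDesc Xu gu).left := SpCoprod.sigDesc_prop (P := @Etale) Xu gu hget
  haveI : Surjective (SpCoprod.sigDesc Xu gu).left :=
    SpCoprod.sigDesc_surjective Xu gu (fun x => ⟨x, hrange x⟩)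
  haveI : Epi ((yon S).map (SpCoprod.sigDesc Xu gu)) :=
    H10PT.Desc.epi_yon_map_of_fppf _ inferInstance inferInstance inferInstance
  haveI : Epi (A ≫ Cofan.IsColimit.desc hc fu) := by rw [hAd]; infer_instance
  exact epi_of_epi A _

end Global

end H10PT.SS
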