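import Mathlib
import Groth.Agent.Lib.Helper10.AlgStSpaceCover

import Groth.Agent.Lib.Helper10.AlgStLocQChart
import Groth.Agent.Lib.Helper28.AlgSt.FpStack
import Groth.Agent.Lib.Helper28.AlgSt.SmoothLocal
import Groth.Agent.Lib.Helper16.AlgSt.LocQOne
import Groth.Agent.S0412
import Groth.Agent.S10101
import Groth.Agent.S10104

/-!
# Smooth covers by algebraic spaces: the "weak" smooth bootstrap (helper10)

* `exists_etale_cover_section`: a smooth surjective morphism of schemes has a section over an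
  etale surjective cover of the target.
* `repByAlgSp_of_etale_cover`: a stack in setoids with an etale surjective cover by an algebraic
  space is an algebraic space.
* `exists_etale_lift`, `exists_etale_lift_through`: etale-local lifting through smooth surjective
  representable morphisms.
* `repByAlgSp_fp_charts`: if `𝒰 ⟶ 𝒳` is a smooth surjective representable cover by an algebraic
  space then `(Sch/V) ×_𝒳 (Sch/U)` is an algebraic space.
-/

set_option autoImplicit false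
set_option backward.isDefEq.respectTransparency false
set_option backward.isDefEq.respectTransparency.types false

universe u

open CategoryTheory CategoryTheory.Limits AlgebraicGeometry Opposite

namespace H10PT.BootF

open Groth.Agent.Lib.Helper10.Fib Groth.Agent.Lib.Helper10.AlgStRep
open Groth.Agent.Lib.Helper10.StkPsh Groth.Agent.Lib.Helper10.HomSheaf
open Groth.Agent.Lib.Helper10.StkPost Groth.Agent.Lib.Helper10.StkElem
open Groth.Agent.Lib.Helper28.AlgSt.Bridge Groth.Agent.Lib.Helper28.AlgSt.SpaceCalc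
open Groth.Agent.Lib.Helper28.AlgSt.PropInst Groth.Agent.Lib.Helper28.AlgSt.Comp
open Groth.Agent.Lib.Helper28.AlgSt.Whisker Groth.Agent.Lib.Helper28.AlgSt.Key
open Groth.Agent.Lib.Helper28.AlgSt.Descent Groth.Agent.Lib.Helper28.AlgSt.DiagComp
open Groth.Agent.Lib.Helper28.AlgSt.ChartOver Groth.Agent.Lib.Helper28.AlgSt.IsoEquiv
open Groth.Agent.Lib.Helper28.AlgSt.ClsPsh Groth.Agent.Lib.Helper28.AlgSt.PshFun
open Groth.Agent.Lib.Helper28.AlgSt.Chart Groth.Agent.Lib.Helper28.AlgSt.DiagRep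
open Groth.Agent.Lib.Helper28.AlgSt.Basic Groth.Agent.Lib.Helper28.AlgSt.FpStack
open Groth.Agent.Lib.Helper28.AlgSt.StackDesc
open Groth.Agent.Lib.Helper16 Groth.Agent.Lib.Helper16.AlgStDC Groth.Agent.Lib.Helper15


variable {S : Scheme.{u}}

/-- A smooth surjective morphism of schemes has a section over an etale surjective cover. -/
theorem exists_etale_cover_section {X Y : Scheme.{u}} (g : X ⟶ Y) [Smooth g] [hs : Surjective g] :
    ∃ (Y' : Scheme.{u}) (c : Y' ⟶ Y) (h : Y' ⟶ X), Etale c ∧ Surjective c ∧ h ≫ g = c := by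
  have key : ∀ s : Y, ∃ (S' : Scheme.{u}) (g' : S' ⟶ Y) (s' : S'), Etale g' ∧ g' s' = s ∧
      ∃ h : S' ⟶ X, h ≫ g = g' := fun s => Groth.Agent.S0412.result g s (hs.surj s)
  choose S' g' s' hg' hs' h hh using key
  refine ⟨∐ S', Sigma.desc g', Sigma.desc h, ?_, ?_, ?_⟩
  · exact IsZariskiLocalAtSource.sigmaDesc hg'
  · refine ⟨fun s => ⟨(Sigma.ι S' s) (s' s), ?_⟩⟩
    rw [← Scheme.Hom.comp_apply, Sigma.ι_desc]
    exact hs' s
  · apply Sigma.hom_ext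
    intro s
    rw [← Category.assoc, Sigma.ι_desc, Sigma.ι_desc, hh]

/-- Surjective and etale. -/
abbrev QEt (S : Scheme.{u}) : MorphismProperty (AlgSp.Sp S) :=
  AlgSp.IsSurjectiveMor ⊓ AlgSp.LocP @Etale

theorem good_QEt : Good (QEt S) := good_surjective.inf (good_locP etLocalST_etale)

theorem isSurjectiveMor_yon_map {T U : Over S} (h : T ⟶ U) (hs : Surjective h.left) :
    AlgSp.IsSurjectiveMor ((AlgSp.yon S).map h) := by
  intro x
  obtain ⟨u, rfl⟩ := (AlgSp.Points.schemeHomeo U).surjective x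
  obtain ⟨t, rfl⟩ := hs.surj u
  exact ⟨AlgSp.Points.schemeHomeo T t, AlgSp.Points.map_yon_map_apply h t⟩

theorem qEt_yon_map {T U : Over S} (h : T ⟶ U) (h1 : Etale h.left) (h2 : Surjective h.left) :
    QEt S ((AlgSp.yon S).map h) :=
  ⟨isSurjectiveMor_yon_map h h2, locP_yon_of etLocalST_etale h h1⟩

section EtaleCover

variable {F G : AlgSp.PSp S}

/-- Variant of `repBySpWith_of_repByAlgSpWith` for properties stable under base change. -/
theorem repBySpWith_of_repByAlgSpWith_bc (Q : MorphismProperty (AlgSp.Sp S)) (hQb : BC Q)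
    (a : F ⟶ G) (ha : AlgSp.RepBySp a) (h : AlgSt.RepByAlgSpWith Q (Stk.ofPshMap a)) :
    AlgSp.RepBySpWith Q a := by
  intro U ξ F' fst snd sq
  obtain ⟨hsh, halg⟩ := ha ξ fst snd sq
  refine ⟨hsh, halg, ?_⟩
  obtain ⟨F'', e'', he'', hQ⟩ := h U (BasedFunctor.comp (AlgSt.ofOverCat U) (Stk.ofPshMap ξ))
  obtain ⟨θ, hθ⟩ := exists_iso_of_equiv a ξ sq F''.obj e'' he''
  let θ' : F''.obj ≅ (⟨F', hsh⟩ : AlgSp.Sp S) :=
    (fullyFaithfulSheafToPresheaf (AlgSp.J S) _).preimageIso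
      (X := F''.obj) (Y := (⟨F', hsh⟩ : AlgSp.Sp S)) θ
  have key : AlgSt.spMapOfOver (BasedFunctor.comp e'' (FibCat.fpFst _ _)) =
      θ'.hom ≫ (ObjectProperty.homMk snd : (⟨F', hsh⟩ : AlgSp.Sp S) ⟶ (AlgSp.yon S).obj U) := by
    apply ObjectProperty.hom_ext
    exact hθ.symm
  rw [key] at hQ
  have sq' : IsPullback θ'.inv
      (ObjectProperty.homMk snd : (⟨F', hsh⟩ : AlgSp.Sp S) ⟶ (AlgSp.yon S).obj U)
      (θ'.hom ≫ (ObjectProperty.homMk snd : (⟨F', hsh⟩ : AlgSp.Sp S) ⟶ (AlgSp.yon S).obj U))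
      (𝟙 ((AlgSp.yon S).obj U)) :=
    IsPullback.of_horiz_isIso ⟨by rw [Iso.inv_hom_id_assoc, Category.comp_id]⟩
  exact hQb F''.property (AlgSp.IsAlgSpace.yon_obj U) halg (AlgSp.IsAlgSpace.yon_obj U) _ _ _ _
    sq' hQ

end EtaleCover

/-- A stack in setoids with a surjective etale cover by an algebraic space is an algebraic
space. -/
theorem repByAlgSp_of_etale_cover {ℐ 𝒜 : AlgSt.Cat S} (hℐ : Stk.IsStack (AlgSp.J S) ℐ)
    (hfs : FibCat.IsFibSetoid ℐ.p) (h𝒜 : AlgSt.RepByAlgSp 𝒜) (a : 𝒜 ⥤ᵇ ℐ)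
    (ha : AlgSt.RepByAlgSpWith (QEt S) a) : AlgSt.RepByAlgSp ℐ := by
  have hE := toCls_isEquivOver hfs
  have hst : Stk.IsStack (AlgSp.J S) (Stk.ofPsh (clsPsh hfs.1)) :=
    (isStack_iff_of_isEquivOver (AlgSp.J S) (toCls hfs.1) hE).1 hℐ
  have hsh : Presheaf.IsSheaf (AlgSp.J S) (clsPsh hfs.1) :=
    (isSheaf_iff_isSheaf_of_type _ _).2
      ((Groth.Agent.S12796.result (AlgSp.J S) (clsPsh hfs.1)).1 hst)
  obtain ⟨X, eX, heX⟩ := h𝒜
  obtain ⟨eX', ⟨η⟩, ⟨ε⟩⟩ := heX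
  have heX' : FibCat.IsEquivOver eX' := ⟨eX, ⟨ε⟩, ⟨η⟩⟩
  obtain ⟨G, hG⟩ : ∃ G : AlgSt.ofSp X.obj ⥤ᵇ Stk.ofPsh (clsPsh hfs.1),
      G = BasedFunctor.comp (BasedFunctor.comp eX a) (toCls hfs.1) := ⟨_, rfl⟩
  have i1 : BasedFunctor.comp a (toCls hfs.1) ≅
      BasedFunctor.comp (BasedFunctor.comp eX' eX) (BasedFunctor.comp a (toCls hfs.1)) :=
    (wr ε (BasedFunctor.comp a (toCls hfs.1))).symm
  have i2 : BasedFunctor.comp eX' G ≅ BasedFunctor.comp eX' (Stk.ofPshMap (pshMapOf G)) :=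
    wl eX' (isoPshMapOf G)
  have iso : BasedFunctor.comp a (toCls hfs.1) ≅
      BasedFunctor.comp eX' (Stk.ofPshMap (pshMapOf G)) := by
    rw [hG] at i2 ⊢
    exact i1 ≪≫ i2
  have h2 : AlgSt.RepByAlgSpWith (QEt S) (Stk.ofPshMap (pshMapOf G)) :=
    repByAlgSpWith_of_square _ _ a eX' (toCls hfs.1) heX' hE iso ha
  have hrep : AlgSp.RepBySp (pshMapOf G) :=
    repBySp_of_repByAlgSp1 _ (repByAlgSp1_of_with _ _ h2)
  have h3 : AlgSp.RepBySpWith (QEt S) (pshMapOf G) :=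
    repBySpWith_of_repByAlgSpWith_bc _ good_QEt.bc _ hrep h2
  have h4 : AlgSp.RepBySpWith (AlgSp.IsSurjectiveMor ⊓ AlgSp.IsEtaleMor) (pshMapOf G) := by
    intro U ξ F' fst snd sq
    obtain ⟨hs, halg, hq1, hq2⟩ := h3 ξ fst snd sq
    exact ⟨hs, halg, hq1, (isEtaleMor_iff_locP_etale (AlgSp.IsAlgSpace.yon_obj U) _).2 hq2⟩
  have hF : AlgSp.IsAlgSpace (⟨clsPsh hfs.1, hsh⟩ : AlgSp.Sp S) :=
    Groth.Agent.S10101.result S ⟨clsPsh hfs.1, hsh⟩ X
      (ObjectProperty.homMk (pshMapOf G)) h4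
  obtain ⟨e₀, he₀⟩ := Groth.Agent.Lib.Helper10.StkPost.isEquivOver_symm hE
  exact ⟨⟨_, hF⟩, e₀, he₀⟩

/-- Surjective, flat and locally of finite presentation. -/
abbrev QF (S : Scheme.{u}) : MorphismProperty (AlgSp.Sp S) :=
  AlgSp.IsSurjectiveMor ⊓ AlgSp.LocP @Flat ⊓ AlgSp.LocP @LocallyOfFinitePresentation

theorem good_QF : Good (QF S) := (good_surjective.inf good_flat).inf good_lfp

theorem qF_yon_map {T U : Over S} (h : T ⟶ U) (h1 : Flat h.left)
    (h2 : LocallyOfFinitePresentation h.left) (h3 : Surjective h.left) :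
    QF S ((AlgSp.yon S).map h) :=
  ⟨⟨isSurjectiveMor_yon_map h h3, locP_yon_of etLocalST_flat h h1⟩,
    locP_yon_of etLocalST_locallyOfFinitePresentation h h2⟩

/-- A stack in setoids with a surjective flat locally finitely presented cover by an algebraic
space is an algebraic space. -/
theorem repByAlgSp_of_fppf_cover {ℐ 𝒜 : AlgSt.Cat S} (hℐ : Stk.IsStack (AlgSp.J S) ℐ)
    (hfs : FibCat.IsFibSetoid ℐ.p) (h𝒜 : AlgSt.RepByAlgSp 𝒜) (a : 𝒜 ⥤ᵇ ℐ)
    (ha : AlgSt.RepByAlgSpWith (QF S) a) : AlgSt.RepByAlgSp ℐ := by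
  have hE := toCls_isEquivOver hfs
  have hst : Stk.IsStack (AlgSp.J S) (Stk.ofPsh (clsPsh hfs.1)) :=
    (isStack_iff_of_isEquivOver (AlgSp.J S) (toCls hfs.1) hE).1 hℐ
  have hsh : Presheaf.IsSheaf (AlgSp.J S) (clsPsh hfs.1) :=
    (isSheaf_iff_isSheaf_of_type _ _).2
      ((Groth.Agent.S12796.result (AlgSp.J S) (clsPsh hfs.1)).1 hst)
  obtain ⟨X, eX, heX⟩ := h𝒜
  obtain ⟨eX', ⟨η⟩, ⟨ε⟩⟩ := heX
  have heX' : FibCat.IsEquivOver eX' := ⟨eX, ⟨ε⟩, ⟨η⟩⟩
  obtain ⟨G, hG⟩ : ∃ G : AlgSt.ofSp X.obj ⥤ᵇ Stk.ofPsh (clsPsh hfs.1),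
      G = BasedFunctor.comp (BasedFunctor.comp eX a) (toCls hfs.1) := ⟨_, rfl⟩
  have i1 : BasedFunctor.comp a (toCls hfs.1) ≅
      BasedFunctor.comp (BasedFunctor.comp eX' eX) (BasedFunctor.comp a (toCls hfs.1)) :=
    (wr ε (BasedFunctor.comp a (toCls hfs.1))).symm
  have i2 : BasedFunctor.comp eX' G ≅ BasedFunctor.comp eX' (Stk.ofPshMap (pshMapOf G)) :=
    wl eX' (isoPshMapOf G)
  have iso : BasedFunctor.comp a (toCls hfs.1) ≅
      BasedFunctor.comp eX' (Stk.ofPshMap (pshMapOf G)) := by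
    rw [hG] at i2 ⊢
    exact i1 ≪≫ i2
  have h2 : AlgSt.RepByAlgSpWith (QF S) (Stk.ofPshMap (pshMapOf G)) :=
    repByAlgSpWith_of_square _ _ a eX' (toCls hfs.1) heX' hE iso ha
  have hrep : AlgSp.RepBySp (pshMapOf G) :=
    repBySp_of_repByAlgSp1 _ (repByAlgSp1_of_with _ _ h2)
  have h3 : AlgSp.RepBySpWith (QF S) (pshMapOf G) :=
    repBySpWith_of_repByAlgSpWith_bc _ good_QF.bc _ hrep h2
  have hF : AlgSp.IsAlgSpace (⟨clsPsh hfs.1, hsh⟩ : AlgSp.Sp S) :=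
    Groth.Agent.S10104.result S ⟨clsPsh hfs.1, hsh⟩ X
      (ObjectProperty.homMk (pshMapOf G)) h3
  obtain ⟨e₀, he₀⟩ := Groth.Agent.Lib.Helper10.StkPost.isEquivOver_symm hE
  exact ⟨⟨_, hF⟩, e₀, he₀⟩

end H10PT.BootF
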