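import Mathlib
import Groth.Agent.Lib.Helper10.BootF1

/-!
# Fppf covers by algebraic spaces, continued (helper10)
-/

set_option autoImplicit false
set_option backward.isDefEq.respectTransparency false
set_option backward.isDefEq.respectTransparency.types false

universe u

open CategoryTheory CategoryTheory.Limits AlgebraicGeometry Opposite

namespace H10PT.BootF

open Groth.Agent.Lib.Helper10.Fib Groth.Agent.Lib.Helper10.AlgStRep
open Groth.Agent.Lib.Helper10.StkPsh Groth.Agent.Lib.Helper10.HomSheaf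
open Groth.Agent.Lib.Helper10.StkPost Groth.Agent.Lib.Helper10.StkElem
open Groth.Agent.Lib.Helper28.AlgSt.Bridge Groth.Agent.Lib.Helper28.AlgSt.SpaceCalc
open Groth.Agent.Lib.Helper28.AlgSt.PropInst Groth.Agent.Lib.Helper28.AlgSt.Comp
open Groth.Agent.Lib.Helper28.AlgSt.Whisker Groth.Agent.Lib.Helper28.AlgSt.Key
open Groth.Agent.Lib.Helper28.AlgSt.Descent Groth.Agent.Lib.Helper28.AlgSt.DiagComp
open Groth.Agent.Lib.Helper28.AlgSt.ChartOver Groth.Agent.Lib.Helper28.AlgSt.IsoEquiv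
open Groth.Agent.Lib.Helper28.AlgSt.ClsPsh Groth.Agent.Lib.Helper28.AlgSt.PshFun
open Groth.Agent.Lib.Helper28.AlgSt.Chart Groth.Agent.Lib.Helper28.AlgSt.DiagRep
open Groth.Agent.Lib.Helper28.AlgSt.Basic Groth.Agent.Lib.Helper28.AlgSt.FpStack
open Groth.Agent.Lib.Helper28.AlgSt.StackDesc
open Groth.Agent.Lib.Helper16 Groth.Agent.Lib.Helper16.AlgStDC Groth.Agent.Lib.Helper15

variable {S : Scheme.{u}}

/-- Functors `(Sch/T) ⟶ (Sch/U)` over `(Sch/S)` with the same underlying morphism are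
2-isomorphic. -/
noncomputable def isoOfHomEq' {T U : Over S} (G₁ G₂ : FibCat.overCat T ⥤ᵇ FibCat.overCat U)
    (h : homOfOver G₁ = homOfOver G₂) : G₁ ≅ G₂ :=
  isoOverMap G₁ ≪≫ eqToIso (congrArg overMap' h) ≪≫ (isoOverMap G₂).symm

/-- Fppf-local sections of a flat lfp surjective morphism from an algebraic space to a scheme. -/
theorem exists_fppf_lift {𝒜 : AlgSt.Cat S} (h𝒜 : AlgSt.RepByAlgSp 𝒜) {V : Over S}
    (q : 𝒜 ⥤ᵇ FibCat.overCat V)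
    (hq1 : AlgSt.RepByAlgSpWith (AlgSp.LocP @Flat) q)
    (hq3 : AlgSt.RepByAlgSpWith (AlgSp.LocP @LocallyOfFinitePresentation) q)
    (hq2 : AlgSt.RepByAlgSpWith AlgSp.IsSurjectiveMor q) :
    ∃ (V' : Over S) (c : V' ⟶ V) (k : FibCat.overCat V' ⥤ᵇ 𝒜), Flat c.left ∧
      LocallyOfFinitePresentation c.left ∧
      Surjective c.left ∧ Nonempty (BasedFunctor.comp k q ≅ AlgSt.overMap c) := by
  obtain ⟨F, e, he⟩ := h𝒜
  have a_fl := (repByAlgSpWith_iff_chart _ good_flat.bc good_flat.loc q e he).1 hq1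
  have a_lfp := (repByAlgSpWith_iff_chart _ good_lfp.bc good_lfp.loc q e he).1 hq3
  have a_surj := (repByAlgSpWith_iff_chart _ good_surjective.bc good_surjective.loc q e he).1 hq2
  obtain ⟨m, hm⟩ : ∃ m : F.obj ⟶ (AlgSp.yon S).obj V,
      m = AlgSt.spMapOfOver (BasedFunctor.comp e q) := ⟨_, rfl⟩
  rw [← hm] at a_fl a_lfp a_surj
  obtain ⟨W, p, hpe, hps⟩ := F.property.atlas
  obtain ⟨g, hg⟩ := (AlgSp.yon S).map_surjective (p ≫ m)
  have hc : p ≫ m = (AlgSp.yon S).map g ≫ 𝟙 _ := by rw [Category.comp_id, hg]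
  have hgfl : Flat g.left := a_fl p (𝟙 _) g hpe (AlgSp.repWith_id _ V) hc
  have hglfp : LocallyOfFinitePresentation g.left :=
    a_lfp p (𝟙 _) g hpe (AlgSp.repWith_id _ V) hc
  have hgsurj : Surjective g.left := by
    apply surjective_left_of_surjective_points
    rw [hg]
    intro y
    obtain ⟨x, hx⟩ := a_surj y
    obtain ⟨z, hz⟩ := (repWith_surjective_iff p hps.rep).1 hps x
    exact ⟨z, by rw [AlgSp.Points.map_comp, hz, hx]⟩
  refine ⟨W, g, BasedFunctor.comp (AlgSt.ofOverCat W)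
    (BasedFunctor.comp (AlgSt.ofSpMap p) e), hgfl, hglfp, hgsurj, ?_⟩
  have key : ∀ (m' : (AlgSp.yon S).obj W ⟶ (AlgSp.yon S).obj V),
      m' = (AlgSp.yon S).map g →
      Nonempty (BasedFunctor.comp (BasedFunctor.comp (AlgSt.ofOverCat W)
        (AlgSt.ofSpMap m')) (AlgSt.toOverCat V) ≅ AlgSt.overMap g) := by
    rintro _ rfl
    exact ⟨isoOfHomEq' _ _ (by rw [homOfOver_chart, homOfOver_overMap])⟩
  obtain ⟨κ⟩ := key _ hg.symm
  refine ⟨?_ ≪≫ κ⟩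
  subst hm
  exact wl (AlgSt.ofOverCat W)
    (wl (AlgSt.ofSpMap p) (spIso (BasedFunctor.comp e q)))

/-- Fppf-local lifting through a flat lfp surjective morphism representable by algebraic
spaces. -/
theorem exists_fppf_lift_through {𝒰 𝒳 : AlgSt.Cat S} (u : 𝒰 ⥤ᵇ 𝒳)
    (hfl : AlgSt.RepByAlgSpWith (AlgSp.LocP @Flat) u)
    (hlfp : AlgSt.RepByAlgSpWith (AlgSp.LocP @LocallyOfFinitePresentation) u)
    (hsurj : AlgSt.RepByAlgSpWith AlgSp.IsSurjectiveMor u)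
    {V : Over S} (y : FibCat.overCat V ⥤ᵇ 𝒳) :
    ∃ (V' : Over S) (c : V' ⟶ V) (s : FibCat.overCat V' ⥤ᵇ 𝒰), Flat c.left ∧
      LocallyOfFinitePresentation c.left ∧ Surjective c.left ∧
      Nonempty (BasedFunctor.comp s u ≅ BasedFunctor.comp (AlgSt.overMap c) y) := by
  have hu1 : AlgSt.RepByAlgSp1 u := repByAlgSp1_of_with _ _ hfl
  obtain ⟨V', c, k, h1, h2, h3, ⟨ψ⟩⟩ := exists_fppf_lift (hu1 V y) (FibCat.fpFst y u)
    (repByAlgSpWith_fpFst _ u y hfl) (repByAlgSpWith_fpFst _ u y hlfp)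
    (repByAlgSpWith_fpFst _ u y hsurj)
  refine ⟨V', c, BasedFunctor.comp k (FibCat.fpSnd y u), h1, h2, h3, ⟨?_⟩⟩
  exact wl k (FibCat.fpIso y u).symm ≪≫ wr ψ y

/-- The product of two covers, for a good property. -/
theorem exists_cover_fp_good {Q : MorphismProperty (AlgSp.Sp S)} (hQ : Good Q)
    {𝒰 𝒱 𝒳 𝒴 𝒵 : AlgSt.Cat S} (h𝒰 : FibCat.IsFibGrpd 𝒰.p)
    (h𝒱 : FibCat.IsFibGrpd 𝒱.p) (h𝒳 : FibCat.IsFibGrpd 𝒳.p) (h𝒴 : FibCat.IsFibGrpd 𝒴.p)
    (h𝒵 : FibCat.IsFibGrpd 𝒵.p) (f : 𝒳 ⥤ᵇ 𝒵) (g : 𝒴 ⥤ᵇ 𝒵) (x : 𝒰 ⥤ᵇ 𝒳) (y : 𝒱 ⥤ᵇ 𝒴)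
    (hx : AlgSt.RepByAlgSpWith Q x) (hy : AlgSt.RepByAlgSpWith Q y) :
    ∃ a : FibCat.fp (BasedFunctor.comp x f) (BasedFunctor.comp y g) ⥤ᵇ FibCat.fp f g,
      AlgSt.RepByAlgSpWith Q a := by
  obtain ⟨i₁, hi₁⟩ := Groth.Agent.Lib.Helper10.StkPost.isEquivOver_symm
    (isEquivOver_paste1 x f (BasedFunctor.comp y g))
  obtain ⟨i₂, hi₂⟩ := Groth.Agent.Lib.Helper10.StkPost.isEquivOver_symm (isEquivOver_paste2 f g y)
  have hA := isFibGrpd_fp x (FibCat.fpFst f (BasedFunctor.comp y g)) h𝒰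
    (isFibGrpd_fp f (BasedFunctor.comp y g) h𝒳 h𝒱 h𝒵) h𝒳
  have hB := isFibGrpd_fp f (BasedFunctor.comp y g) h𝒳 h𝒱 h𝒵
  refine ⟨BasedFunctor.comp i₁ (BasedFunctor.comp (FibCat.fpSnd x (FibCat.fpFst f
    (BasedFunctor.comp y g))) (BasedFunctor.comp i₂ (FibCat.fpFst (FibCat.fpSnd f g) y))), ?_⟩
  exact repByAlgSpWith_equiv_comp _ i₁ hi₁ _ (repByAlgSpWith_comp_good hQ hA hB _ _
      (repByAlgSpWith_fpSnd _ x _ hx)
      (repByAlgSpWith_equiv_comp _ i₂ hi₂ _ (repByAlgSpWith_fpFst _ y _ hy)))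

/-- A functor over the base out of a category fibred in setoids is faithful. -/
theorem faithful_of_isFibSetoid {C : Type*} [Category C] {𝒲 𝒳 : BasedCategory C}
    (h𝒲 : FibCat.IsFibSetoid 𝒲.p) (x : 𝒲 ⥤ᵇ 𝒳) : x.toFunctor.Faithful := by
  constructor
  intro a b φ ψ h
  have e1 := Functor.congr_hom x.w φ
  have e2 := Functor.congr_hom x.w ψ
  simp only [Functor.comp_map] at e1 e2
  rw [h] at e1
  have e3 := e1.symm.trans e2
  have h0 : 𝒲.p.map φ = 𝒲.p.map ψ := by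
    have e4 := (cancel_epi _).1 e3
    exact (cancel_mono _).1 e4
  haveI : 𝒲.p.IsHomLift (𝒲.p.map φ) ψ := by rw [h0]; infer_instance
  exact hom_eq_of_isFibSetoid h𝒲 (𝒲.p.map φ) φ ψ

end H10PT.BootF
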