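import Mathlib
import Groth.Agent.Lib.Helper10.BootF2

/-!
# Fppf covers by algebraic spaces: fibre products of charts (helper10)
-/

set_option autoImplicit false
set_option backward.isDefEq.respectTransparency false
set_option backward.isDefEq.respectTransparency.types false

universe u

open CategoryTheory CategoryTheory.Limits AlgebraicGeometry Opposite

namespace H10PT.BootF

open Groth.Agent.Lib.Helper10.Fib Groth.Agent.Lib.Helper10.AlgStRep
open Groth.Agent.Lib.Helper10.StkPsh Groth.Agent.Lib.Helper10.HomSheaf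
open Groth.Agent.Lib.Helper10.StkPost Groth.Agent.Lib.Helper10.StkElem
open Groth.Agent.Lib.Helper28.AlgSt.Bridge Groth.Agent.Lib.Helper28.AlgSt.SpaceCalc
open Groth.Agent.Lib.Helper28.AlgSt.PropInst Groth.Agent.Lib.Helper28.AlgSt.Comp
open Groth.Agent.Lib.Helper28.AlgSt.Whisker Groth.Agent.Lib.Helper28.AlgSt.Key
open Groth.Agent.Lib.Helper28.AlgSt.Descent Groth.Agent.Lib.Helper28.AlgSt.DiagComp
open Groth.Agent.Lib.Helper28.AlgSt.ChartOver Groth.Agent.Lib.Helper28.AlgSt.IsoEquiv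
open Groth.Agent.Lib.Helper28.AlgSt.ClsPsh Groth.Agent.Lib.Helper28.AlgSt.PshFun
open Groth.Agent.Lib.Helper28.AlgSt.Chart Groth.Agent.Lib.Helper28.AlgSt.DiagRep
open Groth.Agent.Lib.Helper28.AlgSt.Basic Groth.Agent.Lib.Helper28.AlgSt.FpStack
open Groth.Agent.Lib.Helper28.AlgSt.StackDesc
open Groth.Agent.Lib.Helper16 Groth.Agent.Lib.Helper16.AlgStDC Groth.Agent.Lib.Helper15

variable {S : Scheme.{u}}

/-- If `u : 𝒰 ⟶ 𝒳` is a flat, locally finitely presented, surjective cover, representable by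
algebraic spaces, of a stack `𝒳` by an algebraic space, then `(Sch/V) ×_𝒳 (Sch/U)` is an algebraic
space for all charts. -/
theorem repByAlgSp_fp_charts {𝒰 𝒳 : AlgSt.Cat S} (h𝒳 : Stk.IsStack (AlgSp.J S) 𝒳)
    (hU : AlgSt.RepByAlgSp 𝒰) (u : 𝒰 ⥤ᵇ 𝒳)
    (hfl : AlgSt.RepByAlgSpWith (AlgSp.LocP @Flat) u)
    (hlfp : AlgSt.RepByAlgSpWith (AlgSp.LocP @LocallyOfFinitePresentation) u)
    (hsurj : AlgSt.RepByAlgSpWith AlgSp.IsSurjectiveMor u)
    {U V : Over S} (x : FibCat.overCat U ⥤ᵇ 𝒳) (y : FibCat.overCat V ⥤ᵇ 𝒳) :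
    AlgSt.RepByAlgSp (FibCat.fp y x) := by
  have f𝒳 := h𝒳.1
  have f𝒰 := isFibGrpd_of_repByAlgSp hU
  have hu1 : AlgSt.RepByAlgSp1 u := repByAlgSp1_of_with _ _ hfl
  obtain ⟨V', a, s, ha1, ha2, ha3, ⟨ιy⟩⟩ := exists_fppf_lift_through u hfl hlfp hsurj y
  obtain ⟨U', b, t, hb1, hb2, hb3, ⟨ιx⟩⟩ := exists_fppf_lift_through u hfl hlfp hsurj x
  have hOV' := isFibGrpd_overForget V'
  have hOU' := isFibGrpd_overForget U'
  have hOV := isFibGrpd_overForget V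
  have hOU := isFibGrpd_overForget U
  have ht : AlgSt.RepByAlgSp1 t := repByAlgSp1_of_repByAlgSp (repByAlgSp_overCat U') hU t
  have htu : AlgSt.RepByAlgSp1 (BasedFunctor.comp t u) := repByAlgSp1_comp hOU' f𝒰 t u ht hu1
  have hfst : AlgSt.RepByAlgSp1
      (FibCat.fpFst (BasedFunctor.comp s u) (BasedFunctor.comp t u)) :=
    repByAlgSp1_of_with ⊤ _ (repByAlgSpWith_fpFst ⊤ (BasedFunctor.comp t u)
      (BasedFunctor.comp s u) (repByAlgSpWith_top _ htu))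
  have h𝒜 : AlgSt.RepByAlgSp (FibCat.fp (BasedFunctor.comp s u) (BasedFunctor.comp t u)) :=
    repByAlgSp_of_repByAlgSp1 (isFibGrpd_fp _ _ hOV' hOU' f𝒳) (repByAlgSp_overCat V') _ hfst
  obtain ⟨Φ₁, hΦ₁def⟩ : ∃ Φ₁ : FibCat.fp (BasedFunctor.comp s u) (BasedFunctor.comp t u) ⥤ᵇ
      FibCat.fp (BasedFunctor.comp (AlgSt.overMap a) y) (BasedFunctor.comp (AlgSt.overMap b) x),
      Φ₁ = fpMap (γ := BasedFunctor.id 𝒳) (α := BasedFunctor.id (FibCat.overCat V'))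
        (β := BasedFunctor.id (FibCat.overCat U')) (G' := BasedFunctor.comp s u)
        (G := BasedFunctor.comp (AlgSt.overMap a) y) (f' := BasedFunctor.comp t u)
        (f := BasedFunctor.comp (AlgSt.overMap b) x) ιy ιx := ⟨_, rfl⟩
  have hΦ₁ : FibCat.IsEquivOver Φ₁ := by
    have := id_full 𝒳
    have := id_faithful 𝒳
    rw [hΦ₁def]
    exact isEquivOver_fpMap _ _ (isEquivOver_id _) (isEquivOver_id _)
  have hQ := good_QF (S := S)
  have hqa : AlgSt.RepByAlgSpWith (QF S) (AlgSt.overMap a) :=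
    H10PT.repByAlgSpWith_overMap _ hQ.bc a (qF_yon_map a ha1 ha2 ha3)
  have hqb : AlgSt.RepByAlgSpWith (QF S) (AlgSt.overMap b) :=
    H10PT.repByAlgSpWith_overMap _ hQ.bc b (qF_yon_map b hb1 hb2 hb3)
  obtain ⟨Φ₂, hΦ₂⟩ := exists_cover_fp_good hQ hOV' hOU' hOV hOU f𝒳 y x (AlgSt.overMap a)
    (AlgSt.overMap b) hqa hqb
  have hcov : AlgSt.RepByAlgSpWith (QF S) (BasedFunctor.comp Φ₁ Φ₂) :=
    repByAlgSpWith_equiv_comp _ Φ₁ hΦ₁ Φ₂ hΦ₂
  haveI : x.toFunctor.Faithful :=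
    faithful_of_isFibSetoid (isFibSetoid_of_repByAlgSp (repByAlgSp_overCat U)) x
  have hfs : FibCat.IsFibSetoid (FibCat.fp y x).p :=
    isFibSetoid_fp_left (isFibSetoid_of_repByAlgSp (repByAlgSp_overCat V)) hOU f𝒳 y x
  have hst : Stk.IsStack (AlgSp.J S) (FibCat.fp y x) :=
    Groth.Agent.Lib.Helper10.StkFp.isStack_fp y x _ (isStack_overCat V) (isStack_overCat U)
      (isPrestack_of_isStack h𝒳)
  exact repByAlgSp_of_fppf_cover hst hfs h𝒜 _ hcov

/-- A stack with a flat, locally finitely presented, surjective cover, representable by algebraic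
spaces, by an algebraic space has diagonal representable by algebraic spaces. -/
theorem repByAlgSp1_diag_of_fppf_cover {𝒰 𝒳 : AlgSt.Cat S} (h𝒳 : Stk.IsStack (AlgSp.J S) 𝒳)
    (hU : AlgSt.RepByAlgSp 𝒰) (u : 𝒰 ⥤ᵇ 𝒳)
    (hfl : AlgSt.RepByAlgSpWith (AlgSp.LocP @Flat) u)
    (hlfp : AlgSt.RepByAlgSpWith (AlgSp.LocP @LocallyOfFinitePresentation) u)
    (hsurj : AlgSt.RepByAlgSpWith AlgSp.IsSurjectiveMor u) :
    AlgSt.RepByAlgSp1 (FibCat.diag (FibCat.toSelf 𝒳)) :=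
  repByAlgSp1_diag_of_forall h𝒳.1
    (fun _ x _ y => repByAlgSp_fp_charts h𝒳 hU u hfl hlfp hsurj x y)

end H10PT.BootF
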