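import Mathlib

/-!
# Localization at bounded torsion objects (helper10)
-/

set_option autoImplicit false
universe v v' u u'
open CategoryTheory CategoryTheory.Limits

namespace H10BT

section Pre
variable {C : Type u} [Category.{v} C] [Preadditive C]

lemma zsmul_id_comp {X Y : C} (n : ℤ) (f : X ⟶ Y) : (n • 𝟙 X) ≫ f = n • f := by
  rw [Preadditive.zsmul_comp, Category.id_comp]

lemma comp_zsmul_id {X Y : C} (n : ℤ) (f : X ⟶ Y) : f ≫ (n • 𝟙 Y) = n • f := by
  rw [Preadditive.comp_zsmul, Category.comp_id]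

end Pre

variable {A : Type u} [Category.{v} A] [Abelian A]

lemma exists_quasi_inverse {Z X : A} (s : Z ⟶ X) (a b : ℤ) (ha : a • 𝟙 (kernel s) = 0)
    (hb : b • 𝟙 (cokernel s) = 0) : ∃ t : X ⟶ Z, t ≫ s = (a * b) • 𝟙 X := by
  have h1 : (b • 𝟙 X) ≫ cokernel.π s = 0 := by
    rw [zsmul_id_comp, ← comp_zsmul_id, hb, comp_zero]
  have h2 : kernel.ι s ≫ (a • 𝟙 Z) = 0 := by
    rw [comp_zsmul_id, ← zsmul_id_comp, ha, zero_comp]
  obtain ⟨u, hu⟩ : ∃ u : X ⟶ Abelian.image s, u ≫ Abelian.image.ι s = b • 𝟙 X :=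
    ⟨kernel.lift _ _ h1, kernel.lift_ι _ _ _⟩
  obtain ⟨v₀, hv₀⟩ : ∃ v₀ : Abelian.coimage s ⟶ Z, Abelian.coimage.π s ≫ v₀ = a • 𝟙 Z :=
    ⟨cokernel.desc _ _ h2, cokernel.π_desc _ _ _⟩
  have hfac : Abelian.coimage.π s ≫ (Abelian.coimageIsoImage s).hom ≫ Abelian.image.ι s = s :=
    Abelian.coimage_image_factorisation s
  have hv : ((Abelian.coimageIsoImage s).inv ≫ v₀) ≫ s = a • Abelian.image.ι s := by
    rw [← cancel_epi (Abelian.coimage.π s ≫ (Abelian.coimageIsoImage s).hom)]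
    calc (Abelian.coimage.π s ≫ (Abelian.coimageIsoImage s).hom) ≫
          ((Abelian.coimageIsoImage s).inv ≫ v₀) ≫ s
        = (Abelian.coimage.π s ≫ v₀) ≫ s := by
          simp only [Category.assoc, Iso.hom_inv_id_assoc]
      _ = a • s := by rw [hv₀, zsmul_id_comp]
      _ = (Abelian.coimage.π s ≫ (Abelian.coimageIsoImage s).hom) ≫
            (a • Abelian.image.ι s) := by
          rw [Preadditive.comp_zsmul, Category.assoc, hfac]
  refine ⟨u ≫ (Abelian.coimageIsoImage s).inv ≫ v₀, ?_⟩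
  calc (u ≫ (Abelian.coimageIsoImage s).inv ≫ v₀) ≫ s
      = u ≫ ((Abelian.coimageIsoImage s).inv ≫ v₀) ≫ s := by simp only [Category.assoc]
    _ = u ≫ (a • Abelian.image.ι s) := by rw [hv]
    _ = a • (u ≫ Abelian.image.ι s) := Preadditive.comp_zsmul _ _ _
    _ = a • (b • 𝟙 X) := by rw [hu]
    _ = (a * b) • 𝟙 X := smul_smul a b _

lemma zsmul_image_iff {X Y : A} (f : X ⟶ Y) (n : ℤ) :
    n • 𝟙 (Abelian.image f) = 0 ↔ n • f = 0 := by
  have h3 : Abelian.factorThruImage f ≫ (n • 𝟙 (Abelian.image f)) ≫ Abelian.image.ι f = n • f := by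
    rw [zsmul_id_comp, Preadditive.comp_zsmul, Abelian.image.fac]
  constructor
  · intro h
    rw [← h3, h, zero_comp, comp_zero]
  · intro hn
    rw [hn] at h3
    have h4 : (n • 𝟙 (Abelian.image f)) ≫ Abelian.image.ι f = 0 := by
      rw [← cancel_epi (Abelian.factorThruImage f), h3, comp_zero]
    rw [← cancel_mono (Abelian.image.ι f), h4, zero_comp]

variable {D : Type u'} [Category.{v'} D] [Preadditive D]
  (P : ObjectProperty A) (hP : ∀ X : A, P X ↔ ∃ n : ℤ, n ≠ 0 ∧ n • (𝟙 X) = 0) [P.IsSerreClass]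
  (L : A ⥤ D) [L.Additive] [L.IsLocalization P.isoModSerre]

include hP in
lemma isoModSerre_zsmul_id (Y : A) (n : ℤ) (hn : n ≠ 0) : P.isoModSerre (n • 𝟙 Y) := by
  constructor
  · rw [ObjectProperty.monoModSerre_iff, hP]
    refine ⟨n, hn, ?_⟩
    rw [← cancel_mono (kernel.ι (n • 𝟙 Y)), zero_comp, zsmul_id_comp]
    have h := kernel.condition (n • 𝟙 Y)
    rwa [comp_zsmul_id] at h
  · rw [ObjectProperty.epiModSerre_iff, hP]
    refine ⟨n, hn, ?_⟩
    rw [← cancel_epi (cokernel.π (n • 𝟙 Y)), comp_zero, comp_zsmul_id]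
    have h := cokernel.condition (n • 𝟙 Y)
    rwa [zsmul_id_comp] at h

include hP in
theorem main (X Y : A) :
    (∀ n : ℤ, n ≠ 0 → Function.Bijective (fun g : L.obj X ⟶ L.obj Y => n • g)) ∧
    (∀ f : X ⟶ Y, L.map f = 0 ↔ ∃ n : ℤ, n ≠ 0 ∧ n • f = 0) ∧
    (∀ g : L.obj X ⟶ L.obj Y, ∃ (n : ℤ) (f : X ⟶ Y), n ≠ 0 ∧ n • g = L.map f) := by
  refine ⟨?_, ?_, ?_⟩
  · intro n hn
    haveI : IsIso (L.map (n • 𝟙 Y)) :=
      Localization.inverts L P.isoModSerre _ (isoModSerre_zsmul_id P hP Y n hn)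
    have key : ∀ g : L.obj X ⟶ L.obj Y, n • g = g ≫ L.map (n • 𝟙 Y) := by
      intro g
      rw [L.map_zsmul, CategoryTheory.Functor.map_id, comp_zsmul_id]
    constructor
    · intro g g' h
      have h' : n • g = n • g' := h
      rw [key, key] at h'
      exact (cancel_mono _).1 h'
    · intro h
      refine ⟨h ≫ inv (L.map (n • 𝟙 Y)), ?_⟩
      show n • (h ≫ inv (L.map (n • 𝟙 Y))) = h
      rw [key, Category.assoc, IsIso.inv_hom_id, Category.comp_id]
  · intro f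
    rw [ObjectProperty.SerreClassLocalization.map_eq_zero_iff L P f, hP]
    constructor
    · rintro ⟨n, hn, h⟩
      exact ⟨n, hn, (zsmul_image_iff f n).1 h⟩
    · rintro ⟨n, hn, h⟩
      exact ⟨n, hn, (zsmul_image_iff f n).2 h⟩
  · intro g
    obtain ⟨φ, hφ⟩ := Localization.exists_rightFraction L P.isoModSerre g
    have hsb : L.map φ.s ≫ g = L.map φ.f := by
      rw [hφ, MorphismProperty.RightFraction.map_s_comp_map]
    obtain ⟨a, ha0, ha⟩ := (hP _).1 ((P.monoModSerre_iff φ.s).1 φ.hs.1)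
    obtain ⟨b, hb0, hb⟩ := (hP _).1 ((P.epiModSerre_iff φ.s).1 φ.hs.2)
    obtain ⟨t, ht⟩ := exists_quasi_inverse φ.s a b ha hb
    refine ⟨a * b, t ≫ φ.f, mul_ne_zero ha0 hb0, ?_⟩
    rw [L.map_comp, ← hsb, ← Category.assoc, ← L.map_comp, ht, L.map_zsmul,
      CategoryTheory.Functor.map_id, zsmul_id_comp]

end H10BT
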