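import Mathlib
import Groth.Prelude.Def_DeRham
import Groth.Agent.Lib.Helper10.ExtDeriv
import Groth.Agent.Lib.Helper23.DeRham

/-!
# Cartan calculus on the exterior algebra of Kähler differentials (helper10)

For an `R`-algebra `B` and an `R`-derivation `θ : B → B`: the contraction `ct θ` of the exterior
algebra `E = ⋀_B Ω[B/R]` against `θ`, the Lie derivative `L θ = d ∘ ct θ + ct θ ∘ d` (a degree-zero
derivation of `E` commuting with `d`), and the bridge between the global exterior derivative
`H10ED.d` and any degreewise family satisfying the rule `DeRham.IsRule`.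
-/

set_option autoImplicit false
universe u

namespace H10CC

variable (R B : Type u) [CommRing R] [CommRing B] [Algebra R B]

local notation "ΩB" => KaehlerDifferential R B
local notation "EB" => ExteriorAlgebra B (KaehlerDifferential R B)
local notation "ιB" => ExteriorAlgebra.ι B (M := KaehlerDifferential R B)
local notation "DB" => KaehlerDifferential.D R B
local notation "gI" => H10ED.gi R B
local notation "dd" => H10ED.d R B

/-- the exterior power, as a submodule of the exterior algebra -/
noncomputable abbrev Gr (q : ℕ) : Submodule B EB :=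
  ExteriorAlgebra.exteriorPower B q (KaehlerDifferential R B)

theorem mem0 (a : B) : algebraMap B EB a ∈ Gr R B 0 := by
  show _ ∈ LinearMap.range ιB ^ 0
  rw [pow_zero]; exact Submodule.algebraMap_mem a

theorem mem1 (v : ΩB) : ιB v ∈ Gr R B 1 := by
  show _ ∈ LinearMap.range ιB ^ 1
  rw [pow_one]; exact ⟨v, rfl⟩

theorem d_one : dd (1 : EB) = 0 := by
  have h := H10ED.d_algebraMap R B 1
  rw [map_one, Derivation.map_one_eq_zero, map_zero] at h
  exact h

theorem d_smul (r : R) (x : EB) : dd (r • x) = r • dd x := by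
  rw [algebra_compatible_smul B r x, Algebra.smul_def (algebraMap R B r) x, H10ED.d_mul,
    H10ED.d_algebraMap, Derivation.map_algebraMap, map_zero, zero_mul, zero_add,
    H10ED.gi_algebraMap, algebra_compatible_smul B r (dd x),
    Algebra.smul_def (algebraMap R B r) (dd x)]

theorem d_ι_mem (v : ΩB) : dd (ιB v) ∈ Gr R B 2 := by
  induction H10ED.mem_span R B v using Submodule.span_induction with
  | mem x hx =>
    obtain ⟨c, rfl⟩ := hx
    rw [H10ED.d_ι_D]; exact Submodule.zero_mem _
  | zero => rw [map_zero ιB, map_zero]; exact Submodule.zero_mem _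
  | add x y _ _ hx hy =>
    rw [map_add ιB x y, map_add]; exact Submodule.add_mem _ hx hy
  | smul b x _ hx =>
    rw [LinearMap.map_smul, Algebra.smul_def, H10ED.d_mul, H10ED.d_algebraMap,
      H10ED.gi_algebraMap]
    refine Submodule.add_mem _ ?_ ?_
    · show ιB (DB b) * ιB x ∈ LinearMap.range ιB ^ 2
      rw [pow_two]; exact Submodule.mul_mem_mul ⟨_, rfl⟩ ⟨_, rfl⟩
    · rw [← Algebra.smul_def]; exact Submodule.smul_mem _ _ hx

theorem d_mem (p : ℕ) (x : EB) (hx : x ∈ Gr R B p) : dd x ∈ Gr R B (p + 1) := by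
  induction hx using Submodule.pow_induction_on_left' with
  | algebraMap r => rw [H10ED.d_algebraMap]; exact mem1 R B _
  | add x y i hx hy ihx ihy => rw [map_add]; exact Submodule.add_mem _ ihx ihy
  | mem_mul m hm i x hx ih =>
    obtain ⟨v, rfl⟩ := hm
    rw [H10ED.d_mul, H10ED.gi_ι, neg_mul]
    refine Submodule.add_mem _ ?_ (Submodule.neg_mem _ ?_)
    · have h2 : dd (ιB v) * x ∈ LinearMap.range ιB ^ (2 + i) := by
        rw [pow_add]; exact Submodule.mul_mem_mul (d_ι_mem R B v) hx
      have e : 2 + i = i + 1 + 1 := by omega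
      rw [e] at h2
      exact h2
    · show ιB v * dd x ∈ LinearMap.range ιB ^ (i + 1 + 1)
      rw [pow_succ']; exact Submodule.mul_mem_mul ⟨v, rfl⟩ ih

theorem d_prod : ∀ (p : ℕ) (b : Fin p → B),
    dd ((List.ofFn fun i => ιB (DB (b i))).prod) = 0 := by
  intro p
  induction p with
  | zero => intro b; rw [List.ofFn_zero, List.prod_nil]; exact d_one R B
  | succ p ih =>
    intro b
    rw [List.ofFn_succ, List.prod_cons, H10ED.d_mul, H10ED.d_ι_D, zero_mul, zero_add,
      ih (fun i => b i.succ), mul_zero]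

theorem coe_gen (p : ℕ) (b₀ : B) (b : Fin p → B) :
    ((DeRham.gen DB p b₀ b : ↥(ExteriorAlgebra.exteriorPower B p (KaehlerDifferential R B))) : EB) =
      algebraMap B EB b₀ * (List.ofFn fun i => ιB (DB (b i))).prod := by
  unfold DeRham.gen
  rw [Submodule.coe_smul, exteriorPower.ιMulti_apply_coe, ExteriorAlgebra.ιMulti_apply,
    Algebra.smul_def]

/-- a degreewise family obeying the rule of the reference is the restriction of the global exterior
derivative -/
theorem coe_d
    (d : ∀ p : ℕ, ↥(ExteriorAlgebra.exteriorPower B p (KaehlerDifferential R B)) →ₗ[R]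
      ↥(ExteriorAlgebra.exteriorPower B (p + 1) (KaehlerDifferential R B)))
    (hd : DeRham.IsRule (KaehlerDifferential.D R B) d) (p : ℕ)
    (x : ↥(ExteriorAlgebra.exteriorPower B p (KaehlerDifferential R B))) :
    ((d p x : ↥(ExteriorAlgebra.exteriorPower B (p + 1) (KaehlerDifferential R B))) : EB) =
      dd (x : EB) := by
  refine Groth.Agent.Lib.Helper23.DeRhamAux.gen_induction (KaehlerDifferential.D R B)
    (KaehlerDifferential.span_range_derivation R B) p
    (fun x => ((d p x : ↥(ExteriorAlgebra.exteriorPower B (p + 1) (KaehlerDifferential R B))) : EB) =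
      dd (x : EB)) ?_ ?_ ?_ x
  · rw [map_zero, ZeroMemClass.coe_zero, ZeroMemClass.coe_zero, map_zero]
  · intro x y hx hy
    rw [map_add, Submodule.coe_add, hx, hy, Submodule.coe_add, map_add]
  · intro b₀ b
    rw [hd p b₀ b, coe_gen, exteriorPower.ιMulti_apply_coe, ExteriorAlgebra.ιMulti_apply,
      List.ofFn_succ, List.prod_cons, H10ED.d_mul, H10ED.d_algebraMap, H10ED.gi_algebraMap,
      d_prod, mul_zero, add_zero]
    simp only [Fin.cons_zero, Fin.cons_succ]

variable (θ : Derivation R B B)

/-- the vector field `θ` as a linear form on differentials -/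
noncomputable def eb : ΩB →ₗ[B] B := θ.liftKaehlerDifferential

theorem eb_D (a : B) : eb R B θ (DB a) = θ a :=
  Derivation.liftKaehlerDifferential_comp_D _ a

/-- contraction with the vector field `θ` -/
noncomputable def ct : EB →ₗ[B] EB := CliffordAlgebra.contractLeft (eb R B θ)

theorem ct_algebraMap (a : B) : ct R B θ (algebraMap B EB a) = 0 :=
  CliffordAlgebra.contractLeft_algebraMap _ (eb R B θ) a

theorem ct_ι (v : ΩB) : ct R B θ (ιB v) = algebraMap B EB (eb R B θ v) :=
  CliffordAlgebra.contractLeft_ι _ (eb R B θ) v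

theorem ct_ι_mul (v : ΩB) (x : EB) :
    ct R B θ (ιB v * x) = eb R B θ v • x - ιB v * ct R B θ x :=
  CliffordAlgebra.contractLeft_ι_mul (eb R B θ) v x

theorem ct_algebraMap_mul (a : B) (x : EB) :
    ct R B θ (algebraMap B EB a * x) = algebraMap B EB a * ct R B θ x :=
  CliffordAlgebra.contractLeft_algebraMap_mul (eb R B θ) a x

theorem ct_mul (ω η : EB) : ct R B θ (ω * η) = ct R B θ ω * η + gI ω * ct R B θ η := by
  induction ω using ExteriorAlgebra.induction generalizing η with
  | algebraMap a =>
    rw [ct_algebraMap_mul, ct_algebraMap, zero_mul, zero_add, H10ED.gi_algebraMap]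
  | ι v => rw [ct_ι_mul, ct_ι, H10ED.gi_ι, Algebra.smul_def, neg_mul, sub_eq_add_neg]
  | mul a b ha hb =>
    rw [mul_assoc, ha (b * η), hb η, ha b, map_mul gI a b]
    simp only [mul_add, add_mul, mul_assoc, add_assoc]
  | add a b ha hb =>
    simp only [add_mul, map_add, ha, hb]
    abel

theorem ct_gi (ω : EB) : ct R B θ (gI ω) = -gI (ct R B θ ω) := by
  induction ω using ExteriorAlgebra.induction with
  | algebraMap a => rw [H10ED.gi_algebraMap, ct_algebraMap, map_zero, neg_zero]
  | ι v => rw [H10ED.gi_ι, map_neg, ct_ι, H10ED.gi_algebraMap]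
  | mul a b ha hb =>
    rw [map_mul gI a b, ct_mul, ha, hb, ct_mul, map_add gI, map_mul gI, map_mul gI, neg_mul,
      mul_neg, neg_add]
  | add a b ha hb =>
    rw [map_add gI a b, map_add (ct R B θ), ha, hb, map_add (ct R B θ) a b, map_add gI, neg_add]

theorem ct_mem (p : ℕ) (x : EB) (hx : x ∈ Gr R B (p + 1)) : ct R B θ x ∈ Gr R B p := by
  suffices h : ∀ (q : ℕ) (x : EB), x ∈ Gr R B q → ∀ p, q = p + 1 → ct R B θ x ∈ Gr R B p from
    h _ x hx p rfl
  intro q x hx
  induction hx using Submodule.pow_induction_on_left' with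
  | algebraMap r => intro p hp; omega
  | add x y i hx hy ihx ihy =>
    intro p hp
    rw [map_add]
    exact Submodule.add_mem _ (ihx p hp) (ihy p hp)
  | mem_mul m hm i x hx ih =>
    intro p hp
    obtain ⟨v, rfl⟩ := hm
    have hpi : i = p := by omega
    subst hpi
    rw [ct_ι_mul]
    refine Submodule.sub_mem _ (Submodule.smul_mem _ _ hx) ?_
    cases i with
    | zero =>
      have hx0 : x ∈ (1 : Submodule B EB) := by rwa [pow_zero] at hx
      obtain ⟨r, rfl⟩ := Submodule.mem_one.1 hx0
      rw [ct_algebraMap, mul_zero]; exact Submodule.zero_mem _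
    | succ j =>
      have h1 := ih j rfl
      show ιB v * ct R B θ x ∈ LinearMap.range ιB ^ (j + 1)
      rw [pow_succ']
      exact Submodule.mul_mem_mul ⟨v, rfl⟩ h1

/-- the Lie derivative along `θ` -/
noncomputable def L : EB →+ EB :=
  (H10ED.d R B).comp (ct R B θ).toAddMonoidHom + (ct R B θ).toAddMonoidHom.comp (H10ED.d R B)

theorem L_apply (x : EB) : L R B θ x = dd (ct R B θ x) + ct R B θ (dd x) := rfl

theorem L_mul (ω η : EB) : L R B θ (ω * η) = L R B θ ω * η + ω * L R B θ η := by
  have e1 : dd (ct R B θ (ω * η)) = dd (ct R B θ ω) * η + gI (ct R B θ ω) * dd η +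
      (-gI (dd ω) * ct R B θ η + ω * dd (ct R B θ η)) := by
    rw [ct_mul, map_add dd, H10ED.d_mul, H10ED.d_mul, H10ED.d_gi, H10ED.gi_gi]
  have e2 : ct R B θ (dd (ω * η)) = ct R B θ (dd ω) * η + gI (dd ω) * ct R B θ η +
      (-gI (ct R B θ ω) * dd η + ω * ct R B θ (dd η)) := by
    rw [H10ED.d_mul, map_add (ct R B θ), ct_mul, ct_mul, ct_gi, H10ED.gi_gi]
  rw [L_apply, L_apply, L_apply, e1, e2, add_mul, mul_add, neg_mul, neg_mul]
  abel

theorem L_d (x : EB) : L R B θ (dd x) = dd (L R B θ x) := by
  rw [L_apply, L_apply, H10ED.d_d, map_zero, add_zero, map_add dd, H10ED.d_d, zero_add]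

theorem L_algebraMap (a : B) : L R B θ (algebraMap B EB a) = algebraMap B EB (θ a) := by
  rw [L_apply, ct_algebraMap, map_zero, zero_add, H10ED.d_algebraMap, ct_ι, eb_D]

theorem L_ι_D (a : B) : L R B θ (ιB (DB a)) = ιB (DB (θ a)) := by
  rw [L_apply, ct_ι, eb_D, H10ED.d_algebraMap, H10ED.d_ι_D, map_zero, add_zero]

theorem L_one : L R B θ (1 : EB) = 0 := by
  have h := L_algebraMap R B θ 1
  rw [map_one, Derivation.map_one_eq_zero, map_zero] at h
  exact h

end H10CC
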