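import Mathlib
import Groth.Prelude.Def_CE

/-!
# Cartan–Eilenberg resolutions, one step

For a cochain complex `K` we build a monomorphism `ε : K ⟶ I` into a split complex with injective
terms, cycles and homology, such that `H(ε)` is a monomorphism.  The cokernel of `ε` then has
short exact sequences of terms, cycles and homology.
-/

set_option autoImplicit false

namespace H10CR

open CategoryTheory CategoryTheory.Limits

universe v u

section General

variable {A : Type u} [Category.{v} A] [Abelian A]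

lemma injective_of_isZero {X : A} (h : IsZero X) : Injective X where
  factors _ _ _ := ⟨0, h.eq_of_tgt _ _⟩

lemma injective_of_retract {Z E : A} [Injective E] (i : Z ⟶ E) (r : E ⟶ Z) (h : i ≫ r = 𝟙 Z) :
    Injective Z where
  factors g f _ := ⟨Injective.factorThru (g ≫ i) f ≫ r, by
    rw [← Category.assoc, Injective.comp_factorThru, Category.assoc, h, Category.comp_id]⟩

lemma isZero_biprod {X Y : A} (hX : IsZero X) (hY : IsZero Y) : IsZero (X ⊞ Y) := by
  rw [IsZero.iff_id_eq_zero]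
  apply biprod.hom_ext
  · exact hX.eq_of_tgt _ _
  · exact hY.eq_of_tgt _ _

lemma exact_comp_of_exact {P Q R T U : A} (p : P ⟶ Q) [Epi p] (u : Q ⟶ R) (v : R ⟶ T)
    (w : T ⟶ U) [Mono w] (huv : u ≫ v = 0) (h : (ShortComplex.mk u v huv).Exact) :
    (ShortComplex.mk (p ≫ u) (v ≫ w)
      (by rw [Category.assoc, reassoc_of% huv, zero_comp, comp_zero])).Exact := by
  have h1 : (ShortComplex.mk u (v ≫ w) (by rw [reassoc_of% huv, zero_comp])).Exact := by
    let α : ShortComplex.mk u v huv ⟶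
        ShortComplex.mk u (v ≫ w) (by rw [reassoc_of% huv, zero_comp]) :=
      ShortComplex.homMk (𝟙 _) (𝟙 _) w (by simp) (by simp)
    haveI : Epi α.τ₁ := show Epi (𝟙 Q) from inferInstance
    haveI : IsIso α.τ₂ := show IsIso (𝟙 R) from inferInstance
    haveI : Mono α.τ₃ := show Mono w from inferInstance
    exact (ShortComplex.exact_iff_of_epi_of_isIso_of_mono α).1 h
  let β : ShortComplex.mk (p ≫ u) (v ≫ w)
      (by rw [Category.assoc, reassoc_of% huv, zero_comp, comp_zero]) ⟶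
      ShortComplex.mk u (v ≫ w) (by rw [reassoc_of% huv, zero_comp]) :=
    ShortComplex.homMk p (𝟙 _) (𝟙 _) (by simp) (by simp)
  haveI : Epi β.τ₁ := show Epi p from inferInstance
  haveI : IsIso β.τ₂ := show IsIso (𝟙 R) from inferInstance
  haveI : Mono β.τ₃ := show Mono (𝟙 U) from inferInstance
  exact (ShortComplex.exact_iff_of_epi_of_isIso_of_mono β).2 h1

lemma epi_of_three {X₁ X₂ X₃ Y₁ Y₂ Y₃ : A} (f₁ : X₁ ⟶ X₂) (g₁ : X₂ ⟶ X₃) (f₂ : Y₁ ⟶ Y₂)
    (g₂ : Y₂ ⟶ Y₃) (a : X₁ ⟶ Y₁) (b : X₂ ⟶ Y₂) (c : X₃ ⟶ Y₃) (comm1 : f₁ ≫ b = a ≫ f₂)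
    (comm2 : g₁ ≫ c = b ≫ g₂) (w₂ : f₂ ≫ g₂ = 0) (ex₂ : (ShortComplex.mk f₂ g₂ w₂).Exact)
    [Epi g₁] [Epi a] [Epi c] : Epi b := by
  rw [epi_iff_surjective_up_to_refinements]
  intro T y
  obtain ⟨T₁, π₁, hπ₁, x, hx⟩ := surjective_up_to_refinements_of_epi (g₁ ≫ c) (y ≫ g₂)
  have h1 : (π₁ ≫ y - x ≫ b) ≫ g₂ = 0 := by
    rw [Preadditive.sub_comp, Category.assoc, Category.assoc, hx, ← comm2, sub_self]
  obtain ⟨T₂, π₂, hπ₂, z, hz⟩ := ex₂.exact_up_to_refinements (π₁ ≫ y - x ≫ b) h1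
  obtain ⟨T₃, π₃, hπ₃, t, ht⟩ := surjective_up_to_refinements_of_epi a z
  refine ⟨T₃, π₃ ≫ π₂ ≫ π₁, inferInstance, π₃ ≫ π₂ ≫ x + t ≫ f₁, ?_⟩
  have h2 : π₃ ≫ π₂ ≫ (π₁ ≫ y - x ≫ b) = t ≫ a ≫ f₂ := by
    rw [hz]
    change π₃ ≫ z ≫ f₂ = t ≫ a ≫ f₂
    rw [← Category.assoc, ht, Category.assoc]
  rw [Preadditive.comp_sub, Preadditive.comp_sub, sub_eq_iff_eq_add'] at h2
  rw [Preadditive.add_comp, Category.assoc, Category.assoc, Category.assoc, Category.assoc,
    Category.assoc, comm1]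
  exact h2

variable [EnoughInjectives A]

lemma exists_inj (X : A) :
    ∃ (E : A) (i : X ⟶ E), Injective E ∧ Mono i ∧ (IsZero X → IsZero E) := by
  by_cases h : IsZero X
  · exact ⟨X, 𝟙 X, injective_of_isZero h, inferInstance, fun _ => h⟩
  · exact ⟨Injective.under X, Injective.ι X, inferInstance, inferInstance,
      fun h' => absurd h' h⟩

noncomputable def E (X : A) : A := (exists_inj X).choose

noncomputable def ιE (X : A) : X ⟶ E X := (exists_inj X).choose_spec.choose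

instance (X : A) : Injective (E X) := (exists_inj X).choose_spec.choose_spec.1

instance (X : A) : Mono (ιE X) := (exists_inj X).choose_spec.choose_spec.2.1

lemma isZero_E {X : A} (h : IsZero X) : IsZero (E X) :=
  (exists_inj X).choose_spec.choose_spec.2.2 h

end General

section Split

variable {A : Type u} [Category.{v} A] [Abelian A]

lemma injective_cycles_of_split (L : CochainComplex A ℤ) (p : ℤ) (s : L.X (p + 1) ⟶ L.X p)
    (hs : L.d p (p + 1) ≫ s ≫ L.d p (p + 1) = L.d p (p + 1)) [Injective (L.X p)] :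
    Injective (L.cycles p) := by
  have h1 : (𝟙 (L.X p) - L.d p (p + 1) ≫ s) ≫ L.d p (p + 1) = 0 := by
    rw [Preadditive.sub_comp, Category.id_comp, Category.assoc, hs, sub_self]
  refine injective_of_retract (L.iCycles p)
    (L.liftCycles (𝟙 (L.X p) - L.d p (p + 1) ≫ s) (p + 1) (by simp) h1) ?_
  rw [← cancel_mono (L.iCycles p), Category.assoc, HomologicalComplex.liftCycles_i,
    Preadditive.comp_sub, Category.comp_id, HomologicalComplex.iCycles_d_assoc, zero_comp,
    sub_zero, Category.id_comp]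

lemma injective_homology_of_split (L : CochainComplex A ℤ) (q p : ℤ) (hqp : q + 1 = p)
    (s : L.X p ⟶ L.X q) (hs : L.d q p ≫ s ≫ L.d q p = L.d q p) [Injective (L.cycles p)] :
    Injective (L.homology p) := by
  obtain rfl := hqp
  have hβ0 : (L.iCycles (q + 1) ≫ s ≫ L.d q (q + 1)) ≫ L.d (q + 1) (q + 1 + 1) = 0 := by
    rw [Category.assoc, Category.assoc, L.d_comp_d, comp_zero, comp_zero]
  obtain ⟨β, hβi, hβπ⟩ : ∃ β : L.cycles (q + 1) ⟶ L.cycles (q + 1),
      β ≫ L.iCycles (q + 1) = L.iCycles (q + 1) ≫ s ≫ L.d q (q + 1) ∧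
      β ≫ L.homologyπ (q + 1) = 0 :=
    ⟨L.liftCycles (L.iCycles (q + 1) ≫ s ≫ L.d q (q + 1)) (q + 1 + 1) (by simp) hβ0,
      HomologicalComplex.liftCycles_i _ _ _ _ _,
      L.liftCycles_homologyπ_eq_zero_of_boundary _ (q + 1 + 1) (by simp)
        (L.iCycles (q + 1) ≫ s) (by rw [Category.assoc])⟩
  have h0 : L.toCycles q (q + 1) ≫ (𝟙 _ - β) = 0 := by
    rw [← cancel_mono (L.iCycles (q + 1)), zero_comp, Category.assoc, Preadditive.sub_comp,
      Category.id_comp, hβi, Preadditive.comp_sub, HomologicalComplex.toCycles_i,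
      HomologicalComplex.toCycles_i_assoc, hs, sub_self]
  obtain ⟨σ, hσ⟩ := CokernelCofork.IsColimit.desc'
    (L.homologyIsCokernel q (q + 1) (by simp)) (𝟙 _ - β) h0
  have hσ' : L.homologyπ (q + 1) ≫ σ = 𝟙 _ - β := hσ
  refine injective_of_retract σ (L.homologyπ (q + 1)) ?_
  rw [← cancel_epi (L.homologyπ (q + 1)), reassoc_of% hσ', Preadditive.sub_comp,
    Category.id_comp, hβπ, sub_zero, Category.comp_id]

end Split

end H10CR
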