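import Groth.Agent.Lib.Helper10.CartanEilenbergMain

/-!
# Cartan–Eilenberg resolutions: the main theorem
-/

set_option autoImplicit false

namespace H10CR

open CategoryTheory CategoryTheory.Limits ZeroObject

universe v u

variable {A : Type u} [Category.{v} A] [Abelian A] [EnoughInjectives A]

noncomputable def stg (K : CochainComplex A ℤ) : ℕ → CochainComplex A ℤ
  | 0 => K
  | q + 1 => Step.next (stg K q)

lemma stg_GE (K : CochainComplex A ℤ) (n : ℤ) [K.IsStrictlyGE n] :
    ∀ q, (stg K q).IsStrictlyGE n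
  | 0 => ‹_›
  | q + 1 => by
    haveI := stg_GE K n q
    exact Step.next_isStrictlyGE (stg K q) n

noncomputable def Iq (K : CochainComplex A ℤ) (q : ℕ) : CochainComplex A ℤ :=
  Step.Icx (stg K q)

noncomputable def aq (K : CochainComplex A ℤ) (q : ℕ) : stg K q ⟶ Iq K q := Step.ε (stg K q)

noncomputable def bq (K : CochainComplex A ℤ) (q : ℕ) : Iq K q ⟶ stg K (q + 1) :=
  cokernel.π (Step.ε (stg K q))

lemma wq (K : CochainComplex A ℤ) (q : ℕ) : aq K q ≫ bq K q = 0 := cokernel.condition _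

lemma hSC (K : CochainComplex A ℤ) (q : ℕ) :
    (ShortComplex.mk (aq K q) (bq K q) (wq K q)).ShortExact := Step.SC_shortExact (stg K q)

lemma hmq (K : CochainComplex A ℤ) (q : ℕ) (p : ℤ) :
    Mono (HomologicalComplex.homologyMap (ShortComplex.mk (aq K q) (bq K q) (wq K q)).f p) :=
  Step.monoH (stg K q) p

noncomputable def CEres (K : CochainComplex A ℤ) : CochainComplex (CochainComplex A ℤ) ℤ :=
  Jcx (stg K) (Iq K) (aq K) (bq K) (wq K)

theorem main (K : CochainComplex A ℤ) (n : ℤ) [K.IsStrictlyGE n] :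
    ∃ (I : CochainComplex (CochainComplex A ℤ) ℤ) (ε : K ⟶ I.X 0) (hε : ε ≫ I.d 0 1 = 0),
      (∃ i : ℤ, ∀ p q : ℤ, p < i → IsZero ((I.X q).X p)) ∧
      (∀ p : ℤ, CE.IsInjResolutionVia (((HomologicalComplex.eval A (ComplexShape.up ℤ) p).mapHomologicalComplex (ComplexShape.up ℤ)).obj I) (K.X p) (ε.f p)) ∧
      (∀ p : ℤ, CE.IsInjResolutionVia (((HomologicalComplex.cyclesFunctor A (ComplexShape.up ℤ) p).mapHomologicalComplex (ComplexShape.up ℤ)).obj I) (K.cycles p) (HomologicalComplex.cyclesMap ε p)) ∧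
      (∀ p : ℤ, CE.IsInjResolutionVia (((HomologicalComplex.homologyFunctor A (ComplexShape.up ℤ) p).mapHomologicalComplex (ComplexShape.up ℤ)).obj I) (K.homology p) (HomologicalComplex.homologyMap ε p)) := by
  have e : aq K 0 ≫ (bq K 0 ≫ aq K 1) = 0 := by
    rw [← Category.assoc, wq, zero_comp]
  have hε : aq K 0 ≫ (CEres K).d 0 1 = 0 :=
    Eq.trans (congrArg (fun f => aq K 0 ≫ f) (Jcx_d (stg K) (Iq K) (aq K) (bq K) (wq K) 0)) e
  refine ⟨CEres K, aq K 0, hε, ⟨n, ?_⟩, ?_, ?_, ?_⟩
  · intro p q hp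
    match q with
    | Int.ofNat m =>
      haveI := stg_GE K n m
      exact Step.isZero_IX (stg K m) n p hp
    | Int.negSucc k =>
      exact (HomologicalComplex.eval A (ComplexShape.up ℤ) p).map_isZero (isZero_zero _)
  · intro p
    exact splice (stg K) (Iq K) (aq K) (bq K) (wq K)
      (HomologicalComplex.eval A (ComplexShape.up ℤ) p)
      (fun q => shortExact_eval (hSC K q) p) (fun q => Step.injX (stg K q) p)
  · intro p
    exact splice (stg K) (Iq K) (aq K) (bq K) (wq K)
      (HomologicalComplex.cyclesFunctor A (ComplexShape.up ℤ) p)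
      (fun q => shortExact_cycles (hSC K q) (hmq K q) p) (fun q => Step.injZ (stg K q) p)
  · intro p
    exact splice (stg K) (Iq K) (aq K) (bq K) (wq K)
      (HomologicalComplex.homologyFunctor A (ComplexShape.up ℤ) p)
      (fun q => shortExact_homology (hSC K q) (hmq K q) p) (fun q => Step.injH (stg K q) p)

end H10CR
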