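import Groth.Agent.Lib.Helper10.CartanEilenbergStep

/-!
# Cartan–Eilenberg resolutions: splicing and the main theorem
-/

set_option autoImplicit false

namespace H10CR

open CategoryTheory CategoryTheory.Limits ZeroObject

universe v u v' u'

section Splice

variable {V : Type u'} [Category.{v'} V] [Abelian V]
variable (Kq Iq : ℕ → V) (a : ∀ q, Kq q ⟶ Iq q) (b : ∀ q, Iq q ⟶ Kq (q + 1))

noncomputable def Xz : ℤ → V
  | Int.ofNat m => Iq m
  | Int.negSucc _ => 0

noncomputable def dz : ∀ q : ℤ, Xz Iq q ⟶ Xz Iq (q + 1)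
  | Int.ofNat m => b m ≫ a (m + 1)
  | Int.negSucc _ => 0

variable (w : ∀ q, a q ≫ b q = 0)

include w in
lemma dz_sq : ∀ q : ℤ, dz Kq Iq a b q ≫ dz Kq Iq a b (q + 1) = 0
  | Int.ofNat m => by
    show (b m ≫ a (m + 1)) ≫ (b (m + 1) ≫ a (m + 1 + 1)) = 0
    rw [Category.assoc, reassoc_of% (w (m + 1)), zero_comp, comp_zero]
  | Int.negSucc _ => by
    show (0 : _ ⟶ _) ≫ _ = 0
    rw [zero_comp]

noncomputable def Jcx : CochainComplex V ℤ :=
  CochainComplex.of (Xz Iq) (dz Kq Iq a b) (dz_sq Kq Iq a b w)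

lemma Jcx_d (m : ℕ) :
    (Jcx Kq Iq a b w).d (Int.ofNat m) (Int.ofNat (m + 1)) = b m ≫ a (m + 1) :=
  CochainComplex.of_d _ _ (Int.ofNat m)

lemma exact_congr_right {A : Type u} [Category.{v} A] [Abelian A] {X Y Z : A} (f : X ⟶ Y)
    {g g' : Y ⟶ Z} (hg : g = g') (w : f ≫ g = 0)
    (h : (ShortComplex.mk f g' (hg ▸ w)).Exact) : (ShortComplex.mk f g w).Exact := by
  subst hg
  exact h

lemma exact_congr_both {A : Type u} [Category.{v} A] [Abelian A] {X Y Z : A} {f f' : X ⟶ Y}
    {g g' : Y ⟶ Z} (hf : f = f') (hg : g = g') (w : f ≫ g = 0)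
    (h : (ShortComplex.mk f' g' (hf ▸ hg ▸ w)).Exact) : (ShortComplex.mk f g w).Exact := by
  subst hf hg
  exact h

theorem splice {A : Type u} [Category.{v} A] [Abelian A] (F : V ⥤ A) [F.PreservesZeroMorphisms]
    (hSE : ∀ q, (ShortComplex.mk (F.map (a q)) (F.map (b q))
      (by rw [← F.map_comp, w, F.map_zero])).ShortExact)
    (hInj : ∀ q, Injective (F.obj (Iq q))) :
    CE.IsInjResolutionVia
      ((F.mapHomologicalComplex (ComplexShape.up ℤ)).obj (Jcx Kq Iq a b w))
      (F.obj (Kq 0)) (F.map (a 0)) := by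
  set C := (F.mapHomologicalComplex (ComplexShape.up ℤ)).obj (Jcx Kq Iq a b w) with hC
  have hd : ∀ m : ℕ, C.d (Int.ofNat m) (Int.ofNat (m + 1)) = F.map (b m) ≫ F.map (a (m + 1)) :=
    fun m => Eq.trans (congrArg (fun f => F.map f) (Jcx_d Kq Iq a b w m))
      (F.map_comp (b m) (a (m + 1)))
  have hmono : ∀ q, Mono (F.map (a q)) := fun q => (hSE q).mono_f
  have hepi : ∀ q, Epi (F.map (b q)) := fun q => (hSE q).epi_g
  have hex : ∀ q, (ShortComplex.mk (F.map (a q)) (F.map (b q))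
      (by rw [← F.map_comp, w, F.map_zero])).Exact := fun q => (hSE q).exact
  have hd0 : C.d 0 1 = F.map (b 0) ≫ F.map (a 1) := hd 0
  have h0 : F.map (a 0) ≫ C.d 0 1 = 0 := by
    have e : F.map (a 0) ≫ (F.map (b 0) ≫ F.map (a 1)) = 0 := by
      rw [← Category.assoc, ← F.map_comp, w, F.map_zero, zero_comp]
    exact Eq.trans (congrArg (fun f => F.map (a 0) ≫ f) hd0) e
  refine ⟨h0, ?_, ?_, ?_, hmono 0, ?_⟩
  · rw [CochainComplex.isStrictlyGE_iff]
    intro i hi
    obtain ⟨k, rfl⟩ := Int.eq_negSucc_of_lt_zero hi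
    exact F.map_isZero (isZero_zero V)
  · intro q
    match q with
    | Int.ofNat m => exact hInj m
    | Int.negSucc k => exact injective_of_isZero (F.map_isZero (isZero_zero V))
  · intro q hq
    match q, hq with
    | Int.ofNat 0, hq => exact absurd rfl hq
    | Int.ofNat (m + 1), _ =>
      rw [HomologicalComplex.exactAt_iff' C (Int.ofNat m) (Int.ofNat (m + 1))
        (Int.ofNat (m + 1 + 1))
        ((ComplexShape.up ℤ).prev_eq' (show Int.ofNat m + 1 = Int.ofNat (m + 1) from rfl))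
        ((ComplexShape.up ℤ).next_eq' (show Int.ofNat (m + 1) + 1 = Int.ofNat (m + 1 + 1) from rfl))]
      haveI := hepi m
      haveI := hmono (m + 1 + 1)
      exact exact_congr_both (hd m) (hd (m + 1)) _
        (exact_comp_of_exact (F.map (b m)) (F.map (a (m + 1))) (F.map (b (m + 1)))
          (F.map (a (m + 1 + 1))) _ (hex (m + 1)))
    | Int.negSucc k, _ =>
      exact HomologicalComplex.ExactAt.of_isZero (F.map_isZero (isZero_zero V))
  · haveI := hmono 1
    refine exact_congr_right _ hd0 _ ?_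
    have := exact_comp_of_exact (𝟙 _) (F.map (a 0)) (F.map (b 0)) (F.map (a 1)) _ (hex 0)
    exact exact_congr_both (Category.id_comp _).symm rfl _ this

end Splice

end H10CR
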