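import Groth.Agent.Lib.Helper10.CartanEilenberg

/-!
# Cartan–Eilenberg resolutions: the one-step embedding
-/

set_option autoImplicit false

namespace H10CR

open CategoryTheory CategoryTheory.Limits

universe v u

variable {A : Type u} [Category.{v} A] [Abelian A] [EnoughInjectives A]

namespace Step

variable (K : CochainComplex A ℤ)

/-- boundaries -/
noncomputable abbrev B (p : ℤ) : A := Abelian.image (K.d (p - 1) p)

noncomputable abbrev imι (p : ℤ) : B K p ⟶ K.X p := Abelian.image.ι _

lemma d_factor (i j : ℤ) : ∃ t : K.X i ⟶ B K j, K.d i j = t ≫ imι K j := by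
  by_cases h : i + 1 = j
  · obtain rfl : i = j - 1 := by omega
    exact ⟨Abelian.factorThruImage _, (Abelian.image.fac _).symm⟩
  · exact ⟨0, by rw [zero_comp]; exact K.shape _ _ h⟩

noncomputable abbrev FB (p : ℤ) : A := E (B K p)

noncomputable abbrev iB (p : ℤ) : B K p ⟶ FB K p := ιE (B K p)

noncomputable def fB (p : ℤ) : K.X p ⟶ FB K p := Injective.factorThru (iB K p) (imι K p)

lemma imι_fB (p : ℤ) : imι K p ≫ fB K p = iB K p := Injective.comp_factorThru _ _

noncomputable abbrev EH (p : ℤ) : A := E (K.homology p)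

noncomputable abbrev iH (p : ℤ) : K.homology p ⟶ EH K p := ιE _

noncomputable def hQ (p : ℤ) : K.opcycles p ⟶ EH K p :=
  Injective.factorThru (iH K p) (K.homologyι p)

lemma ι_hQ (p : ℤ) : K.homologyι p ≫ hQ K p = iH K p := Injective.comp_factorThru _ _

noncomputable abbrev IX (p : ℤ) : A := FB K p ⊞ (EH K p ⊞ FB K (p + 1))

noncomputable def Id (p : ℤ) : IX K p ⟶ IX K (p + 1) := biprod.snd ≫ biprod.snd ≫ biprod.inl

lemma Id_sq (p : ℤ) : Id K p ≫ Id K (p + 1) = 0 := by simp [Id]

noncomputable def Icx : CochainComplex A ℤ := CochainComplex.of (IX K) (Id K) (Id_sq K)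

lemma Icx_d (p : ℤ) : (Icx K).d p (p + 1) = Id K p := CochainComplex.of_d _ _ p

noncomputable def εf (p : ℤ) : K.X p ⟶ IX K p :=
  biprod.lift (fB K p) (biprod.lift (K.pOpcycles p ≫ hQ K p) (K.d p (p + 1) ≫ fB K (p + 1)))

noncomputable def ε : K ⟶ Icx K where
  f := εf K
  comm' := by
    rintro i j (rfl : i + 1 = j)
    rw [Icx_d]
    show εf K i ≫ Id K i = K.d i (i + 1) ≫ εf K (i + 1)
    apply biprod.hom_ext
    · simp [εf, Id]
    · apply biprod.hom_ext
      · simp [εf, Id]
      · simp [εf, Id]

instance mono_εf (p : ℤ) : Mono (εf K p) := by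
  apply Preadditive.mono_of_cancel_zero
  intro T g hg
  have h1 : g ≫ fB K p = 0 := by
    have := hg =≫ biprod.fst
    simpa [εf] using this
  have h2 : g ≫ K.pOpcycles p ≫ hQ K p = 0 := by
    have := hg =≫ (biprod.snd ≫ biprod.fst)
    simpa [εf] using this
  have h3 : g ≫ K.d p (p + 1) ≫ fB K (p + 1) = 0 := by
    have := hg =≫ (biprod.snd ≫ biprod.snd)
    simpa [εf] using this
  obtain ⟨t, ht⟩ := d_factor K p (p + 1)
  have h4 : g ≫ K.d p (p + 1) = 0 := by
    have : (g ≫ t) ≫ iB K (p + 1) = 0 := by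
      rw [Category.assoc, ← imι_fB, ← Category.assoc t, ← ht, h3]
    rw [ht, ← Category.assoc, zero_of_comp_mono _ this, zero_comp]
  have h5 : K.liftCycles g (p + 1) (by simp) h4 ≫ K.homologyπ p = 0 := by
    have : (K.liftCycles g (p + 1) (by simp) h4 ≫ K.homologyπ p) ≫ iH K p = 0 := by
      rw [Category.assoc, ← ι_hQ, HomologicalComplex.homology_π_ι_assoc,
        HomologicalComplex.liftCycles_i_assoc, h2]
    exact zero_of_comp_mono _ this
  have hex : (ShortComplex.mk (K.toCycles (p - 1) p) (K.homologyπ p)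
      (K.toCycles_comp_homologyπ _ _)).Exact :=
    ShortComplex.exact_of_g_is_cokernel _ (K.homologyIsCokernel (p - 1) p (by simp))
  obtain ⟨T', π, hπ, x₁, hx₁⟩ :=
    hex.exact_up_to_refinements (K.liftCycles g (p + 1) (by simp) h4) h5
  obtain ⟨t', ht'⟩ := d_factor K (p - 1) p
  have h6 : π ≫ g = x₁ ≫ K.d (p - 1) p := by
    have := hx₁ =≫ K.iCycles p
    simpa using this
  have h7 : (x₁ ≫ t') ≫ iB K p = 0 := by
    rw [Category.assoc, ← imι_fB, ← Category.assoc t', ← ht', ← Category.assoc, ← h6,
      Category.assoc, h1, comp_zero]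
  have h8 : π ≫ g = 0 := by
    rw [h6, ht', ← Category.assoc, zero_of_comp_mono _ h7, zero_comp]
  exact (cancel_epi π).1 (by rw [h8, comp_zero])

lemma isZero_IX (n : ℤ) [K.IsStrictlyGE n] (p : ℤ) (hp : p < n) : IsZero (IX K p) := by
  have hX : ∀ i, i < n → IsZero (K.X i) := fun i hi =>
    (K.isStrictlyGE_iff n).1 inferInstance i hi
  have hB : IsZero (B K p) := IsZero.of_mono (imι K p) (hX p hp)
  have hB' : IsZero (B K (p + 1)) := by
    have : IsZero (K.X (p + 1 - 1)) := hX _ (by omega)
    exact IsZero.of_epi (Abelian.factorThruImage (K.d (p + 1 - 1) (p + 1))) this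
  have hH : IsZero (K.homology p) :=
    (HomologicalComplex.ExactAt.of_isZero (hX p hp)).isZero_homology
  exact isZero_biprod (isZero_E hB) (isZero_biprod (isZero_E hH) (isZero_E hB'))

noncomputable def sp (p : ℤ) : IX K (p + 1) ⟶ IX K p := biprod.fst ≫ biprod.inr ≫ biprod.inr

lemma Id_sp_Id (p : ℤ) : Id K p ≫ sp K p ≫ Id K p = Id K p := by simp [Id, sp]

instance injX (p : ℤ) : Injective ((Icx K).X p) := show Injective (IX K p) from inferInstance

instance injZ (p : ℤ) : Injective ((Icx K).cycles p) :=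
  injective_cycles_of_split (Icx K) p (sp K p) (by rw [Icx_d]; exact Id_sp_Id K p)

instance injH (p : ℤ) : Injective ((Icx K).homology p) := by
  obtain ⟨q, rfl⟩ : ∃ q, p = q + 1 := ⟨p - 1, by omega⟩
  exact injective_homology_of_split (Icx K) q (q + 1) rfl (sp K q)
    (by rw [Icx_d]; exact Id_sp_Id K q)

noncomputable def prH (p : ℤ) : IX K p ⟶ EH K p := biprod.snd ≫ biprod.fst

lemma d_prH (i j : ℤ) : (Icx K).d i j ≫ prH K j = 0 := by
  by_cases h : i + 1 = j
  · subst h
    rw [Icx_d]
    show Id K i ≫ prH K (i + 1) = 0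
    simp [Id, prH]
  · rw [(Icx K).shape i j h, zero_comp]

lemma εf_prH (p : ℤ) : εf K p ≫ prH K p = K.pOpcycles p ≫ hQ K p := by simp [εf, prH]

instance monoH (p : ℤ) : Mono (HomologicalComplex.homologyMap (ε K) p) := by
  have key : HomologicalComplex.homologyMap (ε K) p ≫ (Icx K).homologyι p ≫
      (Icx K).descOpcycles (prH K p) (p - 1) (by simp) (d_prH K _ _) = iH K p := by
    rw [HomologicalComplex.homologyι_naturality_assoc,
      HomologicalComplex.opcyclesMap_comp_descOpcycles]
    have : ∀ h, K.descOpcycles ((ε K).f p ≫ prH K p) (p - 1) (by simp) h = hQ K p := fun h => by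
      rw [← cancel_epi (K.pOpcycles p), HomologicalComplex.p_descOpcycles]
      exact εf_prH K p
    rw [this, ι_hQ]
  exact mono_of_mono_fac key

instance mono_ε : Mono (ε K) :=
  HomologicalComplex.mono_of_mono_f _ (fun p => show Mono (εf K p) from inferInstance)

noncomputable abbrev next : CochainComplex A ℤ := cokernel (ε K)

noncomputable def SC : ShortComplex (CochainComplex A ℤ) :=
  ShortComplex.mk (ε K) (cokernel.π (ε K)) (cokernel.condition _)

lemma SC_shortExact : (SC K).ShortExact :=
  ShortComplex.ShortExact.mk' (ShortComplex.exact_of_g_is_cokernel _ (cokernelIsCokernel _))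
    (show Mono (ε K) from inferInstance) (show Epi (cokernel.π (ε K)) from inferInstance)

lemma next_isStrictlyGE (n : ℤ) [K.IsStrictlyGE n] : (next K).IsStrictlyGE n := by
  rw [CochainComplex.isStrictlyGE_iff]
  intro i hi
  exact IsZero.of_epi ((cokernel.π (ε K)).f i) (isZero_IX K n i hi)

end Step

section Cokernel

omit [EnoughInjectives A]

variable {S : ShortComplex (CochainComplex A ℤ)} (hS : S.ShortExact)
  (hm : ∀ p, Mono (HomologicalComplex.homologyMap S.f p))

include hS in
lemma shortExact_eval (p : ℤ) :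
    (S.map (HomologicalComplex.eval A (ComplexShape.up ℤ) p)).ShortExact :=
  hS.map_of_exact _

include hS hm in
lemma shortExact_homology (p : ℤ) :
    (S.map (HomologicalComplex.homologyFunctor A (ComplexShape.up ℤ) p)).ShortExact := by
  have hδ : hS.δ p (p + 1) (by simp) = 0 := by
    haveI := hm (p + 1)
    exact zero_of_comp_mono (HomologicalComplex.homologyMap S.f (p + 1))
      (hS.δ_comp p (p + 1) (by simp))
  have hepi : Epi (HomologicalComplex.homologyMap S.g p) := by
    have h3 := hS.homology_exact₃ p (p + 1) (by simp)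
    exact (ShortComplex.exact_iff_epi _ hδ).1 h3
  exact ShortComplex.ShortExact.mk' (hS.homology_exact₂ p) (hm p) hepi

include hS hm in
lemma shortExact_cycles (p : ℤ) :
    (S.map (HomologicalComplex.cyclesFunctor A (ComplexShape.up ℤ) p)).ShortExact := by
  haveI := hS.mono_f
  haveI := hS.epi_g
  have hex := HomologicalComplex.cycles_left_exact S hS.exact p
  haveI hepiH : Epi (HomologicalComplex.homologyMap S.g p) :=
    (shortExact_homology hS hm p).epi_g
  have hex₂ : (ShortComplex.mk (S.X₃.toCycles (p - 1) p) (S.X₃.homologyπ p)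
      (S.X₃.toCycles_comp_homologyπ _ _)).Exact :=
    ShortComplex.exact_of_g_is_cokernel _ (S.X₃.homologyIsCokernel (p - 1) p (by simp))
  have comm1 : S.X₂.toCycles (p - 1) p ≫ HomologicalComplex.cyclesMap S.g p =
      S.g.f (p - 1) ≫ S.X₃.toCycles (p - 1) p := by
    rw [← cancel_mono (S.X₃.iCycles p), Category.assoc, HomologicalComplex.cyclesMap_i,
      HomologicalComplex.toCycles_i_assoc, Category.assoc, HomologicalComplex.toCycles_i,
      HomologicalComplex.Hom.comm]
  haveI : Epi (S.g.f (p - 1)) := inferInstance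
  have hepi : Epi (HomologicalComplex.cyclesMap S.g p) :=
    epi_of_three (S.X₂.toCycles (p - 1) p) (S.X₂.homologyπ p) (S.X₃.toCycles (p - 1) p)
      (S.X₃.homologyπ p) (S.g.f (p - 1)) (HomologicalComplex.cyclesMap S.g p)
      (HomologicalComplex.homologyMap S.g p) comm1
      (HomologicalComplex.homologyπ_naturality S.g p) _ hex₂
  haveI : Mono (S.f.f p) := inferInstance
  exact ShortComplex.ShortExact.mk' hex
    (show Mono (HomologicalComplex.cyclesMap S.f p) from inferInstance) hepi

end Cokernel

end H10CR
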