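import Groth.Prelude.Def_LiftSq

/-!
# Formal properties of unique lifting against a fixed `j` (helper10)

`liftsUniquely_comp`: if `f`, `g` lift uniquely against `j`, so does `f ⋙ g`.
-/

set_option autoImplicit false

universe v₆ u₆ v₅ u₅ v₄ u₄ v₃ u₃ v₂ u₂ v u

open CategoryTheory

namespace Groth.Agent.Lib.Helper10.LiftSqLib

open LiftSq

variable {C : Type u} [Category.{v} C]
  {𝒜 : BasedCategory.{v₂, u₂} C} {ℬ : BasedCategory.{v₃, u₃} C}
  {𝒳 : BasedCategory.{v₄, u₄} C} {𝒴 : BasedCategory.{v₅, u₅} C} {𝒵 : BasedCategory.{v₆, u₆} C}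

theorem hom_ext' {F G : 𝒳 ⥤ᵇ 𝒴} {α β : F ⟶ G}
    (h : ∀ x, α.toNatTrans.app x = β.toNatTrans.app x) : α = β := by
  apply BasedNatTrans.homCategory.ext
  ext x
  exact h x

/-- right whiskering of a 2-isomorphism -/
def wrIso {F G : 𝒜 ⥤ᵇ ℬ} (α : F ≅ G) (H : ℬ ⥤ᵇ 𝒳) :
    BasedFunctor.comp F H ≅ BasedFunctor.comp G H where
  hom := BasedCategory.whiskerRight α.hom H
  inv := BasedCategory.whiskerRight α.inv H
  hom_inv_id := by rw [← whiskerRight_comp', α.hom_inv_id, whiskerRight_id']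
  inv_hom_id := by rw [← whiskerRight_comp', α.inv_hom_id, whiskerRight_id']

/-- left whiskering of a 2-isomorphism -/
def wlIso (F : 𝒜 ⥤ᵇ ℬ) {G H : ℬ ⥤ᵇ 𝒳} (α : G ≅ H) :
    BasedFunctor.comp F G ≅ BasedFunctor.comp F H where
  hom := BasedCategory.whiskerLeft F α.hom
  inv := BasedCategory.whiskerLeft F α.inv
  hom_inv_id := by rw [← whiskerLeft_comp', α.hom_inv_id, whiskerLeft_id']
  inv_hom_id := by rw [← whiskerLeft_comp', α.inv_hom_id, whiskerLeft_id']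

theorem wr_wr {F G : 𝒜 ⥤ᵇ ℬ} (α : F ⟶ G) (f : ℬ ⥤ᵇ 𝒳) (g : 𝒳 ⥤ᵇ 𝒴) :
    BasedCategory.whiskerRight (BasedCategory.whiskerRight α f) g
      = (BasedCategory.whiskerRight α (BasedFunctor.comp f g) :
          BasedFunctor.comp F (BasedFunctor.comp f g) ⟶ BasedFunctor.comp G (BasedFunctor.comp f g)) :=
  hom_ext' fun _ => rfl

theorem wl_wr (j : 𝒜 ⥤ᵇ ℬ) {F G : ℬ ⥤ᵇ 𝒳} (α : F ⟶ G) (g : 𝒳 ⥤ᵇ 𝒴) :
    BasedCategory.whiskerLeft j (BasedCategory.whiskerRight α g)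
      = (BasedCategory.whiskerRight (BasedCategory.whiskerLeft j α) g :
          BasedFunctor.comp j (BasedFunctor.comp F g) ⟶ BasedFunctor.comp j (BasedFunctor.comp G g)) :=
  hom_ext' fun _ => rfl

section Comp

variable (j : 𝒜 ⥤ᵇ ℬ) (f : 𝒳 ⥤ᵇ 𝒴) (g : 𝒴 ⥤ᵇ 𝒵)

/-- the square for `g` cut out of a square for `f ⋙ g` -/
def sqG (sq : Sq j (BasedFunctor.comp f g)) : Sq j g where
  top := BasedFunctor.comp sq.top f
  bot := sq.bot
  iso := sq.iso

/-- a lift for `f ⋙ g` gives a lift for `g` -/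
def liftG {sq : Sq j (BasedFunctor.comp f g)} (d : sq.Lift) : (sqG j f g sq).Lift where
  fn := BasedFunctor.comp d.fn f
  isoTop := wrIso d.isoTop f
  isoBot := d.isoBot
  w := by
    have h := d.w
    rw [← wr_wr] at h
    exact h

/-- the square for `f` from a lift for `g` -/
def sqF {sq : Sq j (BasedFunctor.comp f g)} (d₁ : (sqG j f g sq).Lift) : Sq j f where
  top := sq.top
  bot := d₁.fn
  iso := d₁.isoTop

theorem hasLift_comp (hf : Lifts j f) (hg : Lifts j g) : Lifts j (BasedFunctor.comp f g) := by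
  intro sq
  obtain ⟨d₁⟩ := hg (sqG j f g sq)
  obtain ⟨d₂⟩ := hf (sqF j f g d₁)
  refine ⟨⟨d₂.fn, d₂.isoTop, d₁.isoBot ≪≫ wrIso d₂.isoBot g, ?_⟩⟩
  have h₁ : BasedCategory.whiskerLeft j d₁.isoBot.hom ≫ BasedCategory.whiskerRight d₁.isoTop.hom g
      = sq.iso.hom := d₁.w
  have h₂ : BasedCategory.whiskerLeft j d₂.isoBot.hom ≫ BasedCategory.whiskerRight d₂.isoTop.hom f
      = d₁.isoTop.hom := d₂.w
  show BasedCategory.whiskerLeft j (d₁.isoBot.hom ≫ BasedCategory.whiskerRight d₂.isoBot.hom g) ≫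
      BasedCategory.whiskerRight d₂.isoTop.hom (BasedFunctor.comp f g) = sq.iso.hom
  rw [← h₁, ← h₂]
  apply hom_ext'
  intro a
  show (d₁.isoBot.hom.toNatTrans.app (j.obj a) ≫ g.map (d₂.isoBot.hom.toNatTrans.app (j.obj a))) ≫
      g.map (f.map (d₂.isoTop.hom.toNatTrans.app a))
    = d₁.isoBot.hom.toNatTrans.app (j.obj a) ≫
      g.map (d₂.isoBot.hom.toNatTrans.app (j.obj a) ≫ f.map (d₂.isoTop.hom.toNatTrans.app a))
  rw [Category.assoc, Functor.map_comp]
  rfl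

theorem uniqLift_comp (hf : LiftsUnique j f) (hg : LiftsUnique j g) :
    LiftsUnique j (BasedFunctor.comp f g) := by
  intro sq d d'
  -- the lifts for `g`
  obtain ⟨uDD'⟩ := hg (sqG j f g sq) (liftG j f g d) (liftG j f g d')
  obtain ⟨uD'D⟩ := hg (sqG j f g sq) (liftG j f g d') (liftG j f g d)
  obtain ⟨uDD⟩ := hg (sqG j f g sq) (liftG j f g d) (liftG j f g d)
  obtain ⟨uD'D'⟩ := hg (sqG j f g sq) (liftG j f g d') (liftG j f g d')
  let μ : liftG j f g d ⟶ liftG j f g d' := uDD'.default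
  let ν : liftG j f g d' ⟶ liftG j f g d := uD'D.default
  have hμν : μ ≫ ν = 𝟙 _ := (uDD.uniq _).trans (uDD.uniq _).symm
  have hνμ : ν ≫ μ = 𝟙 _ := (uD'D'.uniq _).trans (uD'D'.uniq _).symm
  let muIso : BasedFunctor.comp d.fn f ≅ BasedFunctor.comp d'.fn f :=
    ⟨μ.hom, ν.hom, congrArg Sq.Lift.Hom.hom hμν, congrArg Sq.Lift.Hom.hom hνμ⟩
  -- the square for `f`
  let sq₃ : Sq j f := ⟨sq.top, BasedFunctor.comp d.fn f, wrIso d.isoTop f⟩
  let E : sq₃.Lift := ⟨d.fn, d.isoTop, Iso.refl _, by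
    show BasedCategory.whiskerLeft j (𝟙 (BasedFunctor.comp d.fn f)) ≫
      BasedCategory.whiskerRight d.isoTop.hom f = BasedCategory.whiskerRight d.isoTop.hom f
    rw [whiskerLeft_id']
    exact Category.id_comp _⟩
  let E' : sq₃.Lift := ⟨d'.fn, d'.isoTop, muIso, μ.w_top⟩
  obtain ⟨uEE'⟩ := hf sq₃ E E'
  let θ : E ⟶ E' := uEE'.default
  have hθbot : BasedCategory.whiskerRight θ.hom f = μ.hom := by
    have h := θ.w_bot
    exact (Category.id_comp _).symm.trans h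
  refine ⟨⟨⟨⟨θ.hom, θ.w_top, ?_⟩⟩, ?_⟩⟩
  · have h := μ.w_bot
    show d.isoBot.hom ≫ BasedCategory.whiskerRight θ.hom (BasedFunctor.comp f g) = d'.isoBot.hom
    rw [← wr_wr, hθbot]
    exact h
  · intro Θ₂
    have hM : BasedCategory.whiskerRight Θ₂.hom f = μ.hom := by
      let M₂ : liftG j f g d ⟶ liftG j f g d' := ⟨BasedCategory.whiskerRight Θ₂.hom f, by
        show BasedCategory.whiskerLeft j (BasedCategory.whiskerRight Θ₂.hom f) ≫
          BasedCategory.whiskerRight d'.isoTop.hom f = BasedCategory.whiskerRight d.isoTop.hom f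
        have h1 := congrArg (fun t => BasedCategory.whiskerRight t f) Θ₂.w_top
        simp only [whiskerRight_comp'] at h1
        exact h1, by
        show d.isoBot.hom ≫ BasedCategory.whiskerRight (BasedCategory.whiskerRight Θ₂.hom f) g
          = d'.isoBot.hom
        rw [wr_wr]
        exact Θ₂.w_bot⟩
      exact congrArg Sq.Lift.Hom.hom (uDD'.uniq M₂)
    let T₂ : E ⟶ E' := ⟨Θ₂.hom, Θ₂.w_top, by
      show 𝟙 _ ≫ BasedCategory.whiskerRight Θ₂.hom f = μ.hom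
      rw [hM]
      exact Category.id_comp _⟩
    have hT : T₂ = θ := uEE'.uniq T₂
    apply Sq.Lift.hom_ext
    have hT' : T₂.hom = θ.hom := congrArg Sq.Lift.Hom.hom hT
    exact hT'

theorem liftsUniquely_comp (hf : LiftsUniquely j f) (hg : LiftsUniquely j g) :
    LiftsUniquely j (BasedFunctor.comp f g) := by
  intro sq
  exact ⟨hasLift_comp j f g (fun s => (hf s).1) (fun s => (hg s).1) sq,
    uniqLift_comp j f g (fun s => (hf s).2) (fun s => (hg s).2) sq⟩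

end Comp

end Groth.Agent.Lib.Helper10.LiftSqLib
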