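import Mathlib
import Groth.Prelude.Def_StCoarse
import Groth.Agent.Lib.Helper10.SheafGlue
import Groth.Agent.Lib.Helper10.StkPsh
import Groth.Agent.Lib.Helper10.Gerbe
import Groth.Agent.Lib.Helper10.Fib7
import Groth.Agent.Lib.Helper28.AlgSt.PshFun
import Groth.Agent.Lib.Helper29.QuotUnpack
import Groth.Agent.Lib.Helper10.FibBC
import Groth.Agent.Lib.Helper10.LiftSqLib

/-!
# Categorical moduli spaces can be tested étale locally on the target

* `nonempty_iso_comp_iff`: `π ≫ g ≅ φ` iff `g` sends the sections of `π` to those of `φ`.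
* `nonempty_iso_fp_iff`: the analogous pointwise criterion over a 2-fibre product with a presheaf.
* `isCatModuli_of_charts`: `π : 𝒲 ⟶ M` is a categorical moduli space as soon as its base changes to
  all affine schemes étale over `M` are.
-/

set_option autoImplicit false
set_option backward.isDefEq.respectTransparency false
set_option backward.isDefEq.respectTransparency.types false

universe w v₂ u₂ v₃ u₃ v u

open CategoryTheory CategoryTheory.Limits AlgebraicGeometry Opposite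

namespace H10PT

namespace CatModuliGlue

open Groth.Agent.Lib.Helper10.Fib Groth.Agent.Lib.Helper10.StkPsh Groth.Agent.Lib.Helper10.Gerbe
open Groth.Agent.Lib.Helper28.AlgSt.PshFun

section Psh

variable {C : Type u} [Category.{v} C] {𝒲 : BasedCategory.{v₂, u₂} C} {A M N : Cᵒᵖ ⥤ Type w}

/-- `π ≫ g ≅ φ` iff `g` sends the sections of `π` to those of `φ`. -/
theorem nonempty_iso_comp_iff (π : 𝒲 ⥤ᵇ Stk.ofPsh M) (g : M ⟶ N) (φ : 𝒲 ⥤ᵇ Stk.ofPsh N) :
    Nonempty (BasedFunctor.comp π (Stk.ofPshMap g) ≅ φ) ↔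
      ∀ x : 𝒲.obj, g.app _ (secOf π x) = secOf φ x := by
  constructor
  · rintro ⟨e⟩ x
    have h1 := secOf_eq_of_hom e.hom x
    rw [secOf_comp, pshMapOf_ofPshMap] at h1
    exact h1
  · intro h
    exact ⟨isoOfSecEq _ _ (fun x => by rw [secOf_comp, pshMapOf_ofPshMap]; exact h x)⟩

lemma secOf_comp_left {𝒜 : BasedCategory.{v₃, u₃} C} (F : 𝒜 ⥤ᵇ 𝒲) (G : 𝒲 ⥤ᵇ Stk.ofPsh M)
    (z : 𝒜.obj) :
    secOf (BasedFunctor.comp F G) z =
      M.map (eqToHom (F.w_obj z).symm).op (secOf G (F.obj z)) := by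
  show M.map (eqToHom _).op (G.obj (F.obj z)).sec =
    M.map (eqToHom _).op (M.map (eqToHom _).op (G.obj (F.obj z)).sec)
  rw [map_map, eqToHom_trans]

/-- An isomorphism of `ofPsh P` from an equality of sections. -/
def eltIso {P : Cᵒᵖ ⥤ Type w} (y y' : Stk.EltObj P) (hb : y.base = y'.base)
    (hs : P.map (eqToHom hb).op y'.sec = y.sec) : y ≅ y' where
  hom := ⟨eqToHom hb, hs⟩
  inv := ⟨eqToHom hb.symm, by
    obtain ⟨b, s⟩ := y
    obtain ⟨b', s'⟩ := y'
    dsimp only at hb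
    subst hb
    simp only [eqToHom_refl, op_id, FunctorToTypes.map_id_apply] at hs ⊢
    exact hs.symm⟩
  hom_inv_id := by apply Stk.EltObj.hom_ext; simp
  inv_hom_id := by apply Stk.EltObj.hom_ext; simp

lemma eltIso_lift {P : Cᵒᵖ ⥤ Type w} (y y' : Stk.EltObj P) (hb : y.base = y'.base)
    (hs : P.map (eqToHom hb).op y'.sec = y.sec) :
    (Stk.ofPsh P).p.IsHomLift (𝟙 y.base) (eltIso y y' hb hs).hom :=
  IsHomLift.of_fac (Stk.ofPsh P).p _ _ rfl hb.symm (by
    show 𝟙 y.base = eqToHom _ ≫ eqToHom hb ≫ eqToHom _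
    simp)

/-- The pointwise condition for `n : A ⟶ N` to be compatible with `φ` over `a : A ⟶ M`. -/
def GoodA (π : 𝒲 ⥤ᵇ Stk.ofPsh M) (φ : 𝒲 ⥤ᵇ Stk.ofPsh N) (a : A ⟶ M) (n : A ⟶ N) : Prop :=
  ∀ (x : 𝒲.obj) (s : A.obj (op (𝒲.p.obj x))), a.app _ s = secOf π x → n.app _ s = secOf φ x

/-- Pointwise criterion for functors out of the 2-fibre product of a presheaf with `𝒲`. -/
theorem nonempty_iso_fp_iff (π : 𝒲 ⥤ᵇ Stk.ofPsh M) (φ : 𝒲 ⥤ᵇ Stk.ofPsh N) (a : A ⟶ M)
    (n : A ⟶ N) :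
    Nonempty (BasedFunctor.comp (FibCat.fpFst (Stk.ofPshMap a) π) (Stk.ofPshMap n) ≅
      BasedFunctor.comp (FibCat.fpSnd (Stk.ofPshMap a) π) φ) ↔ GoodA π φ a n := by
  constructor
  · rintro ⟨e⟩ x s hs
    have hb : ((Stk.ofPshMap a).obj (⟨𝒲.p.obj x, s⟩ : Stk.EltObj A)).base = (π.obj x).base :=
      (baseEq π x).symm
    have hs' : M.map (eqToHom hb).op (π.obj x).sec =
        ((Stk.ofPshMap a).obj (⟨𝒲.p.obj x, s⟩ : Stk.EltObj A)).sec := hs.symm
    obtain ⟨z, hz⟩ : ∃ z : (FibCat.fp (Stk.ofPshMap a) π).obj,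
        z = fpObj (Stk.ofPshMap a) π (⟨𝒲.p.obj x, s⟩ : Stk.EltObj A) x
          (eltIso _ _ hb hs') (eltIso_lift _ _ hb hs') := ⟨_, rfl⟩
    have h1 := secOf_eq_of_hom e.hom z
    rw [secOf_comp, pshMapOf_ofPshMap] at h1
    subst hz
    have h2 : secOf (FibCat.fpFst (Stk.ofPshMap a) π) (fpObj (Stk.ofPshMap a) π
        (⟨𝒲.p.obj x, s⟩ : Stk.EltObj A) x (eltIso _ _ hb hs') (eltIso_lift _ _ hb hs')) = s := by
      show A.map (eqToHom _).op s = s
      simp
    rw [h2] at h1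
    exact h1
  · intro h
    have key : ∀ (x : 𝒲.obj) (T : C) (hT : 𝒲.p.obj x = T) (s : A.obj (op T)),
        a.app _ s = M.map (eqToHom hT.symm).op (secOf π x) →
          n.app _ s = N.map (eqToHom hT.symm).op (secOf φ x) := by
      intro x T hT s hs
      subst hT
      simp only [eqToHom_refl, op_id, FunctorToTypes.map_id_apply] at hs ⊢
      exact h x s hs
    refine ⟨isoOfSecEq _ _ (fun z => ?_)⟩
    have e1 := secOf_eq_of_hom (FibCat.fpIso (Stk.ofPshMap a) π).hom z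
    rw [secOf_comp, pshMapOf_ofPshMap, secOf_comp_left] at e1
    rw [secOf_comp, pshMapOf_ofPshMap, secOf_comp_left]
    exact key _ _ ((FibCat.fpSnd (Stk.ofPshMap a) π).w_obj z) _ e1

end Psh


section Sp

variable {S : Scheme.{u}} {𝒲 : BasedCategory.{v₂, u₂} (Over S)} {M N : AlgSp.Sp S}

open AlgSp

/-- Maps from `h_V` to a sheaf are its sections over `V`. -/
abbrev yEq {V : Over S} {F : AlgSp.Sp S} : ((yon S).obj V ⟶ F) ≃ F.obj.obj (op V) :=
  (J S).uliftYonedaEquiv.{u + 1}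

lemma yEq_nat {X Y : Over S} {F : AlgSp.Sp S} (f : (yon S).obj X ⟶ F) (g : Y ⟶ X) :
    F.obj.map g.op (yEq f) = yEq ((yon S).map g ≫ f) :=
  GrothendieckTopology.uliftYonedaEquiv_naturality (J S) f g

lemma yEq_app {X Y : Over S} {F : AlgSp.Sp S} (f : (yon S).obj X ⟶ F) (g : Y ⟶ X) :
    F.obj.map g.op (yEq f) = f.hom.app (op Y) ⟨g⟩ :=
  GrothendieckTopology.map_uliftYonedaEquiv (J S) f g

/-- The pointwise condition on sections: `ν ∈ N(V)` is compatible with `φ` over `α ∈ M(V)`. -/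
def Good (π : 𝒲 ⥤ᵇ AlgSt.ofSp M) (φ : 𝒲 ⥤ᵇ AlgSt.ofSp N) {V : Over S} (α : M.obj.obj (op V))
    (ν : N.obj.obj (op V)) : Prop :=
  ∀ (x : 𝒲.obj) (v : 𝒲.p.obj x ⟶ V), M.obj.map v.op α = secOf π x → N.obj.map v.op ν = secOf φ x

lemma goodA_iff (π : 𝒲 ⥤ᵇ AlgSt.ofSp M) (φ : 𝒲 ⥤ᵇ AlgSt.ofSp N) {V : Over S}
    (a : (yon S).obj V ⟶ M) (n : (yon S).obj V ⟶ N) :
    GoodA π φ a.hom n.hom ↔ Good π φ (yEq a) (yEq n) := by
  constructor
  · intro h x v hv
    rw [yEq_app] at hv ⊢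
    exact h x ⟨v⟩ hv
  · intro h x s hs
    have h1 := h x (ULift.down (s : ULift.{u + 1, u} (𝒲.p.obj x ⟶ V)))
      (by rw [yEq_app]; exact hs)
    rw [yEq_app] at h1
    exact h1

/-- For a chart whose base change is a categorical moduli space, compatible sections exist uniquely. -/
theorem existsUnique_good (π : 𝒲 ⥤ᵇ AlgSt.ofSp M) {V : Over S} (a : (yon S).obj V ⟶ M)
    (hcm : AlgSt.IsCatModuli (FibCat.fpFst (AlgSt.ofSpMap a) π)) (hN : IsAlgSpace N)
    (φ : 𝒲 ⥤ᵇ AlgSt.ofSp N) :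
    ∃! ν : N.obj.obj (op V), Good π φ (yEq a) ν := by
  obtain ⟨n, hn, huniq⟩ := hcm.2 N hN (BasedFunctor.comp (FibCat.fpSnd (AlgSt.ofSpMap a) π) φ)
  refine ⟨yEq n,
    (goodA_iff π φ a n).1 ((nonempty_iso_fp_iff π φ a.hom n.hom).1 hn), fun ν' hν' => ?_⟩
  have h1 : Good π φ (yEq a)
      (yEq (yEq.symm ν')) := by
    rw [Equiv.apply_symm_apply]; exact hν'
  have h2 := huniq _ ((nonempty_iso_fp_iff π φ a.hom _).2 ((goodA_iff π φ a _).2 h1))
  rw [← h2, Equiv.apply_symm_apply]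

lemma good_restrict {π : 𝒲 ⥤ᵇ AlgSt.ofSp M} {φ : 𝒲 ⥤ᵇ AlgSt.ofSp N} {V V' : Over S}
    {α : M.obj.obj (op V)} {ν : N.obj.obj (op V)} (hG : Good π φ α ν) (h : V' ⟶ V) :
    Good π φ (M.obj.map h.op α) (N.obj.map h.op ν) := by
  intro x v hv
  rw [map_map] at hv ⊢
  exact hG x (v ≫ h) hv

lemma exists_restrict (h𝒲 : FibCat.IsFibGrpd 𝒲.p) (x : 𝒲.obj) {T' : Over S}
    (t : T' ⟶ 𝒲.p.obj x) :
    ∃ (x' : 𝒲.obj) (k : x' ⟶ x) (hx' : 𝒲.p.obj x' = T'), 𝒲.p.map k = eqToHom hx' ≫ t := by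
  obtain ⟨x', k, hk⟩ := h𝒲.exists_lift t
  have hx' : 𝒲.p.obj x' = T' := IsHomLift.domain_eq 𝒲.p t k
  refine ⟨x', k, hx', ?_⟩
  have := IsHomLift.fac' 𝒲.p t k
  simpa using this

/-- An open subscheme of `W`, as a scheme over `S`. -/
abbrev opOver (W : Over S) (O : W.left.Opens) : Over S := Over.mk (O.ι ≫ W.hom)

/-- The inclusion of an open subscheme of `W`, over `S`. -/
abbrev opι (W : Over S) (O : W.left.Opens) : opOver W O ⟶ W := Over.homMk O.ι rfl

/-- A Zariski open covering generates a covering sieve of the fppf topology. -/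
theorem zariski_mem_J (W : Over S) {κ : Type*} (O : κ → W.left.Opens)
    (hO : ∀ w : W.left, ∃ k, w ∈ O k) :
    Sieve.ofArrows (fun k => opOver W (O k)) (fun k => opι W (O k)) ∈ J S W := by
  apply Groth.Agent.Lib.Helper29.QuotUnpack.mem_J_of_cover
  rw [Scheme.fppfPrecoverage, Scheme.ofArrows_mem_precoverage_iff]
  refine ⟨fun w => ?_, fun k => ⟨?_, ?_⟩⟩
  · obtain ⟨k, hk⟩ := hO w
    exact ⟨k, ⟨⟨w, hk⟩, rfl⟩⟩
  · show Flat (O k).ι
    infer_instance
  · show LocallyOfFinitePresentation (O k).ι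
    infer_instance

/-- Sections of a sheaf over `W` agreeing on all affine opens agree. -/
theorem sec_ext_affineOpens (N : AlgSp.Sp S) (W : Over S) (s s' : N.obj.obj (op W))
    (h : ∀ O : W.left.affineOpens,
      N.obj.map (opι W O.1).op s = N.obj.map (opι W O.1).op s') : s = s' := by
  have hsep := ((isSheaf_iff_isSheaf_of_type _ _).1 N.property).isSeparated
  have hcov : Sieve.ofArrows (fun O : W.left.affineOpens => opOver W O.1)
      (fun O => opι W O.1) ∈ J S W := by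
    apply zariski_mem_J
    intro w
    obtain ⟨_, ⟨O, hO, rfl⟩, hwO, -⟩ :=
      W.left.isBasis_affineOpens.exists_subset_of_mem_open (Set.mem_univ w) isOpen_univ
    exact ⟨⟨O, hO⟩, hwO⟩
  refine (hsep _ hcov).ext ?_
  rintro Y f ⟨Z, k, g, ⟨O⟩, rfl⟩
  rw [← map_map, ← map_map, h O]

variable (M) in
/-- Affine étale charts of `M`. -/
structure Chart where
  /-- the affine scheme -/
  V : Over S
  /-- the section of `M` over it -/
  α : M.obj.obj (op V)
  aff : IsAffine V.left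
  et : RepWith @Etale (yEq.symm α)

/-- The chart of an étale map from an affine scheme. -/
abbrev chartOf {V : Over S} (hV : IsAffine V.left) (a : (yon S).obj V ⟶ M) (ha : RepWith @Etale a) :
    Chart M :=
  ⟨V, yEq a, hV, by rw [Equiv.symm_apply_apply]; exact ha⟩

/-- Every section of an algebraic space comes locally from affine étale charts. -/
theorem liftSieve_mem (hM : IsAlgSpace M) {T : Over S} (m : M.obj.obj (op T)) :
    SheafGlue.liftSieve (fun c : Chart M => c.V) (fun c => c.α) m ∈ J S T := by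
  obtain ⟨U, p, hp₁, hp₂⟩ := hM.atlas
  obtain ⟨W, snd, fst, sq⟩ := hp₁.rep (yEq.symm m)
  obtain ⟨q, rfl⟩ := (yon S).map_surjective fst
  haveI hsndE : Etale snd.left := hp₁.property _ _ _ sq
  have hsndS : Surjective snd.left := hp₂.property _ _ _ sq
  have hqs : M.obj.map q.op (yEq p) = M.obj.map snd.op m := by
    rw [yEq_nat, sq.w,
      ← yEq_nat, Equiv.apply_symm_apply]
  have hmem := Groth.Agent.Lib.Helper29.QuotUnpack.mem_J_of_cover Scheme.fppfPrecoverage (T := T)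
    (fun O : U.left.affineOpens => opOver W (q.left ⁻¹ᵁ O.1))
    (fun O => opι W (q.left ⁻¹ᵁ O.1) ≫ snd) (by
      rw [Scheme.fppfPrecoverage, Scheme.ofArrows_mem_precoverage_iff]
      refine ⟨fun x => ?_, fun O => ⟨?_, ?_⟩⟩
      · obtain ⟨w, rfl⟩ := hsndS.surj x
        obtain ⟨_, ⟨O, hO, rfl⟩, hwO, -⟩ :=
          U.left.isBasis_affineOpens.exists_subset_of_mem_open (Set.mem_univ (q.left w))
            isOpen_univ
        exact ⟨⟨O, hO⟩, ⟨⟨w, hwO⟩, rfl⟩⟩
      · show Flat ((q.left ⁻¹ᵁ O.1).ι ≫ snd.left)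
        infer_instance
      · show LocallyOfFinitePresentation ((q.left ⁻¹ᵁ O.1).ι ≫ snd.left)
        infer_instance)
  refine (J S).superset_covering ?_ hmem
  rintro Y f ⟨Z, k, g, ⟨O⟩, rfl⟩
  refine Sieve.downward_closed _ ?_ k
  have hOe : RepWith @Etale ((yon S).map (opι U O.1) ≫ p) :=
    (RepWith @Etale).comp_mem _ _
      ((repWith_yon_map_iff @Etale _).2 (show Etale O.1.ι from inferInstance)) hp₁
  have hu : (q.left ∣_ O.1) ≫ (opOver U O.1).hom = (opOver W (q.left ⁻¹ᵁ O.1)).hom := by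
    show (q.left ∣_ O.1) ≫ (O.1.ι ≫ U.hom) = (q.left ⁻¹ᵁ O.1).ι ≫ W.hom
    rw [← Category.assoc, morphismRestrict_ι, Category.assoc, Over.w q]
  have hcomm : (Over.homMk (q.left ∣_ O.1) hu : opOver W (q.left ⁻¹ᵁ O.1) ⟶ opOver U O.1) ≫
      opι U O.1 = opι W (q.left ⁻¹ᵁ O.1) ≫ q :=
    Over.OverMorphism.ext (morphismRestrict_ι _ _)
  have hOaff : IsAffine (opOver U O.1).left := O.2
  refine ⟨chartOf (V := opOver U O.1) hOaff _ hOe, Over.homMk (q.left ∣_ O.1) hu, ?_⟩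
  show M.obj.map _ (yEq ((yon S).map (opι U O.1) ≫ p)) = _
  rw [← yEq_nat, map_map, hcomm, ← map_map, hqs, map_map]

/-- The sections attached to the charts are compatible. -/
theorem compat_of_unique (π : 𝒲 ⥤ᵇ AlgSt.ofSp M) (φ : 𝒲 ⥤ᵇ AlgSt.ofSp N)
    (ν : ∀ c : Chart M, N.obj.obj (op c.V)) (hν : ∀ c, Good π φ c.α (ν c))
    (huniq : ∀ (c : Chart M) (ν' : N.obj.obj (op c.V)), Good π φ c.α ν' → ν' = ν c) :
    SheafGlue.Compat (fun c : Chart M => c.V) (fun c => c.α) ν := by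
  intro T' c c' u u' e
  obtain ⟨a, ha⟩ : ∃ a, a = yEq.symm c.α := ⟨_, rfl⟩
  obtain ⟨a', ha'⟩ : ∃ a', a' = yEq.symm c'.α := ⟨_, rfl⟩
  have hae : RepWith @Etale a := ha ▸ c.et
  have ha'e : RepWith @Etale a' := ha' ▸ c'.et
  have hα : yEq a = c.α := by rw [ha, Equiv.apply_symm_apply]
  have hα' : yEq a' = c'.α := by rw [ha', Equiv.apply_symm_apply]
  obtain ⟨W, snd, fst, sq⟩ := ha'e.rep a
  obtain ⟨q', rfl⟩ := (yon S).map_surjective fst
  haveI hsnd : Etale snd.left := ha'e.property _ _ _ sq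
  haveI hq' : Etale q'.left := hae.property _ _ _ sq.flip
  have hW : M.obj.map q'.op c'.α = M.obj.map snd.op c.α := by
    rw [← hα, ← hα', yEq_nat,
      yEq_nat, sq.w]
  have e' : (yon S).map u' ≫ a' = (yon S).map u ≫ a := by
    apply yEq.injective
    rw [← yEq_nat,
      ← yEq_nat, hα, hα']
    exact e.symm
  obtain ⟨τ, hτ⟩ := (yon S).map_surjective (sq.lift _ _ e')
  have hτ1 : τ ≫ q' = u' :=
    (yon S).map_injective (by rw [Functor.map_comp, hτ, sq.lift_fst])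
  have hτ2 : τ ≫ snd = u :=
    (yon S).map_injective (by rw [Functor.map_comp, hτ, sq.lift_snd])
  have claim : N.obj.map snd.op (ν c) = N.obj.map q'.op (ν c') := by
    apply sec_ext_affineOpens
    intro O
    rw [map_map, map_map]
    have hOe : RepWith @Etale ((yon S).map (opι W O.1 ≫ snd) ≫ a) :=
      (RepWith @Etale).comp_mem _ _
        ((repWith_yon_map_iff @Etale _).2 (show Etale (O.1.ι ≫ snd.left) from inferInstance)) hae
    have hOaff : IsAffine (opOver W O.1).left := O.2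
    have hcOα : (chartOf (V := opOver W O.1) hOaff _ hOe).α =
        M.obj.map (opι W O.1 ≫ snd).op c.α := by
      show yEq _ = _
      rw [← yEq_nat, hα]
    have g1 : Good π φ (chartOf (V := opOver W O.1) hOaff _ hOe).α
        (N.obj.map (opι W O.1 ≫ snd).op (ν c)) := by
      rw [hcOα]; exact good_restrict (hν c) _
    have g2 : Good π φ (chartOf (V := opOver W O.1) hOaff _ hOe).α
        (N.obj.map (opι W O.1 ≫ q').op (ν c')) := by
      have h3 : (chartOf (V := opOver W O.1) hOaff _ hOe).α =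
          M.obj.map (opι W O.1 ≫ q').op c'.α := by
        rw [hcOα, ← map_map, ← map_map, hW]
      rw [h3]; exact good_restrict (hν c') _
    exact (huniq _ _ g1).trans (huniq _ _ g2).symm
  rw [← hτ1, ← hτ2, ← map_map, ← map_map, claim]

/-- A functor to an algebraic space is a categorical moduli space as soon as its base changes to all
affine schemes étale over the space are. -/
theorem isCatModuli_of_charts (h𝒲 : FibCat.IsFibGrpd 𝒲.p) (hM : IsAlgSpace M)
    (π : 𝒲 ⥤ᵇ AlgSt.ofSp M)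
    (H : ∀ (V : Over S), IsAffine V.left → ∀ a : (yon S).obj V ⟶ M, RepWith @Etale a →
      AlgSt.IsCatModuli (FibCat.fpFst (AlgSt.ofSpMap a) π)) : AlgSt.IsCatModuli π := by
  refine ⟨hM, fun N hN φ => ?_⟩
  have hex : ∀ c : Chart M, ∃ ν : N.obj.obj (op c.V), Good π φ c.α ν ∧
      ∀ ν' : N.obj.obj (op c.V), Good π φ c.α ν' → ν' = ν := by
    intro c
    have h1 := existsUnique_good π _ (H c.V c.aff _ c.et) hN φ
    rw [Equiv.apply_symm_apply] at h1
    exact h1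
  choose ν hν huniq using hex
  have hNsh : Presieve.IsSheaf (J S) N.obj := (isSheaf_iff_isSheaf_of_type _ _).1 N.property
  have hcov : ∀ (T : Over S) (m : M.obj.obj (op T)),
      SheafGlue.liftSieve (fun c : Chart M => c.V) (fun c => c.α) m ∈ J S T :=
    fun T m => liftSieve_mem hM m
  have hcomp := compat_of_unique π φ ν hν huniq
  obtain ⟨g₀, hg₀⟩ := SheafGlue.exists_glue (J S) hNsh hcov hcomp
  have hsec : ∀ x : 𝒲.obj, g₀.app _ (secOf π x) = secOf φ x := by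
    intro x
    refine ((hNsh _ (hcov _ (secOf π x))).isSeparatedFor).ext ?_
    rintro T' t ⟨c, u, e⟩
    obtain ⟨x', k, hx', hk⟩ := exists_restrict h𝒲 x t
    subst hx'
    simp only [eqToHom_refl, Category.id_comp] at hk
    subst hk
    have e1 : M.obj.map (𝒲.p.map k).op (secOf π x) = secOf π x' := secOf_map π k
    have e2 : N.obj.map (𝒲.p.map k).op (secOf φ x) = secOf φ x' := secOf_map φ k
    have e3 : N.obj.map (𝒲.p.map k).op (g₀.app _ (secOf π x)) =
        g₀.app _ (M.obj.map (𝒲.p.map k).op (secOf π x)) :=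
      (NatTrans.naturality_apply g₀ _ _).symm
    have e4 : g₀.app _ (M.obj.map u.op c.α) = N.obj.map u.op (g₀.app _ c.α) :=
      NatTrans.naturality_apply g₀ _ _
    rw [e3, ← e, e4, hg₀ c, e2]
    exact hν c x' u (e.trans e1)
  refine ⟨ObjectProperty.homMk g₀, (nonempty_iso_comp_iff π g₀ φ).2 hsec, fun g' hg' => ?_⟩
  have hsec' := (nonempty_iso_comp_iff π g'.hom φ).1 hg'
  apply ObjectProperty.hom_ext
  refine SheafGlue.glue_unique (J S) (V := fun c : Chart M => c.V) (α := fun c => c.α) hNsh hcov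
    g'.hom g₀ (fun c => ?_)
  rw [hg₀ c]
  refine huniq c _ (fun x v hv => ?_)
  have h5 : g'.hom.app _ (M.obj.map v.op c.α) = N.obj.map v.op (g'.hom.app _ c.α) :=
    NatTrans.naturality_apply g'.hom _ _
  rw [← h5, hv]
  exact hsec' x

end Sp

section Transfer

variable {S : Scheme.{u}} {𝒲 : BasedCategory.{v₂, u₂} (Over S)}
  {𝒲' : BasedCategory.{v₃, u₃} (Over S)} {M : AlgSp.Sp S}

open Groth.Agent.Lib.Helper10.LiftSqLib

/-- Categorical moduli spaces are invariant under equivalences of the source. -/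
theorem isCatModuli_comp_equiv (E : 𝒲' ⥤ᵇ 𝒲) (hE : FibCat.IsEquivOver E)
    (ρ : 𝒲 ⥤ᵇ AlgSt.ofSp M) (hρ : AlgSt.IsCatModuli ρ) :
    AlgSt.IsCatModuli (BasedFunctor.comp E ρ) := by
  obtain ⟨E', ⟨η⟩, ⟨ε⟩⟩ := hE
  refine ⟨hρ.1, fun N hN φ' => ?_⟩
  obtain ⟨g, ⟨e⟩, hg⟩ := hρ.2 N hN (BasedFunctor.comp E' φ')
  refine ⟨g, ⟨?_⟩, fun g' ⟨e'⟩ => hg g' ⟨?_⟩⟩
  · exact (Iso.refl _ : BasedFunctor.comp (BasedFunctor.comp E ρ) (AlgSt.ofSpMap g) ≅
        BasedFunctor.comp E (BasedFunctor.comp ρ (AlgSt.ofSpMap g))) ≪≫ wlIso E e ≪≫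
      (Iso.refl _ : BasedFunctor.comp E (BasedFunctor.comp E' φ') ≅
        BasedFunctor.comp (BasedFunctor.comp E E') φ') ≪≫ wrIso η φ' ≪≫
      (Iso.refl _ : BasedFunctor.comp (BasedFunctor.id 𝒲') φ' ≅ φ')
  · exact (Iso.refl _ : BasedFunctor.comp ρ (AlgSt.ofSpMap g') ≅
        BasedFunctor.comp (BasedFunctor.id 𝒲) (BasedFunctor.comp ρ (AlgSt.ofSpMap g'))) ≪≫
      (wrIso ε (BasedFunctor.comp ρ (AlgSt.ofSpMap g'))).symm ≪≫
      (Iso.refl _ : BasedFunctor.comp (BasedFunctor.comp E' E)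
          (BasedFunctor.comp ρ (AlgSt.ofSpMap g')) ≅
        BasedFunctor.comp E' (BasedFunctor.comp (BasedFunctor.comp E ρ) (AlgSt.ofSpMap g'))) ≪≫
      wlIso E' e'

open AlgSp in
/-- The base change of `f : 𝒳 ⟶ Y` along `g : M' ⟶ Y` is a categorical moduli space as soon as the
base changes along all `h_V ⟶ M' ⟶ Y`, with `V` affine and étale over `M'`, are. -/
theorem isCatModuli_fpFst_of_affine (h𝒲 : FibCat.IsFibGrpd 𝒲.p) {Y M' : AlgSp.Sp S}
    (hM' : IsAlgSpace M') (f : 𝒲 ⥤ᵇ AlgSt.ofSp Y) (g : M' ⟶ Y)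
    (H : ∀ (V : Over S), IsAffine V.left → ∀ a : (yon S).obj V ⟶ M', RepWith @Etale a →
      AlgSt.IsCatModuli (FibCat.fpFst (AlgSt.ofSpMap (a ≫ g)) f)) :
    AlgSt.IsCatModuli (FibCat.fpFst (AlgSt.ofSpMap g) f) := by
  have hfib : FibCat.IsFibGrpd (FibCat.fp (AlgSt.ofSpMap g) f).p :=
    isFibGrpd_fp _ _ (Stk.isFibGrpd_ofPsh _) h𝒲 (Stk.isFibGrpd_ofPsh _)
  refine isCatModuli_of_charts hfib hM' _ (fun V hV a ha => ?_)
  have h1 : AlgSt.IsCatModuli
      (FibCat.fpFst (BasedFunctor.comp (AlgSt.ofSpMap a) (AlgSt.ofSpMap g)) f) := H V hV a ha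
  exact isCatModuli_comp_equiv (paste1 (AlgSt.ofSpMap a) (AlgSt.ofSpMap g) f)
    (isEquivOver_paste1 _ _ _) _ h1

end Transfer

end CatModuliGlue

end H10PT
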