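import Mathlib.CategoryTheory.Limits.FormalCoproducts.Cech
import Mathlib.AlgebraicTopology.SimplicialObject.ChainHomotopy
import Mathlib.CategoryTheory.Sites.SheafCohomology.Cech
import Mathlib.Algebra.Homology.Opposite

open CategoryTheory CategoryTheory.Limits Opposite Simplicial

namespace H10CH

universe w v u

lemma val_succAbove {n : ℕ} (p : Fin (n + 1)) (i : Fin n) :
    (p.succAbove i : ℕ) = if (i : ℕ) < p then (i : ℕ) else i + 1 := by
  unfold Fin.succAbove
  split_ifs with h1 h2 h2
  · rfl
  · exact absurd (Fin.lt_def.mp h1) h2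
  · exact absurd (Fin.lt_def.mpr h2) h1
  · rfl

lemma val_predAbove {n : ℕ} (p : Fin n) (i : Fin (n + 1)) :
    (p.predAbove i : ℕ) = if (p : ℕ) < i then (i : ℕ) - 1 else i := by
  unfold Fin.predAbove
  split_ifs with h1 h2 h2
  · rfl
  · exact absurd (Fin.lt_def.mp h1) h2
  · exact absurd (Fin.lt_def.mpr h2) h1
  · rfl

variable {D : Type u} [Category.{v} D] [HasFiniteProducts D]
variable {W V : FormalCoproduct.{w} D} (f g : W ⟶ V)

/-- choose `f` or `g`. -/
noncomputable def pick (c : Prop) [Decidable c] : W ⟶ V := if c then f else g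

lemma pick_congr (c c' : Prop) [Decidable c] [Decidable c'] (h : c ↔ c') :
    pick f g c = pick f g c' := by
  unfold pick
  by_cases hc : c
  · rw [if_pos hc, if_pos (h.mp hc)]
  · rw [if_neg hc, if_neg (fun h' => hc (h.mpr h'))]

lemma comp_pick_congr {α : Type} [HasProductsOfShape α D] (b b' : α) (c c' : Prop) [Decidable c] [Decidable c']
    (hb : b = b') (h : c ↔ c') :
    W.powerπ b ≫ pick f g c = W.powerπ b' ≫ pick f g c' := by
  subst hb
  rw [pick_congr f g c c' h]

/-- the homotopy operators -/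
noncomputable def hh (n : ℕ) (i : Fin (n + 1)) : W.power (Fin (n + 1)) ⟶ V.power (Fin (n + 2)) :=
  Fan.IsLimit.lift (V.isLimitPowerFan (Fin (n + 2)))
    (fun a => W.powerπ (i.predAbove a) ≫ pick f g (a ≤ i.castSucc))

lemma hh_π (n : ℕ) (i : Fin (n + 1)) (a : Fin (n + 2)) :
    hh f g n i ≫ V.powerπ a = W.powerπ (i.predAbove a) ≫ pick f g (a ≤ i.castSucc) :=
  Fan.IsLimit.fac (V.isLimitPowerFan (Fin (n + 2))) _ a

lemma powerMap_π {α : Type} [HasProductsOfShape α D] (a : α) :
    FormalCoproduct.powerMap f α ≫ V.powerπ a = W.powerπ a ≫ f := by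
  refine FormalCoproduct.hom_ext rfl (fun i => ?_)
  exact (Category.comp_id _).trans (Pi.map_π (fun b => f.φ (i b)) a)

lemma cech_δ_π (n : ℕ) (k : Fin (n + 2)) (a : Fin (n + 1)) :
    (V.cech.δ k : V.power (Fin (n + 2)) ⟶ V.power (Fin (n + 1))) ≫ V.powerπ a = V.powerπ (k.succAbove a) :=
  V.mapPower_π _ a

lemma cech_σ_π (n : ℕ) (k : Fin (n + 1)) (a : Fin (n + 2)) :
    (V.cech.σ k : V.power (Fin (n + 1)) ⟶ V.power (Fin (n + 2))) ≫ V.powerπ a = V.powerπ (k.predAbove a) :=
  V.mapPower_π _ a

lemma L1 (n : ℕ) (i : Fin (n + 1)) (k : Fin (n + 2)) (a : Fin (n + 1)) :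
    (hh f g n i ≫ (V.cech.δ k : V.power (Fin (n + 2)) ⟶ V.power (Fin (n + 1)))) ≫ V.powerπ a =
      W.powerπ (i.predAbove (k.succAbove a)) ≫ pick f g (k.succAbove a ≤ i.castSucc) :=
  (Category.assoc _ _ _).trans
    ((congrArg (fun t => hh f g n i ≫ t) (cech_δ_π n k a)).trans (hh_π f g n i _))

lemma L2 (n : ℕ) (i : Fin (n + 1)) (k : Fin (n + 2)) (a : Fin (n + 2)) :
    ((W.cech.δ k : W.power (Fin (n + 2)) ⟶ W.power (Fin (n + 1))) ≫ hh f g n i) ≫ V.powerπ a =
      W.powerπ (k.succAbove (i.predAbove a)) ≫ pick f g (a ≤ i.castSucc) :=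
  (Category.assoc _ _ _).trans
    ((congrArg (fun t => (W.cech.δ k : W.power (Fin (n + 2)) ⟶ W.power (Fin (n + 1))) ≫ t)
      (hh_π f g n i a)).trans ((Category.assoc _ _ _).symm.trans
        (congrArg (fun t => t ≫ pick f g (a ≤ i.castSucc)) (cech_δ_π n k _))))

lemma L3 (n : ℕ) (i : Fin (n + 1)) (k : Fin (n + 2)) (a : Fin (n + 3)) :
    (hh f g n i ≫ (V.cech.σ k : V.power (Fin (n + 2)) ⟶ V.power (Fin (n + 3)))) ≫ V.powerπ a =
      W.powerπ (i.predAbove (k.predAbove a)) ≫ pick f g (k.predAbove a ≤ i.castSucc) :=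
  (Category.assoc _ _ _).trans
    ((congrArg (fun t => hh f g n i ≫ t) (cech_σ_π (n + 1) k a)).trans (hh_π f g n i _))

lemma L4 (n : ℕ) (i : Fin (n + 2)) (k : Fin (n + 1)) (a : Fin (n + 3)) :
    ((W.cech.σ k : W.power (Fin (n + 1)) ⟶ W.power (Fin (n + 2))) ≫ hh f g (n + 1) i) ≫ V.powerπ a =
      W.powerπ (k.predAbove (i.predAbove a)) ≫ pick f g (a ≤ i.castSucc) :=
  (Category.assoc _ _ _).trans
    ((congrArg (fun t => (W.cech.σ k : W.power (Fin (n + 1)) ⟶ W.power (Fin (n + 2))) ≫ t)
      (hh_π f g (n + 1) i a)).trans ((Category.assoc _ _ _).symm.trans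
        (congrArg (fun t => t ≫ pick f g (a ≤ i.castSucc)) (cech_σ_π n k _))))

/-- The simplicial homotopy between the maps of Cech objects induced by two refinements. -/
noncomputable def homotopy :
    SimplicialObject.Homotopy (FormalCoproduct.cechFunctor.map f) (FormalCoproduct.cechFunctor.map g) where
  h {n} i := hh f g n i
  h_zero_comp_δ_zero n := by
    refine Fan.IsLimit.hom_ext (V.isLimitPowerFan (Fin (n + 1))) _ _ (fun a => ?_)
    refine (L1 f g n 0 0 a).trans (Eq.trans ?_ (powerMap_π g a).symm)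
    refine comp_pick_congr f g _ _ _ False ?_ ?_
    · apply Fin.ext
      simp only [val_predAbove, val_succAbove, Fin.val_zero]
      split_ifs <;> omega
    · refine iff_false_intro ?_
      rw [Fin.le_def]
      simp only [val_succAbove, Fin.val_zero, Fin.val_castSucc]
      split_ifs <;> omega
  h_last_comp_δ_last n := by
    refine Fan.IsLimit.hom_ext (V.isLimitPowerFan (Fin (n + 1))) _ _ (fun a => ?_)
    refine (L1 f g n (Fin.last n) (Fin.last (n + 1)) a).trans (Eq.trans ?_ (powerMap_π f a).symm)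
    have ha := a.isLt
    refine comp_pick_congr f g _ _ _ True ?_ ?_
    · apply Fin.ext
      simp only [val_predAbove, val_succAbove, Fin.val_last]
      split_ifs <;> omega
    · refine iff_true_intro ?_
      rw [Fin.le_def]
      simp only [val_succAbove, Fin.val_last, Fin.val_castSucc]
      split_ifs <;> omega
  h_succ_comp_δ_castSucc_of_lt {n} i j hij := by
    refine Fan.IsLimit.hom_ext (V.isLimitPowerFan (Fin (n + 2))) _ _ (fun a => ?_)
    refine (L1 f g (n + 1) j.succ i.castSucc a).trans (Eq.trans ?_ (L2 f g n j i a).symm)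
    have hij' := Fin.le_def.mp hij
    simp only [Fin.val_castSucc] at hij'
    refine comp_pick_congr f g _ _ _ _ ?_ ?_
    · apply Fin.ext
      simp only [val_predAbove, val_succAbove, Fin.val_succ, Fin.val_castSucc]
      split_ifs <;> omega
    · rw [Fin.le_def, Fin.le_def]
      simp only [val_succAbove, Fin.val_succ, Fin.val_castSucc]
      split_ifs <;> omega
  h_succ_comp_δ_castSucc_succ {n} j := by
    refine Fan.IsLimit.hom_ext (V.isLimitPowerFan (Fin (n + 2))) _ _ (fun a => ?_)
    refine (L1 f g (n + 1) j.succ j.castSucc.succ a).trans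
      (Eq.trans ?_ (L1 f g (n + 1) j.castSucc j.castSucc.succ a).symm)
    refine comp_pick_congr f g _ _ _ _ ?_ ?_
    · apply Fin.ext
      simp only [val_predAbove, val_succAbove, Fin.val_succ, Fin.val_castSucc]
      split_ifs <;> omega
    · rw [Fin.le_def, Fin.le_def]
      simp only [val_succAbove, Fin.val_succ, Fin.val_castSucc]
      split_ifs <;> omega
  h_castSucc_comp_δ_succ_of_lt {n} i j hji := by
    refine Fan.IsLimit.hom_ext (V.isLimitPowerFan (Fin (n + 2))) _ _ (fun a => ?_)
    refine (L1 f g (n + 1) j.castSucc i.succ a).trans (Eq.trans ?_ (L2 f g n j i a).symm)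
    have hji' := Fin.lt_def.mp hji
    simp only [Fin.val_castSucc] at hji'
    refine comp_pick_congr f g _ _ _ _ ?_ ?_
    · apply Fin.ext
      simp only [val_predAbove, val_succAbove, Fin.val_succ, Fin.val_castSucc]
      split_ifs <;> omega
    · rw [Fin.le_def, Fin.le_def]
      simp only [val_succAbove, Fin.val_succ, Fin.val_castSucc]
      split_ifs <;> omega
  h_comp_σ_castSucc_of_le {n} i j hij := by
    refine Fan.IsLimit.hom_ext (V.isLimitPowerFan (Fin (n + 3))) _ _ (fun a => ?_)
    refine (L3 f g n j i.castSucc a).trans (Eq.trans ?_ (L4 f g n j.succ i a).symm)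
    have hij' := Fin.le_def.mp hij
    refine comp_pick_congr f g _ _ _ _ ?_ ?_
    · apply Fin.ext
      simp only [val_predAbove, Fin.val_succ, Fin.val_castSucc]
      split_ifs <;> omega
    · rw [Fin.le_def, Fin.le_def]
      simp only [val_predAbove, Fin.val_succ, Fin.val_castSucc]
      split_ifs <;> omega
  h_comp_σ_succ_of_lt {n} i j hji := by
    refine Fan.IsLimit.hom_ext (V.isLimitPowerFan (Fin (n + 3))) _ _ (fun a => ?_)
    refine (L3 f g n j i.succ a).trans (Eq.trans ?_ (L4 f g n j.castSucc i a).symm)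
    have hji' := Fin.le_def.mp hji
    refine comp_pick_congr f g _ _ _ _ ?_ ?_
    · apply Fin.ext
      simp only [val_predAbove, Fin.val_succ, Fin.val_castSucc]
      split_ifs <;> omega
    · rw [Fin.le_def, Fin.le_def]
      simp only [val_predAbove, Fin.val_succ, Fin.val_castSucc]
      split_ifs <;> omega


section Dual

open AlgebraicTopology

universe v₁ u₁ v₂ u₂

variable {B : Type u₁} [Category.{v₁} B] {A : Type u₂} [Category.{v₂} A] [Preadditive A]

/-- the cosimplicial object obtained from a simplicial object and a contravariant functor -/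
def cos (S : SimplicialObject B) (E : Bᵒᵖ ⥤ A) : CosimplicialObject A := S.rightOp ⋙ E

/-- functoriality of `cos` -/
def cosMap {S T : SimplicialObject B} (φ : S ⟶ T) (E : Bᵒᵖ ⥤ A) : cos T E ⟶ cos S E :=
  Functor.whiskerRight (NatTrans.rightOp φ) E

lemma d_unop (S : SimplicialObject B) (E : Bᵒᵖ ⥤ A) (n : ℕ) :
    (((alternatingFaceMapComplex Aᵒᵖ).obj
      (((SimplicialObject.whiskering B Aᵒᵖ).obj E.rightOp).obj S)).d (n + 1) n).unop =
      ((alternatingCofaceMapComplex A).obj (cos S E)).d n (n + 1) := by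
  rw [alternatingFaceMapComplex_obj_d]
  have h2 : ((alternatingCofaceMapComplex A).obj (cos S E)).d n (n + 1) =
      AlternatingCofaceMapComplex.objD (cos S E) n := by
    simp [alternatingCofaceMapComplex, AlternatingCofaceMapComplex.obj]
  rw [h2]
  simp only [AlternatingFaceMapComplex.objD, AlternatingCofaceMapComplex.objD, unop_sum, unop_zsmul]
  rfl

/-- the chain homotopy in the opposite category -/
noncomputable abbrev opHomotopy {S T : SimplicialObject B} {φ ψ : S ⟶ T}
    (H : SimplicialObject.Homotopy φ ψ) (E : Bᵒᵖ ⥤ A) :=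
  (H.whiskerRight E.rightOp).toChainHomotopy

lemma d_unop' (S : SimplicialObject B) (E : Bᵒᵖ ⥤ A) (n : ℕ) :
    ((alternatingCofaceMapComplex A).obj (cos S E)).d n (n + 1) =
    (((alternatingFaceMapComplex Aᵒᵖ).obj
      (((SimplicialObject.whiskering B Aᵒᵖ).obj E.rightOp).obj S)).d (n + 1) n).unop :=
  (d_unop S E n).symm

/-- the components of the cochain homotopy -/
noncomputable def homC {S T : SimplicialObject B} {φ ψ : S ⟶ T}
    (H : SimplicialObject.Homotopy φ ψ) (E : Bᵒᵖ ⥤ A) (i j : ℕ) :
    ((alternatingCofaceMapComplex A).obj (cos T E)).X i ⟶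
      ((alternatingCofaceMapComplex A).obj (cos S E)).X j :=
  ((opHomotopy H E).hom j i).unop

/-- A simplicial homotopy induces a cochain homotopy after applying a contravariant functor. -/
noncomputable def cochainHomotopy {S T : SimplicialObject B} {φ ψ : S ⟶ T}
    (H : SimplicialObject.Homotopy φ ψ) (E : Bᵒᵖ ⥤ A) :
    Homotopy ((alternatingCofaceMapComplex A).map (cosMap φ E))
      ((alternatingCofaceMapComplex A).map (cosMap ψ E)) where
  hom := homC H E
  zero i j hij := by
    have h0 : (opHomotopy H E).hom j i = 0 := (opHomotopy H E).zero j i hij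
    unfold homC
    rw [h0]
    rfl
  comm n := by
    cases n with
    | zero =>
      have hA := (opHomotopy H E).comm 0
      rw [Homotopy.dNext_zero_chainComplex, Homotopy.prevD_chainComplex, zero_add] at hA
      have hB := congrArg Quiver.Hom.unop hA
      rw [unop_add, unop_comp] at hB
      rw [Homotopy.prevD_zero_cochainComplex, Homotopy.dNext_cochainComplex, add_zero, d_unop' T E 0]
      exact hB
    | succ n =>
      have hA := (opHomotopy H E).comm (n + 1)
      rw [Homotopy.dNext_succ_chainComplex, Homotopy.prevD_chainComplex] at hA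
      have hB := congrArg Quiver.Hom.unop hA
      rw [unop_add, unop_add, unop_comp, unop_comp, add_comm (_ ≫ _) (_ ≫ _)] at hB
      rw [Homotopy.prevD_succ_cochainComplex, Homotopy.dNext_cochainComplex, d_unop' T E (n + 1),
        d_unop' S E n]
      exact hB


end Dual

end H10CH
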