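import Groth.Prelude.Def_W4stkflatp2Cpct
import Mathlib.AlgebraicGeometry.Morphisms.Separated
import Mathlib.AlgebraicGeometry.Morphisms.Proper
import Mathlib.CategoryTheory.Localization.CalculusOfFractions

/-!
# Compactification pairs: right calculus of fractions
-/

universe u
open CategoryTheory CategoryTheory.Limits AlgebraicGeometry

namespace H10PT.CpctF
open Cpct

variable {S : Scheme.{u}}

@[reassoc]
theorem restr_ι {A B : Pair S} (f : A ⟶ B) :
    restr f ≫ B.U.ι = A.U.ι ≫ (Pair.Hom.bar f).left := by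
  simp [restr]

theorem restr_id (A : Pair S) : restr (𝟙 A) = 𝟙 _ := by
  rw [← cancel_mono A.U.ι, restr_ι]
  simp

theorem restr_comp {A B C : Pair S} (f : A ⟶ B) (g : B ⟶ C) :
    restr (f ≫ g) = restr f ≫ restr g := by
  rw [← cancel_mono C.U.ι, restr_ι, Category.assoc, restr_ι, restr_ι_assoc]
  simp

instance isMultiplicative : (isoOpen S).IsMultiplicative where
  id_mem A := by
    show IsIso (restr (𝟙 A))
    rw [restr_id]
    infer_instance
  comp_mem f g hf hg := by
    show IsIso (restr (f ≫ g))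
    rw [restr_comp]
    have : IsIso (restr f) := hf
    have : IsIso (restr g) := hg
    infer_instance

/-- compactness transfers along an isomorphism of open subschemes -/
theorem isCompact_of_isIso {X Y : Scheme.{u}} (V : X.Opens) (U : Y.Opens)
    (a : (V : Scheme.{u}) ⟶ (U : Scheme.{u})) [IsIso a] (hU : IsCompact (U : Set Y)) :
    IsCompact (V : Set X) := by
  have hcU : CompactSpace (U : Scheme.{u}) := isCompact_iff_compactSpace.mp hU
  have hcV : CompactSpace (V : Scheme.{u}) := (Scheme.homeoOfIso (asIso a)).symm.compactSpace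
  have h := isCompact_range V.ι.continuous
  rwa [Scheme.Opens.range_ι] at h

/-- a morphism between proper `S`-schemes is proper -/
theorem isProper_bar_left {A B : Pair S} (f : A ⟶ B) : IsProper (Pair.Hom.bar f).left := by
  have h1 : IsProper ((Pair.Hom.bar f).left ≫ B.bar.hom) := by
    rw [Over.w]
    exact A.isProper
  have h2 : IsProper B.bar.hom := B.isProper
  exact IsProper.of_comp (Pair.Hom.bar f).left B.bar.hom

/-- the Ore condition -/
theorem exists_square {A B C : Pair S} (f : A ⟶ C) (s : B ⟶ C) (hs : isoOpen S s) :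
    ∃ (D : Pair S) (t : D ⟶ A) (g : D ⟶ B), isoOpen S t ∧ t ≫ f = g ≫ s := by
  have : IsIso (restr s) := hs
  have hpA : IsProper A.bar.hom := A.isProper
  have hps : IsProper (Pair.Hom.bar s).left := isProper_bar_left s
  let fb : A.bar.left ⟶ C.bar.left := (Pair.Hom.bar f).left
  let sb : B.bar.left ⟶ C.bar.left := (Pair.Hom.bar s).left
  let p1 : pullback fb sb ⟶ A.bar.left := pullback.fst fb sb
  let p2 : pullback fb sb ⟶ B.bar.left := pullback.snd fb sb
  let V : (pullback fb sb).Opens := p1 ⁻¹ᵁ A.U ⊓ p2 ⁻¹ᵁ B.U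
  have hσc : A.U.ι ≫ fb = (restr f ≫ inv (restr s) ≫ B.U.ι) ≫ sb := by
    simp only [Category.assoc, fb, sb]
    rw [← restr_ι s, IsIso.inv_hom_id_assoc, restr_ι]
  let σ : (A.U : Scheme.{u}) ⟶ pullback fb sb :=
    pullback.lift A.U.ι (restr f ≫ inv (restr s) ≫ B.U.ι) hσc
  have hσ1 : σ ≫ p1 = A.U.ι := pullback.lift_fst _ _ _
  have hσ2 : σ ≫ p2 = restr f ≫ inv (restr s) ≫ B.U.ι := pullback.lift_snd _ _ _
  have hσV : Set.range σ.base ⊆ Set.range V.ι.base := by
    rw [Scheme.Opens.range_ι]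
    rintro _ ⟨x, rfl⟩
    refine ⟨?_, ?_⟩
    · show p1.base (σ.base x) ∈ A.U
      have : p1.base (σ.base x) = A.U.ι.base x := by
        rw [← hσ1]; rfl
      rw [this]
      exact x.2
    · show p2.base (σ.base x) ∈ B.U
      have hσ2' : σ ≫ p2 = (restr f ≫ inv (restr s)) ≫ B.U.ι := by
        rw [hσ2, Category.assoc]
      have : p2.base (σ.base x) = B.U.ι.base ((restr f ≫ inv (restr s)).base x) :=
        congrArg (fun m : (A.U : Scheme.{u}) ⟶ B.bar.left => m.base x) hσ2'
      rw [this]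
      exact ((restr f ≫ inv (restr s)).base x).2
  let τ : (A.U : Scheme.{u}) ⟶ (V : Scheme.{u}) := IsOpenImmersion.lift V.ι σ hσV
  have hτ : τ ≫ V.ι = σ := IsOpenImmersion.lift_fac _ _ _
  let a : (V : Scheme.{u}) ⟶ (A.U : Scheme.{u}) := p1.resLE A.U V inf_le_left
  let b : (V : Scheme.{u}) ⟶ (B.U : Scheme.{u}) := p2.resLE B.U V inf_le_right
  have ha : a ≫ A.U.ι = V.ι ≫ p1 := Scheme.Hom.resLE_comp_ι _ _
  have hb : b ≫ B.U.ι = V.ι ≫ p2 := Scheme.Hom.resLE_comp_ι _ _
  have hab : a ≫ restr f = b ≫ restr s := by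
    rw [← cancel_mono C.U.ι, Category.assoc, Category.assoc, restr_ι, restr_ι,
      reassoc_of% ha, reassoc_of% hb]
    exact congrArg (V.ι ≫ ·) pullback.condition
  have h1 : τ ≫ a = 𝟙 _ := by
    rw [← cancel_mono A.U.ι, Category.assoc, ha, reassoc_of% hτ, hσ1, Category.id_comp]
  have h2 : a ≫ τ = 𝟙 _ := by
    rw [← cancel_mono V.ι, Category.assoc, hτ, Category.id_comp]
    refine pullback.hom_ext ?_ ?_
    · rw [Category.assoc]
      show a ≫ σ ≫ p1 = V.ι ≫ p1
      rw [hσ1, ha]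
    · rw [Category.assoc]
      show a ≫ σ ≫ p2 = V.ι ≫ p2
      rw [hσ2, reassoc_of% hab, IsIso.hom_inv_id_assoc, hb]
  have : IsIso a := ⟨τ, h2, h1⟩
  let D : Pair S :=
    { bar := Over.mk (p1 ≫ A.bar.hom)
      U := V
      isProper := by
        show IsProper (p1 ≫ A.bar.hom)
        infer_instance
      isCompact := isCompact_of_isIso V A.U a A.isCompact }
  have w2 : p2 ≫ B.bar.hom = p1 ≫ A.bar.hom := by
    rw [← Over.w (Pair.Hom.bar s), ← Over.w (Pair.Hom.bar f)]
    exact (congrArg (· ≫ C.bar.hom) pullback.condition).symm.trans (by simp [p1, p2, fb, sb])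
  let t : D ⟶ A := ⟨Over.homMk p1 rfl, fun x hx => hx.1⟩
  let g : D ⟶ B := ⟨Over.homMk p2 w2, fun x hx => hx.2⟩
  refine ⟨D, t, g, ?_, ?_⟩
  · show IsIso (restr t)
    have : restr t = a := rfl
    rw [this]
    infer_instance
  · apply Pair.Hom.ext
    apply Over.OverMorphism.ext
    show p1 ≫ fb = p2 ≫ sb
    exact pullback.condition

/-- equalising two morphisms with the same open part -/
theorem exists_equalizing {A B : Pair S} (f₁ f₂ : A ⟶ B) (h : restr f₁ = restr f₂) :
    ∃ (A' : Pair S) (t : A' ⟶ A), isoOpen S t ∧ t ≫ f₁ = t ≫ f₂ := by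
  have hpA : IsProper A.bar.hom := A.isProper
  have hpB : IsProper B.bar.hom := B.isProper
  let E : Over S := equalizer (Pair.Hom.bar f₁) (Pair.Hom.bar f₂)
  let e : E ⟶ A.bar := equalizer.ι (Pair.Hom.bar f₁) (Pair.Hom.bar f₂)
  have : IsClosedImmersion e.left := inferInstance
  have hk : (Over.homMk A.U.ι rfl : Over.mk (A.U.ι ≫ A.bar.hom) ⟶ A.bar) ≫ Pair.Hom.bar f₁ =
      (Over.homMk A.U.ι rfl : Over.mk (A.U.ι ≫ A.bar.hom) ⟶ A.bar) ≫ Pair.Hom.bar f₂ := by
    apply Over.OverMorphism.ext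
    show A.U.ι ≫ (Pair.Hom.bar f₁).left = A.U.ι ≫ (Pair.Hom.bar f₂).left
    rw [← restr_ι, ← restr_ι, h]
  let k : Over.mk (A.U.ι ≫ A.bar.hom) ⟶ E := equalizer.lift _ hk
  have hke : k.left ≫ e.left = A.U.ι := by
    have := congrArg CommaMorphism.left (equalizer.lift_ι _ hk)
    exact this
  let V : E.left.Opens := e.left ⁻¹ᵁ A.U
  have hkV : Set.range k.left.base ⊆ Set.range V.ι.base := by
    rw [Scheme.Opens.range_ι]
    rintro _ ⟨x, rfl⟩
    show e.left.base (k.left.base x) ∈ A.U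
    have : e.left.base (k.left.base x) = A.U.ι.base x :=
      congrArg (fun m : (A.U : Scheme.{u}) ⟶ A.bar.left => m.base x) hke
    rw [this]
    exact x.2
  let τ : (A.U : Scheme.{u}) ⟶ (V : Scheme.{u}) := IsOpenImmersion.lift V.ι k.left hkV
  have hτ : τ ≫ V.ι = k.left := IsOpenImmersion.lift_fac _ _ _
  let a : (V : Scheme.{u}) ⟶ (A.U : Scheme.{u}) := e.left.resLE A.U V le_rfl
  have ha : a ≫ A.U.ι = V.ι ≫ e.left := Scheme.Hom.resLE_comp_ι _ _
  have h1 : τ ≫ a = 𝟙 _ := by
    rw [← cancel_mono A.U.ι, Category.assoc, ha, reassoc_of% hτ, hke, Category.id_comp]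
  have h2 : a ≫ τ = 𝟙 _ := by
    rw [← cancel_mono V.ι, ← cancel_mono e.left, Category.assoc, Category.assoc,
      reassoc_of% hτ, hke, ha, Category.id_comp]
  have : IsIso a := ⟨τ, h2, h1⟩
  let A' : Pair S :=
    { bar := E
      U := V
      isProper := by
        have : E.hom = e.left ≫ A.bar.hom := (Over.w e).symm
        rw [this]
        infer_instance
      isCompact := isCompact_of_isIso V A.U a A.isCompact }
  let t : A' ⟶ A := ⟨e, fun x hx => hx⟩
  refine ⟨A', t, ?_, ?_⟩
  · show IsIso (restr t)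
    have : restr t = a := rfl
    rw [this]
    infer_instance
  · apply Pair.Hom.ext
    exact equalizer.condition _ _

theorem hasRightCalculusOfFractions : (isoOpen S).HasRightCalculusOfFractions where
  exists_rightFraction X Y φ := by
    obtain ⟨D, t, g, ht, hsq⟩ := exists_square φ.f φ.s φ.hs
    exact ⟨⟨t, ht, g⟩, hsq⟩
  ext X Y Y' f₁ f₂ s hs h := by
    have : IsIso (restr s) := hs
    have h' : restr f₁ = restr f₂ := by
      rw [← cancel_mono (restr s), ← restr_comp, ← restr_comp, h]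
    obtain ⟨A', t, ht, heq⟩ := exists_equalizing f₁ f₂ h'
    exact ⟨A', t, ht, heq⟩

end H10PT.CpctF
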