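import Mathlib.CategoryTheory.Localization.CalculusOfFractions
import Mathlib.CategoryTheory.Localization.CalculusOfFractions.Fractions

/-!
# Recognising a localization functor through a right calculus of fractions
-/

open CategoryTheory

namespace H10PT.LocRecog

universe v₁ v₂ u₁ u₂
variable {C : Type u₁} [Category.{v₁} C] {D : Type u₂} [Category.{v₂} D]

theorem isLocalization_of_rightFractions (L : C ⥤ D) (W : MorphismProperty C)
    [W.HasRightCalculusOfFractions] (hinv : W.IsInvertedBy L) [L.EssSurj]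
    (hfull : ∀ (X Y : C) (φ : L.obj X ⟶ L.obj Y),
      ∃ (X' : C) (s : X' ⟶ X) (_ : W s) (f : X' ⟶ Y), L.map s ≫ φ = L.map f)
    (hfaith : ∀ (X Y : C) (f₁ f₂ : X ⟶ Y), L.map f₁ = L.map f₂ →
      ∃ (X' : C) (s : X' ⟶ X) (_ : W s), s ≫ f₁ = s ≫ f₂) :
    L.IsLocalization W := by
  let G : W.Localization ⥤ D := Localization.lift L hinv W.Q
  let e : W.Q ⋙ G ≅ L := Localization.fac L hinv W.Q
  have hQess : W.Q.EssSurj := Localization.essSurj W.Q W
  have hnat : ∀ {X Y : C} (f : X ⟶ Y),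
      G.map (W.Q.map f) = e.hom.app X ≫ L.map f ≫ e.inv.app Y := by
    intro X Y f
    have h := e.hom.naturality f
    rw [← Category.assoc, ← h]
    simp
  have hfullG : G.Full := by
    refine G.full_of_comp_essSurj W.Q (fun A B φ => ?_)
    obtain ⟨X', s, hs, f, hsf⟩ := hfull A B (e.inv.app A ≫ φ ≫ e.hom.app B)
    have : IsIso (W.Q.map s) := Localization.inverts W.Q W s hs
    refine ⟨inv (W.Q.map s) ≫ W.Q.map f, ?_⟩
    rw [G.map_comp, Functor.map_inv, IsIso.inv_comp_eq, hnat, hnat, ← hsf]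
    simp
  have hfaithG : G.Faithful := by
    refine G.faithful_of_comp_essSurj W.Q (fun A B ψ₁ ψ₂ h => ?_)
    obtain ⟨φ₁, rfl⟩ := Localization.exists_rightFraction W.Q W ψ₁
    obtain ⟨φ₂, rfl⟩ := Localization.exists_rightFraction W.Q W ψ₂
    obtain ⟨ρ, hρ⟩ :=
      (MorphismProperty.LeftFraction.mk φ₁.s φ₂.s φ₂.hs).exists_rightFraction
    dsimp at hρ
    have hu : W (ρ.s ≫ φ₁.s) := W.comp_mem _ _ ρ.hs φ₁.hs
    have hQu : IsIso (W.Q.map (ρ.s ≫ φ₁.s)) := Localization.inverts W.Q W _ hu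
    have e1 : W.Q.map (ρ.s ≫ φ₁.s) ≫ φ₁.map W.Q (Localization.inverts W.Q W) =
        W.Q.map (ρ.s ≫ φ₁.f) := by
      rw [W.Q.map_comp, Category.assoc, MorphismProperty.RightFraction.map_s_comp_map,
        ← W.Q.map_comp]
    have e2 : W.Q.map (ρ.s ≫ φ₁.s) ≫ φ₂.map W.Q (Localization.inverts W.Q W) =
        W.Q.map (ρ.f ≫ φ₂.f) := by
      rw [hρ, W.Q.map_comp, Category.assoc, MorphismProperty.RightFraction.map_s_comp_map,
        ← W.Q.map_comp]
    rw [← cancel_epi (W.Q.map (ρ.s ≫ φ₁.s)), e1, e2]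
    have h3 : G.map (W.Q.map (ρ.s ≫ φ₁.f)) = G.map (W.Q.map (ρ.f ≫ φ₂.f)) := by
      rw [← e1, ← e2, G.map_comp, G.map_comp, h]
    rw [hnat, hnat] at h3
    have h4 : L.map (ρ.s ≫ φ₁.f) = L.map (ρ.f ≫ φ₂.f) := by
      have h5 := (cancel_epi (e.hom.app _)).1 h3
      exact (cancel_mono (e.inv.app _)).1 h5
    obtain ⟨X', t, ht, hteq⟩ := hfaith _ _ _ _ h4
    have hQt : IsIso (W.Q.map t) := Localization.inverts W.Q W _ ht
    rw [← cancel_epi (W.Q.map t), ← W.Q.map_comp, ← W.Q.map_comp, hteq]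
  have hessG : G.EssSurj :=
    ⟨fun d => ⟨W.Q.obj (L.objPreimage d), ⟨e.app _ ≪≫ L.objObjPreimageIso d⟩⟩⟩
  have hG : G.IsEquivalence := { }
  exact Functor.IsLocalization.of_equivalence_target W.Q W L G.asEquivalence e

end H10PT.LocRecog
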