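import Groth.Agent.Lib.Helper10.CpctFrac
import Groth.Agent.Lib.Helper10.LocRecog
import Mathlib.AlgebraicGeometry.Morphisms.Immersion
import Mathlib.AlgebraicGeometry.Morphisms.QuasiSeparated

/-!
# Compactification pairs: the open-part functor is a localization
-/

universe u
open CategoryTheory CategoryTheory.Limits AlgebraicGeometry

namespace H10PT.CpctF
open Cpct

variable {S : Scheme.{u}}

/-- every morphism between open parts is a right fraction: closure of the graph -/
theorem exists_fraction_of_hom [QuasiSeparatedSpace S] {A B : Pair S}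
    (φ : openOver.obj A ⟶ openOver.obj B) :
    ∃ (D : Pair S) (s : D ⟶ A) (_ : isoOpen S s) (f : D ⟶ B),
      restr s ≫ φ.left = restr f := by
  have hpA : IsProper A.bar.hom := A.isProper
  have hpB : IsProper B.bar.hom := B.isProper
  let P : Scheme.{u} := pullback A.bar.hom B.bar.hom
  let pr1 : P ⟶ A.bar.left := pullback.fst A.bar.hom B.bar.hom
  let pr2 : P ⟶ B.bar.left := pullback.snd A.bar.hom B.bar.hom
  let φl : (A.U : Scheme.{u}) ⟶ (B.U : Scheme.{u}) := φ.left
  have hφ : φl ≫ B.U.ι ≫ B.bar.hom = A.U.ι ≫ A.bar.hom := Over.w φ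
  let γ : (A.U : Scheme.{u}) ⟶ P :=
    pullback.lift A.U.ι (φl ≫ B.U.ι) (by rw [Category.assoc]; exact hφ.symm)
  have hγ1 : γ ≫ pr1 = A.U.ι := pullback.lift_fst _ _ _
  have hγ2 : γ ≫ pr2 = φl ≫ B.U.ι := pullback.lift_snd _ _ _
  -- `γ` is an immersion
  let P₀ : P.Opens := pr1 ⁻¹ᵁ A.U
  have hγP₀ : Set.range γ.base ⊆ Set.range P₀.ι.base := by
    rw [Scheme.Opens.range_ι]
    rintro _ ⟨x, rfl⟩
    show pr1.base (γ.base x) ∈ A.U
    have : pr1.base (γ.base x) = A.U.ι.base x :=
      congrArg (fun m : (A.U : Scheme.{u}) ⟶ A.bar.left => m.base x) hγ1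
    rw [this]
    exact x.2
  let γ₀ : (A.U : Scheme.{u}) ⟶ (P₀ : Scheme.{u}) := IsOpenImmersion.lift P₀.ι γ hγP₀
  have hγ₀ : γ₀ ≫ P₀.ι = γ := IsOpenImmersion.lift_fac _ _ _
  have hγ₀r : γ₀ ≫ (pr1 ∣_ A.U) = 𝟙 _ := by
    rw [← cancel_mono A.U.ι, Category.assoc, morphismRestrict_ι, reassoc_of% hγ₀, hγ1,
      Category.id_comp]
  have hci : IsClosedImmersion (γ₀ ≫ (pr1 ∣_ A.U)) := by
    rw [hγ₀r]; infer_instance
  have hγ₀c : IsClosedImmersion γ₀ := IsClosedImmersion.of_comp γ₀ (pr1 ∣_ A.U)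
  have hγi : IsImmersion γ := by
    rw [← hγ₀]; infer_instance
  -- `γ` is quasi-compact
  have hcA : CompactSpace (A.U : Scheme.{u}) := isCompact_iff_compactSpace.mp A.isCompact
  have hqsP : QuasiSeparatedSpace P := quasiSeparatedSpace_of_quasiSeparated (pr1 ≫ A.bar.hom)
  have hγq : QuasiCompact γ := inferInstance
  -- the scheme-theoretic image
  let Z : Scheme.{u} := γ.image
  let i : Z ⟶ P := γ.imageι
  let q : (A.U : Scheme.{u}) ⟶ Z := γ.toImage
  have hqi : q ≫ i = γ := γ.toImage_imageι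
  have hqo : IsOpenImmersion q := inferInstance
  let q₀ : (A.U : Scheme.{u}) ≅ (q.opensRange : Scheme.{u}) := q.isoOpensRange
  have hq₀ : q₀.hom ≫ q.opensRange.ι = q := q.isoOpensRange_hom_ι
  have w' : (i ≫ pr2) ≫ B.bar.hom = i ≫ pr1 ≫ A.bar.hom := by
    rw [Category.assoc]
    exact congrArg (i ≫ ·) pullback.condition.symm
  let D : Pair S :=
    { bar := Over.mk (i ≫ pr1 ≫ A.bar.hom)
      U := q.opensRange
      isProper := by
        show IsProper (i ≫ pr1 ≫ A.bar.hom)
        infer_instance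
      isCompact := by
        show IsCompact (Set.range q.base)
        exact isCompact_range q.continuous }
  have hle1 : ∀ z, z ∈ q.opensRange → (i ≫ pr1).base z ∈ A.U := by
    rintro _ ⟨x, rfl⟩
    have : (i ≫ pr1).base (q.base x) = A.U.ι.base x := by
      have h : q ≫ i ≫ pr1 = A.U.ι := by rw [reassoc_of% hqi, hγ1]
      exact congrArg (fun m : (A.U : Scheme.{u}) ⟶ A.bar.left => m.base x) h
    rw [this]
    exact x.2
  have hle2 : ∀ z, z ∈ q.opensRange → (i ≫ pr2).base z ∈ B.U := by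
    rintro _ ⟨x, rfl⟩
    have : (i ≫ pr2).base (q.base x) = B.U.ι.base (φl.base x) := by
      have h : q ≫ i ≫ pr2 = φl ≫ B.U.ι := by rw [reassoc_of% hqi, hγ2]
      exact congrArg (fun m : (A.U : Scheme.{u}) ⟶ B.bar.left => m.base x) h
    rw [this]
    exact (φl.base x).2
  let s : D ⟶ A := ⟨Over.homMk (i ≫ pr1) (by simp [D]), hle1⟩
  let f : D ⟶ B := ⟨Over.homMk (i ≫ pr2) w', hle2⟩
  have hs1 : q₀.hom ≫ restr s = 𝟙 _ := by
    rw [← cancel_mono A.U.ι, Category.assoc, restr_ι, Category.id_comp]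
    show q₀.hom ≫ q.opensRange.ι ≫ i ≫ pr1 = A.U.ι
    rw [reassoc_of% hq₀, reassoc_of% hqi, hγ1]
  have hf1 : q₀.hom ≫ restr f = φl := by
    rw [← cancel_mono B.U.ι, Category.assoc, restr_ι]
    show q₀.hom ≫ q.opensRange.ι ≫ i ≫ pr2 = φl ≫ B.U.ι
    rw [reassoc_of% hq₀, reassoc_of% hqi, hγ2]
  have hsiso : IsIso (restr s) := by
    have h : IsIso (q₀.hom ≫ restr s) := by rw [hs1]; infer_instance
    exact IsIso.of_isIso_comp_left q₀.hom (restr s)
  refine ⟨D, s, hsiso, f, ?_⟩
  show restr s ≫ φl = restr f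
  rw [← cancel_epi q₀.hom, reassoc_of% hs1, hf1]

theorem isInvertedBy_openFunctor : (isoOpen S).IsInvertedBy (openFunctor S) := by
  intro A B s hs
  have h1 : IsIso (restr s) := hs
  rw [← ObjectProperty.isIso_hom_iff]
  show IsIso (openOver.map s)
  have : IsIso ((Over.forget S).map (openOver.map s)) := h1
  exact isIso_of_reflects_iso _ (Over.forget S)

instance essSurj_openFunctor : (openFunctor S).EssSurj where
  mem_essImage X := by
    obtain ⟨A, ⟨e⟩⟩ := X.property
    exact ⟨A, ⟨ObjectProperty.isoMk _ e⟩⟩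

theorem isLocalization_openFunctor [QuasiSeparatedSpace S] :
    (openFunctor S).IsLocalization (isoOpen S) := by
  haveI := hasRightCalculusOfFractions (S := S)
  refine H10PT.LocRecog.isLocalization_of_rightFractions (openFunctor S) (isoOpen S)
    isInvertedBy_openFunctor ?_ ?_
  · intro A B φ
    obtain ⟨D, s, hs, f, h⟩ := exists_fraction_of_hom (A := A) (B := B) φ.hom
    refine ⟨D, s, hs, f, ?_⟩
    apply ObjectProperty.hom_ext
    apply Over.OverMorphism.ext
    exact h
  · intro A B f₁ f₂ h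
    have h' : restr f₁ = restr f₂ :=
      congrArg (fun m => m.hom.left) h
    obtain ⟨A', t, ht, heq⟩ := exists_equalizing f₁ f₂ h'
    exact ⟨A', t, ht, heq⟩

end H10PT.CpctF
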