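import Mathlib

/-!
# Finitely presented modules are compact objects for directed colimits of modules

* `exists_factor_of_basis`: a map from a finite free module to a directed colimit factors through
  a stage.
* `exists_comp_eq_of_of_comp_eq`: two maps from a finite module to a stage that agree in the colimit
  agree at a later stage.
* `exists_factor_of_finitePresentation`: a map from a finitely presented module to a directed colimit
  factors through a stage.
* `rTensor_of_zero_exact`: a tensor killed by `(of i) ⊗ Q` is killed by some `(f i j) ⊗ Q`.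
-/

open scoped TensorProduct

namespace Groth.Agent.Lib.Helper10

universe u

variable (R : Type u) [CommRing R] {ι : Type u} [Preorder ι] [IsDirected ι (· ≤ ·)] [Nonempty ι]
  [DecidableEq ι] (G : ι → Type u) [∀ i, AddCommGroup (G i)] [∀ i, Module R (G i)]
  (f : ∀ i j, i ≤ j → G i →ₗ[R] G j) [DirectedSystem G fun i j h => f i j h]

theorem exists_factor_of_basis {κ : Type*} [Fintype κ] {F : Type u} [AddCommGroup F] [Module R F]
    (b : Module.Basis κ R F) (u : F →ₗ[R] Module.DirectLimit G f) :
    ∃ (j : ι) (v : F →ₗ[R] G j), (Module.DirectLimit.of R ι G f j) ∘ₗ v = u := by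
  classical
  choose ia xa hxa using fun a => Module.DirectLimit.exists_of (u (b a))
  obtain ⟨j, hj⟩ := Finset.exists_le (Finset.univ.image ia)
  have hj' : ∀ a, ia a ≤ j := fun a => hj _ (Finset.mem_image_of_mem _ (Finset.mem_univ a))
  refine ⟨j, b.constr R (fun a => f (ia a) j (hj' a) (xa a)), ?_⟩
  apply b.ext
  intro a
  rw [LinearMap.comp_apply, Module.Basis.constr_basis, Module.DirectLimit.of_f, hxa]

theorem exists_comp_eq_of_of_comp_eq {P : Type u} [AddCommGroup P] [Module R P] [Module.Finite R P]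
    {j : ι} (a b : P →ₗ[R] G j)
    (h : Module.DirectLimit.of R ι G f j ∘ₗ a = Module.DirectLimit.of R ι G f j ∘ₗ b) :
    ∃ (k : ι) (hjk : j ≤ k), f j k hjk ∘ₗ a = f j k hjk ∘ₗ b := by
  classical
  obtain ⟨S, hS⟩ := (Module.Finite.fg_top : (⊤ : Submodule R P).FG)
  have h1 : ∀ s : P, ∃ (k : ι) (hjk : j ≤ k), f j k hjk (a s) = f j k hjk (b s) := by
    intro s
    exact Module.DirectLimit.exists_eq_of_of_eq (LinearMap.congr_fun h s)
  choose ks hks hks' using h1
  obtain ⟨k, hk⟩ := Finset.exists_le (insert j (S.image ks))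
  have hjk : j ≤ k := hk j (Finset.mem_insert_self _ _)
  refine ⟨k, hjk, ?_⟩
  apply LinearMap.ext_on hS
  intro s hs
  have hsk : ks s ≤ k :=
    hk _ (Finset.mem_insert_of_mem (Finset.mem_image_of_mem _ (Finset.mem_coe.mp hs)))
  have e1 : f j k hjk (a s) = f (ks s) k hsk (f j (ks s) (hks s) (a s)) :=
    (DirectedSystem.map_map' f (hks s) hsk (a s)).symm
  have e2 : f j k hjk (b s) = f (ks s) k hsk (f j (ks s) (hks s) (b s)) :=
    (DirectedSystem.map_map' f (hks s) hsk (b s)).symm
  rw [LinearMap.comp_apply, LinearMap.comp_apply, e1, e2, hks' s]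

theorem exists_factor_of_finitePresentation {Q : Type u} [AddCommGroup Q] [Module R Q]
    [Module.FinitePresentation R Q] (h : Q →ₗ[R] Module.DirectLimit G f) :
    ∃ (j : ι) (v : Q →ₗ[R] G j), Module.DirectLimit.of R ι G f j ∘ₗ v = h := by
  obtain ⟨n, m, p, T, hp, hex⟩ := Module.FinitePresentation.exists_fin' R Q
  obtain ⟨j, u, hu⟩ := exists_factor_of_basis R G f (Pi.basisFun R (Fin n)) (h ∘ₗ p)
  have h0 : Module.DirectLimit.of R ι G f j ∘ₗ (u ∘ₗ T) =
      Module.DirectLimit.of R ι G f j ∘ₗ (0 : (Fin m → R) →ₗ[R] G j) := by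
    rw [← LinearMap.comp_assoc, hu, LinearMap.comp_zero]
    apply LinearMap.ext
    intro x
    rw [LinearMap.comp_apply, LinearMap.comp_apply, hex.apply_apply_eq_zero, map_zero,
      LinearMap.zero_apply]
  obtain ⟨k, hjk, hk⟩ := exists_comp_eq_of_of_comp_eq R G f (u ∘ₗ T) 0 h0
  rw [LinearMap.comp_zero] at hk
  have hker : LinearMap.ker p ≤ LinearMap.ker (f j k hjk ∘ₗ u) := by
    intro x hx
    obtain ⟨y, rfl⟩ := (hex x).1 (LinearMap.mem_ker.mp hx)
    exact LinearMap.mem_ker.mpr (LinearMap.congr_fun hk y)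
  refine ⟨k, (LinearMap.ker p).liftQ (f j k hjk ∘ₗ u) hker ∘ₗ
    (p.quotKerEquivOfSurjective hp).symm.toLinearMap, ?_⟩
  apply LinearMap.ext
  intro q
  obtain ⟨x, rfl⟩ := hp q
  rw [LinearMap.comp_apply, LinearMap.comp_apply, LinearEquiv.coe_coe,
    LinearMap.quotKerEquivOfSurjective_symm_apply, Submodule.liftQ_apply, LinearMap.comp_apply,
    Module.DirectLimit.of_f]
  exact LinearMap.congr_fun hu x

omit [Nonempty ι] in
theorem rTensor_of_zero_exact (Q : Type u) [AddCommGroup Q] [Module R Q] {i : ι}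
    (y : G i ⊗[R] Q) (hy : (Module.DirectLimit.of R ι G f i).rTensor Q y = 0) :
    ∃ (j : ι) (hij : i ≤ j), (f i j hij).rTensor Q y = 0 := by
  have h1 : Module.DirectLimit.of R ι (fun i => G i ⊗[R] Q)
      (fun i j h => (f i j h).rTensor Q) i y = 0 := by
    rw [← TensorProduct.directLimitLeft_rTensor_of f Q y, hy, map_zero]
  exact Module.DirectLimit.of.zero_exact h1

end Groth.Agent.Lib.Helper10
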