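import Mathlib
import Groth.Agent.S10259
import Groth.Agent.S10322
import Groth.Agent.Lib.Helper16.SchLocus
import Groth.Agent.Lib.Helper16.QuasiCompactMor
import Groth.Agent.Lib.Helper16.LocPInst
import Groth.Agent.Lib.Helper16.AlgSt.DiagToSelf
import Groth.Agent.Lib.Helper28.AlgSt.DiagTFAE
import Groth.Agent.Lib.Helper28.AlgSt.DiagRep
import Groth.Agent.Lib.Helper28.AlgSt.Good2
import Groth.Agent.Lib.Helper10.AlgStWNA

/-!
# DM stacks: unramified diagonal, and quasi-affine diagonal (helper10)
-/

set_option autoImplicit false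
universe u
open CategoryTheory CategoryTheory.Limits AlgebraicGeometry Opposite

namespace H10PT.DMDiag

open AlgSp
open Groth.Agent.Lib.Helper28.AlgSt.PropInst

variable {S : Scheme.{u}}

/-- A separated, locally quasi-finite, locally of finite type morphism from a quasi-compact scheme
to an affine scheme has quasi-affine source (Zariski's main theorem). -/
theorem isQuasiAffine_of_lqf_sep {X Y : Scheme.{u}} (f : X ⟶ Y) [IsAffine Y] [LocallyQuasiFinite f]
    [LocallyOfFiniteType f] [IsSeparated f] [CompactSpace X] : X.IsQuasiAffine := by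
  haveI : QuasiCompact f := (quasiCompact_iff_compactSpace f).2 inferInstance
  haveI : IsAffine f.normalization := isAffine_of_isAffineHom f.fromNormalization
  exact Scheme.IsQuasiAffine.of_isImmersion f.toNormalization

/-- A separated, quasi-compact, unramified morphism from an algebraic space to a scheme is
quasi-affine. -/
theorem isQuasiAffineMor_of_sep_qc_unram (F : AlgSp.Space S) (T : Over S) (m : F.obj ⟶ (yon S).obj T)
    (hsep : IsSeparatedMor m) (hqc : IsQuasiCompactMor m)
    (hun : LocP (@LocallyOfFiniteType ⊓ @FormallyUnramified) m) : IsQuasiAffineMor m := by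
  have hlqf : LocP (@LocallyQuasiFinite ⊓ @LocallyOfFiniteType) m :=
    (Groth.Agent.S10322.result (X := F) (Y := (AlgSp.ofScheme S).obj T) (ObjectProperty.homMk m)).2 hun
  have hrep : F.obj.obj.IsRepresentable :=
    Groth.Agent.S10259.result T F (ObjectProperty.homMk m) hlqf hsep
  obtain ⟨W, ⟨e⟩⟩ := Groth.Agent.Lib.Helper16.SchLocus.exists_iso_yon_of_isRepresentable hrep
  intro Z hZ ζ
  obtain ⟨V, c, fst, sq⟩ := (representable_of_yon (e.hom ≫ m)) ζ
  have sqr : IsPullback e.hom (e.hom ≫ m) m (𝟙 ((yon S).obj T)) :=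
    IsPullback.of_horiz_isIso ⟨by simp⟩
  have sq' : IsPullback (fst ≫ e.hom) ((yon S).map c) m ζ := by
    have := sq.paste_horiz sqr
    rwa [Category.comp_id] at this
  have hF : IsAlgSpace F.obj := F.property
  have h1 : IsSeparated c.left :=
    (isSeparatedMor_yon_map_iff c).1
      (good_separated.bc hF (IsAlgSpace.yon_obj T) (IsAlgSpace.yon_obj V) (IsAlgSpace.yon_obj Z)
        m ζ ((yon S).map c) (fst ≫ e.hom) sq' hsep)
  have h2 : (@LocallyQuasiFinite ⊓ @LocallyOfFiniteType) c.left :=
    locP_yon_map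
      (good_locallyQuasiFinite.bc hF (IsAlgSpace.yon_obj T) (IsAlgSpace.yon_obj V) (IsAlgSpace.yon_obj Z)
        m ζ ((yon S).map c) (fst ≫ e.hom) sq' hlqf)
  haveI : IsAffine Z.left := hZ
  have h3 : CompactSpace ↥V.left :=
    Groth.Agent.Lib.Helper16.compactSpace_of_isQuasiCompactSp_yon V
      (hqc (IsAlgSpace.yon_obj Z) (Groth.Agent.Lib.Helper16.isQuasiCompactSp_yon_of_compactSpace Z)
        ζ (fst ≫ e.hom) ((yon S).map c) sq')
  haveI := h1
  haveI : LocallyQuasiFinite c.left := h2.1
  haveI : LocallyOfFiniteType c.left := h2.2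
  haveI := h3
  exact ⟨V, c, fst ≫ e.hom, sq', isQuasiAffine_of_lqf_sep c.left⟩

open Groth.Agent.Lib.Helper16.AlgStDC Groth.Agent.Lib.Helper28.AlgSt.DiagRep
open H10PT

/-- A Deligne–Mumford stack (etale atlas) has unramified diagonal over the base. -/
theorem isDMOver_of_etale_atlas {𝒳 : AlgSt.Cat S} (h1 : FibCat.IsFibGrpd 𝒳.p)
    (h2 : AlgSt.RepByAlgSp1 (FibCat.diag (FibCat.toSelf 𝒳)))
    (h3 : AlgSt.HasAtlas AlgSp.IsEtaleMor 𝒳) : AlgSt.IsDMOver 𝒳 := by
  obtain ⟨U, x, hxe, hxs⟩ := h3
  have key : ∀ (F : AlgSp.Space S) (V : Over S) (m : F.obj ⟶ (AlgSp.yon S).obj V),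
      AlgSp.IsEtaleMor m → AlgSp.LocP @Etale m :=
    fun F V m hm => (Groth.Agent.Lib.Helper16.isEtaleMor_iff_locP_etale (AlgSp.IsAlgSpace.yon_obj V) m).1 hm
  refine repByAlgSpWith_diag_toSelf_of_cover good_unramified unramified_diagonal h1 h2
    (repByAlgSp_overCat U) x ?_ ?_ hxs ?_
  · exact repByAlgSpWith_imp x (fun F V m hm U' V' a b h ha hb c => by
      haveI : Etale h.left := key F V m hm a b h ha hb c
      infer_instance) hxe
  · exact repByAlgSpWith_imp x (fun F V m hm U' V' a b h ha hb c => by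
      haveI : Etale h.left := key F V m hm a b h ha hb c
      infer_instance) hxe
  · exact repByAlgSpWith_imp x (fun F V m hm U' V' a b h ha hb c => by
      haveI : Etale h.left := key F V m hm a b h ha hb c
      exact ⟨inferInstance, inferInstance⟩) hxe

end H10PT.DMDiag
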