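import Mathlib

set_option backward.isDefEq.respectTransparency false
set_option backward.isDefEq.respectTransparency.types false
set_option autoImplicit false

universe w v u

open CategoryTheory CategoryTheory.Limits CategoryTheory.Pretriangulated

namespace H10Sib

open DerivedCategory

variable {A : Type u} [Category.{v} A] [Abelian A] [HasDerivedCategory.{w} A]

/-- the single complex -/
noncomputable abbrev sg (b : ℤ) (N : A) : CochainComplex A ℤ :=
  (HomologicalComplex.single A (ComplexShape.up ℤ) b).obj N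

/-- chain map from a single complex to a complex strictly `≤ b` -/
noncomputable def fromSg {K : CochainComplex A ℤ} (b : ℤ) [K.IsStrictlyLE b] {N : A}
    (p : N ⟶ K.X b) : sg b N ⟶ K :=
  HomologicalComplex.mkHomFromSingle p (fun k hk => by
    have hk' : b + 1 = k := hk
    exact (K.isZero_of_isStrictlyLE b k (by omega)).eq_of_tgt _ _)

lemma fromSg_f {K : CochainComplex A ℤ} (b : ℤ) [K.IsStrictlyLE b] {N : A}
    (p : N ⟶ K.X b) :
    (fromSg b p).f b = (HomologicalComplex.singleObjXSelf (ComplexShape.up ℤ) b N).hom ≫ p :=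
  HomologicalComplex.mkHomFromSingle_f _ _

lemma epi_homologyMap_fromSg {K : CochainComplex A ℤ} (b : ℤ) [K.IsStrictlyLE b] {N : A}
    (p : N ⟶ K.X b) [Epi p] : Epi (HomologicalComplex.homologyMap (fromSg b p) b) := by
  have hK : K.d b (b + 1) = 0 := (K.isZero_of_isStrictlyLE b (b + 1) (by omega)).eq_of_tgt _ _
  haveI : IsIso (K.iCycles b) := K.isIso_iCycles b (b + 1) (by simp) hK
  haveI : IsIso ((sg b N).iCycles b) := (sg b N).isIso_iCycles b (b + 1) (by simp) (by simp)
  have h1 : HomologicalComplex.cyclesMap (fromSg b p) b ≫ K.iCycles b =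
      (sg b N).iCycles b ≫ (fromSg b p).f b := HomologicalComplex.cyclesMap_i _ _
  haveI : Epi ((fromSg b p).f b) := by
    rw [fromSg_f]
    infer_instance
  haveI : Epi (HomologicalComplex.cyclesMap (fromSg b p) b) := by
    haveI : Epi (HomologicalComplex.cyclesMap (fromSg b p) b ≫ K.iCycles b) := by
      rw [h1]
      infer_instance
    have e : HomologicalComplex.cyclesMap (fromSg b p) b =
        (HomologicalComplex.cyclesMap (fromSg b p) b ≫ K.iCycles b) ≫ inv (K.iCycles b) := by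
      rw [Category.assoc, IsIso.hom_inv_id, Category.comp_id]
    rw [e]
    infer_instance
  have h2 : (sg b N).homologyπ b ≫ HomologicalComplex.homologyMap (fromSg b p) b =
      HomologicalComplex.cyclesMap (fromSg b p) b ≫ K.homologyπ b :=
    HomologicalComplex.homologyπ_naturality _ _
  haveI : Epi ((sg b N).homologyπ b ≫ HomologicalComplex.homologyMap (fromSg b p) b) := by
    rw [h2]
    infer_instance
  exact epi_of_epi ((sg b N).homologyπ b) _

lemma homologyFunctor_map_Q (b : ℤ) {K L : CochainComplex A ℤ} (j : K ⟶ L) :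
    (homologyFunctor A b).map (Q.map j) =
      (homologyFunctorFactors A b).hom.app K ≫ HomologicalComplex.homologyMap j b ≫
        (homologyFunctorFactors A b).inv.app L :=
  (NatIso.naturality_2 (homologyFunctorFactors A b) j).symm

/-- effaceability: covers by shifted objects killing a morphism to a lower object -/
lemma eff (neg : Prop)
    (hneg : ∀ M : A, ∃ (N : A) (p : N ⟶ M), Epi p ∧ (neg → ∀ f : M ⟶ N, f = 0))
    (b : ℤ) (X X' : DerivedCategory A) [X.IsLE b] [X'.IsLE (b - 1)] (ψ : X ⟶ X') (M₀ : A) :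
    ∃ (N : A) (s : (singleFunctor A b).obj N ⟶ X),
      Epi ((homologyFunctor A b).map s) ∧ s ≫ ψ = 0 ∧ (neg → ∀ f : M₀ ⟶ N, f = 0) := by
  obtain ⟨K, hK, ⟨e⟩⟩ := X.exists_iso_Q_obj_of_isLE b
  obtain ⟨L, hL, ⟨e'⟩⟩ := X'.exists_iso_Q_obj_of_isLE (b - 1)
  obtain ⟨K', hK', t, ht, g, hg⟩ := right_fac_of_isStrictlyLE (e.inv ≫ ψ ≫ e'.hom) b
  obtain ⟨N, p, hp, hN⟩ := hneg (K'.X b ⊞ M₀)
  haveI := hp
  haveI : Epi (p ≫ (biprod.fst : K'.X b ⊞ M₀ ⟶ K'.X b)) := epi_comp _ _
  obtain ⟨j, hj⟩ : ∃ j : sg b N ⟶ K', j = fromSg b (p ≫ biprod.fst) := ⟨_, rfl⟩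
  have hjepi : Epi (HomologicalComplex.homologyMap j b) := by
    rw [hj]
    exact epi_homologyMap_fromSg b _
  refine ⟨N, (Q.map j ≫ Q.map t ≫ e.inv : Q.obj (sg b N) ⟶ X), ?_, ?_, ?_⟩
  · haveI : Epi ((homologyFunctor A b).map (Q.map j)) := by
      rw [homologyFunctor_map_Q]
      infer_instance
    have e1 : (homologyFunctor A b).map (Q.map j ≫ Q.map t ≫ e.inv) =
        (homologyFunctor A b).map (Q.map j) ≫ (homologyFunctor A b).map (Q.map t) ≫
          (homologyFunctor A b).map e.inv := by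
      rw [Functor.map_comp, Functor.map_comp]
    rw [e1]
    infer_instance
  · have hψ : ψ = e.hom ≫ (inv (Q.map t) ≫ Q.map g) ≫ e'.inv := by
      rw [← hg]
      simp
    rw [hψ]
    have hjg : j ≫ g = 0 := by
      apply HomologicalComplex.from_single_hom_ext
      exact (L.isZero_of_isStrictlyLE (b - 1) b (by omega)).eq_of_tgt _ _
    calc (Q.map j ≫ Q.map t ≫ e.inv) ≫ e.hom ≫ (inv (Q.map t) ≫ Q.map g) ≫ e'.inv
        = Q.map j ≫ Q.map g ≫ e'.inv := by simp
      _ = Q.map (j ≫ g) ≫ e'.inv := by rw [Functor.map_comp, Category.assoc]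
      _ = 0 := by rw [hjg, Functor.map_zero, zero_comp]
  · intro hn f
    have h0 := hN hn ((biprod.snd : K'.X b ⊞ M₀ ⟶ M₀) ≫ f)
    have h1 : f = (biprod.inr : M₀ ⟶ K'.X b ⊞ M₀) ≫ biprod.snd ≫ f := by simp
    rw [h1, h0, comp_zero]

/-- a morphism from an object `≤ b` to a shifted object vanishes if it vanishes on `H^b` -/
lemma hom_single_eq_zero (b : ℤ) (X : DerivedCategory A) [X.IsLE b] (N : A)
    (hN : ∀ f : (homologyFunctor A b).obj X ⟶ N, f = 0)
    (k : X ⟶ (singleFunctor A b).obj N) : k = 0 := by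
  obtain ⟨K, hK, ⟨e⟩⟩ := X.exists_iso_Q_obj_of_isLE b
  obtain ⟨K', hK', t, ht, g, hg⟩ :=
    right_fac_of_isStrictlyLE (X := K) (Y := sg b N) (e.inv ≫ k) b
  suffices hg0 : g = 0 by
    have h0 : e.inv ≫ k = 0 := by rw [hg, hg0, Functor.map_zero, comp_zero]
    exact (cancel_epi e.inv).1 (h0.trans comp_zero.symm)
  apply HomologicalComplex.to_single_hom_ext
  have hd : K'.d b (b + 1) = 0 :=
    (K'.isZero_of_isStrictlyLE b (b + 1) (by omega)).eq_of_tgt _ _
  haveI : IsIso (K'.iCycles b) := K'.isIso_iCycles b (b + 1) (by simp) hd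
  have h1 : K'.toCycles (b - 1) b ≫ (K'.iCycles b ≫ g.f b) = 0 := by
    rw [← Category.assoc, K'.toCycles_i, ← g.comm]
    simp
  have hcok := K'.homologyIsCokernel (b - 1) b (by simp)
  obtain ⟨γ, hγ⟩ : ∃ γ : K'.homology b ⟶ (sg b N).X b,
      K'.homologyπ b ≫ γ = K'.iCycles b ≫ g.f b :=
    ⟨hcok.desc (CokernelCofork.ofπ _ h1), hcok.fac _ WalkingParallelPair.one⟩
  have hγ0 : γ = 0 := by
    obtain ⟨ι, -⟩ : ∃ ι : (homologyFunctor A b).obj X ≅ K'.homology b, True :=
      ⟨(homologyFunctor A b).mapIso (e ≪≫ (asIso (Q.map t)).symm) ≪≫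
        (homologyFunctorFactors A b).app K', trivial⟩
    have h0 := hN (ι.hom ≫ γ ≫ (HomologicalComplex.singleObjXSelf (ComplexShape.up ℤ) b N).hom)
    have h2 : γ = ι.inv ≫ (ι.hom ≫ γ ≫
        (HomologicalComplex.singleObjXSelf (ComplexShape.up ℤ) b N).hom) ≫
        (HomologicalComplex.singleObjXSelf (ComplexShape.up ℤ) b N).inv := by simp
    rw [h2, h0, zero_comp, comp_zero]
  rw [hγ0, comp_zero] at hγ
  rw [HomologicalComplex.zero_f]
  exact (cancel_epi (K'.iCycles b)).1 (hγ.symm.trans comp_zero.symm)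

lemma isLE_cone (b : ℤ) (T : Triangle (DerivedCategory A)) (hT : T ∈ distTriang _)
    [T.obj₁.IsLE b] [T.obj₂.IsLE b] (hepi : Epi ((homologyFunctor A b).map T.mor₁)) :
    T.obj₃.IsLE (b - 1) := by
  rw [isLE_iff]
  intro i hi
  have ex := HomologySequence.exact₃ T hT i (i + 1) rfl
  apply ex.isZero_of_both_zeros
  · by_cases h : i = b
    · subst h
      exact (HomologySequence.epi_homologyMap_mor₁_iff T hT i).1 hepi
    · exact (isZero_of_isLE T.obj₂ b i (by omega)).eq_of_src _ _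
  · exact (isZero_of_isLE T.obj₁ b (i + 1) (by omega)).eq_of_tgt _ _

lemma isGE_cone (a b : ℤ) (hab : a + 1 ≤ b) (T : Triangle (DerivedCategory A))
    (hT : T ∈ distTriang _) [T.obj₁.IsGE b] [T.obj₂.IsGE a] : T.obj₃.IsGE a := by
  rw [isGE_iff]
  intro i hi
  have ex := HomologySequence.exact₃ T hT i (i + 1) rfl
  apply ex.isZero_of_both_zeros
  · exact (isZero_of_isGE T.obj₂ a i hi).eq_of_src _ _
  · exact (isZero_of_isGE T.obj₁ b (i + 1) (by omega)).eq_of_tgt _ _

end H10Sib
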