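import Mathlib
import Groth.Prelude.Def_DeRham

/-!
# The de Rham differential on a quotient receptacle

* `H10DQ.ker_map_le`: the kernel of `⋀^p π` for a surjection `π` is spanned by the wedges having an
  entry in `ker π`.
* `H10DQ.exists_factor`: factoring a linear map through a surjection.
* `H10DQ.main`: the de Rham differential descends to a quotient of the Kähler differentials
  satisfying the kernel condition.
-/

set_option autoImplicit false
universe u v w

namespace H10DQ

open exteriorPower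

section general

variable {A : Type u} [CommRing A] {M : Type v} {N : Type w} [AddCommGroup M] [Module A M]
  [AddCommGroup N] [Module A N]

/-- The submodule of `⋀^p M` spanned by the wedges having an entry in `ker π`. -/
def KK (π : M →ₗ[A] N) (p : ℕ) : Submodule A (⋀[A]^p M) :=
  Submodule.span A (ιMulti A p '' {v : Fin p → M | ∃ i, π (v i) = 0})

theorem wedge_mem_KK (π : M →ₗ[A] N) (p : ℕ) (v : Fin p → M) (i : Fin p) (h : π (v i) = 0) :
    ιMulti A p v ∈ KK π p :=
  Submodule.subset_span ⟨v, ⟨i, h⟩, rfl⟩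

theorem congr_mod_KK (π : M →ₗ[A] N) (p : ℕ) (x y : Fin p → M) (h : ∀ i, π (x i) = π (y i)) :
    ιMulti A p x - ιMulti A p y ∈ KK π p := by
  have key : ∀ s : Finset (Fin p), ιMulti A p (s.piecewise x y) - ιMulti A p y ∈ KK π p := by
    intro s
    induction s using Finset.induction_on with
    | empty =>
      rw [Finset.piecewise_empty, sub_self]
      exact Submodule.zero_mem _
    | insert a s ha ih =>
      rw [Finset.piecewise_insert]
      have hz : (s.piecewise x y) a = y a := Finset.piecewise_eq_of_notMem _ _ _ ha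
      have e1 : ιMulti A p (Function.update (s.piecewise x y) a (x a)) -
          ιMulti A p (s.piecewise x y) =
          ιMulti A p (Function.update (s.piecewise x y) a (x a - y a)) := by
        rw [AlternatingMap.map_update_sub, ← hz, Function.update_eq_self]
      have h2 : ιMulti A p (Function.update (s.piecewise x y) a (x a - y a)) ∈ KK π p := by
        refine wedge_mem_KK π p _ a ?_
        rw [Function.update_self, map_sub, h a, sub_self]
      have e2 : ιMulti A p (Function.update (s.piecewise x y) a (x a)) - ιMulti A p y =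
          (ιMulti A p (Function.update (s.piecewise x y) a (x a)) -
            ιMulti A p (s.piecewise x y)) +
            (ιMulti A p (s.piecewise x y) - ιMulti A p y) := by abel
      rw [e2, e1]
      exact Submodule.add_mem _ h2 ih
  have h4 := key Finset.univ
  rwa [Finset.piecewise_univ] at h4

/-- A set-theoretic section of a surjection. -/
noncomputable def sec (π : M →ₗ[A] N) (hπ : Function.Surjective π) : N → M :=
  Function.surjInv hπ

theorem sec_spec (π : M →ₗ[A] N) (hπ : Function.Surjective π) (y : N) :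
    π (sec π hπ y) = y := Function.surjInv_eq hπ y

theorem mkQ_eq_of_congr (π : M →ₗ[A] N) (p : ℕ) (x y : Fin p → M)
    (h : ∀ i, π (x i) = π (y i)) :
    (KK π p).mkQ (ιMulti A p x) = (KK π p).mkQ (ιMulti A p y) := by
  rw [← sub_eq_zero, ← map_sub, Submodule.mkQ_apply, Submodule.Quotient.mk_eq_zero]
  exact congr_mod_KK π p x y h

theorem sec_update (π : M →ₗ[A] N) (hπ : Function.Surjective π) {p : ℕ}
    [DecidableEq (Fin p)] (y : Fin p → N)
    (i : Fin p) (c : N) :
    (fun j => sec π hπ (Function.update y i c j)) =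
      Function.update (fun j => sec π hπ (y j)) i (sec π hπ c) := by
  funext j
  exact Function.apply_update (fun _ z => sec π hπ z) y i c j

/-- The alternating map `Nᵖ → ⋀^p M / KK` given by lifting the entries. -/
noncomputable def backAlt (π : M →ₗ[A] N) (hπ : Function.Surjective π) (p : ℕ) :
    N [⋀^Fin p]→ₗ[A] (⋀[A]^p M ⧸ KK π p) where
  toFun y := (KK π p).mkQ (ιMulti A p (fun i => sec π hπ (y i)))
  map_update_add' := by
    intro _ y i a b
    have h1 : (KK π p).mkQ (ιMulti A p (fun j => sec π hπ (Function.update y i (a + b) j))) =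
        (KK π p).mkQ (ιMulti A p (Function.update (fun j => sec π hπ (y j)) i
          (sec π hπ a + sec π hπ b))) := by
      refine mkQ_eq_of_congr π p _ _ (fun j => ?_)
      by_cases hj : j = i
      · rw [hj, Function.update_self, Function.update_self, map_add, sec_spec, sec_spec,
          sec_spec]
      · rw [Function.update_of_ne hj, Function.update_of_ne hj]
    show (KK π p).mkQ (ιMulti A p (fun j => sec π hπ (Function.update y i (a + b) j))) =
      (KK π p).mkQ (ιMulti A p (fun j => sec π hπ (Function.update y i a j))) +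
      (KK π p).mkQ (ιMulti A p (fun j => sec π hπ (Function.update y i b j)))
    rw [h1, sec_update π hπ y i a, sec_update π hπ y i b, AlternatingMap.map_update_add,
      map_add]
  map_update_smul' := by
    intro _ y i c a
    have h1 : (KK π p).mkQ (ιMulti A p (fun j => sec π hπ (Function.update y i (c • a) j))) =
        (KK π p).mkQ (ιMulti A p (Function.update (fun j => sec π hπ (y j)) i
          (c • sec π hπ a))) := by
      refine mkQ_eq_of_congr π p _ _ (fun j => ?_)
      by_cases hj : j = i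
      · rw [hj, Function.update_self, Function.update_self, map_smul, sec_spec, sec_spec]
      · rw [Function.update_of_ne hj, Function.update_of_ne hj]
    show (KK π p).mkQ (ιMulti A p (fun j => sec π hπ (Function.update y i (c • a) j))) =
      c • (KK π p).mkQ (ιMulti A p (fun j => sec π hπ (Function.update y i a j)))
    rw [h1, sec_update π hπ y i a, AlternatingMap.map_update_smul, map_smul]
  map_eq_zero_of_eq' := by
    intro y i j h hij
    show (KK π p).mkQ (ιMulti A p (fun k => sec π hπ (y k))) = 0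
    rw [(ιMulti A p).map_eq_zero_of_eq _ (by show sec π hπ (y i) = sec π hπ (y j); rw [h]) hij,
      map_zero]

/-- The linear map `⋀^p N → ⋀^p M / KK`. -/
noncomputable def back (π : M →ₗ[A] N) (hπ : Function.Surjective π) (p : ℕ) :
    ⋀[A]^p N →ₗ[A] (⋀[A]^p M ⧸ KK π p) :=
  alternatingMapLinearEquiv (backAlt π hπ p)

theorem back_comp (π : M →ₗ[A] N) (hπ : Function.Surjective π) (p : ℕ) :
    (back π hπ p) ∘ₗ (exteriorPower.map p π) = (KK π p).mkQ := by
  apply exteriorPower.linearMap_ext
  refine AlternatingMap.ext (fun x => ?_)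
  show back π hπ p (exteriorPower.map p π (ιMulti A p x)) = (KK π p).mkQ (ιMulti A p x)
  rw [exteriorPower.map_apply_ιMulti, back, alternatingMapLinearEquiv_apply_ιMulti]
  show (KK π p).mkQ (ιMulti A p (fun i => sec π hπ ((⇑π ∘ x) i))) = _
  refine mkQ_eq_of_congr π p _ _ (fun i => ?_)
  rw [sec_spec, Function.comp_apply]

theorem ker_map_le (π : M →ₗ[A] N) (hπ : Function.Surjective π) (p : ℕ) :
    LinearMap.ker (exteriorPower.map p π) ≤ KK π p := by
  intro z hz
  have h1 : (KK π p).mkQ z = back π hπ p (exteriorPower.map p π z) := by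
    rw [← back_comp π hπ p]
    rfl
  rw [LinearMap.mem_ker.mp hz, map_zero, Submodule.mkQ_apply,
    Submodule.Quotient.mk_eq_zero] at h1
  exact h1

/-- Inserting a vector in the first slot of a wedge. -/
noncomputable def consLin (q : ℕ) (w : Fin q → M) : M →ₗ[A] ⋀[A]^(q + 1) M :=
  (ιMulti A (q + 1)).toMultilinearMap.toLinearMap (Fin.cons 0 w) 0

theorem consLin_apply (q : ℕ) (w : Fin q → M) (x : M) :
    consLin q w x = ιMulti A (q + 1) (Fin.cons x w : Fin (q + 1) → M) := by
  show (ιMulti A (q + 1)).toMultilinearMap.toLinearMap (Fin.cons 0 w) 0 x = _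
  rw [MultilinearMap.toLinearMap_apply, Fin.update_cons_zero]
  rfl

/-- Inserting a fixed vector in the first slot, as a linear map of the remaining wedge. -/
noncomputable def Theta (q : ℕ) (ω : M) : ⋀[A]^q M →ₗ[A] ⋀[A]^(q + 1) M :=
  alternatingMapLinearEquiv ((ιMulti A (q + 1)).curryLeft ω)

theorem Theta_ιMulti (q : ℕ) (ω : M) (v : Fin q → M) :
    Theta q ω (ιMulti A q v) = ιMulti A (q + 1) (Fin.cons ω v : Fin (q + 1) → M) := by
  rw [Theta, alternatingMapLinearEquiv_apply_ιMulti]
  rfl

theorem coe_ιMulti_succ (n : ℕ) (v : Fin (n + 1) → N) :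
    ((ιMulti A (n + 1) v : ⋀[A]^(n + 1) N) : ExteriorAlgebra A N) =
      ExteriorAlgebra.ι A (v 0) *
        ((ιMulti A n (Matrix.vecTail v) : ⋀[A]^n N) : ExteriorAlgebra A N) := by
  rw [ιMulti_apply_coe, ιMulti_apply_coe, ExteriorAlgebra.ιMulti_succ_apply]

theorem coe_map_cons (π : M →ₗ[A] N) (n : ℕ) (x : M) (v : Fin n → M) :
    ((exteriorPower.map (n + 1) π (ιMulti A (n + 1) (Fin.cons x v : Fin (n + 1) → M)) :
      ⋀[A]^(n + 1) N) : ExteriorAlgebra A N) =
      ExteriorAlgebra.ι A (π x) *
        ((exteriorPower.map n π (ιMulti A n v) : ⋀[A]^n N) : ExteriorAlgebra A N) := by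
  rw [exteriorPower.map_apply_ιMulti, exteriorPower.map_apply_ιMulti, coe_ιMulti_succ]
  have e1 : (⇑π ∘ (Fin.cons x v : Fin (n + 1) → M)) 0 = π x := by
    rw [Function.comp_apply, Fin.cons_zero]
  have e2 : Matrix.vecTail (⇑π ∘ (Fin.cons x v : Fin (n + 1) → M)) = ⇑π ∘ v := by
    funext i
    show π ((Fin.cons x v : Fin (n + 1) → M) i.succ) = π (v i)
    rw [Fin.cons_succ]
  rw [e1, e2]

theorem coe_map_one (π : M →ₗ[A] N) (v : Fin 1 → M) :
    ((exteriorPower.map 1 π (ιMulti A 1 v) : ⋀[A]^1 N) : ExteriorAlgebra A N) =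
      ExteriorAlgebra.ι A (π (v 0)) := by
  rw [exteriorPower.map_apply_ιMulti, ιMulti_apply_coe, ExteriorAlgebra.ιMulti_succ_apply,
    ExteriorAlgebra.ιMulti_zero_apply, mul_one, Function.comp_apply]

theorem exists_factor {R : Type*} [CommRing R] {X Y Z : Type*} [AddCommGroup X]
    [AddCommGroup Y] [AddCommGroup Z] [Module R X] [Module R Y] [Module R Z]
    (E : X →ₗ[R] Y) (hE : Function.Surjective E) (φ : X →ₗ[R] Z)
    (h : ∀ x, E x = 0 → φ x = 0) : ∃ d : Y →ₗ[R] Z, ∀ x, d (E x) = φ x := by
  have hle : LinearMap.ker E ≤ LinearMap.ker φ := fun x hx =>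
    LinearMap.mem_ker.mpr (h x (LinearMap.mem_ker.mp hx))
  refine ⟨(LinearMap.ker E).liftQ φ hle ∘ₗ (E.quotKerEquivOfSurjective hE).symm.toLinearMap,
    fun x => ?_⟩
  show (LinearMap.ker E).liftQ φ hle ((E.quotKerEquivOfSurjective hE).symm (E x)) = φ x
  rw [LinearMap.quotKerEquivOfSurjective_symm_apply, Submodule.liftQ_apply]

end general

section main

variable {R A Ω' : Type u} [CommRing R] [CommRing A] [Algebra R A]
  [AddCommGroup Ω'] [Module A Ω'] [Module R Ω'] [IsScalarTower R A Ω']
  (π : Ω[A⁄R] →ₗ[A] Ω')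
  (dA : ∀ p : ℕ, ↥(⋀[A]^p (Ω[A⁄R])) →ₗ[R] ↥(⋀[A]^(p + 1) (Ω[A⁄R])))
  (hd : DeRham.IsRule (KaehlerDifferential.D R A) dA)

include hd in
theorem star (q : ℕ) (b : Fin q → A) (w : Fin q → Ω[A⁄R])
    (hw : ∀ i, w i = KaehlerDifferential.D R A (b i)) (c : A) (η : Ω[A⁄R]) :
    ((exteriorPower.map (q + 1 + 1) π (dA (q + 1) (c • consLin q w η)) :
      ⋀[A]^(q + 1 + 1) Ω') : ExteriorAlgebra A Ω') =
    c • (((exteriorPower.map (1 + 1) π (dA 1 ((oneEquiv A (Ω[A⁄R])).symm η)) :
        ⋀[A]^(1 + 1) Ω') : ExteriorAlgebra A Ω') *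
        ((exteriorPower.map q π (ιMulti A q w) : ⋀[A]^q Ω') : ExteriorAlgebra A Ω')) +
      ExteriorAlgebra.ι A (π (KaehlerDifferential.D R A c)) * (ExteriorAlgebra.ι A (π η) *
        ((exteriorPower.map q π (ιMulti A q w) : ⋀[A]^q Ω') : ExteriorAlgebra A Ω')) := by
  have hη : η ∈ Submodule.span A (Set.range (KaehlerDifferential.D R A)) := by
    rw [KaehlerDifferential.span_range_derivation]
    exact Submodule.mem_top
  induction hη using Submodule.closure_induction with
  | zero =>
    simp only [map_zero, smul_zero, ZeroMemClass.coe_zero, zero_mul, mul_zero, add_zero]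
  | add x y _ _ hx hy =>
    simp only [map_add, smul_add, Submodule.coe_add, add_mul, mul_add]
    rw [hx, hy]
    abel
  | smul_mem a x hx =>
    obtain ⟨b', rfl⟩ := hx
    have e0 : (fun i => KaehlerDifferential.D R A ((Fin.cons b' b : Fin (q + 1) → A) i)) =
        (Fin.cons (KaehlerDifferential.D R A b') w : Fin (q + 1) → Ω[A⁄R]) := by
      funext i
      refine Fin.cases ?_ (fun j => ?_) i
      · rw [Fin.cons_zero, Fin.cons_zero]
      · rw [Fin.cons_succ, Fin.cons_succ, hw j]
    have h1 : c • consLin q w (a • KaehlerDifferential.D R A b') =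
        DeRham.gen (KaehlerDifferential.D R A) (q + 1) (c * a) (Fin.cons b' b) := by
      rw [map_smul, consLin_apply, smul_smul]
      show _ = (c * a) • ιMulti A (q + 1)
        (fun i => KaehlerDifferential.D R A ((Fin.cons b' b : Fin (q + 1) → A) i))
      rw [e0]
    have h2 : (oneEquiv A (Ω[A⁄R])).symm (a • KaehlerDifferential.D R A b') =
        DeRham.gen (KaehlerDifferential.D R A) 1 a (fun _ => b') := by
      rw [map_smul, oneEquiv_symm_apply]
      rfl
    rw [h1, hd (q + 1) (c * a) (Fin.cons b' b), e0, h2, hd 1 a (fun _ => b'),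
      coe_map_cons, coe_map_cons, coe_map_cons, coe_map_one]
    simp only [Derivation.leibniz, map_add, map_smul, add_mul, smul_mul_assoc, mul_smul_comm,
      mul_assoc]

include hd in
theorem claim2 (q : ℕ) (b : Fin q → A) (w : Fin q → Ω[A⁄R])
    (hw : ∀ i, w i = KaehlerDifferential.D R A (b i)) (c : A) (ω : Ω[A⁄R]) (h1 : π ω = 0)
    (h2 : exteriorPower.map (1 + 1) π (dA 1 ((oneEquiv A (Ω[A⁄R])).symm ω)) = 0) :
    exteriorPower.map (q + 1 + 1) π (dA (q + 1) (c • consLin q w ω)) = 0 := by
  apply Subtype.ext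
  rw [star π dA hd q b w hw c ω, h2, h1]
  simp only [ZeroMemClass.coe_zero, map_zero, zero_mul, mul_zero, smul_zero, add_zero]

include hd in
theorem claim2' (hker : LinearMap.ker π ≤ Submodule.span A {ω : Ω[A⁄R] | π ω = 0 ∧
      exteriorPower.map 2 π (dA 1 ((exteriorPower.oneEquiv A (Ω[A⁄R])).symm ω)) = 0})
    (q : ℕ) (b : Fin q → A) (w : Fin q → Ω[A⁄R])
    (hw : ∀ i, w i = KaehlerDifferential.D R A (b i)) (ω : Ω[A⁄R]) (hω : π ω = 0) :
    ∀ c : A, exteriorPower.map (q + 1 + 1) π (dA (q + 1) (c • consLin q w ω)) = 0 := by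
  have h0 : ω ∈ Submodule.span A {ω : Ω[A⁄R] | π ω = 0 ∧
      exteriorPower.map 2 π (dA 1 ((exteriorPower.oneEquiv A (Ω[A⁄R])).symm ω)) = 0} :=
    hker (LinearMap.mem_ker.mpr hω)
  clear hω
  induction h0 using Submodule.span_induction with
  | mem x hx =>
    intro c
    exact claim2 π dA hd q b w hw c x hx.1 hx.2
  | zero =>
    intro c
    rw [map_zero, smul_zero, map_zero, map_zero]
  | add x y _ _ hx hy =>
    intro c
    rw [map_add, smul_add, map_add, map_add, hx c, hy c, add_zero]
  | smul f x _ hx =>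
    intro c
    have e : c • consLin (A := A) q w (f • x) = (c * f) • consLin (A := A) q w x := by
      rw [(consLin (A := A) q w).map_smul, smul_smul]
    rw [e]
    exact hx (c * f)

include hd in
theorem claim1' (hker : LinearMap.ker π ≤ Submodule.span A {ω : Ω[A⁄R] | π ω = 0 ∧
      exteriorPower.map 2 π (dA 1 ((exteriorPower.oneEquiv A (Ω[A⁄R])).symm ω)) = 0})
    (q : ℕ) (ω : Ω[A⁄R]) (hω : π ω = 0) (z : ⋀[A]^q (Ω[A⁄R])) :
    exteriorPower.map (q + 1 + 1) π (dA (q + 1) (Theta q ω z)) = 0 := by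
  have hz : z ∈ Submodule.span A (ιMulti A q '' {a : Fin q → Ω[A⁄R] |
      Set.range a ⊆ Set.range (KaehlerDifferential.D R A)}) := by
    rw [exteriorPower.ιMulti_span_of_span A q (Ω[A⁄R])
      (KaehlerDifferential.span_range_derivation R A)]
    exact Submodule.mem_top
  induction hz using Submodule.closure_induction with
  | zero => rw [map_zero, map_zero, map_zero]
  | add x y _ _ hx hy => rw [map_add, map_add, map_add, hx, hy, add_zero]
  | smul_mem c x hx =>
    obtain ⟨v, hv, rfl⟩ := hx
    have hb : ∀ i, ∃ b : A, v i = KaehlerDifferential.D R A b := fun i => by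
      obtain ⟨b, hb⟩ := hv ⟨i, rfl⟩
      exact ⟨b, hb.symm⟩
    choose b hb using hb
    rw [map_smul, Theta_ιMulti, ← consLin_apply]
    exact claim2' π dA hd hker q b v hb ω hω c

include hd in
theorem claim1_zero (hker : LinearMap.ker π ≤ Submodule.span A {ω : Ω[A⁄R] | π ω = 0 ∧
      exteriorPower.map 2 π (dA 1 ((exteriorPower.oneEquiv A (Ω[A⁄R])).symm ω)) = 0})
    (q : ℕ) (v : Fin (q + 1) → Ω[A⁄R]) (hv : π (v 0) = 0) (a : A) :
    exteriorPower.map (q + 1 + 1) π (dA (q + 1) (a • ιMulti A (q + 1) v)) = 0 := by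
  have e : a • ιMulti A (q + 1) v = Theta q (v 0) (a • ιMulti A q (Fin.tail v)) := by
    rw [map_smul, Theta_ιMulti, Fin.cons_self_tail]
  rw [e]
  exact claim1' π dA hd hker q (v 0) hv _

include hd in
theorem claim1 (hker : LinearMap.ker π ≤ Submodule.span A {ω : Ω[A⁄R] | π ω = 0 ∧
      exteriorPower.map 2 π (dA 1 ((exteriorPower.oneEquiv A (Ω[A⁄R])).symm ω)) = 0})
    (q : ℕ) (v : Fin (q + 1) → Ω[A⁄R]) (i₀ : Fin (q + 1)) (hv : π (v i₀) = 0) (a : A) :
    exteriorPower.map (q + 1 + 1) π (dA (q + 1) (a • ιMulti A (q + 1) v)) = 0 := by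
  by_cases h : i₀ = 0
  · rw [h] at hv
    exact claim1_zero π dA hd hker q v hv a
  · have h1 : ιMulti A (q + 1) (v ∘ Equiv.swap i₀ 0) = -ιMulti A (q + 1) v :=
      AlternatingMap.map_swap _ v h
    have h2 : a • ιMulti A (q + 1) v = -(a • ιMulti A (q + 1) (v ∘ Equiv.swap i₀ 0)) := by
      rw [h1, smul_neg, neg_neg]
    have h3 : π ((v ∘ Equiv.swap i₀ 0) 0) = 0 := by
      rw [Function.comp_apply, Equiv.swap_apply_right]
      exact hv
    rw [h2, map_neg, map_neg, claim1_zero π dA hd hker q _ h3 a, neg_zero]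

include hd in
theorem killK (hker : LinearMap.ker π ≤ Submodule.span A {ω : Ω[A⁄R] | π ω = 0 ∧
      exteriorPower.map 2 π (dA 1 ((exteriorPower.oneEquiv A (Ω[A⁄R])).symm ω)) = 0})
    (p : ℕ) (z : ⋀[A]^p (Ω[A⁄R])) (hz : z ∈ KK π p) :
    exteriorPower.map (p + 1) π (dA p z) = 0 := by
  induction hz using Submodule.closure_induction with
  | zero => rw [map_zero, map_zero]
  | add x y _ _ hx hy => rw [map_add, map_add, hx, hy, add_zero]
  | smul_mem a x hx =>
    obtain ⟨v, ⟨i, hi⟩, rfl⟩ := hx
    cases p with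
    | zero => exact i.elim0
    | succ q => exact claim1 π dA hd hker q v i hi a

theorem main (hπ : Function.Surjective π)
    (hdA : DeRham.IsDiff (KaehlerDifferential.D R A) dA)
    (hker : LinearMap.ker π ≤ Submodule.span A {ω : Ω[A⁄R] | π ω = 0 ∧
      exteriorPower.map 2 π (dA 1 ((exteriorPower.oneEquiv A (Ω[A⁄R])).symm ω)) = 0}) :
    ∃ d : ∀ p : ℕ, ↥(⋀[A]^p Ω') →ₗ[R] ↥(⋀[A]^(p + 1) Ω'),
      DeRham.IsDiff (π.compDer (KaehlerDifferential.D R A)) d ∧
        ∀ (p : ℕ) (x : ↥(⋀[A]^p (Ω[A⁄R]))),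
          d p (exteriorPower.map p π x) = exteriorPower.map (p + 1) π (dA p x) := by
  have hex : ∀ p : ℕ, ∃ d : ↥(⋀[A]^p Ω') →ₗ[R] ↥(⋀[A]^(p + 1) Ω'),
      ∀ x, d (((exteriorPower.map p π).restrictScalars R) x) =
        (((exteriorPower.map (p + 1) π).restrictScalars R) ∘ₗ dA p) x := by
    intro p
    refine exists_factor ((exteriorPower.map p π).restrictScalars R)
      (exteriorPower.map_surjective (n := p) hπ)
      (((exteriorPower.map (p + 1) π).restrictScalars R) ∘ₗ dA p) (fun x hx => ?_)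
    exact killK π dA hdA.1 hker p x (ker_map_le π hπ p (LinearMap.mem_ker.mpr hx))
  choose d hdd using hex
  have hc : ∀ (p : ℕ) (x : ↥(⋀[A]^p (Ω[A⁄R]))),
      d p (exteriorPower.map p π x) = exteriorPower.map (p + 1) π (dA p x) :=
    fun p x => hdd p x
  refine ⟨d, ⟨?_, ?_⟩, hc⟩
  · intro p b₀ b
    have e : DeRham.gen (π.compDer (KaehlerDifferential.D R A)) p b₀ b =
        exteriorPower.map p π (DeRham.gen (KaehlerDifferential.D R A) p b₀ b) := by
      rw [DeRham.gen, DeRham.gen, map_smul, exteriorPower.map_apply_ιMulti]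
      rfl
    rw [e, hc, hdA.1 p b₀ b, exteriorPower.map_apply_ιMulti]
    congr 1
    funext i
    refine Fin.cases ?_ (fun j => ?_) i
    · rw [Function.comp_apply, Fin.cons_zero, Fin.cons_zero]
      rfl
    · rw [Function.comp_apply, Fin.cons_succ, Fin.cons_succ]
      rfl
  · intro p
    apply LinearMap.ext
    intro y
    obtain ⟨x, rfl⟩ := exteriorPower.map_surjective (n := p) hπ y
    show d (p + 1) (d p (exteriorPower.map p π x)) = 0
    rw [hc, hc]
    have h0 : dA (p + 1) (dA p x) = 0 := LinearMap.congr_fun (hdA.2 p) x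
    rw [h0, map_zero]

end main

end H10DQ
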