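import Mathlib
import Groth.Prelude.Def_AlgSp3
import Groth.Prelude.Def_AlgSpRep
import Groth.Prelude.Def_Desc
import Groth.Agent.Lib.Helper16.FibreProduct
import Groth.Agent.Lib.Helper16.LocSurj
import Groth.Agent.Lib.Helper15.ToposQuot
import Groth.Agent.Lib.Helper28.EffDesc.Basic

/-!
# Helper library (helper10): epimorphisms of fppf sheaves with the same kernel relation

* `exists_desc_rep`: descent of a morphism along an epimorphism of sheaves, the compatibility being
  tested on representable points only.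
* `exists_iso_of_epi_epi`: two epimorphisms out of the same sheaf with the same kernel relation (on
  representable points) have isomorphic targets.
* `epi_fst_of_isPullback`, `epi_yon_map_of_fppf`.
-/

set_option autoImplicit false
universe u
open CategoryTheory CategoryTheory.Limits AlgebraicGeometry Opposite

namespace H10PT.Desc

open AlgSp Groth.Agent.Lib.Helper16 Groth.Agent.Lib.Helper15

variable {S : Scheme.{u}}

theorem exists_desc_rep {U M F : Sp S} (q : U ⟶ M) [Epi q] (φ : U ⟶ F)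
    (hφ : ∀ (T : Over S) (a b : (yon S).obj T ⟶ U), a ≫ q = b ≫ q → a ≫ φ = b ≫ φ) :
    ∃ ψ : M ⟶ F, q ≫ ψ = φ := by
  haveI : IsRegularEpi q := IsRegularEpiCategory.regularEpiOfEpi q
  haveI : EffectiveEpi q := inferInstance
  refine ⟨EffectiveEpi.desc q φ (fun {Z} g₁ g₂ h => ?_), EffectiveEpi.fac _ _ _⟩
  apply sp_hom_ext
  intro T z
  rw [← Category.assoc, ← Category.assoc]
  exact hφ T (z ≫ g₁) (z ≫ g₂) (by rw [Category.assoc, Category.assoc, h])

theorem exists_iso_of_epi_epi {A B B' : Sp S} (a : A ⟶ B) (a' : A ⟶ B') [Epi a] [Epi a']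
    (h : ∀ (T : Over S) (x y : (yon S).obj T ⟶ A), x ≫ a = y ≫ a ↔ x ≫ a' = y ≫ a') :
    ∃ e : B ≅ B', a ≫ e.hom = a' := by
  obtain ⟨ψ, hψ⟩ := exists_desc_rep a a' (fun T x y hxy => (h T x y).1 hxy)
  obtain ⟨ψ', hψ'⟩ := exists_desc_rep a' a (fun T x y hxy => (h T x y).2 hxy)
  refine ⟨⟨ψ, ψ', ?_, ?_⟩, hψ⟩
  · rw [← cancel_epi a, ← Category.assoc, hψ, hψ', Category.comp_id]
  · rw [← cancel_epi a', ← Category.assoc, hψ', hψ, Category.comp_id]

theorem epi_fst_of_isPullback {P X Y Z : Sp S} {fst : P ⟶ X} {snd : P ⟶ Y} {f : X ⟶ Z} {g : Y ⟶ Z}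
    (sq : IsPullback fst snd f g) (hg : Epi g) : Epi fst := by
  rw [epi_iff_locally_lift] at hg ⊢
  intro T y
  obtain ⟨R, hR, hlift⟩ := hg T (y ≫ f)
  refine ⟨R, hR, fun T' k hk => ?_⟩
  obtain ⟨z, hz⟩ := hlift k hk
  refine ⟨sq.lift ((yon S).map k ≫ y) z ?_, sq.lift_fst _ _ _⟩
  rw [hz, Category.assoc]

theorem epi_yon_map_of_fppf {V W : Over S} (q : V ⟶ W) (h1 : Flat q.left)
    (h2 : LocallyOfFinitePresentation q.left) (h3 : Surjective q.left) : Epi ((yon S).map q) := by
  haveI := isLocallySurjective_of_repWith_fppf ((yon S).map q) ((repWith_yon_map_iff _ _).2 h1)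
    ((repWith_yon_map_iff _ _).2 h2) ((repWith_yon_map_iff _ _).2 h3)
  infer_instance

end H10PT.Desc
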