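import Groth.Agent.Lib.Helper10.DescA

/-!
# Helper library (helper10): the descent datum attached to a sheaf over `h_T` which becomes
representable over a cover `T' ⟶ T`

Given `f : G ⟶ h_T`, `p : T' ⟶ T`, `g : V' ⟶ T'` and a cartesian square exhibiting `h_{V'}` as
`G ×_{h_T} h_{T'}`, the scheme `V'` over `T'` carries a canonical descent datum relative to `p`
(`sheafDD`).
-/

set_option autoImplicit false
set_option backward.isDefEq.respectTransparency false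
set_option backward.isDefEq.respectTransparency.types false
universe u
open CategoryTheory CategoryTheory.Limits AlgebraicGeometry Opposite

namespace H10PT.Desc

open AlgSp Groth.Agent.Lib.Helper16 Groth.Agent.Lib.Helper15

variable {S : Scheme.{u}} {T T' V' : Over S} {G : Sp S} (f : G ⟶ (yon S).obj T) (p : T' ⟶ T)
  (g : V' ⟶ T') (fst : (yon S).obj V' ⟶ G)
  (sq : IsPullback fst ((yon S).map g) f ((yon S).map p))

include sq in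
theorem tr_cond {T₀ : Over S} (x₁ : T₀ ⟶ T') (v : T₀ ⟶ V') (h : (v ≫ g) ≫ p = x₁ ≫ p) :
    ((yon S).map v ≫ fst) ≫ f = (yon S).map x₁ ≫ (yon S).map p := by
  calc ((yon S).map v ≫ fst) ≫ f = (yon S).map v ≫ (yon S).map g ≫ (yon S).map p := by
        rw [Category.assoc, sq.w]
    _ = (yon S).map ((v ≫ g) ≫ p) := by rw [Functor.map_comp, Functor.map_comp, Category.assoc]
    _ = _ := by rw [h, Functor.map_comp]

/-- transport of a point of `V'` to a point over another point of `T'` with the same image in `T` -/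
noncomputable def tr {T₀ : Over S} (x₁ : T₀ ⟶ T') (v : T₀ ⟶ V') (h : (v ≫ g) ≫ p = x₁ ≫ p) :
    T₀ ⟶ V' :=
  (yon S).preimage (sq.lift ((yon S).map v ≫ fst) ((yon S).map x₁) (tr_cond f p g fst sq x₁ v h))

theorem tr_g {T₀ : Over S} (x₁ : T₀ ⟶ T') (v : T₀ ⟶ V') (h : (v ≫ g) ≫ p = x₁ ≫ p) :
    tr f p g fst sq x₁ v h ≫ g = x₁ := by
  apply (yon S).map_injective
  rw [Functor.map_comp, tr, Functor.map_preimage, sq.lift_snd]

theorem tr_fst {T₀ : Over S} (x₁ : T₀ ⟶ T') (v : T₀ ⟶ V') (h : (v ≫ g) ≫ p = x₁ ≫ p) :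
    (yon S).map (tr f p g fst sq x₁ v h) ≫ fst = (yon S).map v ≫ fst := by
  rw [tr, Functor.map_preimage, sq.lift_fst]

theorem tr_unique {T₀ : Over S} (x₁ : T₀ ⟶ T') (v : T₀ ⟶ V') (h : (v ≫ g) ≫ p = x₁ ≫ p)
    {m : T₀ ⟶ V'} (hm1 : m ≫ g = x₁) (hm2 : (yon S).map m ≫ fst = (yon S).map v ≫ fst) :
    m = tr f p g fst sq x₁ v h := by
  apply (yon S).map_injective
  apply sq.hom_ext
  · rw [hm2, tr_fst]
  · rw [← Functor.map_comp, hm1, ← Functor.map_comp, tr_g]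

/-- the scheme-level transport -/
noncomputable def trS {T₀ : Scheme.{u}} (s : T₀ ⟶ S) (x₁ : T₀ ⟶ T'.left) (v : T₀ ⟶ V'.left)
    (hvs : v ≫ V'.hom = s) (h₁ : x₁ ≫ T'.hom = s) (h : (v ≫ g.left) ≫ p.left = x₁ ≫ p.left) :
    T₀ ⟶ V'.left :=
  (tr f p g fst sq (T₀ := Over.mk s) (Over.homMk x₁ h₁) (Over.homMk v hvs)
    (Over.OverMorphism.ext h)).left

theorem trS_g {T₀ : Scheme.{u}} (s : T₀ ⟶ S) (x₁ : T₀ ⟶ T'.left) (v : T₀ ⟶ V'.left)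
    (hvs : v ≫ V'.hom = s) (h₁ : x₁ ≫ T'.hom = s) (h : (v ≫ g.left) ≫ p.left = x₁ ≫ p.left) :
    trS f p g fst sq s x₁ v hvs h₁ h ≫ g.left = x₁ :=
  congrArg CommaMorphism.left (tr_g f p g fst sq (T₀ := Over.mk s) (Over.homMk x₁ h₁)
    (Over.homMk v hvs) (Over.OverMorphism.ext h))

theorem trS_congr_s {T₀ : Scheme.{u}} (s s' : T₀ ⟶ S) (e : s = s') (x₁ : T₀ ⟶ T'.left)
    (v : T₀ ⟶ V'.left) (hvs : v ≫ V'.hom = s) (h₁ : x₁ ≫ T'.hom = s)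
    (h : (v ≫ g.left) ≫ p.left = x₁ ≫ p.left) :
    trS f p g fst sq s x₁ v hvs h₁ h = trS f p g fst sq s' x₁ v (hvs.trans e) (h₁.trans e) h := by
  subst e
  rfl

theorem trS_congr {T₀ : Scheme.{u}} (s : T₀ ⟶ S) (x₁ x₁' : T₀ ⟶ T'.left) (v v' : T₀ ⟶ V'.left)
    (ex : x₁ = x₁') (ev : v = v')
    (hvs : v ≫ V'.hom = s) (h₁ : x₁ ≫ T'.hom = s) (h : (v ≫ g.left) ≫ p.left = x₁ ≫ p.left)
    (hvs' : v' ≫ V'.hom = s) (h₁' : x₁' ≫ T'.hom = s)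
    (h' : (v' ≫ g.left) ≫ p.left = x₁' ≫ p.left) :
    trS f p g fst sq s x₁ v hvs h₁ h = trS f p g fst sq s x₁' v' hvs' h₁' h' := by
  subst ex ev
  rfl

theorem trS_eq_tr {T₀ : Over S} (x₁ : T₀ ⟶ T') (v : T₀ ⟶ V') (h : (v ≫ g) ≫ p = x₁ ≫ p) :
    trS f p g fst sq T₀.hom x₁.left v.left (Over.w v) (Over.w x₁) (congrArg CommaMorphism.left h) =
      (tr f p g fst sq x₁ v h).left := rfl

theorem trS_unique {T₀ : Scheme.{u}} (s : T₀ ⟶ S) (x₁ : T₀ ⟶ T'.left) (v : T₀ ⟶ V'.left)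
    (hvs : v ≫ V'.hom = s) (h₁ : x₁ ≫ T'.hom = s) (h : (v ≫ g.left) ≫ p.left = x₁ ≫ p.left)
    (m : Over.mk s ⟶ V') (hm1 : m.left ≫ g.left = x₁)
    (hm2 : (yon S).map m ≫ fst = (yon S).map (Over.homMk v hvs : Over.mk s ⟶ V') ≫ fst) :
    m.left = trS f p g fst sq s x₁ v hvs h₁ h :=
  congrArg CommaMorphism.left (tr_unique f p g fst sq (T₀ := Over.mk s) (Over.homMk x₁ h₁)
    (Over.homMk v hvs) (Over.OverMorphism.ext h) (m := m) (Over.OverMorphism.ext hm1) hm2)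

theorem trS_self {T₀ : Scheme.{u}} (s : T₀ ⟶ S) (x₁ : T₀ ⟶ T'.left) (v : T₀ ⟶ V'.left)
    (hvs : v ≫ V'.hom = s) (h₁ : x₁ ≫ T'.hom = s) (h : (v ≫ g.left) ≫ p.left = x₁ ≫ p.left)
    (hx : v ≫ g.left = x₁) : trS f p g fst sq s x₁ v hvs h₁ h = v :=
  (trS_unique f p g fst sq s x₁ v hvs h₁ h (Over.homMk v hvs) hx rfl).symm

theorem trS_fst {T₀ : Scheme.{u}} (s : T₀ ⟶ S) (x₁ : T₀ ⟶ T'.left) (v : T₀ ⟶ V'.left)
    (hvs : v ≫ V'.hom = s) (h₁ : x₁ ≫ T'.hom = s) (h : (v ≫ g.left) ≫ p.left = x₁ ≫ p.left)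
    (hvs' : trS f p g fst sq s x₁ v hvs h₁ h ≫ V'.hom = s) :
    (yon S).map (Over.homMk (trS f p g fst sq s x₁ v hvs h₁ h) hvs' : Over.mk s ⟶ V') ≫ fst =
      (yon S).map (Over.homMk v hvs : Over.mk s ⟶ V') ≫ fst := by
  have e : (Over.homMk (trS f p g fst sq s x₁ v hvs h₁ h) hvs' : Over.mk s ⟶ V') =
      tr f p g fst sq (T₀ := Over.mk s) (Over.homMk x₁ h₁) (Over.homMk v hvs)
        (Over.OverMorphism.ext h) := Over.OverMorphism.ext rfl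
  rw [e, tr_fst]

theorem trS_trS {T₀ : Scheme.{u}} (s s' : T₀ ⟶ S) (x₁ x₂ : T₀ ⟶ T'.left) (v : T₀ ⟶ V'.left)
    (hvs : v ≫ V'.hom = s) (h₁ : x₁ ≫ T'.hom = s) (h : (v ≫ g.left) ≫ p.left = x₁ ≫ p.left)
    (hvs' : trS f p g fst sq s x₁ v hvs h₁ h ≫ V'.hom = s') (h₂ : x₂ ≫ T'.hom = s')
    (h' : (trS f p g fst sq s x₁ v hvs h₁ h ≫ g.left) ≫ p.left = x₂ ≫ p.left)
    (h₂' : x₂ ≫ T'.hom = s) (h'' : (v ≫ g.left) ≫ p.left = x₂ ≫ p.left) :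
    trS f p g fst sq s' x₂ (trS f p g fst sq s x₁ v hvs h₁ h) hvs' h₂ h' =
      trS f p g fst sq s x₂ v hvs h₂' h'' := by
  have e : s' = s := h₂.symm.trans h₂'
  subst e
  refine (trS_unique f p g fst sq s' x₂ v hvs h₂' h''
    (Over.homMk (trS f p g fst sq s' x₂ (trS f p g fst sq s' x₁ v hvs h₁ h) hvs' h₂ h')
      (by rw [← Over.w g, ← Category.assoc, trS_g, h₂]; rfl)) (trS_g f p g fst sq s' x₂ _ hvs' h₂ h') ?_)
  rw [trS_fst, trS_fst]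

theorem trS_natural {T₁ T₀ : Scheme.{u}} (k : T₁ ⟶ T₀) (s : T₀ ⟶ S) (s' : T₁ ⟶ S) (hs : k ≫ s = s')
    (x₁ : T₀ ⟶ T'.left) (y₁ : T₁ ⟶ T'.left) (e₁ : k ≫ x₁ = y₁) (v : T₀ ⟶ V'.left)
    (w : T₁ ⟶ V'.left) (hw : w = k ≫ v)
    (hvs : v ≫ V'.hom = s) (h₁ : x₁ ≫ T'.hom = s) (h : (v ≫ g.left) ≫ p.left = x₁ ≫ p.left)
    (hws : w ≫ V'.hom = s') (h₁' : y₁ ≫ T'.hom = s')
    (h' : (w ≫ g.left) ≫ p.left = y₁ ≫ p.left) :
    trS f p g fst sq s' y₁ w hws h₁' h' = k ≫ trS f p g fst sq s x₁ v hvs h₁ h := by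
  subst hs e₁ hw
  obtain ⟨K, hK⟩ : ∃ K : Over.mk (k ≫ s) ⟶ Over.mk s, K.left = k := ⟨Over.homMk k rfl, rfl⟩
  have hvs'' : trS f p g fst sq s x₁ v hvs h₁ h ≫ V'.hom = s := by
    rw [← Over.w g, ← Category.assoc, trS_g, h₁]
  symm
  have := trS_unique f p g fst sq (k ≫ s) (k ≫ x₁) (k ≫ v) hws h₁' h'
    (K ≫ (Over.homMk (trS f p g fst sq s x₁ v hvs h₁ h) hvs'' : Over.mk s ⟶ V'))
    (by
      change (K.left ≫ trS f p g fst sq s x₁ v hvs h₁ h) ≫ g.left = k ≫ x₁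
      rw [hK, Category.assoc, trS_g])
    (by
      rw [Functor.map_comp, Category.assoc, trS_fst, ← Category.assoc, ← Functor.map_comp]
      congr 2
      apply Over.OverMorphism.ext
      change K.left ≫ v = k ≫ v
      rw [hK])
  rw [← this]
  change k ≫ _ = K.left ≫ _
  rw [hK]
  rfl

theorem aux_hvs {T₀ : Scheme.{u}} {x₀ : T₀ ⟶ T'.left} (v : Desc.Lifts (Over.mk g.left) x₀) :
    v.1 ≫ V'.hom = x₀ ≫ T'.hom := by
  rw [← Over.w g, ← Category.assoc]; exact congrArg (· ≫ T'.hom) v.2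

theorem aux_h1 {T₀ : Scheme.{u}} {x₀ x₁ : T₀ ⟶ T'.left} (h : x₀ ≫ p.left = x₁ ≫ p.left) :
    x₁ ≫ T'.hom = x₀ ≫ T'.hom := by
  rw [← Over.w p, ← Category.assoc, ← Category.assoc, h]

theorem aux_hh {T₀ : Scheme.{u}} {x₀ x₁ : T₀ ⟶ T'.left} (v : Desc.Lifts (Over.mk g.left) x₀)
    (h : x₀ ≫ p.left = x₁ ≫ p.left) : (v.1 ≫ g.left) ≫ p.left = x₁ ≫ p.left := by
  rw [show v.1 ≫ g.left = x₀ from v.2]; exact h

/-- the gluing map on points -/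
noncomputable def phiFun {T₀ : Scheme.{u}} (x₀ x₁ : T₀ ⟶ T'.left) (h : x₀ ≫ p.left = x₁ ≫ p.left)
    (v : Desc.Lifts (Over.mk g.left) x₀) : Desc.Lifts (Over.mk g.left) x₁ :=
  ⟨trS f p g fst sq (x₀ ≫ T'.hom) x₁ v.1 (aux_hvs g v) (aux_h1 p h) (aux_hh p g v h),
    trS_g _ _ _ _ _ _ _ _ _ _ _⟩

theorem phiFun_phiFun {T₀ : Scheme.{u}} (x₀ x₁ x₂ : T₀ ⟶ T'.left) (h₀₁ : x₀ ≫ p.left = x₁ ≫ p.left)
    (h₁₂ : x₁ ≫ p.left = x₂ ≫ p.left) (h₀₂ : x₀ ≫ p.left = x₂ ≫ p.left)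
    (v : Desc.Lifts (Over.mk g.left) x₀) :
    phiFun f p g fst sq x₁ x₂ h₁₂ (phiFun f p g fst sq x₀ x₁ h₀₁ v) =
      phiFun f p g fst sq x₀ x₂ h₀₂ v := by
  apply Subtype.ext
  exact trS_trS f p g fst sq (x₀ ≫ T'.hom) (x₁ ≫ T'.hom) x₁ x₂ v.1 (aux_hvs g v) (aux_h1 p h₀₁)
    (aux_hh p g v h₀₁) (aux_hvs g (phiFun f p g fst sq x₀ x₁ h₀₁ v)) (aux_h1 p h₁₂)
    (aux_hh p g (phiFun f p g fst sq x₀ x₁ h₀₁ v) h₁₂) (aux_h1 p h₀₂) (aux_hh p g v h₀₂)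

theorem phiFun_self {T₀ : Scheme.{u}} (x : T₀ ⟶ T'.left) (h : x ≫ p.left = x ≫ p.left)
    (v : Desc.Lifts (Over.mk g.left) x) : phiFun f p g fst sq x x h v = v :=
  Subtype.ext (trS_self f p g fst sq _ _ _ (aux_hvs g v) (aux_h1 p h) (aux_hh p g v h) v.2)

/-- the descent datum on `V'` relative to `p` induced by the sheaf `G` over `h_T` -/
noncomputable def sheafDD : Desc.SchDD p.left where
  obj := Over.mk g.left
  φ T₀ x₀ x₁ h :=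
    { toFun := phiFun f p g fst sq x₀ x₁ h
      invFun := phiFun f p g fst sq x₁ x₀ h.symm
      left_inv := fun v => by
        rw [phiFun_phiFun f p g fst sq x₀ x₁ x₀ h h.symm rfl, phiFun_self]
      right_inv := fun v => by
        rw [phiFun_phiFun f p g fst sq x₁ x₀ x₁ h.symm h rfl, phiFun_self] }
  φ_natural := fun T₀ T₁ k x₀ x₁ h h' v v' hv' =>
    trS_natural f p g fst sq k (x₀ ≫ T'.hom) ((k ≫ x₀) ≫ T'.hom) (Category.assoc _ _ _).symm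
      x₁ (k ≫ x₁) rfl v.1 v'.1 hv' (aux_hvs g v) (aux_h1 p h) (aux_hh p g v h) (aux_hvs g v')
      (aux_h1 p h') (aux_hh p g v' h')
  φ_self := fun T₀ x v => phiFun_self f p g fst sq x rfl v
  φ_comp := fun T₀ x₀ x₁ x₂ h₀₁ h₁₂ v => phiFun_phiFun f p g fst sq x₀ x₁ x₂ h₀₁ h₁₂ (h₀₁.trans h₁₂) v

theorem sheafDD_obj_hom : (sheafDD f p g fst sq).obj.hom = g.left := rfl

theorem sheafDD_phi_val {T₀ : Scheme.{u}} (x₀ x₁ : T₀ ⟶ T'.left) (h : x₀ ≫ p.left = x₁ ≫ p.left)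
    (v : Desc.Lifts (sheafDD f p g fst sq).obj x₀) :
    ((sheafDD f p g fst sq).φ x₀ x₁ h v).1 =
      trS f p g fst sq (x₀ ≫ T'.hom) x₁ v.1 (aux_hvs g v) (aux_h1 p h) (aux_hh p g v h) := rfl

end H10PT.Desc
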