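import Groth.Agent.Lib.Helper10.DescB

/-!
# Helper library (helper10): an effective descent datum attached to a sheaf represents the sheaf

If the descent datum `sheafDD` on `V'` attached to `f : G ⟶ h_T` and the fppf cover `p : T' ⟶ T` has
a cartesian invariant quotient `V' ⟶ W₀` over `T`, then `G ≅ h_W` over `h_T`.
-/

set_option autoImplicit false
set_option backward.isDefEq.respectTransparency false
set_option backward.isDefEq.respectTransparency.types false
universe u
open CategoryTheory CategoryTheory.Limits AlgebraicGeometry Opposite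

namespace H10PT.Desc

open AlgSp Groth.Agent.Lib.Helper16 Groth.Agent.Lib.Helper15 Groth.Agent.Lib.Helper28.EffDesc

/-- an isomorphism with a canonical descent datum gives a cartesian invariant quotient -/
theorem quot_of_iso {X S : Scheme.{u}} {p : X ⟶ S} (D : Desc.SchDD p) (U : Over S)
    (e : (Desc.toDD p).obj U ≅ D) :
    ∃ q : D.obj.left ⟶ U.left, IsPullback D.obj.hom q p U.hom ∧ IsInv D q := by
  have hk1 : e.inv.hom.left ≫ e.hom.hom.left = 𝟙 _ := by
    have := congrArg (fun f : D ⟶ D => f.hom.left) e.inv_hom_id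
    exact this
  have hk2 : e.hom.hom.left ≫ e.inv.hom.left = 𝟙 _ := by
    have := congrArg (fun f : (Desc.toDD p).obj U ⟶ (Desc.toDD p).obj U => f.hom.left) e.hom_inv_id
    exact this
  obtain ⟨k, hk⟩ : ∃ k : D.obj.left ≅ pullback p U.hom, k.hom = e.inv.hom.left :=
    ⟨⟨e.inv.hom.left, e.hom.hom.left, hk1, hk2⟩, rfl⟩
  have hkfst : e.inv.hom.left ≫ pullback.fst p U.hom = D.obj.hom := Over.w e.inv.hom
  refine ⟨e.inv.hom.left ≫ pullback.snd p U.hom, ?_, ?_⟩
  · refine IsPullback.of_iso_pullback ⟨?_⟩ k (by rw [hk, hkfst]) (by rw [hk])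
    rw [← hkfst, Category.assoc, Category.assoc, pullback.condition]
  · intro T x₀ x₁ h v
    obtain ⟨c, hc⟩ : ∃ c : Desc.Lifts ((Desc.toDD p).obj U).obj x₀, c.1 = v.1 ≫ e.inv.hom.left := by
      refine ⟨⟨v.1 ≫ e.inv.hom.left, ?_⟩, rfl⟩
      rw [Category.assoc, Over.w e.inv.hom]
      exact v.2
    have hB := e.inv.comm x₀ x₁ h v c hc
    have hcan : (((Desc.toDD p).obj U).φ x₀ x₁ h c).1 ≫ pullback.snd p U.hom =
        c.1 ≫ pullback.snd p U.hom := by
      change (Desc.canMap p U x₀ x₁ h c).1 ≫ _ = _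
      rw [Desc.canMap_val, pullback.lift_snd]
    calc (D.φ x₀ x₁ h v).1 ≫ e.inv.hom.left ≫ pullback.snd p U.hom
        = (((Desc.toDD p).obj U).φ x₀ x₁ h c).1 ≫ pullback.snd p U.hom := by
          rw [hB, Category.assoc]
      _ = c.1 ≫ pullback.snd p U.hom := hcan
      _ = v.1 ≫ e.inv.hom.left ≫ pullback.snd p U.hom := by rw [hc, Category.assoc]

variable {S : Scheme.{u}} {T T' V' : Over S} {G : Sp S} (f : G ⟶ (yon S).obj T) (p : T' ⟶ T)
  (g : V' ⟶ T') (fst : (yon S).obj V' ⟶ G)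
  (sq : IsPullback fst ((yon S).map g) f ((yon S).map p))

theorem tr_left_eq_phi {T₀ : Over S} (x₁ : T₀ ⟶ T') (v : T₀ ⟶ V') (h : (v ≫ g) ≫ p = x₁ ≫ p)
    (h' : (v.left ≫ g.left) ≫ p.left = x₁.left ≫ p.left)
    (v' : Desc.Lifts (sheafDD f p g fst sq).obj (v.left ≫ g.left)) (hv' : v'.1 = v.left) :
    (tr f p g fst sq x₁ v h).left = ((sheafDD f p g fst sq).φ (v.left ≫ g.left) x₁.left h' v').1 := by
  obtain ⟨v'', hv''⟩ := v'
  change v'' = v.left at hv'
  subst hv'
  have es : (v.left ≫ g.left) ≫ T'.hom = T₀.hom := by rw [Category.assoc, Over.w g, Over.w v]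
  exact (trS_eq_tr f p g fst sq x₁ v h).symm.trans
    (trS_congr_s f p g fst sq T₀.hom ((v.left ≫ g.left) ≫ T'.hom) es.symm x₁.left v.left (Over.w v)
      (Over.w x₁) h')

/-- a cartesian invariant quotient of `sheafDD` represents the sheaf -/
theorem rep_of_quot [Flat p.left] [Surjective p.left] [LocallyOfFinitePresentation p.left]
    {W₀ : Scheme.{u}} (w₀ : W₀ ⟶ T.left) (q₀ : V'.left ⟶ W₀)
    (hpb : IsPullback g.left q₀ p.left w₀) (hinv : IsInv (sheafDD f p g fst sq) q₀) :
    ∃ (W : Over S) (w : W ⟶ T) (q : V' ⟶ W) (ε : (yon S).obj W ≅ G),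
      IsPullback g.left q.left p.left w.left ∧ ε.hom ≫ f = (yon S).map w ∧
        (yon S).map q ≫ ε.hom = fst := by
  have hqS : q₀ ≫ w₀ ≫ T.hom = V'.hom := by
    rw [← Category.assoc, ← hpb.w, Category.assoc, Over.w p, Over.w g]
  obtain ⟨w, hw⟩ : ∃ w : Over.mk (w₀ ≫ T.hom) ⟶ T, w.left = w₀ := ⟨Over.homMk w₀ rfl, rfl⟩
  obtain ⟨q, hq⟩ : ∃ q : V' ⟶ Over.mk (w₀ ≫ T.hom), q.left = q₀ := ⟨Over.homMk q₀ hqS, rfl⟩
  have hgpqw : g ≫ p = q ≫ w := by
    apply Over.OverMorphism.ext
    change g.left ≫ p.left = q.left ≫ w.left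
    rw [hq, hw]
    exact hpb.w
  have hinvO : ∀ {T₀ : Over S} (x₁ : T₀ ⟶ T') (v : T₀ ⟶ V') (h : (v ≫ g) ≫ p = x₁ ≫ p),
      (tr f p g fst sq x₁ v h).left ≫ q₀ = v.left ≫ q₀ := by
    intro T₀ x₁ v h
    have h' : (v.left ≫ g.left) ≫ p.left = x₁.left ≫ p.left := congrArg CommaMorphism.left h
    rw [tr_left_eq_phi f p g fst sq x₁ v h h' ⟨v.left, rfl⟩ rfl]
    exact hinv (v.left ≫ g.left) x₁.left h' ⟨v.left, rfl⟩
  have hker : ∀ (T₀ : Over S) (x y : (yon S).obj T₀ ⟶ (yon S).obj V'),
      x ≫ (yon S).map q = y ≫ (yon S).map q ↔ x ≫ fst = y ≫ fst := by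
    intro T₀ x y
    obtain ⟨m₀, rfl⟩ := (yon S).map_surjective x
    obtain ⟨m₁, rfl⟩ := (yon S).map_surjective y
    constructor
    · intro hxy
      have hmq : m₀ ≫ q = m₁ ≫ q :=
        (yon S).map_injective (by rw [Functor.map_comp, Functor.map_comp]; exact hxy)
      have h : (m₀ ≫ g) ≫ p = (m₁ ≫ g) ≫ p := by
        rw [Category.assoc, Category.assoc, hgpqw, ← Category.assoc, ← Category.assoc, hmq]
      have hm : tr f p g fst sq (m₁ ≫ g) m₀ h = m₁ := by
        apply Over.OverMorphism.ext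
        apply hpb.hom_ext
        · exact congrArg CommaMorphism.left (tr_g f p g fst sq (m₁ ≫ g) m₀ h)
        · rw [hinvO]
          have := congrArg CommaMorphism.left hmq
          change m₀.left ≫ q.left = m₁.left ≫ q.left at this
          rw [hq] at this
          exact this
      have := tr_fst f p g fst sq (m₁ ≫ g) m₀ h
      rw [hm] at this
      exact this.symm
    · intro hxy
      have h : (m₀ ≫ g) ≫ p = (m₁ ≫ g) ≫ p := by
        apply (yon S).map_injective
        rw [Functor.map_comp, Functor.map_comp, Functor.map_comp, Functor.map_comp, Category.assoc,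
          Category.assoc, ← sq.w, ← Category.assoc, ← Category.assoc, hxy]
      have hm : m₁ = tr f p g fst sq (m₁ ≫ g) m₀ h := tr_unique f p g fst sq _ _ h rfl hxy.symm
      have e := hinvO (m₁ ≫ g) m₀ h
      rw [← hm] at e
      rw [← Functor.map_comp, ← Functor.map_comp]
      congr 1
      apply Over.OverMorphism.ext
      change m₀.left ≫ q.left = m₁.left ≫ q.left
      rw [hq]
      exact e.symm
  haveI hp_epi : Epi ((yon S).map p) := epi_yon_map_of_fppf p inferInstance inferInstance inferInstance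
  haveI hfst_epi : Epi fst := epi_fst_of_isPullback sq hp_epi
  haveI hq_epi : Epi ((yon S).map q) := by
    refine epi_yon_map_of_fppf q ?_ ?_ ?_
    · rw [hq]; exact MorphismProperty.of_isPullback (P := @Flat) hpb inferInstance
    · rw [hq]; exact MorphismProperty.of_isPullback (P := @LocallyOfFinitePresentation) hpb inferInstance
    · rw [hq]; exact MorphismProperty.of_isPullback (P := @Surjective) hpb inferInstance
  obtain ⟨ε, hε⟩ := exists_iso_of_epi_epi ((yon S).map q) fst hker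
  refine ⟨_, w, q, ε, by rw [hq, hw]; exact hpb, ?_, hε⟩
  rw [← cancel_epi ((yon S).map q), ← Category.assoc, hε, sq.w, ← Functor.map_comp,
    ← Functor.map_comp, hgpqw]

/-- an effective `sheafDD` represents the sheaf -/
theorem rep_of_effective [Flat p.left] [Surjective p.left] [LocallyOfFinitePresentation p.left]
    (heff : ∃ U : Over T.left, Nonempty ((Desc.toDD p.left).obj U ≅ sheafDD f p g fst sq)) :
    ∃ (W : Over S) (w : W ⟶ T) (q : V' ⟶ W) (ε : (yon S).obj W ≅ G),
      IsPullback g.left q.left p.left w.left ∧ ε.hom ≫ f = (yon S).map w ∧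
        (yon S).map q ≫ ε.hom = fst := by
  obtain ⟨U, ⟨e⟩⟩ := heff
  obtain ⟨q₀, hpb, hinv⟩ := quot_of_iso (sheafDD f p g fst sq) U e
  exact rep_of_quot f p g fst sq U.hom q₀ hpb hinv

end H10PT.Desc
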