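import Groth.Agent.Lib.Helper10.DescC
import Groth.Agent.Lib.Helper28.EffDesc.Etale
import Groth.Agent.Lib.Helper28.EffDesc.LocalEff

/-!
# Helper library (helper10): effective descent for separated locally quasi-finite schemes along an
fppf quasi-compact morphism with affine source (no quasi-compactness of the descent datum)

The saturation of a quasi-compact open of the total space of a descent datum is a stable
quasi-compact open; the restricted datum is effective by Zariski's main theorem plus quasi-affine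
descent (helper28), and a datum which is effective locally on its total space is effective.
-/

set_option autoImplicit false
set_option backward.isDefEq.respectTransparency false
set_option backward.isDefEq.respectTransparency.types false
universe u
open CategoryTheory CategoryTheory.Limits AlgebraicGeometry Opposite

namespace H10PT.Desc

open Groth.Agent.Lib.Helper28.EffDesc

section Sat

variable {X S : Scheme.{u}} {p : X ⟶ S} (D : Desc.SchDD p)

theorem sat_cond : (pullback.snd p (D.obj.hom ≫ p) ≫ D.obj.hom) ≫ p =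
    pullback.fst p (D.obj.hom ≫ p) ≫ p := by
  rw [Category.assoc]; exact pullback.condition.symm

/-- the map `(x, v) ↦ φ(a v → x)(v)` from `X ×_S V` to `V` -/
noncomputable def satMap : pullback p (D.obj.hom ≫ p) ⟶ D.obj.left :=
  (D.φ (pullback.snd p (D.obj.hom ≫ p) ≫ D.obj.hom) (pullback.fst p (D.obj.hom ≫ p)) (sat_cond D)
    ⟨pullback.snd _ _, rfl⟩).1

theorem satMap_hom : satMap D ≫ D.obj.hom = pullback.fst p (D.obj.hom ≫ p) :=
  phi_hom D _ _ _ _

theorem lift_satMap {T : Scheme.{u}} (x : T ⟶ X) (v : T ⟶ D.obj.left)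
    (hv : (v ≫ D.obj.hom) ≫ p = x ≫ p) (hc : x ≫ p = v ≫ D.obj.hom ≫ p) :
    pullback.lift x v hc ≫ satMap D = (D.φ (v ≫ D.obj.hom) x hv ⟨v, rfl⟩).1 := by
  symm
  unfold satMap
  refine phi_natural' D (pullback.lift x v hc) _ _ (sat_cond D) _ _ ?_ ?_ hv
    ⟨pullback.snd _ _, rfl⟩ ⟨v, rfl⟩ ?_
  · rw [← Category.assoc, pullback.lift_snd]
  · rw [pullback.lift_fst]
  · exact (pullback.lift_snd _ _ _).symm

/-- the involution `(x, v) ↦ (a v, φ(a v → x)(v))` of `X ×_S V` -/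
noncomputable def satSwap : pullback p (D.obj.hom ≫ p) ⟶ pullback p (D.obj.hom ≫ p) :=
  pullback.lift (pullback.snd p (D.obj.hom ≫ p) ≫ D.obj.hom) (satMap D)
    (by rw [← Category.assoc (satMap D), satMap_hom]; exact sat_cond D)

theorem satSwap_fst : satSwap D ≫ pullback.fst p (D.obj.hom ≫ p) =
    pullback.snd p (D.obj.hom ≫ p) ≫ D.obj.hom := pullback.lift_fst _ _ _

theorem satSwap_snd : satSwap D ≫ pullback.snd p (D.obj.hom ≫ p) = satMap D :=
  pullback.lift_snd _ _ _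

theorem satSwap_satMap : satSwap D ≫ satMap D = pullback.snd p (D.obj.hom ≫ p) := by
  unfold satSwap
  rw [lift_satMap D _ _ (by rw [satMap_hom]; exact (sat_cond D).symm)]
  have e := D.φ_comp (pullback.snd p (D.obj.hom ≫ p) ≫ D.obj.hom) (pullback.fst p (D.obj.hom ≫ p))
    (pullback.snd p (D.obj.hom ≫ p) ≫ D.obj.hom) (sat_cond D) (sat_cond D).symm
    ⟨pullback.snd _ _, rfl⟩
  rw [D.φ_self] at e
  have e' := congrArg Subtype.val e
  refine (phi_congr D (satMap_hom D) rfl _ _ _ _ rfl).trans e'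

theorem satSwap_satSwap : satSwap D ≫ satSwap D = 𝟙 _ := by
  apply pullback.hom_ext
  · rw [Category.assoc, satSwap_fst, ← Category.assoc, satSwap_snd, satMap_hom, Category.id_comp]
  · rw [Category.assoc, satSwap_snd, satSwap_satMap, Category.id_comp]

theorem isOpenMap_satMap [Flat p] [LocallyOfFinitePresentation p] : IsOpenMap (satMap D) := by
  haveI : IsIso (satSwap D) := ⟨⟨satSwap D, satSwap_satSwap D, satSwap_satSwap D⟩⟩
  rw [← satSwap_snd D]
  exact Scheme.Hom.isOpenMap _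

/-- the saturation of an open of the total space -/
noncomputable def sat [Flat p] [LocallyOfFinitePresentation p] (O₀ : D.obj.left.Opens) :
    D.obj.left.Opens :=
  ⟨satMap D '' ((pullback.snd p (D.obj.hom ≫ p)) ⁻¹' (O₀ : Set D.obj.left)),
    isOpenMap_satMap D _ (O₀.2.preimage (pullback.snd p (D.obj.hom ≫ p)).continuous)⟩

theorem mem_sat [Flat p] [LocallyOfFinitePresentation p] (O₀ : D.obj.left.Opens) (y : D.obj.left) :
    y ∈ sat D O₀ ↔ ∃ z : ↥(pullback p (D.obj.hom ≫ p)),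
      pullback.snd p (D.obj.hom ≫ p) z ∈ O₀ ∧ satMap D z = y := Iff.rfl

theorem le_sat [Flat p] [LocallyOfFinitePresentation p] (O₀ : D.obj.left.Opens) {y : D.obj.left}
    (hy : y ∈ O₀) : y ∈ sat D O₀ := by
  rw [mem_sat]
  have hc : D.obj.hom ≫ p = 𝟙 D.obj.left ≫ D.obj.hom ≫ p := by rw [Category.id_comp]
  refine ⟨(pullback.lift D.obj.hom (𝟙 _) hc) y, ?_, ?_⟩
  · rw [← Scheme.Hom.comp_apply, pullback.lift_snd]
    exact hy
  · rw [← Scheme.Hom.comp_apply, lift_satMap D _ _ (by rw [Category.id_comp]),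
      phi_self' D _ _ (Category.id_comp _)]
    rfl

theorem isCompact_sat [Flat p] [LocallyOfFinitePresentation p] [QuasiCompact p]
    (O₀ : D.obj.left.Opens) (hO₀ : IsCompact (O₀ : Set D.obj.left)) :
    IsCompact (sat D O₀ : Set D.obj.left) := by
  have h1 := (pullback.snd p (D.obj.hom ≫ p)).isCompact_preimage hO₀
  exact h1.image (satMap D).continuous

theorem stable_sat [Flat p] [LocallyOfFinitePresentation p] (O₀ : D.obj.left.Opens) :
    Stable D (sat D O₀) := by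
  intro T x₀ x₁ h v hv
  rintro _ ⟨t, rfl⟩
  obtain ⟨z, hzO, hz⟩ := (mem_sat D O₀ _).1 (hv ⟨t, rfl⟩)
  obtain ⟨y, hy1, hy2⟩ := Scheme.Pullback.exists_preimage_pullback (f := v.1) (g := satMap D) t z
    hz.symm
  obtain ⟨L, c, c₀, hc⟩ : ∃ (L : Scheme.{u}) (c : L ⟶ pullback v.1 (satMap D)) (_ : L),
      ∀ s : L, c s = y :=
    ⟨Spec ((pullback v.1 (satMap D)).residueField y),
      (pullback v.1 (satMap D)).fromSpecResidueField y,
      IsLocalRing.closedPoint _, fun s => Scheme.fromSpecResidueField_apply _ s⟩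
  obtain ⟨τ, hτ⟩ : ∃ τ : L ⟶ T, τ = c ≫ pullback.fst v.1 (satMap D) := ⟨_, rfl⟩
  obtain ⟨ζ, hζ⟩ : ∃ ζ : L ⟶ pullback p (D.obj.hom ≫ p), ζ = c ≫ pullback.snd v.1 (satMap D) :=
    ⟨_, rfl⟩
  have hτζ : τ ≫ v.1 = ζ ≫ satMap D := by
    rw [hτ, hζ, Category.assoc, Category.assoc, pullback.condition]
  have hτc : τ c₀ = t := by rw [hτ, Scheme.Hom.comp_apply, hc, hy1]
  have hζc : ζ c₀ = z := by rw [hζ, Scheme.Hom.comp_apply, hc, hy2]
  -- `ζ` as a lift
  have hc' : (ζ ≫ pullback.fst p (D.obj.hom ≫ p)) ≫ p =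
      (ζ ≫ pullback.snd p (D.obj.hom ≫ p)) ≫ D.obj.hom ≫ p := by
    rw [Category.assoc, Category.assoc, pullback.condition]
  have hA : ((ζ ≫ pullback.snd p (D.obj.hom ≫ p)) ≫ D.obj.hom) ≫ p =
      (ζ ≫ pullback.fst p (D.obj.hom ≫ p)) ≫ p := by
    rw [Category.assoc]; exact hc'.symm
  have hζlift : pullback.lift (ζ ≫ pullback.fst p (D.obj.hom ≫ p))
      (ζ ≫ pullback.snd p (D.obj.hom ≫ p)) hc' = ζ := by
    apply pullback.hom_ext
    · rw [pullback.lift_fst]
    · rw [pullback.lift_snd]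
  have eA : ζ ≫ satMap D = (D.φ ((ζ ≫ pullback.snd p (D.obj.hom ≫ p)) ≫ D.obj.hom)
      (ζ ≫ pullback.fst p (D.obj.hom ≫ p)) hA ⟨ζ ≫ pullback.snd p (D.obj.hom ≫ p), rfl⟩).1 := by
    have := lift_satMap D (ζ ≫ pullback.fst p (D.obj.hom ≫ p))
      (ζ ≫ pullback.snd p (D.obj.hom ≫ p)) hA hc'
    rw [hζlift] at this
    exact this
  have hx : τ ≫ x₀ = ζ ≫ pullback.fst p (D.obj.hom ≫ p) := by
    have e1 : v.1 ≫ D.obj.hom = x₀ := v.2
    rw [← e1, ← Category.assoc, hτζ, Category.assoc, satMap_hom]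
  have h' : (τ ≫ x₀) ≫ p = (τ ≫ x₁) ≫ p := by rw [Category.assoc, Category.assoc, h]
  obtain ⟨vτ, hvτ⟩ : ∃ vτ : Desc.Lifts D.obj (τ ≫ x₀), vτ.1 = τ ≫ v.1 :=
    ⟨⟨τ ≫ v.1, by rw [Category.assoc, v.2]⟩, rfl⟩
  have eB : (D.φ (τ ≫ x₀) (τ ≫ x₁) h' vτ).1 = τ ≫ (D.φ x₀ x₁ h v).1 :=
    D.φ_natural τ x₀ x₁ h h' v vτ hvτ
  have h'' : (ζ ≫ pullback.fst p (D.obj.hom ≫ p)) ≫ p = (τ ≫ x₁) ≫ p := by rw [← hx, h']
  have eD : (D.φ (τ ≫ x₀) (τ ≫ x₁) h' vτ).1 =
      (D.φ (ζ ≫ pullback.fst p (D.obj.hom ≫ p)) (τ ≫ x₁) h''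
        (D.φ ((ζ ≫ pullback.snd p (D.obj.hom ≫ p)) ≫ D.obj.hom)
          (ζ ≫ pullback.fst p (D.obj.hom ≫ p)) hA
          ⟨ζ ≫ pullback.snd p (D.obj.hom ≫ p), rfl⟩)).1 :=
    phi_congr D hx rfl h' h'' _ _ (hvτ.trans (hτζ.trans eA))
  have eE := congrArg Subtype.val (D.φ_comp ((ζ ≫ pullback.snd p (D.obj.hom ≫ p)) ≫ D.obj.hom)
    (ζ ≫ pullback.fst p (D.obj.hom ≫ p)) (τ ≫ x₁) hA h''
    ⟨ζ ≫ pullback.snd p (D.obj.hom ≫ p), rfl⟩)
  have hc'' : (τ ≫ x₁) ≫ p = (ζ ≫ pullback.snd p (D.obj.hom ≫ p)) ≫ D.obj.hom ≫ p := by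
    rw [← h'']; exact hc'
  have eF := lift_satMap D (τ ≫ x₁) (ζ ≫ pullback.snd p (D.obj.hom ≫ p)) (hA.trans h'') hc''
  have key : τ ≫ (D.φ x₀ x₁ h v).1 =
      pullback.lift (τ ≫ x₁) (ζ ≫ pullback.snd p (D.obj.hom ≫ p)) hc'' ≫ satMap D := by
    rw [← eB, eD, eE, eF]
  refine (mem_sat D O₀ _).2
    ⟨(pullback.lift (τ ≫ x₁) (ζ ≫ pullback.snd p (D.obj.hom ≫ p)) hc'') c₀, ?_, ?_⟩
  · rw [← Scheme.Hom.comp_apply, pullback.lift_snd, Scheme.Hom.comp_apply, hζc]
    exact hzO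
  · rw [← Scheme.Hom.comp_apply, ← key, Scheme.Hom.comp_apply, hτc]

end Sat

/-- **Effective descent for separated locally quasi-finite schemes** along a flat, surjective,
locally finitely presented, quasi-compact morphism with affine source. -/
theorem schDD_effective_of_sep_lqf_affine {X S : Scheme.{u}} (p : X ⟶ S) [Flat p] [Surjective p]
    [LocallyOfFinitePresentation p] [QuasiCompact p] [IsAffine X] (D : Desc.SchDD p)
    [IsSeparated D.obj.hom] [LocallyQuasiFinite D.obj.hom] [LocallyOfFiniteType D.obj.hom] :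
    ∃ U : Over S, Nonempty ((Desc.toDD p).obj U ≅ D) := by
  apply schDD_effective_of_locally_effective D
  intro v
  obtain ⟨O₀, hO₀, hv, -⟩ := (TopologicalSpace.Opens.isBasis_iff_nbhd.mp
    D.obj.left.isBasis_affineOpens) (show v ∈ (⊤ : D.obj.left.Opens) from trivial)
  have hcpt : IsCompact (O₀ : Set D.obj.left) := (show IsAffineOpen O₀ from hO₀).isCompact
  obtain ⟨O, hOdef⟩ : ∃ O, O = sat D O₀ := ⟨_, rfl⟩
  have hst : Stable D O := hOdef ▸ stable_sat D O₀
  have hOc : IsCompact (O : Set D.obj.left) := hOdef ▸ isCompact_sat D O₀ hcpt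
  have hvO : v ∈ O := hOdef ▸ le_sat D O₀ hv
  have hhom : (restrictDD D O hst).obj.hom = O.ι ≫ D.obj.hom := rfl
  haveI : IsSeparated (restrictDD D O hst).obj.hom := by rw [hhom]; infer_instance
  haveI : LocallyQuasiFinite (restrictDD D O hst).obj.hom := by rw [hhom]; infer_instance
  haveI : LocallyOfFiniteType (restrictDD D O hst).obj.hom := by rw [hhom]; infer_instance
  haveI : QuasiCompact (restrictDD D O hst).obj.hom := by
    rw [hhom]
    haveI : CompactSpace ↥O := isCompact_iff_compactSpace.mp hOc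
    exact HasAffineProperty.iff_of_isAffine.mpr (inferInstance : CompactSpace ↥O)
  obtain ⟨U', hU'⟩ := schDD_effective_of_sep_lqf (restrictDD D O hst)
  refine ⟨restrictDD D O hst, ⟨Over.homMk O.ι rfl, fun T x₀ x₁ h v w hw => ?_⟩, ?_, ?_, U', hU'⟩
  · have : w = toLifts D O v := Subtype.ext hw
    subst this
    exact (restrictDD_phi_ι D O hst x₀ x₁ h v).symm
  · change IsOpenImmersion O.ι
    infer_instance
  · exact ⟨⟨v, hvO⟩, rfl⟩

end H10PT.Desc
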