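import Groth.Agent.Lib.Helper10.DescD
import Groth.Agent.Lib.Helper16.GlueRep

/-!
# Helper library (helper10): representability of a sheaf over `h_T` is Zariski local on `T`

If `f : G ⟶ h_T` becomes representable over the members of an open cover of `T`, then `G` is
representable (by the glued scheme), compatibly with the local representing objects.
-/

set_option autoImplicit false
set_option backward.isDefEq.respectTransparency false
set_option backward.isDefEq.respectTransparency.types false
universe u
open CategoryTheory CategoryTheory.Limits AlgebraicGeometry Opposite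

namespace H10PT.Desc

open AlgSp Groth.Agent.Lib.Helper16 Groth.Agent.Lib.Helper15 Groth.Agent.Lib.Helper16.GlueRep

variable {S : Scheme.{u}}

/-- étale-ness can be checked on a jointly surjective family of open immersions into the source -/
theorem etale_of_open_cover {X Y : Scheme.{u}} (f : X ⟶ Y) {ι : Type*} (V : ι → Scheme.{u})
    (k : ∀ i, V i ⟶ X) [∀ i, IsOpenImmersion (k i)] (hcov : ∀ x : X, ∃ i, x ∈ Set.range (k i))
    (h : ∀ i, Etale (k i ≫ f)) : Etale f := by
  refine (IsZariskiLocalAtSource.iff_of_iSup_eq_top (P := @Etale) (fun i => (k i).opensRange)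
    ?_).2 (fun i => ?_)
  · apply TopologicalSpace.Opens.ext
    ext x
    simp only [TopologicalSpace.Opens.coe_iSup, Set.mem_iUnion, TopologicalSpace.Opens.coe_top,
      Set.mem_univ, iff_true]
    obtain ⟨i, hi⟩ := hcov x
    exact ⟨i, hi⟩
  · rw [← Scheme.Hom.isoOpensRange_inv_comp, Category.assoc]
    exact (MorphismProperty.cancel_left_of_respectsIso @Etale _ _).2 (h i)

theorem isOpenImmersion_fst_left {A B C : Over S} (a : A ⟶ C) (b : B ⟶ C) [IsOpenImmersion b.left] :
    IsOpenImmersion (pullback.fst a b).left := by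
  have sq : IsPullback (pullback.fst a b).left (pullback.snd a b).left a.left b.left :=
    (IsPullback.of_hasPullback a b).map (Over.forget S)
  exact MorphismProperty.of_isPullback (P := @IsOpenImmersion) sq.flip inferInstance

theorem mem_range_fst_left {A B C : Over S} (a : A ⟶ C) (b : B ⟶ C) (x : A.left)
    (hx : a.left x ∈ Set.range b.left) : x ∈ Set.range (pullback.fst a b).left := by
  have sq : IsPullback (pullback.fst a b).left (pullback.snd a b).left a.left b.left :=
    (IsPullback.of_hasPullback a b).map (Over.forget S)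
  obtain ⟨y, hy⟩ := hx
  obtain ⟨z, hz1, -⟩ := Scheme.Pullback.exists_preimage_pullback (f := a.left) (g := b.left) x y
    hy.symm
  refine ⟨sq.isoPullback.inv z, ?_⟩
  rw [← Scheme.Hom.comp_apply, sq.isoPullback_inv_fst]
  exact hz1

/-- Representability over `h_T` is Zariski local on `T`. -/
theorem rep_of_zariski_local {T : Over S} {G : Sp S} (f : G ⟶ (yon S).obj T) {ι₀ : Type u}
    (Ta Wa : ι₀ → Over S) (j : ∀ i, Ta i ⟶ T) (wa : ∀ i, Wa i ⟶ Ta i)
    (fa : ∀ i, (yon S).obj (Wa i) ⟶ G) (hopen : ∀ i, IsOpenImmersion (j i).left)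
    (hcov : ∀ t : T.left, ∃ i, t ∈ Set.range (j i).left)
    (hsq : ∀ i, IsPullback (fa i) ((yon S).map (wa i)) f ((yon S).map (j i))) :
    ∃ (W : Over S) (w : W ⟶ T) (ε : (yon S).obj W ≅ G) (k : ∀ i, Wa i ⟶ W),
      ε.hom ≫ f = (yon S).map w ∧ (∀ i, (yon S).map (k i) ≫ ε.hom = fa i) ∧
      (∀ i, IsOpenImmersion (k i).left) ∧ (∀ x : W.left, ∃ i, x ∈ Set.range (k i).left) ∧
      ∀ i, k i ≫ w = wa i ≫ j i := by
  haveI := MorphismProperty.relative_isStableUnderBaseChange (F := yon S)
    (MorphismProperty.inverseImage (@IsOpenImmersion : MorphismProperty Scheme.{u}) (Over.forget S))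
  have hf : ∀ i, RepWith @IsOpenImmersion (fa i) := fun i =>
    MorphismProperty.of_isPullback (P := RepWith @IsOpenImmersion) (hsq i).flip
      ((repWith_yon_map_iff _ _).2 (hopen i))
  have hmono := mono_gluedHom fa hf
  have hepi : Epi (gluedHom fa hf) := by
    rw [epi_iff_locally_lift]
    intro T₀ y
    obtain ⟨y₀, hy₀⟩ := (yon S).map_surjective (y ≫ f)
    refine ⟨Sieve.generate (Presieve.ofArrows (fun i => pullback y₀ (j i))
        (fun i => pullback.fst y₀ (j i))),
      generate_ofArrows_mem_J_of_open_cover _ _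
        (fun i => by haveI := hopen i; exact isOpenImmersion_fst_left y₀ (j i)) (fun t => ?_), ?_⟩
    · obtain ⟨i, hi⟩ := hcov (y₀.left t)
      exact ⟨i, mem_range_fst_left y₀ (j i) t hi⟩
    · rintro T' g' ⟨Y, h, _, ⟨i⟩, rfl⟩
      have cond : ((yon S).map (pullback.fst y₀ (j i)) ≫ y) ≫ f =
          (yon S).map (pullback.snd y₀ (j i)) ≫ (yon S).map (j i) := by
        rw [Category.assoc, ← hy₀, ← Functor.map_comp, ← Functor.map_comp, pullback.condition]
      refine ⟨(yon S).map h ≫ (hsq i).lift _ _ cond ≫ (yon S).map (gluedι fa hf i), ?_⟩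
      rw [Category.assoc, Category.assoc, gluedι_gluedHom, (hsq i).lift_fst, Functor.map_comp,
        Category.assoc]
  haveI := hmono
  haveI := hepi
  have hiso : IsIso (gluedHom fa hf) := isIso_of_mono_of_epi _
  obtain ⟨w, hw⟩ := (yon S).map_surjective (gluedHom fa hf ≫ f)
  refine ⟨glued fa hf, w, asIso (gluedHom fa hf), gluedι fa hf, ?_, ?_, ?_, ?_, ?_⟩
  · rw [asIso_hom, hw]
  · intro i
    rw [asIso_hom, gluedι_gluedHom]
  · intro i
    infer_instance
  · exact gluedι_jointly_surjective fa hf
  · intro i
    apply (yon S).map_injective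
    rw [Functor.map_comp, hw, ← Category.assoc, gluedι_gluedHom, (hsq i).w, Functor.map_comp]

end H10PT.Desc
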