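import Groth.Agent.Lib.Helper10.DescE
import Groth.Agent.Lib.Helper10.CovDescA
import Groth.Agent.Lib.Helper16.SchemeTop

/-!
# Helper library (helper10): the quotient map of an étale equivalence relation is representable and
étale

Let `s, t : R ⟶ U` be schemes over `S`, `F` an fppf sheaf and `p : h_U ⟶ F` an epimorphism with
kernel pair `h_R` (`t` first, `s` second), `(t, s)` a monomorphism and `t` étale. Then `p` is
representable by schemes and étale (`repWith_etale_of_eqvRel`): for `ξ : h_T ⟶ F` the fibre product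
`h_U ×_F h_T` is, fppf locally on `T` and Zariski locally on `U`, a scheme separated and étale over
`T`; it descends by effective descent for separated locally quasi-finite morphisms.
-/

set_option autoImplicit false
set_option backward.isDefEq.respectTransparency false
set_option backward.isDefEq.respectTransparency.types false
universe u
open CategoryTheory CategoryTheory.Limits AlgebraicGeometry Opposite

namespace H10PT.Desc

open AlgSp Groth.Agent.Lib.Helper16 Groth.Agent.Lib.Helper15 Groth.Agent.Lib.Helper16.GlueRep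
  Groth.Agent.Lib.Helper28.EffDesc

variable {S : Scheme.{u}}

theorem isPullback_iso_comp {C : Type*} [Category C] {P P' X Y Z : C} {fst : P ⟶ X} {snd : P ⟶ Y}
    {f : X ⟶ Z} {g : Y ⟶ Z} (h : IsPullback fst snd f g) (e : P' ≅ P) {snd' : P' ⟶ Y}
    (hs : e.hom ≫ snd = snd') : IsPullback (e.hom ≫ fst) snd' f g := by
  subst hs
  exact IsPullback.of_iso h e.symm (Iso.refl _) (Iso.refl _) (Iso.refl _) (by simp) (by simp)
    (by simp) (by simp)

/-- maps from a representable sheaf to a sheaf agree if they agree on an open cover -/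
theorem yon_hom_ext_of_open_cover {F : Sp S} {V : Over S} {I : Type u} (VO : I → Over S)
    (ι : ∀ i, VO i ⟶ V) (hopen : ∀ i, IsOpenImmersion (ι i).left)
    (hsurj : ∀ x : V.left, ∃ i, x ∈ Set.range (ι i).left) (σ σ' : (yon S).obj V ⟶ F)
    (h : ∀ i, (yon S).map (ι i) ≫ σ = (yon S).map (ι i) ≫ σ') : σ = σ' := by
  have hu := existsUnique_glue_of_compat VO ι hopen hsurj (fun i => (yon S).map (ι i) ≫ σ)
    (fun i j Z gi gj hg => by
      rw [← Category.assoc, ← Category.assoc, ← Functor.map_comp, ← Functor.map_comp, hg])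
  exact hu.unique (fun i => rfl) (fun i => (h i).symm)

section Core

variable {R U : Over S} (s t : R ⟶ U) {F : Sp S} (p : (yon S).obj U ⟶ F)
  (hpb : IsPullback ((yon S).map t) ((yon S).map s) p p)
  (hinj : ∀ (T : Over S) (r r' : T ⟶ R), r ≫ t = r' ≫ t → r ≫ s = r' ≫ s → r = r')

include hpb in
theorem sqRa {Ua : Over S} (ιa : Ua ⟶ U) :
    IsPullback ((yon S).map (pullback.fst s ιa ≫ t)) ((yon S).map (pullback.snd s ιa)) p
      ((yon S).map ιa ≫ p) := by
  have h1 : IsPullback ((yon S).map (pullback.fst s ιa)) ((yon S).map (pullback.snd s ιa))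
      ((yon S).map s) ((yon S).map ιa) := (IsPullback.of_hasPullback s ιa).map (yon S)
  have := h1.paste_horiz hpb
  rw [Functor.map_comp]
  exact this

include hinj in
theorem isSeparated_ta {Ua : Over S} [IsAffine Ua.left] (ιa : Ua ⟶ U) :
    IsSeparated (pullback.fst s ιa ≫ t).left := by
  have hw : (pullback.fst s ιa ≫ t).left ≫ U.hom = (pullback.snd s ιa).left ≫ Ua.hom := by
    rw [Over.w, Over.w]
  obtain ⟨m, hm1, hm2⟩ : ∃ m : (pullback s ιa).left ⟶ pullback U.hom Ua.hom,
      m ≫ pullback.fst U.hom Ua.hom = (pullback.fst s ιa ≫ t).left ∧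
      m ≫ pullback.snd U.hom Ua.hom = (pullback.snd s ιa).left :=
    ⟨pullback.lift _ _ hw, pullback.lift_fst _ _ _, pullback.lift_snd _ _ _⟩
  have hmono : Mono m := by
    constructor
    intro Z x y hxy
    have e1 : x ≫ (pullback.fst s ιa ≫ t).left = y ≫ (pullback.fst s ιa ≫ t).left := by
      rw [← hm1, ← Category.assoc, hxy, Category.assoc]
    have e2 : x ≫ (pullback.snd s ιa).left = y ≫ (pullback.snd s ιa).left := by
      rw [← hm2, ← Category.assoc, hxy, Category.assoc]
    have hy : y ≫ (pullback s ιa).hom = x ≫ (pullback s ιa).hom := by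
      rw [← Over.w (pullback.fst s ιa ≫ t), ← Category.assoc, ← Category.assoc, e1]
    obtain ⟨X', hX'⟩ : ∃ X' : Over.mk (x ≫ (pullback s ιa).hom) ⟶ pullback s ιa, X'.left = x :=
      ⟨Over.homMk x rfl, rfl⟩
    obtain ⟨Y', hY'⟩ : ∃ Y' : Over.mk (x ≫ (pullback s ιa).hom) ⟶ pullback s ιa, Y'.left = y :=
      ⟨Over.homMk y hy, rfl⟩
    have hsnd : X' ≫ pullback.snd s ιa = Y' ≫ pullback.snd s ιa := by
      apply Over.OverMorphism.ext
      change X'.left ≫ (pullback.snd s ιa).left = Y'.left ≫ (pullback.snd s ιa).left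
      rw [hX', hY', e2]
    have hXY : X' = Y' := by
      apply pullback.hom_ext
      · apply hinj
        · apply Over.OverMorphism.ext
          change X'.left ≫ (pullback.fst s ιa ≫ t).left = Y'.left ≫ (pullback.fst s ιa ≫ t).left
          rw [hX', hY', e1]
        · rw [Category.assoc, Category.assoc, pullback.condition, ← Category.assoc,
            ← Category.assoc, hsnd]
      · exact hsnd
    rw [← hX', ← hY', hXY]
  haveI : IsSeparated m := inferInstance
  rw [← hm1]
  infer_instance

theorem etale_ta (het : Etale t.left) {Ua : Over S} (ιa : Ua ⟶ U) [IsOpenImmersion ιa.left] :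
    Etale (pullback.fst s ιa ≫ t).left := by
  have sq : IsPullback (pullback.fst s ιa).left (pullback.snd s ιa).left s.left ιa.left :=
    (IsPullback.of_hasPullback s ιa).map (Over.forget S)
  haveI : IsOpenImmersion (pullback.fst s ιa).left :=
    MorphismProperty.of_isPullback (P := @IsOpenImmersion) sq.flip inferInstance
  change Etale ((pullback.fst s ιa).left ≫ t.left)
  infer_instance

include hpb hinj in
/-- the core case: `U_a` and `T_b` affine -/
theorem rep_affine (hepi : Epi p) (het : Etale t.left) {Ua Tb : Over S} [IsAffine Ua.left]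
    [IsAffine Tb.left] (ιa : Ua ⟶ U) [IsOpenImmersion ιa.left] (ξb : (yon S).obj Tb ⟶ F) :
    ∃ (W : Over S) (w : W ⟶ Tb) (ε : (yon S).obj W ≅ pullback ((yon S).map ιa ≫ p) ξb),
      ε.hom ≫ pullback.snd ((yon S).map ιa ≫ p) ξb = (yon S).map w ∧ Etale w.left := by
  -- local lifts of `ξb`
  obtain ⟨R₀, hR₀, hlift⟩ := (epi_iff_locally_lift p).1 hepi Tb ξb
  obtain ⟨K, hfin, V, g, haff, hfl, hlfp, hsurj, hmem⟩ :=
    H10PT.CovDesc.exists_finite_affine_refinement R₀ hR₀
  have hl : ∀ k, ∃ a : V k ⟶ U, (yon S).map a ≫ p = (yon S).map (g k) ≫ ξb := by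
    intro k
    obtain ⟨x, hx⟩ := hlift (g k) (hmem k)
    obtain ⟨a, rfl⟩ := (yon S).map_surjective x
    exact ⟨a, hx⟩
  choose a ha using hl
  haveI := hfin
  haveI : ∀ k, IsAffine (V k).left := haff
  -- the coproduct of the cover
  obtain ⟨T', hT'⟩ : ∃ T' : Over S, T' = Over.mk (Sigma.desc fun k => (V k).hom) := ⟨_, rfl⟩
  subst hT'
  obtain ⟨ι, hι⟩ : ∃ ι : ∀ k, V k ⟶ Over.mk (Sigma.desc fun k => (V k).hom),
      ∀ k, (ι k).left = Sigma.ι (fun k => (V k).left) k :=
    ⟨fun k => Over.homMk (Sigma.ι (fun k => (V k).left) k) (by simp), fun k => rfl⟩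
  obtain ⟨p', hp'⟩ : ∃ p' : Over.mk (Sigma.desc fun k => (V k).hom) ⟶ Tb,
      p'.left = Sigma.desc fun k => (g k).left :=
    ⟨Over.homMk (Sigma.desc fun k => (g k).left) (by
      apply Sigma.hom_ext
      intro k
      simp [Over.w]), rfl⟩
  obtain ⟨a', ha'⟩ : ∃ a' : Over.mk (Sigma.desc fun k => (V k).hom) ⟶ U,
      a'.left = Sigma.desc fun k => (a k).left :=
    ⟨Over.homMk (Sigma.desc fun k => (a k).left) (by
      apply Sigma.hom_ext
      intro k
      simp [Over.w]), rfl⟩
  have hιp : ∀ k, ι k ≫ p' = g k := fun k => by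
    apply Over.OverMorphism.ext
    change (ι k).left ≫ p'.left = (g k).left
    rw [hι, hp', Sigma.ι_desc]
  have hιa : ∀ k, ι k ≫ a' = a k := fun k => by
    apply Over.OverMorphism.ext
    change (ι k).left ≫ a'.left = (a k).left
    rw [hι, ha', Sigma.ι_desc]
  have hιopen : ∀ k, IsOpenImmersion (ι k).left := fun k => by rw [hι]; infer_instance
  have hιsurj : ∀ x : (Over.mk (Sigma.desc fun k => (V k).hom)).left,
      ∃ k, x ∈ Set.range (ι k).left := by
    intro x
    obtain ⟨k, y, hy⟩ := (Scheme.IsLocallyDirected.openCover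
      (Discrete.functor fun k => (V k).left)).exists_eq x
    exact ⟨k.as, y, by rw [hι]; exact hy⟩
  have hlift' : (yon S).map a' ≫ p = (yon S).map p' ≫ ξb := by
    refine yon_hom_ext_of_open_cover V ι hιopen hιsurj _ _ (fun k => ?_)
    rw [← Category.assoc, ← Category.assoc, ← Functor.map_comp, ← Functor.map_comp, hιa, hιp, ha]
  haveI hTaff : IsAffine (Over.mk (Sigma.desc fun k => (V k).hom)).left :=
    inferInstanceAs (IsAffine (∐ fun k => (V k).left))
  haveI hp'fl : Flat p'.left := by
    rw [hp']; exact IsZariskiLocalAtSource.sigmaDesc (fun k => hfl k)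
  haveI hp'lfp : LocallyOfFinitePresentation p'.left := by
    rw [hp']; exact IsZariskiLocalAtSource.sigmaDesc (fun k => hlfp k)
  haveI hp'surj : Surjective p'.left := by
    rw [hp']
    apply Surjective.sigmaDesc_of_union_range_eq_univ
    rw [Set.eq_univ_iff_forall]
    intro x
    obtain ⟨k, hk⟩ := hsurj x
    exact Set.mem_iUnion.2 ⟨k, hk⟩
  haveI hp'qc : QuasiCompact p'.left :=
    HasAffineProperty.iff_of_isAffine.mpr (inferInstance : CompactSpace
      (Over.mk (Sigma.desc fun k => (V k).hom)).left)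
  -- the scheme `V' = T' ×_U R_a`
  obtain ⟨ta, hta⟩ : ∃ ta : pullback s ιa ⟶ U, ta = pullback.fst s ιa ≫ t := ⟨_, rfl⟩
  have hsqRa : IsPullback ((yon S).map ta) ((yon S).map (pullback.snd s ιa)) p
      ((yon S).map ιa ≫ p) := by rw [hta]; exact sqRa s t p hpb ιa
  haveI htasep : IsSeparated ta.left := by rw [hta]; exact isSeparated_ta s t hinj ιa
  haveI htaet : Etale ta.left := by rw [hta]; exact etale_ta s t het ιa
  have sqV : IsPullback (pullback.fst a' ta).left (pullback.snd a' ta).left a'.left ta.left :=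
    (IsPullback.of_hasPullback a' ta).map (Over.forget S)
  have hg'sep : IsSeparated (pullback.fst a' ta).left :=
    MorphismProperty.of_isPullback (P := @IsSeparated) sqV.flip inferInstance
  have hg'et : Etale (pullback.fst a' ta).left :=
    MorphismProperty.of_isPullback (P := @Etale) sqV.flip inferInstance
  have sqVy : IsPullback ((yon S).map (pullback.snd a' ta)) ((yon S).map (pullback.fst a' ta))
      ((yon S).map ta) ((yon S).map a') := ((IsPullback.of_hasPullback a' ta).map (yon S)).flip
  have big : IsPullback ((yon S).map (pullback.snd a' ta) ≫ (yon S).map (pullback.snd s ιa))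
      ((yon S).map (pullback.fst a' ta)) ((yon S).map ιa ≫ p) ((yon S).map p' ≫ ξb) := by
    rw [← hlift']
    exact sqVy.paste_horiz hsqRa.flip
  obtain ⟨fst', h1, h2⟩ : ∃ fst' : (yon S).obj (pullback a' ta) ⟶
      pullback ((yon S).map ιa ≫ p) ξb,
      fst' ≫ pullback.fst ((yon S).map ιa ≫ p) ξb =
        (yon S).map (pullback.snd a' ta) ≫ (yon S).map (pullback.snd s ιa) ∧
      fst' ≫ pullback.snd ((yon S).map ιa ≫ p) ξb =
        (yon S).map (pullback.fst a' ta) ≫ (yon S).map p' :=
    ⟨pullback.lift _ _ (by rw [Category.assoc]; exact big.w), pullback.lift_fst _ _ _,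
      pullback.lift_snd _ _ _⟩
  have sq' : IsPullback fst' ((yon S).map (pullback.fst a' ta))
      (pullback.snd ((yon S).map ιa ≫ p) ξb) ((yon S).map p') := by
    refine IsPullback.of_right ?_ h2 (IsPullback.of_hasPullback ((yon S).map ιa ≫ p) ξb)
    rw [h1]
    exact big
  -- effectivity
  haveI : IsSeparated (sheafDD (pullback.snd ((yon S).map ιa ≫ p) ξb) p' (pullback.fst a' ta) fst'
      sq').obj.hom := hg'sep
  haveI : LocallyOfFiniteType (sheafDD (pullback.snd ((yon S).map ιa ≫ p) ξb) p'
      (pullback.fst a' ta) fst' sq').obj.hom :=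
    (inferInstance : LocallyOfFiniteType (pullback.fst a' ta).left)
  haveI : LocallyQuasiFinite (sheafDD (pullback.snd ((yon S).map ιa ≫ p) ξb) p'
      (pullback.fst a' ta) fst' sq').obj.hom :=
    locallyQuasiFinite_of_etale (pullback.fst a' ta).left
  have heff := schDD_effective_of_sep_lqf_affine p'.left
    (sheafDD (pullback.snd ((yon S).map ιa ≫ p) ξb) p' (pullback.fst a' ta) fst' sq')
  obtain ⟨W, w, qW, ε, hpbW, hε1, -⟩ :=
    rep_of_effective (pullback.snd ((yon S).map ιa ≫ p) ξb) p' (pullback.fst a' ta) fst' sq' heff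
  refine ⟨W, w, ε, hε1, ?_⟩
  exact MorphismProperty.of_isPullback_of_descendsAlong (P := @Etale)
    (Q := (@Surjective ⊓ @Flat ⊓ @QuasiCompact : MorphismProperty Scheme.{u})) hpbW
    ⟨⟨inferInstance, inferInstance⟩, inferInstance⟩ hg'et

end Core

end H10PT.Desc
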