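import Groth.Agent.Lib.Helper10.DescG

/-!
# Helper library (helper10): reduction of effective descent along an arbitrary fppf cover to the
case of an fppf cover of an affine scheme by an affine scheme (sheaf form)

`rep_of_affine_case`: let `f : G ⟶ h_T` be a sheaf over a scheme, `p : T' ⟶ T` an fppf cover over
which `G` becomes representable by `g : V' ⟶ T'` with `Q g`, where `Q` is stable under base change
and descent data with property `Q` are effective along fppf covers of affine schemes by affine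
schemes. Then `G` is representable.
-/

set_option autoImplicit false
set_option backward.isDefEq.respectTransparency false
set_option backward.isDefEq.respectTransparency.types false
universe u
open CategoryTheory CategoryTheory.Limits AlgebraicGeometry Opposite

namespace H10PT.Desc

open AlgSp Groth.Agent.Lib.Helper16 Groth.Agent.Lib.Helper15 Groth.Agent.Lib.Helper16.GlueRep
  Groth.Agent.Lib.Helper28.EffDesc

variable {S : Scheme.{u}}

/-- the coproduct of a finite family of affine schemes over `S` mapping to `B` -/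
theorem exists_sigma {K : Type u} [Finite K] (V : K → Over S) [∀ k, IsAffine (V k).left]
    {B : Over S} (g : ∀ k, V k ⟶ B) :
    ∃ (X' : Over S) (ι : ∀ k, V k ⟶ X') (p' : X' ⟶ B), IsAffine X'.left ∧ (∀ k, ι k ≫ p' = g k) ∧
      (∀ {C : Over S} (ℓ : ∀ k, V k ⟶ C), ∃ ℓ' : X' ⟶ C, ∀ k, ι k ≫ ℓ' = ℓ k) ∧
      (∀ {C : Over S} (m m' : X' ⟶ C), (∀ k, ι k ≫ m = ι k ≫ m') → m = m') ∧
      ((∀ k, Flat (g k).left) → Flat p'.left) ∧
      ((∀ k, LocallyOfFinitePresentation (g k).left) → LocallyOfFinitePresentation p'.left) ∧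
      ((∀ x : B.left, ∃ k, x ∈ Set.range (g k).left) → Surjective p'.left) := by
  have hdesc : ∀ {C : Over S} (ℓ : ∀ k, V k ⟶ C),
      ∃ ℓ' : Over.mk (Sigma.desc fun k => (V k).hom) ⟶ C,
        ℓ'.left = Sigma.desc fun k => (ℓ k).left := fun {C} ℓ =>
    ⟨Over.homMk (Sigma.desc fun k => (ℓ k).left) (by
      apply Sigma.hom_ext
      intro k
      simp [Over.w]), rfl⟩
  obtain ⟨ι, hι⟩ : ∃ ι : ∀ k, V k ⟶ Over.mk (Sigma.desc fun k => (V k).hom),
      ∀ k, (ι k).left = Sigma.ι (fun k => (V k).left) k :=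
    ⟨fun k => Over.homMk (Sigma.ι (fun k => (V k).left) k) (by simp), fun k => rfl⟩
  obtain ⟨p', hp'⟩ := hdesc g
  have hfac : ∀ {C : Over S} (ℓ : ∀ k, V k ⟶ C)
      (ℓ' : Over.mk (Sigma.desc fun k => (V k).hom) ⟶ C),
      (ℓ'.left = Sigma.desc fun k => (ℓ k).left) → ∀ k, ι k ≫ ℓ' = ℓ k := by
    intro C ℓ ℓ' hℓ' k
    apply Over.OverMorphism.ext
    change (ι k).left ≫ ℓ'.left = (ℓ k).left
    rw [hι, hℓ', Sigma.ι_desc]
  refine ⟨Over.mk (Sigma.desc fun k => (V k).hom), ι, p',
    inferInstanceAs (IsAffine (∐ fun k => (V k).left)), hfac g p' hp', ?_, ?_, ?_, ?_, ?_⟩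
  · intro C ℓ
    obtain ⟨ℓ', hℓ'⟩ := hdesc ℓ
    exact ⟨ℓ', hfac ℓ ℓ' hℓ'⟩
  · intro C m m' h
    apply Over.OverMorphism.ext
    apply Sigma.hom_ext
    intro k
    have := congrArg CommaMorphism.left (h k)
    change (ι k).left ≫ m.left = (ι k).left ≫ m'.left at this
    rw [hι] at this
    exact this
  · intro h
    rw [hp']
    exact IsZariskiLocalAtSource.sigmaDesc (fun k => h k)
  · intro h
    rw [hp']
    exact IsZariskiLocalAtSource.sigmaDesc (fun k => h k)
  · intro h
    rw [hp']
    apply Surjective.sigmaDesc_of_union_range_eq_univ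
    rw [Set.eq_univ_iff_forall]
    intro x
    obtain ⟨k, hk⟩ := h x
    exact Set.mem_iUnion.2 ⟨k, hk⟩

variable {T T' V' : Over S} {G : Sp S} (f : G ⟶ (yon S).obj T) (p : T' ⟶ T)
  (g : V' ⟶ T') (fst : (yon S).obj V' ⟶ G)
  (sq : IsPullback fst ((yon S).map g) f ((yon S).map p))

include sq in
/-- the local case: representability over an affine open of `T` -/
theorem rep_over_affineOpen [Flat p.left] [Surjective p.left] [LocallyOfFinitePresentation p.left]
    (Q : MorphismProperty Scheme.{u}) [Q.IsStableUnderBaseChange]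
    (hQ : ∀ {X' S' : Scheme.{u}} (p' : X' ⟶ S') (_ : Flat p') (_ : Surjective p')
      (_ : LocallyOfFinitePresentation p') (_ : IsAffine X') (_ : IsAffine S')
      (D' : Desc.SchDD p'), Q D'.obj.hom → ∃ U : Over S', Nonempty ((Desc.toDD p').obj U ≅ D'))
    (hg : Q g.left) {Tb : Over S} [IsAffine Tb.left] (jb : Tb ⟶ T) :
    ∃ (Wb : Over S) (wb : Wb ⟶ Tb) (fb : (yon S).obj Wb ⟶ G),
      IsPullback fb ((yon S).map wb) f ((yon S).map jb) := by
  -- the fppf covering sieve of `Tb` of maps factoring through `T'`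
  have sqS : IsPullback (pullback.fst p jb).left (pullback.snd p jb).left p.left jb.left :=
    (IsPullback.of_hasPullback p jb).map (Over.forget S)
  haveI : Flat (pullback.snd p jb).left :=
    MorphismProperty.of_isPullback (P := @Flat) sqS inferInstance
  haveI : LocallyOfFinitePresentation (pullback.snd p jb).left :=
    MorphismProperty.of_isPullback (P := @LocallyOfFinitePresentation) sqS inferInstance
  haveI : Surjective (pullback.snd p jb).left :=
    MorphismProperty.of_isPullback (P := @Surjective) sqS inferInstance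
  have hR₀ : Sieve.generate (Presieve.singleton (pullback.snd p jb)) ∈ J S Tb :=
    sieve_mem_J_of_fppf (pullback.snd p jb) _
      ⟨_, 𝟙 _, pullback.snd p jb, Presieve.singleton.mk, Category.id_comp _⟩
  obtain ⟨K, hfin, V, gk, haff, hfl, hlfp, hsurj, hmem⟩ :=
    H10PT.CovDesc.exists_finite_affine_refinement _ hR₀
  have hl : ∀ k, ∃ ℓ : V k ⟶ T', ℓ ≫ p = gk k ≫ jb := by
    intro k
    obtain ⟨Y, h, gg, hgg, hcomp⟩ := hmem k
    obtain ⟨⟩ := hgg
    exact ⟨h ≫ pullback.fst p jb, by rw [Category.assoc, pullback.condition, ← Category.assoc, hcomp]⟩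
  choose ℓk hℓk using hl
  haveI := hfin
  haveI : ∀ k, IsAffine (V k).left := haff
  obtain ⟨X', ι, p', hX'aff, hιp, hdesc, hext, hpfl, hplfp, hpsurj⟩ := exists_sigma V gk
  obtain ⟨ℓ, hℓ⟩ := hdesc ℓk
  have hℓp : ℓ ≫ p = p' ≫ jb := by
    apply hext
    intro k
    rw [← Category.assoc, hℓ, hℓk, ← Category.assoc, hιp]
  haveI := hX'aff
  haveI := hpfl hfl
  haveI := hplfp hlfp
  haveI := hpsurj hsurj
  -- the base change of `V'`
  have sqV : IsPullback (pullback.fst g ℓ).left (pullback.snd g ℓ).left g.left ℓ.left :=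
    (IsPullback.of_hasPullback g ℓ).map (Over.forget S)
  have hQ' : Q (pullback.snd g ℓ).left := MorphismProperty.of_isPullback (P := Q) sqV hg
  have sqVy : IsPullback ((yon S).map (pullback.fst g ℓ)) ((yon S).map (pullback.snd g ℓ))
      ((yon S).map g) ((yon S).map ℓ) := (IsPullback.of_hasPullback g ℓ).map (yon S)
  have big : IsPullback ((yon S).map (pullback.fst g ℓ) ≫ fst) ((yon S).map (pullback.snd g ℓ)) f
      ((yon S).map p' ≫ (yon S).map jb) := by
    rw [← Functor.map_comp, ← hℓp, Functor.map_comp]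
    exact sqVy.paste_horiz sq
  obtain ⟨fst', h1, h2⟩ : ∃ fst' : (yon S).obj (pullback g ℓ) ⟶ pullback f ((yon S).map jb),
      fst' ≫ pullback.fst f ((yon S).map jb) = (yon S).map (pullback.fst g ℓ) ≫ fst ∧
      fst' ≫ pullback.snd f ((yon S).map jb) = (yon S).map (pullback.snd g ℓ) ≫ (yon S).map p' :=
    ⟨pullback.lift _ _ (by rw [Category.assoc]; exact big.w), pullback.lift_fst _ _ _,
      pullback.lift_snd _ _ _⟩
  have sq' : IsPullback fst' ((yon S).map (pullback.snd g ℓ)) (pullback.snd f ((yon S).map jb))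
      ((yon S).map p') := by
    refine IsPullback.of_right ?_ h2 (IsPullback.of_hasPullback f ((yon S).map jb))
    rw [h1]
    exact big
  have heff := hQ p'.left inferInstance inferInstance inferInstance inferInstance inferInstance
    (sheafDD (pullback.snd f ((yon S).map jb)) p' (pullback.snd g ℓ) fst' sq') hQ'
  obtain ⟨Wb, wb, -, εb, -, hεb, -⟩ :=
    rep_of_effective (pullback.snd f ((yon S).map jb)) p' (pullback.snd g ℓ) fst' sq' heff
  exact ⟨Wb, wb, εb.hom ≫ pullback.fst f ((yon S).map jb),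
    isPullback_iso_comp (IsPullback.of_hasPullback f ((yon S).map jb)) εb hεb⟩

include sq in
/-- **Reduction to the affine case**: a sheaf over `h_T` which becomes representable with property
`Q` over an fppf cover of `T` is representable, as soon as descent data with property `Q` are
effective along fppf covers of affine schemes by affine schemes. -/
theorem rep_of_affine_case [Flat p.left] [Surjective p.left] [LocallyOfFinitePresentation p.left]
    (Q : MorphismProperty Scheme.{u}) [Q.IsStableUnderBaseChange]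
    (hQ : ∀ {X' S' : Scheme.{u}} (p' : X' ⟶ S') (_ : Flat p') (_ : Surjective p')
      (_ : LocallyOfFinitePresentation p') (_ : IsAffine X') (_ : IsAffine S')
      (D' : Desc.SchDD p'), Q D'.obj.hom → ∃ U : Over S', Nonempty ((Desc.toDD p').obj U ≅ D'))
    (hg : Q g.left) :
    ∃ (W : Over S) (w : W ⟶ T) (q : V' ⟶ W) (ε : (yon S).obj W ≅ G),
      IsPullback g.left q.left p.left w.left ∧ ε.hom ≫ f = (yon S).map w ∧
        (yon S).map q ≫ ε.hom = fst := by
  have hb : ∀ b : T.left.affineOpens, ∃ (Wb : Over S) (wb : Wb ⟶ Over.mk (b.1.ι ≫ T.hom))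
      (fb : (yon S).obj Wb ⟶ G), IsPullback fb ((yon S).map wb) f
        ((yon S).map (Over.homMk b.1.ι rfl : Over.mk (b.1.ι ≫ T.hom) ⟶ T)) := by
    intro b
    haveI : IsAffine (Over.mk (b.1.ι ≫ T.hom)).left := b.2
    exact rep_over_affineOpen f p g fst sq Q hQ hg _
  choose Wb wb fb hsqb using hb
  obtain ⟨W, w, ε, k, hε, -, -, -, -⟩ :=
    rep_of_zariski_local f (fun b : T.left.affineOpens => Over.mk (b.1.ι ≫ T.hom)) Wb
      (fun b => Over.homMk b.1.ι rfl) wb fb
      (fun b => by change IsOpenImmersion b.1.ι; infer_instance)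
      (fun x => exists_affineOpen_mem x) hsqb
  obtain ⟨q, hq⟩ := (yon S).map_surjective (fst ≫ ε.inv)
  have hqε : (yon S).map q ≫ ε.hom = fst := by rw [hq, Category.assoc, Iso.inv_hom_id, Category.comp_id]
  have hcomm : q ≫ w = g ≫ p := by
    apply (yon S).map_injective
    rw [Functor.map_comp, Functor.map_comp, ← hε, ← Category.assoc, hqε, sq.w]
  have hy : IsPullback ((yon S).map q) ((yon S).map g) ((yon S).map w) ((yon S).map p) := by
    refine IsPullback.of_iso sq (Iso.refl _) ε.symm (Iso.refl _) (Iso.refl _) ?_ ?_ ?_ ?_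
    · rw [Iso.refl_hom, Category.id_comp, Iso.symm_hom, hq]
    · rw [Iso.refl_hom, Iso.refl_hom, Category.id_comp, Category.comp_id]
    · rw [Iso.refl_hom, Category.comp_id, Iso.symm_hom, ← hε, Iso.inv_hom_id_assoc]
    · rw [Iso.refl_hom, Iso.refl_hom, Category.id_comp, Category.comp_id]
  have hO : IsPullback q g w p := IsPullback.of_map (yon S) hcomm hy
  have hS : IsPullback q.left g.left w.left p.left := hO.map (Over.forget S)
  exact ⟨W, w, q, ε, hS.flip, hε, hqε⟩

end H10PT.Desc
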