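import Groth.Agent.Lib.Helper10.DescH
import Groth.Agent.Lib.Helper15.EpiRefines
import Groth.Agent.Lib.Helper16.SpCoprod

/-!
# Helper library (helper10): the quotient sheaf of a descent datum and effectivity along an
arbitrary fppf morphism

For a descent datum `D = (V, φ)` relative to `p : X ⟶ S` the relation `v ∼ φ(v)` on `V` is an
equivalence relation over `S`; its quotient sheaf `G` over `S` satisfies `G × h_X ≅ h_V`
(`exists_quot_sheaf`).  Combined with the reduction to the affine case this gives effectivity of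
descent data with a property `Q` along arbitrary fppf morphisms from the affine case
(`schDD_effective_of_affine_case`).
-/

set_option autoImplicit false
set_option backward.isDefEq.respectTransparency false
set_option backward.isDefEq.respectTransparency.types false
universe u
open CategoryTheory CategoryTheory.Limits AlgebraicGeometry Opposite

namespace H10PT.Desc

open AlgSp Groth.Agent.Lib.Helper16 Groth.Agent.Lib.Helper15 Groth.Agent.Lib.Helper16.GlueRep
  Groth.Agent.Lib.Helper28.EffDesc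

theorem isEqvRelSp_yon' {S : Scheme.{u}} {R U : Over S} (s t : R ⟶ U) (h : AlgSp.IsEqvRel s t) :
    AlgSp.IsEqvRelSp ((yon S).map s) ((yon S).map t) where
  injective T r r' h1 h2 := by
    obtain ⟨ρ, rfl⟩ := (yon S).map_surjective r
    obtain ⟨ρ', rfl⟩ := (yon S).map_surjective r'
    rw [← Functor.map_comp, ← Functor.map_comp] at h1 h2
    rw [h.injective T ρ ρ' ((yon S).map_injective h1) ((yon S).map_injective h2)]
  equivalence T := by
    have hE := h.equivalence T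
    have key : ∀ a b : T ⟶ U, (∃ r : (yon S).obj T ⟶ (yon S).obj R,
        r ≫ (yon S).map t = (yon S).map a ∧ r ≫ (yon S).map s = (yon S).map b) ↔
        (∃ r : T ⟶ R, r ≫ t = a ∧ r ≫ s = b) := by
      intro a b
      constructor
      · rintro ⟨r, h1, h2⟩
        obtain ⟨ρ, rfl⟩ := (yon S).map_surjective r
        rw [← Functor.map_comp] at h1 h2
        exact ⟨ρ, (yon S).map_injective h1, (yon S).map_injective h2⟩
      · rintro ⟨ρ, rfl, rfl⟩
        exact ⟨(yon S).map ρ, by rw [Functor.map_comp], by rw [Functor.map_comp]⟩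
    refine ⟨fun a => ?_, fun {a b} hab => ?_, fun {a b c} hab hbc => ?_⟩
    · obtain ⟨α, rfl⟩ := (yon S).map_surjective a
      exact (key α α).2 (hE.refl α)
    · obtain ⟨α, rfl⟩ := (yon S).map_surjective a
      obtain ⟨β, rfl⟩ := (yon S).map_surjective b
      exact (key β α).2 (hE.symm ((key α β).1 hab))
    · obtain ⟨α, rfl⟩ := (yon S).map_surjective a
      obtain ⟨β, rfl⟩ := (yon S).map_surjective b
      obtain ⟨γ, rfl⟩ := (yon S).map_surjective c
      exact (key α γ).2 (hE.trans ((key α β).1 hab) ((key β γ).1 hbc))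

section

variable {X S : Scheme.{u}} {p : X ⟶ S} (D : Desc.SchDD p)

/-- the first projection of the relation `X ×_S V ⇉ V` -/
noncomputable def e₁ : Over.mk (pullback.fst p (D.obj.hom ≫ p) ≫ p) ⟶ Over.mk (D.obj.hom ≫ p) :=
  Over.homMk (pullback.snd p (D.obj.hom ≫ p)) pullback.condition.symm

/-- the second projection of the relation `X ×_S V ⇉ V` -/
noncomputable def e₂ : Over.mk (pullback.fst p (D.obj.hom ≫ p) ≫ p) ⟶ Over.mk (D.obj.hom ≫ p) :=
  Over.homMk (satMap D) (by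
    change satMap D ≫ D.obj.hom ≫ p = pullback.fst p (D.obj.hom ≫ p) ≫ p
    rw [← Category.assoc, satMap_hom])

theorem e₁_left : (e₁ D).left = pullback.snd p (D.obj.hom ≫ p) := rfl

theorem e₂_left : (e₂ D).left = satMap D := rfl

theorem rel_cond {T₀ : Over S} (m₀ m₁ : T₀ ⟶ Over.mk (D.obj.hom ≫ p)) :
    (m₀.left ≫ D.obj.hom) ≫ p = (m₁.left ≫ D.obj.hom) ≫ p := by
  have h0 : m₀.left ≫ D.obj.hom ≫ p = T₀.hom := Over.w m₀
  have h1 : m₁.left ≫ D.obj.hom ≫ p = T₀.hom := Over.w m₁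
  rw [Category.assoc, Category.assoc, h0, h1]

/-- the relation on points of `V`: `m₁ = φ(m₀)` -/
def Rel {T₀ : Over S} (m₀ m₁ : T₀ ⟶ Over.mk (D.obj.hom ≫ p)) : Prop :=
  (D.φ (m₀.left ≫ D.obj.hom) (m₁.left ≫ D.obj.hom) (rel_cond D m₀ m₁) ⟨m₀.left, rfl⟩).1 = m₁.left

theorem rel_iff {T₀ : Over S} (m₀ m₁ : T₀ ⟶ Over.mk (D.obj.hom ≫ p)) :
    (∃ r : T₀ ⟶ Over.mk (pullback.fst p (D.obj.hom ≫ p) ≫ p), r ≫ e₂ D = m₁ ∧ r ≫ e₁ D = m₀) ↔
      Rel D m₀ m₁ := by
  constructor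
  · rintro ⟨r, h2, h1⟩
    obtain ⟨ρ, hρ⟩ : ∃ ρ : T₀.left ⟶ pullback p (D.obj.hom ≫ p), ρ = r.left := ⟨_, rfl⟩
    have h1' : ρ ≫ pullback.snd p (D.obj.hom ≫ p) = m₀.left := by
      rw [hρ]; exact congrArg CommaMorphism.left h1
    have h2' : ρ ≫ satMap D = m₁.left := by
      rw [hρ]; exact congrArg CommaMorphism.left h2
    have h3 : ρ ≫ pullback.fst p (D.obj.hom ≫ p) = m₁.left ≫ D.obj.hom := by
      rw [← h2', Category.assoc, satMap_hom]
    have hc : (ρ ≫ pullback.fst p (D.obj.hom ≫ p)) ≫ p =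
        (ρ ≫ pullback.snd p (D.obj.hom ≫ p)) ≫ D.obj.hom ≫ p := by
      rw [Category.assoc, Category.assoc, pullback.condition]
    have hl : pullback.lift (ρ ≫ pullback.fst p (D.obj.hom ≫ p))
        (ρ ≫ pullback.snd p (D.obj.hom ≫ p)) hc = ρ := by
      apply pullback.hom_ext
      · rw [pullback.lift_fst]
      · rw [pullback.lift_snd]
    have e := lift_satMap D (ρ ≫ pullback.fst p (D.obj.hom ≫ p))
      (ρ ≫ pullback.snd p (D.obj.hom ≫ p)) (by rw [Category.assoc]; exact hc.symm) hc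
    rw [hl, h2'] at e
    unfold Rel
    refine Eq.trans ?_ e.symm
    exact phi_congr D (by rw [h1']) h3.symm _ _ _ _ h1'.symm
  · intro h
    have hc : (m₁.left ≫ D.obj.hom) ≫ p = m₀.left ≫ D.obj.hom ≫ p := by
      rw [← Category.assoc]; exact (rel_cond D m₀ m₁).symm
    obtain ⟨r, hr⟩ : ∃ r : T₀ ⟶ Over.mk (pullback.fst p (D.obj.hom ≫ p) ≫ p),
        r.left = pullback.lift (m₁.left ≫ D.obj.hom) m₀.left hc := by
      refine ⟨Over.homMk (pullback.lift (m₁.left ≫ D.obj.hom) m₀.left hc) ?_, rfl⟩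
      change pullback.lift _ _ hc ≫ pullback.fst p (D.obj.hom ≫ p) ≫ p = T₀.hom
      rw [pullback.lift_fst_assoc, Category.assoc]
      exact Over.w m₁
    refine ⟨r, ?_, ?_⟩
    · apply Over.OverMorphism.ext
      change r.left ≫ satMap D = m₁.left
      rw [hr, lift_satMap D _ _ (rel_cond D m₀ m₁)]
      exact h
    · apply Over.OverMorphism.ext
      change r.left ≫ pullback.snd p (D.obj.hom ≫ p) = m₀.left
      rw [hr, pullback.lift_snd]

theorem rel_refl {T₀ : Over S} (m : T₀ ⟶ Over.mk (D.obj.hom ≫ p)) : Rel D m m :=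
  phi_self' D _ _ rfl _ _

theorem rel_lifts {T₀ : Over S} {m₀ m₁ : T₀ ⟶ Over.mk (D.obj.hom ≫ p)} (h : Rel D m₀ m₁) :
    D.φ (m₀.left ≫ D.obj.hom) (m₁.left ≫ D.obj.hom) (rel_cond D m₀ m₁) ⟨m₀.left, rfl⟩ =
      ⟨m₁.left, rfl⟩ := Subtype.ext h

theorem rel_symm {T₀ : Over S} {m₀ m₁ : T₀ ⟶ Over.mk (D.obj.hom ≫ p)} (h : Rel D m₀ m₁) :
    Rel D m₁ m₀ := by
  have e := D.φ_comp (m₀.left ≫ D.obj.hom) (m₁.left ≫ D.obj.hom) (m₀.left ≫ D.obj.hom)
    (rel_cond D m₀ m₁) (rel_cond D m₁ m₀) ⟨m₀.left, rfl⟩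
  rw [rel_lifts D h, D.φ_self] at e
  exact congrArg Subtype.val e

theorem rel_trans {T₀ : Over S} {m₀ m₁ m₂ : T₀ ⟶ Over.mk (D.obj.hom ≫ p)} (h : Rel D m₀ m₁)
    (h' : Rel D m₁ m₂) : Rel D m₀ m₂ := by
  have e := D.φ_comp (m₀.left ≫ D.obj.hom) (m₁.left ≫ D.obj.hom) (m₂.left ≫ D.obj.hom)
    (rel_cond D m₀ m₁) (rel_cond D m₁ m₂) ⟨m₀.left, rfl⟩
  rw [rel_lifts D h, rel_lifts D h'] at e
  exact (congrArg Subtype.val e).symm

theorem isEqvRel_e : AlgSp.IsEqvRel (e₁ D) (e₂ D) where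
  injective T₀ r r' h2 h1 := by
    obtain ⟨ρ, hρ⟩ : ∃ ρ : T₀.left ⟶ pullback p (D.obj.hom ≫ p), ρ = r.left := ⟨_, rfl⟩
    obtain ⟨ρ', hρ'⟩ : ∃ ρ' : T₀.left ⟶ pullback p (D.obj.hom ≫ p), ρ' = r'.left := ⟨_, rfl⟩
    have h1' : ρ ≫ pullback.snd p (D.obj.hom ≫ p) = ρ' ≫ pullback.snd p (D.obj.hom ≫ p) := by
      rw [hρ, hρ']; exact congrArg CommaMorphism.left h1
    have h2' : ρ ≫ satMap D = ρ' ≫ satMap D := by
      rw [hρ, hρ']; exact congrArg CommaMorphism.left h2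
    have h3 : ρ ≫ pullback.fst p (D.obj.hom ≫ p) = ρ' ≫ pullback.fst p (D.obj.hom ≫ p) := by
      have e1 : (ρ ≫ satMap D) ≫ D.obj.hom = ρ ≫ pullback.fst p (D.obj.hom ≫ p) := by
        rw [Category.assoc, satMap_hom]
      have e2 : (ρ' ≫ satMap D) ≫ D.obj.hom = ρ' ≫ pullback.fst p (D.obj.hom ≫ p) := by
        rw [Category.assoc, satMap_hom]
      rw [← e1, ← e2, h2']
    apply Over.OverMorphism.ext
    change r.left = r'.left
    rw [← hρ, ← hρ']
    exact pullback.hom_ext h3 h1'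
  equivalence T₀ := by
    refine ⟨fun m => ?_, fun {a b} hab => ?_, fun {a b c} hab hbc => ?_⟩
    · exact (rel_iff D m m).2 (rel_refl D m)
    · exact (rel_iff D a b).2 (rel_symm D ((rel_iff D b a).1 hab))
    · exact (rel_iff D c a).2 (rel_trans D ((rel_iff D c b).1 hbc) ((rel_iff D b a).1 hab))

/-- the quotient sheaf of a descent datum: `G × h_X ≅ h_V` -/
theorem exists_quot_sheaf :
    ∃ (G : Sp S) (π : (yon S).obj (Over.mk (D.obj.hom ≫ p)) ⟶ G)
      (f : G ⟶ (yon S).obj (Over.mk (𝟙 S)))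
      (ao : Over.mk (D.obj.hom ≫ p) ⟶ Over.mk p) (po : Over.mk p ⟶ Over.mk (𝟙 S)),
      ao.left = D.obj.hom ∧ po.left = p ∧
      IsPullback π ((yon S).map ao) f ((yon S).map po) ∧
      (yon S).map (e₂ D) ≫ π = (yon S).map (e₁ D) ≫ π := by
  have hterm := Groth.Agent.Lib.Helper16.SpCoprod.isTerminalOne S
  have hE := isEqvRelSp_yon' (e₁ D) (e₂ D) (isEqvRel_e D)
  have hkp := isPullback_quotSpπ hE
  obtain ⟨π, hπ⟩ : ∃ π : (yon S).obj (Over.mk (D.obj.hom ≫ p)) ⟶
      quotSp ((yon S).map (e₁ D)) ((yon S).map (e₂ D)),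
      π = quotSpπ ((yon S).map (e₁ D)) ((yon S).map (e₂ D)) := ⟨_, rfl⟩
  rw [← hπ] at hkp
  haveI hπepi : Epi π := by rw [hπ]; infer_instance
  have hcoeq : (yon S).map (e₂ D) ≫ π = (yon S).map (e₁ D) ≫ π := by
    rw [hπ]; exact (quotSp_condition _ _).symm
  obtain ⟨ao, hao⟩ : ∃ ao : Over.mk (D.obj.hom ≫ p) ⟶ Over.mk p, ao.left = D.obj.hom :=
    ⟨Over.homMk D.obj.hom rfl, rfl⟩
  obtain ⟨po, hpo⟩ : ∃ po : Over.mk p ⟶ Over.mk (𝟙 S), po.left = p :=
    ⟨Over.homMk p (Category.comp_id _), rfl⟩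
  refine ⟨_, π, hterm.from _, ao, po, hao, hpo, ?_, hcoeq⟩
  have cond : π ≫ hterm.from _ = (yon S).map ao ≫ (yon S).map po := hterm.hom_ext _ _
  obtain ⟨c, hc1, hc2⟩ : ∃ c : (yon S).obj (Over.mk (D.obj.hom ≫ p)) ⟶
      pullback (hterm.from (quotSp ((yon S).map (e₁ D)) ((yon S).map (e₂ D)))) ((yon S).map po),
      c ≫ pullback.fst _ _ = π ∧ c ≫ pullback.snd _ _ = (yon S).map ao :=
    ⟨pullback.lift _ _ cond, pullback.lift_fst _ _ _, pullback.lift_snd _ _ _⟩
  suffices hiso : IsIso c from IsPullback.of_iso_pullback ⟨cond⟩ (asIso c) hc1 hc2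
  haveI hmono : Mono c := by
    constructor
    intro Z α β hαβ
    apply sp_hom_ext
    intro T₀ z
    obtain ⟨m₀, hm₀⟩ := (yon S).map_surjective (z ≫ α)
    obtain ⟨m₁, hm₁⟩ := (yon S).map_surjective (z ≫ β)
    rw [← hm₀, ← hm₁]
    have hcc : (yon S).map m₀ ≫ c = (yon S).map m₁ ≫ c := by
      rw [hm₀, hm₁, Category.assoc, Category.assoc, hαβ]
    have h1 : (yon S).map m₀ ≫ π = (yon S).map m₁ ≫ π := by
      rw [← hc1, ← Category.assoc, hcc, Category.assoc]
    have h2 : m₀ ≫ ao = m₁ ≫ ao := by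
      apply (yon S).map_injective
      rw [Functor.map_comp, Functor.map_comp, ← hc2, ← Category.assoc, hcc, Category.assoc]
    obtain ⟨r, hr⟩ := (yon S).map_surjective (hkp.lift _ _ h1)
    have hr2 : r ≫ e₂ D = m₀ := by
      apply (yon S).map_injective
      rw [Functor.map_comp, hr, hkp.lift_fst]
    have hr1 : r ≫ e₁ D = m₁ := by
      apply (yon S).map_injective
      rw [Functor.map_comp, hr, hkp.lift_snd]
    have hrel : Rel D m₁ m₀ := (rel_iff D m₁ m₀).1 ⟨r, hr2, hr1⟩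
    have h2' : m₀.left ≫ D.obj.hom = m₁.left ≫ D.obj.hom := by
      have := congrArg CommaMorphism.left h2
      change m₀.left ≫ ao.left = m₁.left ≫ ao.left at this
      rw [hao] at this
      exact this
    have hself : (D.φ (m₁.left ≫ D.obj.hom) (m₀.left ≫ D.obj.hom) (rel_cond D m₁ m₀)
        ⟨m₁.left, rfl⟩).1 = m₁.left := phi_self' D _ _ h2'.symm _ _
    have : m₀ = m₁ := by
      apply Over.OverMorphism.ext
      exact hrel.symm.trans hself
    rw [this]
  haveI hepi : Epi c := by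
    rw [epi_iff_locally_lift]
    intro T₀ y
    obtain ⟨x₀, hx₀⟩ := (yon S).map_surjective (y ≫ pullback.snd _ _)
    obtain ⟨R, hR, hlift⟩ := (epi_iff_locally_lift π).1 hπepi T₀ (y ≫ pullback.fst _ _)
    refine ⟨R, hR, fun T₁ k hk => ?_⟩
    obtain ⟨v, hv⟩ := hlift k hk
    obtain ⟨v₀, rfl⟩ := (yon S).map_surjective v
    have hkx : (k ≫ x₀).left ≫ p = T₁.hom := Over.w (k ≫ x₀)
    have hv₀ : v₀.left ≫ D.obj.hom ≫ p = T₁.hom := Over.w v₀
    have h : (v₀.left ≫ D.obj.hom) ≫ p = (k ≫ x₀).left ≫ p := by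
      rw [Category.assoc, hv₀, hkx]
    obtain ⟨v₁, hv₁⟩ : ∃ v₁ : T₁ ⟶ Over.mk (D.obj.hom ≫ p),
        v₁.left = (D.φ (v₀.left ≫ D.obj.hom) (k ≫ x₀).left h ⟨v₀.left, rfl⟩).1 := by
      refine ⟨Over.homMk (D.φ (v₀.left ≫ D.obj.hom) (k ≫ x₀).left h ⟨v₀.left, rfl⟩).1 ?_, rfl⟩
      change _ ≫ D.obj.hom ≫ p = T₁.hom
      rw [← Category.assoc, phi_hom]
      exact hkx
    have hv₁a : v₁ ≫ ao = k ≫ x₀ := by
      apply Over.OverMorphism.ext
      change v₁.left ≫ ao.left = (k ≫ x₀).left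
      rw [hv₁, hao, phi_hom]
    have hrel : Rel D v₀ v₁ := by
      unfold Rel
      refine Eq.trans ?_ hv₁.symm
      exact phi_congr D rfl (by rw [hv₁, phi_hom]) _ _ _ _ rfl
    obtain ⟨r, hr2, hr1⟩ := (rel_iff D v₀ v₁).2 hrel
    have hπ' : (yon S).map v₁ ≫ π = (yon S).map v₀ ≫ π := by
      rw [← hr2, ← hr1, Functor.map_comp, Functor.map_comp, Category.assoc, Category.assoc, hcoeq]
    refine ⟨(yon S).map v₁, ?_⟩
    apply pullback.hom_ext
    · rw [Category.assoc, hc1, hπ', hv, Category.assoc]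
    · rw [Category.assoc, hc2, ← Functor.map_comp, hv₁a, Functor.map_comp, hx₀, Category.assoc]
  exact isIso_of_mono_of_epi c

/-- **Effectivity along arbitrary fppf morphisms from the affine case.** -/
theorem schDD_effective_of_affine_case [Flat p] [Surjective p] [LocallyOfFinitePresentation p]
    (Q : MorphismProperty Scheme.{u}) [Q.IsStableUnderBaseChange]
    (hQ : ∀ {X' S' : Scheme.{u}} (p' : X' ⟶ S') (_ : Flat p') (_ : Surjective p')
      (_ : LocallyOfFinitePresentation p') (_ : IsAffine X') (_ : IsAffine S')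
      (D' : Desc.SchDD p'), Q D'.obj.hom → ∃ U : Over S', Nonempty ((Desc.toDD p').obj U ≅ D'))
    (hD : Q D.obj.hom) : ∃ U : Over S, Nonempty ((Desc.toDD p).obj U ≅ D) := by
  obtain ⟨G, π, f, ao, po, hao, hpo, sq, hcoeq⟩ := exists_quot_sheaf D
  haveI : Flat po.left := by rw [hpo]; infer_instance
  haveI : Surjective po.left := by rw [hpo]; infer_instance
  haveI : LocallyOfFinitePresentation po.left := by rw [hpo]; infer_instance
  obtain ⟨W, w, q, ε, hpbW, -, hε2⟩ := rep_of_affine_case f po ao π sq Q hQ (by rw [hao]; exact hD)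
  rw [hao, hpo] at hpbW
  have heq : e₂ D ≫ q = e₁ D ≫ q := by
    apply (yon S).map_injective
    have hq : (yon S).map q = π ≫ ε.inv := by rw [← hε2, Category.assoc, Iso.hom_inv_id, Category.comp_id]
    rw [Functor.map_comp, Functor.map_comp, hq, ← Category.assoc, hcoeq, Category.assoc]
  have hsat : satMap D ≫ q.left = pullback.snd p (D.obj.hom ≫ p) ≫ q.left :=
    congrArg CommaMorphism.left heq
  have hinv : IsInv D q.left := by
    intro T₀ x₀ x₁ h v
    have hv : (v.1 ≫ D.obj.hom) ≫ p = x₁ ≫ p := by rw [show v.1 ≫ D.obj.hom = x₀ from v.2]; exact h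
    have hc : x₁ ≫ p = v.1 ≫ D.obj.hom ≫ p := by rw [← Category.assoc]; exact hv.symm
    have e := lift_satMap D x₁ v.1 hv hc
    have e' : (D.φ x₀ x₁ h v).1 = (D.φ (v.1 ≫ D.obj.hom) x₁ hv ⟨v.1, rfl⟩).1 :=
      phi_congr D v.2.symm rfl _ _ _ _ rfl
    rw [e', ← e, Category.assoc, hsat, ← Category.assoc, pullback.lift_snd]
  exact ⟨Over.mk w.left, effective_of_quot D w.left q.left hpbW hinv⟩

end

end H10PT.Desc
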