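import Mathlib
import Groth.Agent.Lib.Helper10.MonoQC4

/-!
# Noetherian induction for quasi-compactness of fibre products, general form

The lemmas of `MonoQC3`, `MonoQC4` with the generic step abstracted into the hypothesis `AwayQC f`:
over every domain `B` and every `Spec B ⟶ 𝒳`, some nonempty basic open `D(h)` has `QCAll`.

* `AwayQC`, `qcOnIdeal_step'`, `qcOn_of_noetherian'`, `qcAll_of_noetherian'`,
  `isQuasiCompact_fp_affine_piece'`, `qcAll_of_isLocallyNoetherian'`.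
-/

set_option autoImplicit false
set_option backward.isDefEq.respectTransparency false
set_option backward.isDefEq.respectTransparency.types false

universe u

open CategoryTheory CategoryTheory.Limits AlgebraicGeometry Opposite

namespace H10PT.MonoQC

open Groth.Agent.Lib.Helper10.Fib Groth.Agent.Lib.Helper10.Gerbe Groth.Agent.Lib.Helper10.AlgStRep
open Groth.Agent.Lib.Helper28.AlgSt.ChartOver Groth.Agent.Lib.Helper28.AlgSt.SpaceCalc
open Groth.Agent.Lib.Helper28.AlgSt.PropInst Groth.Agent.Lib.Helper28.AlgSt.Key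
open Groth.Agent.Lib.Helper28.AlgSt.IsoEquiv Groth.Agent.Lib.Helper28.AlgSt.Descent
open Groth.Agent.Lib.Helper16 Groth.Agent.Lib.Helper16.AlgStDC
open Groth.Agent.Lib.Helper28.AlgSt.Whisker

variable {S : Scheme.{u}} {𝒳 𝒴 : AlgSt.Cat S}

/-- The generic step: over every domain `B` and every `Spec B ⟶ 𝒳`, some nonempty basic open `D(h)`
has `QCAll`. -/
def AwayQC (f : 𝒴 ⥤ᵇ 𝒳) : Prop :=
  ∀ (B : Type u) [CommRing B] [IsDomain B] (sB : Spec (CommRingCat.of B) ⟶ S)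
    (aB : FibCat.overCat (Over.mk sB) ⥤ᵇ 𝒳),
    ∃ h : B, h ≠ 0 ∧ QCAll f (BasedFunctor.comp (AlgSt.overMap (awayHom sB h)) aB)

theorem qcOnIdeal_step' (h𝒳 : AlgSt.IsAlgStack Scheme.fppfPrecoverage 𝒳)
    (h𝒴 : AlgSt.IsAlgStack Scheme.fppfPrecoverage 𝒴) (f : 𝒴 ⥤ᵇ 𝒳) (hDD : AwayQC f) (A : Type u) [CommRing A]
    (sA : Spec (CommRingCat.of A) ⟶ S) (a₀ : FibCat.overCat (Over.mk sA) ⥤ᵇ 𝒳) (I : Ideal A)
    (IH : ∀ J : Ideal A, I < J → QCOnIdeal f sA a₀ J) : QCOnIdeal f sA a₀ I := by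
  intro T _ G hG
  haveI hX : IsAffine (Over.mk sA).left := (inferInstance : IsAffine (Spec (CommRingCat.of A)))
  have closedPiece : ∀ J : Ideal A, I < J →
      QCAll f (BasedFunctor.comp (AlgSt.overMap (quotHom sA J)) a₀) := by
    intro J hIJ T' _ G'
    refine IH J hIJ T' (BasedFunctor.comp G' (AlgSt.overMap (quotHom sA J))) (fun t => ?_)
    rw [homOfOver_comp_overMap]
    exact quot_point_le J _
  by_cases hI : I.IsPrime
  · haveI := hI
    obtain ⟨h, hh0, hQ⟩ := hDD (A ⧸ I)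
      (Spec.map (CommRingCat.ofHom (Ideal.Quotient.mk I)) ≫ sA)
      (BasedFunctor.comp (AlgSt.overMap (quotHom sA I)) a₀)
    obtain ⟨h', rfl⟩ := Ideal.Quotient.mk_surjective h
    have hh' : h' ∉ I := fun hm => hh0 (Ideal.Quotient.eq_zero_iff_mem.2 hm)
    obtain ⟨J, hJ⟩ : ∃ J : Ideal A, J = I ⊔ Ideal.span {h'} := ⟨_, rfl⟩
    have hh'J : h' ∈ J := by
      rw [hJ]
      exact Ideal.mem_sup_right (Ideal.subset_span (Set.mem_singleton h'))
    have hIJ : I < J := by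
      refine lt_of_le_of_ne (by rw [hJ]; exact le_sup_left) (fun e => hh' ?_)
      rw [e]
      exact hh'J
    haveI hZ1 : IsAffine (Over.mk (Spec.map (CommRingCat.ofHom
        (algebraMap (A ⧸ I) (Localization.Away (Ideal.Quotient.mk I h')))) ≫
        Spec.map (CommRingCat.ofHom (Ideal.Quotient.mk I)) ≫ sA)).left :=
      (inferInstance : IsAffine (Spec _))
    haveI hZ2 : IsAffine (Over.mk (Spec.map (CommRingCat.ofHom (Ideal.Quotient.mk J)) ≫ sA)).left :=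
      (inferInstance : IsAffine (Spec _))
    refine isQuasiCompact_fp_of_two_pieces h𝒳 h𝒴 f (Over.mk sA) a₀ T G _ _
      (awayHom (Spec.map (CommRingCat.ofHom (Ideal.Quotient.mk I)) ≫ sA) (Ideal.Quotient.mk I h') ≫
        quotHom sA I) (quotHom sA J) ?_ ?_ (closedPiece J hIJ)
    · intro t
      obtain ⟨x, hx⟩ : ∃ x : ↥(Spec (CommRingCat.of A)), x = (homOfOver G).left t := ⟨_, rfl⟩
      have hIx : I ≤ x.asIdeal := by rw [hx]; exact hG t
      by_cases hxh : h' ∈ x.asIdeal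
      · right
        have hJx : J ≤ x.asIdeal := by
          rw [hJ]
          exact sup_le hIx ((Ideal.span_singleton_le_iff_mem _).2 hxh)
        obtain ⟨z, hz⟩ := exists_quot_point J x hJx
        exact ⟨z, hz.trans hx⟩
      · left
        obtain ⟨p, hp⟩ := exists_quot_point I x hIx
        have hph : Ideal.Quotient.mk I h' ∉ p.asIdeal := by
          intro hm
          apply hxh
          rw [← hp]
          exact hm
        obtain ⟨z, hz⟩ := exists_away_point (Ideal.Quotient.mk I h') p hph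
        refine ⟨z, ?_⟩
        show (Spec.map (CommRingCat.ofHom (Ideal.Quotient.mk I)))
          ((Spec.map (CommRingCat.ofHom (algebraMap (A ⧸ I)
            (Localization.Away (Ideal.Quotient.mk I h'))))) z) = _
        rw [hz, hp, hx]
    · exact hQ.of_iso (wr (overMapCompIso _ _).symm a₀)
  · rcases Ideal.not_isPrime_iff.1 hI with hI | ⟨x, hx, y, hy, hxy⟩
    · apply isQuasiCompact_fp_of_isEmpty h𝒳 h𝒴
      refine ⟨fun t => ?_⟩
      have h1 := hG t
      rw [hI] at h1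
      exact ((homOfOver G).left t : ↥(Spec (CommRingCat.of A))).isPrime.ne_top (top_le_iff.1 h1)
    · obtain ⟨J₁, hJ₁⟩ : ∃ J : Ideal A, J = I ⊔ Ideal.span {x} := ⟨_, rfl⟩
      obtain ⟨J₂, hJ₂⟩ : ∃ J : Ideal A, J = I ⊔ Ideal.span {y} := ⟨_, rfl⟩
      have hxJ : x ∈ J₁ := by
        rw [hJ₁]
        exact Ideal.mem_sup_right (Ideal.subset_span (Set.mem_singleton x))
      have hyJ : y ∈ J₂ := by
        rw [hJ₂]
        exact Ideal.mem_sup_right (Ideal.subset_span (Set.mem_singleton y))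
      have hIJ₁ : I < J₁ := by
        refine lt_of_le_of_ne (by rw [hJ₁]; exact le_sup_left) (fun e => hx ?_)
        rw [e]
        exact hxJ
      have hIJ₂ : I < J₂ := by
        refine lt_of_le_of_ne (by rw [hJ₂]; exact le_sup_left) (fun e => hy ?_)
        rw [e]
        exact hyJ
      haveI hZ1 : IsAffine (Over.mk (Spec.map (CommRingCat.ofHom (Ideal.Quotient.mk J₁)) ≫
          sA)).left := (inferInstance : IsAffine (Spec _))
      haveI hZ2 : IsAffine (Over.mk (Spec.map (CommRingCat.ofHom (Ideal.Quotient.mk J₂)) ≫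
          sA)).left := (inferInstance : IsAffine (Spec _))
      refine isQuasiCompact_fp_of_two_pieces h𝒳 h𝒴 f (Over.mk sA) a₀ T G _ _
        (quotHom sA J₁) (quotHom sA J₂) ?_ (closedPiece J₁ hIJ₁) (closedPiece J₂ hIJ₂)
      intro t
      obtain ⟨x', hx'⟩ : ∃ x' : ↥(Spec (CommRingCat.of A)), x' = (homOfOver G).left t := ⟨_, rfl⟩
      have hIx : I ≤ x'.asIdeal := by rw [hx']; exact hG t
      rcases x'.isPrime.mem_or_mem (hIx hxy) with hm | hm
      · left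
        have hJx : J₁ ≤ x'.asIdeal := by
          rw [hJ₁]
          exact sup_le hIx ((Ideal.span_singleton_le_iff_mem _).2 hm)
        obtain ⟨z, hz⟩ := exists_quot_point J₁ x' hJx
        exact ⟨z, hz.trans hx'⟩
      · right
        have hJx : J₂ ≤ x'.asIdeal := by
          rw [hJ₂]
          exact sup_le hIx ((Ideal.span_singleton_le_iff_mem _).2 hm)
        obtain ⟨z, hz⟩ := exists_quot_point J₂ x' hJx
        exact ⟨z, hz.trans hx'⟩

/-- Noetherian induction: over a Noetherian ring `A`, for `a₀ : Spec A ⟶ 𝒳` and every ideal `I`,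
affine schemes over `Spec A` landing in `V(I)` have quasi-compact fibre product with `f`. -/
theorem qcOn_of_noetherian' (h𝒳 : AlgSt.IsAlgStack Scheme.fppfPrecoverage 𝒳)
    (h𝒴 : AlgSt.IsAlgStack Scheme.fppfPrecoverage 𝒴) (f : 𝒴 ⥤ᵇ 𝒳) (hDD : AwayQC f) (A : Type u) [CommRing A] [IsNoetherianRing A]
    (sA : Spec (CommRingCat.of A) ⟶ S) (a₀ : FibCat.overCat (Over.mk sA) ⥤ᵇ 𝒳) (I : Ideal A) :
    QCOnIdeal f sA a₀ I :=
  IsNoetherian.induction (P := fun I : Ideal A => QCOnIdeal f sA a₀ I)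
    (fun I IH => qcOnIdeal_step' h𝒳 h𝒴 f hDD A sA a₀ I (fun J hJ => IH J hJ)) I

/-- Over a Noetherian ring `A`, every `a₀ : Spec A ⟶ 𝒳` has `QCAll`. -/
theorem qcAll_of_noetherian' (h𝒳 : AlgSt.IsAlgStack Scheme.fppfPrecoverage 𝒳)
    (h𝒴 : AlgSt.IsAlgStack Scheme.fppfPrecoverage 𝒴) (f : 𝒴 ⥤ᵇ 𝒳) (hDD : AwayQC f) (A : Type u) [CommRing A] [IsNoetherianRing A]
    (sA : Spec (CommRingCat.of A) ⟶ S) (a₀ : FibCat.overCat (Over.mk sA) ⥤ᵇ 𝒳) :
    QCAll f a₀ := fun T _ G =>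
  qcOn_of_noetherian' h𝒳 h𝒴 f hDD A sA a₀ ⊥ T G (fun _ => bot_le)


theorem isQuasiCompact_fp_affine_piece' (h𝒳 : AlgSt.IsAlgStack Scheme.fppfPrecoverage 𝒳)
    (h𝒴 : AlgSt.IsAlgStack Scheme.fppfPrecoverage 𝒴) (f : 𝒴 ⥤ᵇ 𝒳) (hDD : AwayQC f) (W : Over S) [IsLocallyNoetherian W.left] (w : FibCat.overCat W ⥤ᵇ 𝒳)
    (T : Over S) (G : FibCat.overCat T ⥤ᵇ FibCat.overCat W) (U : T.left.Opens) (O : W.left.Opens)
    (hU : IsAffineOpen U) (hO : IsAffineOpen O) (hUO : U ≤ (homOfOver G).left ⁻¹ᵁ O) :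
    AlgSt.IsQuasiCompact (FibCat.fp (BasedFunctor.comp
      (AlgSt.overMap (Over.homMk U.ι rfl : Over.mk (U.ι ≫ T.hom) ⟶ T))
      (BasedFunctor.comp G w)) f) := by
  obtain ⟨g, hg⟩ : ∃ g : T ⟶ W, g = homOfOver G := ⟨_, rfl⟩
  rw [← hg] at hUO
  haveI : IsNoetherianRing Γ(W.left, O) := IsLocallyNoetherian.component_noetherian ⟨O, hO⟩
  obtain ⟨φ, hφ⟩ : ∃ φ : Over.mk (hO.fromSpec ≫ W.hom) ⟶ W, φ = Over.homMk hO.fromSpec rfl :=
    ⟨_, rfl⟩
  have Q : QCAll f (BasedFunctor.comp (AlgSt.overMap φ) w) :=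
    qcAll_of_noetherian' h𝒳 h𝒴 f hDD (↑Γ(W.left, O)) (hO.fromSpec ≫ W.hom) _
  haveI : IsAffine (Over.mk (U.ι ≫ T.hom)).left := hU
  obtain ⟨m, hm⟩ : ∃ m : U.toScheme ⟶ Spec Γ(W.left, O), m ≫ hO.fromSpec = U.ι ≫ g.left :=
    ⟨g.left.resLE O U hUO ≫ hO.isoSpec.hom, by
      rw [Category.assoc, IsAffineOpen.isoSpec_hom_fromSpec, Scheme.Hom.resLE_comp_ι]⟩
  have hmw : m ≫ hO.fromSpec ≫ W.hom = U.ι ≫ T.hom := by
    rw [← Category.assoc, hm, Category.assoc, Over.w g]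
  obtain ⟨m', hm'⟩ : ∃ m' : Over.mk (U.ι ≫ T.hom) ⟶ Over.mk (hO.fromSpec ≫ W.hom),
      m' = Over.homMk m hmw := ⟨_, rfl⟩
  have hq := Q _ (AlgSt.overMap m')
  have heq : homOfOver (BasedFunctor.comp
      (AlgSt.overMap (Over.homMk U.ι rfl : Over.mk (U.ι ≫ T.hom) ⟶ T)) G) =
      homOfOver (BasedFunctor.comp (AlgSt.overMap m') (AlgSt.overMap φ)) := by
    rw [homOfOver_overMap_comp, homOfOver_overMap_comp, homOfOver_overMap, ← hg, hm', hφ]
    apply Over.OverMorphism.ext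
    exact hm.symm
  exact isQuasiCompact_fp_of_iso_left f _ _ (wr (isoOfHomEq _ _ heq) w) hq

/-- For a locally Noetherian scheme `W` and `w : (Sch/W) ⟶ 𝒳`, every affine scheme over `W` has
quasi-compact fibre product with `f`. -/
theorem qcAll_of_isLocallyNoetherian' (h𝒳 : AlgSt.IsAlgStack Scheme.fppfPrecoverage 𝒳)
    (h𝒴 : AlgSt.IsAlgStack Scheme.fppfPrecoverage 𝒴) (f : 𝒴 ⥤ᵇ 𝒳) (hDD : AwayQC f) (W : Over S) [IsLocallyNoetherian W.left] (w : FibCat.overCat W ⥤ᵇ 𝒳) :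
    QCAll f w := by
  intro T _ G
  have key : ∀ t : ↥T.left, ∃ (U : T.left.Opens) (O : W.left.Opens), IsAffineOpen U ∧
      IsAffineOpen O ∧ t ∈ U ∧ U ≤ (homOfOver G).left ⁻¹ᵁ O := by
    intro t
    obtain ⟨_, ⟨O, hO, rfl⟩, hxO, -⟩ := W.left.isBasis_affineOpens.exists_subset_of_mem_open
      (Set.mem_univ ((homOfOver G).left t)) isOpen_univ
    obtain ⟨_, ⟨U, hU, rfl⟩, htU, hUO⟩ := T.left.isBasis_affineOpens.exists_subset_of_mem_open
      (show t ∈ ((homOfOver G).left ⁻¹ᵁ O : Set ↥T.left) from hxO)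
      ((homOfOver G).left ⁻¹ᵁ O).isOpen
    exact ⟨U, O, hU, hO, htU, hUO⟩
  choose U O hU hO htU hUO using key
  obtain ⟨s, hs⟩ := isCompact_univ.elim_finite_subcover (fun t : ↥T.left => (U t : Set ↥T.left))
    (fun t => (U t).isOpen) (fun t _ => Set.mem_iUnion.2 ⟨t, htU t⟩)
  refine isQuasiCompact_fp_of_finite_cover h𝒳 h𝒴 f T (BasedFunctor.comp G w) (ι := ↥s)
    (fun k => Over.mk ((U k.1).ι ≫ T.hom)) (fun k => Over.homMk (U k.1).ι rfl) ?_ ?_
  · intro t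
    have ht := hs (Set.mem_univ t)
    simp only [Set.mem_iUnion] at ht
    obtain ⟨k, hk, htk⟩ := ht
    exact ⟨⟨k, hk⟩, ⟨t, htk⟩, rfl⟩
  · intro k
    exact isQuasiCompact_fp_affine_piece' h𝒳 h𝒴 f hDD W w T G (U k.1) (O k.1) (hU k.1) (hO k.1)
      (hUO k.1)


end H10PT.MonoQC
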