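import Mathlib
import Groth.Agent.Lib.Helper10.NoethQC

/-!
# Functors into a product over the base

* `selfOver_hom_ext`: morphisms of the base (as a category over itself) over an identity are unique.
* `nonempty_iso_of_fst_snd`: two functors into `𝒜 ×_{(Sch/S)} ℬ` whose two projections are
  2-isomorphic are 2-isomorphic.
-/

set_option autoImplicit false
set_option backward.isDefEq.respectTransparency false
set_option backward.isDefEq.respectTransparency.types false

universe u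

open CategoryTheory CategoryTheory.Limits AlgebraicGeometry Opposite

namespace H10PT.DiagQC

open Groth.Agent.Lib.Helper10.Fib Groth.Agent.Lib.Helper10.Gerbe Groth.Agent.Lib.Helper10.AlgStRep
open Groth.Agent.Lib.Helper28.AlgSt.ChartOver
open Groth.Agent.Lib.Helper28.AlgSt.Whisker

theorem selfOver_hom_ext {C : Type*} [Category C] {a b : (FibCat.selfOver C).obj} {X : C}
    (φ ψ : a ⟶ b) (hφ : (FibCat.selfOver C).p.IsHomLift (𝟙 X) φ)
    (hψ : (FibCat.selfOver C).p.IsHomLift (𝟙 X) ψ) : φ = ψ := by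
  have h1 := IsHomLift.fac' (FibCat.selfOver C).p (𝟙 X) φ
  have h2 := IsHomLift.fac' (FibCat.selfOver C).p (𝟙 X) ψ
  exact h1.trans h2.symm

variable {S : Scheme.{u}} {𝒜 ℬ 𝒵 : AlgSt.Cat S}

theorem nonempty_iso_of_fst_snd (h𝒜 : FibCat.IsFibGrpd 𝒜.p) (hℬ : FibCat.IsFibGrpd ℬ.p)
    (f : 𝒜 ⥤ᵇ FibCat.selfOver (Over S)) (g : ℬ ⥤ᵇ FibCat.selfOver (Over S))
    (c c' : 𝒵 ⥤ᵇ FibCat.fp f g)
    (α : BasedFunctor.comp c (FibCat.fpFst f g) ≅ BasedFunctor.comp c' (FibCat.fpFst f g))
    (β : BasedFunctor.comp c (FibCat.fpSnd f g) ≅ BasedFunctor.comp c' (FibCat.fpSnd f g)) :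
    Nonempty (c ≅ c') := by
  have hself : FibCat.IsFibGrpd (FibCat.selfOver (Over S)).p :=
    (isAlgStack_selfOver (S := S)).isStack.1
  have hfp : FibCat.IsFibGrpd (FibCat.fp f g).p := isFibGrpd_fp f g h𝒜 hℬ hself
  have w : ∀ z : 𝒵.obj, f.map (α.hom.toNatTrans.app z) ≫ (c'.obj z).obj.iso.hom =
      (c.obj z).obj.iso.hom ≫ g.map (β.hom.toNatTrans.app z) := by
    intro z
    have e1 : 𝒜.p.obj (c.obj z).obj.fst = 𝒵.p.obj z := c.w_obj z
    have e2 : 𝒜.p.obj (c'.obj z).obj.fst = 𝒵.p.obj z := c'.w_obj z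
    haveI h1 : 𝒜.p.IsHomLift (𝟙 (𝒵.p.obj z)) (α.hom.toNatTrans.app z) := α.hom.isHomLift' z
    haveI h2 : ℬ.p.IsHomLift (𝟙 (𝒵.p.obj z)) (β.hom.toNatTrans.app z) := β.hom.isHomLift' z
    haveI h3 : (FibCat.selfOver (Over S)).p.IsHomLift (𝟙 (𝒵.p.obj z)) (c'.obj z).obj.iso.hom := by
      haveI : (FibCat.selfOver (Over S)).p.IsHomLift (𝟙 (𝒜.p.obj (c'.obj z).obj.fst))
        (c'.obj z).obj.iso.hom := (c'.obj z).property
      exact isHomLift_id_of_eq _ e2 _
    haveI h4 : (FibCat.selfOver (Over S)).p.IsHomLift (𝟙 (𝒵.p.obj z)) (c.obj z).obj.iso.hom := by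
      haveI : (FibCat.selfOver (Over S)).p.IsHomLift (𝟙 (𝒜.p.obj (c.obj z).obj.fst))
        (c.obj z).obj.iso.hom := (c.obj z).property
      exact isHomLift_id_of_eq _ e1 _
    haveI h5 : (FibCat.selfOver (Over S)).p.IsHomLift (𝟙 (𝒵.p.obj z))
        (f.map (α.hom.toNatTrans.app z)) := inferInstance
    haveI h6 : (FibCat.selfOver (Over S)).p.IsHomLift (𝟙 (𝒵.p.obj z))
        (g.map (β.hom.toNatTrans.app z)) := inferInstance
    exact selfOver_hom_ext (X := 𝒵.p.obj z) _ _ inferInstance inferInstance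
  let τ : c ⟶ c' :=
    { toNatTrans :=
        { app := fun z => fpHom f g (α.hom.toNatTrans.app z) (β.hom.toNatTrans.app z) (w z)
          naturality := fun z z' k => by
            apply ObjectProperty.hom_ext
            apply CategoricalPullback.hom_ext
            · exact α.hom.toNatTrans.naturality k
            · exact β.hom.toNatTrans.naturality k }
      isHomLift' := fun z => by
        have h1 : 𝒜.p.IsHomLift (𝟙 (𝒵.p.obj z)) (α.hom.toNatTrans.app z) := α.hom.isHomLift' z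
        exact (BasedFunctor.isHomLift_iff (FibCat.fpFst f g) (𝟙 (𝒵.p.obj z))
          (fpHom f g (α.hom.toNatTrans.app z) (β.hom.toNatTrans.app z) (w z))).1 h1 }
  haveI := isIso_basedNatTrans hfp τ
  exact ⟨asIso τ⟩

end H10PT.DiagQC
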