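import Mathlib
import Groth.Agent.Lib.Helper10.DiagQC1
import Groth.Agent.Lib.Helper10.StkElem
import Groth.Agent.Lib.Helper10.AlgStQCRep

/-!
# Quasi-compactness from one quasi-compact chart; isomorphisms from points of `Isom`

* `qcAll_of_chart`: if `(Sch/Z) ×_𝒳 𝒴` is represented by an algebraic space quasi-compact over `Z`,
  all its affine base changes are quasi-compact.
* `nonempty_iso_of_hom_at_id`, `nonempty_iso_restrict_of_hom`: 2-isomorphisms from morphisms of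
  values.
-/

set_option autoImplicit false
set_option backward.isDefEq.respectTransparency false
set_option backward.isDefEq.respectTransparency.types false

universe u

open CategoryTheory CategoryTheory.Limits AlgebraicGeometry Opposite

namespace H10PT.DiagQC

open Groth.Agent.Lib.Helper10.Fib Groth.Agent.Lib.Helper10.Gerbe Groth.Agent.Lib.Helper10.AlgStRep
open Groth.Agent.Lib.Helper28.AlgSt.ChartOver Groth.Agent.Lib.Helper28.AlgSt.SpaceCalc
open Groth.Agent.Lib.Helper28.AlgSt.PropInst Groth.Agent.Lib.Helper28.AlgSt.Key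
open Groth.Agent.Lib.Helper16 Groth.Agent.Lib.Helper16.AlgStDC
open Groth.Agent.Lib.Helper28.AlgSt.Whisker
open H10PT.MonoQC

variable {S : Scheme.{u}} {𝒳 𝒴 : AlgSt.Cat S}

theorem qcAll_of_chart (h𝒳 : AlgSt.IsAlgStack Scheme.fppfPrecoverage 𝒳)
    (h𝒴 : AlgSt.IsAlgStack Scheme.fppfPrecoverage 𝒴) (f : 𝒴 ⥤ᵇ 𝒳) {Z : Over S}
    (c : FibCat.overCat Z ⥤ᵇ 𝒳) (F : AlgSp.Space S) (e : AlgSt.ofSp F.obj ⥤ᵇ FibCat.fp c f)
    (he : FibCat.IsEquivOver e)
    (hq : AlgSp.IsQuasiCompactMor (AlgSt.spMapOfOver (BasedFunctor.comp e (FibCat.fpFst c f)))) :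
    QCAll f c := by
  intro T _ G
  have a1 : AlgSt.IsAlgStack Scheme.fppfPrecoverage (FibCat.fp c f) :=
    Groth.Agent.S12763.result h𝒳.isStack h𝒳.diag (isAlgStack_overCat Z) h𝒴 c f
  have hrep : AlgSt.RepByAlgSpWith AlgSp.IsQuasiCompactMor (FibCat.fpFst c f) :=
    (repByAlgSpWith_iff_chart _ good_quasiCompact.bc good_quasiCompact.loc (FibCat.fpFst c f) e
      he).2 hq
  have H := isQuasiCompactMor_of_rep a1 (isAlgStack_overCat Z) (FibCat.fpFst c f) hrep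
  have q := H (FibCat.overCat T) (isAlgStack_overCat T) (isQuasiCompact_overCat T) G
  exact isQuasiCompact_of_isEquivOver (paste1 G c f) (isEquivOver_paste1 G c f) q

theorem nonempty_iso_of_hom_at_id (h𝒳 : FibCat.IsFibGrpd 𝒳.p) {V : Over S}
    (G H : FibCat.overCat V ⥤ᵇ 𝒳) (m : G.obj (Over.mk (𝟙 V)) ⟶ H.obj (Over.mk (𝟙 V)))
    (hm : 𝒳.p.IsHomLift (𝟙 V) m) : Nonempty (G ≅ H) := by
  obtain ⟨α, -, -⟩ := yoneda_existsUnique V G H
    (Groth.Agent.Lib.Helper10.StkElem.sc_toTerminal h𝒳 H) m hm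
  haveI := isIso_basedNatTrans h𝒳 α
  exact ⟨asIso α⟩

/-- If `x` and `y` have isomorphic values at an object `s'` of `(Sch/U)` isomorphic to `γ : V ⟶ U`,
their restrictions along `γ` are 2-isomorphic. -/
theorem nonempty_iso_restrict_of_hom (h𝒳 : FibCat.IsFibGrpd 𝒳.p) {U V : Over S}
    (x y : FibCat.overCat U ⥤ᵇ 𝒳) (γ : V ⟶ U) (s' : Over U) (ι : Over.mk γ ≅ s')
    (m : x.obj s' ⟶ y.obj s') (hm : 𝒳.p.IsHomLift (𝟙 s'.left) m) :
    Nonempty (BasedFunctor.comp (AlgSt.overMap γ) x ≅ BasedFunctor.comp (AlgSt.overMap γ) y) := by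
  obtain ⟨j, -⟩ : ∃ _ : (AlgSt.overMap γ).obj (Over.mk (𝟙 V)) ≅ s', True :=
    ⟨Over.isoMk (Iso.refl _) (by simp [AlgSt.overMap]) ≪≫ ι, trivial⟩
  haveI h1 : 𝒳.p.IsHomLift j.hom.left (x.map j.hom) := isHomLift_map_over U x j.hom
  haveI h2 : 𝒳.p.IsHomLift (𝟙 s'.left) m := hm
  haveI h3 : 𝒳.p.IsHomLift j.inv.left (y.map j.inv) := isHomLift_map_over U y j.inv
  have h0 : 𝒳.p.IsHomLift (j.hom.left ≫ 𝟙 s'.left ≫ j.inv.left) (x.map j.hom ≫ m ≫ y.map j.inv) :=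
    inferInstance
  have e : j.hom.left ≫ 𝟙 s'.left ≫ j.inv.left = 𝟙 V := by
    rw [Category.id_comp, ← Over.comp_left, j.hom_inv_id]
    rfl
  rw [e] at h0
  exact nonempty_iso_of_hom_at_id h𝒳 _ _ (x.map j.hom ≫ m ≫ y.map j.inv) h0

end H10PT.DiagQC
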