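import Mathlib
import Groth.Agent.Lib.Helper10.DiagQC2

/-!
# The diagonal: points of `Isom` give isomorphisms over fields
-/

set_option autoImplicit false
set_option backward.isDefEq.respectTransparency false
set_option backward.isDefEq.respectTransparency.types false

universe u

open CategoryTheory CategoryTheory.Limits AlgebraicGeometry Opposite

namespace H10PT.DiagQC

open Groth.Agent.Lib.Helper10.Fib Groth.Agent.Lib.Helper10.Gerbe Groth.Agent.Lib.Helper10.AlgStRep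
open Groth.Agent.Lib.Helper28.AlgSt.ChartOver Groth.Agent.Lib.Helper28.AlgSt.SpaceCalc
open Groth.Agent.Lib.Helper28.AlgSt.PropInst Groth.Agent.Lib.Helper28.AlgSt.Key
open Groth.Agent.Lib.Helper16 Groth.Agent.Lib.Helper16.AlgStDC
open Groth.Agent.Lib.Helper28.AlgSt.Whisker
open H10PT.MonoQC

variable {S : Scheme.{u}} {𝒳 : AlgSt.Cat S}

theorem exists_field_iso_of_point (h𝒳 : FibCat.IsFibGrpd 𝒳.p) (U : Over S)
    (c : FibCat.overCat U ⥤ᵇ FibCat.fp (FibCat.toSelf 𝒳) (FibCat.toSelf 𝒳)) (p : ↥U.left)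
    (w : AlgSt.Points (FibCat.fp (BasedFunctor.comp (AlgSt.overMap (resHom U p)) c)
      (FibCat.diag (FibCat.toSelf 𝒳)))) :
    ∃ (L : Type u) (_ : Field L) (g : Spec (CommRingCat.of L) ⟶ U.left),
      Set.range g.base = {p} ∧
      Nonempty (BasedFunctor.comp (AlgSt.overMap (Over.homMk g rfl : Over.mk (g ≫ U.hom) ⟶ U))
          (BasedFunctor.comp c (FibCat.fpFst _ _)) ≅
        BasedFunctor.comp (AlgSt.overMap (Over.homMk g rfl : Over.mk (g ≫ U.hom) ⟶ U))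
          (BasedFunctor.comp c (FibCat.fpSnd _ _))) := by
  obtain ⟨q, -⟩ := AlgSt.Points.mk_surjective w
  obtain ⟨K, str, obj, lies⟩ := q
  obtain ⟨⟨⟨sl, ⟨⟨⟩⟩, sh⟩, z, φ⟩, prop⟩ := obj
  change sl = Over.mk str at lies
  subst lies
  change Over.mk str ⟶ Over.mk (U.left.fromSpecResidueField p ≫ U.hom) at sh
  obtain ⟨g, hg⟩ : ∃ g : Spec (CommRingCat.of K) ⟶ U.left,
      g = sh.left ≫ U.left.fromSpecResidueField p := ⟨_, rfl⟩
  refine ⟨K, ‹Field K›, g, ?_, ?_⟩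
  · rw [Set.eq_singleton_iff_unique_mem]
    have key : ∀ k : ↥(Spec (CommRingCat.of K)), g k = p := by
      intro k
      rw [hg, Scheme.Hom.comp_apply]
      exact Scheme.fromSpecResidueField_apply _ _
    exact ⟨⟨IsLocalRing.closedPoint K, key _⟩, by rintro _ ⟨k, rfl⟩; exact key k⟩
  · obtain ⟨γ, hγ⟩ : ∃ γ : Over.mk (g ≫ U.hom) ⟶ U, γ = Over.homMk g rfl := ⟨_, rfl⟩
    rw [← hγ]
    obtain ⟨s', hs'⟩ : ∃ s' : Over U, s' = (AlgSt.overMap (resHom U p)).obj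
        (⟨Over.mk str, ⟨⟨⟩⟩, sh⟩ : Over (Over.mk (U.left.fromSpecResidueField p ≫ U.hom))) :=
      ⟨_, rfl⟩
    have h1 : 𝟙 _ ≫ str = g ≫ U.hom := by
      rw [Category.id_comp, hg, Category.assoc]
      exact (Over.w sh).symm
    obtain ⟨ι, -⟩ : ∃ _ : Over.mk γ ≅ s', True := by
      rw [hs', hγ]
      refine ⟨Over.isoMk (Over.isoMk (Iso.refl _) h1) ?_, trivial⟩
      apply Over.OverMorphism.ext
      simp [AlgSt.overMap, hg]
    obtain ⟨m, hm⟩ : ∃ m : (BasedFunctor.comp c (FibCat.fpFst _ _)).obj s' ⟶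
        (BasedFunctor.comp c (FibCat.fpSnd _ _)).obj s', 𝒳.p.IsHomLift (𝟙 s'.left) m := by
      subst hs'
      haveI hφ : (FibCat.fp (FibCat.toSelf 𝒳) (FibCat.toSelf 𝒳)).p.IsHomLift
          (𝟙 (Over.mk str)) φ.hom := prop
      haveI hφi : (FibCat.fp (FibCat.toSelf 𝒳) (FibCat.toSelf 𝒳)).p.IsHomLift
          (𝟙 (Over.mk str)) φ.inv := Groth.Agent.Lib.Helper10.Fib.lift_inv_of_lift _ φ hφ
      haveI h1 : 𝒳.p.IsHomLift (𝟙 (Over.mk str))
          ((FibCat.fpFst (FibCat.toSelf 𝒳) (FibCat.toSelf 𝒳)).map φ.hom) :=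
        BasedFunctor.preserves_isHomLift _ _ _
      haveI h2 : 𝒳.p.IsHomLift (𝟙 (Over.mk str))
          ((FibCat.fpSnd (FibCat.toSelf 𝒳) (FibCat.toSelf 𝒳)).map φ.inv) :=
        BasedFunctor.preserves_isHomLift _ _ _
      have h3 : 𝒳.p.IsHomLift (𝟙 (Over.mk str))
          ((FibCat.fpFst (FibCat.toSelf 𝒳) (FibCat.toSelf 𝒳)).map φ.hom ≫
            (FibCat.fpSnd (FibCat.toSelf 𝒳) (FibCat.toSelf 𝒳)).map φ.inv) := inferInstance
      exact ⟨(FibCat.fpFst (FibCat.toSelf 𝒳) (FibCat.toSelf 𝒳)).map φ.hom ≫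
        (FibCat.fpSnd (FibCat.toSelf 𝒳) (FibCat.toSelf 𝒳)).map φ.inv, h3⟩
    exact nonempty_iso_restrict_of_hom h𝒳 _ _ γ s' ι m hm

end H10PT.DiagQC
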