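import Mathlib
import Groth.Agent.Lib.Helper10.DiagQC3

/-!
# The diagonal: the generic step
-/

set_option autoImplicit false
set_option backward.isDefEq.respectTransparency false
set_option backward.isDefEq.respectTransparency.types false

universe u

open CategoryTheory CategoryTheory.Limits AlgebraicGeometry Opposite

namespace H10PT.DiagQC

open Groth.Agent.Lib.Helper10.Fib Groth.Agent.Lib.Helper10.Gerbe Groth.Agent.Lib.Helper10.AlgStRep
open Groth.Agent.Lib.Helper28.AlgSt.ChartOver Groth.Agent.Lib.Helper28.AlgSt.SpaceCalc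
open Groth.Agent.Lib.Helper28.AlgSt.PropInst Groth.Agent.Lib.Helper28.AlgSt.Key
open Groth.Agent.Lib.Helper16 Groth.Agent.Lib.Helper16.AlgStDC
open Groth.Agent.Lib.Helper28.AlgSt.Whisker
open H10PT.MonoQC

variable {S : Scheme.{u}}

/-- Automorphism sheaves over affine schemes are algebraic spaces quasi-compact over the base. -/
def AutQC (𝒳 : AlgSt.Cat S) : Prop :=
  ∀ (U : Over S), IsAffine U.left → ∀ (x : FibCat.overCat U ⥤ᵇ 𝒳),
    ∃ (F : AlgSp.Space S) (e : AlgSt.ofSp F.obj ⥤ᵇ FibCat.fp (FibCat.fpLift x x (Iso.refl _)) (FibCat.diag (FibCat.toSelf 𝒳))),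
      FibCat.IsEquivOver e ∧
        AlgSp.IsQuasiCompactMor (AlgSt.spMapOfOver (BasedFunctor.comp e (FibCat.fpFst _ _)))

/-- Objects over an integral affine scheme that are isomorphic over a dense set of field points are
isomorphic over a dense open. -/
def GenIso (𝒳 : AlgSt.Cat S) : Prop :=
  ∀ (U : Over S), IsAffine U.left → IsIntegral U.left → ∀ (x y : FibCat.overCat U ⥤ᵇ 𝒳)
    (D : Set ↥U.left), Dense D →
    (∀ t ∈ D, ∃ (L : Type u) (_ : Field L) (g : Spec (CommRingCat.of L) ⟶ U.left), Set.range g.base = {t} ∧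
      Nonempty (BasedFunctor.comp (AlgSt.overMap (Over.homMk g rfl : Over.mk (g ≫ U.hom) ⟶ U)) x ≅
        BasedFunctor.comp (AlgSt.overMap (Over.homMk g rfl : Over.mk (g ≫ U.hom) ⟶ U)) y)) →
    ∃ V : U.left.Opens, Dense (V : Set ↥U.left) ∧
      Nonempty (BasedFunctor.comp (AlgSt.overMap (Over.homMk V.ι rfl : Over.mk (V.ι ≫ U.hom) ⟶ U)) x ≅
        BasedFunctor.comp (AlgSt.overMap (Over.homMk V.ι rfl : Over.mk (V.ι ≫ U.hom) ⟶ U)) y)

variable {𝒳 : AlgSt.Cat S}

theorem isAlgStack_prod (h𝒳 : AlgSt.IsAlgStack Scheme.fppfPrecoverage 𝒳) :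
    AlgSt.IsAlgStack Scheme.fppfPrecoverage (FibCat.fp (FibCat.toSelf 𝒳) (FibCat.toSelf 𝒳)) :=
  Groth.Agent.S12763.result (isAlgStack_selfOver (S := S)).isStack
    (isAlgStack_selfOver (S := S)).diag h𝒳 h𝒳 (FibCat.toSelf 𝒳) (FibCat.toSelf 𝒳)

theorem awayQC_diag (h𝒳 : AlgSt.IsAlgStack Scheme.fppfPrecoverage 𝒳) (hi : AutQC 𝒳)
    (hii : GenIso 𝒳) : AwayQC (FibCat.diag (FibCat.toSelf 𝒳)) := by
  intro B _ _ sB c
  have h𝒫 := isAlgStack_prod h𝒳
  haveI hUaff : IsAffine (Over.mk sB).left := (inferInstance : IsAffine (Spec (CommRingCat.of B)))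
  haveI hUint : IsIntegral (Over.mk sB).left :=
    (inferInstance : IsIntegral (Spec (CommRingCat.of B)))
  obtain ⟨x, hx⟩ : ∃ x : FibCat.overCat (Over.mk sB) ⥤ᵇ 𝒳,
      x = BasedFunctor.comp c (FibCat.fpFst _ _) := ⟨_, rfl⟩
  obtain ⟨y, hy⟩ : ∃ y : FibCat.overCat (Over.mk sB) ⥤ᵇ 𝒳,
      y = BasedFunctor.comp c (FibCat.fpSnd _ _) := ⟨_, rfl⟩
  obtain ⟨D, hD⟩ : ∃ D : Set ↥(Over.mk sB).left, D = {t | ∃ (L : Type u) (_ : Field L)
      (g : Spec (CommRingCat.of L) ⟶ (Over.mk sB).left), Set.range g.base = {t} ∧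
      Nonempty (BasedFunctor.comp (AlgSt.overMap
          (Over.homMk g rfl : Over.mk (g ≫ (Over.mk sB).hom) ⟶ Over.mk sB)) x ≅
        BasedFunctor.comp (AlgSt.overMap
          (Over.homMk g rfl : Over.mk (g ≫ (Over.mk sB).hom) ⟶ Over.mk sB)) y)} := ⟨_, rfl⟩
  by_cases hdense : Dense D
  · obtain ⟨V, hVd, ⟨iso⟩⟩ : ∃ V : (Spec (CommRingCat.of B)).Opens,
        Dense (V : Set ↥(Spec (CommRingCat.of B))) ∧
        Nonempty (BasedFunctor.comp (AlgSt.overMap
            (Over.homMk V.ι rfl : Over.mk (V.ι ≫ sB) ⟶ Over.mk sB)) x ≅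
          BasedFunctor.comp (AlgSt.overMap
            (Over.homMk V.ι rfl : Over.mk (V.ι ≫ sB) ⟶ Over.mk sB)) y) :=
      hii (Over.mk sB) hUaff hUint x y D hdense (fun t ht => by rw [hD] at ht; exact ht)
    obtain ⟨p, hp⟩ : (V : Set ↥(Spec (CommRingCat.of B))).Nonempty := hVd.nonempty
    obtain ⟨h, hhp, hhV⟩ := exists_basic_subset (V : Set ↥(Spec (CommRingCat.of B))) V.isOpen p hp
    refine ⟨h, ?_, ?_⟩
    · rintro rfl
      exact hhp p.asIdeal.zero_mem
    · have hrange : Set.range (Spec.map (CommRingCat.ofHom (algebraMap B (Localization.Away h)))) ⊆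
          Set.range V.ι := by
        rintro _ ⟨z, rfl⟩
        rw [Scheme.Opens.range_ι]
        exact hhV _ (away_point_notMem h z)
      obtain ⟨l, hl⟩ : ∃ l : Spec (CommRingCat.of (Localization.Away h)) ⟶ ↑V,
          l ≫ V.ι = Spec.map (CommRingCat.ofHom (algebraMap B (Localization.Away h))) :=
        ⟨IsOpenImmersion.lift V.ι _ hrange, IsOpenImmersion.lift_fac _ _ _⟩
      have hw : l ≫ V.ι ≫ sB =
          Spec.map (CommRingCat.ofHom (algebraMap B (Localization.Away h))) ≫ sB := by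
        rw [← Category.assoc, hl]
      obtain ⟨l', hl'⟩ : ∃ l' : Over.mk (Spec.map (CommRingCat.ofHom
          (algebraMap B (Localization.Away h))) ≫ sB) ⟶ Over.mk (V.ι ≫ sB),
          l' = Over.homMk l hw := ⟨_, rfl⟩
      have heq : awayHom sB h = l' ≫ (Over.homMk V.ι rfl : Over.mk (V.ι ≫ sB) ⟶ Over.mk sB) := by
        apply Over.OverMorphism.ext
        rw [hl']
        exact hl.symm
      obtain ⟨ixy, -⟩ : ∃ _ : BasedFunctor.comp (AlgSt.overMap (awayHom sB h)) x ≅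
          BasedFunctor.comp (AlgSt.overMap (awayHom sB h)) y, True := by
        rw [heq]
        exact ⟨(wr (overMapCompIso l' _).symm x) ≪≫ wl (AlgSt.overMap l') iso ≪≫
          wr (overMapCompIso l' _) y, trivial⟩
      haveI hZaff : IsAffine (Over.mk (Spec.map (CommRingCat.ofHom
          (algebraMap B (Localization.Away h))) ≫ sB)).left := (inferInstance : IsAffine (Spec _))
      subst hx hy
      obtain ⟨F, e, he, hq⟩ := hi _ hZaff (BasedFunctor.comp (AlgSt.overMap (awayHom sB h))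
        (BasedFunctor.comp c (FibCat.fpFst _ _)))
      obtain ⟨θ⟩ := nonempty_iso_of_fst_snd h𝒳.isStack.1 h𝒳.isStack.1 (FibCat.toSelf 𝒳)
        (FibCat.toSelf 𝒳) (BasedFunctor.comp (AlgSt.overMap (awayHom sB h)) c)
        (FibCat.fpLift (BasedFunctor.comp (AlgSt.overMap (awayHom sB h))
          (BasedFunctor.comp c (FibCat.fpFst _ _))) (BasedFunctor.comp (AlgSt.overMap (awayHom sB h))
          (BasedFunctor.comp c (FibCat.fpFst _ _))) (Iso.refl _)) (Iso.refl _) ixy.symm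
      exact (qcAll_of_chart h𝒫 h𝒳 _ _ F e he hq).of_iso θ
  · rw [dense_iff_inter_open] at hdense
    push Not at hdense
    obtain ⟨V, hV, ⟨p, hp⟩, hVD⟩ := hdense
    obtain ⟨h, hhp, hhV⟩ := exists_basic_subset V hV p hp
    refine ⟨h, ?_, ?_⟩
    · rintro rfl
      exact hhp p.asIdeal.zero_mem
    · intro T _ G
      have a1 : AlgSt.IsAlgStack Scheme.fppfPrecoverage (FibCat.fp (BasedFunctor.comp G
          (BasedFunctor.comp (AlgSt.overMap (awayHom sB h)) c)) (FibCat.diag (FibCat.toSelf 𝒳))) :=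
        Groth.Agent.S12763.result h𝒫.isStack h𝒫.diag (isAlgStack_overCat T) h𝒳 _ _
      refine isQuasiCompact_of_isEmpty_points a1 ⟨fun ξ => ?_⟩
      obtain ⟨t, ⟨w⟩⟩ := exists_residue_point_of_fp_point h𝒫 h𝒳 (FibCat.diag (FibCat.toSelf 𝒳)) c T
        (BasedFunctor.comp G (AlgSt.overMap (awayHom sB h))) ξ
      obtain ⟨p', hp'⟩ : ∃ p' : ↥(Spec (CommRingCat.of B)),
          p' = (homOfOver (BasedFunctor.comp G (AlgSt.overMap (awayHom sB h)))).left t := ⟨_, rfl⟩
      rw [← hp'] at w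
      have hp'V : p' ∈ V := by
        rw [hp', homOfOver_comp_overMap]
        exact hhV _ (away_point_notMem h _)
      have hmem : p' ∈ V ∩ D := by
        refine ⟨hp'V, ?_⟩
        rw [hD, hx, hy]
        exact exists_field_iso_of_point h𝒳.isStack.1 (Over.mk sB) c p' w
      rw [hVD] at hmem
      exact hmem

end H10PT.DiagQC
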