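import Mathlib
import Groth.Agent.Lib.Helper10.DiagQC4

/-!
# The diagonal: charts of the product and the main theorem
-/

set_option autoImplicit false
set_option backward.isDefEq.respectTransparency false
set_option backward.isDefEq.respectTransparency.types false

universe u

open CategoryTheory CategoryTheory.Limits AlgebraicGeometry Opposite

namespace H10PT.DiagQC

open Groth.Agent.Lib.Helper10.Fib Groth.Agent.Lib.Helper10.Gerbe Groth.Agent.Lib.Helper10.AlgStRep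
open Groth.Agent.Lib.Helper28.AlgSt.ChartOver Groth.Agent.Lib.Helper28.AlgSt.SpaceCalc
open Groth.Agent.Lib.Helper28.AlgSt.PropInst Groth.Agent.Lib.Helper28.AlgSt.Key
open Groth.Agent.Lib.Helper16 Groth.Agent.Lib.Helper16.AlgStDC
open Groth.Agent.Lib.Helper28.AlgSt.Whisker
open H10PT.MonoQC

variable {S : Scheme.{u}}

/-- The scheme `U ×_S U` over `S`. -/
noncomputable abbrev prodOver (U : Over S) : Over S := Over.mk (pullback.fst U.hom U.hom ≫ U.hom)

noncomputable abbrev prodFst (U : Over S) : prodOver U ⟶ U :=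
  Over.homMk (pullback.fst U.hom U.hom) rfl

noncomputable abbrev prodSnd (U : Over S) : prodOver U ⟶ U :=
  Over.homMk (pullback.snd U.hom U.hom) pullback.condition.symm

theorem eq_toSelf {𝒵 : AlgSt.Cat S} (f' : 𝒵 ⥤ᵇ FibCat.selfOver (Over S)) : f' = FibCat.toSelf 𝒵 :=
  basedFunctor_ext f'.w

variable {U : Over S} (f' g' : FibCat.overCat U ⥤ᵇ FibCat.selfOver (Over S))

/-- The chart `(Sch/(U ×_S U)) ⟶ (Sch/U) ×_{(Sch/S)} (Sch/U)`. -/
noncomputable def prodChart : FibCat.overCat (prodOver U) ⥤ᵇ FibCat.fp f' g' :=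
  FibCat.fpLift (AlgSt.overMap (prodFst U)) (AlgSt.overMap (prodSnd U))
    (eqToIso ((eq_toSelf _).trans (eq_toSelf _).symm))

theorem exists_factor_prodChart (T : Over S) (k : FibCat.overCat T ⥤ᵇ FibCat.fp f' g') :
    ∃ τ : T ⟶ prodOver U, Nonempty (k ≅ BasedFunctor.comp (AlgSt.overMap τ) (prodChart f' g')) := by
  obtain ⟨t₁, ht₁⟩ : ∃ t₁ : T ⟶ U, t₁ = homOfOver (BasedFunctor.comp k (FibCat.fpFst f' g')) :=
    ⟨_, rfl⟩
  obtain ⟨t₂, ht₂⟩ : ∃ t₂ : T ⟶ U, t₂ = homOfOver (BasedFunctor.comp k (FibCat.fpSnd f' g')) :=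
    ⟨_, rfl⟩
  have hw : t₁.left ≫ U.hom = t₂.left ≫ U.hom := by rw [Over.w t₁, Over.w t₂]
  have hτ : pullback.lift t₁.left t₂.left hw ≫ (prodOver U).hom = T.hom := by
    show pullback.lift t₁.left t₂.left hw ≫ pullback.fst U.hom U.hom ≫ U.hom = T.hom
    rw [pullback.lift_fst_assoc, Over.w t₁]
  obtain ⟨τ, hτ'⟩ : ∃ τ : T ⟶ prodOver U, τ = Over.homMk (pullback.lift t₁.left t₂.left hw) hτ :=
    ⟨_, rfl⟩
  have h1 : τ ≫ prodFst U = t₁ := by
    apply Over.OverMorphism.ext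
    rw [hτ']
    exact pullback.lift_fst _ _ _
  have h2 : τ ≫ prodSnd U = t₂ := by
    apply Over.OverMorphism.ext
    rw [hτ']
    exact pullback.lift_snd _ _ _
  have hO := isFibGrpd_overForget U
  obtain ⟨α, -⟩ : ∃ _ : BasedFunctor.comp k (FibCat.fpFst f' g') ≅
      BasedFunctor.comp (BasedFunctor.comp (AlgSt.overMap τ) (prodChart f' g'))
        (FibCat.fpFst f' g'), True := by
    refine ⟨(isoOfHomEq (BasedFunctor.comp k (FibCat.fpFst f' g'))
      (BasedFunctor.comp (AlgSt.overMap τ) (AlgSt.overMap (prodFst U))) ?_ : _ ≅ _), trivial⟩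
    rw [homOfOver_overMap_comp, homOfOver_overMap, h1, ht₁]
  obtain ⟨β, -⟩ : ∃ _ : BasedFunctor.comp k (FibCat.fpSnd f' g') ≅
      BasedFunctor.comp (BasedFunctor.comp (AlgSt.overMap τ) (prodChart f' g'))
        (FibCat.fpSnd f' g'), True := by
    refine ⟨(isoOfHomEq (BasedFunctor.comp k (FibCat.fpSnd f' g'))
      (BasedFunctor.comp (AlgSt.overMap τ) (AlgSt.overMap (prodSnd U))) ?_ : _ ≅ _), trivial⟩
    rw [homOfOver_overMap_comp, homOfOver_overMap, h2, ht₂]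
  exact ⟨τ, nonempty_iso_of_fst_snd hO hO f' g' k _ α β⟩

open Groth.Agent.Lib.Helper28.AlgSt.FpStack in
/-- The main theorem: quasi-compactness of the diagonal. -/
theorem isQuasiCompactMor_diag [IsLocallyNoetherian S] {𝒳 : AlgSt.Cat S}
    (h𝒳 : AlgSt.IsAlgStack Scheme.fppfPrecoverage 𝒳)
    (hlfp : ∀ (U : Over S) (x : FibCat.overCat U ⥤ᵇ 𝒳),
      AlgSt.RepByAlgSpWith (AlgSp.LocP @Smooth) x → LocallyOfFinitePresentation U.hom)
    (hi : AutQC 𝒳) (hii : GenIso 𝒳) :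
    AlgSt.IsQuasiCompactMor Scheme.fppfPrecoverage (FibCat.diag (FibCat.toSelf 𝒳)) := by
  have h𝒫 := isAlgStack_prod h𝒳
  have hDD := awayQC_diag h𝒳 hi hii
  obtain ⟨U, u, hu1, hu2⟩ := h𝒳.atlas
  haveI : LocallyOfFinitePresentation U.hom := hlfp U u hu1
  have hO := isFibGrpd_overForget U
  have hself := isAlgStack_selfOver (S := S)
  have hUalg := isAlgStack_overCat U
  obtain ⟨a, ha1, ha2⟩ := exists_cover_fp hO hO h𝒳.isStack.1 h𝒳.isStack.1 hself.isStack.1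
    (FibCat.toSelf 𝒳) (FibCat.toSelf 𝒳) u u hu1 hu2 hu1 hu2
  have h𝒲 : AlgSt.IsAlgStack Scheme.fppfPrecoverage
      (FibCat.fp (BasedFunctor.comp u (FibCat.toSelf 𝒳)) (BasedFunctor.comp u (FibCat.toSelf 𝒳))) :=
    Groth.Agent.S12763.result hself.isStack hself.diag hUalg hUalg _ _
  haveI : IsLocallyNoetherian (prodOver U).left :=
    LocallyOfFiniteType.isLocallyNoetherian (pullback.fst U.hom U.hom ≫ U.hom)
  obtain ⟨κ, hκ⟩ : ∃ κ : FibCat.overCat (prodOver U) ⥤ᵇ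
      FibCat.fp (BasedFunctor.comp u (FibCat.toSelf 𝒳)) (BasedFunctor.comp u (FibCat.toSelf 𝒳)),
      κ = prodChart _ _ := ⟨_, rfl⟩
  have star : QCAll (FibCat.diag (FibCat.toSelf 𝒳)) (BasedFunctor.comp κ a) :=
    qcAll_of_isLocallyNoetherian' h𝒫 h𝒳 _ hDD (prodOver U) (BasedFunctor.comp κ a)
  have a1 : AlgSt.IsAlgStack Scheme.fppfPrecoverage
      (FibCat.fp a (FibCat.diag (FibCat.toSelf 𝒳))) :=
    Groth.Agent.S12763.result h𝒫.isStack h𝒫.diag h𝒲 h𝒳 a _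
  have H' : AlgSt.IsQuasiCompactMor Scheme.fppfPrecoverage
      (FibCat.fpFst a (FibCat.diag (FibCat.toSelf 𝒳))) := by
    intro 𝒵' h𝒵' hq k
    obtain ⟨T, v, hT, hv1, hv2⟩ := hq
    haveI := hT
    refine isQuasiCompact_fp_of_surj_left (isAlgStack_overCat T) a1 h𝒲 h𝒵' v hv2 k
      (FibCat.fpFst a (FibCat.diag (FibCat.toSelf 𝒳))) ?_
    refine isQuasiCompact_of_isEquivOver' (paste1 (BasedFunctor.comp v k) a _)
      (isEquivOver_paste1 (BasedFunctor.comp v k) a _) ?_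
    obtain ⟨τ, ⟨θ⟩⟩ := exists_factor_prodChart _ _ T (BasedFunctor.comp v k)
    rw [← hκ] at θ
    exact isQuasiCompact_fp_of_iso_left _ _ _ (wr θ a) (star T (AlgSt.overMap τ))
  intro 𝒵 h𝒵 hq g
  exact isQuasiCompact_fp_of_cover h𝒳 h𝒫 h𝒲 h𝒵 _ a (repFlat_of_smooth a ha1)
    (repLfp_of_smooth a ha1) ha2 H' hq g


end H10PT.DiagQC
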