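import Mathlib

/-!
# A local criterion for projectivity of a quotient of a finite projective module

If `K ≤ N` is a finitely generated submodule of a finite projective module with
`K ⊓ 𝔪 N ≤ 𝔪 K` for every maximal ideal `𝔪`, then `N ⧸ K` is projective.
-/

set_option autoImplicit false
universe u v

namespace H10LC

open IsLocalRing TensorProduct

theorem lTensor_quotient_injective {B : Type u} [CommRing B] (I : Ideal B)
    {N : Type v} [AddCommGroup N] [Module B N] (K : Submodule B N)
    (h : K ⊓ I • (⊤ : Submodule B N) ≤ I • K) :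
    Function.Injective (K.subtype.lTensor (B ⧸ I)) := by
  rw [injective_iff_map_eq_zero]
  intro z hz
  obtain ⟨y, hy⟩ := Submodule.Quotient.mk_surjective _ (quotTensorEquivQuotSMul K I z)
  have hz1 : z = (1 : B ⧸ I) ⊗ₜ[B] y := by
    have := congrArg (quotTensorEquivQuotSMul K I).symm hy
    rw [LinearEquiv.symm_apply_apply] at this
    rw [← this]
    rfl
  rw [hz1, LinearMap.lTensor_tmul] at hz
  have h2 : (Submodule.Quotient.mk (K.subtype y) : N ⧸ (I • (⊤ : Submodule B N))) = 0 := by
    rw [← quotTensorEquivQuotSMul_mk_one_tmul, hz, map_zero]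
  rw [Submodule.Quotient.mk_eq_zero] at h2
  have h3 : (y : N) ∈ I • K := h ⟨y.2, h2⟩
  have h4 : I • K = Submodule.map K.subtype (I • (⊤ : Submodule B K)) := by
    rw [Submodule.map_smul'', Submodule.map_subtype_top]
  rw [h4] at h3
  obtain ⟨y', hy', hyy'⟩ := h3
  have h5 : y' = y := Subtype.ext hyy'
  rw [h5] at hy'
  have h6 : (Submodule.Quotient.mk y : K ⧸ (I • (⊤ : Submodule B K))) = 0 :=
    (Submodule.Quotient.mk_eq_zero _).mpr hy'
  rw [hz1]
  have h7 : (quotTensorEquivQuotSMul K I) ((1 : B ⧸ I) ⊗ₜ[B] y) = 0 := by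
    rw [quotTensorEquivQuotSMul_mk_one_tmul, h6]
  exact (quotTensorEquivQuotSMul K I).injective (h7.trans (map_zero _).symm)

set_option backward.isDefEq.respectTransparency false in
theorem free_quotient_of_inf_le {B : Type u} [CommRing B] [IsLocalRing B]
    {N : Type v} [AddCommGroup N] [Module B N] [Module.Finite B N] [Module.Free B N]
    (K : Submodule B N) (hK : K.FG)
    (h : K ⊓ (maximalIdeal B) • (⊤ : Submodule B N) ≤ (maximalIdeal B) • K) :
    Module.Free B (N ⧸ K) := by
  haveI : Module.Finite B K := Module.Finite.iff_fg.mpr hK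
  exact Module.free_of_lTensor_residueField_injective K.subtype K.mkQ
    (Submodule.mkQ_surjective K) (LinearMap.exact_subtype_mkQ K)
    (lTensor_quotient_injective (maximalIdeal B) K h)

theorem projective_quotient_of_inf_le {A : Type u} [CommRing A] {N : Type v} [AddCommGroup N]
    [Module A N] [Module.Finite A N] [Module.Projective A N] (K : Submodule A N) (hK : K.FG)
    (h : ∀ 𝔪 : Ideal A, 𝔪.IsMaximal → K ⊓ 𝔪 • (⊤ : Submodule A N) ≤ 𝔪 • K) :
    Module.Projective A (N ⧸ K) := by
  haveI : Module.FinitePresentation A N := Module.finitePresentation_of_projective A N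
  haveI : Module.FinitePresentation A (N ⧸ K) :=
    Module.finitePresentation_of_surjective K.mkQ (Submodule.mkQ_surjective K)
      (by rw [Submodule.ker_mkQ]; exact hK)
  refine Module.projective_of_localization_maximal'
    (Rₚ := fun P _ => Localization.AtPrime P)
    (Mₚ := fun P _ => LocalizedModule P.primeCompl N ⧸
      K.localized' (Localization.AtPrime P) P.primeCompl
        (LocalizedModule.mkLinearMap P.primeCompl N))
    (f := fun P _ => K.toLocalizedQuotient' (Localization.AtPrime P) P.primeCompl
      (LocalizedModule.mkLinearMap P.primeCompl N)) ?_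
  intro 𝔪 h𝔪
  haveI := h𝔪
  have hmax : Submodule.localized' (Localization.AtPrime 𝔪) 𝔪.primeCompl
      (Algebra.linearMap A (Localization.AtPrime 𝔪)) 𝔪 =
      maximalIdeal (Localization.AtPrime 𝔪) := by
    rw [Ideal.localized'_eq_map]
    exact IsLocalization.AtPrime.map_eq_maximalIdeal 𝔪 (Localization.AtPrime 𝔪)
  have hloc : K.localized' (Localization.AtPrime 𝔪) 𝔪.primeCompl
        (LocalizedModule.mkLinearMap 𝔪.primeCompl N) ⊓
      (maximalIdeal (Localization.AtPrime 𝔪)) •
        (⊤ : Submodule (Localization.AtPrime 𝔪) (LocalizedModule 𝔪.primeCompl N)) ≤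
      (maximalIdeal (Localization.AtPrime 𝔪)) •
        K.localized' (Localization.AtPrime 𝔪) 𝔪.primeCompl
          (LocalizedModule.mkLinearMap 𝔪.primeCompl N) := by
    rw [← hmax, ← Submodule.localized'_top (Localization.AtPrime 𝔪) 𝔪.primeCompl
      (LocalizedModule.mkLinearMap 𝔪.primeCompl N), ← Submodule.localized'_smul,
      ← Submodule.localized'_inf, ← Submodule.localized'_smul]
    rintro x ⟨m, hm, s, rfl⟩
    exact ⟨m, h 𝔪 h𝔪 hm, s, rfl⟩
  haveI : Module.Free (Localization.AtPrime 𝔪) (LocalizedModule 𝔪.primeCompl N) :=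
    Module.free_of_flat_of_isLocalRing
  haveI := free_quotient_of_inf_le
    (K.localized' (Localization.AtPrime 𝔪) 𝔪.primeCompl
      (LocalizedModule.mkLinearMap 𝔪.primeCompl N))
    (Submodule.localized'_fg _ _ _ hK) hloc
  exact Module.Projective.of_free

end H10LC
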