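import Mathlib
import Groth.Agent.S14856
import Groth.Agent.Lib.Helper22.WittBasic

/-!
# Adic completeness of Witt vectors over a `p`-adically complete ring
-/

set_option autoImplicit false
universe u

namespace H10Witt

open WittVector

variable {p : ℕ} [hp : Fact p.Prime] {R : Type u} [CommRing R]

local notation "𝕎" => WittVector p

/-- The ring homomorphism `W(R) → W_m(R / p^s)`. -/
noncomputable def rho (p : ℕ) [Fact p.Prime] (R : Type u) [CommRing R] (m s : ℕ) :
    WittVector p R →+* TruncatedWittVector p m (R ⧸ Ideal.span {(p : R) ^ s}) :=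
  (WittVector.truncate m).comp (WittVector.map (Ideal.Quotient.mk (Ideal.span {(p : R) ^ s})))

theorem rho_eq_iff (m s : ℕ) (a b : 𝕎 R) :
    rho p R m s a = rho p R m s b ↔
      ∀ i < m, a.coeff i - b.coeff i ∈ Ideal.span {(p : R) ^ s} := by
  constructor
  · intro h i hi
    have := congrArg (TruncatedWittVector.coeff ⟨i, hi⟩) h
    simp only [rho, RingHom.comp_apply, WittVector.coeff_truncate, WittVector.map_coeff] at this
    exact (Ideal.Quotient.eq).mp this
  · intro h
    apply TruncatedWittVector.ext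
    intro i
    simp only [rho, RingHom.comp_apply, WittVector.coeff_truncate, WittVector.map_coeff]
    exact (Ideal.Quotient.eq).mpr (h i i.2)

theorem rho_eq_zero_iff (m s : ℕ) (a : 𝕎 R) :
    rho p R m s a = 0 ↔ ∀ i < m, a.coeff i ∈ Ideal.span {(p : R) ^ s} := by
  rw [← map_zero (rho p R m s), rho_eq_iff]
  simp only [WittVector.zero_coeff, sub_zero]

theorem span_pow_mono {s s' : ℕ} (h : s ≤ s') :
    Ideal.span {(p : R) ^ s'} ≤ Ideal.span {(p : R) ^ s} :=
  Ideal.span_singleton_le_span_singleton.mpr (pow_dvd_pow _ h)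

theorem rho_eq_mono {m s s' : ℕ} (h : s ≤ s') {a b : 𝕎 R}
    (hab : rho p R m s' a = rho p R m s' b) : rho p R m s a = rho p R m s b := by
  rw [rho_eq_iff] at hab ⊢
  exact fun i hi => span_pow_mono h (hab i hi)

theorem aeval_X_self [inst : Algebra ℤ (MvPolynomial ℕ ℤ)] (q : MvPolynomial ℕ ℤ) :
    @MvPolynomial.aeval ℤ (MvPolynomial ℕ ℤ) ℕ _ _ inst MvPolynomial.X q = q := by
  induction q using MvPolynomial.induction_on with
  | C a =>
    rw [MvPolynomial.aeval_C, eq_intCast (algebraMap ℤ (MvPolynomial ℕ ℤ)) a]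
    exact (eq_intCast (MvPolynomial.C (R := ℤ) (σ := ℕ)) a).symm
  | add f g hf hg => rw [map_add, hf, hg]
  | mul_X f i hf => rw [map_mul, hf, MvPolynomial.aeval_X]

theorem pow_dvd_wittMulN (p : ℕ) [hp : Fact p.Prime] (N k : ℕ) :
    ((p : MvPolynomial ℕ ℤ)) ^ (N - k) ∣ wittMulN p (p ^ N) k := by
  rcases Nat.lt_or_ge k N with hk | hk
  · have hS : ∀ y : MvPolynomial ℕ ℤ, (p : MvPolynomial ℕ ℤ) * y = 0 → y = 0 := by
      intro y hy
      rcases mul_eq_zero.mp hy with h | h
      · exfalso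
        have h2 : ((p : ℤ) : MvPolynomial ℕ ℤ) = 0 := by
          rw [← h]; push_cast; rfl
        have h3 : (MvPolynomial.C (p : ℤ) : MvPolynomial ℕ ℤ) = 0 := by
          rw [← h2]; exact (eq_intCast (MvPolynomial.C (R := ℤ) (σ := ℕ)) (p : ℤ))
        rw [MvPolynomial.C_eq_zero] at h3
        exact hp.out.ne_zero (by exact_mod_cast h3)
      · exact h
    set X : WittVector p (MvPolynomial ℕ ℤ) := WittVector.mk p MvPolynomial.X with hX
    have key := (Groth.Agent.S14856.result p (MvPolynomial ℕ ℤ) hS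
      (X * ((p ^ N : ℕ) : WittVector p (MvPolynomial ℕ ℤ))) k (N - k) (by omega)).mpr ?_
    · have h1 := key k le_rfl
      rw [WittVector.mulN_coeff, hX, WittVector.coeff_mk] at h1
      exact (aeval_X_self (wittMulN p (p ^ N) k)) ▸ h1
    · intro n hn
      rw [map_mul, map_natCast]
      refine Dvd.dvd.mul_left ?_ _
      rw [Nat.cast_pow]
      exact pow_dvd_pow _ (by omega)
  · rw [Nat.sub_eq_zero_of_le hk, pow_zero]; exact one_dvd _

theorem coeff_mul_pow_mem (x : 𝕎 R) (N k : ℕ) :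
    (x * (p : 𝕎 R) ^ N).coeff k ∈ Ideal.span {(p : R) ^ (N - k)} := by
  obtain ⟨q, hq⟩ := pow_dvd_wittMulN p N k
  have h : (x * ((p ^ N : ℕ) : 𝕎 R)).coeff k = _ := WittVector.mulN_coeff (p ^ N) x k
  rw [Nat.cast_pow] at h
  rw [h, hq, map_mul, map_pow, map_natCast]
  exact Ideal.mem_span_singleton.mpr (dvd_mul_right _ _)

theorem rho_mul_pow (m s N : ℕ) (hN : m + s ≤ N + 1) (x : 𝕎 R) :
    rho p R m s (x * (p : 𝕎 R) ^ N) = 0 := by
  rw [rho_eq_zero_iff]
  intro i hi
  exact span_pow_mono (by omega) (coeff_mul_pow_mem x N i)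

theorem coeff_sub_mem {a b c : 𝕎 R} {N : ℕ} (h : a - b = c * (p : 𝕎 R) ^ N) (k : ℕ) :
    a.coeff k - b.coeff k ∈ Ideal.span {(p : R) ^ (N - k)} := by
  rcases Nat.lt_or_ge N k with hk | hk
  · rw [Nat.sub_eq_zero_of_le hk.le, pow_zero, Ideal.span_singleton_one]; trivial
  · have h0 : rho p R (k + 1) (N - k) (a - b) = 0 := by
      rw [h]; exact rho_mul_pow _ _ _ (by omega) c
    rw [map_sub, sub_eq_zero] at h0
    exact (rho_eq_iff _ _ a b).mp h0 k (by omega)

section complete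

variable [IsAdicComplete (Ideal.span {(p : R)}) R]

theorem eq_zero_of_forall_mem (p : ℕ) [hp : Fact p.Prime] {R : Type u} [CommRing R]
    [IsAdicComplete (Ideal.span {(p : R)}) R] (c : R) (n₀ : ℕ)
    (h : ∀ n, n₀ ≤ n → c ∈ Ideal.span {(p : R) ^ n}) : c = 0 := by
  apply IsHausdorff.haus (inferInstance : IsHausdorff (Ideal.span {(p : R)}) R)
  intro n
  rw [SModEq.zero, smul_eq_mul, Ideal.mul_top, Ideal.span_singleton_pow]
  exact span_pow_mono (le_max_left n n₀) (h (max n n₀) (le_max_right _ _))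

theorem eq_of_forall_rho_eq {a b : 𝕎 R} (h : ∀ m, rho p R m m a = rho p R m m b) : a = b := by
  ext k
  rw [← sub_eq_zero]
  apply eq_zero_of_forall_mem p _ (k + 1)
  intro n hn
  exact (rho_eq_iff n n a b).mp (h n) k (by omega)

/-- Limits of `p`-adically Cauchy sequences of elements of `R`. -/
theorem exists_lim_ring (g : ℕ → R)
    (hg : ∀ t t', t ≤ t' → g t - g t' ∈ Ideal.span {(p : R) ^ t}) :
    ∃ L : R, ∀ t, g t - L ∈ Ideal.span {(p : R) ^ t} := by
  have := IsPrecomplete.prec (inferInstance : IsPrecomplete (Ideal.span {(p : R)}) R) (f := g)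
    (fun {m n} hmn => by
      rw [SModEq.sub_mem, smul_eq_mul, Ideal.mul_top, Ideal.span_singleton_pow]
      exact hg m n hmn)
  obtain ⟨L, hL⟩ := this
  refine ⟨L, fun t => ?_⟩
  have := hL t
  rwa [SModEq.sub_mem, smul_eq_mul, Ideal.mul_top, Ideal.span_singleton_pow] at this

theorem exists_lim (a : ℕ → 𝕎 R)
    (ha : ∀ M, ∃ c, a (M + 1) - a M = c * (p : 𝕎 R) ^ M) :
    ∃ L : 𝕎 R, ∀ m M, 2 * m ≤ M → rho p R m m L = rho p R m m (a M) := by
  have h1 : ∀ M M', M ≤ M' → ∃ c, a M' - a M = c * (p : 𝕎 R) ^ M := by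
    intro M M' hMM
    induction M', hMM using Nat.le_induction with
    | base => exact ⟨0, by rw [sub_self, zero_mul]⟩
    | succ M' hM' ih =>
      obtain ⟨c, hc⟩ := ih
      obtain ⟨c', hc'⟩ := ha M'
      refine ⟨c' * (p : 𝕎 R) ^ (M' - M) + c, ?_⟩
      have e : M' = (M' - M) + M := by omega
      calc a (M' + 1) - a M = (a (M' + 1) - a M') + (a M' - a M) := by ring
        _ = c' * (p : 𝕎 R) ^ M' + c * (p : 𝕎 R) ^ M := by rw [hc, hc']
        _ = c' * (p : 𝕎 R) ^ ((M' - M) + M) + c * (p : 𝕎 R) ^ M := by rw [← e]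
        _ = (c' * (p : 𝕎 R) ^ (M' - M) + c) * (p : 𝕎 R) ^ M := by rw [pow_add]; ring
  have h2 : ∀ k, ∃ L : R, ∀ t, (a (t + k)).coeff k - L ∈ Ideal.span {(p : R) ^ t} := by
    intro k
    apply exists_lim_ring
    intro t t' htt
    obtain ⟨c, hc⟩ := h1 (t + k) (t' + k) (by omega)
    have := coeff_sub_mem hc k
    rw [Nat.add_sub_cancel] at this
    have h3 := (Ideal.neg_mem_iff _).mpr this
    rwa [neg_sub] at h3
  choose L hL using h2
  refine ⟨WittVector.mk p L, fun m M hM => ?_⟩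
  rw [rho_eq_iff]
  intro i hi
  rw [WittVector.coeff_mk]
  obtain ⟨c, hc⟩ := h1 (m + i) M (by omega)
  have h4 := coeff_sub_mem hc i
  rw [Nat.add_sub_cancel] at h4
  have h5 := hL i m
  have e : L i - (a M).coeff i =
      -((a (m + i)).coeff i - L i) - ((a M).coeff i - (a (m + i)).coeff i) := by ring
  rw [e]
  exact sub_mem ((Ideal.neg_mem_iff _).mpr h5) h4

/-- Tail sums `y n = ∑_{j ≥ n} p^(j-n) z j`. -/
theorem exists_tail (z : ℕ → 𝕎 R) :
    ∃ y : ℕ → 𝕎 R, ∀ n, y n = z n + (p : 𝕎 R) * y (n + 1) := by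
  let S : ℕ → ℕ → 𝕎 R := fun n M => ∑ j ∈ Finset.range M, (p : 𝕎 R) ^ j * z (n + j)
  have hS1 : ∀ n M, S n (M + 1) = z n + (p : 𝕎 R) * S (n + 1) M := by
    intro n M
    show ∑ j ∈ Finset.range (M + 1), (p : 𝕎 R) ^ j * z (n + j) =
      z n + (p : 𝕎 R) * ∑ j ∈ Finset.range M, (p : 𝕎 R) ^ j * z (n + 1 + j)
    rw [Finset.sum_range_succ', Finset.mul_sum, pow_zero, one_mul, Nat.add_zero, add_comm]
    congr 1
    refine Finset.sum_congr rfl fun j _ => ?_
    have e : n + (j + 1) = n + 1 + j := by omega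
    rw [e, pow_succ]; ring
  have hS2 : ∀ n M, ∃ c, S n (M + 1) - S n M = c * (p : 𝕎 R) ^ M := by
    intro n M
    refine ⟨z (n + M), ?_⟩
    show ∑ j ∈ Finset.range (M + 1), (p : 𝕎 R) ^ j * z (n + j) -
      ∑ j ∈ Finset.range M, (p : 𝕎 R) ^ j * z (n + j) = _
    rw [Finset.sum_range_succ, add_sub_cancel_left, mul_comm]
  choose y hy using fun n => exists_lim (S n) (hS2 n)
  refine ⟨y, fun n => ?_⟩
  apply eq_of_forall_rho_eq
  intro m
  rw [hy n m (2 * m + 1) (by omega), hS1, map_add, map_mul, ← hy (n + 1) m (2 * m) le_rfl,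
    map_add, map_mul]

theorem isHausdorff_p : IsHausdorff (Ideal.span {(p : 𝕎 R)}) (𝕎 R) := by
  refine ⟨fun x hx => ?_⟩
  ext k
  rw [WittVector.zero_coeff]
  apply eq_zero_of_forall_mem p _ 0
  intro n _
  have := hx (n + k)
  rw [SModEq.zero, smul_eq_mul, Ideal.mul_top, Ideal.span_singleton_pow,
    Ideal.mem_span_singleton] at this
  obtain ⟨c, rfl⟩ := this
  have h := coeff_mul_pow_mem c (n + k) k
  rw [mul_comm c, Nat.add_sub_cancel] at h
  exact h

theorem isPrecomplete_p : IsPrecomplete (Ideal.span {(p : 𝕎 R)}) (𝕎 R) := by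
  refine ⟨fun f hf => ?_⟩
  have h1 : ∀ n, ∃ z, f (n + 1) - f n = (p : 𝕎 R) ^ n * z := by
    intro n
    have := hf (Nat.le_succ n)
    rw [SModEq.sub_mem, smul_eq_mul, Ideal.mul_top, Ideal.span_singleton_pow,
      Ideal.mem_span_singleton] at this
    obtain ⟨c, hc⟩ := this
    refine ⟨-c, ?_⟩
    rw [mul_neg, ← hc]; ring
  choose z hz using h1
  obtain ⟨y, hy⟩ := exists_tail z
  have h2 : ∀ n, f n + (p : 𝕎 R) ^ n * y n = f 0 + y 0 := by
    intro n
    induction n with
    | zero => rw [pow_zero, one_mul]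
    | succ n ih =>
      rw [← ih, hy n]
      have := hz n
      rw [sub_eq_iff_eq_add] at this
      rw [this]; ring
  refine ⟨f 0 + y 0, fun n => ?_⟩
  rw [SModEq.sub_mem, smul_eq_mul, Ideal.mul_top, Ideal.span_singleton_pow,
    Ideal.mem_span_singleton]
  refine ⟨-y n, ?_⟩
  rw [← h2 n]; ring

theorem isAdicComplete_p : IsAdicComplete (Ideal.span {(p : 𝕎 R)}) (𝕎 R) :=
  { toIsHausdorff := isHausdorff_p
    toIsPrecomplete := isPrecomplete_p }

end complete

section I

/-- The augmentation ideal `I_R = V W(R)`. -/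
noncomputable abbrev II (p : ℕ) [Fact p.Prime] (R : Type u) [CommRing R] : Ideal (WittVector p R) :=
  RingHom.ker (WittVector.constantCoeff : WittVector p R →+* R)

theorem mem_II_iff (x : 𝕎 R) : x ∈ II p R ↔ x.coeff 0 = 0 := by
  rw [RingHom.mem_ker, WittVector.constantCoeff_apply]

theorem exists_verschiebung_of_mem {x : 𝕎 R} (hx : x ∈ II p R) :
    ∃ y : 𝕎 R, x = verschiebung y := by
  have h0 : ∀ i < 1, x.coeff i = 0 := by
    intro i hi
    obtain rfl : i = 0 := by omega
    exact (mem_II_iff x).mp hx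
  have := WittVector.eq_iterate_verschiebung h0
  exact ⟨_, this⟩

theorem verschiebung_mem (y : 𝕎 R) : verschiebung y ∈ II p R := by
  rw [mem_II_iff]; exact WittVector.verschiebung_coeff_zero y

theorem II_mul_II_le : II p R * II p R ≤ Ideal.span {(p : 𝕎 R)} * II p R := by
  rw [Ideal.mul_le]
  intro a ha b hb
  obtain ⟨a', rfl⟩ := exists_verschiebung_of_mem ha
  obtain ⟨b', rfl⟩ := exists_verschiebung_of_mem hb
  rw [Groth.Agent.Lib.Helper22.Witt.verschiebung_mul_verschiebung]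
  exact Ideal.mul_mem_mul (Ideal.mem_span_singleton_self _) (verschiebung_mem _)

theorem II_pow_succ_le (n : ℕ) : II p R ^ (n + 1) ≤ Ideal.span {(p : 𝕎 R)} ^ n * II p R := by
  induction n with
  | zero => simp
  | succ n ih =>
    calc II p R ^ (n + 1 + 1) = II p R ^ (n + 1) * II p R := pow_succ _ _
      _ ≤ (Ideal.span {(p : 𝕎 R)} ^ n * II p R) * II p R := Ideal.mul_mono_left ih
      _ = Ideal.span {(p : 𝕎 R)} ^ n * (II p R * II p R) := mul_assoc _ _ _
      _ ≤ Ideal.span {(p : 𝕎 R)} ^ n * (Ideal.span {(p : 𝕎 R)} * II p R) :=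
        Ideal.mul_mono_right II_mul_II_le
      _ = Ideal.span {(p : 𝕎 R)} ^ (n + 1) * II p R := by rw [← mul_assoc, ← pow_succ]

theorem pow_mul_verschiebung_mem (n : ℕ) (w : 𝕎 R) :
    (p : 𝕎 R) ^ n * verschiebung w ∈ II p R ^ (n + 1) := by
  induction n generalizing w with
  | zero => rw [pow_zero, one_mul, zero_add, pow_one]; exact verschiebung_mem w
  | succ n ih =>
    have e : (p : 𝕎 R) ^ (n + 1) * verschiebung w =
        ((p : 𝕎 R) ^ n * verschiebung 1) * verschiebung w := by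
      rw [mul_assoc, Groth.Agent.Lib.Helper22.Witt.verschiebung_mul_verschiebung, one_mul,
        pow_succ, mul_assoc]
    rw [e, pow_succ (II p R)]
    exact Ideal.mul_mem_mul (ih 1) (verschiebung_mem w)

variable [IsAdicComplete (Ideal.span {(p : R)}) R]

theorem isHausdorff_II : IsHausdorff (II p R) (𝕎 R) := by
  refine ⟨fun x hx => ?_⟩
  apply IsHausdorff.haus (isHausdorff_p (p := p) (R := R))
  intro n
  have := hx (n + 1)
  rw [SModEq.zero, smul_eq_mul, Ideal.mul_top] at this ⊢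
  exact Ideal.mul_le_left (II_pow_succ_le n this)

theorem isPrecomplete_II : IsPrecomplete (II p R) (𝕎 R) := by
  refine ⟨fun f hf => ?_⟩
  have h1 : ∀ n, ∃ z : 𝕎 R, f (n + 2) - f (n + 1) = (p : 𝕎 R) ^ n * verschiebung z := by
    intro n
    have := hf (Nat.le_succ (n + 1))
    rw [SModEq.sub_mem, smul_eq_mul, Ideal.mul_top] at this
    have h := II_pow_succ_le n this
    rw [Ideal.span_singleton_pow, Ideal.mem_span_singleton_mul] at h
    obtain ⟨i, hi, hc⟩ := h
    obtain ⟨w, rfl⟩ := exists_verschiebung_of_mem hi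
    refine ⟨-w, ?_⟩
    rw [map_neg, mul_neg, hc]; ring
  choose z hz using h1
  obtain ⟨y, hy⟩ := exists_tail z
  have h2 : ∀ n, f (n + 1) + (p : 𝕎 R) ^ n * verschiebung (y n) = f 1 + verschiebung (y 0) := by
    intro n
    induction n with
    | zero => rw [pow_zero, one_mul]
    | succ n ih =>
      rw [← ih, hy n]
      have := hz n
      rw [sub_eq_iff_eq_add] at this
      have e : (p : 𝕎 R) * y (n + 1) = p • y (n + 1) := (nsmul_eq_mul _ _).symm
      rw [show n + 1 + 1 = n + 2 from rfl, this, map_add, e, map_nsmul, nsmul_eq_mul]; ring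
  refine ⟨f 1 + verschiebung (y 0), fun n => ?_⟩
  rw [SModEq.sub_mem, smul_eq_mul, Ideal.mul_top]
  rcases n with _ | n
  · rw [pow_zero, Ideal.one_eq_top]; trivial
  · rw [← h2 n]
    have e : f (n + 1) - (f (n + 1) + (p : 𝕎 R) ^ n * verschiebung (y n)) =
        -((p : 𝕎 R) ^ n * verschiebung (y n)) := by ring
    rw [e]
    exact (Ideal.neg_mem_iff _).mpr (pow_mul_verschiebung_mem n (y n))

theorem isAdicComplete_II : IsAdicComplete (II p R) (𝕎 R) :=
  { toIsHausdorff := isHausdorff_II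
    toIsPrecomplete := isPrecomplete_II }

end I

end H10Witt
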