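import Mathlib
import Groth.Agent.Lib.Helper10.WittAdic
import Groth.Agent.Lib.Helper10.AdicProj
import Groth.Agent.Lib.Helper10.LocalCrit

/-!
# Dieudonné modules over a perfect ring: `M / V M` is projective
-/

set_option autoImplicit false
universe u v

namespace H10DP

open WittVector

section witt

variable {p : ℕ} [hp : Fact p.Prime] {k : Type u} [CommRing k] [CharP k p] [PerfectRing k p]

theorem mul_p_eq (x : WittVector p k) :
    x * (p : WittVector p k) = verschiebung (frobenius x) :=
  (WittVector.verschiebung_frobenius x).symm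

theorem coeff_mul_p_succ (x : WittVector p k) (n : ℕ) :
    (x * (p : WittVector p k)).coeff (n + 1) = x.coeff n ^ p := by
  rw [mul_p_eq, WittVector.verschiebung_coeff_succ, WittVector.coeff_frobenius_charP]

theorem p_mul_cancel (x : WittVector p k) (h : x * (p : WittVector p k) = 0) : x = 0 := by
  rw [mul_p_eq] at h
  have h1 : frobenius x = 0 := by
    apply WittVector.verschiebung_injective p k
    rw [h, map_zero]
  exact (WittVector.frobenius_bijective p k).1 (h1.trans (map_zero _).symm)

/-- Witt vectors with all coefficients in `𝔪`. -/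
noncomputable def J (𝔪 : Ideal k) : Ideal (WittVector p k) :=
  RingHom.ker (WittVector.map (Ideal.Quotient.mk 𝔪))

theorem mem_J_iff (𝔪 : Ideal k) (x : WittVector p k) :
    x ∈ J (p := p) 𝔪 ↔ ∀ n, x.coeff n ∈ 𝔪 := by
  rw [J, RingHom.mem_ker, WittVector.ext_iff]
  refine forall_congr' (fun n => ?_)
  rw [WittVector.map_coeff, WittVector.zero_coeff, Ideal.Quotient.eq_zero_iff_mem]

theorem frobenius_mem_J (𝔪 : Ideal k) {x : WittVector p k} (h : x ∈ J (p := p) 𝔪) :
    frobenius x ∈ J (p := p) 𝔪 := by
  rw [mem_J_iff] at h ⊢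
  intro n
  rw [WittVector.coeff_frobenius_charP]
  exact Ideal.pow_mem_of_mem 𝔪 (h n) p hp.out.pos

theorem symm_mem_J (𝔪 : Ideal k) [𝔪.IsPrime] {x : WittVector p k} (h : x ∈ J (p := p) 𝔪) :
    (WittVector.frobeniusEquiv p k).symm x ∈ J (p := p) 𝔪 := by
  rw [mem_J_iff] at h ⊢
  intro n
  have h1 : frobenius ((WittVector.frobeniusEquiv p k).symm x) = x :=
    (WittVector.frobeniusEquiv p k).apply_symm_apply x
  have h2 := h n
  rw [← h1, WittVector.coeff_frobenius_charP] at h2
  exact Ideal.IsPrime.mem_of_pow_mem inferInstance p h2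

theorem cancel_p_J (𝔪 : Ideal k) [𝔪.IsPrime] {w : WittVector p k}
    (h : w * (p : WittVector p k) ∈ J (p := p) 𝔪) : w ∈ J (p := p) 𝔪 := by
  rw [mem_J_iff] at h ⊢
  intro n
  have h2 := h (n + 1)
  rw [coeff_mul_p_succ] at h2
  exact Ideal.IsPrime.mem_of_pow_mem inferInstance p h2

theorem ker_constantCoeff_le :
    RingHom.ker (WittVector.constantCoeff : WittVector p k →+* k) ≤
      Ideal.span {(p : WittVector p k)} := by
  intro x hx
  obtain ⟨y, rfl⟩ := H10Witt.exists_verschiebung_of_mem hx
  have h1 : frobenius ((WittVector.frobeniusEquiv p k).symm y) = y :=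
    (WittVector.frobeniusEquiv p k).apply_symm_apply y
  rw [← h1, ← mul_p_eq]
  exact Ideal.mem_span_singleton'.mpr ⟨_, rfl⟩

theorem constantCoeff_surjective :
    Function.Surjective (WittVector.constantCoeff : WittVector p k →+* k) := by
  intro a
  exact ⟨teichmuller p a, WittVector.teichmuller_coeff_zero p a⟩

section maxideal

variable (𝔐 : Ideal (WittVector p k)) [h𝔐 : 𝔐.IsPrime] (hp𝔐 : (p : WittVector p k) ∈ 𝔐)

include hp𝔐

theorem ker_le : RingHom.ker (WittVector.constantCoeff : WittVector p k →+* k) ≤ 𝔐 :=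
  ker_constantCoeff_le.trans ((Ideal.span_singleton_le_iff_mem _).mpr hp𝔐)

theorem isPrime_map :
    (Ideal.map (WittVector.constantCoeff : WittVector p k →+* k) 𝔐).IsPrime :=
  Ideal.map_isPrime_of_surjective constantCoeff_surjective (ker_le 𝔐 hp𝔐)

theorem mem_of_coeff_zero_mem {x : WittVector p k}
    (h : x.coeff 0 ∈ Ideal.map (WittVector.constantCoeff : WittVector p k →+* k) 𝔐) :
    x ∈ 𝔐 := by
  obtain ⟨y, hy, hyx⟩ := (Ideal.mem_map_iff_of_surjective _ constantCoeff_surjective).mp h
  have h1 : x - y ∈ RingHom.ker (WittVector.constantCoeff : WittVector p k →+* k) := by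
    rw [RingHom.mem_ker, map_sub, hyx]
    exact sub_self _
  have e : x = (x - y) + y := by ring
  rw [e]
  exact Ideal.add_mem _ (ker_le 𝔐 hp𝔐 h1) hy

theorem J_le : J (p := p) (Ideal.map (WittVector.constantCoeff : WittVector p k →+* k) 𝔐) ≤ 𝔐 := by
  intro x hx
  exact mem_of_coeff_zero_mem 𝔐 hp𝔐 (((mem_J_iff _ x).mp hx) 0)

theorem le_sup :
    𝔐 ≤ J (p := p) (Ideal.map (WittVector.constantCoeff : WittVector p k →+* k) 𝔐) ⊔
      Ideal.span {(p : WittVector p k)} := by
  intro x hx
  have h0 : x.coeff 0 ∈ Ideal.map (WittVector.constantCoeff : WittVector p k →+* k) 𝔐 :=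
    Ideal.mem_map_of_mem _ hx
  have h1 : teichmuller p (x.coeff 0) ∈
      J (p := p) (Ideal.map (WittVector.constantCoeff : WittVector p k →+* k) 𝔐) := by
    rw [mem_J_iff]
    intro n
    rcases n with _ | n
    · rw [WittVector.teichmuller_coeff_zero]
      exact h0
    · rw [WittVector.teichmuller_coeff_pos p _ _ (Nat.succ_pos n)]
      exact Ideal.zero_mem _
  have h2 : x - teichmuller p (x.coeff 0) ∈
      RingHom.ker (WittVector.constantCoeff : WittVector p k →+* k) := by
    rw [RingHom.mem_ker, map_sub]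
    show x.coeff 0 - (teichmuller p (x.coeff 0)).coeff 0 = 0
    rw [WittVector.teichmuller_coeff_zero, sub_self]
  have e : x = teichmuller p (x.coeff 0) + (x - teichmuller p (x.coeff 0)) := by ring
  rw [e]
  exact Ideal.add_mem _ (Ideal.mem_sup_left h1) (Ideal.mem_sup_right (ker_constantCoeff_le h2))

end maxideal

end witt

section module

variable {p : ℕ} [hp : Fact p.Prime] {k : Type u} [CommRing k] [CharP k p] [PerfectRing k p]
variable {M : Type v} [AddCommGroup M] [Module (WittVector p k) M]
variable (F : M →ₛₗ[(WittVector.frobenius : WittVector p k →+* WittVector p k)] M)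
  (V : M →ₛₗ[((WittVector.frobeniusEquiv p k).symm : WittVector p k →+* WittVector p k)] M)

theorem pM_iff (x : M) :
    x ∈ Ideal.span {(p : WittVector p k)} • (⊤ : Submodule (WittVector p k) M) ↔
      ∃ y, (p : WittVector p k) • y = x := by
  rw [Submodule.ideal_span_singleton_smul, Submodule.mem_smul_pointwise_iff_exists]
  simp

theorem V_smul (w : WittVector p k) (m : M) : V (frobenius w • m) = w • V m := by
  rw [V.map_smulₛₗ]
  congr 1
  exact (WittVector.frobeniusEquiv p k).symm_apply_apply w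

theorem V_p_smul (m : M) : V ((p : WittVector p k) • m) = (p : WittVector p k) • V m := by
  rw [V.map_smulₛₗ, map_natCast]

theorem F_p_smul (m : M) : F ((p : WittVector p k) • m) = (p : WittVector p k) • F m := by
  rw [F.map_smulₛₗ, map_natCast]

/-- The image of `V` in `M / pM`. -/
noncomputable abbrev KV : Submodule (WittVector p k ⧸ Ideal.span {(p : WittVector p k)})
    (M ⧸ (Ideal.span {(p : WittVector p k)} • (⊤ : Submodule (WittVector p k) M))) :=
  Submodule.span (WittVector p k ⧸ Ideal.span {(p : WittVector p k)})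
    (Set.range fun m : M =>
      (Ideal.span {(p : WittVector p k)} • (⊤ : Submodule (WittVector p k) M)).mkQ (V m))

theorem mem_KV (x : M ⧸ (Ideal.span {(p : WittVector p k)} • (⊤ : Submodule (WittVector p k) M)))
    (hx : x ∈ KV V) :
    ∃ n : M, x = (Ideal.span {(p : WittVector p k)} •
      (⊤ : Submodule (WittVector p k) M)).mkQ (V n) := by
  refine Submodule.span_induction (p := fun x _ => ∃ n : M, x = (Ideal.span {(p : WittVector p k)} •
      (⊤ : Submodule (WittVector p k) M)).mkQ (V n)) ?_ ?_ ?_ ?_ hx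
  · rintro _ ⟨m, rfl⟩
    exact ⟨m, rfl⟩
  · exact ⟨0, by rw [map_zero, map_zero]⟩
  · rintro x y _ _ ⟨n, rfl⟩ ⟨n', rfl⟩
    exact ⟨n + n', by rw [map_add, map_add]⟩
  · rintro a x _ ⟨n, rfl⟩
    obtain ⟨w, rfl⟩ := Ideal.Quotient.mk_surjective a
    refine ⟨frobenius w • n, ?_⟩
    rw [V_smul]
    rfl

theorem KV_fg [Module.Finite (WittVector p k) M] : (KV V).FG := by
  obtain ⟨s, hs⟩ := (Module.Finite.fg_top : (⊤ : Submodule (WittVector p k) M).FG)
  have h : KV V = Submodule.span (WittVector p k ⧸ Ideal.span {(p : WittVector p k)})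
      ((fun m : M => (Ideal.span {(p : WittVector p k)} •
        (⊤ : Submodule (WittVector p k) M)).mkQ (V m)) '' (s : Set M)) := by
    apply le_antisymm
    · rw [Submodule.span_le]
      rintro _ ⟨m, rfl⟩
      have hm : m ∈ Submodule.span (WittVector p k) (s : Set M) := by
        rw [hs]
        exact Submodule.mem_top
      refine Submodule.span_induction (p := fun m _ => (Ideal.span {(p : WittVector p k)} •
        (⊤ : Submodule (WittVector p k) M)).mkQ (V m) ∈
          Submodule.span (WittVector p k ⧸ Ideal.span {(p : WittVector p k)})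
          ((fun m : M => (Ideal.span {(p : WittVector p k)} •
            (⊤ : Submodule (WittVector p k) M)).mkQ (V m)) '' (s : Set M))) ?_ ?_ ?_ ?_ hm
      · intro g hg
        exact Submodule.subset_span ⟨g, hg, rfl⟩
      · rw [map_zero, map_zero]
        exact Submodule.zero_mem _
      · intro x y _ _ hx hy
        rw [map_add, map_add]
        exact Submodule.add_mem _ hx hy
      · intro w x _ hx
        rw [V.map_smulₛₗ]
        exact Submodule.smul_mem _ (Ideal.Quotient.mk _
          (((WittVector.frobeniusEquiv p k).symm : WittVector p k →+* WittVector p k) w)) hx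
    · refine Submodule.span_mono ?_
      rintro _ ⟨m, _, rfl⟩
      exact ⟨m, rfl⟩
  rw [h]
  exact Submodule.fg_span ((Finset.finite_toSet s).image _)

theorem mem_of_mkQ_mem (I : Ideal (WittVector p k ⧸ Ideal.span {(p : WittVector p k)}))
    (x : M ⧸ (Ideal.span {(p : WittVector p k)} • (⊤ : Submodule (WittVector p k) M)))
    (hx : x ∈ I • (⊤ : Submodule (WittVector p k ⧸ Ideal.span {(p : WittVector p k)})
      (M ⧸ (Ideal.span {(p : WittVector p k)} • (⊤ : Submodule (WittVector p k) M))))) :
    ∀ y : M, (Ideal.span {(p : WittVector p k)} •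
      (⊤ : Submodule (WittVector p k) M)).mkQ y = x →
      y ∈ (I.comap (Ideal.Quotient.mk (Ideal.span {(p : WittVector p k)}))) •
        (⊤ : Submodule (WittVector p k) M) := by
  have hle : Ideal.span {(p : WittVector p k)} • (⊤ : Submodule (WittVector p k) M) ≤
      (I.comap (Ideal.Quotient.mk (Ideal.span {(p : WittVector p k)}))) •
        (⊤ : Submodule (WittVector p k) M) := by
    refine Submodule.smul_mono_left ?_
    intro w hw
    rw [Ideal.mem_comap, Ideal.Quotient.eq_zero_iff_mem.mpr hw]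
    exact Ideal.zero_mem _
  refine Submodule.smul_induction_on hx (fun a ha x' _ => ?_) (fun x1 x2 h1 h2 => ?_)
  · intro y hy
    obtain ⟨w, rfl⟩ := Ideal.Quotient.mk_surjective a
    obtain ⟨y', rfl⟩ := Submodule.mkQ_surjective _ x'
    have h1 : y - w • y' ∈ Ideal.span {(p : WittVector p k)} •
        (⊤ : Submodule (WittVector p k) M) := by
      rw [← Submodule.ker_mkQ (Ideal.span {(p : WittVector p k)} •
        (⊤ : Submodule (WittVector p k) M)), LinearMap.mem_ker, map_sub, hy]
      exact sub_self _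
    have e : y = (y - w • y') + w • y' := by abel
    rw [e]
    exact Submodule.add_mem _ (hle h1) (Submodule.smul_mem_smul ha Submodule.mem_top)
  · intro y hy
    obtain ⟨y1, rfl⟩ := Submodule.mkQ_surjective _ x1
    have h3 : (Ideal.span {(p : WittVector p k)} •
        (⊤ : Submodule (WittVector p k) M)).mkQ (y - y1) = x2 := by
      rw [map_sub, hy]
      abel
    have e : y = y1 + (y - y1) := by abel
    rw [e]
    exact Submodule.add_mem _ (h1 y1 rfl) (h2 _ h3)

theorem F_mem (𝔪 : Ideal k) (z : M)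
    (hz : z ∈ J (p := p) 𝔪 • (⊤ : Submodule (WittVector p k) M)) :
    F z ∈ J (p := p) 𝔪 • (⊤ : Submodule (WittVector p k) M) := by
  refine Submodule.smul_induction_on hz (fun a ha x _ => ?_) (fun x y hx hy => ?_)
  · rw [F.map_smulₛₗ]
    exact Submodule.smul_mem_smul (frobenius_mem_J 𝔪 ha) Submodule.mem_top
  · rw [map_add]
    exact Submodule.add_mem _ hx hy

theorem qV_mem (𝔪 : Ideal k) [𝔪.IsPrime]
    (I : Ideal (WittVector p k ⧸ Ideal.span {(p : WittVector p k)}))
    (hJI : J (p := p) 𝔪 ≤ I.comap (Ideal.Quotient.mk (Ideal.span {(p : WittVector p k)})))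
    (z : M) (hz : z ∈ J (p := p) 𝔪 • (⊤ : Submodule (WittVector p k) M)) :
    (Ideal.span {(p : WittVector p k)} • (⊤ : Submodule (WittVector p k) M)).mkQ (V z) ∈
      I • KV V := by
  refine Submodule.smul_induction_on hz (fun a ha x _ => ?_) (fun x y hx hy => ?_)
  · rw [V.map_smulₛₗ]
    have h1 : Ideal.Quotient.mk (Ideal.span {(p : WittVector p k)})
        (((WittVector.frobeniusEquiv p k).symm : WittVector p k →+* WittVector p k) a) ∈ I :=
      hJI (symm_mem_J 𝔪 ha)
    have h2 : (Ideal.span {(p : WittVector p k)} • (⊤ : Submodule (WittVector p k) M)).mkQ (V x) ∈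
        KV V := Submodule.subset_span ⟨x, rfl⟩
    exact Submodule.smul_mem_smul h1 h2
  · rw [map_add, map_add]
    exact Submodule.add_mem _ hx hy

theorem projective_mod_V [Module.Finite (WittVector p k) M]
    [Module.Finite (WittVector p k ⧸ Ideal.span {(p : WittVector p k)})
      (M ⧸ (Ideal.span {(p : WittVector p k)} • (⊤ : Submodule (WittVector p k) M)))]
    [Module.Projective (WittVector p k ⧸ Ideal.span {(p : WittVector p k)})
      (M ⧸ (Ideal.span {(p : WittVector p k)} • (⊤ : Submodule (WittVector p k) M)))]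
    (hFV : ∀ m : M, F (V m) = (p : WittVector p k) • m)
    (hVF : ∀ m : M, V (F m) = (p : WittVector p k) • m)
    (H : ∀ (𝔪 : Ideal k) [𝔪.IsPrime] (y : M),
      (p : WittVector p k) • y ∈ J (p := p) 𝔪 • (⊤ : Submodule (WittVector p k) M) →
      y ∈ J (p := p) 𝔪 • (⊤ : Submodule (WittVector p k) M) ⊔
        Ideal.span {(p : WittVector p k)} • (⊤ : Submodule (WittVector p k) M)) :
    Module.Projective (WittVector p k ⧸ Ideal.span {(p : WittVector p k)})
      ((M ⧸ (Ideal.span {(p : WittVector p k)} • (⊤ : Submodule (WittVector p k) M))) ⧸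
        KV V) := by
  refine H10LC.projective_quotient_of_inf_le (KV V) (KV_fg V) ?_
  intro 𝔪A h𝔪A
  haveI := h𝔪A
  haveI h𝔐 : (𝔪A.comap (Ideal.Quotient.mk (Ideal.span {(p : WittVector p k)}))).IsPrime :=
    Ideal.comap_isPrime _ _
  have hp𝔐 : (p : WittVector p k) ∈
      𝔪A.comap (Ideal.Quotient.mk (Ideal.span {(p : WittVector p k)})) := by
    rw [Ideal.mem_comap, Ideal.Quotient.eq_zero_iff_mem.mpr (Ideal.mem_span_singleton_self _)]
    exact Ideal.zero_mem _
  haveI h𝔪 := isPrime_map _ hp𝔐
  have hJ𝔐 := J_le _ hp𝔐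
  have h𝔐J := le_sup _ hp𝔐
  rintro x ⟨hxK, hx𝔪⟩
  obtain ⟨n, rfl⟩ := mem_KV V x hxK
  have h2 := mem_of_mkQ_mem 𝔪A _ hx𝔪 (V n) rfl
  have h3 := Submodule.smul_mono_left (N := (⊤ : Submodule (WittVector p k) M)) h𝔐J h2
  rw [Submodule.sup_smul] at h3
  obtain ⟨z, hz, q', hq', hzq⟩ := Submodule.mem_sup.mp h3
  obtain ⟨m', rfl⟩ := (pM_iff q').mp hq'
  have h4 : (p : WittVector p k) • (n - F m') = F z := by
    have e : z = V n - (p : WittVector p k) • m' := by rw [← hzq]; abel
    rw [e, map_sub, hFV, F_p_smul, smul_sub]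
  have h5 := H _ (n - F m') (by rw [h4]; exact F_mem F _ z hz)
  obtain ⟨z', hz', q'', hq'', e5⟩ := Submodule.mem_sup.mp h5
  obtain ⟨m'', rfl⟩ := (pM_iff q'').mp hq''
  have e6 : V n = V z' + (p : WittVector p k) • (m' + V m'') := by
    have e : n = z' + (p : WittVector p k) • m'' + F m' := by rw [e5]; abel
    conv_lhs => rw [e]
    rw [map_add, map_add, hVF, V_p_smul, smul_add]
    abel
  have e7 : (Ideal.span {(p : WittVector p k)} • (⊤ : Submodule (WittVector p k) M)).mkQ (V n) =
      (Ideal.span {(p : WittVector p k)} • (⊤ : Submodule (WittVector p k) M)).mkQ (V z') := by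
    rw [e6, map_add]
    have h0 : (Ideal.span {(p : WittVector p k)} • (⊤ : Submodule (WittVector p k) M)).mkQ
        ((p : WittVector p k) • (m' + V m'')) = 0 := by
      rw [← LinearMap.mem_ker, Submodule.ker_mkQ]
      exact (pM_iff _).mpr ⟨_, rfl⟩
    rw [h0, add_zero]
  rw [e7]
  exact qV_mem V _ 𝔪A hJ𝔐 z' hz'

end module

end H10DP
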