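import Mathlib
import Groth.Agent.Lib.Helper10.DieuPerfect

/-!
# Dieudonné modules over a perfect ring: the two concrete situations
-/

set_option autoImplicit false
universe u v

namespace H10DP

open WittVector

section tower

theorem projective_quotient_tower {R : Type*} [CommRing R] (I₀ I : Ideal R) (h : I₀ ≤ I)
    (M : Type*) [AddCommGroup M] [Module R M] [Module (R ⧸ I₀) M] [IsScalarTower R (R ⧸ I₀) M]
    [Module.Finite (R ⧸ I₀) M] [Module.Projective (R ⧸ I₀) M] :
    Module.Projective (R ⧸ I) (M ⧸ I • (⊤ : Submodule R M)) := by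
  obtain ⟨r, ρ, i, _, _, hρi⟩ := Module.Finite.exists_comp_eq_id_of_projective (R ⧸ I₀) M
  let q₁ : M →+ (Fin r → R ⧸ I) :=
    { toFun := fun x j => Ideal.Quotient.factor h (i x j)
      map_zero' := by
        funext j
        show Ideal.Quotient.factor h ((i 0) j) = 0
        rw [map_zero]
        exact map_zero _
      map_add' := by
        intro x y
        funext j
        show Ideal.Quotient.factor h ((i (x + y)) j) =
          Ideal.Quotient.factor h (i x j) + Ideal.Quotient.factor h (i y j)
        rw [map_add]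
        exact map_add _ _ _ }
  have hq₁ : ∀ (a : R) (m : M), q₁ (a • m) = Ideal.Quotient.mk I a • q₁ m := by
    intro a m
    funext j
    show Ideal.Quotient.factor h (i (a • m) j) =
      Ideal.Quotient.mk I a * Ideal.Quotient.factor h (i m j)
    rw [← algebraMap_smul (R ⧸ I₀) a m, map_smul]
    show Ideal.Quotient.factor h (algebraMap R (R ⧸ I₀) a * i m j) = _
    rw [map_mul]
    congr 1
  have hmk : ∀ (a : R) (m : M),
      (Submodule.mkQ (I • (⊤ : Submodule R M))).toAddMonoidHom (a • m) =
      Ideal.Quotient.mk I a • (Submodule.mkQ (I • (⊤ : Submodule R M))).toAddMonoidHom m :=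
    fun a m => rfl
  let φ : (Fin r → R) →ₗ[R] M :=
    Fintype.linearCombination R (fun j => ρ (fun j' => if j = j' then 1 else 0))
  refine Module.Projective.of_split (H10AP.quotLift I q₁ hq₁)
    (H10AP.bar I (Submodule.mkQ (I • (⊤ : Submodule R M))).toAddMonoidHom φ) ?_
  apply LinearMap.ext
  intro z
  obtain ⟨y, rfl⟩ := Submodule.Quotient.mk_surjective _ z
  choose w hw using fun j => Ideal.Quotient.mk_surjective (i y j)
  have e1 : q₁ y = H10AP.piJ I r w := by
    funext j
    show Ideal.Quotient.factor h (i y j) = Ideal.Quotient.mk I (w j)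
    rw [← hw j]
    exact Ideal.Quotient.factor_mk h (w j)
  show H10AP.bar I (Submodule.mkQ (I • (⊤ : Submodule R M))).toAddMonoidHom φ (q₁ y) = _
  rw [e1, H10AP.bar_pi I _ hmk]
  have e2 : φ w = y := by
    have h1 := LinearMap.congr_fun hρi y
    rw [LinearMap.comp_apply, LinearMap.id_apply, LinearMap.pi_apply_eq_sum_univ ρ (i y)] at h1
    rw [Fintype.linearCombination_apply]
    conv_rhs => rw [← h1]
    refine Finset.sum_congr rfl (fun j _ => ?_)
    rw [← hw j]
    exact (algebraMap_smul (R ⧸ I₀) (w j) _).symm
  rw [e2]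
  rfl

end tower

section module

variable {p : ℕ} [hp : Fact p.Prime] {k : Type u} [CommRing k] [CharP k p] [PerfectRing k p]
variable {M : Type v} [AddCommGroup M] [Module (WittVector p k) M]

theorem H_of_projective {R' : Type*} [CommRing R'] [Algebra (WittVector p k) R']
    (hsurj : Function.Surjective (algebraMap (WittVector p k) R'))
    [Module R' M] [IsScalarTower (WittVector p k) R' M] [Module.Projective R' M]
    (Jd : Ideal (WittVector p k))
    (hJ : ∀ w : WittVector p k, w * (p : WittVector p k) ∈
      Jd ⊔ RingHom.ker (algebraMap (WittVector p k) R') →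
      w ∈ Jd ⊔ Ideal.span {(p : WittVector p k)})
    (y : M) (hy : (p : WittVector p k) • y ∈ Jd • (⊤ : Submodule (WittVector p k) M)) :
    y ∈ Jd • (⊤ : Submodule (WittVector p k) M) ⊔
      Ideal.span {(p : WittVector p k)} • (⊤ : Submodule (WittVector p k) M) := by
  obtain ⟨s, hs⟩ := Module.projective_def'.mp (inferInstance : Module.Projective R' M)
  have hφ : ∀ (φ : M →ₗ[R'] R') (z : M), z ∈ Jd • (⊤ : Submodule (WittVector p k) M) →
      φ z ∈ Jd.map (algebraMap (WittVector p k) R') := by
    intro φ z hz
    refine Submodule.smul_induction_on hz (fun a ha x _ => ?_) (fun x y hx hy => ?_)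
    · rw [← algebraMap_smul R' a x, map_smul, smul_eq_mul]
      exact Ideal.mul_mem_right _ _ (Ideal.mem_map_of_mem _ ha)
    · rw [map_add]
      exact Ideal.add_mem _ hx hy
  have hcoord : ∀ m : M, ∃ w : WittVector p k, algebraMap (WittVector p k) R' w = s y m ∧
      w ∈ Jd ⊔ Ideal.span {(p : WittVector p k)} := by
    intro m
    obtain ⟨w, hw⟩ := hsurj (s y m)
    refine ⟨w, hw, hJ w ?_⟩
    have h1 := hφ ((Finsupp.lapply m).comp s) _ hy
    have h2 : ((Finsupp.lapply m).comp s) ((p : WittVector p k) • y) =
        algebraMap (WittVector p k) R' (w * (p : WittVector p k)) := by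
      rw [← algebraMap_smul R' (p : WittVector p k) y, map_smul, LinearMap.comp_apply,
        Finsupp.lapply_apply, ← hw, smul_eq_mul, map_mul, mul_comm]
    rw [h2] at h1
    obtain ⟨j, hj, hjw⟩ := (Ideal.mem_map_iff_of_surjective _ hsurj).mp h1
    have h3 : w * (p : WittVector p k) - j ∈ RingHom.ker (algebraMap (WittVector p k) R') := by
      rw [RingHom.mem_ker, map_sub, hjw, sub_self]
    have e : w * (p : WittVector p k) = j + (w * (p : WittVector p k) - j) := by ring
    rw [e]
    exact Ideal.add_mem _ (Ideal.mem_sup_left hj) (Ideal.mem_sup_right h3)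
  choose c hc1 hc2 using hcoord
  have hy2 : y = ∑ m ∈ (s y).support, c m • m := by
    have h1 := LinearMap.congr_fun hs y
    rw [LinearMap.comp_apply, LinearMap.id_apply, Finsupp.linearCombination_apply,
      Finsupp.sum] at h1
    conv_lhs => rw [← h1]
    refine Finset.sum_congr rfl (fun m _ => ?_)
    rw [id, ← hc1 m, algebraMap_smul]
  rw [hy2, ← Submodule.sup_smul]
  exact Submodule.sum_mem _ (fun m _ => Submodule.smul_mem_smul (hc2 m) Submodule.mem_top)

/-- `M` projective over `W(k)`. -/
theorem H_of_projective_W [Module.Projective (WittVector p k) M]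
    (𝔪 : Ideal k) [𝔪.IsPrime] (y : M)
    (hy : (p : WittVector p k) • y ∈ J (p := p) 𝔪 • (⊤ : Submodule (WittVector p k) M)) :
    y ∈ J (p := p) 𝔪 • (⊤ : Submodule (WittVector p k) M) ⊔
      Ideal.span {(p : WittVector p k)} • (⊤ : Submodule (WittVector p k) M) := by
  refine H_of_projective (R' := WittVector p k) Function.surjective_id (J (p := p) 𝔪) ?_ y hy
  intro w hw
  obtain ⟨j, hj, c, hc, e⟩ := Submodule.mem_sup.mp hw
  have hc0 : c = 0 := by
    have := (RingHom.mem_ker).mp hc
    simpa using this
  rw [hc0, add_zero] at e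
  rw [e] at hj
  exact Ideal.mem_sup_left (cancel_p_J 𝔪 hj)

/-- `M` projective over `W(k) / p^n`, `n ≥ 2`. -/
theorem H_of_projective_Wn (n : ℕ) (hn : 2 ≤ n)
    [Module (WittVector p k ⧸ Ideal.span {(p : WittVector p k) ^ n}) M]
    [IsScalarTower (WittVector p k) (WittVector p k ⧸ Ideal.span {(p : WittVector p k) ^ n}) M]
    [Module.Projective (WittVector p k ⧸ Ideal.span {(p : WittVector p k) ^ n}) M]
    (𝔪 : Ideal k) [𝔪.IsPrime] (y : M)
    (hy : (p : WittVector p k) • y ∈ J (p := p) 𝔪 • (⊤ : Submodule (WittVector p k) M)) :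
    y ∈ J (p := p) 𝔪 • (⊤ : Submodule (WittVector p k) M) ⊔
      Ideal.span {(p : WittVector p k)} • (⊤ : Submodule (WittVector p k) M) := by
  refine H_of_projective (R' := WittVector p k ⧸ Ideal.span {(p : WittVector p k) ^ n})
    Ideal.Quotient.mk_surjective (J (p := p) 𝔪) ?_ y hy
  intro w hw
  rw [Ideal.Quotient.algebraMap_eq, Ideal.mk_ker] at hw
  obtain ⟨j, hj, c, hc, e⟩ := Submodule.mem_sup.mp hw
  obtain ⟨u, rfl⟩ := Ideal.mem_span_singleton'.mp hc
  have hpn : (p : WittVector p k) ^ n =
      (p : WittVector p k) ^ (n - 2) * (p : WittVector p k) * (p : WittVector p k) := by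
    rw [mul_assoc, ← pow_two, ← pow_add]
    congr 1
    omega
  have h1 : (w - u * (p : WittVector p k) ^ (n - 2) * (p : WittVector p k)) *
      (p : WittVector p k) = j := by
    have : j = w * (p : WittVector p k) - u * (p : WittVector p k) ^ n := by rw [← e]; ring
    rw [this, hpn]
    ring
  have h2 : w - u * (p : WittVector p k) ^ (n - 2) * (p : WittVector p k) ∈ J (p := p) 𝔪 := by
    apply cancel_p_J 𝔪
    rw [h1]
    exact hj
  have e2 : w = (w - u * (p : WittVector p k) ^ (n - 2) * (p : WittVector p k)) +
      u * (p : WittVector p k) ^ (n - 2) * (p : WittVector p k) := by ring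
  rw [e2]
  exact Ideal.add_mem _ (Ideal.mem_sup_left h2)
    (Ideal.mem_sup_right (Ideal.mul_mem_left _ _ (Ideal.mem_span_singleton_self _)))

theorem torsionFree_of_projective [Module.Projective (WittVector p k) M] (x : M)
    (hx : (p : WittVector p k) • x = 0) : x = 0 := by
  obtain ⟨s, hs⟩ := Module.projective_def'.mp
    (inferInstance : Module.Projective (WittVector p k) M)
  have h0 : s x = 0 := by
    refine Finsupp.ext (fun m => ?_)
    have h1 : (p : WittVector p k) • s x = 0 := by rw [← map_smul, hx, map_zero]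
    have h2 := DFunLike.congr_fun h1 m
    rw [Finsupp.smul_apply, smul_eq_mul, mul_comm, Finsupp.zero_apply] at h2
    rw [Finsupp.zero_apply]
    exact p_mul_cancel _ h2
  have h1 := LinearMap.congr_fun hs x
  rw [LinearMap.comp_apply, LinearMap.id_apply, h0, map_zero] at h1
  exact h1.symm

variable (F : M →ₛₗ[(WittVector.frobenius : WittVector p k →+* WittVector p k)] M)
  (V : M →ₛₗ[((WittVector.frobeniusEquiv p k).symm : WittVector p k →+* WittVector p k)] M)

theorem exactness (htf : ∀ x : M, (p : WittVector p k) • x = 0 → x = 0)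
    (hFV : ∀ m : M, F (V m) = (p : WittVector p k) • m)
    (hVF : ∀ m : M, V (F m) = (p : WittVector p k) • m) :
    (Ideal.span {(p : WittVector p k)} • (⊤ : Submodule (WittVector p k) M)).comap F =
        Submodule.span (WittVector p k) (Set.range V) ⊔
          Ideal.span {(p : WittVector p k)} • (⊤ : Submodule (WittVector p k) M) ∧
      (Ideal.span {(p : WittVector p k)} • (⊤ : Submodule (WittVector p k) M)).comap V =
        Submodule.span (WittVector p k) (Set.range F) ⊔
          Ideal.span {(p : WittVector p k)} • (⊤ : Submodule (WittVector p k) M) := by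
  constructor
  · apply le_antisymm
    · intro m hm
      rw [Submodule.mem_comap] at hm
      obtain ⟨m', hm'⟩ := (pM_iff _).1 hm
      have h0 : F (m - V m') = 0 := by rw [map_sub, hFV, hm', sub_self]
      have h1 : (p : WittVector p k) • (m - V m') = 0 := by rw [← hVF, h0, map_zero]
      have h2 := htf _ h1
      rw [sub_eq_zero] at h2
      rw [h2]
      exact Submodule.mem_sup_left (Submodule.subset_span ⟨m', rfl⟩)
    · refine sup_le (Submodule.span_le.mpr ?_) ?_
      · rintro _ ⟨m, rfl⟩
        rw [SetLike.mem_coe, Submodule.mem_comap, hFV]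
        exact (pM_iff _).2 ⟨m, rfl⟩
      · intro x hx
        obtain ⟨y, rfl⟩ := (pM_iff x).1 hx
        rw [Submodule.mem_comap, F_p_smul]
        exact (pM_iff _).2 ⟨F y, rfl⟩
  · apply le_antisymm
    · intro m hm
      rw [Submodule.mem_comap] at hm
      obtain ⟨m', hm'⟩ := (pM_iff _).1 hm
      have h0 : V (m - F m') = 0 := by rw [map_sub, hVF, hm', sub_self]
      have h1 : (p : WittVector p k) • (m - F m') = 0 := by rw [← hFV, h0, map_zero]
      have h2 := htf _ h1
      rw [sub_eq_zero] at h2
      rw [h2]
      exact Submodule.mem_sup_left (Submodule.subset_span ⟨m', rfl⟩)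
    · refine sup_le (Submodule.span_le.mpr ?_) ?_
      · rintro _ ⟨m, rfl⟩
        rw [SetLike.mem_coe, Submodule.mem_comap, hVF]
        exact (pM_iff _).2 ⟨m, rfl⟩
      · intro x hx
        obtain ⟨y, rfl⟩ := (pM_iff x).1 hx
        rw [Submodule.mem_comap, V_p_smul]
        exact (pM_iff _).2 ⟨V y, rfl⟩

/-- The case of a finite projective `W(k)`-module. -/
theorem projective_mod_V_W [Module.Finite (WittVector p k) M]
    [Module.Projective (WittVector p k) M]
    (hFV : ∀ m : M, F (V m) = (p : WittVector p k) • m)
    (hVF : ∀ m : M, V (F m) = (p : WittVector p k) • m) :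
    Module.Projective (WittVector p k ⧸ Ideal.span {(p : WittVector p k)})
      ((M ⧸ (Ideal.span {(p : WittVector p k)} • (⊤ : Submodule (WittVector p k) M))) ⧸
        Submodule.span (WittVector p k ⧸ Ideal.span {(p : WittVector p k)})
          (Set.range fun m : M => (Ideal.span {(p : WittVector p k)} •
            (⊤ : Submodule (WittVector p k) M)).mkQ (V m))) := by
  haveI : Module.Finite (WittVector p k ⧸ Ideal.span {(p : WittVector p k)})
      (M ⧸ (Ideal.span {(p : WittVector p k)} • (⊤ : Submodule (WittVector p k) M))) :=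
    Module.Finite.of_restrictScalars_finite (WittVector p k) _ _
  haveI : Module.Projective (WittVector p k ⧸ Ideal.span {(p : WittVector p k)})
      (M ⧸ (Ideal.span {(p : WittVector p k)} • (⊤ : Submodule (WittVector p k) M))) :=
    H10AP.projective_quotient _ M
  exact projective_mod_V F V hFV hVF (fun 𝔪 _ y hy => H_of_projective_W 𝔪 y hy)

/-- The case of a finite projective `W(k) / p^n`-module, `n ≥ 2`. -/
theorem projective_mod_V_Wn (n : ℕ) (hn : 2 ≤ n)
    [Module (WittVector p k ⧸ Ideal.span {(p : WittVector p k) ^ n}) M]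
    [IsScalarTower (WittVector p k) (WittVector p k ⧸ Ideal.span {(p : WittVector p k) ^ n}) M]
    [Module.Finite (WittVector p k ⧸ Ideal.span {(p : WittVector p k) ^ n}) M]
    [Module.Projective (WittVector p k ⧸ Ideal.span {(p : WittVector p k) ^ n}) M]
    (hFV : ∀ m : M, F (V m) = (p : WittVector p k) • m)
    (hVF : ∀ m : M, V (F m) = (p : WittVector p k) • m) :
    Module.Projective (WittVector p k ⧸ Ideal.span {(p : WittVector p k)})
      ((M ⧸ (Ideal.span {(p : WittVector p k)} • (⊤ : Submodule (WittVector p k) M))) ⧸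
        Submodule.span (WittVector p k ⧸ Ideal.span {(p : WittVector p k)})
          (Set.range fun m : M => (Ideal.span {(p : WittVector p k)} •
            (⊤ : Submodule (WittVector p k) M)).mkQ (V m))) := by
  haveI : Module.Finite (WittVector p k) M :=
    Module.Finite.trans (WittVector p k ⧸ Ideal.span {(p : WittVector p k) ^ n}) M
  haveI : Module.Finite (WittVector p k ⧸ Ideal.span {(p : WittVector p k)})
      (M ⧸ (Ideal.span {(p : WittVector p k)} • (⊤ : Submodule (WittVector p k) M))) :=
    Module.Finite.of_restrictScalars_finite (WittVector p k) _ _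
  have hle : Ideal.span {(p : WittVector p k) ^ n} ≤ Ideal.span {(p : WittVector p k)} := by
    rw [Ideal.span_singleton_le_iff_mem]
    have : (p : WittVector p k) ^ n = (p : WittVector p k) ^ (n - 1) * (p : WittVector p k) := by
      rw [← pow_succ]
      congr 1
      omega
    rw [this]
    exact Ideal.mul_mem_left _ _ (Ideal.mem_span_singleton_self _)
  haveI : Module.Projective (WittVector p k ⧸ Ideal.span {(p : WittVector p k)})
      (M ⧸ (Ideal.span {(p : WittVector p k)} • (⊤ : Submodule (WittVector p k) M))) :=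
    projective_quotient_tower _ _ hle M
  exact projective_mod_V F V hFV hVF (fun 𝔪 _ y hy => H_of_projective_Wn n hn 𝔪 y hy)

end module

end H10DP
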