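import Mathlib
import Groth.Prelude.Def_W4c1extbt610Disp
import Groth.Agent.Lib.Helper10.DieuPerfect2
import Groth.Agent.Lib.Helper10.AdicIdem

/-!
# From a Dieudonné module over a perfect ring to a 3n-display
-/

set_option autoImplicit false
universe u v

namespace H10DP

open WittVector

section module

variable {p : ℕ} [hp : Fact p.Prime] {k : Type u} [CommRing k] [CharP k p] [PerfectRing k p]
variable {M : Type v} [AddCommGroup M] [Module (WittVector p k) M]

theorem verschiebung_eq (w : WittVector p k) :
    verschiebung w = (WittVector.frobeniusEquiv p k).symm w * (p : WittVector p k) := by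
  rw [mul_p_eq]
  congr 1
  exact ((WittVector.frobeniusEquiv p k).apply_symm_apply w).symm

theorem IV_eq_span : W4c1extbt610.IV p k = Ideal.span {(p : WittVector p k)} := by
  apply le_antisymm
  · refine Ideal.span_le.mpr ?_
    rintro _ ⟨w, rfl⟩
    rw [SetLike.mem_coe, verschiebung_eq]
    exact Ideal.mem_span_singleton'.mpr ⟨_, rfl⟩
  · rw [Ideal.span_singleton_le_iff_mem]
    have h1 : (p : WittVector p k) = verschiebung (frobenius (1 : WittVector p k)) := by
      rw [← mul_p_eq, one_mul]
    rw [h1]
    exact W4c1extbt610.verschiebung_mem_IV p k _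

instance isAdicComplete_W : IsAdicComplete (Ideal.span {(p : WittVector p k)}) (WittVector p k) := by
  have h0 : Ideal.span {(p : k)} = ⊥ := by
    rw [Ideal.span_singleton_eq_bot]
    exact CharP.cast_eq_zero k p
  haveI : IsAdicComplete (Ideal.span {(p : k)}) k := h0 ▸ inferInstance
  exact H10Witt.isAdicComplete_p

variable (F : M →ₛₗ[(WittVector.frobenius : WittVector p k →+* WittVector p k)] M)
  (V : M →ₛₗ[((WittVector.frobeniusEquiv p k).symm : WittVector p k →+* WittVector p k)] M)

theorem exists_display [Module.Finite (WittVector p k) M] [Module.Projective (WittVector p k) M]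
    (hFV : ∀ m : M, F (V m) = (p : WittVector p k) • m)
    (hVF : ∀ m : M, V (F m) = (p : WittVector p k) • m) :
    ∃ D : W4c1extbt610.Display3n p k M,
      D.F = F ∧ (∀ x : M, x ∈ D.Q ↔ x ∈ Set.range V) ∧
        ∀ (m : M) (h : V m ∈ D.Q), D.Vinv ⟨V m, h⟩ = m := by
  classical
  have hVinj : Function.Injective V := by
    rw [injective_iff_map_eq_zero]
    intro m hm
    exact torsionFree_of_projective (p := p) (k := k) m (by rw [← hFV, hm, map_zero])
  let Q : Submodule (WittVector p k) M :=
    { carrier := Set.range V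
      add_mem' := by
        rintro _ _ ⟨a, rfl⟩ ⟨b, rfl⟩
        exact ⟨a + b, map_add V a b⟩
      zero_mem' := ⟨0, map_zero V⟩
      smul_mem' := by
        rintro w _ ⟨m, rfl⟩
        exact ⟨frobenius w • m, V_smul V w m⟩ }
  have hQ : ∀ x, x ∈ Q ↔ x ∈ Set.range V := fun x => Iff.rfl
  have hchoose : ∀ y : Q, ∃ m : M, V m = (y : M) := fun y => y.2
  choose vinv hvinv using hchoose
  let Vinv : Q →ₛₗ[(WittVector.frobenius : WittVector p k →+* WittVector p k)] M :=
    { toFun := vinv
      map_add' := by
        intro x y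
        apply hVinj
        rw [map_add, hvinv, hvinv, hvinv]
        rfl
      map_smul' := by
        intro w y
        apply hVinj
        rw [V_smul, hvinv, hvinv]
        rfl }
  have hVinvV : ∀ (m : M) (h : V m ∈ Q), Vinv ⟨V m, h⟩ = m := by
    intro m h
    apply hVinj
    exact hvinv ⟨V m, h⟩
  have hpQ : Ideal.span {(p : WittVector p k)} • (⊤ : Submodule (WittVector p k) M) ≤ Q := by
    intro x hx
    obtain ⟨y, rfl⟩ := (pM_iff x).mp hx
    exact ⟨F y, hVF y⟩
  have hIVle : W4c1extbt610.IV p k • (⊤ : Submodule (WittVector p k) M) ≤ Q := by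
    rw [IV_eq_span]
    exact hpQ
  -- the complement
  haveI hproj := projective_mod_V_W F V hFV hVF
  obtain ⟨s, hs⟩ := Module.projective_lifting_property (KV V).mkQ LinearMap.id
    (Submodule.mkQ_surjective _)
  have hs' : ∀ z, (KV V).mkQ (s z) = z := fun z => by
    have := LinearMap.congr_fun hs z
    rwa [LinearMap.comp_apply, LinearMap.id_apply] at this
  let C : Submodule (WittVector p k) M :=
    { carrier := {x | s ((KV V).mkQ ((Ideal.span {(p : WittVector p k)} •
        (⊤ : Submodule (WittVector p k) M)).mkQ x)) =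
          (Ideal.span {(p : WittVector p k)} • (⊤ : Submodule (WittVector p k) M)).mkQ x}
      add_mem' := by
        intro a b ha hb
        rw [Set.mem_setOf_eq] at ha hb ⊢
        rw [map_add, map_add, map_add, ha, hb]
      zero_mem' := by
        rw [Set.mem_setOf_eq, map_zero, map_zero, map_zero]
      smul_mem' := by
        intro w x hx
        rw [Set.mem_setOf_eq] at hx ⊢
        have e : (Ideal.span {(p : WittVector p k)} • (⊤ : Submodule (WittVector p k) M)).mkQ
            (w • x) = Ideal.Quotient.mk (Ideal.span {(p : WittVector p k)}) w •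
              (Ideal.span {(p : WittVector p k)} • (⊤ : Submodule (WittVector p k) M)).mkQ x :=
          rfl
        rw [e, map_smul, map_smul, hx] }
  have hC : ∀ x, x ∈ C ↔ s ((KV V).mkQ ((Ideal.span {(p : WittVector p k)} •
        (⊤ : Submodule (WittVector p k) M)).mkQ x)) =
          (Ideal.span {(p : WittVector p k)} • (⊤ : Submodule (WittVector p k) M)).mkQ x :=
    fun x => Iff.rfl
  have h1 : Q ⊔ C = ⊤ := by
    rw [eq_top_iff]
    intro x _
    have h3 : (Ideal.span {(p : WittVector p k)} • (⊤ : Submodule (WittVector p k) M)).mkQ x -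
        s ((KV V).mkQ ((Ideal.span {(p : WittVector p k)} •
          (⊤ : Submodule (WittVector p k) M)).mkQ x)) ∈ KV V := by
      have h30 : (Ideal.span {(p : WittVector p k)} • (⊤ : Submodule (WittVector p k) M)).mkQ x -
          s ((KV V).mkQ ((Ideal.span {(p : WittVector p k)} •
            (⊤ : Submodule (WittVector p k) M)).mkQ x)) ∈ LinearMap.ker (KV V).mkQ := by
        rw [LinearMap.mem_ker, map_sub, hs', sub_self]
      rwa [Submodule.ker_mkQ] at h30
    obtain ⟨n, hn⟩ := mem_KV V _ h3
    have h4 : (Ideal.span {(p : WittVector p k)} • (⊤ : Submodule (WittVector p k) M)).mkQ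
        (x - V n) = s ((KV V).mkQ ((Ideal.span {(p : WittVector p k)} •
          (⊤ : Submodule (WittVector p k) M)).mkQ x)) := by
      rw [map_sub, ← hn]
      abel
    have h5 : x - V n ∈ C := by
      rw [hC, h4, hs']
    refine Submodule.mem_sup.mpr ⟨V n, ⟨n, rfl⟩, x - V n, h5, ?_⟩
    abel
  have h2 : Q ⊓ C = Ideal.span {(p : WittVector p k)} • (⊤ : Submodule (WittVector p k) M) := by
    apply le_antisymm
    · rintro x ⟨⟨n, rfl⟩, hxC⟩
      rw [SetLike.mem_coe, hC] at hxC
      have h3 : (Ideal.span {(p : WittVector p k)} • (⊤ : Submodule (WittVector p k) M)).mkQ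
          (V n) ∈ KV V := Submodule.subset_span ⟨n, rfl⟩
      have h4 : (KV V).mkQ ((Ideal.span {(p : WittVector p k)} •
          (⊤ : Submodule (WittVector p k) M)).mkQ (V n)) = 0 := by
        rw [← LinearMap.mem_ker, Submodule.ker_mkQ]
        exact h3
      rw [h4, map_zero] at hxC
      rw [← Submodule.ker_mkQ (Ideal.span {(p : WittVector p k)} •
        (⊤ : Submodule (WittVector p k) M)), LinearMap.mem_ker]
      exact hxC.symm
    · intro x hx
      refine ⟨hpQ hx, ?_⟩
      rw [SetLike.mem_coe, hC]
      have h3 : (Ideal.span {(p : WittVector p k)} • (⊤ : Submodule (WittVector p k) M)).mkQ x =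
          0 := by
        rw [← LinearMap.mem_ker, Submodule.ker_mkQ]
        exact hx
      rw [h3, map_zero, map_zero]
  have hnormal : ∃ L T : Submodule (WittVector p k) M, IsCompl L T ∧
      Q = L ⊔ W4c1extbt610.IV p k • T := by
    rw [IV_eq_span]
    exact H10Adic.exists_normal_decomposition (Ideal.span {(p : WittVector p k)}) M Q C h1 h2
  have hspan : Submodule.span (WittVector p k) (Set.range Vinv) = ⊤ := by
    rw [eq_top_iff]
    intro x _
    exact Submodule.subset_span ⟨⟨V x, ⟨x, rfl⟩⟩, hVinvV x _⟩
  refine ⟨{ Q := Q, F := F, Vinv := Vinv, finite := inferInstance, projective := inferInstance,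
            IV_smul_le := hIVle, exists_normal := hnormal, span_range_Vinv := hspan,
            Vinv_verschiebung_smul := ?_ }, rfl, hQ, hVinvV⟩
  intro w x
  apply hVinj
  have e1 : V (Vinv ⟨verschiebung w • x,
      hIVle (Submodule.smul_mem_smul (W4c1extbt610.verschiebung_mem_IV p k w)
        Submodule.mem_top)⟩) = verschiebung w • x := hvinv _
  rw [e1, V.map_smulₛₗ, hVF, smul_smul, verschiebung_eq]
  rfl

end module

end H10DP
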