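import Mathlib
import Groth.Agent.Lib.Helper10.AdicProj
import Groth.Agent.Lib.Helper10.WittAdic

/-!
# Finite projective modules over `W(R)` versus over the truncations `W_n(R)` (`p` nilpotent in `R`)
-/

set_option autoImplicit false

namespace H10WFP

open WittVector

universe u v

variable {p : ℕ} [hp : Fact p.Prime] {R : Type u} [CommRing R]

theorem ker_truncate_one :
    RingHom.ker (WittVector.truncate (p := p) (R := R) 1) = H10Witt.II p R := by
  ext x
  rw [WittVector.mem_ker_truncate, H10Witt.mem_II_iff]
  constructor
  · intro h; exact h 0 Nat.one_pos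
  · intro h i hi
    obtain rfl : i = 0 := by omega
    exact h

theorem ker_truncate_antitone (n : ℕ) :
    RingHom.ker (WittVector.truncate (p := p) (R := R) (n + 1)) ≤
      RingHom.ker (WittVector.truncate (p := p) (R := R) n) := by
  intro x hx
  rw [WittVector.mem_ker_truncate] at hx ⊢
  intro i hi
  exact hx i (by omega)

theorem span_pow_le_ker_truncate {M : ℕ} (hM : (p : R) ^ M = 0) (n : ℕ) :
    Ideal.span {(p : WittVector p R)} ^ (n + M) ≤
      RingHom.ker (WittVector.truncate (p := p) (R := R) n) := by
  rw [Ideal.span_singleton_pow, Ideal.span_singleton_le_iff_mem, WittVector.mem_ker_truncate]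
  intro i hi
  have h := H10Witt.coeff_mul_pow_mem (1 : WittVector p R) (n + M) i
  rw [one_mul] at h
  have e : (p : R) ^ (n + M - i) = 0 := by
    have : n + M - i = M + (n - i) := by omega
    rw [this, pow_add, hM, zero_mul]
  rw [e, Ideal.span_singleton_eq_bot.mpr rfl] at h
  exact Ideal.mem_bot.mp h

theorem witt_finite_projective (p : ℕ) [Fact p.Prime] (R : Type u) [CommRing R]
    (hp : IsNilpotent (p : R)) (P : Type v) [AddCommGroup P] [Module (WittVector p R) P]
    (hsep : (⨅ n : ℕ, (RingHom.ker (WittVector.truncate (p := p) (R := R) n) •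
      (⊤ : Submodule (WittVector p R) P))) = ⊥)
    (hn : ∀ n : ℕ,
      Module.Finite (WittVector p R ⧸ RingHom.ker (WittVector.truncate (p := p) (R := R) n))
        (P ⧸ (RingHom.ker (WittVector.truncate (p := p) (R := R) n) •
          (⊤ : Submodule (WittVector p R) P))) ∧
      Module.Projective (WittVector p R ⧸ RingHom.ker (WittVector.truncate (p := p) (R := R) n))
        (P ⧸ (RingHom.ker (WittVector.truncate (p := p) (R := R) n) •
          (⊤ : Submodule (WittVector p R) P)))) :
    Module.Finite (WittVector p R) P ∧ Module.Projective (WittVector p R) P := by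
  obtain ⟨M, hM⟩ := hp
  haveI : IsAdicComplete (Ideal.span {(p : R)}) R :=
    H10AP.isAdicComplete_of_pow_eq_bot _ M
      (by rw [Ideal.span_singleton_pow, hM]; exact Ideal.span_singleton_eq_bot.mpr rfl) R
  haveI : IsAdicComplete (RingHom.ker (WittVector.truncate (p := p) (R := R) 1))
      (WittVector p R) := by
    rw [ker_truncate_one]; exact H10Witt.isAdicComplete_II
  haveI := (hn 1).1
  haveI := (hn 1).2
  refine H10AP.finite_projective_of_quotients
    (RingHom.ker (WittVector.truncate (p := p) (R := R) 1))
    (fun n => RingHom.ker (WittVector.truncate (p := p) (R := R) (n + 1))) ?_ ?_ ?_ P ?_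
    (fun n => (hn (n + 1)).2)
  · intro n
    induction n with
    | zero => exact le_rfl
    | succ n ih => exact (ker_truncate_antitone (n + 1)).trans ih
  · intro n
    refine ⟨(n + 1) + M + 1, ?_⟩
    rw [ker_truncate_one]
    exact (H10Witt.II_pow_succ_le (n + 1 + M)).trans
      (Ideal.mul_le_left.trans (span_pow_le_ker_truncate hM (n + 1)))
  · rw [eq_bot_iff, ← TruncatedWittVector.iInf_ker_truncate]
    refine le_iInf (fun n => ?_)
    exact (iInf_le _ n).trans (ker_truncate_antitone n)
  · rw [eq_bot_iff, ← hsep]
    refine le_iInf (fun n => ?_)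
    exact (iInf_le _ n).trans (Submodule.smul_mono_left (ker_truncate_antitone n))

end H10WFP
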