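import Mathlib
import Groth.Prelude.Def_Disp2
import Groth.Agent.Lib.Helper10.AdicIdem
import Groth.Agent.Lib.Helper10.WittFinProj

/-!
# Iterates of `V^#`: composition formula and nilpotence
-/

set_option autoImplicit false
universe u v

namespace H10Disp

open WittVector Dieu

section general

variable {A : Type u} [CommRing A] {P : Type v} [AddCommGroup P] [Module A P]

/-- `v ⊗ t ↦ τ v ⊗ t`, from `BC τ' P` to `BC ρ P` where `ρ = τ ∘ τ'`. -/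
noncomputable def pp (τ τ' ρ : A →+* A) (h : τ.comp τ' = ρ) : BC τ' P →ₛₗ[τ] BC ρ P :=
  (BC.castHom h).comp (BC.push τ' τ)

theorem pp_tmul (τ τ' ρ : A →+* A) (h : τ.comp τ' = ρ) (v : A) (t : P) :
    pp τ τ' ρ h (BC.tmul τ' v t) = BC.tmul ρ (τ v) t := by
  show BC.castHom h (BC.push τ' τ (BC.tmul τ' v t)) = _
  rw [BC.push_tmul, BC.castHom_tmul]

/-- `w ⊗ x ↦ w • pp (U x)`. -/
noncomputable def TT (τ τ' ρ : A →+* A) (h : τ.comp τ' = ρ) (U : P →ₗ[A] BC τ' P) :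
    BC τ P →ₗ[A] BC ρ P :=
  BC.lift τ ((pp τ τ' ρ h).comp U)

theorem TT_tmul (τ τ' ρ : A →+* A) (h : τ.comp τ' = ρ) (U : P →ₗ[A] BC τ' P) (w : A) (x : P) :
    TT τ τ' ρ h U (BC.tmul τ w x) = w • pp τ τ' ρ h (U x) :=
  BC.lift_tmul τ _ w x

theorem cast_lift_push_map (τ τ' ρ : A →+* A) (h : τ.comp τ' = ρ) (U : P →ₗ[A] BC τ' P)
    (z : BC τ P) :
    BC.castHom h (BC.lift τ (BC.push τ' τ) (BC.map τ U z)) = TT τ τ' ρ h U z := by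
  induction z using BC.induction_on τ with
  | zero => simp only [map_zero]
  | tmul w x =>
    rw [BC.map_tmul, BC.lift_tmul, map_smul, TT_tmul]
    rfl
  | add z₁ z₂ h1 h2 => simp only [map_add, h1, h2]

theorem TT_cast (τ τ₀ τ' ρ : A →+* A) (e : τ = τ₀) (h : τ.comp τ' = ρ) (h₀ : τ₀.comp τ' = ρ)
    (U : P →ₗ[A] BC τ' P) (z : BC τ P) :
    TT τ₀ τ' ρ h₀ U (BC.castHom e z) = TT τ τ' ρ h U z := by
  subst e; rfl

theorem pp_pp (τ₁ τ₂ τ₃ ρ₁₂ ρ₂₃ ρ : A →+* A) (h₁₂ : τ₁.comp τ₂ = ρ₁₂) (h₂₃ : τ₂.comp τ₃ = ρ₂₃)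
    (h : τ₁.comp ρ₂₃ = ρ) (h' : ρ₁₂.comp τ₃ = ρ) (ξ : BC τ₃ P) :
    pp τ₁ ρ₂₃ ρ h (pp τ₂ τ₃ ρ₂₃ h₂₃ ξ) = pp ρ₁₂ τ₃ ρ h' ξ := by
  induction ξ using BC.induction_on τ₃ with
  | zero => simp only [map_zero]
  | tmul v t =>
    rw [pp_tmul, pp_tmul, pp_tmul]
    subst h₁₂
    rfl
  | add ξ₁ ξ₂ h1 h2 => simp only [map_add, h1, h2]

theorem TT_assoc (τ₁ τ₂ τ₃ ρ₁₂ ρ₂₃ ρ : A →+* A) (h₁₂ : τ₁.comp τ₂ = ρ₁₂)
    (h₂₃ : τ₂.comp τ₃ = ρ₂₃) (h : τ₁.comp ρ₂₃ = ρ) (h' : ρ₁₂.comp τ₃ = ρ)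
    (U₂ : P →ₗ[A] BC τ₂ P) (U₃ : P →ₗ[A] BC τ₃ P) (z : BC τ₁ P) :
    TT τ₁ ρ₂₃ ρ h ((TT τ₂ τ₃ ρ₂₃ h₂₃ U₃).comp U₂) z =
      TT ρ₁₂ τ₃ ρ h' U₃ (TT τ₁ τ₂ ρ₁₂ h₁₂ U₂ z) := by
  induction z using BC.induction_on τ₁ with
  | zero => simp only [map_zero]
  | tmul w x =>
    rw [TT_tmul, TT_tmul, map_smul, LinearMap.comp_apply]
    congr 1
    generalize U₂ x = ζ
    induction ζ using BC.induction_on τ₂ with
    | zero => simp only [map_zero]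
    | tmul u y =>
      rw [TT_tmul, pp_tmul, TT_tmul, map_smulₛₗ, pp_pp τ₁ τ₂ τ₃ ρ₁₂ ρ₂₃ ρ h₁₂ h₂₃ h h']
    | add ζ₁ ζ₂ h1 h2 => simp only [map_add, h1, h2]
  | add z₁ z₂ h1 h2 => simp only [map_add, h1, h2]

theorem pp_mem (τ τ' ρ : A →+* A) (h : τ.comp τ' = ρ) (𝔟 𝔠 : Ideal A) (h𝔟 : 𝔟.map τ ≤ 𝔠)
    (ξ : BC τ' P) (hξ : ξ ∈ 𝔟 • (⊤ : Submodule A (BC τ' P))) :
    pp τ τ' ρ h ξ ∈ 𝔠 • (⊤ : Submodule A (BC ρ P)) := by
  refine Submodule.smul_induction_on hξ (fun b hb n _ => ?_) (fun x y hx hy => ?_)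
  · rw [map_smulₛₗ]
    exact Submodule.smul_mem_smul (h𝔟 (Ideal.mem_map_of_mem τ hb)) Submodule.mem_top
  · rw [map_add]; exact Submodule.add_mem _ hx hy

theorem TT_mem_top (τ τ' ρ : A →+* A) (h : τ.comp τ' = ρ) (𝔟 𝔠 : Ideal A) (h𝔟 : 𝔟.map τ ≤ 𝔠)
    (U : P →ₗ[A] BC τ' P) (hU : ∀ x, U x ∈ 𝔟 • (⊤ : Submodule A (BC τ' P))) (z : BC τ P) :
    TT τ τ' ρ h U z ∈ 𝔠 • (⊤ : Submodule A (BC ρ P)) := by
  induction z using BC.induction_on τ with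
  | zero => rw [map_zero]; exact Submodule.zero_mem _
  | tmul w x =>
    rw [TT_tmul]
    exact Submodule.smul_mem _ w (pp_mem τ τ' ρ h 𝔟 𝔠 h𝔟 (U x) (hU x))
  | add n₁ n₂ h1 h2 => rw [map_add]; exact Submodule.add_mem _ h1 h2

theorem TT_mem (τ τ' ρ : A →+* A) (h : τ.comp τ' = ρ) (𝔞 𝔟 𝔠 : Ideal A) (h𝔟 : 𝔟.map τ ≤ 𝔠)
    (U : P →ₗ[A] BC τ' P) (hU : ∀ x, U x ∈ 𝔟 • (⊤ : Submodule A (BC τ' P))) (z : BC τ P)
    (hz : z ∈ 𝔞 • (⊤ : Submodule A (BC τ P))) :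
    TT τ τ' ρ h U z ∈ (𝔞 * 𝔠) • (⊤ : Submodule A (BC ρ P)) := by
  refine Submodule.smul_induction_on hz (fun a ha n _ => ?_) (fun x y hx hy => ?_)
  · rw [map_smul, Submodule.mul_smul]
    exact Submodule.smul_mem_smul ha (TT_mem_top τ τ' ρ h 𝔟 𝔠 h𝔟 U hU n)
  · rw [map_add]; exact Submodule.add_mem _ hx hy

end general

section witt

variable {p : ℕ} [hp : Fact p.Prime] {R : Type u} [CommRing R]
variable {P : Type v} [AddCommGroup P] [Module (WittVector p R) P]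

local notation "σ" => (WittVector.frobenius : WittVector p R →+* WittVector p R)

theorem vSharpPow_succ' (Vs : P →ₗ[WittVector p R] BC σ P) (n : ℕ) (x : P) :
    vSharpPow Vs (n + 1) x =
      TT σ (σ ^ (n + 1)) (σ ^ (n + 1 + 1)) (comp_pow_eq_pow_succ σ (n + 1)) (vSharpPow Vs n)
        (Vs x) := by
  rw [vSharpPow_succ_apply]
  exact cast_lift_push_map σ (σ ^ (n + 1)) (σ ^ (n + 1 + 1)) _ (vSharpPow Vs n) (Vs x)

theorem hpow (a b : ℕ) : (σ ^ (a + 1)).comp (σ ^ (b + 1)) = σ ^ (b + a + 1 + 1) := by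
  show σ ^ (a + 1) * σ ^ (b + 1) = _
  rw [← pow_add]
  congr 1
  omega

theorem vSharpPow_add (Vs : P →ₗ[WittVector p R] BC σ P) (a b : ℕ) (x : P) :
    vSharpPow Vs (b + a + 1) x =
      TT (σ ^ (a + 1)) (σ ^ (b + 1)) (σ ^ (b + a + 1 + 1)) (hpow a b) (vSharpPow Vs b)
        (vSharpPow Vs a x) := by
  induction a generalizing x with
  | zero =>
    show vSharpPow Vs (b + 1) x = _
    rw [vSharpPow_succ', vSharpPow_zero_apply]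
    exact (TT_cast σ (σ ^ (0 + 1)) (σ ^ (b + 1)) (σ ^ (b + 1 + 1))
      (pow_one σ).symm _ (hpow 0 b) (vSharpPow Vs b) (Vs x)).symm
  | succ a ih =>
    show vSharpPow Vs (b + a + 1 + 1) x = _
    have IH : vSharpPow Vs (b + a + 1) =
        (TT (σ ^ (a + 1)) (σ ^ (b + 1)) (σ ^ (b + a + 1 + 1)) (hpow a b) (vSharpPow Vs b)).comp
          (vSharpPow Vs a) := LinearMap.ext ih
    rw [vSharpPow_succ', IH, vSharpPow_succ' Vs a x]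
    exact TT_assoc σ (σ ^ (a + 1)) (σ ^ (b + 1)) (σ ^ (a + 1 + 1)) (σ ^ (b + a + 1 + 1))
      (σ ^ (b + a + 1 + 1 + 1)) (comp_pow_eq_pow_succ σ (a + 1)) (hpow a b)
      (comp_pow_eq_pow_succ σ (b + a + 1 + 1)) (hpow (a + 1) b) (vSharpPow Vs a) (vSharpPow Vs b)
      (Vs x)

/-- The image of `vSharpPow Vs N` lies in `𝔠 • ⊤`. -/
def Good (Vs : P →ₗ[WittVector p R] BC σ P) (𝔠 : Ideal (WittVector p R)) (N : ℕ) : Prop :=
  ∀ x : P, vSharpPow Vs N x ∈ 𝔠 • (⊤ : Submodule (WittVector p R) (BC (σ ^ (N + 1)) P))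

theorem Good.mono {Vs : P →ₗ[WittVector p R] BC σ P} {𝔠 𝔡 : Ideal (WittVector p R)} {N : ℕ}
    (h : Good Vs 𝔠 N) (hle : 𝔠 ≤ 𝔡) : Good Vs 𝔡 N :=
  fun x => Submodule.smul_mono_left hle (h x)

theorem Good.mul {Vs : P →ₗ[WittVector p R] BC σ P} {𝔞 𝔟 𝔠 : Ideal (WittVector p R)} {a b : ℕ}
    (ha : Good Vs 𝔞 a) (hb : Good Vs 𝔟 b) (h𝔟 : 𝔟.map (σ ^ (a + 1)) ≤ 𝔠) :
    Good Vs (𝔞 * 𝔠) (b + a + 1) := by
  intro x
  rw [vSharpPow_add]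
  exact TT_mem _ _ _ _ 𝔞 𝔟 𝔠 h𝔟 (vSharpPow Vs b) hb _ (ha x)

theorem map_pow_succ_le (j : ℕ) :
    (W4c1extbt610.IV p R ⊔ Ideal.span {(p : WittVector p R)}).map (σ ^ (j + 1)) ≤
      Ideal.span {(p : WittVector p R)} := by
  rw [Ideal.map_le_iff_le_comap]
  refine sup_le ?_ ?_
  · rw [W4c1extbt610.IV, Ideal.span_le]
    rintro _ ⟨w, rfl⟩
    rw [SetLike.mem_coe, Ideal.mem_comap, pow_succ]
    show (σ ^ j) (σ (verschiebung w)) ∈ Ideal.span {(p : WittVector p R)}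
    rw [frobenius_verschiebung, map_mul, map_natCast]
    exact Ideal.mem_span_singleton.mpr (Dvd.intro_left _ rfl)
  · rw [Ideal.span_le]
    rintro _ rfl
    rw [SetLike.mem_coe, Ideal.mem_comap, map_natCast]
    exact Ideal.mem_span_singleton_self _

theorem good_iterate (Vs : P →ₗ[WittVector p R] BC σ P) (n₀ : ℕ)
    (h0 : Good Vs (W4c1extbt610.IV p R ⊔ Ideal.span {(p : WittVector p R)}) n₀) (k : ℕ) :
    Good Vs ((W4c1extbt610.IV p R ⊔ Ideal.span {(p : WittVector p R)}) *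
      Ideal.span {(p : WittVector p R)} ^ k) (k * (n₀ + 1) + n₀) := by
  induction k with
  | zero =>
    have e : 0 * (n₀ + 1) + n₀ = n₀ := by omega
    rw [e, pow_zero, Ideal.one_eq_top, Ideal.mul_top]
    exact h0
  | succ k ih =>
    have e : (k + 1) * (n₀ + 1) + n₀ = (k * (n₀ + 1) + n₀) + n₀ + 1 := by ring
    rw [e]
    refine Good.mul h0 ih ?_
    rw [Ideal.map_mul, Ideal.map_pow, pow_succ' (Ideal.span {(p : WittVector p R)}) k]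
    refine Ideal.mul_mono (map_pow_succ_le n₀) (Ideal.pow_right_mono ?_ k)
    exact (Ideal.map_mono le_sup_right).trans (map_pow_succ_le n₀)

theorem exists_good_ker_truncate (hpn : IsNilpotent (p : R))
    (Vs : P →ₗ[WittVector p R] BC σ P) (hnil : IsVNilpotent Vs) (n : ℕ) :
    ∃ N : ℕ, Good Vs (RingHom.ker (WittVector.truncate (p := p) (R := R) n)) N := by
  obtain ⟨M, hM⟩ := hpn
  obtain ⟨n₀, h0⟩ := hnil
  refine ⟨(n + M) * (n₀ + 1) + n₀, (good_iterate Vs n₀ h0 (n + M)).mono ?_⟩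
  exact Ideal.mul_le_right.trans (H10WFP.span_pow_le_ker_truncate hM n)

end witt

end H10Disp
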