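import Mathlib
import Groth.Prelude.Def_Disp2
import Groth.Agent.Lib.Helper10.WittAdic
import Groth.Agent.Lib.Helper10.AdicProj
import Groth.Agent.Lib.Helper10.BCRank

/-!
# Existence and uniqueness of the operator `V^#` of a 3n-display
-/

set_option autoImplicit false
universe u v

namespace H10Disp

open WittVector Dieu

variable {p : ℕ} [hp : Fact p.Prime] {R : Type u} [CommRing R]

section witt

theorem IV_eq_II : W4c1extbt610.IV p R = H10Witt.II p R := by
  apply le_antisymm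
  · rw [W4c1extbt610.IV, Ideal.span_le]
    rintro _ ⟨w, rfl⟩
    exact H10Witt.verschiebung_mem w
  · intro a ha
    obtain ⟨w, rfl⟩ := H10Witt.exists_verschiebung_of_mem ha
    exact W4c1extbt610.verschiebung_mem_IV p R w

theorem isAdicComplete_of_nilpotent (hpn : IsNilpotent (p : R)) :
    IsAdicComplete (Ideal.span {(p : R)}) R := by
  obtain ⟨M, hM⟩ := hpn
  exact H10AP.isAdicComplete_of_pow_eq_bot _ M
    (by rw [Ideal.span_singleton_pow, hM]; exact Ideal.span_singleton_eq_bot.mpr rfl) R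

theorem II_le_of_isMaximal (hpn : IsNilpotent (p : R)) (𝔪 : Ideal (WittVector p R))
    [h𝔪 : 𝔪.IsMaximal] : H10Witt.II p R ≤ 𝔪 := by
  haveI := isAdicComplete_of_nilpotent hpn
  haveI : IsAdicComplete (H10Witt.II p R) (WittVector p R) := H10Witt.isAdicComplete_II
  refine (IsAdicComplete.le_jacobson_bot (I := H10Witt.II p R)).trans ?_
  exact sInf_le ⟨bot_le, h𝔪⟩

theorem natCast_mem_of_isMaximal (hpn : IsNilpotent (p : R)) (𝔪 : Ideal (WittVector p R))
    [h𝔪 : 𝔪.IsMaximal] : (p : WittVector p R) ∈ 𝔪 := by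
  obtain ⟨M, hM⟩ := hpn
  have h1 : (p : WittVector p R) ^ M ∈ H10Witt.II p R := by
    rw [RingHom.mem_ker, map_pow, map_natCast, hM]
  exact h𝔪.isPrime.mem_of_pow_mem M (II_le_of_isMaximal ⟨M, hM⟩ 𝔪 h1)

theorem frobenius_sub_pow_mem (hpn : IsNilpotent (p : R)) (𝔪 : Ideal (WittVector p R))
    [h𝔪 : 𝔪.IsMaximal] (x : WittVector p R) : frobenius x - x ^ p ∈ 𝔪 := by
  set c : R := MvPolynomial.aeval x.coeff (frobeniusPolyAux p 0) with hc
  have h1 : frobenius x - x ^ p - (p : WittVector p R) * teichmuller p c ∈ H10Witt.II p R := by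
    rw [RingHom.mem_ker, map_sub, map_sub, map_mul, map_pow, map_natCast]
    have e1 : WittVector.constantCoeff (frobenius x) = x.coeff 0 ^ p + (p : R) * c := by
      show (frobenius x).coeff 0 = _
      rw [WittVector.coeff_frobenius, frobeniusPoly, map_add, map_pow, map_mul,
        MvPolynomial.aeval_X, MvPolynomial.aeval_C]
      have h2 : algebraMap ℤ R (p : ℤ) = (p : R) := by simp
      rw [h2]
    have e2 : WittVector.constantCoeff (teichmuller p c) = c :=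
      WittVector.teichmuller_coeff_zero p c
    have e3 : WittVector.constantCoeff x = x.coeff 0 := rfl
    rw [e1, e2, e3]; ring
  have h2 := 𝔪.add_mem (II_le_of_isMaximal hpn 𝔪 h1)
    (𝔪.mul_mem_right (teichmuller p c) (natCast_mem_of_isMaximal hpn 𝔪))
  have e : frobenius x - x ^ p = (frobenius x - x ^ p - (p : WittVector p R) * teichmuller p c) +
      (p : WittVector p R) * teichmuller p c := by ring
  rw [e]; exact h2

theorem comap_frobenius_eq (hpn : IsNilpotent (p : R)) (𝔪 : Ideal (WittVector p R))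
    [h𝔪 : 𝔪.IsMaximal] :
    Ideal.comap (frobenius : WittVector p R →+* WittVector p R) 𝔪 = 𝔪 := by
  ext x
  rw [Ideal.mem_comap]
  have key := frobenius_sub_pow_mem hpn 𝔪 x
  constructor
  · intro h
    have h1 : x ^ p ∈ 𝔪 := by
      have := 𝔪.sub_mem h key
      rwa [sub_sub_cancel] at this
    exact h𝔪.isPrime.mem_of_pow_mem p h1
  · intro h
    have e : frobenius x = (frobenius x - x ^ p) + x ^ p := by ring
    rw [e]
    exact 𝔪.add_mem key (Ideal.pow_mem_of_mem 𝔪 h p hp.out.pos)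

end witt

section disp

variable {P : Type v} [AddCommGroup P] [Module (WittVector p R) P]

local notation "σ" => (WittVector.frobenius : WittVector p R →+* WittVector p R)

theorem unique_vSharp (D : W4c1extbt610.Display3n p R P)
    (Vs₁ Vs₂ : P →ₗ[WittVector p R] BC σ P)
    (h₁ : IsVSharp D Vs₁) (h₂ : IsVSharp D Vs₂) : Vs₁ = Vs₂ := by
  apply LinearMap.ext_on D.span_range_Vinv
  rintro _ ⟨y, rfl⟩
  have e₁ := h₁.app_smul_Vinv 1 y
  have e₂ := h₂.app_smul_Vinv 1 y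
  rw [one_smul] at e₁ e₂
  rw [e₁, e₂]

theorem exists_vSharp (D : W4c1extbt610.Display3n p R P)
    (hσ : ∀ (𝔪 : Ideal (WittVector p R)) [𝔪.IsMaximal], Ideal.comap σ 𝔪 = 𝔪) :
    ∃ Vs : P →ₗ[WittVector p R] BC σ P, IsVSharp D Vs := by
  classical
  obtain ⟨L, T, hLT, hQ⟩ := D.exists_normal
  haveI := D.finite
  haveI := D.projective
  have hLQ : L ≤ D.Q := hQ ▸ le_sup_left
  let e := Submodule.prodEquivOfIsCompl L T hLT
  let prL : P →ₗ[WittVector p R] L := LinearMap.fst _ L T ∘ₗ e.symm.toLinearMap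
  let prT : P →ₗ[WittVector p R] T := LinearMap.snd _ L T ∘ₗ e.symm.toLinearMap
  have hprL_L : ∀ (l : P) (hl : l ∈ L), prL l = ⟨l, hl⟩ := fun l hl =>
    congrArg Prod.fst (Submodule.prodEquivOfIsCompl_symm_apply_left L T hLT ⟨l, hl⟩)
  have hprT_L : ∀ (l : P) (hl : l ∈ L), prT l = 0 := fun l hl =>
    congrArg Prod.snd (Submodule.prodEquivOfIsCompl_symm_apply_left L T hLT ⟨l, hl⟩)
  have hprL_T : ∀ (t : P) (ht : t ∈ T), prL t = 0 := fun t ht =>
    congrArg Prod.fst (Submodule.prodEquivOfIsCompl_symm_apply_right L T hLT ⟨t, ht⟩)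
  have hprT_T : ∀ (t : P) (ht : t ∈ T), prT t = ⟨t, ht⟩ := fun t ht =>
    congrArg Prod.snd (Submodule.prodEquivOfIsCompl_symm_apply_right L T hLT ⟨t, ht⟩)
  let Ψ : P →ₛₗ[σ] P :=
    D.Vinv.comp ((Submodule.inclusion hLQ) ∘ₗ prL) + D.F.comp (T.subtype ∘ₗ prT)
  let θ : P →ₗ[WittVector p R] P :=
    L.subtype ∘ₗ prL + (p : WittVector p R) • (T.subtype ∘ₗ prT)
  have hΨ : ∀ x, Ψ x = D.Vinv (Submodule.inclusion hLQ (prL x)) + D.F ((prT x : T) : P) :=
    fun x => rfl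
  have hθ : ∀ x, θ x = ((prL x : L) : P) + (p : WittVector p R) • ((prT x : T) : P) :=
    fun x => rfl
  have hΨL : ∀ (l : P) (hl : l ∈ L), Ψ l = D.Vinv ⟨l, hLQ hl⟩ := by
    intro l hl
    rw [hΨ, hprL_L l hl, hprT_L l hl, Submodule.coe_zero, map_zero, add_zero]
    rfl
  have hΨT : ∀ (t : P) (ht : t ∈ T), Ψ t = D.F t := by
    intro t ht
    rw [hΨ, hprL_T t ht, hprT_T t ht, map_zero, map_zero, zero_add]
  have hθL : ∀ (l : P) (hl : l ∈ L), θ l = l := by
    intro l hl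
    rw [hθ, hprL_L l hl, hprT_L l hl, Submodule.coe_zero, smul_zero, add_zero]
  have hθT : ∀ (t : P) (ht : t ∈ T), θ t = (p : WittVector p R) • t := by
    intro t ht
    rw [hθ, hprL_T t ht, hprT_T t ht, Submodule.coe_zero, zero_add]
  have hgood : ∀ y ∈ D.Q, ∃ (hy : y ∈ D.Q) (z : BC σ P),
      BC.lift σ Ψ z = D.Vinv ⟨y, hy⟩ ∧ BC.map σ θ z = BC.tmul σ 1 y := by
    intro y hy
    rw [hQ] at hy
    obtain ⟨l, hl, z, hz, rfl⟩ := Submodule.mem_sup.mp hy
    have g1 : ∃ (h : l ∈ D.Q) (z' : BC σ P),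
        BC.lift σ Ψ z' = D.Vinv ⟨l, h⟩ ∧ BC.map σ θ z' = BC.tmul σ 1 l := by
      refine ⟨hLQ hl, BC.tmul σ 1 l, ?_, ?_⟩
      · rw [BC.lift_tmul, one_smul, hΨL l hl]
      · rw [BC.map_tmul, hθL l hl]
    have g2 : ∃ (h : z ∈ D.Q) (z' : BC σ P),
        BC.lift σ Ψ z' = D.Vinv ⟨z, h⟩ ∧ BC.map σ θ z' = BC.tmul σ 1 z := by
      refine Submodule.smul_induction_on hz (fun a ha t ht => ?_) (fun z₁ z₂ h₁ h₂ => ?_)
      · rw [IV_eq_II] at ha
        obtain ⟨w, rfl⟩ := H10Witt.exists_verschiebung_of_mem ha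
        have hmem : verschiebung w • t ∈ D.Q := D.IV_smul_le
          (Submodule.smul_mem_smul (W4c1extbt610.verschiebung_mem_IV p R w) Submodule.mem_top)
        refine ⟨hmem, BC.tmul σ w t, ?_, ?_⟩
        · rw [BC.lift_tmul, hΨT t ht]
          exact (D.Vinv_verschiebung_smul w t).symm
        · rw [BC.map_tmul, hθT t ht, ← BC.tmul_mul_apply, ← BC.tmul_mul_apply, map_natCast,
            frobenius_verschiebung, one_mul]
      · obtain ⟨k₁, z₁', a₁, b₁⟩ := h₁
        obtain ⟨k₂, z₂', a₂, b₂⟩ := h₂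
        refine ⟨D.Q.add_mem k₁ k₂, z₁' + z₂', ?_, ?_⟩
        · rw [map_add, a₁, a₂]
          exact (map_add D.Vinv ⟨z₁, k₁⟩ ⟨z₂, k₂⟩).symm
        · rw [map_add, b₁, b₂, BC.tmul_add]
    obtain ⟨k₁, z₁', a₁, b₁⟩ := g1
    obtain ⟨k₂, z₂', a₂, b₂⟩ := g2
    refine ⟨D.Q.add_mem k₁ k₂, z₁' + z₂', ?_, ?_⟩
    · rw [map_add, a₁, a₂]
      exact (map_add D.Vinv ⟨l, k₁⟩ ⟨z, k₂⟩).symm
    · rw [map_add, b₁, b₂, BC.tmul_add]
  have hsurj : Function.Surjective (BC.lift σ Ψ) := by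
    rw [← LinearMap.range_eq_top, eq_top_iff, ← D.span_range_Vinv, Submodule.span_le]
    rintro _ ⟨y, rfl⟩
    obtain ⟨_, z, hz, _⟩ := hgood y.1 y.2
    exact ⟨z, hz⟩
  have hbij : Function.Bijective (BC.lift σ Ψ) :=
    H10BCR.bijective_of_surjective_BC σ P hσ (BC.lift σ Ψ) hsurj
  let E := LinearEquiv.ofBijective (BC.lift σ Ψ) hbij
  let Vs : P →ₗ[WittVector p R] BC σ P := (BC.map σ θ) ∘ₗ E.symm.toLinearMap
  have hVs : ∀ (y : D.Q), Vs (D.Vinv y) = BC.tmul σ 1 (y : P) := by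
    intro y
    obtain ⟨_, z, hz, hz'⟩ := hgood y.1 y.2
    have h1 : E.symm (D.Vinv y) = z := by
      rw [LinearEquiv.symm_apply_eq]
      exact hz.symm
    show BC.map σ θ (E.symm (D.Vinv y)) = _
    rw [h1, hz']
  refine ⟨Vs, ⟨fun w x => ?_, fun w y => ?_⟩⟩
  · have hF : D.F x = D.Vinv ⟨verschiebung (1 : WittVector p R) • x, D.IV_smul_le
        (Submodule.smul_mem_smul (W4c1extbt610.verschiebung_mem_IV p R 1) Submodule.mem_top)⟩ := by
      rw [D.Vinv_verschiebung_smul 1 x, one_smul]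
    rw [map_smul, hF, hVs]
    show w • BC.tmul σ 1 (verschiebung (1 : WittVector p R) • x) = _
    rw [← BC.tmul_mul_apply, frobenius_verschiebung, one_mul, one_mul, BC.smul_tmul,
      BC.smul_tmul, mul_comm]
  · rw [map_smul, hVs, BC.smul_tmul, mul_one]

end disp

end H10Disp
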