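import Mathlib
import Groth.Prelude.Def_Disp2
import Groth.Agent.Lib.Helper10.DispVSharp
import Groth.Agent.Lib.Helper10.DispIter

/-!
# The base change of a display is a display
-/

set_option autoImplicit false
universe u u' v

namespace H10Disp

open WittVector Dieu

section kappa

variable {A : Type u} {B : Type u'} [CommRing A] [CommRing B] (g : A →+* B)
variable {P : Type v} [AddCommGroup P] [Module A P]

/-- `x ↦ 1 ⊗ (1 ⊗ x)`. -/
noncomputable def phi (τA : A →+* A) (τB : B →+* B) (hc : τB.comp g = g.comp τA) :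
    P →ₛₗ[g.comp τA] BC τB (BC g P) where
  toFun x := BC.tmul τB 1 (BC.tmul g 1 x)
  map_add' x y := by rw [BC.tmul_add, BC.tmul_add]
  map_smul' a x := by
    have h1 : BC.tmul g 1 (a • x) = g a • BC.tmul g 1 x := (BC.ι g P).map_smulₛₗ a x
    have h2 : τB (g a) = (g.comp τA) a := RingHom.congr_fun hc a
    rw [h1, ← BC.tmul_mul_apply, one_mul, h2, BC.smul_tmul, mul_one]

/-- `w ⊗ x ↦ g w ⊗ (1 ⊗ x)`. -/
noncomputable def kappa (τA : A →+* A) (τB : B →+* B) (hc : τB.comp g = g.comp τA) :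
    BC τA P →ₛₗ[g] BC τB (BC g P) :=
  (BC.lift (g.comp τA) (phi g τA τB hc)).comp (BC.push τA g)

theorem kappa_tmul (τA : A →+* A) (τB : B →+* B) (hc : τB.comp g = g.comp τA) (w : A) (x : P) :
    kappa g τA τB hc (BC.tmul τA w x) = BC.tmul τB (g w) (BC.tmul g 1 x) := by
  show BC.lift (g.comp τA) (phi g τA τB hc) (BC.push τA g (BC.tmul τA w x)) = _
  rw [BC.push_tmul, BC.lift_tmul]
  show g w • BC.tmul τB 1 (BC.tmul g 1 x) = _
  rw [BC.smul_tmul, mul_one]

theorem kappa_cast (τA τA' : A →+* A) (τB τB' : B →+* B) (eA : τA = τA') (eB : τB = τB')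
    (hc : τB.comp g = g.comp τA) (hc' : τB'.comp g = g.comp τA') (ξ : BC τA P) :
    BC.castHom eB (kappa g τA τB hc ξ) = kappa g τA' τB' hc' (BC.castHom eA ξ) := by
  subst eA; subst eB; rfl

theorem pp_kappa (τA τA' ρA : A →+* A) (τB τB' ρB : B →+* B) (hA : τA.comp τA' = ρA)
    (hB : τB.comp τB' = ρB) (hc : τB.comp g = g.comp τA) (hc' : τB'.comp g = g.comp τA')
    (hcρ : ρB.comp g = g.comp ρA) (ζ : BC τA' P) :
    pp τB τB' ρB hB (kappa g τA' τB' hc' ζ) = kappa g ρA ρB hcρ (pp τA τA' ρA hA ζ) := by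
  induction ζ using BC.induction_on τA' with
  | zero => simp only [map_zero]
  | tmul v t =>
    rw [kappa_tmul, pp_tmul, pp_tmul, kappa_tmul]
    have : τB (g v) = g (τA v) := RingHom.congr_fun hc v
    rw [this]
  | add ζ₁ ζ₂ h1 h2 => simp only [map_add, h1, h2]

theorem TT_kappa (τA τA' ρA : A →+* A) (τB τB' ρB : B →+* B) (hA : τA.comp τA' = ρA)
    (hB : τB.comp τB' = ρB) (hc : τB.comp g = g.comp τA) (hc' : τB'.comp g = g.comp τA')
    (hcρ : ρB.comp g = g.comp ρA) (U_A : P →ₗ[A] BC τA' P)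
    (U_B : BC g P →ₗ[B] BC τB' (BC g P))
    (hU : ∀ x, U_B (BC.tmul g 1 x) = kappa g τA' τB' hc' (U_A x)) (ξ : BC τA P) :
    TT τB τB' ρB hB U_B (kappa g τA τB hc ξ) = kappa g ρA ρB hcρ (TT τA τA' ρA hA U_A ξ) := by
  induction ξ using BC.induction_on τA with
  | zero => simp only [map_zero]
  | tmul w x =>
    rw [kappa_tmul, TT_tmul, TT_tmul, hU, map_smulₛₗ,
      pp_kappa g τA τA' ρA τB τB' ρB hA hB hc hc' hcρ]
  | add ξ₁ ξ₂ h1 h2 => simp only [map_add, h1, h2]

theorem kappa_mem (τA : A →+* A) (τB : B →+* B) (hc : τB.comp g = g.comp τA) (𝔟 : Ideal A)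
    (𝔠 : Ideal B) (h : 𝔟.map g ≤ 𝔠) (ξ : BC τA P)
    (hξ : ξ ∈ 𝔟 • (⊤ : Submodule A (BC τA P))) :
    kappa g τA τB hc ξ ∈ 𝔠 • (⊤ : Submodule B (BC τB (BC g P))) := by
  refine Submodule.smul_induction_on hξ (fun b hb n _ => ?_) (fun x y hx hy => ?_)
  · rw [map_smulₛₗ]
    exact Submodule.smul_mem_smul (h (Ideal.mem_map_of_mem g hb)) Submodule.mem_top
  · rw [map_add]; exact Submodule.add_mem _ hx hy

end kappa

section witt

variable {p : ℕ} [hp : Fact p.Prime] {S R : Type u} [CommRing S] [CommRing R] (f : S →+* R)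
variable {P : Type v} [AddCommGroup P] [Module (WittVector p S) P]

local notation "σS" => (WittVector.frobenius : WittVector p S →+* WittVector p S)
local notation "σR" => (WittVector.frobenius : WittVector p R →+* WittVector p R)
local notation "gg" => (WittVector.map f : WittVector p S →+* WittVector p R)

theorem hc_one : RingHom.comp σR gg = RingHom.comp gg σS :=
  RingHom.ext fun a => ((WittVector.frobenius_isPoly p).map f a).symm

theorem hc_pow (k : ℕ) : (σR ^ k).comp gg = RingHom.comp gg (σS ^ k) := by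
  induction k with
  | zero => rw [pow_zero, pow_zero]; rfl
  | succ k ih =>
    rw [pow_succ, pow_succ]
    show ((σR ^ k).comp σR).comp gg = RingHom.comp gg ((σS ^ k).comp σS)
    rw [RingHom.comp_assoc, hc_one, ← RingHom.comp_assoc, ih, RingHom.comp_assoc]

theorem tmul_one_mem_Q (D : W4c1extbt610.Display3n p S P)
    (DR : W4c1extbt610.Display3n p R (BC gg P)) (hDR : IsDispBaseChange f D DR) (y : D.Q) :
    BC.tmul gg 1 (y : P) ∈ DR.Q := by
  rw [hDR.Q_eq, LinearMap.mem_ker, bcQuotMap_tmul]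
  have : D.Q.mkQ (y : P) = 0 := (Submodule.Quotient.mk_eq_zero _).mpr y.2
  rw [this, BC.tmul_zero]

theorem vs_bc (D : W4c1extbt610.Display3n p S P)
    (DR : W4c1extbt610.Display3n p R (BC gg P)) (hDR : IsDispBaseChange f D DR)
    (Vs : P →ₗ[WittVector p S] BC σS P) (hVs : IsVSharp D Vs)
    (VsR : BC gg P →ₗ[WittVector p R] BC σR (BC gg P)) (hVsR : IsVSharp DR VsR) (x : P) :
    VsR (BC.tmul gg 1 x) = kappa gg σS σR (hc_one f) (Vs x) := by
  have key : (VsR.comp (BC.ι gg P) : P →ₛₗ[gg] BC σR (BC gg P)) =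
      (kappa gg σS σR (hc_one f)).comp Vs := by
    apply LinearMap.ext_on D.span_range_Vinv
    rintro _ ⟨y, rfl⟩
    show VsR (BC.tmul gg 1 (D.Vinv y)) = kappa gg σS σR (hc_one f) (Vs (D.Vinv y))
    have h1 := hDR.Vinv_tmul 1 y (tmul_one_mem_Q f D DR hDR y)
    rw [map_one] at h1
    have h2 := hVsR.app_smul_Vinv 1 ⟨_, tmul_one_mem_Q f D DR hDR y⟩
    rw [one_smul] at h2
    have h3 := hVs.app_smul_Vinv 1 y
    rw [one_smul] at h3
    rw [← h1, h2, h3, kappa_tmul, map_one]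
  exact LinearMap.congr_fun key x

theorem vsPow_bc (Vs : P →ₗ[WittVector p S] BC σS P)
    (VsR : BC gg P →ₗ[WittVector p R] BC σR (BC gg P))
    (h0 : ∀ x, VsR (BC.tmul gg 1 x) = kappa gg σS σR (hc_one f) (Vs x)) (n : ℕ) (x : P) :
    vSharpPow VsR n (BC.tmul gg 1 x) =
      kappa gg (σS ^ (n + 1)) (σR ^ (n + 1)) (hc_pow f (n + 1)) (vSharpPow Vs n x) := by
  induction n generalizing x with
  | zero =>
    rw [vSharpPow_zero_apply, vSharpPow_zero_apply, h0]
    exact kappa_cast gg σS (σS ^ (0 + 1)) σR (σR ^ (0 + 1)) (pow_one σS).symm (pow_one σR).symm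
      (hc_one f) (hc_pow f (0 + 1)) (Vs x)
  | succ n ih =>
    rw [vSharpPow_succ', vSharpPow_succ', h0]
    exact TT_kappa gg σS (σS ^ (n + 1)) (σS ^ (n + 1 + 1)) σR (σR ^ (n + 1)) (σR ^ (n + 1 + 1))
      (comp_pow_eq_pow_succ σS (n + 1)) (comp_pow_eq_pow_succ σR (n + 1)) (hc_one f)
      (hc_pow f (n + 1)) (hc_pow f (n + 1 + 1)) (vSharpPow Vs n) (vSharpPow VsR n) ih (Vs x)

theorem map_J_le :
    (W4c1extbt610.IV p S ⊔ Ideal.span {(p : WittVector p S)}).map gg ≤
      W4c1extbt610.IV p R ⊔ Ideal.span {(p : WittVector p R)} := by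
  rw [Ideal.map_le_iff_le_comap]
  refine sup_le ?_ ?_
  · rw [W4c1extbt610.IV, Ideal.span_le]
    rintro _ ⟨w, rfl⟩
    rw [SetLike.mem_coe, Ideal.mem_comap]
    show WittVector.map f (verschiebung w) ∈ _
    rw [WittVector.map_verschiebung]
    exact Ideal.mem_sup_left (W4c1extbt610.verschiebung_mem_IV p R _)
  · rw [Ideal.span_le]
    rintro _ rfl
    rw [SetLike.mem_coe, Ideal.mem_comap, map_natCast]
    exact Ideal.mem_sup_right (Ideal.mem_span_singleton_self _)

theorem isDisplay_baseChange (hpn : IsNilpotent (p : S)) (D : W4c1extbt610.Display3n p S P)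
    (hD : IsDisplay D) (DR : W4c1extbt610.Display3n p R (BC gg P))
    (hDR : IsDispBaseChange f D DR) : IsDisplay DR := by
  obtain ⟨Vs, hVs, n₀, hnil⟩ := hD
  have hpR : IsNilpotent (p : R) := by
    have := hpn.map f
    rwa [map_natCast] at this
  obtain ⟨VsR, hVsR⟩ := exists_vSharp DR (fun 𝔪 _ => comap_frobenius_eq hpR 𝔪)
  refine ⟨VsR, hVsR, n₀, fun z => ?_⟩
  have h0 := vs_bc f D DR hDR Vs hVs VsR hVsR
  induction z using BC.induction_on gg with
  | zero => rw [map_zero]; exact Submodule.zero_mem _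
  | tmul u x =>
    rw [BC.tmul_eq_smul_tmul_one, map_smul, vsPow_bc f Vs VsR h0 n₀ x]
    exact Submodule.smul_mem _ u (kappa_mem gg _ _ _ _ _ (map_J_le f) _ (hnil x))
  | add z₁ z₂ h1 h2 => rw [map_add]; exact Submodule.add_mem _ h1 h2

end witt

end H10Disp
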