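import Mathlib
import Groth.Prelude.Def_Disp2
import Groth.Agent.Lib.Helper10.DispIter

/-!
# The operator `U ω = (v ∘ ω)^# ∘ V^#` and its nilpotence
-/

set_option autoImplicit false
universe u v w

namespace H10Disp

open WittVector Dieu H10Adic

section general

variable {A : Type u} [CommRing A] {P : Type v} [AddCommGroup P] [Module A P]
variable {X : Type w} [AddCommGroup X] [Module A X]

/-- `y ↦ v (g (1 ⊗ y))`, semilinear for the composite. -/
noncomputable def hmap (τ τ' ρ : A →+* A) (hc : τ.comp τ' = ρ) (v : X →ₛₗ[τ] X)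
    (g : BC τ' P →ₗ[A] X) : P →ₛₗ[ρ] X where
  toFun y := v (g (BC.tmul τ' 1 y))
  map_add' y y' := by rw [BC.tmul_add, map_add, map_add]
  map_smul' c y := by
    rw [← BC.tmul_mul_apply, one_mul, BC.tmul_eq_smul_tmul_one, map_smul, map_smulₛₗ]
    congr 1
    exact RingHom.congr_fun hc c

theorem hmap_apply (τ τ' ρ : A →+* A) (hc : τ.comp τ' = ρ) (v : X →ₛₗ[τ] X)
    (g : BC τ' P →ₗ[A] X) (y : P) : hmap τ τ' ρ hc v g y = v (g (BC.tmul τ' 1 y)) := rfl

theorem lift_hmap_pp (τ τ' ρ : A →+* A) (hc : τ.comp τ' = ρ) (v : X →ₛₗ[τ] X)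
    (g : BC τ' P →ₗ[A] X) (β : BC τ' P) :
    BC.lift ρ (hmap τ τ' ρ hc v g) (pp τ τ' ρ hc β) = v (g β) := by
  induction β using BC.induction_on τ' with
  | zero => simp only [map_zero]
  | tmul u y =>
    rw [pp_tmul, BC.lift_tmul, hmap_apply, BC.tmul_eq_smul_tmul_one τ' u y, map_smul,
      map_smulₛₗ]
  | add β₁ β₂ h1 h2 => simp only [map_add, h1, h2]

theorem lift_hmap_TT (τ τ' ρ : A →+* A) (hc : τ.comp τ' = ρ) (v : X →ₛₗ[τ] X)
    (g : BC τ' P →ₗ[A] X) (U : P →ₗ[A] BC τ' P) (ω' : P →ₗ[A] X)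
    (hω' : ∀ y, ω' y = g (U y)) (z : BC τ P) :
    BC.lift τ (v.comp ω') z = BC.lift ρ (hmap τ τ' ρ hc v g) (TT τ τ' ρ hc U z) := by
  induction z using BC.induction_on τ with
  | zero => simp only [map_zero]
  | tmul w y =>
    rw [BC.lift_tmul, TT_tmul, map_smul, lift_hmap_pp]
    show w • v (ω' y) = _
    rw [hω']
  | add z₁ z₂ h1 h2 => simp only [map_add, h1, h2]

end general

section UU

variable {p : ℕ} [hp : Fact p.Prime] {R : Type u} [CommRing R]
variable {P : Type v} [AddCommGroup P] [Module (WittVector p R) P]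
variable {X : Type w} [AddCommGroup X] [Module (WittVector p R) X]

local notation "σ" => (WittVector.frobenius : WittVector p R →+* WittVector p R)

theorem castHom_castHom_symm {A B : Type*} [CommRing A] [CommRing B] {M : Type*} [AddCommGroup M]
    [Module A M] {g g' : A →+* B} (e : g = g') (z : BC g M) :
    BC.castHom e.symm (BC.castHom e z) = z := by
  subst e
  rfl

theorem castHom_symm_castHom {A B : Type*} [CommRing A] [CommRing B] {M : Type*} [AddCommGroup M]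
    [Module A M] {g g' : A →+* B} (e : g = g') (z : BC g' M) :
    BC.castHom e (BC.castHom e.symm z) = z := by
  subst e
  rfl

/-- The operator `U ω = (v ∘ ω)^# ∘ V^#`. -/
noncomputable def UU (v : X →ₛₗ[σ] X) (Vs : P →ₗ[WittVector p R] BC σ P)
    (ω : P →ₗ[WittVector p R] X) : P →ₗ[WittVector p R] X :=
  (BC.lift σ (v.comp ω)) ∘ₗ Vs

theorem UU_apply (v : X →ₛₗ[σ] X) (Vs : P →ₗ[WittVector p R] BC σ P)
    (ω : P →ₗ[WittVector p R] X) (x : P) :
    UU v Vs ω x = BC.lift σ (v.comp ω) (Vs x) := rfl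

theorem exists_factor (v : X →ₛₗ[σ] X) (Vs : P →ₗ[WittVector p R] BC σ P) (n : ℕ) :
    ∀ ω : P →ₗ[WittVector p R] X,
    ∃ g : BC (σ ^ (n + 1)) P →ₗ[WittVector p R] X,
      ∀ x, ((UU v Vs)^[n + 1] ω) x = g (vSharpPow Vs n x) := by
  induction n with
  | zero =>
    intro ω
    refine ⟨(BC.lift σ (v.comp ω)) ∘ₗ (BC.castHom (pow_one σ)), fun x => ?_⟩
    rw [Function.iterate_one, UU_apply, vSharpPow_zero_apply, LinearMap.comp_apply,
      castHom_symm_castHom]
  | succ n ih =>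
    intro ω
    obtain ⟨g, hg⟩ := ih ω
    refine ⟨BC.lift (σ ^ (n + 1 + 1))
      (hmap σ (σ ^ (n + 1)) (σ ^ (n + 1 + 1)) (comp_pow_eq_pow_succ σ (n + 1)) v g),
      fun x => ?_⟩
    rw [Function.iterate_succ_apply', UU_apply, vSharpPow_succ']
    exact lift_hmap_TT σ (σ ^ (n + 1)) (σ ^ (n + 1 + 1)) (comp_pow_eq_pow_succ σ (n + 1)) v g
      (vSharpPow Vs n) _ hg (Vs x)

theorem eq_zero_of_fixed (v : X →ₛₗ[σ] X) (Vs : P →ₗ[WittVector p R] BC σ P)
    (hnil : IsVNilpotent Vs)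
    (hJ : ∀ ξ ∈ W4c1extbt610.IV p R ⊔ Ideal.span {(p : WittVector p R)}, ∀ a : X, ξ • a = 0)
    (ω : P →ₗ[WittVector p R] X) (hω : UU v Vs ω = ω) : ω = 0 := by
  obtain ⟨n, hn⟩ := hnil
  obtain ⟨g, hg⟩ := exists_factor v Vs n ω
  have h1 : (UU v Vs)^[n + 1] ω = ω := Function.iterate_fixed hω (n + 1)
  apply LinearMap.ext
  intro x
  have h2 := map_mem_smul_top _ g (hn x)
  have h3 : (W4c1extbt610.IV p R ⊔ Ideal.span {(p : WittVector p R)}) •
      (⊤ : Submodule (WittVector p R) X) = ⊥ := by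
    rw [eq_bot_iff, Submodule.smul_le]
    intro ξ hξ a _
    rw [hJ ξ hξ a]
    exact Submodule.zero_mem _
  rw [h3, Submodule.mem_bot, ← hg, h1] at h2
  rw [h2, LinearMap.zero_apply]

end UU

end H10Disp
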