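import Mathlib
import Groth.Agent.Lib.Helper10.AdicIdem

/-!
# The operator `V̂` on `Ka M / Kb M`

General construction: given ideals `Ka, Kb` of a ring `W` with an endomorphism `σ`, a function
`τ : W → W` which is additive and `σ`-semilinear on `Ka` modulo `Kb`, and a `σ`-semilinear
endomorphism `Fm` of a finite projective module `M`, there is a `σ`-semilinear endomorphism of
`Ka M / Kb M` sending the class of `a • x` to the class of `τ a • Fm x`.
-/

set_option autoImplicit false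
universe u v

namespace H10Vhat

open H10Adic

variable {W : Type u} [CommRing W] (σ : W →+* W) (Ka Kb : Ideal W) (τ : W → W)

/-- The hypotheses on the shift `τ`. -/
structure TauData : Prop where
  mem_a : ∀ a ∈ Ka, τ a ∈ Ka
  mem_b : ∀ b ∈ Kb, τ b ∈ Kb
  add : ∀ a ∈ Ka, ∀ a' ∈ Ka, τ (a + a') - (τ a + τ a') ∈ Kb
  mul : ∀ (ξ : W), ∀ a ∈ Ka, τ (ξ * a) - σ ξ * τ a ∈ Kb

variable (M : Type v) [AddCommGroup M] [Module W M]

/-- `Ka M`. -/
abbrev AA : Submodule W M := Ka • (⊤ : Submodule W M)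

/-- `Kb M` inside `Ka M`. -/
abbrev BB : Submodule W ↥(AA Ka M) :=
  Submodule.comap (AA Ka M).subtype (Kb • (⊤ : Submodule W M))

variable {M}

theorem mkQ_eq_iff (u u' : ↥(AA Ka M)) :
    (BB Ka Kb M).mkQ u = (BB Ka Kb M).mkQ u' ↔
      (u : M) - (u' : M) ∈ Kb • (⊤ : Submodule W M) := by
  show (Submodule.Quotient.mk u : ↥(AA Ka M) ⧸ BB Ka Kb M) = Submodule.Quotient.mk u' ↔ _
  rw [Submodule.Quotient.eq, Submodule.mem_comap]
  rfl

theorem mkQ_eq_zero_iff (u : ↥(AA Ka M)) :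
    (BB Ka Kb M).mkQ u = 0 ↔ (u : M) ∈ Kb • (⊤ : Submodule W M) := by
  show (Submodule.Quotient.mk u : ↥(AA Ka M) ⧸ BB Ka Kb M) = 0 ↔ _
  rw [Submodule.Quotient.mk_eq_zero, Submodule.mem_comap]
  rfl

variable {σ Ka Kb τ}

theorem exists_vbar (hτ : TauData σ Ka Kb τ) [Module.Finite W M] [Module.Projective W M]
    (Fm : M →ₛₗ[σ] M) :
    ∃ v : (↥(AA Ka M) ⧸ BB Ka Kb M) →ₛₗ[σ] (↥(AA Ka M) ⧸ BB Ka Kb M),
      ∀ (a : W) (ha : a ∈ Ka) (x : M),
        v ((BB Ka Kb M).mkQ ⟨a • x, Submodule.smul_mem_smul ha Submodule.mem_top⟩) =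
          (BB Ka Kb M).mkQ ⟨τ a • Fm x,
            Submodule.smul_mem_smul (hτ.mem_a a ha) Submodule.mem_top⟩ := by
  classical
  obtain ⟨r, ρ, i, _, _, hρi⟩ := Module.Finite.exists_comp_eq_id_of_projective W M
  have hx : ∀ x : M, x = ∑ j, i x j • ρ (fun j' => if j = j' then 1 else 0) := by
    intro x
    have h1 := LinearMap.congr_fun hρi x
    rw [LinearMap.comp_apply, LinearMap.id_apply, LinearMap.pi_apply_eq_sum_univ ρ (i x)] at h1
    exact h1.symm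
  have hiA : ∀ z : M, z ∈ Ka • (⊤ : Submodule W M) → ∀ j, i z j ∈ Ka := fun z hz j =>
    (mem_smul_top_pi Ka (i z)).mp (map_mem_smul_top Ka i hz) j
  have hiB : ∀ z : M, z ∈ Kb • (⊤ : Submodule W M) → ∀ j, i z j ∈ Kb := fun z hz j =>
    (mem_smul_top_pi Kb (i z)).mp (map_mem_smul_top Kb i hz) j
  let rawM : M → M := fun z => ∑ j, τ (i z j) • Fm (ρ (fun j' => if j = j' then 1 else 0))
  have hraw : ∀ z : M, z ∈ Ka • (⊤ : Submodule W M) → rawM z ∈ Ka • (⊤ : Submodule W M) :=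
    fun z hz => Submodule.sum_mem _ (fun j _ =>
      Submodule.smul_mem_smul (hτ.mem_a _ (hiA z hz j)) Submodule.mem_top)
  let v₀ : ↥(AA Ka M) →ₛₗ[σ] (↥(AA Ka M) ⧸ BB Ka Kb M) :=
    { toFun := fun z => (BB Ka Kb M).mkQ ⟨rawM z, hraw z z.2⟩
      map_add' := by
        intro z z'
        show (BB Ka Kb M).mkQ ⟨rawM ((z + z' : ↥(AA Ka M)) : M), hraw _ (z + z').2⟩ =
          (BB Ka Kb M).mkQ ⟨rawM z, hraw z z.2⟩ + (BB Ka Kb M).mkQ ⟨rawM z', hraw z' z'.2⟩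
        have e : (BB Ka Kb M).mkQ ⟨rawM z, hraw z z.2⟩ + (BB Ka Kb M).mkQ ⟨rawM z', hraw z' z'.2⟩ =
            (BB Ka Kb M).mkQ ((⟨rawM z, hraw z z.2⟩ : ↥(AA Ka M)) + ⟨rawM z', hraw z' z'.2⟩) :=
          (map_add (BB Ka Kb M).mkQ _ _).symm
        rw [e, mkQ_eq_iff]
        show rawM ((z : M) + (z' : M)) - (rawM z + rawM z') ∈ _
        show (∑ j, τ (i ((z : M) + (z' : M)) j) • Fm (ρ (fun j' => if j = j' then 1 else 0))) -
          ((∑ j, τ (i (z : M) j) • Fm (ρ (fun j' => if j = j' then 1 else 0))) +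
           (∑ j, τ (i (z' : M) j) • Fm (ρ (fun j' => if j = j' then 1 else 0)))) ∈ _
        rw [← Finset.sum_add_distrib, ← Finset.sum_sub_distrib]
        refine Submodule.sum_mem _ (fun j _ => ?_)
        rw [← add_smul, ← sub_smul, map_add, Pi.add_apply]
        exact Submodule.smul_mem_smul (hτ.add _ (hiA z z.2 j) _ (hiA z' z'.2 j))
          Submodule.mem_top
      map_smul' := by
        intro ξ z
        show (BB Ka Kb M).mkQ ⟨rawM ((ξ • z : ↥(AA Ka M)) : M), hraw _ (ξ • z).2⟩ =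
          σ ξ • (BB Ka Kb M).mkQ ⟨rawM z, hraw z z.2⟩
        have e : σ ξ • (BB Ka Kb M).mkQ ⟨rawM z, hraw z z.2⟩ =
            (BB Ka Kb M).mkQ (σ ξ • (⟨rawM z, hraw z z.2⟩ : ↥(AA Ka M))) :=
          (map_smul (BB Ka Kb M).mkQ (σ ξ) _).symm
        rw [e, mkQ_eq_iff]
        show (∑ j, τ (i (ξ • (z : M)) j) • Fm (ρ (fun j' => if j = j' then 1 else 0))) -
          σ ξ • (∑ j, τ (i (z : M) j) • Fm (ρ (fun j' => if j = j' then 1 else 0))) ∈ _
        rw [Finset.smul_sum, ← Finset.sum_sub_distrib]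
        refine Submodule.sum_mem _ (fun j _ => ?_)
        rw [smul_smul, ← sub_smul, map_smul, Pi.smul_apply, smul_eq_mul]
        exact Submodule.smul_mem_smul (hτ.mul ξ _ (hiA z z.2 j)) Submodule.mem_top }
  have hv₀ : ∀ z : ↥(AA Ka M), v₀ z = (BB Ka Kb M).mkQ ⟨rawM z, hraw z z.2⟩ := fun z => rfl
  have hker : BB Ka Kb M ≤ LinearMap.ker v₀ := by
    intro z hz
    rw [LinearMap.mem_ker, hv₀, mkQ_eq_zero_iff]
    have hz' : (z : M) ∈ Kb • (⊤ : Submodule W M) := hz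
    show (∑ j, τ (i (z : M) j) • Fm (ρ (fun j' => if j = j' then 1 else 0))) ∈
      Kb • (⊤ : Submodule W M)
    exact Submodule.sum_mem _ (fun j _ =>
      Submodule.smul_mem_smul (hτ.mem_b _ (hiB z hz' j)) Submodule.mem_top)
  refine ⟨(BB Ka Kb M).liftQ v₀ hker, fun a ha x => ?_⟩
  show (BB Ka Kb M).liftQ v₀ hker (Submodule.Quotient.mk _) = _
  rw [Submodule.liftQ_apply, hv₀, mkQ_eq_iff]
  show (∑ j, τ (i (a • x) j) • Fm (ρ (fun j' => if j = j' then 1 else 0))) - τ a • Fm x ∈ _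
  have h1 : Fm x = ∑ j, σ (i x j) • Fm (ρ (fun j' => if j = j' then 1 else 0)) := by
    conv_lhs => rw [hx x]
    rw [map_sum]
    refine Finset.sum_congr rfl (fun j _ => ?_)
    rw [map_smulₛₗ]
  rw [h1, Finset.smul_sum, ← Finset.sum_sub_distrib]
  refine Submodule.sum_mem _ (fun j _ => ?_)
  rw [smul_smul, ← sub_smul, map_smul, Pi.smul_apply, smul_eq_mul, mul_comm a (i x j),
    mul_comm (τ a)]
  exact Submodule.smul_mem_smul (hτ.mul (i x j) a ha) Submodule.mem_top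

end H10Vhat
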