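import Mathlib
import Groth.Prelude.Def_W4c1extbt610Disp
import Groth.Agent.Lib.Helper10.WittAdic
import Groth.Agent.Lib.Helper10.DispVSharp

/-!
# Witt vectors with coefficients in an ideal

For an ideal `𝔞` of `S`, `K p 𝔞` is the ideal of `W(S)` of Witt vectors all of whose coefficients lie
in `𝔞`.  When `𝔞 * 𝔞 + p 𝔞 ≤ 𝔟` the quotient `K 𝔞 / K 𝔟` behaves like a product of copies of `𝔞/𝔟`:
addition is componentwise, Frobenius and `I_S + p` kill it, and the shift `tau` is additive and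
Frobenius-semilinear on it.
-/

set_option autoImplicit false
universe u

namespace H10WI

open WittVector MvPolynomial

section poly

variable (p : ℕ) [hp : Fact p.Prime]

theorem mem_idealOfVars_of_constantCoeff {σ : Type*} (φ : MvPolynomial σ ℤ)
    (h : constantCoeff φ = 0) : φ ∈ idealOfVars σ ℤ := by
  have h1 : φ ∈ idealOfVars σ ℤ ^ 1 := by
    rw [mem_pow_idealOfVars_iff']
    intro x hx
    have hx0 : x = 0 := by
      rw [← Finsupp.degree_eq_zero_iff]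
      omega
    rw [hx0]
    exact h
  rwa [pow_one] at h1

theorem pow_mem_sq {σ : Type*} {φ : MvPolynomial σ ℤ} (hφ : φ ∈ idealOfVars σ ℤ) {k : ℕ}
    (hk : 2 ≤ k) : φ ^ k ∈ idealOfVars σ ℤ ^ 2 :=
  Ideal.pow_le_pow_right hk (Ideal.pow_mem_pow hφ k)

theorem two_le_pow_sub {n i : ℕ} (hi : i < n) : 2 ≤ p ^ (n - i) := by
  calc 2 ≤ p := hp.out.two_le
    _ = p ^ 1 := (pow_one p).symm
    _ ≤ p ^ (n - i) := Nat.pow_le_pow_right hp.out.pos (by omega)

/-- The addition polynomials are `X(0,n) + X(1,n)` modulo the square of the ideal of variables. -/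
theorem wittAdd_sub_mem (n : ℕ) :
    wittAdd p n - (X (0, n) + X (1, n)) ∈ idealOfVars (Fin 2 × ℕ) ℤ ^ 2 := by
  have hX : ∀ v : Fin 2 × ℕ, (X v : MvPolynomial (Fin 2 × ℕ) ℤ) ∈ idealOfVars (Fin 2 × ℕ) ℤ :=
    fun v => Ideal.subset_span ⟨v, rfl⟩
  have hW : ∀ i, wittAdd p i ∈ idealOfVars (Fin 2 × ℕ) ℤ := fun i =>
    mem_idealOfVars_of_constantCoeff _ (constantCoeff_wittAdd p i)
  have h := wittStructureInt_prop p (X 0 + X 1 : MvPolynomial (Fin 2) ℤ) n
  have hL : bind₁ (wittStructureInt p (X 0 + X 1 : MvPolynomial (Fin 2) ℤ))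
      (wittPolynomial p ℤ n) =
      ∑ i ∈ Finset.range (n + 1), C ((p : ℤ) ^ i) * wittAdd p i ^ p ^ (n - i) := by
    rw [wittPolynomial_eq_sum_C_mul_X_pow, map_sum]
    refine Finset.sum_congr rfl (fun i _ => ?_)
    rw [map_mul, bind₁_C_right, map_pow (bind₁ (wittStructureInt p (X 0 + X 1 : MvPolynomial (Fin 2) ℤ)))
      (X i) (p ^ (n - i)), bind₁_X_right]
    rfl
  have hR : bind₁ (fun i : Fin 2 => rename (Prod.mk i) (wittPolynomial p ℤ n))
      (X 0 + X 1 : MvPolynomial (Fin 2) ℤ) =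
      ∑ i ∈ Finset.range (n + 1), C ((p : ℤ) ^ i) * X (0, i) ^ p ^ (n - i) +
      ∑ i ∈ Finset.range (n + 1), C ((p : ℤ) ^ i) * X (1, i) ^ p ^ (n - i) := by
    rw [map_add, bind₁_X_right, bind₁_X_right, wittPolynomial_eq_sum_C_mul_X_pow, map_sum,
      map_sum]
    congr 1
    · refine Finset.sum_congr rfl (fun i _ => ?_)
      rw [map_mul, rename_C, map_pow (rename (Prod.mk (0 : Fin 2)) : MvPolynomial ℕ ℤ →ₐ[ℤ] _)
        (X i) (p ^ (n - i)), rename_X]
    · refine Finset.sum_congr rfl (fun i _ => ?_)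
      rw [map_mul, rename_C, map_pow (rename (Prod.mk (1 : Fin 2)) : MvPolynomial ℕ ℤ →ₐ[ℤ] _)
        (X i) (p ^ (n - i)), rename_X]
  rw [hL, hR, Finset.sum_range_succ, Finset.sum_range_succ, Finset.sum_range_succ,
    Nat.sub_self, pow_zero, pow_one, pow_one, pow_one] at h
  have key : C ((p : ℤ) ^ n) * (wittAdd p n - (X (0, n) + X (1, n))) =
      (∑ i ∈ Finset.range n, C ((p : ℤ) ^ i) * X (0, i) ^ p ^ (n - i)) +
      (∑ i ∈ Finset.range n, C ((p : ℤ) ^ i) * X (1, i) ^ p ^ (n - i)) -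
      ∑ i ∈ Finset.range n, C ((p : ℤ) ^ i) * wittAdd p i ^ p ^ (n - i) := by
    linear_combination h
  have hmem : C ((p : ℤ) ^ n) * (wittAdd p n - (X (0, n) + X (1, n))) ∈
      idealOfVars (Fin 2 × ℕ) ℤ ^ 2 := by
    rw [key]
    refine Ideal.sub_mem _ (Ideal.add_mem _ ?_ ?_) ?_
    · exact Ideal.sum_mem _ (fun i hi => Ideal.mul_mem_left _ _
        (pow_mem_sq (hX _) (two_le_pow_sub p (Finset.mem_range.mp hi))))
    · exact Ideal.sum_mem _ (fun i hi => Ideal.mul_mem_left _ _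
        (pow_mem_sq (hX _) (two_le_pow_sub p (Finset.mem_range.mp hi))))
    · exact Ideal.sum_mem _ (fun i hi => Ideal.mul_mem_left _ _
        (pow_mem_sq (hW _) (two_le_pow_sub p (Finset.mem_range.mp hi))))
  rw [mem_pow_idealOfVars_iff] at hmem ⊢
  intro x hx
  apply hmem x
  rw [mem_support_iff] at hx ⊢
  rw [coeff_C_mul]
  exact mul_ne_zero (pow_ne_zero _ (by exact_mod_cast hp.out.ne_zero)) hx

theorem constantCoeff_frobeniusPolyAux (n : ℕ) : constantCoeff (frobeniusPolyAux p n) = 0 := by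
  have h1 : constantCoeff (frobeniusPoly p n) = 0 := by
    have h := WittVector.coeff_frobenius (p := p) (0 : WittVector p ℤ) n
    have h2 : (0 : WittVector p ℤ).coeff = 0 := by
      funext m
      exact WittVector.zero_coeff p ℤ m
    rw [map_zero, WittVector.zero_coeff, h2, MvPolynomial.aeval_zero] at h
    exact h.symm
  rw [frobeniusPoly, map_add, map_pow, constantCoeff_X, zero_pow hp.out.ne_zero, zero_add, map_mul,
    constantCoeff_C] at h1
  exact (mul_eq_zero.mp h1).resolve_left (by exact_mod_cast hp.out.ne_zero)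

end poly

section ideal

variable {p : ℕ} [hp : Fact p.Prime] {S : Type u} [CommRing S]

theorem add_coeff_sub_mem (𝔞 : Ideal S) (x y : WittVector p S)
    (hx : ∀ n, x.coeff n ∈ 𝔞) (hy : ∀ n, y.coeff n ∈ 𝔞) (n : ℕ) :
    (x + y).coeff n - (x.coeff n + y.coeff n) ∈ 𝔞 * 𝔞 := by
  have hv : ∀ v : Fin 2 × ℕ, Function.uncurry ![x.coeff, y.coeff] v ∈ 𝔞 := by
    rintro ⟨i, m⟩
    fin_cases i
    · exact hx m
    · exact hy m
  have h1 : idealOfVars (Fin 2 × ℕ) ℤ ≤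
      Ideal.comap (aeval (Function.uncurry ![x.coeff, y.coeff]) :
        MvPolynomial (Fin 2 × ℕ) ℤ →ₐ[ℤ] S) 𝔞 := by
    rw [idealOfVars, Ideal.span_le]
    rintro _ ⟨v, rfl⟩
    rw [SetLike.mem_coe, Ideal.mem_comap, aeval_X]
    exact hv v
  have h2 : idealOfVars (Fin 2 × ℕ) ℤ ^ 2 ≤
      Ideal.comap (aeval (Function.uncurry ![x.coeff, y.coeff]) :
        MvPolynomial (Fin 2 × ℕ) ℤ →ₐ[ℤ] S) (𝔞 * 𝔞) := by
    rw [pow_two]
    refine Ideal.mul_le.mpr (fun r hr s hs => ?_)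
    rw [Ideal.mem_comap, map_mul]
    exact Ideal.mul_mem_mul (h1 hr) (h1 hs)
  have h3 := h2 (wittAdd_sub_mem p n)
  rw [Ideal.mem_comap, map_sub, map_add, aeval_X, aeval_X] at h3
  rw [WittVector.add_coeff, peval]
  exact h3

theorem frobenius_coeff (𝔞 : Ideal S) (x : WittVector p S) (hx : ∀ n, x.coeff n ∈ 𝔞) (n : ℕ) :
    ∃ g ∈ 𝔞, (frobenius x).coeff n = x.coeff n ^ p + (p : S) * g := by
  refine ⟨aeval x.coeff (frobeniusPolyAux p n), ?_, ?_⟩
  · have haux : frobeniusPolyAux p n ∈ idealOfVars ℕ ℤ :=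
      mem_idealOfVars_of_constantCoeff _ (constantCoeff_frobeniusPolyAux p n)
    have h1 : idealOfVars ℕ ℤ ≤
        Ideal.comap (aeval x.coeff : MvPolynomial ℕ ℤ →ₐ[ℤ] S) 𝔞 := by
      rw [idealOfVars, Ideal.span_le]
      rintro _ ⟨v, rfl⟩
      rw [SetLike.mem_coe, Ideal.mem_comap, aeval_X]
      exact hx v
    exact h1 haux
  · rw [WittVector.coeff_frobenius, frobeniusPoly, map_add, map_pow, aeval_X, map_mul, aeval_C]
    have h2 : algebraMap ℤ S (p : ℤ) = (p : S) := by simp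
    rw [h2]

/-- Witt vectors with all coefficients in `𝔞`. -/
noncomputable def K (p : ℕ) [Fact p.Prime] {S : Type u} [CommRing S] (𝔞 : Ideal S) :
    Ideal (WittVector p S) :=
  RingHom.ker (WittVector.map (Ideal.Quotient.mk 𝔞))

theorem mem_K_iff (𝔞 : Ideal S) (x : WittVector p S) : x ∈ K p 𝔞 ↔ ∀ n, x.coeff n ∈ 𝔞 := by
  rw [K, RingHom.mem_ker, WittVector.ext_iff]
  refine forall_congr' (fun n => ?_)
  rw [WittVector.map_coeff, WittVector.zero_coeff, Ideal.Quotient.eq_zero_iff_mem]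

theorem sub_mem_K_iff (𝔞 : Ideal S) (x y : WittVector p S) :
    x - y ∈ K p 𝔞 ↔ ∀ n, x.coeff n - y.coeff n ∈ 𝔞 := by
  rw [K, RingHom.mem_ker, map_sub, sub_eq_zero, WittVector.ext_iff]
  refine forall_congr' (fun n => ?_)
  rw [WittVector.map_coeff, WittVector.map_coeff, ← sub_eq_zero, ← map_sub,
    Ideal.Quotient.eq_zero_iff_mem]

theorem K_mono {𝔞 𝔟 : Ideal S} (h : 𝔞 ≤ 𝔟) : K p 𝔞 ≤ K p 𝔟 := by
  intro x hx
  rw [mem_K_iff] at hx ⊢
  exact fun n => h (hx n)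

theorem K_bot : K p (⊥ : Ideal S) = ⊥ := by
  rw [eq_bot_iff]
  intro x hx
  rw [mem_K_iff] at hx
  rw [Ideal.mem_bot]
  ext n
  rw [WittVector.zero_coeff]
  exact (Ideal.mem_bot).mp (hx n)

theorem mem_ker_map_iff {R : Type u} [CommRing R] (f : S →+* R) (x : WittVector p S) :
    x ∈ RingHom.ker (WittVector.map f : WittVector p S →+* WittVector p R) ↔
      x ∈ K p (RingHom.ker f) := by
  rw [mem_K_iff, RingHom.mem_ker, WittVector.ext_iff]
  refine forall_congr' (fun n => ?_)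
  rw [WittVector.map_coeff, WittVector.zero_coeff, RingHom.mem_ker]

theorem teichmuller_mem_K {𝔞 : Ideal S} {a : S} (ha : a ∈ 𝔞) : teichmuller p a ∈ K p 𝔞 := by
  rw [mem_K_iff]
  intro n
  rcases n with _ | n
  · rw [WittVector.teichmuller_coeff_zero]
    exact ha
  · rw [WittVector.teichmuller_coeff_pos p _ _ (Nat.succ_pos n)]
    exact Ideal.zero_mem _

theorem verschiebung_mem_K_iff (𝔞 : Ideal S) (c : WittVector p S) :
    verschiebung c ∈ K p 𝔞 ↔ c ∈ K p 𝔞 := by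
  rw [mem_K_iff, mem_K_iff]
  constructor
  · intro h n
    have := h (n + 1)
    rwa [WittVector.verschiebung_coeff_succ] at this
  · intro h n
    rcases n with _ | n
    · rw [WittVector.verschiebung_coeff_zero]
      exact Ideal.zero_mem _
    · rw [WittVector.verschiebung_coeff_succ]
      exact h n

/-- The left shift. -/
noncomputable def tau (x : WittVector p S) : WittVector p S :=
  WittVector.mk p (fun n => x.coeff (n + 1))

theorem tau_coeff (x : WittVector p S) (n : ℕ) : (tau x).coeff n = x.coeff (n + 1) := rfl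

theorem coeff_teichmuller_add_verschiebung (a : S) (y : WittVector p S) (n : ℕ) :
    (teichmuller p a + verschiebung y).coeff n =
      (teichmuller p a).coeff n + (verschiebung y).coeff n := by
  apply WittVector.coeff_add_of_disjoint
  intro m
  rcases m with _ | m
  · exact Or.inr (WittVector.verschiebung_coeff_zero y)
  · exact Or.inl (WittVector.teichmuller_coeff_pos p a _ (Nat.succ_pos m))

theorem decomp (x : WittVector p S) :
    x = teichmuller p (x.coeff 0) + verschiebung (tau x) := by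
  ext n
  rw [coeff_teichmuller_add_verschiebung]
  rcases n with _ | n
  · rw [WittVector.teichmuller_coeff_zero, WittVector.verschiebung_coeff_zero, add_zero]
  · rw [WittVector.teichmuller_coeff_pos p _ _ (Nat.succ_pos n), zero_add,
      WittVector.verschiebung_coeff_succ, tau_coeff]

theorem tau_teichmuller_add_verschiebung (a : S) (y : WittVector p S) :
    tau (teichmuller p a + verschiebung y) = y := by
  ext n
  rw [tau_coeff, coeff_teichmuller_add_verschiebung,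
    WittVector.teichmuller_coeff_pos p _ _ (Nat.succ_pos n), zero_add,
    WittVector.verschiebung_coeff_succ]

theorem tau_verschiebung (c : WittVector p S) : tau (verschiebung c) = c := by
  ext n
  rw [tau_coeff, WittVector.verschiebung_coeff_succ]

theorem tau_mem_K {𝔞 : Ideal S} {x : WittVector p S} (hx : x ∈ K p 𝔞) : tau x ∈ K p 𝔞 := by
  rw [mem_K_iff] at hx ⊢
  exact fun n => hx (n + 1)

theorem tau_sub_mem {𝔟 : Ideal S} {x y : WittVector p S} (h : x - y ∈ K p 𝔟) :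
    tau x - tau y ∈ K p 𝔟 := by
  rw [sub_mem_K_iff] at h ⊢
  exact fun n => h (n + 1)

variable {𝔞 𝔟 : Ideal S}

theorem tau_add (h2 : 𝔞 * 𝔞 ≤ 𝔟) {x y : WittVector p S} (hx : x ∈ K p 𝔞) (hy : y ∈ K p 𝔞) :
    tau (x + y) - (tau x + tau y) ∈ K p 𝔟 := by
  rw [sub_mem_K_iff]
  intro n
  have h1 := add_coeff_sub_mem 𝔞 x y ((mem_K_iff _ _).mp hx) ((mem_K_iff _ _).mp hy) (n + 1)
  have h3 := add_coeff_sub_mem 𝔞 (tau x) (tau y) ((mem_K_iff _ _).mp (tau_mem_K hx))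
    ((mem_K_iff _ _).mp (tau_mem_K hy)) n
  have e : (tau (x + y)).coeff n - (tau x + tau y).coeff n =
      ((x + y).coeff (n + 1) - (x.coeff (n + 1) + y.coeff (n + 1))) -
      ((tau x + tau y).coeff n - ((tau x).coeff n + (tau y).coeff n)) := by
    rw [tau_coeff, tau_coeff, tau_coeff]
    ring
  rw [e]
  exact Ideal.sub_mem _ (h2 h1) (h2 h3)

theorem frobenius_mem_K (h2 : 𝔞 * 𝔞 ≤ 𝔟) (hp𝔞 : ∀ a ∈ 𝔞, (p : S) * a ∈ 𝔟)
    {x : WittVector p S} (hx : x ∈ K p 𝔞) : frobenius x ∈ K p 𝔟 := by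
  rw [mem_K_iff] at hx ⊢
  intro n
  obtain ⟨g, hg, e⟩ := frobenius_coeff 𝔞 x hx n
  rw [e]
  refine Ideal.add_mem _ ?_ (hp𝔞 g hg)
  have e2 : x.coeff n ^ p = x.coeff n * x.coeff n * x.coeff n ^ (p - 2) := by
    rw [← pow_two, ← pow_add]
    congr 1
    have := hp.out.two_le
    omega
  rw [e2]
  exact Ideal.mul_mem_right _ _ (h2 (Ideal.mul_mem_mul (hx n) (hx n)))

theorem nsmul_coeff_sub_mem {x : WittVector p S} (hx : x ∈ K p 𝔞) (k n : ℕ) :
    (k • x).coeff n - (k : S) * x.coeff n ∈ 𝔞 * 𝔞 := by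
  induction k with
  | zero =>
    rw [zero_smul, WittVector.zero_coeff, Nat.cast_zero, zero_mul, sub_zero]
    exact Ideal.zero_mem _
  | succ k ih =>
    have hk : k • x ∈ K p 𝔞 := by
      rw [nsmul_eq_mul]
      exact Ideal.mul_mem_left _ _ hx
    have h1 := add_coeff_sub_mem 𝔞 (k • x) x ((mem_K_iff _ _).mp hk) ((mem_K_iff _ _).mp hx) n
    have e : ((k + 1) • x).coeff n - ((k + 1 : ℕ) : S) * x.coeff n =
        ((k • x + x).coeff n - ((k • x).coeff n + x.coeff n)) +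
        ((k • x).coeff n - (k : S) * x.coeff n) := by
      rw [succ_nsmul, Nat.cast_succ]
      ring
    rw [e]
    exact Ideal.add_mem _ h1 ih

theorem p_mul_mem_K (h2 : 𝔞 * 𝔞 ≤ 𝔟) (hp𝔞 : ∀ a ∈ 𝔞, (p : S) * a ∈ 𝔟)
    {x : WittVector p S} (hx : x ∈ K p 𝔞) : (p : WittVector p S) * x ∈ K p 𝔟 := by
  rw [← nsmul_eq_mul, mem_K_iff]
  intro n
  have h1 := nsmul_coeff_sub_mem hx p n
  have e : (p • x).coeff n = ((p • x).coeff n - (p : S) * x.coeff n) + (p : S) * x.coeff n := by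
    ring
  rw [e]
  exact Ideal.add_mem _ (h2 h1) (hp𝔞 _ ((mem_K_iff _ _).mp hx n))

theorem verschiebung_mul_mem_K (h2 : 𝔞 * 𝔞 ≤ 𝔟) (hp𝔞 : ∀ a ∈ 𝔞, (p : S) * a ∈ 𝔟)
    (η : WittVector p S) {x : WittVector p S} (hx : x ∈ K p 𝔞) :
    verschiebung η * x ∈ K p 𝔟 := by
  rw [← WittVector.verschiebung_mul_frobenius, verschiebung_mem_K_iff]
  exact Ideal.mul_mem_left _ _ (frobenius_mem_K h2 hp𝔞 hx)

theorem IV_mul_mem_K (h2 : 𝔞 * 𝔞 ≤ 𝔟) (hp𝔞 : ∀ a ∈ 𝔞, (p : S) * a ∈ 𝔟)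
    {ξ : WittVector p S} (hξ : ξ ∈ W4c1extbt610.IV p S) {x : WittVector p S} (hx : x ∈ K p 𝔞) :
    ξ * x ∈ K p 𝔟 := by
  rw [H10Disp.IV_eq_II] at hξ
  obtain ⟨η, rfl⟩ := H10Witt.exists_verschiebung_of_mem hξ
  exact verschiebung_mul_mem_K h2 hp𝔞 η hx

theorem J_mul_mem_K (h2 : 𝔞 * 𝔞 ≤ 𝔟) (hp𝔞 : ∀ a ∈ 𝔞, (p : S) * a ∈ 𝔟)
    {ξ : WittVector p S}
    (hξ : ξ ∈ W4c1extbt610.IV p S ⊔ Ideal.span {(p : WittVector p S)})
    {x : WittVector p S} (hx : x ∈ K p 𝔞) : ξ * x ∈ K p 𝔟 := by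
  obtain ⟨ξ₁, h1, ξ₂, h3, rfl⟩ := Submodule.mem_sup.mp hξ
  obtain ⟨c, rfl⟩ := Ideal.mem_span_singleton'.mp h3
  rw [add_mul, mul_assoc]
  exact Ideal.add_mem _ (IV_mul_mem_K h2 hp𝔞 h1 hx)
    (Ideal.mul_mem_left _ _ (p_mul_mem_K h2 hp𝔞 hx))

theorem alg_aux {R : Type*} [CommRing R] (a b c d ξ x : R) (hξ : ξ = a + b) (hx : x = c + d) :
    ξ * x = a * c + (b * c + d * ξ) := by
  subst hξ hx
  ring

theorem tau_mul_eq (ξ x : WittVector p S) :
    tau (ξ * x) = tau ξ * frobenius (teichmuller p (x.coeff 0)) + tau x * frobenius ξ := by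
  have e : ξ * x = teichmuller p (ξ.coeff 0 * x.coeff 0) +
      verschiebung (tau ξ * frobenius (teichmuller p (x.coeff 0)) + tau x * frobenius ξ) := by
    rw [map_add, WittVector.verschiebung_mul_frobenius, WittVector.verschiebung_mul_frobenius,
      map_mul]
    exact alg_aux _ _ _ _ ξ x (decomp ξ) (decomp x)
  rw [e, tau_teichmuller_add_verschiebung]

theorem tau_mul (h2 : 𝔞 * 𝔞 ≤ 𝔟) (hp𝔞 : ∀ a ∈ 𝔞, (p : S) * a ∈ 𝔟)
    (ξ : WittVector p S) {x : WittVector p S} (hx : x ∈ K p 𝔞) :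
    tau (ξ * x) - frobenius ξ * tau x ∈ K p 𝔟 := by
  rw [tau_mul_eq]
  have e : tau ξ * frobenius (teichmuller p (x.coeff 0)) + tau x * frobenius ξ -
      frobenius ξ * tau x = tau ξ * frobenius (teichmuller p (x.coeff 0)) := by ring
  rw [e]
  exact Ideal.mul_mem_left _ _
    (frobenius_mem_K h2 hp𝔞 (teichmuller_mem_K ((mem_K_iff _ _).mp hx 0)))

theorem mem_K_sup_IV {𝔠 : Ideal S} {x : WittVector p S} (h : x.coeff 0 ∈ 𝔠) :
    x ∈ K p 𝔠 ⊔ W4c1extbt610.IV p S := by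
  rw [decomp x]
  exact Ideal.add_mem _ (Ideal.mem_sup_left (teichmuller_mem_K h))
    (Ideal.mem_sup_right (W4c1extbt610.verschiebung_mem_IV p S _))

theorem frobenius_mem_K_self {x : WittVector p S} (hx : x ∈ K p 𝔞) : frobenius x ∈ K p 𝔞 := by
  rw [mem_K_iff] at hx ⊢
  intro n
  obtain ⟨g, hg, e⟩ := frobenius_coeff 𝔞 x hx n
  rw [e]
  exact Ideal.add_mem _ (Ideal.pow_mem_of_mem _ (hx n) p hp.out.pos) (Ideal.mul_mem_left _ _ hg)

end ideal

end H10WI
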