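import Mathlib
import Groth.Prelude.Def_Disp2
import Groth.Agent.Lib.Helper10.WittIdeal
import Groth.Agent.Lib.Helper10.DispVhat
import Groth.Agent.Lib.Helper10.DispUIter
import Groth.Agent.Lib.Helper10.DispVSharp

/-!
# Homomorphisms of displays which vanish modulo a nilpotent ideal

If `ψ : P → P'` is a homomorphism of 3n-displays over `S`, `P` a display, and `ψ` has values in
`W(𝔠) P'` for an ideal `𝔠` inside a nilpotent ideal containing `p`, then `ψ = 0`.
-/

set_option autoImplicit false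
universe u v w

namespace H10HI

open WittVector Dieu H10Adic H10WI H10Vhat H10Disp

section abstract

variable {W : Type u} [CommRing W] {σ : W →+* W} {Ka Kb : Ideal W} {τ : W → W}
variable {M : Type v} [AddCommGroup M] [Module W M]

theorem vbar_sum {ι : Type*} [Fintype ι] (hτ : TauData σ Ka Kb τ) (Fm : M →ₛₗ[σ] M)
    (v : (↥(AA Ka M) ⧸ BB Ka Kb M) →ₛₗ[σ] (↥(AA Ka M) ⧸ BB Ka Kb M))
    (hv : ∀ (a : W) (ha : a ∈ Ka) (x : M),
      v ((BB Ka Kb M).mkQ ⟨a • x, Submodule.smul_mem_smul ha Submodule.mem_top⟩) =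
        (BB Ka Kb M).mkQ ⟨τ a • Fm x,
          Submodule.smul_mem_smul (hτ.mem_a a ha) Submodule.mem_top⟩)
    (a : ι → W) (ha : ∀ j, a j ∈ Ka) (x : ι → M) :
    v ((BB Ka Kb M).mkQ ⟨∑ j, a j • x j, Submodule.sum_mem _
        (fun j _ => Submodule.smul_mem_smul (ha j) Submodule.mem_top)⟩) =
      (BB Ka Kb M).mkQ ⟨∑ j, τ (a j) • Fm (x j), Submodule.sum_mem _
        (fun j _ => Submodule.smul_mem_smul (hτ.mem_a _ (ha j)) Submodule.mem_top)⟩ := by
  have e1 : (⟨∑ j, a j • x j, Submodule.sum_mem _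
        (fun j _ => Submodule.smul_mem_smul (ha j) Submodule.mem_top)⟩ : ↥(AA Ka M)) =
      ∑ j, ⟨a j • x j, Submodule.smul_mem_smul (ha j) Submodule.mem_top⟩ := by
    apply Subtype.ext
    rw [Submodule.coe_sum]
  have e2 : (⟨∑ j, τ (a j) • Fm (x j), Submodule.sum_mem _
        (fun j _ => Submodule.smul_mem_smul (hτ.mem_a _ (ha j)) Submodule.mem_top)⟩ :
        ↥(AA Ka M)) =
      ∑ j, ⟨τ (a j) • Fm (x j),
        Submodule.smul_mem_smul (hτ.mem_a _ (ha j)) Submodule.mem_top⟩ := by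
    apply Subtype.ext
    rw [Submodule.coe_sum]
  rw [e1, e2, map_sum, map_sum, map_sum]
  exact Finset.sum_congr rfl (fun j _ => hv (a j) (ha j) (x j))

end abstract

section kernel

variable {A : Type u} {B : Type v} [CommRing A] [CommRing B] (g : A →+* B)
variable {M : Type w} [AddCommGroup M] [Module A M]

theorem mkQ_smul_congr (N : Submodule A M)
    (hN : RingHom.ker g • (⊤ : Submodule A M) ≤ N) (c c' : A) (y : M) (h : g c = g c') :
    N.mkQ (c • y) = N.mkQ (c' • y) := by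
  rw [← sub_eq_zero, ← map_sub, ← sub_smul]
  show (Submodule.Quotient.mk ((c - c') • y) : M ⧸ N) = 0
  rw [Submodule.Quotient.mk_eq_zero]
  refine hN (Submodule.smul_mem_smul ?_ Submodule.mem_top)
  rw [RingHom.mem_ker, map_sub, h, sub_self]

open TensorProduct in
/-- The map `B ⊗_{g,A} M → M / (ker g) M` for surjective `g`. -/
noncomputable def kerLift (hg : Function.Surjective g) (M : Type w) [AddCommGroup M]
    [Module A M] :
    Res g ⊗[A] M →ₗ[A] M ⧸ (RingHom.ker g • (⊤ : Submodule A M)) :=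
  TensorProduct.lift (LinearMap.mk₂ A
    (fun (b : Res g) (y : M) =>
      (RingHom.ker g • (⊤ : Submodule A M)).mkQ (Function.surjInv hg b.val • y))
    (fun b b' y => by
      beta_reduce
      rw [← map_add, ← add_smul]
      refine mkQ_smul_congr g _ le_rfl _ _ y ?_
      calc g (Function.surjInv hg (b + b').val) = (b + b').val := Function.surjInv_eq hg _
        _ = b.val + b'.val := rfl
        _ = g (Function.surjInv hg b.val) + g (Function.surjInv hg b'.val) := by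
          rw [Function.surjInv_eq hg, Function.surjInv_eq hg]
        _ = g (Function.surjInv hg b.val + Function.surjInv hg b'.val) := (map_add g _ _).symm)
    (fun a b y => by
      beta_reduce
      rw [← map_smul, smul_smul]
      refine mkQ_smul_congr g _ le_rfl _ _ y ?_
      calc g (Function.surjInv hg (a • b).val) = (a • b).val := Function.surjInv_eq hg _
        _ = g a * b.val := rfl
        _ = g a * g (Function.surjInv hg b.val) := by rw [Function.surjInv_eq hg]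
        _ = g (a * Function.surjInv hg b.val) := (map_mul g _ _).symm)
    (fun b y y' => by
      beta_reduce
      rw [smul_add, map_add])
    (fun a b y => by
      beta_reduce
      rw [smul_comm, map_smul]))

open TensorProduct in
theorem mem_of_tmul_one_eq_zero (hg : Function.Surjective g) (x : M)
    (h : BC.tmul g 1 x = 0) : x ∈ RingHom.ker g • (⊤ : Submodule A M) := by
  have h0 : ((Res.mk g 1) ⊗ₜ[A] x : Res g ⊗[A] M) = 0 := h
  have h1 : kerLift g hg M ((Res.mk g 1) ⊗ₜ[A] x) = 0 := by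
    rw [h0, map_zero]
  rw [kerLift, TensorProduct.lift.tmul, LinearMap.mk₂_apply] at h1
  have h2 : (RingHom.ker g • (⊤ : Submodule A M)).mkQ ((1 : A) • x) = 0 := by
    rw [← h1]
    refine mkQ_smul_congr g _ le_rfl _ _ x ?_
    calc g 1 = 1 := map_one g
      _ = (Res.mk g (1 : B)).val := rfl
      _ = g (Function.surjInv hg (Res.mk g (1 : B)).val) := (Function.surjInv_eq hg _).symm
  rw [one_smul] at h2
  exact (Submodule.Quotient.mk_eq_zero _).mp h2

theorem tmul_eq_zero_of_mem (b : B) (x : M)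
    (hx : x ∈ RingHom.ker g • (⊤ : Submodule A M)) : BC.tmul g b x = 0 := by
  refine Submodule.smul_induction_on hx (fun k hk y _ => ?_) (fun y y' hy hy' => ?_)
  · rw [← BC.tmul_mul_apply, (RingHom.mem_ker).mp hk, mul_zero, BC.zero_tmul]
  · rw [BC.tmul_add, hy, hy', add_zero]

theorem tmul_one_sum {ι : Type*} [Fintype ι] (c : ι → A) (y : ι → M) :
    BC.tmul g 1 (∑ j, c j • y j) = ∑ j, g (c j) • BC.tmul g 1 (y j) := by
  have h := map_sum (BC.ι g M) (fun j => c j • y j) Finset.univ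
  rw [BC.ι_apply] at h
  rw [h]
  exact Finset.sum_congr rfl (fun j _ => (BC.ι g M).map_smulₛₗ (c j) (y j))

theorem mem_sup_of_mkQ_mem (Q : Submodule A M) (I : Ideal A) (x : M)
    (h : Q.mkQ x ∈ I • (⊤ : Submodule A (M ⧸ Q))) :
    x ∈ Q ⊔ I • (⊤ : Submodule A M) := by
  have e : I • (⊤ : Submodule A (M ⧸ Q)) = Submodule.map Q.mkQ (I • (⊤ : Submodule A M)) := by
    rw [Submodule.map_smul'', Submodule.map_top, Submodule.range_mkQ]
  rw [e] at h
  obtain ⟨z, hz, hzx⟩ := h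
  have h1 : z - x ∈ Q := (Submodule.Quotient.eq Q).mp hzx
  have h2 : x = -(z - x) + z := by abel
  rw [h2]
  exact Submodule.add_mem_sup (Q.neg_mem h1) hz

end kernel

section disp

variable {p : ℕ} [hp : Fact p.Prime] {S : Type u} [CommRing S]
variable {P : Type v} [AddCommGroup P] [Module (WittVector p S) P]
variable {P' : Type v} [AddCommGroup P'] [Module (WittVector p S) P']

theorem exists_decomp (D : W4c1extbt610.Display3n p S P) :
    ∃ (r : ℕ) (l : Fin r → D.Q) (e : Fin r → P)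
      (a b : P →ₗ[WittVector p S] (Fin r → WittVector p S)),
      (∀ y : P, y = ∑ j, a y j • (l j : P) + ∑ j, b y j • e j) ∧
      (∀ y ∈ D.Q, ∀ j, b y j ∈ W4c1extbt610.IV p S) := by
  classical
  obtain ⟨L, T, hLT, hQ⟩ := D.exists_normal
  haveI := D.finite
  haveI := D.projective
  obtain ⟨r, ρ, i, _, _, hρi⟩ :=
    Module.Finite.exists_comp_eq_id_of_projective (WittVector p S) P
  have hx : ∀ x : P, x = ∑ j, i x j • ρ (fun j' => if j = j' then 1 else 0) := by
    intro x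
    have h1 := LinearMap.congr_fun hρi x
    rw [LinearMap.comp_apply, LinearMap.id_apply, LinearMap.pi_apply_eq_sum_univ ρ (i x)] at h1
    exact h1.symm
  have hLQ : L ≤ D.Q := hQ ▸ le_sup_left
  have hprL : ∀ x, L.projection T hLT x ∈ D.Q := fun x =>
    hLQ (Submodule.projection_apply_mem hLT x)
  have hprT : ∀ y ∈ D.Q, T.projection L hLT.symm y ∈
      W4c1extbt610.IV p S • (⊤ : Submodule (WittVector p S) P) := by
    intro y hy
    rw [hQ] at hy
    obtain ⟨l, hl, s, hs, rfl⟩ := Submodule.mem_sup.mp hy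
    rw [map_add, (Submodule.projection_apply_eq_zero_iff hLT.symm).mpr hl, zero_add]
    exact map_mem_smul_top _ _ (Submodule.smul_mono le_rfl le_top hs)
  refine ⟨r, fun j => ⟨L.projection T hLT (ρ (fun j' => if j = j' then 1 else 0)), hprL _⟩,
    fun j => ρ (fun j' => if j = j' then 1 else 0), i, i ∘ₗ T.projection L hLT.symm, ?_, ?_⟩
  · intro y
    have h1 : L.projection T hLT y =
        ∑ j, i y j • L.projection T hLT (ρ (fun j' => if j = j' then 1 else 0)) := by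
      conv_lhs => rw [hx y]
      rw [map_sum]
      exact Finset.sum_congr rfl (fun j _ => map_smul _ _ _)
    have h2 := hx (T.projection L hLT.symm y)
    calc y = L.projection T hLT y + T.projection L hLT.symm y :=
          (Submodule.projection_add_projection_eq_self hLT y).symm
      _ = _ := congrArg₂ (· + ·) h1 h2
  · intro y hy j
    exact (mem_smul_top_pi _ _).mp (map_mem_smul_top _ i (hprT y hy)) j

theorem Vinv_eq_of_decomp (D : W4c1extbt610.Display3n p S P) {r : ℕ} (l : Fin r → D.Q)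
    (e : Fin r → P) (α β c : Fin r → WittVector p S) (y : D.Q)
    (hy : (y : P) = ∑ j, α j • (l j : P) + ∑ j, β j • e j)
    (hc : ∀ j, verschiebung (c j) = β j) :
    D.Vinv y = ∑ j, frobenius (α j) • D.Vinv (l j) + ∑ j, c j • D.F (e j) := by
  have hy' : y = ∑ j, α j • l j + ∑ j, (⟨verschiebung (c j) • e j,
      D.IV_smul_le (Submodule.smul_mem_smul (W4c1extbt610.verschiebung_mem_IV p S (c j))
        Submodule.mem_top)⟩ : D.Q) := by
    apply Subtype.ext
    rw [Submodule.coe_add, Submodule.coe_sum, Submodule.coe_sum, hy]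
    refine congrArg₂ (· + ·) (Finset.sum_congr rfl (fun j _ => rfl))
      (Finset.sum_congr rfl (fun j _ => ?_))
    show β j • e j = verschiebung (c j) • e j
    rw [hc j]
  rw [hy', map_add, map_sum, map_sum]
  refine congrArg₂ (· + ·) (Finset.sum_congr rfl (fun j _ => ?_))
    (Finset.sum_congr rfl (fun j _ => ?_))
  · exact map_smulₛₗ D.Vinv (α j) (l j)
  · exact D.Vinv_verschiebung_smul (c j) (e j)

theorem Vinv_mem_K (D : W4c1extbt610.Display3n p S P) (𝔟 : Ideal S) (y : D.Q)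
    (hy : (y : P) ∈ K p 𝔟 • (⊤ : Submodule (WittVector p S) P)) :
    D.Vinv y ∈ K p 𝔟 • (⊤ : Submodule (WittVector p S) P) := by
  obtain ⟨r, l, e, a, b, hdec, hb⟩ := exists_decomp D
  have ha : ∀ j, a (y : P) j ∈ K p 𝔟 := (mem_smul_top_pi _ _).mp (map_mem_smul_top _ a hy)
  have hbK : ∀ j, b (y : P) j ∈ K p 𝔟 := (mem_smul_top_pi _ _).mp (map_mem_smul_top _ b hy)
  have hbV : ∀ j, ∃ c : WittVector p S, verschiebung c = b (y : P) j := by
    intro j
    have h1 := hb (y : P) y.2 j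
    rw [H10Disp.IV_eq_II] at h1
    obtain ⟨c, hc⟩ := H10Witt.exists_verschiebung_of_mem h1
    exact ⟨c, hc.symm⟩
  choose c hc using hbV
  have hcK : ∀ j, c j ∈ K p 𝔟 := fun j =>
    (verschiebung_mem_K_iff 𝔟 (c j)).mp (by rw [hc j]; exact hbK j)
  rw [Vinv_eq_of_decomp D l e (a (y : P)) (b (y : P)) c y (hdec y) hc]
  exact Submodule.add_mem _
    (Submodule.sum_mem _ fun j _ =>
      Submodule.smul_mem_smul (frobenius_mem_K_self (ha j)) Submodule.mem_top)
    (Submodule.sum_mem _ fun j _ => Submodule.smul_mem_smul (hcK j) Submodule.mem_top)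

theorem F_eq_p_smul_Vinv (D : W4c1extbt610.Display3n p S P) (l : D.Q) :
    D.F (l : P) = (p : WittVector p S) • D.Vinv l := by
  have h := D.Vinv_verschiebung_smul 1 (l : P)
  rw [one_smul] at h
  rw [← h]
  show D.Vinv (verschiebung (1 : WittVector p S) • l) = _
  rw [map_smulₛₗ, WittVector.frobenius_verschiebung, one_mul]

theorem isHom_of_Vinv (D : W4c1extbt610.Display3n p S P) (D' : W4c1extbt610.Display3n p S P')
    (ψ : P →ₗ[WittVector p S] P') (h1 : ∀ q : P, q ∈ D.Q → ψ q ∈ D'.Q)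
    (h2 : ∀ q : D.Q, ψ (D.Vinv q) = D'.Vinv ⟨ψ q, h1 q q.2⟩) :
    W4c1extbt610.IsHom D D' ψ where
  mapsTo := h1
  comm_F := by
    intro x
    have e1 := D.Vinv_verschiebung_smul 1 x
    have e2 := D'.Vinv_verschiebung_smul 1 (ψ x)
    rw [one_smul] at e1 e2
    rw [← e1, ← e2, h2]
    refine congrArg D'.Vinv (Subtype.ext ?_)
    exact map_smul ψ _ x
  comm_Vinv := h2

variable {𝔞 𝔟 : Ideal S}

theorem tauData (h2 : 𝔞 * 𝔞 ≤ 𝔟) (hp𝔞 : ∀ a ∈ 𝔞, (p : S) * a ∈ 𝔟) :
    TauData (WittVector.frobenius : WittVector p S →+* WittVector p S) (K p 𝔞) (K p 𝔟) tau where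
  mem_a := fun _ ha => tau_mem_K ha
  mem_b := fun _ hb => tau_mem_K hb
  add := fun _ ha _ ha' => tau_add h2 ha ha'
  mul := fun ξ _ ha => tau_mul h2 hp𝔞 ξ ha

theorem Vinv_compat (h2 : 𝔞 * 𝔞 ≤ 𝔟) (hp𝔞 : ∀ a ∈ 𝔞, (p : S) * a ∈ 𝔟)
    (D : W4c1extbt610.Display3n p S P)
    (v : (↥(AA (K p 𝔞) P) ⧸ BB (K p 𝔞) (K p 𝔟) P) →ₛₗ[(WittVector.frobenius :
      WittVector p S →+* WittVector p S)] (↥(AA (K p 𝔞) P) ⧸ BB (K p 𝔞) (K p 𝔟) P))
    (hv : ∀ (a : WittVector p S) (ha : a ∈ K p 𝔞) (x : P),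
      v ((BB (K p 𝔞) (K p 𝔟) P).mkQ ⟨a • x, Submodule.smul_mem_smul ha Submodule.mem_top⟩) =
        (BB (K p 𝔞) (K p 𝔟) P).mkQ ⟨tau a • D.F x,
          Submodule.smul_mem_smul ((tauData h2 hp𝔞).mem_a a ha) Submodule.mem_top⟩)
    (y : D.Q) (hy : (y : P) ∈ K p 𝔞 • (⊤ : Submodule (WittVector p S) P)) :
    (BB (K p 𝔞) (K p 𝔟) P).mkQ ⟨D.Vinv y, Vinv_mem_K D 𝔞 y hy⟩ =
      v ((BB (K p 𝔞) (K p 𝔟) P).mkQ ⟨(y : P), hy⟩) := by
  obtain ⟨r, l, e, a, b, hdec, hb⟩ := exists_decomp D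
  have ha : ∀ j, a (y : P) j ∈ K p 𝔞 := (mem_smul_top_pi _ _).mp (map_mem_smul_top _ a hy)
  have hbK : ∀ j, b (y : P) j ∈ K p 𝔞 := (mem_smul_top_pi _ _).mp (map_mem_smul_top _ b hy)
  have hbV : ∀ j, ∃ c : WittVector p S, verschiebung c = b (y : P) j := by
    intro j
    have h1 := hb (y : P) y.2 j
    rw [H10Disp.IV_eq_II] at h1
    obtain ⟨c, hc⟩ := H10Witt.exists_verschiebung_of_mem h1
    exact ⟨c, hc.symm⟩
  choose c hc using hbV
  have hcK : ∀ j, c j ∈ K p 𝔞 := fun j =>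
    (verschiebung_mem_K_iff 𝔞 (c j)).mp (by rw [hc j]; exact hbK j)
  have hVK : ∀ j, verschiebung (c j) ∈ K p 𝔞 := fun j => by rw [hc j]; exact hbK j
  have hτ := tauData (p := p) h2 hp𝔞
  have s1 := vbar_sum hτ D.F v hv (fun j => a (y : P) j) ha (fun j => (l j : P))
  have s2 := vbar_sum hτ D.F v hv (fun j => verschiebung (c j)) hVK e
  have esplit : (⟨(y : P), hy⟩ : ↥(AA (K p 𝔞) P)) =
      ⟨∑ j, a (y : P) j • (l j : P), Submodule.sum_mem _
        (fun j _ => Submodule.smul_mem_smul (ha j) Submodule.mem_top)⟩ +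
      ⟨∑ j, verschiebung (c j) • e j, Submodule.sum_mem _
        (fun j _ => Submodule.smul_mem_smul (hVK j) Submodule.mem_top)⟩ := by
    apply Subtype.ext
    show (y : P) = ∑ j, a (y : P) j • (l j : P) + ∑ j, verschiebung (c j) • e j
    conv_lhs => rw [hdec (y : P)]
    refine congrArg₂ (· + ·) rfl (Finset.sum_congr rfl (fun j _ => ?_))
    rw [hc j]
  rw [esplit, map_add, map_add, s1, s2, ← map_add, mkQ_eq_iff]
  show D.Vinv y - (∑ j, tau (a (y : P) j) • D.F (l j : P) +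
    ∑ j, tau (verschiebung (c j)) • D.F (e j)) ∈ _
  rw [Vinv_eq_of_decomp D l e (a (y : P)) (b (y : P)) c y (hdec y) hc]
  have e3 : (∑ j, frobenius (a (y : P) j) • D.Vinv (l j) + ∑ j, c j • D.F (e j)) -
      (∑ j, tau (a (y : P) j) • D.F (l j : P) +
        ∑ j, tau (verschiebung (c j)) • D.F (e j)) =
      ∑ j, (frobenius (a (y : P) j) - tau (a (y : P) j) * (p : WittVector p S)) •
        D.Vinv (l j) := by
    simp only [tau_verschiebung]
    rw [add_sub_add_right_eq_sub, ← Finset.sum_sub_distrib]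
    refine Finset.sum_congr rfl (fun j _ => ?_)
    rw [F_eq_p_smul_Vinv, smul_smul, sub_smul]
  rw [e3]
  refine Submodule.sum_mem _ (fun j _ => Submodule.smul_mem_smul ?_ Submodule.mem_top)
  refine Ideal.sub_mem _ (frobenius_mem_K h2 hp𝔞 (ha j)) ?_
  rw [mul_comm]
  exact p_mul_mem_K h2 hp𝔞 (tau_mem_K (ha j))

theorem hom_step (h2 : 𝔞 * 𝔞 ≤ 𝔟) (hp𝔞 : ∀ a ∈ 𝔞, (p : S) * a ∈ 𝔟)
    (D : W4c1extbt610.Display3n p S P) (D' : W4c1extbt610.Display3n p S P')
    (Vs : P →ₗ[WittVector p S] BC (WittVector.frobenius :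
      WittVector p S →+* WittVector p S) P)
    (hVs : IsVSharp D Vs) (hnil : IsVNilpotent Vs)
    (ψ : P →ₗ[WittVector p S] P') (hψ : W4c1extbt610.IsHom D D' ψ)
    (h : ∀ x, ψ x ∈ K p 𝔞 • (⊤ : Submodule (WittVector p S) P')) :
    ∀ x, ψ x ∈ K p 𝔟 • (⊤ : Submodule (WittVector p S) P') := by
  haveI := D'.finite
  haveI := D'.projective
  obtain ⟨v, hv⟩ := exists_vbar (tauData (p := p) h2 hp𝔞) D'.F
  let ω : P →ₗ[WittVector p S] (↥(AA (K p 𝔞) P') ⧸ BB (K p 𝔞) (K p 𝔟) P') :=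
    (BB (K p 𝔞) (K p 𝔟) P').mkQ ∘ₗ (LinearMap.codRestrict (AA (K p 𝔞) P') ψ h)
  have hω : ∀ x, ω x = (BB (K p 𝔞) (K p 𝔟) P').mkQ ⟨ψ x, h x⟩ := fun x => rfl
  have hfix : UU v Vs ω = ω := by
    apply LinearMap.ext_on D.span_range_Vinv
    rintro _ ⟨y, rfl⟩
    rw [UU_apply]
    have e1 : Vs (D.Vinv y) = BC.tmul (WittVector.frobenius :
        WittVector p S →+* WittVector p S) 1 (y : P) := by
      have := hVs.app_smul_Vinv 1 y
      rwa [one_smul] at this
    rw [e1, BC.lift_tmul, one_smul, LinearMap.comp_apply, hω, hω]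
    have e2 := Vinv_compat h2 hp𝔞 D' v hv ⟨ψ y, hψ.mapsTo y y.2⟩ (h y)
    rw [← e2]
    refine congrArg _ (Subtype.ext ?_)
    exact (hψ.comm_Vinv y).symm
  have hJ : ∀ ξ ∈ W4c1extbt610.IV p S ⊔ Ideal.span {(p : WittVector p S)},
      ∀ a : (↥(AA (K p 𝔞) P') ⧸ BB (K p 𝔞) (K p 𝔟) P'), ξ • a = 0 := by
    intro ξ hξ a
    obtain ⟨u, rfl⟩ := Submodule.mkQ_surjective _ a
    rw [← map_smul, mkQ_eq_zero_iff]
    show ξ • (u : P') ∈ _
    refine Submodule.smul_induction_on u.2 ?_ ?_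
    · intro k hk n _
      rw [smul_smul]
      exact Submodule.smul_mem_smul (J_mul_mem_K h2 hp𝔞 hξ hk) Submodule.mem_top
    · intro x y hx hy
      rw [smul_add]
      exact Submodule.add_mem _ hx hy
  have hzero := eq_zero_of_fixed v Vs hnil hJ ω hfix
  intro x
  have hx : ω x = 0 := by rw [hzero]; rfl
  rw [hω, mkQ_eq_zero_iff] at hx
  exact hx

theorem hom_chain (D : W4c1extbt610.Display3n p S P) (D' : W4c1extbt610.Display3n p S P')
    (Vs : P →ₗ[WittVector p S] BC (WittVector.frobenius :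
      WittVector p S →+* WittVector p S) P)
    (hVs : IsVSharp D Vs) (hnil : IsVNilpotent Vs)
    (ψ : P →ₗ[WittVector p S] P') (hψ : W4c1extbt610.IsHom D D' ψ)
    (𝔞 : ℕ → Ideal S) (h2 : ∀ i, 𝔞 i * 𝔞 i ≤ 𝔞 (i + 1))
    (hp𝔞 : ∀ i, ∀ a ∈ 𝔞 i, (p : S) * a ∈ 𝔞 (i + 1))
    (h0 : ∀ x, ψ x ∈ K p (𝔞 0) • (⊤ : Submodule (WittVector p S) P')) (i : ℕ) :
    ∀ x, ψ x ∈ K p (𝔞 i) • (⊤ : Submodule (WittVector p S) P') := by
  induction i with
  | zero => exact h0
  | succ i ih => exact hom_step (h2 i) (hp𝔞 i) D D' Vs hVs hnil ψ hψ ih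

theorem chain_sq {𝔠 𝔫 : Ideal S} (h𝔠 : 𝔠 ≤ 𝔫) (i : ℕ) :
    (𝔠 * 𝔫 ^ i) * (𝔠 * 𝔫 ^ i) ≤ 𝔠 * 𝔫 ^ (i + 1) := by
  calc (𝔠 * 𝔫 ^ i) * (𝔠 * 𝔫 ^ i) ≤ (𝔠 * 𝔫 ^ i) * 𝔠 := Ideal.mul_mono_right Ideal.mul_le_left
    _ ≤ (𝔠 * 𝔫 ^ i) * 𝔫 := Ideal.mul_mono_right h𝔠
    _ = 𝔠 * 𝔫 ^ (i + 1) := by rw [pow_succ, mul_assoc]

theorem chain_p {𝔠 𝔫 : Ideal S} (hpn : (p : S) ∈ 𝔫) (i : ℕ) :
    ∀ a ∈ 𝔠 * 𝔫 ^ i, (p : S) * a ∈ 𝔠 * 𝔫 ^ (i + 1) := by
  intro a ha
  rw [pow_succ, ← mul_assoc, mul_comm (p : S) a]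
  exact Ideal.mul_mem_mul ha hpn

/-- A homomorphism from a display with values in `W(𝔠) P'`, `𝔠` inside a nilpotent ideal
containing `p`, vanishes. -/
theorem hom_eq_zero (D : W4c1extbt610.Display3n p S P) (D' : W4c1extbt610.Display3n p S P')
    (hD : IsDisplay D) (ψ : P →ₗ[WittVector p S] P') (hψ : W4c1extbt610.IsHom D D' ψ)
    (𝔠 𝔫 : Ideal S) (h𝔠 : 𝔠 ≤ 𝔫) (hpn : (p : S) ∈ 𝔫) (N : ℕ) (hN : 𝔫 ^ N = ⊥)
    (h0 : ∀ x, ψ x ∈ K p 𝔠 • (⊤ : Submodule (WittVector p S) P')) : ψ = 0 := by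
  obtain ⟨Vs, hVs, hnil⟩ := hD
  have h0' : ∀ x, ψ x ∈ K p ((fun i => 𝔠 * 𝔫 ^ i) 0) •
      (⊤ : Submodule (WittVector p S) P') := by
    intro x
    show ψ x ∈ K p (𝔠 * 𝔫 ^ 0) • (⊤ : Submodule (WittVector p S) P')
    rw [pow_zero, mul_one]
    exact h0 x
  have key := hom_chain D D' Vs hVs hnil ψ hψ (fun i => 𝔠 * 𝔫 ^ i) (chain_sq h𝔠)
    (chain_p hpn) h0' N
  apply LinearMap.ext
  intro x
  have h1 : ψ x ∈ K p (𝔠 * 𝔫 ^ N) • (⊤ : Submodule (WittVector p S) P') := key x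
  rw [hN, Ideal.mul_bot, K_bot, Submodule.bot_smul, Submodule.mem_bot] at h1
  rw [h1, LinearMap.zero_apply]

theorem p_pow_mul_eq_zero (𝔠 𝔫 : Ideal S) (h𝔠 : 𝔠 ≤ 𝔫) (hpn : (p : S) ∈ 𝔫) (N : ℕ)
    (hN : 𝔫 ^ N = ⊥) {x : WittVector p S} (hx : x ∈ K p 𝔠) :
    (p : WittVector p S) ^ N * x = 0 := by
  have key : ∀ i : ℕ, (p : WittVector p S) ^ i * x ∈ K p (𝔠 * 𝔫 ^ i) := by
    intro i
    induction i with
    | zero =>
      have e : (p : WittVector p S) ^ 0 * x = x := by rw [pow_zero, one_mul]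
      have e' : 𝔠 * 𝔫 ^ 0 = 𝔠 := by rw [pow_zero, mul_one]
      rw [e, e']
      exact hx
    | succ i ih =>
      have e : (p : WittVector p S) ^ (i + 1) * x =
          (p : WittVector p S) * ((p : WittVector p S) ^ i * x) := by
        rw [pow_succ', mul_assoc]
      rw [e]
      exact p_mul_mem_K (chain_sq h𝔠 i) (chain_p hpn i) ih
  have h1 := key N
  rw [hN, Ideal.mul_bot, K_bot, Ideal.mem_bot] at h1
  exact h1

theorem p_pow_smul_eq_zero (𝔠 𝔫 : Ideal S) (h𝔠 : 𝔠 ≤ 𝔫) (hpn : (p : S) ∈ 𝔫) (N : ℕ)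
    (hN : 𝔫 ^ N = ⊥) {z : P'} (hz : z ∈ K p 𝔠 • (⊤ : Submodule (WittVector p S) P')) :
    ((p : WittVector p S) ^ N) • z = 0 := by
  refine Submodule.smul_induction_on hz ?_ ?_
  · intro k hk n _
    rw [smul_smul, p_pow_mul_eq_zero 𝔠 𝔫 h𝔠 hpn N hN hk, zero_smul]
  · intro x y hx hy
    rw [smul_add, hx, hy, add_zero]

theorem exists_nilp (hpn : IsNilpotent (p : S)) {𝔠 : Ideal S} (h𝔠 : IsNilpotent 𝔠) :
    ∃ N : ℕ, (𝔠 ⊔ Ideal.span {(p : S)}) ^ N = ⊥ := by
  obtain ⟨m, hm⟩ := h𝔠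
  obtain ⟨k, hk⟩ := hpn
  refine ⟨m + k, le_bot_iff.mp (Ideal.sup_pow_add_le_pow_sup_pow.trans ?_)⟩
  rw [hm, Ideal.span_singleton_pow, hk, Ideal.span_singleton_eq_bot.mpr rfl, Ideal.zero_eq_bot,
    sup_bot_eq]

/-- `p`-torsion in `W(S)` lies in `W(nilradical)` when `p` is nilpotent in `S`. -/
theorem mem_K_nilradical_of_p_mul (hpn : IsNilpotent (p : S)) (c : WittVector p S)
    (h : (p : WittVector p S) * c = 0) : c ∈ K p (nilradical S) := by
  haveI hred : IsReduced (S ⧸ nilradical S) :=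
    (Ideal.isRadical_iff_quotient_reduced (nilradical S)).mp (Ideal.radical_isRadical _)
  have hp0 : ((p : ℕ) : S ⧸ nilradical S) = 0 := by
    have h1 : (p : S) ∈ nilradical S := mem_nilradical.mpr hpn
    rw [← map_natCast (Ideal.Quotient.mk (nilradical S))]
    exact Ideal.Quotient.eq_zero_iff_mem.mpr h1
  show c ∈ RingHom.ker (WittVector.map (Ideal.Quotient.mk (nilradical S)))
  rw [RingHom.mem_ker]
  have h' : (p : WittVector p (S ⧸ nilradical S)) *
      WittVector.map (Ideal.Quotient.mk (nilradical S)) c = 0 := by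
    have := congrArg (WittVector.map (Ideal.Quotient.mk (nilradical S))) h
    rwa [map_mul, map_natCast, map_zero] at this
  rcases subsingleton_or_nontrivial (S ⧸ nilradical S) with hs | hs
  · ext n
    exact Subsingleton.elim _ _
  · haveI : CharP (S ⧸ nilradical S) p := (CharP.charP_iff_prime_eq_zero hp.out).mpr hp0
    have h2 : verschiebung (frobenius
        (WittVector.map (Ideal.Quotient.mk (nilradical S)) c)) = 0 := by
      rw [WittVector.verschiebung_frobenius, mul_comm]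
      exact h'
    have h3 : frobenius (WittVector.map (Ideal.Quotient.mk (nilradical S)) c) = 0 := by
      apply WittVector.verschiebung_injective p (S ⧸ nilradical S)
      rw [h2, map_zero]
    ext n
    have h4 : (frobenius (WittVector.map (Ideal.Quotient.mk (nilradical S)) c)).coeff n = 0 := by
      rw [h3, WittVector.zero_coeff]
    rw [WittVector.coeff_frobenius_charP] at h4
    rw [WittVector.zero_coeff]
    exact IsReduced.eq_zero _ ⟨p, h4⟩

/-- A `p`-torsion homomorphism of displays has values in `W(nilradical) P'`. -/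
theorem mem_of_p_smul_eq_zero (hpn : IsNilpotent (p : S))
    [Module.Finite (WittVector p S) P'] [Module.Projective (WittVector p S) P']
    (ψ : P →ₗ[WittVector p S] P') (h : (p : WittVector p S) • ψ = 0) (x : P) :
    ψ x ∈ K p (nilradical S) • (⊤ : Submodule (WittVector p S) P') := by
  classical
  obtain ⟨r, ρ, i, _, _, hρi⟩ :=
    Module.Finite.exists_comp_eq_id_of_projective (WittVector p S) P'
  have hx : ∀ x : P', x = ∑ j, i x j • ρ (fun j' => if j = j' then 1 else 0) := by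
    intro x
    have h1 := LinearMap.congr_fun hρi x
    rw [LinearMap.comp_apply, LinearMap.id_apply, LinearMap.pi_apply_eq_sum_univ ρ (i x)] at h1
    exact h1.symm
  have h1 : (p : WittVector p S) • ψ x = 0 := by
    rw [← LinearMap.smul_apply, h, LinearMap.zero_apply]
  rw [hx (ψ x)]
  refine Submodule.sum_mem _ (fun j _ => Submodule.smul_mem_smul ?_ Submodule.mem_top)
  apply mem_K_nilradical_of_p_mul hpn
  have h2 : i ((p : WittVector p S) • ψ x) j = 0 := by rw [h1, map_zero]; rfl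
  rw [map_smul, Pi.smul_apply, smul_eq_mul] at h2
  exact h2

end disp

end H10HI
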