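import Mathlib
import Groth.Prelude.Def_Disp2
import Groth.Agent.Lib.Helper10.DispHomInj
import Groth.Agent.Lib.Helper10.DispBC
import Groth.Agent.Lib.Helper10.BCRank

/-!
# Existence and uniqueness of the base change of a 3n-display
-/

set_option autoImplicit false
universe u v w u' v'

namespace H10BE

open WittVector Dieu H10Adic H10WI H10Disp H10HI

section general

variable {A : Type u} {B : Type v} [CommRing A] [CommRing B] (g : A →+* B)
variable {P : Type w} [AddCommGroup P] [Module A P]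
variable {P' : Type w} [AddCommGroup P'] [Module A P']
variable {P'' : Type w} [AddCommGroup P''] [Module A P'']

theorem semilinear_ext {N : Type*} [AddCommGroup N] [Module B N] (τ : B →+* B)
    (φ₁ φ₂ : BC g P →ₛₗ[τ] N)
    (h : ∀ (b : B) (x : P), φ₁ (BC.tmul g b x) = φ₂ (BC.tmul g b x)) (z : BC g P) :
    φ₁ z = φ₂ z := by
  induction z using BC.induction_on g with
  | zero => rw [map_zero, map_zero]
  | tmul b x => exact h b x
  | add z₁ z₂ h1 h2 => rw [map_add, map_add, h1, h2]

theorem map_map (ψ : P' →ₗ[A] P'') (φ : P →ₗ[A] P') (z : BC g P) :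
    BC.map g ψ (BC.map g φ z) = BC.map g (ψ ∘ₗ φ) z := by
  induction z using BC.induction_on g with
  | zero => simp only [map_zero]
  | tmul b x => rw [BC.map_tmul, BC.map_tmul, BC.map_tmul, LinearMap.comp_apply]
  | add z₁ z₂ h1 h2 => simp only [map_add, h1, h2]

theorem map_zero_apply (z : BC g P) : BC.map g (0 : P →ₗ[A] P') z = 0 := by
  induction z using BC.induction_on g with
  | zero => simp only [map_zero]
  | tmul b x => rw [BC.map_tmul, LinearMap.zero_apply, BC.tmul_zero]
  | add z₁ z₂ h1 h2 => rw [map_add, h1, h2, add_zero]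

theorem map_add_apply (φ ψ : P →ₗ[A] P') (z : BC g P) :
    BC.map g (φ + ψ) z = BC.map g φ z + BC.map g ψ z := by
  induction z using BC.induction_on g with
  | zero => simp only [map_zero, add_zero]
  | tmul b x => rw [BC.map_tmul, BC.map_tmul, BC.map_tmul, LinearMap.add_apply, BC.tmul_add]
  | add z₁ z₂ h1 h2 =>
    rw [map_add, map_add, map_add, h1, h2]
    abel

theorem map_id_apply (z : BC g P) : BC.map g (LinearMap.id : P →ₗ[A] P) z = z := by
  induction z using BC.induction_on g with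
  | zero => simp only [map_zero]
  | tmul b x => rw [BC.map_tmul, LinearMap.id_apply]
  | add z₁ z₂ h1 h2 => rw [map_add, h1, h2]

section semi

variable (τA : A →+* A) (τB : B →+* B) (hc : τB.comp g = g.comp τA)

/-- `x ↦ 1 ⊗ φ x`. -/
noncomputable def bcSemiAux (φ : P →ₛₗ[τA] P') : P →ₛₗ[τB.comp g] BC g P' where
  toFun x := BC.tmul g 1 (φ x)
  map_add' x y := by rw [map_add, BC.tmul_add]
  map_smul' a x := by
    rw [map_smulₛₗ]
    have h1 : BC.tmul g 1 (τA a • φ x) = g (τA a) • BC.tmul g 1 (φ x) :=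
      (BC.ι g P').map_smulₛₗ (τA a) (φ x)
    rw [h1]
    congr 1
    exact (RingHom.congr_fun hc a).symm

/-- The `τB`-semilinear extension `w ⊗ x ↦ τB w ⊗ φ x` of a `τA`-semilinear map. -/
noncomputable def bcSemi (φ : P →ₛₗ[τA] P') : BC g P →ₛₗ[τB] BC g P' :=
  (BC.lift (τB.comp g) (bcSemiAux g τA τB hc φ)).comp (BC.push g τB)

theorem bcSemi_tmul (φ : P →ₛₗ[τA] P') (w : B) (x : P) :
    bcSemi g τA τB hc φ (BC.tmul g w x) = BC.tmul g (τB w) (φ x) := by
  show BC.lift (τB.comp g) (bcSemiAux g τA τB hc φ) (BC.push g τB (BC.tmul g w x)) = _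
  rw [BC.push_tmul, BC.lift_tmul]
  show τB w • BC.tmul g 1 (φ x) = _
  rw [BC.smul_tmul, mul_one]

end semi

section push

variable {C : Type v'} [CommRing C] (h : B →+* C)

/-- `x ↦ 1 ⊗ (1 ⊗ x)`. -/
noncomputable def transAux : P →ₛₗ[h.comp g] BC h (BC g P) where
  toFun x := BC.tmul h 1 (BC.tmul g 1 x)
  map_add' x y := by rw [BC.tmul_add, BC.tmul_add]
  map_smul' a x := by
    have h1 : BC.tmul g 1 (a • x) = g a • BC.tmul g 1 x := (BC.ι g P).map_smulₛₗ a x
    have h2 : BC.tmul h 1 (g a • BC.tmul g 1 x) = h (g a) • BC.tmul h 1 (BC.tmul g 1 x) :=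
      (BC.ι h (BC g P)).map_smulₛₗ (g a) (BC.tmul g 1 x)
    rw [h1, h2]
    rfl

theorem trans_push (z : BC g P) :
    BC.lift (h.comp g) (transAux g h) (BC.push g h z) = BC.tmul h 1 z := by
  induction z using BC.induction_on g with
  | zero => rw [map_zero, map_zero, BC.tmul_zero]
  | tmul b x =>
    rw [BC.push_tmul, BC.lift_tmul]
    show h b • BC.tmul h 1 (BC.tmul g 1 x) = _
    rw [BC.smul_tmul, mul_one, BC.tmul_apply_eq, BC.smul_tmul, mul_one]
  | add z₁ z₂ h1 h2 => rw [map_add, map_add, h1, h2, BC.tmul_add]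

theorem mem_of_push_eq_zero (hh : Function.Surjective h) (z : BC g P)
    (hz : BC.push g h z = 0) : z ∈ RingHom.ker h • (⊤ : Submodule B (BC g P)) := by
  apply mem_of_tmul_one_eq_zero h hh
  rw [← trans_push, hz, map_zero]

end push

end general

section div

variable {W : Type u} [CommRing W]

theorem exists_div (σ : W →+* W) (I : Ideal W) (τ : W → W)
    (hadd : ∀ a ∈ I, ∀ b ∈ I, τ (a + b) = τ a + τ b)
    (hmul : ∀ (ξ : W), ∀ a ∈ I, τ (ξ * a) = σ ξ * τ a)
    {M : Type v} {N : Type w} [AddCommGroup M] [Module W M] [AddCommGroup N] [Module W N]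
    [Module.Finite W M] [Module.Projective W M] (Fm : M →ₛₗ[σ] N) :
    ∃ d : ↥(I • (⊤ : Submodule W M)) →ₛₗ[σ] N,
      ∀ (a : W) (ha : a ∈ I) (x : M),
        d ⟨a • x, Submodule.smul_mem_smul ha Submodule.mem_top⟩ = τ a • Fm x := by
  classical
  obtain ⟨r, ρ, i, _, _, hρi⟩ := Module.Finite.exists_comp_eq_id_of_projective W M
  have hx : ∀ x : M, x = ∑ j, i x j • ρ (fun j' => if j = j' then 1 else 0) := by
    intro x
    have h1 := LinearMap.congr_fun hρi x
    rw [LinearMap.comp_apply, LinearMap.id_apply, LinearMap.pi_apply_eq_sum_univ ρ (i x)] at h1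
    exact h1.symm
  have hiI : ∀ z : M, z ∈ I • (⊤ : Submodule W M) → ∀ j, i z j ∈ I := fun z hz j =>
    (mem_smul_top_pi I (i z)).mp (map_mem_smul_top I i hz) j
  let d : ↥(I • (⊤ : Submodule W M)) →ₛₗ[σ] N :=
    { toFun := fun z => ∑ j, τ (i (z : M) j) • Fm (ρ (fun j' => if j = j' then 1 else 0))
      map_add' := by
        intro z z'
        show ∑ j, τ (i ((z : M) + (z' : M)) j) • Fm (ρ (fun j' => if j = j' then 1 else 0)) =
          ∑ j, τ (i (z : M) j) • Fm (ρ (fun j' => if j = j' then 1 else 0)) +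
          ∑ j, τ (i (z' : M) j) • Fm (ρ (fun j' => if j = j' then 1 else 0))
        rw [← Finset.sum_add_distrib]
        refine Finset.sum_congr rfl (fun j _ => ?_)
        rw [map_add, Pi.add_apply, hadd _ (hiI z z.2 j) _ (hiI z' z'.2 j), add_smul]
      map_smul' := by
        intro ξ z
        show ∑ j, τ (i (ξ • (z : M)) j) • Fm (ρ (fun j' => if j = j' then 1 else 0)) =
          σ ξ • ∑ j, τ (i (z : M) j) • Fm (ρ (fun j' => if j = j' then 1 else 0))
        rw [Finset.smul_sum]
        refine Finset.sum_congr rfl (fun j _ => ?_)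
        rw [map_smul, Pi.smul_apply, smul_eq_mul, hmul ξ _ (hiI z z.2 j), mul_smul] }
  refine ⟨d, fun a ha x => ?_⟩
  show ∑ j, τ (i (a • x) j) • Fm (ρ (fun j' => if j = j' then 1 else 0)) = τ a • Fm x
  have h1 : Fm x = ∑ j, σ (i x j) • Fm (ρ (fun j' => if j = j' then 1 else 0)) := by
    conv_lhs => rw [hx x]
    rw [map_sum]
    exact Finset.sum_congr rfl (fun j _ => map_smulₛₗ Fm _ _)
  rw [h1, Finset.smul_sum]
  refine Finset.sum_congr rfl (fun j _ => ?_)
  rw [map_smul, Pi.smul_apply, smul_eq_mul, mul_comm a (i x j), hmul (i x j) a ha, mul_comm,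
    mul_smul]

end div

section witt

variable {p : ℕ} [hp : Fact p.Prime] {R : Type u} [CommRing R]

theorem tau_add_IV {a b : WittVector p R} (ha : a ∈ W4c1extbt610.IV p R)
    (hb : b ∈ W4c1extbt610.IV p R) : tau (a + b) = tau a + tau b := by
  rw [H10Disp.IV_eq_II] at ha hb
  obtain ⟨w, rfl⟩ := H10Witt.exists_verschiebung_of_mem ha
  obtain ⟨w', rfl⟩ := H10Witt.exists_verschiebung_of_mem hb
  rw [← map_add, tau_verschiebung, tau_verschiebung, tau_verschiebung]

theorem tau_mul_IV (ξ : WittVector p R) {a : WittVector p R} (ha : a ∈ W4c1extbt610.IV p R) :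
    tau (ξ * a) = frobenius ξ * tau a := by
  rw [H10Disp.IV_eq_II] at ha
  obtain ⟨w, rfl⟩ := H10Witt.exists_verschiebung_of_mem ha
  rw [mul_comm, ← WittVector.verschiebung_mul_frobenius, tau_verschiebung, tau_verschiebung,
    mul_comm]

theorem display3n_ext {M : Type v} [AddCommGroup M] [Module (WittVector p R) M]
    (D₁ D₂ : W4c1extbt610.Display3n p R M) (hQ : D₁.Q = D₂.Q) (hF : D₁.F = D₂.F)
    (hV : ∀ (y : M) (h₁ : y ∈ D₁.Q) (h₂ : y ∈ D₂.Q), D₁.Vinv ⟨y, h₁⟩ = D₂.Vinv ⟨y, h₂⟩) :
    D₁ = D₂ := by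
  obtain ⟨Q₁, F₁, V₁, a1, a2, a3, a4, a5, a6⟩ := D₁
  obtain ⟨Q₂, F₂, V₂, b1, b2, b3, b4, b5, b6⟩ := D₂
  have hQ' : Q₁ = Q₂ := hQ
  subst hQ'
  have hF' : F₁ = F₂ := hF
  subst hF'
  have hVe : V₁ = V₂ := LinearMap.ext (fun y => hV y.1 y.2 y.2)
  subst hVe
  rfl

end witt

section construct

variable {p : ℕ} [hp : Fact p.Prime] {S R : Type u} [CommRing S] [CommRing R] (f : S →+* R)
variable {P : Type v} [AddCommGroup P] [Module (WittVector p S) P]
variable (D : W4c1extbt610.Display3n p S P) (L T : Submodule (WittVector p S) P)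
  (hLT : IsCompl L T) (hQ : D.Q = L ⊔ W4c1extbt610.IV p S • T)

local notation "gg" => (WittVector.map f : WittVector p S →+* WittVector p R)
local notation "σS" => (WittVector.frobenius : WittVector p S →+* WittVector p S)
local notation "σR" => (WittVector.frobenius : WittVector p R →+* WittVector p R)
local notation "cC" => (WittVector.constantCoeff : WittVector p R →+* R)

include hQ in
theorem L_le_Q : L ≤ D.Q := hQ ▸ le_sup_left

include hQ in
theorem prL_mem_Q (x : P) : L.projection T hLT x ∈ D.Q :=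
  L_le_Q D L T hQ (Submodule.projection_apply_mem hLT x)

include hQ in
theorem prT_mem_IV (y : P) (hy : y ∈ D.Q) : T.projection L hLT.symm y ∈
    W4c1extbt610.IV p S • (⊤ : Submodule (WittVector p S) P) := by
  rw [hQ] at hy
  obtain ⟨l, hl, s, hs, rfl⟩ := Submodule.mem_sup.mp hy
  rw [map_add, (Submodule.projection_apply_eq_zero_iff hLT.symm).mpr hl, zero_add]
  exact map_mem_smul_top _ _ (Submodule.smul_mono le_rfl le_top hs)

theorem prT_prL (x : P) : T.projection L hLT.symm (L.projection T hLT x) = 0 :=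
  (Submodule.projection_apply_eq_zero_iff hLT.symm).mpr (Submodule.projection_apply_mem hLT x)

theorem prL_prT (x : P) : L.projection T hLT (T.projection L hLT.symm x) = 0 :=
  (Submodule.projection_apply_eq_zero_iff hLT).mpr (Submodule.projection_apply_mem hLT.symm x)

theorem prL_of_mem {l : P} (hl : l ∈ L) : L.projection T hLT l = l :=
  (Submodule.projection_eq_self_iff hLT l).mpr hl

theorem prT_of_mem_L {l : P} (hl : l ∈ L) : T.projection L hLT.symm l = 0 :=
  (Submodule.projection_apply_eq_zero_iff hLT.symm).mpr hl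

theorem piL_add_piT (z : BC gg P) :
    BC.map gg (L.projection T hLT) z + BC.map gg (T.projection L hLT.symm) z = z := by
  rw [← map_add_apply, Submodule.projection_add_projection_eq_id hLT, map_id_apply]

theorem piT_piL (z : BC gg P) :
    BC.map gg (T.projection L hLT.symm) (BC.map gg (L.projection T hLT) z) = 0 := by
  rw [map_map]
  have h0 : (T.projection L hLT.symm) ∘ₗ (L.projection T hLT) = 0 :=
    LinearMap.ext (fun x => prT_prL L T hLT x)
  rw [h0, map_zero_apply]

theorem piL_piT (z : BC gg P) :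
    BC.map gg (L.projection T hLT) (BC.map gg (T.projection L hLT.symm) z) = 0 := by
  rw [map_map]
  have h0 : (L.projection T hLT) ∘ₗ (T.projection L hLT.symm) = 0 :=
    LinearMap.ext (fun x => prL_prT L T hLT x)
  rw [h0, map_zero_apply]

/-- `Φ = V⁻¹ ∘ pr_L + F ∘ pr_T`. -/
noncomputable def PhiS : P →ₛₗ[σS] P :=
  D.Vinv.comp (LinearMap.codRestrict D.Q (L.projection T hLT) (prL_mem_Q D L T hLT hQ)) +
    D.F.comp (T.projection L hLT.symm)

theorem PhiS_apply (x : P) :
    PhiS D L T hLT hQ x = D.Vinv ⟨L.projection T hLT x, prL_mem_Q D L T hLT hQ x⟩ +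
      D.F (T.projection L hLT.symm x) := rfl

theorem PhiS_of_mem {l : P} (hl : l ∈ L) :
    PhiS D L T hLT hQ l = D.Vinv ⟨l, L_le_Q D L T hQ hl⟩ := by
  rw [PhiS_apply, prT_of_mem_L L T hLT hl, map_zero, add_zero]
  exact congrArg D.Vinv (Subtype.ext (prL_of_mem L T hLT hl))

noncomputable def PhiR : BC gg P →ₛₗ[σR] BC gg P :=
  bcSemi gg σS σR (hc_one f) (PhiS D L T hLT hQ)

noncomputable def FR : BC gg P →ₛₗ[σR] BC gg P :=
  bcSemi gg σS σR (hc_one f) D.F

theorem PhiR_tmul (w : WittVector p R) (x : P) :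
    PhiR f D L T hLT hQ (BC.tmul gg w x) = BC.tmul gg (frobenius w) (PhiS D L T hLT hQ x) :=
  bcSemi_tmul gg σS σR (hc_one f) _ w x

theorem FR_tmul (w : WittVector p R) (x : P) :
    FR f D (BC.tmul gg w x) = BC.tmul gg (frobenius w) (D.F x) :=
  bcSemi_tmul gg σS σR (hc_one f) _ w x

noncomputable def QR : Submodule (WittVector p R) (BC gg P) :=
  LinearMap.ker (bcQuotMap f D.Q)

theorem mem_QR (y : BC gg P) : y ∈ QR f D ↔ bcQuotMap f D.Q y = 0 := LinearMap.mem_ker

theorem tmul_mem_QR (w : WittVector p R) (q : P) (hq : q ∈ D.Q) : BC.tmul gg w q ∈ QR f D := by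
  rw [mem_QR, bcQuotMap_tmul]
  have h0 : D.Q.mkQ q = 0 := (Submodule.Quotient.mk_eq_zero _).mpr hq
  rw [h0, BC.tmul_zero]

theorem IV_smul_le_QR :
    W4c1extbt610.IV p R • (⊤ : Submodule (WittVector p R) (BC gg P)) ≤ QR f D := by
  rw [Submodule.smul_le]
  intro r hr n _
  rw [mem_QR, map_smulₛₗ]
  have h0 : WittVector.constantCoeff r = 0 := by
    rw [H10Disp.IV_eq_II] at hr
    exact hr
  rw [h0, zero_smul]

include hQ in
theorem piT_mem (y : BC gg P) (hy : y ∈ QR f D) :
    BC.map gg (T.projection L hLT.symm) y ∈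
      W4c1extbt610.IV p R • (⊤ : Submodule (WittVector p R) (BC gg P)) := by
  have hIVG : W4c1extbt610.IV p S ≤ RingHom.ker (RingHom.comp cC gg) := by
    rw [W4c1extbt610.IV, Ideal.span_le]
    rintro _ ⟨w, rfl⟩
    show verschiebung w ∈ RingHom.ker (RingHom.comp cC gg)
    rw [RingHom.mem_ker, RingHom.comp_apply, WittVector.map_verschiebung,
      WittVector.constantCoeff_apply, WittVector.verschiebung_coeff_zero]
  have hker : D.Q ≤ LinearMap.ker
      ((BC.ι (RingHom.comp cC gg) P).comp (T.projection L hLT.symm)) := by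
    intro q hq
    rw [LinearMap.mem_ker, LinearMap.comp_apply, BC.ι_apply]
    exact tmul_eq_zero_of_mem _ 1 _
      (Submodule.smul_mono_left hIVG (prT_mem_IV D L T hLT hQ q hq))
  have hΛ : ∀ z : BC gg P,
      BC.lift (RingHom.comp cC gg)
        (D.Q.liftQ ((BC.ι (RingHom.comp cC gg) P).comp (T.projection L hLT.symm)) hker)
        (bcQuotMap f D.Q z) =
      BC.push gg cC (BC.map gg (T.projection L hLT.symm) z) := by
    intro z
    induction z using BC.induction_on gg with
    | zero => simp only [map_zero]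
    | tmul w x =>
      rw [bcQuotMap_tmul, BC.lift_tmul, BC.map_tmul, BC.push_tmul]
      show cC w • (D.Q.liftQ _ hker) (Submodule.Quotient.mk x) = _
      rw [Submodule.liftQ_apply, LinearMap.comp_apply, BC.ι_apply, BC.smul_tmul, mul_one]
    | add z₁ z₂ h1 h2 => simp only [map_add, h1, h2]
  have h0 : BC.push gg cC (BC.map gg (T.projection L hLT.symm) y) = 0 := by
    rw [← hΛ, (mem_QR f D y).mp hy, map_zero]
  have hsurj : Function.Surjective cC := fun r =>
    ⟨teichmuller p r, teichmuller_coeff_zero p r⟩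
  have h1 := mem_of_push_eq_zero gg cC hsurj _ h0
  rw [H10Disp.IV_eq_II]
  exact h1

/-- The operator `V⁻¹` of the base change. -/
noncomputable def VinvR
    (d : ↥(W4c1extbt610.IV p R • (⊤ : Submodule (WittVector p R) (BC gg P))) →ₛₗ[σR] BC gg P) :
    ↥(QR f D) →ₛₗ[σR] BC gg P :=
  (PhiR f D L T hLT hQ).comp ((BC.map gg (L.projection T hLT)).comp (QR f D).subtype) +
    d.comp (LinearMap.codRestrict _
      ((BC.map gg (T.projection L hLT.symm)).comp (QR f D).subtype)
      (fun y => piT_mem f D L T hLT hQ y.1 y.2))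

theorem VinvR_apply
    (d : ↥(W4c1extbt610.IV p R • (⊤ : Submodule (WittVector p R) (BC gg P))) →ₛₗ[σR] BC gg P)
    (y : BC gg P) (hy : y ∈ QR f D) :
    VinvR f D L T hLT hQ d ⟨y, hy⟩ =
      PhiR f D L T hLT hQ (BC.map gg (L.projection T hLT) y) +
        d ⟨BC.map gg (T.projection L hLT.symm) y, piT_mem f D L T hLT hQ y hy⟩ := rfl

theorem p_smul_PhiR_piL (z : BC gg P) :
    (p : WittVector p R) • PhiR f D L T hLT hQ (BC.map gg (L.projection T hLT) z) =
      FR f D (BC.map gg (L.projection T hLT) z) := by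
  induction z using BC.induction_on gg with
  | zero => simp only [map_zero, smul_zero]
  | tmul b x =>
    have e : D.F (L.projection T hLT x) = (p : WittVector p S) •
        D.Vinv ⟨L.projection T hLT x, L_le_Q D L T hQ (Submodule.projection_apply_mem hLT x)⟩ :=
      F_eq_p_smul_Vinv D ⟨_, _⟩
    rw [BC.map_tmul, PhiR_tmul, FR_tmul,
      PhiS_of_mem D L T hLT hQ (Submodule.projection_apply_mem hLT x), BC.smul_tmul, e,
      ← BC.tmul_mul_apply, map_natCast, mul_comm]
  | add z₁ z₂ h1 h2 => simp only [map_add, smul_add, h1, h2]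

section withd

variable
  (d : ↥(W4c1extbt610.IV p R • (⊤ : Submodule (WittVector p R)
    (BC (WittVector.map f : WittVector p S →+* WittVector p R) P))) →ₛₗ[(WittVector.frobenius :
      WittVector p R →+* WittVector p R)]
    BC (WittVector.map f : WittVector p S →+* WittVector p R) P)
  (hd : ∀ (a : WittVector p R) (ha : a ∈ W4c1extbt610.IV p R)
    (x : BC (WittVector.map f : WittVector p S →+* WittVector p R) P),
    d ⟨a • x, Submodule.smul_mem_smul ha Submodule.mem_top⟩ = tau a • FR f D x)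

include hd in
theorem VinvR_verschiebung_smul (w : WittVector p R) (z : BC gg P)
    (h : verschiebung w • z ∈ QR f D) :
    VinvR f D L T hLT hQ d ⟨verschiebung w • z, h⟩ = w • FR f D z := by
  rw [VinvR_apply]
  have e1 : (⟨BC.map gg (T.projection L hLT.symm) (verschiebung w • z),
        piT_mem f D L T hLT hQ _ h⟩ :
        ↥(W4c1extbt610.IV p R • (⊤ : Submodule (WittVector p R) (BC gg P)))) =
      ⟨verschiebung w • BC.map gg (T.projection L hLT.symm) z,
        Submodule.smul_mem_smul (W4c1extbt610.verschiebung_mem_IV p R w) Submodule.mem_top⟩ :=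
    Subtype.ext (map_smul _ _ _)
  rw [e1, hd _ (W4c1extbt610.verschiebung_mem_IV p R w), tau_verschiebung, map_smul,
    map_smulₛₗ, WittVector.frobenius_verschiebung,
    mul_smul, p_smul_PhiR_piL, ← smul_add, ← map_add, piL_add_piT]

include hd in
theorem VinvR_verschiebung_tmul (w : WittVector p R) (x : P)
    (h : BC.tmul gg (verschiebung w) x ∈ QR f D) :
    VinvR f D L T hLT hQ d ⟨BC.tmul gg (verschiebung w) x, h⟩ = BC.tmul gg w (D.F x) := by
  have e : BC.tmul gg (verschiebung w) x = verschiebung w • BC.tmul gg 1 x :=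
    BC.tmul_eq_smul_tmul_one gg _ x
  have h' : verschiebung w • BC.tmul gg 1 x ∈ QR f D := e ▸ h
  have e2 : (⟨BC.tmul gg (verschiebung w) x, h⟩ : ↥(QR f D)) =
      ⟨verschiebung w • BC.tmul gg 1 x, h'⟩ := Subtype.ext e
  rw [e2, VinvR_verschiebung_smul f D L T hLT hQ d hd w _ h', FR_tmul, map_one, BC.smul_tmul,
    mul_one]

include hd in
theorem VinvR_tmul_IV (t : P)
    (ht : t ∈ W4c1extbt610.IV p S • (⊤ : Submodule (WittVector p S) P)) :
    ∀ (w : WittVector p R) (h : BC.tmul gg w t ∈ QR f D),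
      VinvR f D L T hLT hQ d ⟨BC.tmul gg w t, h⟩ =
        BC.tmul gg (frobenius w) (D.Vinv ⟨t, D.IV_smul_le ht⟩) := by
  refine Submodule.smul_induction_on' (p := fun t ht => ∀ (w : WittVector p R)
      (h : BC.tmul gg w t ∈ QR f D),
      VinvR f D L T hLT hQ d ⟨BC.tmul gg w t, h⟩ =
        BC.tmul gg (frobenius w) (D.Vinv ⟨t, D.IV_smul_le ht⟩)) ht ?_ ?_
  · intro r hr n hn w h
    rw [H10Disp.IV_eq_II] at hr
    obtain ⟨c, rfl⟩ := H10Witt.exists_verschiebung_of_mem hr
    have e : BC.tmul gg w (verschiebung c • n) =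
        BC.tmul gg (verschiebung (WittVector.map f c * frobenius w)) n := by
      rw [← BC.tmul_mul_apply, WittVector.map_verschiebung,
        WittVector.verschiebung_mul_frobenius, mul_comm]
    have h' : BC.tmul gg (verschiebung (WittVector.map f c * frobenius w)) n ∈ QR f D := e ▸ h
    have e2 : (⟨BC.tmul gg w (verschiebung c • n), h⟩ : ↥(QR f D)) =
        ⟨BC.tmul gg (verschiebung (WittVector.map f c * frobenius w)) n, h'⟩ := Subtype.ext e
    rw [e2, VinvR_verschiebung_tmul f D L T hLT hQ d hd _ n h', D.Vinv_verschiebung_smul,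
      ← BC.tmul_mul_apply, mul_comm]
  · intro x hx y hy ihx ihy w h
    have hx' : BC.tmul gg w x ∈ QR f D := tmul_mem_QR f D w x (D.IV_smul_le hx)
    have hy' : BC.tmul gg w y ∈ QR f D := tmul_mem_QR f D w y (D.IV_smul_le hy)
    have e1 : (⟨BC.tmul gg w (x + y), h⟩ : ↥(QR f D)) = ⟨_, hx'⟩ + ⟨_, hy'⟩ :=
      Subtype.ext (BC.tmul_add gg w x y)
    have e2 : (⟨x + y, D.IV_smul_le (add_mem hx hy)⟩ : D.Q) =
        ⟨x, D.IV_smul_le hx⟩ + ⟨y, D.IV_smul_le hy⟩ := rfl
    rw [e1, map_add, ihx w hx', ihy w hy', e2, map_add, BC.tmul_add]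

theorem VinvR_tmul_L (w : WittVector p R) (l : P) (hl : l ∈ L)
    (h : BC.tmul gg w l ∈ QR f D) :
    VinvR f D L T hLT hQ d ⟨BC.tmul gg w l, h⟩ =
      BC.tmul gg (frobenius w) (D.Vinv ⟨l, L_le_Q D L T hQ hl⟩) := by
  rw [VinvR_apply]
  have e1 : (⟨BC.map gg (T.projection L hLT.symm) (BC.tmul gg w l),
        piT_mem f D L T hLT hQ _ h⟩ :
        ↥(W4c1extbt610.IV p R • (⊤ : Submodule (WittVector p R) (BC gg P)))) = 0 := by
    apply Subtype.ext
    show BC.map gg (T.projection L hLT.symm) (BC.tmul gg w l) = 0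
    rw [BC.map_tmul, prT_of_mem_L L T hLT hl, BC.tmul_zero]
  rw [e1, map_zero, add_zero, BC.map_tmul, prL_of_mem L T hLT hl, PhiR_tmul,
    PhiS_of_mem D L T hLT hQ hl]

include hd in
theorem VinvR_tmul (w : WittVector p R) (y : D.Q) (h : BC.tmul gg w (y : P) ∈ QR f D) :
    VinvR f D L T hLT hQ d ⟨BC.tmul gg w (y : P), h⟩ =
      BC.tmul gg (frobenius w) (D.Vinv y) := by
  have hl : L.projection T hLT (y : P) ∈ L := Submodule.projection_apply_mem hLT _
  have ht : T.projection L hLT.symm (y : P) ∈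
      W4c1extbt610.IV p S • (⊤ : Submodule (WittVector p S) P) :=
    prT_mem_IV D L T hLT hQ y y.2
  have hsum : L.projection T hLT (y : P) + T.projection L hLT.symm (y : P) = y :=
    Submodule.projection_add_projection_eq_self hLT _
  have h1 : BC.tmul gg w (L.projection T hLT (y : P)) ∈ QR f D :=
    tmul_mem_QR f D w _ (L_le_Q D L T hQ hl)
  have h2 : BC.tmul gg w (T.projection L hLT.symm (y : P)) ∈ QR f D :=
    tmul_mem_QR f D w _ (D.IV_smul_le ht)
  have e1 : (⟨BC.tmul gg w (y : P), h⟩ : ↥(QR f D)) = ⟨_, h1⟩ + ⟨_, h2⟩ := by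
    apply Subtype.ext
    show BC.tmul gg w (y : P) = BC.tmul gg w _ + BC.tmul gg w _
    rw [← BC.tmul_add, hsum]
  have e2 : y = ⟨_, L_le_Q D L T hQ hl⟩ + ⟨_, D.IV_smul_le ht⟩ := Subtype.ext hsum.symm
  rw [e1, map_add, VinvR_tmul_L f D L T hLT hQ d w _ hl h1,
    VinvR_tmul_IV f D L T hLT hQ d hd _ ht w h2, ← BC.tmul_add, ← map_add, ← e2]

include hd in
theorem span_range_VinvR :
    Submodule.span (WittVector p R) (Set.range (VinvR f D L T hLT hQ d)) = ⊤ := by
  rw [eq_top_iff]
  have h1 : ∀ x : P, BC.tmul gg 1 x ∈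
      Submodule.span (WittVector p R) (Set.range (VinvR f D L T hLT hQ d)) := by
    intro x
    have hx : x ∈ Submodule.span (WittVector p S) (Set.range D.Vinv) := by
      rw [D.span_range_Vinv]
      exact Submodule.mem_top
    induction hx using Submodule.span_induction with
    | mem x hx =>
      obtain ⟨y, rfl⟩ := hx
      refine Submodule.subset_span ⟨⟨BC.tmul gg 1 (y : P), tmul_mem_QR f D 1 _ y.2⟩, ?_⟩
      rw [VinvR_tmul f D L T hLT hQ d hd 1 y _, map_one]
    | zero =>
      rw [BC.tmul_zero]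
      exact Submodule.zero_mem _
    | add a b _ _ ha hb =>
      rw [BC.tmul_add]
      exact Submodule.add_mem _ ha hb
    | smul c a _ ha =>
      have e : BC.tmul gg 1 (c • a) = WittVector.map f c • BC.tmul gg 1 a :=
        (BC.ι gg P).map_smulₛₗ c a
      rw [e]
      exact Submodule.smul_mem _ _ ha
  intro z _
  induction z using BC.induction_on gg with
  | zero => exact Submodule.zero_mem _
  | tmul b x =>
    rw [BC.tmul_eq_smul_tmul_one]
    exact Submodule.smul_mem _ _ (h1 x)
  | add z₁ z₂ h1' h2' => exact Submodule.add_mem _ (h1' Submodule.mem_top) (h2' Submodule.mem_top)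

end withd

theorem isCompl_range :
    IsCompl (LinearMap.range (BC.map gg (L.projection T hLT)))
      (LinearMap.range (BC.map gg (T.projection L hLT.symm))) := by
  constructor
  · rw [Submodule.disjoint_def]
    rintro x ⟨a, rfl⟩ ⟨b, hb⟩
    have h1 := piL_add_piT f L T hLT (BC.map gg (L.projection T hLT) a)
    rw [piT_piL, add_zero] at h1
    have h2 : BC.map gg (L.projection T hLT) (BC.map gg (L.projection T hLT) a) = 0 := by
      rw [← hb, piL_piT]
    rw [← h1, h2]
  · rw [codisjoint_iff, eq_top_iff]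
    intro x _
    rw [← piL_add_piT f L T hLT x]
    exact Submodule.add_mem_sup (LinearMap.mem_range_self _ _) (LinearMap.mem_range_self _ _)

include hQ in
theorem QR_eq :
    QR f D = LinearMap.range (BC.map gg (L.projection T hLT)) ⊔
      W4c1extbt610.IV p R • LinearMap.range (BC.map gg (T.projection L hLT.symm)) := by
  apply le_antisymm
  · intro y hy
    rw [← piL_add_piT f L T hLT y]
    refine Submodule.add_mem_sup (LinearMap.mem_range_self _ _) ?_
    have h1 := piT_mem f D L T hLT hQ y hy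
    have h2 : BC.map gg (T.projection L hLT.symm) (BC.map gg (T.projection L hLT.symm) y) =
        BC.map gg (T.projection L hLT.symm) y := by
      have h0 := piL_add_piT f L T hLT (BC.map gg (T.projection L hLT.symm) y)
      rwa [piL_piT, zero_add] at h0
    rw [← h2]
    have h3 : BC.map gg (T.projection L hLT.symm) (BC.map gg (T.projection L hLT.symm) y) ∈
        Submodule.map (BC.map gg (T.projection L hLT.symm))
          (W4c1extbt610.IV p R • (⊤ : Submodule (WittVector p R) (BC gg P))) :=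
      Submodule.mem_map_of_mem h1
    rwa [Submodule.map_smul'', Submodule.map_top] at h3
  · refine sup_le ?_ ?_
    · rintro _ ⟨z, rfl⟩
      induction z using BC.induction_on gg with
      | zero =>
        rw [map_zero]
        exact Submodule.zero_mem _
      | tmul b x =>
        rw [BC.map_tmul]
        exact tmul_mem_QR f D b _ (prL_mem_Q D L T hLT hQ x)
      | add z₁ z₂ h1 h2 =>
        rw [map_add]
        exact Submodule.add_mem _ h1 h2
    · exact (Submodule.smul_mono le_rfl le_top).trans (IV_smul_le_QR f D)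

/-- The base change display. -/
noncomputable def mkDR
    (d : ↥(W4c1extbt610.IV p R • (⊤ : Submodule (WittVector p R) (BC gg P))) →ₛₗ[σR] BC gg P)
    (hd : ∀ (a : WittVector p R) (ha : a ∈ W4c1extbt610.IV p R) (x : BC gg P),
      d ⟨a • x, Submodule.smul_mem_smul ha Submodule.mem_top⟩ = tau a • FR f D x) :
    W4c1extbt610.Display3n p R (BC gg P) where
  Q := QR f D
  F := FR f D
  Vinv := VinvR f D L T hLT hQ d
  finite := by
    haveI := D.finite
    exact H10BCR.finite_BC gg P
  projective := by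
    haveI := D.projective
    exact H10BCR.projective_BC gg P
  IV_smul_le := IV_smul_le_QR f D
  exists_normal := ⟨_, _, isCompl_range f L T hLT, QR_eq f D L T hLT hQ⟩
  span_range_Vinv := span_range_VinvR f D L T hLT hQ d hd
  Vinv_verschiebung_smul := fun w x => VinvR_verschiebung_smul f D L T hLT hQ d hd w x _

theorem mkDR_isBC
    (d : ↥(W4c1extbt610.IV p R • (⊤ : Submodule (WittVector p R) (BC gg P))) →ₛₗ[σR] BC gg P)
    (hd : ∀ (a : WittVector p R) (ha : a ∈ W4c1extbt610.IV p R) (x : BC gg P),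
      d ⟨a • x, Submodule.smul_mem_smul ha Submodule.mem_top⟩ = tau a • FR f D x) :
    IsDispBaseChange f D (mkDR f D L T hLT hQ d hd) where
  Q_eq := rfl
  F_tmul := fun w x => FR_tmul f D w x
  Vinv_tmul := fun w y h => VinvR_tmul f D L T hLT hQ d hd w y h
  Vinv_verschiebung_tmul := fun w x h => VinvR_verschiebung_tmul f D L T hLT hQ d hd w x h

include hLT hQ in
theorem Q_induction (motive : BC gg P → Prop)
    (hadd : ∀ a b, motive a → motive b → motive (a + b)) (h0 : motive 0)
    (h1 : ∀ (w : WittVector p R) (y : D.Q), motive (BC.tmul gg w (y : P)))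
    (h2 : ∀ (w : WittVector p R) (x : P), motive (BC.tmul gg (verschiebung w) x))
    (y : BC gg P) (hy : y ∈ QR f D) : motive y := by
  have hL : ∀ z : BC gg P, motive (BC.map gg (L.projection T hLT) z) := by
    intro z
    induction z using BC.induction_on gg with
    | zero => rw [map_zero]; exact h0
    | tmul b x =>
      rw [BC.map_tmul]
      exact h1 b ⟨_, prL_mem_Q D L T hLT hQ x⟩
    | add z₁ z₂ ih1 ih2 => rw [map_add]; exact hadd _ _ ih1 ih2
  have hV : ∀ (w : WittVector p R) (n : BC gg P), motive (verschiebung w • n) := by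
    intro w n
    induction n using BC.induction_on gg with
    | zero => rw [smul_zero]; exact h0
    | tmul b x =>
      rw [BC.smul_tmul, ← WittVector.verschiebung_mul_frobenius]
      exact h2 _ x
    | add z₁ z₂ ih1 ih2 => rw [smul_add]; exact hadd _ _ ih1 ih2
  have hI : ∀ z : BC gg P,
      z ∈ W4c1extbt610.IV p R • (⊤ : Submodule (WittVector p R) (BC gg P)) → motive z := by
    intro z hz
    refine Submodule.smul_induction_on hz ?_ ?_
    · intro r hr n _
      rw [H10Disp.IV_eq_II] at hr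
      obtain ⟨c, rfl⟩ := H10Witt.exists_verschiebung_of_mem hr
      exact hV c n
    · intro a b ha hb
      exact hadd _ _ ha hb
  rw [← piL_add_piT f L T hLT y]
  exact hadd _ _ (hL y) (hI _ (piT_mem f D L T hLT hQ y hy))

end construct

section main

variable {p : ℕ} [hp : Fact p.Prime] {S R : Type u} [CommRing S] [CommRing R] (f : S →+* R)
variable {P : Type v} [AddCommGroup P] [Module (WittVector p S) P]
variable (D : W4c1extbt610.Display3n p S P)

local notation "gg" => (WittVector.map f : WittVector p S →+* WittVector p R)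
local notation "σR" => (WittVector.frobenius : WittVector p R →+* WittVector p R)

theorem exists_baseChange :
    ∃ DR : W4c1extbt610.Display3n p R (BC gg P), IsDispBaseChange f D DR := by
  obtain ⟨L, T, hLT, hQ⟩ := D.exists_normal
  haveI := D.finite
  haveI := D.projective
  haveI : Module.Finite (WittVector p R) (BC gg P) := H10BCR.finite_BC gg P
  haveI : Module.Projective (WittVector p R) (BC gg P) := H10BCR.projective_BC gg P
  obtain ⟨d, hd⟩ := exists_div σR (W4c1extbt610.IV p R) tau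
    (fun a ha b hb => tau_add_IV ha hb) (fun ξ a ha => tau_mul_IV ξ ha) (FR f D)
  exact ⟨mkDR f D L T hLT hQ d hd, mkDR_isBC f D L T hLT hQ d hd⟩

theorem baseChange_unique (DR₁ DR₂ : W4c1extbt610.Display3n p R (BC gg P))
    (h₁ : IsDispBaseChange f D DR₁) (h₂ : IsDispBaseChange f D DR₂) : DR₁ = DR₂ := by
  obtain ⟨L, T, hLT, hQ⟩ := D.exists_normal
  have hQe : DR₁.Q = DR₂.Q := h₁.Q_eq.trans h₂.Q_eq.symm
  have hFe : DR₁.F = DR₂.F := by
    apply LinearMap.ext
    intro z
    exact semilinear_ext gg σR DR₁.F DR₂.F (fun b x => by rw [h₁.F_tmul, h₂.F_tmul]) z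
  refine display3n_ext DR₁ DR₂ hQe hFe ?_
  intro y hy₁ hy₂
  have hy : y ∈ QR f D := by
    have h0 := hy₁
    rw [h₁.Q_eq] at h0
    exact h0
  have hm₁ : ∀ z : BC gg P, z ∈ QR f D → z ∈ DR₁.Q := fun z hz => by
    rw [h₁.Q_eq]
    exact hz
  have hm₂ : ∀ z : BC gg P, z ∈ QR f D → z ∈ DR₂.Q := fun z hz => by
    rw [h₂.Q_eq]
    exact hz
  have key : y ∈ DR₁.Q ∧ y ∈ DR₂.Q ∧ ∀ (h₁' : y ∈ DR₁.Q) (h₂' : y ∈ DR₂.Q),
      DR₁.Vinv ⟨y, h₁'⟩ = DR₂.Vinv ⟨y, h₂'⟩ := by
    refine Q_induction f D L T hLT hQ (fun y => y ∈ DR₁.Q ∧ y ∈ DR₂.Q ∧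
      ∀ (h₁' : y ∈ DR₁.Q) (h₂' : y ∈ DR₂.Q), DR₁.Vinv ⟨y, h₁'⟩ = DR₂.Vinv ⟨y, h₂'⟩)
      ?_ ?_ ?_ ?_ y hy
    · rintro a b ⟨ha1, ha2, ha⟩ ⟨hb1, hb2, hb⟩
      refine ⟨add_mem ha1 hb1, add_mem ha2 hb2, fun h₁' h₂' => ?_⟩
      have e1 : (⟨a + b, h₁'⟩ : DR₁.Q) = ⟨a, ha1⟩ + ⟨b, hb1⟩ := rfl
      have e2 : (⟨a + b, h₂'⟩ : DR₂.Q) = ⟨a, ha2⟩ + ⟨b, hb2⟩ := rfl
      rw [e1, e2, map_add, map_add, ha, hb]
    · refine ⟨zero_mem _, zero_mem _, fun h₁' h₂' => ?_⟩
      have e1 : (⟨0, h₁'⟩ : DR₁.Q) = 0 := rfl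
      have e2 : (⟨0, h₂'⟩ : DR₂.Q) = 0 := rfl
      rw [e1, e2, map_zero, map_zero]
    · intro w q
      refine ⟨hm₁ _ (tmul_mem_QR f D w _ q.2), hm₂ _ (tmul_mem_QR f D w _ q.2),
        fun h₁' h₂' => ?_⟩
      rw [h₁.Vinv_tmul w q h₁', h₂.Vinv_tmul w q h₂']
    · intro w x
      have hm : BC.tmul gg (verschiebung w) x ∈ QR f D := by
        rw [BC.tmul_eq_smul_tmul_one]
        exact IV_smul_le_QR f D (Submodule.smul_mem_smul
          (W4c1extbt610.verschiebung_mem_IV p R w) Submodule.mem_top)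
      refine ⟨hm₁ _ hm, hm₂ _ hm, fun h₁' h₂' => ?_⟩
      rw [h₁.Vinv_verschiebung_tmul w x h₁', h₂.Vinv_verschiebung_tmul w x h₂']
  exact key.2.2 hy₁ hy₂

theorem existsUnique_baseChange :
    ∃! DR : W4c1extbt610.Display3n p R (BC gg P), IsDispBaseChange f D DR := by
  obtain ⟨DR, h⟩ := exists_baseChange f D
  exact ⟨DR, h, fun DR' h' => baseChange_unique f D DR' DR h' h⟩

end main

end H10BE
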