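import Mathlib
import Groth.Prelude.Def_Dieu

/-!
# Faithfully flat descent for Witt vectors: exactness of `0 → M → M_R ⇉ M_{R ⊗ R}`
-/

set_option autoImplicit false
universe u v

namespace H10Desc

open TensorProduct

section ring

variable (S R : Type*) [CommRing S] [CommRing R] [Algebra S R]

/-- `x ↦ x ⊗ 1 - 1 ⊗ x`. -/
noncomputable def dd : R →ₗ[S] R ⊗[S] R :=
  (TensorProduct.mk S R R).flip 1 - TensorProduct.mk S R R 1

theorem dd_apply (x : R) : dd S R x = x ⊗ₜ[S] (1 : R) - (1 : R) ⊗ₜ[S] x := rfl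

/-- contraction `a ⊗ (b ⊗ c) ↦ ab ⊗ c` -/
noncomputable def mu : R ⊗[S] (R ⊗[S] R) →ₗ[S] R ⊗[S] R :=
  (LinearMap.rTensor R (LinearMap.mul' S R)) ∘ₗ (TensorProduct.assoc S R R R).symm.toLinearMap

theorem mu_tmul (a b c : R) : mu S R (a ⊗ₜ[S] (b ⊗ₜ[S] c)) = (a * b) ⊗ₜ[S] c := by
  simp [mu]

theorem mu_lTensor_dd (z : R ⊗[S] R) :
    mu S R (LinearMap.lTensor R (dd S R) z) =
      (LinearMap.mul' S R z) ⊗ₜ[S] (1 : R) - z := by
  induction z using TensorProduct.induction_on with
  | zero => simp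
  | tmul a x =>
    rw [LinearMap.lTensor_tmul, dd_apply, TensorProduct.tmul_sub, map_sub, mu_tmul, mu_tmul,
      LinearMap.mul'_apply, mul_one]
  | add x y hx hy => rw [map_add, map_add, hx, hy, map_add, TensorProduct.add_tmul]; abel

theorem exact_dd [Module.FaithfullyFlat S R] :
    Function.Exact (Algebra.linearMap S R) (dd S R) := by
  apply Module.FaithfullyFlat.lTensor_reflects_exact S R
  intro z
  constructor
  · intro hz
    have h := mu_lTensor_dd S R z
    rw [hz, map_zero] at h
    have hz' : z = (LinearMap.mul' S R z) ⊗ₜ[S] (1 : R) := (sub_eq_zero.mp h.symm).symm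
    refine ⟨(LinearMap.mul' S R z) ⊗ₜ[S] (1 : S), ?_⟩
    rw [LinearMap.lTensor_tmul, Algebra.linearMap_apply, map_one]
    exact hz'.symm
  · rintro ⟨y, rfl⟩
    rw [← LinearMap.comp_apply, ← LinearMap.lTensor_comp]
    have : dd S R ∘ₗ Algebra.linearMap S R = 0 := by
      ext
      simp [dd_apply]
    rw [this, LinearMap.lTensor_zero, LinearMap.zero_apply]

/-- The equalizer of `R ⇉ R ⊗ R` is `S`. -/
theorem mem_range_of_tmul_eq [Module.FaithfullyFlat S R] (x : R)
    (hx : x ⊗ₜ[S] (1 : R) = (1 : R) ⊗ₜ[S] x) : ∃ s : S, algebraMap S R s = x := by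
  have h : dd S R x = 0 := by rw [dd_apply, hx, sub_self]
  obtain ⟨s, hs⟩ := (exact_dd S R x).mp h
  exact ⟨s, hs⟩

end ring

section witt

variable {p : ℕ} [Fact p.Prime] (S R : Type u) [CommRing S] [CommRing R] [Algebra S R]
  [Module.FaithfullyFlat S R]

theorem witt_mem_range (w : WittVector p R)
    (hw : WittVector.map (Algebra.TensorProduct.includeLeftRingHom : R →+* R ⊗[S] R) w =
      WittVector.map ((Algebra.TensorProduct.includeRight : R →ₐ[S] R ⊗[S] R) :
        R →+* R ⊗[S] R) w) :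
    ∃ v : WittVector p S, WittVector.map (algebraMap S R) v = w := by
  have h : ∀ n, ∃ s : S, algebraMap S R s = w.coeff n := by
    intro n
    apply mem_range_of_tmul_eq S R
    have := congrArg (fun z => WittVector.coeff z n) hw
    simpa [WittVector.map_coeff] using this
  choose s hs using h
  refine ⟨WittVector.mk p s, ?_⟩
  ext n
  rw [WittVector.map_coeff, WittVector.coeff_mk, hs]

end witt

section bc

open Dieu

variable {A : Type u} {B : Type u} {C : Type u} [CommRing A] [CommRing B] [CommRing C]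
  (g : A →+* B) (h₁ h₂ : B →+* C) (e : h₁.comp g = h₂.comp g)
  (M : Type v) [AddCommGroup M] [Module A M]

/-- `g` as an `A`-linear map `A → Res g`. -/
noncomputable def gLin : A →ₗ[A] Res g where
  toFun a := Res.mk g (g a)
  map_add' a b := by rw [map_add]; rfl
  map_smul' a b := by
    apply Res.ext
    rw [RingHom.id_apply, smul_eq_mul, map_mul, Res.val_smul]
    rfl

/-- `h₁ - h₂` as an `A`-linear map `Res g → Res (h₂ ∘ g)`. -/
noncomputable def dLin : Res g →ₗ[A] Res (h₂.comp g) where
  toFun t := Res.mk (h₂.comp g) (h₁ t.val - h₂ t.val)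
  map_add' s t := by
    apply Res.ext
    show h₁ (s.val + t.val) - h₂ (s.val + t.val) = (h₁ s.val - h₂ s.val) + (h₁ t.val - h₂ t.val)
    rw [map_add, map_add]; ring
  map_smul' a t := by
    apply Res.ext
    rw [RingHom.id_apply, Res.val_smul]
    show h₁ (g a * t.val) - h₂ (g a * t.val) = (h₂.comp g) a * (h₁ t.val - h₂ t.val)
    have ha : h₁ (g a) = h₂ (g a) := RingHom.congr_fun e a
    rw [map_mul, map_mul, ha, RingHom.comp_apply]; ring

/-- identity conversions between `Res g ⊗ M` and `BC g M` -/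
def toBC (z : Res g ⊗[A] M) : BC g M := z

/-- identity conversion -/
def ofBC (z : BC g M) : Res g ⊗[A] M := z

theorem toBC_zero : toBC g M 0 = 0 := rfl
theorem toBC_add (a b : Res g ⊗[A] M) : toBC g M (a + b) = toBC g M a + toBC g M b := rfl
theorem toBC_tmul (t : Res g) (x : M) : toBC g M (t ⊗ₜ[A] x) = BC.tmul g t.val x := rfl
theorem toBC_ofBC (z : BC g M) : toBC g M (ofBC g M z) = z := rfl

theorem sub_tmul' (G : A →+* C) (a b : C) (x : M) :
    BC.tmul G (a - b) x = BC.tmul G a x - BC.tmul G b x := by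
  have h : BC.tmul G a x = BC.tmul G (a - b) x + BC.tmul G b x := by
    rw [← BC.add_tmul, sub_add_cancel]
  rw [h, add_sub_cancel_right]

theorem rTensor_dLin (z : Res g ⊗[A] M) :
    toBC (h₂.comp g) M (LinearMap.rTensor M (dLin g h₁ h₂ e) z) =
      BC.castHom e (BC.push g h₁ (toBC g M z)) - BC.push g h₂ (toBC g M z) := by
  induction z using TensorProduct.induction_on with
  | zero => rw [map_zero, toBC_zero, toBC_zero, map_zero, map_zero, map_zero, sub_zero]
  | tmul t x =>
    rw [LinearMap.rTensor_tmul, toBC_tmul, toBC_tmul, BC.push_tmul, BC.push_tmul, BC.castHom_tmul]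
    show BC.tmul (h₂.comp g) (h₁ t.val - h₂ t.val) x = _
    rw [sub_tmul']
  | add z₁ z₂ h1 h2 =>
    rw [map_add, toBC_add, h1, h2, toBC_add, map_add, map_add, map_add]; abel

theorem range_rTensor_gLin (z : Res g ⊗[A] M) :
    z ∈ Set.range (LinearMap.rTensor M (gLin g)) ↔ toBC g M z ∈ Set.range (BC.ι g M) := by
  have h1 : gLin g (1 : A) = Res.mk g 1 := by
    apply Res.ext; exact map_one g
  constructor
  · rintro ⟨y, rfl⟩
    refine ⟨TensorProduct.lid A M y, ?_⟩
    have hy : y = (1 : A) ⊗ₜ[A] (TensorProduct.lid A M y) := by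
      rw [← TensorProduct.lid_symm_apply, LinearEquiv.symm_apply_apply]
    rw [BC.ι_apply]
    conv_rhs => rw [hy, LinearMap.rTensor_tmul, h1, toBC_tmul]
    rfl
  · rintro ⟨x, hx⟩
    refine ⟨(1 : A) ⊗ₜ[A] x, ?_⟩
    rw [LinearMap.rTensor_tmul, h1]
    exact hx

theorem bc_exact [Module.Flat A M] (hg : Function.Injective g)
    (hex : ∀ b : B, h₁ b = h₂ b → ∃ a : A, g a = b) :
    Function.Injective (BC.ι g M) ∧
      ∀ z : BC g M, (BC.castHom e (BC.push g h₁ z) = BC.push g h₂ z ↔
        z ∈ Set.range (BC.ι g M)) := by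
  have hexact : Function.Exact (gLin g) (dLin g h₁ h₂ e) := by
    intro t
    constructor
    · intro ht
      have h0 : h₁ t.val - h₂ t.val = 0 := ht
      obtain ⟨a, ha⟩ := hex t.val (sub_eq_zero.mp h0)
      exact ⟨a, ha⟩
    · rintro ⟨a, rfl⟩
      apply Res.ext
      show h₁ (g a) - h₂ (g a) = 0
      rw [sub_eq_zero]
      exact RingHom.congr_fun e a
  have hginj : Function.Injective (gLin g) := fun a b hab => hg hab
  have h1 : gLin g (1 : A) = Res.mk g 1 := by
    apply Res.ext; exact map_one g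
  constructor
  · intro x y hxy
    have h2 : Function.Injective (LinearMap.rTensor M (gLin g)) :=
      Module.Flat.rTensor_preserves_injective_linearMap (gLin g) hginj
    have h3 : LinearMap.rTensor M (gLin g) ((1 : A) ⊗ₜ[A] x) =
        LinearMap.rTensor M (gLin g) ((1 : A) ⊗ₜ[A] y) := by
      rw [LinearMap.rTensor_tmul, LinearMap.rTensor_tmul, h1]
      exact hxy
    have h4 := congrArg (TensorProduct.lid A M) (h2 h3)
    rwa [TensorProduct.lid_tmul, TensorProduct.lid_tmul, one_smul, one_smul] at h4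
  · intro z
    have hfl := Module.Flat.rTensor_exact M hexact
    have k1 := rTensor_dLin g h₁ h₂ e M (ofBC g M z)
    have k2 := range_rTensor_gLin g M (ofBC g M z)
    have k3 := hfl (ofBC g M z)
    rw [toBC_ofBC] at k1 k2
    rw [← k2, ← k3, ← sub_eq_zero, ← k1]
    exact Iff.rfl

end bc

end H10Desc
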