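import Mathlib
import Groth.Prelude.Def_Disp2
import Groth.Agent.Lib.Helper10.DispBC
import Groth.Agent.Lib.Helper10.WittDescent

/-!
# Faithfully flat descent for displays: the submodule `Q` and homomorphisms
-/

set_option autoImplicit false
universe u v

namespace H10Disp

open WittVector Dieu H10Adic

section Qdesc

variable {p : ℕ} [hp : Fact p.Prime] {S R : Type u} [CommRing S] [CommRing R] (f : S →+* R)
variable {P : Type v} [AddCommGroup P] [Module (WittVector p S) P]

local notation "gg" => (WittVector.map f : WittVector p S →+* WittVector p R)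

theorem mem_Q_of_tmul_mem (D : W4c1extbt610.Display3n p S P)
    (DR : W4c1extbt610.Display3n p R (BC gg P)) (hDR : IsDispBaseChange f D DR)
    (hf : Function.Injective f) (x : P) (hx : BC.tmul gg 1 x ∈ DR.Q) : x ∈ D.Q := by
  classical
  obtain ⟨L, T, hLT, hQ⟩ := D.exists_normal
  haveI := D.finite
  haveI := D.projective
  obtain ⟨r, ρ, i, _, _, hρi⟩ :=
    Module.Finite.exists_comp_eq_id_of_projective (WittVector p S) P
  have hLQ : L ≤ D.Q := hQ ▸ le_sup_left
  let e := Submodule.prodEquivOfIsCompl L T hLT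
  let πT : P →ₗ[WittVector p S] P := T.subtype ∘ₗ LinearMap.snd _ L T ∘ₗ e.symm.toLinearMap
  have hπ : ∀ y, πT y = ((e.symm y).2 : P) := fun y => rfl
  have hπL : ∀ (l : P), l ∈ L → πT l = 0 := by
    intro l hl
    rw [hπ]
    have := congrArg Prod.snd (Submodule.prodEquivOfIsCompl_symm_apply_left L T hLT ⟨l, hl⟩)
    have h2 : (e.symm l).2 = 0 := this
    rw [h2, Submodule.coe_zero]
  have hπT : ∀ (t : P), t ∈ T → πT t = t := by
    intro t ht
    rw [hπ]
    have := congrArg Prod.snd (Submodule.prodEquivOfIsCompl_symm_apply_right L T hLT ⟨t, ht⟩)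
    have h2 : (e.symm t).2 = ⟨t, ht⟩ := this
    rw [h2]
  have hdecomp : ∀ y : P, y - πT y ∈ L := by
    intro y
    have h1 := e.apply_symm_apply y
    rw [Submodule.coe_prodEquivOfIsCompl'] at h1
    have h2 : y - πT y = ((e.symm y).1 : P) := by
      rw [hπ]
      exact sub_eq_of_eq_add h1.symm
    rw [h2]; exact (e.symm y).1.2
  have claimA : ∀ y ∈ D.Q, i (πT y) ∈
      W4c1extbt610.IV p S • (⊤ : Submodule (WittVector p S) (Fin r → WittVector p S)) := by
    intro y hy
    rw [hQ] at hy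
    obtain ⟨l, hl, z, hz, rfl⟩ := Submodule.mem_sup.mp hy
    rw [map_add, hπL l hl, zero_add, hπT z (Submodule.smul_le_right hz)]
    exact map_mem_smul_top _ i (Submodule.smul_mono le_rfl le_top hz)
  let G' : WittVector p S →+* R := (WittVector.constantCoeff : WittVector p R →+* R).comp gg
  have hG' : ∀ w : WittVector p S, G' w = f (w.coeff 0) := fun w => by
    show (WittVector.map f w).coeff 0 = _
    rw [WittVector.map_coeff]
  have hk : ∀ k : Fin r, (i (πT x) k).coeff 0 = 0 := by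
    intro k
    let lam : P →ₗ[WittVector p S] WittVector p S := (LinearMap.proj k) ∘ₗ i ∘ₗ πT
    let ν : P →ₛₗ[G'] R := (semilinearOfRingHom G').comp lam
    have hν : ∀ y, ν y = f ((i (πT y) k).coeff 0) := fun y => hG' _
    have hker : D.Q ≤ LinearMap.ker ν := by
      intro y hy
      rw [LinearMap.mem_ker, hν]
      have := (mem_smul_top_pi _ _).mp (claimA y hy) k
      rw [IV_eq_II, H10Witt.mem_II_iff] at this
      rw [this, map_zero]
    let μ : (P ⧸ D.Q) →ₛₗ[G'] R := D.Q.liftQ ν hker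
    have h1 : bcQuotMap f D.Q (BC.tmul gg 1 x) = 0 := by
      have := hx
      rw [hDR.Q_eq, LinearMap.mem_ker] at this
      exact this
    rw [bcQuotMap_tmul] at h1
    have h2 := congrArg (BC.lift G' μ) h1
    rw [BC.lift_tmul, map_zero, map_one, one_smul] at h2
    have h3 : ν x = 0 := h2
    rw [hν] at h3
    exact hf (h3.trans (map_zero f).symm)
  have hmem : i (πT x) ∈
      W4c1extbt610.IV p S • (⊤ : Submodule (WittVector p S) (Fin r → WittVector p S)) := by
    rw [mem_smul_top_pi]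
    intro k
    rw [IV_eq_II, H10Witt.mem_II_iff]
    exact hk k
  have h4 : πT x ∈ W4c1extbt610.IV p S • (⊤ : Submodule (WittVector p S) P) := by
    have h5 := map_mem_smul_top _ ρ hmem
    have h6 : ρ (i (πT x)) = πT x := by
      have := LinearMap.congr_fun hρi (πT x)
      rwa [LinearMap.comp_apply, LinearMap.id_apply] at this
    rwa [h6] at h5
  have h6 : x = (x - πT x) + πT x := by abel
  rw [h6]
  exact D.Q.add_mem (hLQ (hdecomp x)) (D.IV_smul_le h4)

end Qdesc

section homdesc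

variable {A B C : Type u} [CommRing A] [CommRing B] [CommRing C]

theorem castHom_trans_symm {P : Type v} [AddCommGroup P] [Module A P] {a b c : A →+* C}
    (e₁ : a = c) (e₂ : b = c) (u : BC a P) (w : BC b P)
    (h : BC.castHom e₁ u = BC.castHom e₂ w) : BC.castHom (e₁.trans e₂.symm) u = w := by
  subst e₂; subst e₁; exact h

theorem exists_descent (g : A →+* B) (h₁ h₂ : B →+* C) (G : A →+* C) (e₁ : h₁.comp g = G)
    (e₂ : h₂.comp g = G) (P P' : Type v) [AddCommGroup P] [Module A P] [AddCommGroup P']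
    [Module A P'] [Module.Flat A P'] (hg : Function.Injective g)
    (hex : ∀ b : B, h₁ b = h₂ b → ∃ a : A, g a = b) (χ : BC g P →ₗ[B] BC g P')
    (hdesc : ∀ (z₁ : BC h₁ (BC g P)) (z₂ : BC h₂ (BC g P)),
      (BC.castHom (P := P) e₁).comp (BC.lift h₁ (BC.push g h₁)) z₁ =
        (BC.castHom (P := P) e₂).comp (BC.lift h₂ (BC.push g h₂)) z₂ →
      (BC.castHom (P := P') e₁).comp (BC.lift h₁ (BC.push g h₁)) (BC.map h₁ χ z₁) =
        (BC.castHom (P := P') e₂).comp (BC.lift h₂ (BC.push g h₂)) (BC.map h₂ χ z₂)) :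
    Function.Injective (BC.ι g P') ∧ ∃ ψ : P →ₗ[A] P', BC.map g ψ = χ := by
  have e : h₁.comp g = h₂.comp g := e₁.trans e₂.symm
  obtain ⟨hinj, hrange⟩ := H10Desc.bc_exact g h₁ h₂ e P' hg hex
  refine ⟨hinj, ?_⟩
  have key : ∀ x : P, ∃ y : P', BC.ι g P' y = χ (BC.tmul g 1 x) := by
    intro x
    have h := hdesc (BC.tmul h₁ 1 (BC.tmul g 1 x)) (BC.tmul h₂ 1 (BC.tmul g 1 x)) (by
      rw [LinearMap.comp_apply, LinearMap.comp_apply, BC.lift_tmul, BC.lift_tmul, one_smul,
        one_smul, BC.push_tmul, BC.push_tmul, BC.castHom_tmul, BC.castHom_tmul, map_one,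
        map_one])
    rw [BC.map_tmul, BC.map_tmul, LinearMap.comp_apply, LinearMap.comp_apply, BC.lift_tmul,
      BC.lift_tmul, one_smul, one_smul] at h
    have h' := castHom_trans_symm e₁ e₂ _ _ h
    exact (hrange _).mp h'
  choose ψ₀ hψ₀ using key
  have hι : ∀ y : P', BC.ι g P' y = BC.tmul g 1 y := fun y => rfl
  let ψ : P →ₗ[A] P' :=
    { toFun := ψ₀
      map_add' := by
        intro x y
        apply hinj
        rw [map_add, hψ₀, hψ₀, hψ₀, BC.tmul_add, map_add]
      map_smul' := by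
        intro a x
        apply hinj
        have h1 : BC.tmul g 1 (a • x) = g a • BC.tmul g 1 x := (BC.ι g P).map_smulₛₗ a x
        rw [RingHom.id_apply, map_smulₛₗ, hψ₀, hψ₀, h1, map_smul] }
  refine ⟨ψ, BC.ext g (fun x => ?_)⟩
  rw [BC.map_tmul]
  exact hψ₀ x

end homdesc

section homdisp

variable {p : ℕ} [hp : Fact p.Prime] {S R : Type u} [CommRing S] [CommRing R] (f : S →+* R)
variable {P P' : Type v} [AddCommGroup P] [Module (WittVector p S) P] [AddCommGroup P']
  [Module (WittVector p S) P']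

local notation "gg" => (WittVector.map f : WittVector p S →+* WittVector p R)

theorem isHom_of_baseChange (hf : Function.Injective f)
    (hinj : Function.Injective (BC.ι gg P'))
    (D : W4c1extbt610.Display3n p S P) (D' : W4c1extbt610.Display3n p S P')
    (DR : W4c1extbt610.Display3n p R (BC gg P)) (hDR : IsDispBaseChange f D DR)
    (DR' : W4c1extbt610.Display3n p R (BC gg P')) (hDR' : IsDispBaseChange f D' DR')
    (ψ : P →ₗ[WittVector p S] P') (hχ : W4c1extbt610.IsHom DR DR' (BC.map gg ψ)) :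
    W4c1extbt610.IsHom D D' ψ := by
  have hmaps : ∀ q : P, q ∈ D.Q → ψ q ∈ D'.Q := by
    intro q hq
    apply mem_Q_of_tmul_mem f D' DR' hDR' hf
    rw [← BC.map_tmul]
    exact hχ.mapsTo _ (tmul_one_mem_Q f D DR hDR ⟨q, hq⟩)
  refine ⟨hmaps, fun x => ?_, fun q => ?_⟩
  · apply hinj
    show BC.tmul gg 1 (ψ (D.F x)) = BC.tmul gg 1 (D'.F (ψ x))
    have h1 := hDR.F_tmul 1 x
    have h2 := hDR'.F_tmul 1 (ψ x)
    rw [map_one] at h1 h2
    rw [← BC.map_tmul, ← h1, hχ.comm_F, BC.map_tmul, h2]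
  · apply hinj
    show BC.tmul gg 1 (ψ (D.Vinv q)) = BC.tmul gg 1 (D'.Vinv ⟨ψ q, hmaps q q.2⟩)
    have hq1 := tmul_one_mem_Q f D DR hDR q
    have hq2 := tmul_one_mem_Q f D' DR' hDR' ⟨ψ q, hmaps q q.2⟩
    have h1 := hDR.Vinv_tmul 1 q hq1
    have h2 := hDR'.Vinv_tmul 1 ⟨ψ q, hmaps q q.2⟩ hq2
    rw [map_one] at h1 h2
    have h3 := hχ.comm_Vinv ⟨_, hq1⟩
    rw [← BC.map_tmul, ← h1, h3, ← h2]
    congr 1
    apply Subtype.ext
    exact BC.map_tmul gg ψ 1 (q : P)

end homdisp

end H10Disp
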