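import Mathlib
import Groth.Prelude.Def_W4c1extbt610Disp

/-!
# Exterior powers of 3n-displays: the universal property
-/

set_option autoImplicit false
universe u v w

namespace H10DE

open WittVector W4c1extbt610

variable {p : ℕ} [hp : Fact p.Prime] {R : Type u} [CommRing R]
variable {P : Type v} [AddCommGroup P] [Module (WittVector p R) P]
variable {P' : Type w} [AddCommGroup P'] [Module (WittVector p R) P']

theorem isHom_of_Vinv (D : Display3n p R P) (D' : Display3n p R P')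
    (ψ : P →ₗ[WittVector p R] P') (h1 : ∀ q : P, q ∈ D.Q → ψ q ∈ D'.Q)
    (h2 : ∀ q : D.Q, ψ (D.Vinv q) = D'.Vinv ⟨ψ q, h1 q q.2⟩) :
    IsHom D D' ψ where
  mapsTo := h1
  comm_F := by
    intro x
    have e1 := D.Vinv_verschiebung_smul 1 x
    have e2 := D'.Vinv_verschiebung_smul 1 (ψ x)
    rw [one_smul] at e1 e2
    rw [← e1, ← e2, h2]
    refine congrArg D'.Vinv (Subtype.ext ?_)
    exact map_smul ψ _ x
  comm_Vinv := h2

/-- A linear map is a morphism of 3n-displays as soon as it is compatible with `Q` and `V⁻¹` on a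
generating set of `Q`. -/
theorem isHom_of_span (D : Display3n p R P) (D' : Display3n p R P')
    (ψ : P →ₗ[WittVector p R] P') (G : Set P) (hG : D.Q = Submodule.span (WittVector p R) G)
    (h1 : ∀ g ∈ G, ψ g ∈ D'.Q)
    (h2 : ∀ (g : P) (_ : g ∈ G) (h : g ∈ D.Q) (h' : ψ g ∈ D'.Q),
      ψ (D.Vinv ⟨g, h⟩) = D'.Vinv ⟨ψ g, h'⟩) :
    IsHom D D' ψ := by
  have hle : Submodule.span (WittVector p R) G ≤ D.Q := hG ▸ le_rfl
  have key : ∀ y : P, ∀ hy : y ∈ Submodule.span (WittVector p R) G,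
      ψ y ∈ D'.Q ∧ ∀ (h : y ∈ D.Q) (h' : ψ y ∈ D'.Q), ψ (D.Vinv ⟨y, h⟩) = D'.Vinv ⟨ψ y, h'⟩ := by
    intro y hy
    induction hy using Submodule.span_induction with
    | mem x hx => exact ⟨h1 x hx, fun h h' => h2 x hx h h'⟩
    | zero =>
      refine ⟨by rw [map_zero]; exact Submodule.zero_mem _, fun h h' => ?_⟩
      have e1 : (⟨0, h⟩ : D.Q) = 0 := rfl
      have e2 : (⟨ψ 0, h'⟩ : D'.Q) = 0 := Subtype.ext (map_zero ψ)
      rw [e1, e2, map_zero, map_zero, map_zero]
    | add x y hx hy ihx ihy =>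
      refine ⟨by rw [map_add]; exact Submodule.add_mem _ ihx.1 ihy.1, fun h h' => ?_⟩
      have e1 : (⟨x + y, h⟩ : D.Q) = ⟨x, hle hx⟩ + ⟨y, hle hy⟩ := rfl
      have e2 : (⟨ψ (x + y), h'⟩ : D'.Q) = ⟨ψ x, ihx.1⟩ + ⟨ψ y, ihy.1⟩ :=
        Subtype.ext (map_add ψ x y)
      rw [e1, e2, map_add, map_add, map_add, ihx.2, ihy.2]
    | smul a x hx ihx =>
      refine ⟨by rw [map_smul]; exact Submodule.smul_mem _ _ ihx.1, fun h h' => ?_⟩
      have e1 : (⟨a • x, h⟩ : D.Q) = a • ⟨x, hle hx⟩ := rfl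
      have e2 : (⟨ψ (a • x), h'⟩ : D'.Q) = a • ⟨ψ x, ihx.1⟩ := Subtype.ext (map_smul ψ a x)
      have s1 : D.Vinv (a • (⟨x, hle hx⟩ : D.Q)) = frobenius a • D.Vinv ⟨x, hle hx⟩ :=
        map_smulₛₗ D.Vinv a _
      have s2 : D'.Vinv (a • (⟨ψ x, ihx.1⟩ : D'.Q)) = frobenius a • D'.Vinv ⟨ψ x, ihx.1⟩ :=
        map_smulₛₗ D'.Vinv a _
      rw [e1, e2, s1, s2, map_smul, ihx.2]
  have hmem : ∀ q : P, q ∈ D.Q → q ∈ Submodule.span (WittVector p R) G := fun q hq => by
    rw [← hG]
    exact hq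
  exact isHom_of_Vinv D D' ψ (fun q hq => (key q (hmem q hq)).1)
    (fun q => (key q (hmem q q.2)).2 q.2 _)

theorem coe_update (D : Display3n p R P) {r : ℕ} (q : Fin r → D.Q) (i : Fin r) (a : D.Q) :
    (fun j => ((Function.update q i a) j : P)) = Function.update (fun j => (q j : P)) i (a : P) := by
  funext j
  exact Function.apply_update (fun _ (y : D.Q) => (y : P)) q i a j

theorem Vinv_update (D : Display3n p R P) {r : ℕ} (q : Fin r → D.Q) (i : Fin r) (a : D.Q) :
    (fun j => D.Vinv ((Function.update q i a) j)) =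
      Function.update (fun j => D.Vinv (q j)) i (D.Vinv a) := by
  funext j
  exact Function.apply_update (fun _ (y : D.Q) => D.Vinv y) q i a j

theorem ιMulti_isAltMult (D : Display3n p R P) (r : ℕ)
    (E : Display3n p R (⋀[WittVector p R]^r P)) (hE : IsExtPow D r E) :
    IsAltMult D E (exteriorPower.ιMulti (WittVector p R) r) := by
  have hm : ∀ q : Fin r → D.Q,
      exteriorPower.ιMulti (WittVector p R) r (fun i => (q i : P)) ∈ E.Q := by
    intro q
    rw [hE.1]
    exact Submodule.subset_span ⟨q, rfl⟩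
  refine ⟨hm, fun q => hE.2 q _, fun i x q => ?_⟩
  have e1 := E.Vinv_verschiebung_smul 1
    (exteriorPower.ιMulti (WittVector p R) r (Function.update (fun j => (q j : P)) i x))
  rw [one_smul] at e1
  rw [← e1]
  let a : D.Q := ⟨verschiebung (1 : WittVector p R) • x,
    D.IV_smul_le (Submodule.smul_mem_smul (verschiebung_mem_IV p R 1) Submodule.mem_top)⟩
  have e2 : verschiebung (1 : WittVector p R) •
      exteriorPower.ιMulti (WittVector p R) r (Function.update (fun j => (q j : P)) i x) =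
      exteriorPower.ιMulti (WittVector p R) r (fun j => ((Function.update q i a) j : P)) := by
    rw [coe_update, ← AlternatingMap.map_update_smul]
  have e3 := hE.2 (Function.update q i a) (hm _)
  rw [Vinv_update] at e3
  have e4 : D.Vinv a = D.F x := by
    have := D.Vinv_verschiebung_smul 1 x
    rw [one_smul] at this
    exact this
  rw [e4] at e3
  rw [← e3]
  exact congrArg E.Vinv (Subtype.ext e2)

theorem ext_universal (D : Display3n p R P) (r : ℕ)
    (E : Display3n p R (⋀[WittVector p R]^r P)) (hE : IsExtPow D r E)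
    (D' : Display3n p R P') (φ : P [⋀^Fin r]→ₗ[WittVector p R] P') (hφ : IsAltMult D D' φ) :
    ∃! ψ : ⋀[WittVector p R]^r P →ₗ[WittVector p R] P',
      IsHom E D' ψ ∧ ψ.compAlternatingMap (exteriorPower.ιMulti (WittVector p R) r) = φ := by
  refine ⟨exteriorPower.alternatingMapLinearEquiv φ, ⟨?_, ?_⟩, ?_⟩
  · refine isHom_of_span E D' _ _ hE.1 ?_ ?_
    · rintro _ ⟨q, rfl⟩
      rw [exteriorPower.alternatingMapLinearEquiv_apply_ιMulti]
      exact hφ.mapsTo q
    · rintro _ ⟨q, rfl⟩ h h'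
      rw [hE.2 q h, exteriorPower.alternatingMapLinearEquiv_apply_ιMulti, ← hφ.vCond q]
      refine congrArg D'.Vinv (Subtype.ext ?_)
      exact (exteriorPower.alternatingMapLinearEquiv_apply_ιMulti φ _).symm
  · exact exteriorPower.alternatingMapLinearEquiv_comp_ιMulti φ
  · rintro ψ' ⟨_, hψ'⟩
    apply exteriorPower.linearMap_ext
    rw [hψ', exteriorPower.alternatingMapLinearEquiv_comp_ιMulti]

end H10DE
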