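import Mathlib
import Groth.Prelude.Def_W4c1extbt610Disp
import Groth.Agent.Lib.Helper10.AdicIdem

/-!
# The tangent module of an exterior power of a 3n-display
-/

set_option autoImplicit false
universe u v w

namespace H10DR

open WittVector W4c1extbt610 H10Adic

section multilinear

variable {W : Type u} [CommRing W] {M : Type v} {N : Type w} [AddCommGroup M] [Module W M]
  [AddCommGroup N] [Module W N]

theorem multilinear_congr_mod {ι : Type*} [Fintype ι] [DecidableEq ι]
    (f : MultilinearMap W (fun _ : ι => M) N) (J : Ideal W) (x y : ι → M)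
    (h : ∀ i, x i - y i ∈ J • (⊤ : Submodule W M)) :
    f x - f y ∈ J • (⊤ : Submodule W N) := by
  have key : ∀ s : Finset ι, f (s.piecewise y x) - f x ∈ J • (⊤ : Submodule W N) := by
    intro s
    induction s using Finset.induction_on with
    | empty =>
      rw [Finset.piecewise_empty, sub_self]
      exact Submodule.zero_mem _
    | insert a s ha ih =>
      rw [Finset.piecewise_insert]
      have hz : (s.piecewise y x) a = x a := Finset.piecewise_eq_of_notMem _ _ _ ha
      have e1 : f (Function.update (s.piecewise y x) a (y a)) - f (s.piecewise y x) =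
          f (Function.update (s.piecewise y x) a (y a - x a)) := by
        rw [MultilinearMap.map_update_sub, ← hz, Function.update_eq_self]
      have h2 : f (Function.update (s.piecewise y x) a (y a - x a)) ∈
          J • (⊤ : Submodule W N) := by
        have h3 := map_mem_smul_top J (f.toLinearMap (s.piecewise y x) a) (x := y a - x a)
          (by rw [← neg_sub]; exact Submodule.neg_mem _ (h a))
        rwa [MultilinearMap.toLinearMap_apply] at h3
      have e2 : f (Function.update (s.piecewise y x) a (y a)) - f x =
          (f (Function.update (s.piecewise y x) a (y a)) - f (s.piecewise y x)) +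
            (f (s.piecewise y x) - f x) := by abel
      rw [e2, e1]
      exact Submodule.add_mem _ h2 ih
  have h4 := key Finset.univ
  rw [Finset.piecewise_univ] at h4
  rw [← neg_sub]
  exact Submodule.neg_mem _ h4

theorem isCompl_range_ker (e : M →ₗ[W] M) (he : ∀ x, e (e x) = e x) :
    IsCompl (LinearMap.range e) (LinearMap.ker e) := by
  constructor
  · rw [Submodule.disjoint_def]
    rintro x ⟨a, rfl⟩ hx
    rw [LinearMap.mem_ker, he] at hx
    exact hx
  · rw [codisjoint_iff, eq_top_iff]
    intro x _
    have h0 : x = e x + (x - e x) := by abel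
    rw [h0]
    refine Submodule.add_mem_sup (LinearMap.mem_range_self e x) ?_
    rw [LinearMap.mem_ker, map_sub, he, sub_self]

end multilinear

section kerbasis

variable {W : Type u} [CommRing W] {M : Type v} [AddCommGroup M] [Module W M]
variable {I : Type w} [LinearOrder I] (b : Module.Basis I W M) (π : M →ₗ[W] M) (star : I)
  (h0 : π (b star) = 0) (h1 : ∀ i, i ≠ star → π (b i) = b i) (r : ℕ)

include h0 in
theorem map_basis_of_mem (s : Set.powersetCard I r) (hs : star ∈ s) :
    exteriorPower.map r π (b.exteriorPower r s) = 0 := by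
  rw [exteriorPower.basis_apply]
  show exteriorPower.map r π
    (exteriorPower.ιMulti W r (b ∘ (Set.powersetCard.ofFinEmbEquiv.symm s))) = 0
  rw [exteriorPower.map_apply_ιMulti]
  obtain ⟨j, hj⟩ := (Set.powersetCard.mem_range_ofFinEmbEquiv_symm_iff_mem s star).mpr hs
  refine (exteriorPower.ιMulti W r).map_coord_zero j ?_
  show π (b (Set.powersetCard.ofFinEmbEquiv.symm s j)) = 0
  rw [hj, h0]

include h1 in
theorem map_basis_of_notMem (s : Set.powersetCard I r) (hs : star ∉ s) :
    exteriorPower.map r π (b.exteriorPower r s) = b.exteriorPower r s := by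
  rw [exteriorPower.basis_apply]
  show exteriorPower.map r π
    (exteriorPower.ιMulti W r (b ∘ (Set.powersetCard.ofFinEmbEquiv.symm s))) =
    exteriorPower.ιMulti W r (b ∘ (Set.powersetCard.ofFinEmbEquiv.symm s))
  rw [exteriorPower.map_apply_ιMulti]
  congr 1
  funext j
  show π (b (Set.powersetCard.ofFinEmbEquiv.symm s j)) =
    b (Set.powersetCard.ofFinEmbEquiv.symm s j)
  apply h1
  intro hj
  exact hs ((Set.powersetCard.mem_range_ofFinEmbEquiv_symm_iff_mem s star).mp ⟨j, hj⟩)

include h0 h1 in
theorem exists_basis_ker :
    Nonempty (Module.Basis {s : Set.powersetCard I r // star ∈ s} W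
      (LinearMap.ker (exteriorPower.map r π))) := by
  classical
  let v : {s : Set.powersetCard I r // star ∈ s} → ⋀[W]^r M := fun s => b.exteriorPower r s.1
  have hli : LinearIndependent W v :=
    (b.exteriorPower r).linearIndependent.comp _ Subtype.val_injective
  have hA : Submodule.span W ((b.exteriorPower r) '' {s | star ∈ s}) ≤
      LinearMap.ker (exteriorPower.map r π) := by
    rw [Submodule.span_le]
    rintro _ ⟨s, hs, rfl⟩
    exact map_basis_of_mem b π star h0 r s hs
  have hAc : ∀ l ∈ Submodule.span W ((b.exteriorPower r) '' {s | star ∉ s}),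
      exteriorPower.map r π l = l := by
    intro l hl
    induction hl using Submodule.span_induction with
    | mem x hx =>
      obtain ⟨s, hs, rfl⟩ := hx
      exact map_basis_of_notMem b π star h1 r s hs
    | zero => rw [map_zero]
    | add x y _ _ hx hy => rw [map_add, hx, hy]
    | smul a x _ hx => rw [map_smul, hx]
  have himg : (b.exteriorPower r) '' {s | star ∈ s} = Set.range v := by
    ext y
    constructor
    · rintro ⟨s, hs, rfl⟩
      exact ⟨⟨s, hs⟩, rfl⟩
    · rintro ⟨⟨s, hs⟩, rfl⟩
      exact ⟨s, hs, rfl⟩
  have hker : LinearMap.ker (exteriorPower.map r π) = Submodule.span W (Set.range v) := by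
    apply le_antisymm
    · intro x hx
      have hx' : exteriorPower.map r π x = 0 := hx
      have htop : x ∈ Submodule.span W ((b.exteriorPower r) '' {s | star ∈ s}) ⊔
          Submodule.span W ((b.exteriorPower r) '' {s | star ∉ s}) := by
        rw [← Submodule.span_union, ← Set.image_union]
        have hU : {s : Set.powersetCard I r | star ∈ s} ∪ {s | star ∉ s} = Set.univ := by
          ext s
          simp only [Set.mem_union, Set.mem_setOf_eq, Set.mem_univ, iff_true]
          exact em _
        rw [hU, Set.image_univ, (b.exteriorPower r).span_eq]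
        exact Submodule.mem_top
      obtain ⟨t, ht, l, hl, rfl⟩ := Submodule.mem_sup.mp htop
      have het : exteriorPower.map r π t = 0 := hA ht
      have hel := hAc l hl
      rw [map_add, het, hel, zero_add] at hx'
      rw [hx', add_zero, ← himg]
      exact ht
    · rw [← himg]
      exact hA
  exact ⟨(Module.Basis.span hli).map (LinearEquiv.ofEq _ _ hker.symm)⟩

end kerbasis

theorem choose_aux (m r : ℕ) (hr : 1 ≤ r) : (m + 1).choose r = m.choose (r - 1) + m.choose r := by
  obtain ⟨r', rfl⟩ : ∃ r', r = r' + 1 := ⟨r - 1, by omega⟩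
  rw [Nat.add_sub_cancel, Nat.choose_succ_succ]

section main

variable {p : ℕ} [hp : Fact p.Prime] {R : Type u} [CommRing R]
variable {P : Type v} [AddCommGroup P] [Module (WittVector p R) P]
variable (D : Display3n p R P) (L T : Submodule (WittVector p R) P) (hLT : IsCompl L T)
  (hQ : D.Q = L ⊔ IV p R • T) (r : ℕ)

include hQ in
theorem prT_mem_IV (y : P) (hy : y ∈ D.Q) : T.projection L hLT.symm y ∈
    IV p R • (⊤ : Submodule (WittVector p R) P) := by
  rw [hQ] at hy
  obtain ⟨l, hl, s, hs, rfl⟩ := Submodule.mem_sup.mp hy
  rw [map_add, (Submodule.projection_apply_eq_zero_iff hLT.symm).mpr hl, zero_add]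
  exact map_mem_smul_top _ _ (Submodule.smul_mono le_rfl le_top hs)

/-- The idempotent `⋀^r pr_L`. -/
noncomputable def eL : ⋀[WittVector p R]^r P →ₗ[WittVector p R] ⋀[WittVector p R]^r P :=
  exteriorPower.map r (L.projection T hLT)

theorem eL_ιMulti (x : Fin r → P) :
    eL L T hLT r (exteriorPower.ιMulti (WittVector p R) r x) =
      exteriorPower.ιMulti (WittVector p R) r (fun i => L.projection T hLT (x i)) :=
  exteriorPower.map_apply_ιMulti _ _

theorem eL_idem (x : ⋀[WittVector p R]^r P) : eL L T hLT r (eL L T hLT r x) = eL L T hLT r x := by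
  have h1 : (L.projection T hLT) ∘ₗ (L.projection T hLT) = L.projection T hLT :=
    LinearMap.ext (fun y => (Submodule.projection_eq_self_iff hLT _).mpr
      (Submodule.projection_apply_mem hLT y))
  show (exteriorPower.map r (L.projection T hLT) ∘ₗ exteriorPower.map r (L.projection T hLT)) x =
    exteriorPower.map r (L.projection T hLT) x
  rw [← exteriorPower.map_comp, h1]

include hQ in
theorem Q_eq (E : Display3n p R (⋀[WittVector p R]^r P)) (hE : IsExtPow D r E) :
    E.Q = LinearMap.range (eL L T hLT r) ⊔ IV p R • LinearMap.ker (eL L T hLT r) := by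
  have hLQ : L ≤ D.Q := hQ ▸ le_sup_left
  apply le_antisymm
  · rw [hE.1, Submodule.span_le]
    rintro _ ⟨q, rfl⟩
    have hz1 : exteriorPower.ιMulti (WittVector p R) r (fun i => (q i : P)) -
        eL L T hLT r (exteriorPower.ιMulti (WittVector p R) r (fun i => (q i : P))) ∈
        IV p R • (⊤ : Submodule (WittVector p R) (⋀[WittVector p R]^r P)) := by
      rw [eL_ιMulti]
      refine multilinear_congr_mod (exteriorPower.ιMulti (WittVector p R) r).toMultilinearMap
        (IV p R) _ _ (fun i => ?_)
      have h0 := Submodule.projection_add_projection_eq_self hLT (q i : P)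
      have h1 : (q i : P) - L.projection T hLT (q i : P) = T.projection L hLT.symm (q i : P) := by
        rw [sub_eq_iff_eq_add, add_comm]
        exact h0.symm
      rw [h1]
      exact prT_mem_IV D L T hLT hQ _ (q i).2
    have hz2 : eL L T hLT r (exteriorPower.ιMulti (WittVector p R) r (fun i => (q i : P)) -
        eL L T hLT r (exteriorPower.ιMulti (WittVector p R) r (fun i => (q i : P)))) = 0 := by
      rw [map_sub, eL_idem, sub_self]
    have hz3 : exteriorPower.ιMulti (WittVector p R) r (fun i => (q i : P)) -
        eL L T hLT r (exteriorPower.ιMulti (WittVector p R) r (fun i => (q i : P))) ∈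
        IV p R • LinearMap.ker (eL L T hLT r) := by
      have h3 := Submodule.mem_map_of_mem (f := LinearMap.id - eL L T hLT r) hz1
      rw [LinearMap.sub_apply, LinearMap.id_apply, hz2, sub_zero, Submodule.map_smul'',
        Submodule.map_top] at h3
      refine Submodule.smul_mono le_rfl ?_ h3
      rintro _ ⟨x, rfl⟩
      rw [LinearMap.mem_ker, LinearMap.sub_apply, LinearMap.id_apply, map_sub, eL_idem, sub_self]
    have h4 : exteriorPower.ιMulti (WittVector p R) r (fun i => (q i : P)) =
        eL L T hLT r (exteriorPower.ιMulti (WittVector p R) r (fun i => (q i : P))) +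
        (exteriorPower.ιMulti (WittVector p R) r (fun i => (q i : P)) -
          eL L T hLT r (exteriorPower.ιMulti (WittVector p R) r (fun i => (q i : P)))) := by
      abel
    have h5 := Submodule.add_mem_sup (LinearMap.mem_range_self (eL L T hLT r)
      (exteriorPower.ιMulti (WittVector p R) r (fun i => (q i : P)))) hz3
    rw [← h4] at h5
    exact h5
  · refine sup_le ?_ ?_
    · rw [LinearMap.range_eq_map, ← exteriorPower.ιMulti_span, Submodule.map_span,
        Submodule.span_le]
      rintro _ ⟨_, ⟨x, rfl⟩, rfl⟩
      show eL L T hLT r (exteriorPower.ιMulti (WittVector p R) r x) ∈ E.Q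
      rw [eL_ιMulti, hE.1]
      exact Submodule.subset_span ⟨fun i => ⟨L.projection T hLT (x i),
        hLQ (Submodule.projection_apply_mem hLT _)⟩, rfl⟩
    · exact (Submodule.smul_mono le_rfl le_top).trans E.IV_smul_le

include hLT hQ in
theorem ext_rank [Nontrivial R] (m : ℕ) (hL : Module.Free (WittVector p R) L)
    (hLr : Module.finrank (WittVector p R) L = m)
    (hT : Nonempty (T ≃ₗ[WittVector p R] WittVector p R)) (hr : 1 ≤ r)
    (E : Display3n p R (⋀[WittVector p R]^r P)) (hE : IsExtPow D r E) :
    ∃ L' T' : Submodule (WittVector p R) (⋀[WittVector p R]^r P), IsCompl L' T' ∧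
      E.Q = L' ⊔ IV p R • T' ∧ Module.Free (WittVector p R) T' ∧
      Module.finrank (WittVector p R) T' = m.choose (r - 1) := by
  classical
  haveI : Nontrivial (WittVector p R) :=
    (WittVector.constantCoeff : WittVector p R →+* R).domain_nontrivial
  haveI := D.finite
  haveI : Module.Finite (WittVector p R) L :=
    Module.Finite.of_surjective (L.projectionOnto T hLT) (Submodule.projectionOnto_surjective hLT)
  obtain ⟨tE⟩ := hT
  haveI : Module.Free (WittVector p R) T := Module.Free.of_equiv tE.symm
  haveI : Module.Finite (WittVector p R) T := Module.Finite.equiv tE.symm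
  haveI : Module.Free (WittVector p R) P :=
    Module.Free.of_equiv (Submodule.prodEquivOfIsCompl L T hLT)
  have hrankP : Module.finrank (WittVector p R) P = m + 1 := by
    rw [← LinearEquiv.finrank_eq (Submodule.prodEquivOfIsCompl L T hLT), Module.finrank_prod, hLr,
      LinearEquiv.finrank_eq tE, Module.finrank_self]
  have hc := isCompl_range_ker (eL L T hLT r) (eL_idem L T hLT r)
  -- the basis of `P`
  let bL := Module.Free.chooseBasis (WittVector p R) L
  let bT : Module.Basis Unit (WittVector p R) T :=
    (Module.Basis.singleton Unit (WittVector p R)).map tE.symm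
  let b : Module.Basis (Module.Free.ChooseBasisIndex (WittVector p R) L ⊕ Unit)
      (WittVector p R) P := (bL.prod bT).map (Submodule.prodEquivOfIsCompl L T hLT)
  have hb_inl : ∀ i, b (Sum.inl i) = (bL i : P) := by
    intro i
    show (bL.prod bT).map (Submodule.prodEquivOfIsCompl L T hLT) (Sum.inl i) = _
    rw [Module.Basis.map_apply, Submodule.coe_prodEquivOfIsCompl', Module.Basis.prod_apply_inl_fst,
      Module.Basis.prod_apply_inl_snd, Submodule.coe_zero, add_zero]
  have hb_inr : b (Sum.inr ()) = (bT () : P) := by
    show (bL.prod bT).map (Submodule.prodEquivOfIsCompl L T hLT) (Sum.inr ()) = _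
    rw [Module.Basis.map_apply, Submodule.coe_prodEquivOfIsCompl', Module.Basis.prod_apply_inr_fst,
      Module.Basis.prod_apply_inr_snd, Submodule.coe_zero, zero_add]
  have h0 : L.projection T hLT (b (Sum.inr ())) = 0 := by
    rw [hb_inr]
    exact (Submodule.projection_apply_eq_zero_iff hLT).mpr (bT ()).2
  have h1 : ∀ i, i ≠ Sum.inr () → L.projection T hLT (b i) = b i := by
    intro i hi
    rcases i with j | u
    · rw [hb_inl]
      exact (Submodule.projection_eq_self_iff hLT _).mpr (bL j).2
    · exact absurd rfl hi
  letI : LinearOrder (Module.Free.ChooseBasisIndex (WittVector p R) L ⊕ Unit) :=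
    linearOrderOfSTO WellOrderingRel
  obtain ⟨Bk⟩ := exists_basis_ker b (L.projection T hLT) (Sum.inr ()) h0 h1 r
  have hfree : Module.Free (WittVector p R) (LinearMap.ker (eL L T hLT r)) :=
    Module.Free.of_basis Bk
  haveI := hfree
  haveI : Module.Finite (WittVector p R) (LinearMap.ker (eL L T hLT r)) :=
    Module.Finite.of_surjective ((LinearMap.ker (eL L T hLT r)).projectionOnto
      (LinearMap.range (eL L T hLT r)) hc.symm) (Submodule.projectionOnto_surjective hc.symm)
  refine ⟨LinearMap.range (eL L T hLT r), LinearMap.ker (eL L T hLT r), hc,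
    Q_eq D L T hLT hQ r E hE, hfree, ?_⟩
  have hinj : Function.Injective (exteriorPower.map r L.subtype) :=
    exteriorPower.map_injective (L.projectionOnto T hLT) (Submodule.projectionOnto_comp_subtype hLT)
  have hrange : LinearMap.range (eL L T hLT r) = LinearMap.range (exteriorPower.map r L.subtype) := by
    have h2 : eL L T hLT r = exteriorPower.map r L.subtype ∘ₗ
        exteriorPower.map r (L.projectionOnto T hLT) := by
      show exteriorPower.map r (L.subtype ∘ₗ L.projectionOnto T hLT) = _
      rw [exteriorPower.map_comp]
    rw [h2, LinearMap.range_comp_of_range_eq_top _ (LinearMap.range_eq_top.mpr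
      (exteriorPower.map_surjective (Submodule.projectionOnto_surjective hLT)))]
  let eqv : ⋀[WittVector p R]^r L ≃ₗ[WittVector p R] LinearMap.range (eL L T hLT r) :=
    (LinearEquiv.ofInjective _ hinj).trans (LinearEquiv.ofEq _ _ hrange.symm)
  haveI : Module.Free (WittVector p R) (LinearMap.range (eL L T hLT r)) := Module.Free.of_equiv eqv
  haveI : Module.Finite (WittVector p R) (LinearMap.range (eL L T hLT r)) :=
    Module.Finite.equiv eqv
  have h3 : Module.finrank (WittVector p R) (LinearMap.range (eL L T hLT r)) = m.choose r := by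
    rw [← LinearEquiv.finrank_eq eqv, exteriorPower.finrank_eq, hLr]
  have h4 : Module.finrank (WittVector p R) (⋀[WittVector p R]^r P) = (m + 1).choose r := by
    rw [exteriorPower.finrank_eq, hrankP]
  have h5 : Module.finrank (WittVector p R)
      (LinearMap.range (eL L T hLT r) × LinearMap.ker (eL L T hLT r)) =
      Module.finrank (WittVector p R) (⋀[WittVector p R]^r P) :=
    LinearEquiv.finrank_eq (Submodule.prodEquivOfIsCompl _ _ hc)
  rw [Module.finrank_prod, h3, h4, choose_aux m r hr] at h5
  omega

end main

end H10DR
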