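import Mathlib
import Groth.Prelude.Def_W4c1extbt610Disp
import Groth.Agent.Lib.Helper10.DispExtRank
import Groth.Agent.Lib.Helper10.DispExt
import Groth.Agent.Lib.Helper10.DispBCExist

/-!
# Existence and uniqueness of the exterior powers of a 3n-display with tangent module of rank one
-/

set_option autoImplicit false
universe u v w

namespace H10DX

open WittVector W4c1extbt610 H10Adic H10WI

section expand

variable {W : Type u} [CommRing W] {M : Type v} {N : Type w} [AddCommGroup M] [Module W M]
  [AddCommGroup N] [Module W N]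
variable {ι : Type*} [Fintype ι] [DecidableEq ι]

theorem alt_update_tau (f : M [⋀^ι]→ₗ[W] N) (u : ι → M) (a : ι → W) (τ : M) (k : ι) :
    ∀ s : Finset ι, k ∉ s →
      f (Function.update (s.piecewise (fun j => u j + a j • τ) u) k τ) =
        f (Function.update u k τ) := by
  intro s
  induction s using Finset.induction_on with
  | empty =>
    intro _
    rw [Finset.piecewise_empty]
  | insert j s hj ih =>
    intro hk
    have hkj : k ≠ j := fun h => hk (h ▸ Finset.mem_insert_self j s)
    have hks : k ∉ s := fun h => hk (Finset.mem_insert_of_mem h)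
    have hz : (s.piecewise (fun j => u j + a j • τ) u) j = u j :=
      Finset.piecewise_eq_of_notMem _ _ _ hj
    rw [Finset.piecewise_insert, Function.update_comm hkj.symm]
    rw [AlternatingMap.map_update_add, AlternatingMap.map_update_smul]
    have h0 : f (Function.update (Function.update
        (s.piecewise (fun j => u j + a j • τ) u) k τ) j τ) = 0 := by
      refine f.map_eq_zero_of_eq _ (i := j) (j := k) ?_ hkj.symm
      rw [Function.update_self, Function.update_of_ne hkj, Function.update_self]
    rw [h0, smul_zero, add_zero, Function.update_comm hkj, ← hz, Function.update_eq_self]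
    exact ih hks

theorem alt_expand (f : M [⋀^ι]→ₗ[W] N) (u : ι → M) (a : ι → W) (τ : M) :
    f (fun j => u j + a j • τ) = f u + ∑ i, a i • f (Function.update u i τ) := by
  have key : ∀ s : Finset ι, f (s.piecewise (fun j => u j + a j • τ) u) =
      f u + ∑ i ∈ s, a i • f (Function.update u i τ) := by
    intro s
    induction s using Finset.induction_on with
    | empty => rw [Finset.piecewise_empty, Finset.sum_empty, add_zero]
    | insert k s hk ih =>
      have hz : (s.piecewise (fun j => u j + a j • τ) u) k = u k :=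
        Finset.piecewise_eq_of_notMem _ _ _ hk
      rw [Finset.piecewise_insert, Finset.sum_insert hk]
      rw [AlternatingMap.map_update_add, AlternatingMap.map_update_smul,
        alt_update_tau f u a τ k s hk, ← hz, Function.update_eq_self, ih]
      abel
  have h1 := key Finset.univ
  rwa [Finset.piecewise_univ] at h1

theorem comp_update {F : Type*} [FunLike F M N] (Φ : F) {κ : Type*} [DecidableEq κ]
    (x : κ → M) (i : κ) (v : M) :
    (fun j => Φ (Function.update x i v j)) = Function.update (fun j => Φ (x j)) i (Φ v) := by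
  funext j
  exact Function.apply_update (fun _ y => Φ y) x i v j

end expand

section twist

variable {W : Type u} [CommRing W] (σ : W →+* W) (M : Type v) [AddCommGroup M] [Module W M]
  (r : ℕ)

/-- `⋀^r M` with scalars acting through `σ`. -/
@[nolint unusedArguments]
def Tw (_σ : W →+* W) (M : Type v) [AddCommGroup M] [Module W M] (r : ℕ) : Type _ := ⋀[W]^r M

noncomputable instance : AddCommGroup (Tw σ M r) := inferInstanceAs (AddCommGroup (⋀[W]^r M))

noncomputable instance : Module W (Tw σ M r) := Module.compHom (⋀[W]^r M) σ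

variable {M}

/-- `(x_i) ↦ Φ x_1 ∧ ⋯ ∧ Φ x_r` as an alternating map into the twisted module. -/
noncomputable def twAlt (Φ : M →ₛₗ[σ] M) : M [⋀^Fin r]→ₗ[W] Tw σ M r where
  toFun x := (exteriorPower.ιMulti W r (fun i => Φ (x i)) : ⋀[W]^r M)
  map_update_add' := by
    intro _ x i a b
    show exteriorPower.ιMulti W r (fun j => Φ (Function.update x i (a + b) j)) =
      (exteriorPower.ιMulti W r (fun j => Φ (Function.update x i a j)) +
        exteriorPower.ιMulti W r (fun j => Φ (Function.update x i b j)) : ⋀[W]^r M)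
    rw [comp_update Φ x i (a + b), comp_update Φ x i a, comp_update Φ x i b, map_add,
      AlternatingMap.map_update_add]
  map_update_smul' := by
    intro _ x i c a
    show exteriorPower.ιMulti W r (fun j => Φ (Function.update x i (c • a) j)) =
      (σ c • exteriorPower.ιMulti W r (fun j => Φ (Function.update x i a j)) : ⋀[W]^r M)
    rw [comp_update Φ x i (c • a), comp_update Φ x i a, map_smulₛₗ,
      AlternatingMap.map_update_smul]
  map_eq_zero_of_eq' := by
    intro x i j h hij
    show exteriorPower.ιMulti W r (fun k => Φ (x k)) = 0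
    exact (exteriorPower.ιMulti W r).map_eq_zero_of_eq _
      (by show Φ (x i) = Φ (x j); rw [h]) hij

/-- The `σ`-semilinear map `⋀^r Φ`. -/
noncomputable def extSemi (Φ : M →ₛₗ[σ] M) : ⋀[W]^r M →ₛₗ[σ] ⋀[W]^r M where
  toFun x := exteriorPower.alternatingMapLinearEquiv (twAlt σ r Φ) x
  map_add' x y := map_add (exteriorPower.alternatingMapLinearEquiv (twAlt σ r Φ)) x y
  map_smul' c x := map_smul (exteriorPower.alternatingMapLinearEquiv (twAlt σ r Φ)) c x

theorem extSemi_ιMulti (Φ : M →ₛₗ[σ] M) (x : Fin r → M) :
    extSemi σ r Φ (exteriorPower.ιMulti W r x) =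
      exteriorPower.ιMulti W r (fun i => Φ (x i)) :=
  exteriorPower.alternatingMapLinearEquiv_apply_ιMulti (twAlt σ r Φ) x

theorem ext_projective [Module.Finite W M] [Module.Projective W M] :
    Module.Projective W (⋀[W]^r M) := by
  obtain ⟨n, ρ, i, _, _, hρi⟩ := Module.Finite.exists_comp_eq_id_of_projective W M
  refine Module.Projective.of_split (exteriorPower.map r i) (exteriorPower.map r ρ) ?_
  rw [← exteriorPower.map_comp, hρi, exteriorPower.map_id]

end twist

section main

variable {p : ℕ} [hp : Fact p.Prime] {R : Type u} [CommRing R]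
variable {P : Type v} [AddCommGroup P] [Module (WittVector p R) P]
variable (D : Display3n p R P) (L T : Submodule (WittVector p R) P) (hLT : IsCompl L T)
  (hQ : D.Q = L ⊔ IV p R • T) (tE : T ≃ₗ[WittVector p R] WittVector p R) (r : ℕ)

/-- The generator of `T`. -/
noncomputable def tt : P := ((tE.symm 1 : T) : P)

/-- The coordinate along `T`. -/
noncomputable def cc : P →ₗ[WittVector p R] WittVector p R :=
  tE.toLinearMap ∘ₗ T.projectionOnto L hLT.symm

theorem decomp (x : P) : x = L.projection T hLT x + cc L T hLT tE x • tt T tE := by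
  have h0 := (Submodule.projection_add_projection_eq_self hLT x).symm
  have h1 : T.projection L hLT.symm x = cc L T hLT tE x • tt T tE := by
    show ((T.projectionOnto L hLT.symm x : T) : P) =
      (tE (T.projectionOnto L hLT.symm x)) • ((tE.symm 1 : T) : P)
    rw [← Submodule.coe_smul, ← map_smul, smul_eq_mul, mul_one, LinearEquiv.symm_apply_apply]
  rw [← h1]
  exact h0

/-- The complementary idempotent `1 - e_L`. -/
noncomputable def eT : ⋀[WittVector p R]^r P →ₗ[WittVector p R] ⋀[WittVector p R]^r P :=
  LinearMap.id - H10DR.eL L T hLT r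

theorem eT_apply (y : ⋀[WittVector p R]^r P) :
    eT L T hLT r y = y - H10DR.eL L T hLT r y := rfl

include hQ in
theorem cc_mem_IV (y : P) (hy : y ∈ D.Q) : cc L T hLT tE y ∈ IV p R := by
  have h1 := H10DR.prT_mem_IV D L T hLT hQ y hy
  have h2 : cc L T hLT tE (T.projection L hLT.symm y) = cc L T hLT tE y := by
    show tE (T.projectionOnto L hLT.symm (T.projection L hLT.symm y)) =
      tE (T.projectionOnto L hLT.symm y)
    rw [Submodule.projectionOnto_projection]
  have h3 := map_mem_smul_top (IV p R) (cc L T hLT tE) h1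
  rw [h2, smul_eq_mul, Ideal.mul_top] at h3
  exact h3

/-- The submodule spanned by the wedges of elements of `Q`. -/
noncomputable def QE : Submodule (WittVector p R) (⋀[WittVector p R]^r P) :=
  Submodule.span (WittVector p R) (Set.range fun q : Fin r → D.Q =>
    exteriorPower.ιMulti (WittVector p R) r (fun i => (q i : P)))

theorem wedge_mem_QE (y : Fin r → P) (hy : ∀ i, y i ∈ D.Q) :
    exteriorPower.ιMulti (WittVector p R) r y ∈ QE D r :=
  Submodule.subset_span ⟨fun i => ⟨y i, hy i⟩, rfl⟩

theorem wedge_expand (x : Fin r → P) :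
    exteriorPower.ιMulti (WittVector p R) r x =
      exteriorPower.ιMulti (WittVector p R) r (fun j => L.projection T hLT (x j)) +
      ∑ i, cc L T hLT tE (x i) • exteriorPower.ιMulti (WittVector p R) r
        (Function.update (fun j => L.projection T hLT (x j)) i (tt T tE)) := by
  have h := alt_expand (exteriorPower.ιMulti (WittVector p R) r)
    (fun j => L.projection T hLT (x j)) (fun j => cc L T hLT tE (x j)) (tt T tE)
  rw [← h]
  congr 1
  funext j
  exact decomp L T hLT tE (x j)

include hLT hQ tE in
theorem IV_smul_le_QE :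
    IV p R • (⊤ : Submodule (WittVector p R) (⋀[WittVector p R]^r P)) ≤ QE D r := by
  have hLQ : L ≤ D.Q := hQ ▸ le_sup_left
  rw [Submodule.smul_le]
  intro a ha z hztop
  clear hztop
  have hz : z ∈ Submodule.span (WittVector p R)
      (Set.range (exteriorPower.ιMulti (WittVector p R) r (M := P))) := by
    rw [exteriorPower.ιMulti_span]
    exact Submodule.mem_top
  induction hz using Submodule.span_induction with
  | mem z hz =>
    obtain ⟨x, rfl⟩ := hz
    rw [wedge_expand L T hLT tE r x, smul_add, Finset.smul_sum]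
    refine Submodule.add_mem _ (Submodule.smul_mem _ _ (wedge_mem_QE D r _
      (fun i => hLQ (Submodule.projection_apply_mem hLT _))))
      (Submodule.sum_mem _ (fun i _ => ?_))
    rw [smul_smul, ← AlternatingMap.map_update_smul]
    refine wedge_mem_QE D r _ (fun j => ?_)
    by_cases hj : j = i
    · rw [hj, Function.update_self]
      exact D.IV_smul_le (Submodule.smul_mem_smul (Ideal.mul_mem_right _ _ ha) Submodule.mem_top)
    · rw [Function.update_of_ne hj]
      exact hLQ (Submodule.projection_apply_mem hLT _)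
  | zero =>
    rw [smul_zero]
    exact Submodule.zero_mem _
  | add x y _ _ hx hy =>
    rw [smul_add]
    exact Submodule.add_mem _ hx hy
  | smul b x _ hx =>
    rw [smul_comm]
    exact Submodule.smul_mem _ _ hx

include hQ in
theorem QE_le : QE D r ≤ LinearMap.range (H10DR.eL L T hLT r) ⊔
    IV p R • LinearMap.ker (H10DR.eL L T hLT r) := by
  rw [QE, Submodule.span_le]
  rintro _ ⟨q, rfl⟩
  have hz1 : exteriorPower.ιMulti (WittVector p R) r (fun i => (q i : P)) -
      H10DR.eL L T hLT r (exteriorPower.ιMulti (WittVector p R) r (fun i => (q i : P))) ∈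
      IV p R • (⊤ : Submodule (WittVector p R) (⋀[WittVector p R]^r P)) := by
    rw [H10DR.eL_ιMulti]
    refine H10DR.multilinear_congr_mod
      (exteriorPower.ιMulti (WittVector p R) r).toMultilinearMap (IV p R) _ _ (fun i => ?_)
    have h0 := Submodule.projection_add_projection_eq_self hLT (q i : P)
    have h1 : (q i : P) - L.projection T hLT (q i : P) = T.projection L hLT.symm (q i : P) := by
      rw [sub_eq_iff_eq_add, add_comm]
      exact h0.symm
    rw [h1]
    exact H10DR.prT_mem_IV D L T hLT hQ _ (q i).2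
  have hz2 : H10DR.eL L T hLT r (exteriorPower.ιMulti (WittVector p R) r (fun i => (q i : P)) -
      H10DR.eL L T hLT r (exteriorPower.ιMulti (WittVector p R) r (fun i => (q i : P)))) = 0 := by
    rw [map_sub, H10DR.eL_idem, sub_self]
  have hz3 : exteriorPower.ιMulti (WittVector p R) r (fun i => (q i : P)) -
      H10DR.eL L T hLT r (exteriorPower.ιMulti (WittVector p R) r (fun i => (q i : P))) ∈
      IV p R • LinearMap.ker (H10DR.eL L T hLT r) := by
    have h3 := Submodule.mem_map_of_mem (f := eT L T hLT r) hz1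
    rw [eT_apply, hz2, sub_zero, Submodule.map_smul'',
      Submodule.map_top] at h3
    refine Submodule.smul_mono le_rfl ?_ h3
    rintro _ ⟨x, rfl⟩
    rw [LinearMap.mem_ker, eT_apply, map_sub, H10DR.eL_idem,
      sub_self]
  have h4 : exteriorPower.ιMulti (WittVector p R) r (fun i => (q i : P)) =
      H10DR.eL L T hLT r (exteriorPower.ιMulti (WittVector p R) r (fun i => (q i : P))) +
      (exteriorPower.ιMulti (WittVector p R) r (fun i => (q i : P)) -
        H10DR.eL L T hLT r (exteriorPower.ιMulti (WittVector p R) r (fun i => (q i : P)))) := by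
    abel
  have h5 := Submodule.add_mem_sup (LinearMap.mem_range_self (H10DR.eL L T hLT r)
    (exteriorPower.ιMulti (WittVector p R) r (fun i => (q i : P)))) hz3
  rw [← h4] at h5
  exact h5

include hLT hQ tE in
theorem QE_eq : QE D r = LinearMap.range (H10DR.eL L T hLT r) ⊔
    IV p R • LinearMap.ker (H10DR.eL L T hLT r) := by
  have hLQ : L ≤ D.Q := hQ ▸ le_sup_left
  apply le_antisymm (QE_le D L T hLT hQ r)
  refine sup_le ?_ ?_
  · rw [LinearMap.range_eq_map, ← exteriorPower.ιMulti_span, Submodule.map_span,
      Submodule.span_le]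
    rintro _ ⟨_, ⟨x, rfl⟩, rfl⟩
    show H10DR.eL L T hLT r (exteriorPower.ιMulti (WittVector p R) r x) ∈ QE D r
    rw [H10DR.eL_ιMulti]
    exact wedge_mem_QE D r _ (fun i => hLQ (Submodule.projection_apply_mem hLT _))
  · exact (Submodule.smul_mono le_rfl le_top).trans (IV_smul_le_QE D L T hLT hQ tE r)

include hQ in
theorem sub_eL_mem (y : ⋀[WittVector p R]^r P) (hy : y ∈ QE D r) :
    (eT L T hLT r) y ∈
      IV p R • (⊤ : Submodule (WittVector p R) (⋀[WittVector p R]^r P)) := by
  obtain ⟨a, ⟨a', rfl⟩, b, hb, rfl⟩ := Submodule.mem_sup.mp (QE_le D L T hLT hQ r hy)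
  have hb' : H10DR.eL L T hLT r b = 0 := by
    have h0 : IV p R • LinearMap.ker (H10DR.eL L T hLT r) ≤ LinearMap.ker (H10DR.eL L T hLT r) :=
      Submodule.smul_le.mpr (fun c _ n hn => Submodule.smul_mem _ c hn)
    exact h0 hb
  rw [eT_apply, map_add, H10DR.eL_idem, hb', add_zero,
    add_sub_cancel_left]
  exact Submodule.smul_mono le_rfl le_top hb

/-- `⋀^r Φ`. -/
noncomputable def LamPhi : ⋀[WittVector p R]^r P →ₛₗ[(WittVector.frobenius :
    WittVector p R →+* WittVector p R)] ⋀[WittVector p R]^r P :=
  extSemi (WittVector.frobenius : WittVector p R →+* WittVector p R) r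
    (H10BE.PhiS D L T hLT hQ)

theorem LamPhi_ιMulti (x : Fin r → P) :
    LamPhi D L T hLT hQ r (exteriorPower.ιMulti (WittVector p R) r x) =
      exteriorPower.ιMulti (WittVector p R) r (fun i => H10BE.PhiS D L T hLT hQ (x i)) :=
  extSemi_ιMulti _ r _ x

/-- The operator `V⁻¹` of the exterior power. -/
noncomputable def VinvE
    (d : ↥(IV p R • (⊤ : Submodule (WittVector p R) (⋀[WittVector p R]^r P))) →ₛₗ[
      (WittVector.frobenius : WittVector p R →+* WittVector p R)] ⋀[WittVector p R]^r P) :
    ↥(QE D r) →ₛₗ[(WittVector.frobenius : WittVector p R →+* WittVector p R)]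
      ⋀[WittVector p R]^r P :=
  (LamPhi D L T hLT hQ r).comp ((H10DR.eL L T hLT r).comp (QE D r).subtype) +
    d.comp (LinearMap.codRestrict _
      ((eT L T hLT r).comp (QE D r).subtype)
      (fun y => sub_eL_mem D L T hLT hQ r y.1 y.2))

theorem VinvE_apply
    (d : ↥(IV p R • (⊤ : Submodule (WittVector p R) (⋀[WittVector p R]^r P))) →ₛₗ[
      (WittVector.frobenius : WittVector p R →+* WittVector p R)] ⋀[WittVector p R]^r P)
    (y : ⋀[WittVector p R]^r P) (hy : y ∈ QE D r) :
    VinvE D L T hLT hQ r d ⟨y, hy⟩ =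
      LamPhi D L T hLT hQ r (H10DR.eL L T hLT r y) +
        d ⟨(eT L T hLT r) y, sub_eL_mem D L T hLT hQ r y hy⟩ := rfl

/-- The operator `F` of the exterior power. -/
noncomputable def FE : ⋀[WittVector p R]^r P →ₛₗ[(WittVector.frobenius :
    WittVector p R →+* WittVector p R)] ⋀[WittVector p R]^r P :=
  (LamPhi D L T hLT hQ r).comp
    ((p : WittVector p R) • H10DR.eL L T hLT r + (eT L T hLT r))

section withd

variable
  (d : ↥(IV p R • (⊤ : Submodule (WittVector p R) (⋀[WittVector p R]^r P))) →ₛₗ[
      (WittVector.frobenius : WittVector p R →+* WittVector p R)] ⋀[WittVector p R]^r P)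
  (hd : ∀ (a : WittVector p R) (ha : a ∈ IV p R) (x : ⋀[WittVector p R]^r P),
    d ⟨a • x, Submodule.smul_mem_smul ha Submodule.mem_top⟩ = tau a • LamPhi D L T hLT hQ r x)

include hd in
theorem VinvE_verschiebung_smul (w : WittVector p R) (z : ⋀[WittVector p R]^r P)
    (h : verschiebung w • z ∈ QE D r) :
    VinvE D L T hLT hQ r d ⟨verschiebung w • z, h⟩ = w • FE D L T hLT hQ r z := by
  rw [VinvE_apply]
  have e1 : (⟨(eT L T hLT r) (verschiebung w • z),
        sub_eL_mem D L T hLT hQ r _ h⟩ :
        ↥(IV p R • (⊤ : Submodule (WittVector p R) (⋀[WittVector p R]^r P)))) =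
      ⟨verschiebung w • (eT L T hLT r) z,
        Submodule.smul_mem_smul (verschiebung_mem_IV p R w) Submodule.mem_top⟩ :=
    Subtype.ext (map_smul _ _ _)
  rw [e1, hd _ (verschiebung_mem_IV p R w), tau_verschiebung, map_smul, map_smulₛₗ,
    WittVector.frobenius_verschiebung]
  show (w * (p : WittVector p R)) • LamPhi D L T hLT hQ r (H10DR.eL L T hLT r z) +
    w • LamPhi D L T hLT hQ r ((eT L T hLT r) z) =
    w • LamPhi D L T hLT hQ r (((p : WittVector p R) • H10DR.eL L T hLT r +
      (eT L T hLT r)) z)
  rw [LinearMap.add_apply, LinearMap.smul_apply, map_add, map_smulₛₗ, map_natCast, smul_add,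
    mul_smul]

include hd in
theorem VinvE_aux (l : Fin r → P) (hlL : ∀ j, l j ∈ L) (t : P) (htT : t ∈ T)
    (dd : Fin r → WittVector p R) (X : ⋀[WittVector p R]^r P)
    (hX : X = exteriorPower.ιMulti (WittVector p R) r l +
      ∑ i, verschiebung (dd i) • exteriorPower.ιMulti (WittVector p R) r (Function.update l i t))
    (h : X ∈ QE D r) :
    VinvE D L T hLT hQ r d ⟨X, h⟩ =
      exteriorPower.ιMulti (WittVector p R) r
        (fun j => D.Vinv ⟨l j, H10BE.L_le_Q D L T hQ (hlL j)⟩) +
      ∑ i, dd i • exteriorPower.ιMulti (WittVector p R) r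
        (Function.update (fun j => D.Vinv ⟨l j, H10BE.L_le_Q D L T hQ (hlL j)⟩) i (D.F t)) := by
  have hprl : (fun i => L.projection T hLT (l i)) = l :=
    funext (fun j => (Submodule.projection_eq_self_iff hLT _).mpr (hlL j))
  have hprt : L.projection T hLT t = 0 := (Submodule.projection_apply_eq_zero_iff hLT).mpr htT
  have s1 : H10DR.eL L T hLT r X = exteriorPower.ιMulti (WittVector p R) r l := by
    rw [hX, map_add, map_sum, H10DR.eL_ιMulti, hprl]
    have h0 : ∀ i ∈ Finset.univ, H10DR.eL L T hLT r (verschiebung (dd i) •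
        exteriorPower.ιMulti (WittVector p R) r (Function.update l i t)) = 0 := by
      intro i _
      rw [map_smul, H10DR.eL_ιMulti]
      have h1 : exteriorPower.ιMulti (WittVector p R) r
          (fun j => L.projection T hLT (Function.update l i t j)) = 0 := by
        refine (exteriorPower.ιMulti (WittVector p R) r).map_coord_zero i ?_
        show L.projection T hLT (Function.update l i t i) = 0
        rw [Function.update_self, hprt]
      rw [h1, smul_zero]
    rw [Finset.sum_eq_zero h0, add_zero]
  have s2 : (eT L T hLT r) X =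
      ∑ i, verschiebung (dd i) • exteriorPower.ιMulti (WittVector p R) r
        (Function.update l i t) := by
    rw [eT_apply, s1, hX, add_sub_cancel_left]
  have hPt : H10BE.PhiS D L T hLT hQ t = D.F t := by
    rw [H10BE.PhiS_apply]
    have h2 : T.projection L hLT.symm t = t := (Submodule.projection_eq_self_iff hLT.symm t).mpr htT
    have h3 : (⟨L.projection T hLT t, H10BE.prL_mem_Q D L T hLT hQ t⟩ : D.Q) = 0 :=
      Subtype.ext hprt
    rw [h3, map_zero, zero_add, h2]
  have hPl : (fun j => H10BE.PhiS D L T hLT hQ (l j)) =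
      fun j => D.Vinv ⟨l j, H10BE.L_le_Q D L T hQ (hlL j)⟩ :=
    funext (fun j => H10BE.PhiS_of_mem D L T hLT hQ (hlL j))
  have s4 : LamPhi D L T hLT hQ r (exteriorPower.ιMulti (WittVector p R) r l) =
      exteriorPower.ιMulti (WittVector p R) r
        (fun j => D.Vinv ⟨l j, H10BE.L_le_Q D L T hQ (hlL j)⟩) := by
    rw [LamPhi_ιMulti, hPl]
  have s5 : ∀ i, LamPhi D L T hLT hQ r (exteriorPower.ιMulti (WittVector p R) r
      (Function.update l i t)) =
      exteriorPower.ιMulti (WittVector p R) r
        (Function.update (fun j => D.Vinv ⟨l j, H10BE.L_le_Q D L T hQ (hlL j)⟩) i (D.F t)) := by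
    intro i
    rw [LamPhi_ιMulti, comp_update (H10BE.PhiS D L T hLT hQ) l i t, hPt, hPl]
  have e1 : (⟨(eT L T hLT r) X, sub_eL_mem D L T hLT hQ r X h⟩ :
      ↥(IV p R • (⊤ : Submodule (WittVector p R) (⋀[WittVector p R]^r P)))) =
      ∑ i, ⟨verschiebung (dd i) • exteriorPower.ιMulti (WittVector p R) r
        (Function.update l i t),
        Submodule.smul_mem_smul (verschiebung_mem_IV p R (dd i)) Submodule.mem_top⟩ := by
    apply Subtype.ext
    rw [Submodule.coe_sum]
    exact s2
  rw [VinvE_apply, s1, e1, map_sum, s4]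
  congr 1
  refine Finset.sum_congr rfl (fun i _ => ?_)
  rw [hd _ (verschiebung_mem_IV p R (dd i)), tau_verschiebung, s5 i]

include hd tE in
theorem VinvE_wedge (q : Fin r → D.Q)
    (h : exteriorPower.ιMulti (WittVector p R) r (fun i => (q i : P)) ∈ QE D r) :
    VinvE D L T hLT hQ r d ⟨exteriorPower.ιMulti (WittVector p R) r (fun i => (q i : P)), h⟩ =
      exteriorPower.ιMulti (WittVector p R) r (fun i => D.Vinv (q i)) := by
  have hc : ∀ i, ∃ c : WittVector p R, verschiebung c = cc L T hLT tE (q i : P) := by
    intro i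
    have h1 := cc_mem_IV D L T hLT hQ tE _ (q i).2
    rw [H10Disp.IV_eq_II] at h1
    obtain ⟨c, hc⟩ := H10Witt.exists_verschiebung_of_mem h1
    exact ⟨c, hc.symm⟩
  choose dd hdd using hc
  have hlL : ∀ j, L.projection T hLT (q j : P) ∈ L := fun j =>
    Submodule.projection_apply_mem hLT _
  have htT : tt T tE ∈ T := (tE.symm 1).2
  have hdec : ∀ j, (q j : P) = L.projection T hLT (q j : P) + verschiebung (dd j) • tt T tE := by
    intro j
    rw [hdd j]
    exact decomp L T hLT tE (q j : P)
  have hX : exteriorPower.ιMulti (WittVector p R) r (fun i => (q i : P)) =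
      exteriorPower.ιMulti (WittVector p R) r (fun j => L.projection T hLT (q j : P)) +
      ∑ i, verschiebung (dd i) • exteriorPower.ιMulti (WittVector p R) r
        (Function.update (fun j => L.projection T hLT (q j : P)) i (tt T tE)) := by
    have h1 := alt_expand (exteriorPower.ιMulti (WittVector p R) r)
      (fun j => L.projection T hLT (q j : P)) (fun j => verschiebung (dd j)) (tt T tE)
    rw [← h1]
    congr 1
    funext j
    exact hdec j
  rw [VinvE_aux D L T hLT hQ r d hd (fun j => L.projection T hLT (q j : P)) hlL (tt T tE) htT dd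
    _ hX h]
  have s6 : ∀ j, D.Vinv (q j) =
      D.Vinv ⟨L.projection T hLT (q j : P), H10BE.L_le_Q D L T hQ (hlL j)⟩ +
        dd j • D.F (tt T tE) := by
    intro j
    have e : q j = ⟨L.projection T hLT (q j : P), H10BE.L_le_Q D L T hQ (hlL j)⟩ +
        ⟨verschiebung (dd j) • tt T tE, D.IV_smul_le (Submodule.smul_mem_smul
          (verschiebung_mem_IV p R (dd j)) Submodule.mem_top)⟩ := Subtype.ext (hdec j)
    conv_lhs => rw [e]
    rw [map_add, D.Vinv_verschiebung_smul]
  rw [funext s6]
  exact (alt_expand (exteriorPower.ιMulti (WittVector p R) r)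
    (fun j => D.Vinv ⟨L.projection T hLT (q j : P), H10BE.L_le_Q D L T hQ (hlL j)⟩) dd
    (D.F (tt T tE))).symm

include hd tE in
theorem span_range_VinvE :
    Submodule.span (WittVector p R) (Set.range (VinvE D L T hLT hQ r d)) = ⊤ := by
  rw [eq_top_iff, ← exteriorPower.ιMulti_span_of_span (WittVector p R) r P D.span_range_Vinv]
  rw [Submodule.span_le]
  rintro _ ⟨a, ha, rfl⟩
  have ha' : ∀ i, ∃ q : D.Q, D.Vinv q = a i := fun i => ha ⟨i, rfl⟩
  choose q hq using ha'
  refine Submodule.subset_span ⟨⟨exteriorPower.ιMulti (WittVector p R) r (fun i => (q i : P)),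
    wedge_mem_QE D r _ (fun i => (q i).2)⟩, ?_⟩
  rw [VinvE_wedge D L T hLT hQ tE r d hd q _]
  congr 1
  funext i
  exact hq i

include tE hd in
/-- The exterior power display. -/
noncomputable def mkE : Display3n p R (⋀[WittVector p R]^r P) where
  Q := QE D r
  F := FE D L T hLT hQ r
  Vinv := VinvE D L T hLT hQ r d
  finite := by
    haveI := D.finite
    infer_instance
  projective := by
    haveI := D.finite
    haveI := D.projective
    exact ext_projective r
  IV_smul_le := IV_smul_le_QE D L T hLT hQ tE r
  exists_normal := ⟨_, _, H10DR.isCompl_range_ker _ (H10DR.eL_idem L T hLT r),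
    QE_eq D L T hLT hQ tE r⟩
  span_range_Vinv := span_range_VinvE D L T hLT hQ tE r d hd
  Vinv_verschiebung_smul := fun w z => VinvE_verschiebung_smul D L T hLT hQ r d hd w z _

include tE hd in
theorem mkE_isExtPow : IsExtPow D r (mkE D L T hLT hQ tE r d hd) :=
  ⟨rfl, fun q h => VinvE_wedge D L T hLT hQ tE r d hd q h⟩

end withd

end main

section final

variable {p : ℕ} [hp : Fact p.Prime] {R : Type u} [CommRing R]
variable {P : Type v} [AddCommGroup P] [Module (WittVector p R) P]

theorem ext_unique (D : Display3n p R P) (r : ℕ)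
    (E' E : Display3n p R (⋀[WittVector p R]^r P)) (hE' : IsExtPow D r E')
    (hE : IsExtPow D r E) : E' = E := by
  have hid : IsHom E' E LinearMap.id := by
    refine H10DE.isHom_of_span E' E LinearMap.id _ hE'.1 ?_ ?_
    · rintro _ ⟨q, rfl⟩
      rw [LinearMap.id_apply, hE.1]
      exact Submodule.subset_span ⟨q, rfl⟩
    · rintro _ ⟨q, rfl⟩ h h'
      rw [LinearMap.id_apply, hE'.2 q h]
      exact (hE.2 q h').symm
  refine H10BE.display3n_ext E' E (hE'.1.trans hE.1.symm) ?_ ?_
  · apply LinearMap.ext
    intro x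
    exact hid.comm_F x
  · intro y h₁ h₂
    exact hid.comm_Vinv ⟨y, h₁⟩

theorem exists_extPow (D : Display3n p R P)
    (hT : ∃ L T : Submodule (WittVector p R) P, IsCompl L T ∧ D.Q = L ⊔ IV p R • T ∧
      Nonempty (T ≃ₗ[WittVector p R] WittVector p R)) (r : ℕ) :
    ∃ E : Display3n p R (⋀[WittVector p R]^r P), IsExtPow D r E ∧
      ∀ E' : Display3n p R (⋀[WittVector p R]^r P), IsExtPow D r E' → E' = E := by
  obtain ⟨L, T, hLT, hQ, ⟨tE⟩⟩ := hT
  haveI := D.finite
  haveI := D.projective
  haveI : Module.Projective (WittVector p R) (⋀[WittVector p R]^r P) := ext_projective r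
  obtain ⟨d, hd⟩ := H10BE.exists_div (WittVector.frobenius : WittVector p R →+* WittVector p R)
    (IV p R) tau (fun a ha b hb => H10BE.tau_add_IV ha hb) (fun ξ a ha => H10BE.tau_mul_IV ξ ha)
    (LamPhi D L T hLT hQ r)
  exact ⟨mkE D L T hLT hQ tE r d hd, mkE_isExtPow D L T hLT hQ tE r d hd,
    fun E' hE' => ext_unique D r E' _ hE' (mkE_isExtPow D L T hLT hQ tE r d hd)⟩

end final

end H10DX
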