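import Mathlib
import Groth.Prelude.Def_Disp2
import Groth.Agent.Lib.Helper10.DispHomInj
import Groth.Agent.Lib.Helper10.DispBC

/-!
# Homomorphisms of displays and base change along a nilpotent surjection
-/

set_option autoImplicit false
universe u v w

namespace H10HB

open WittVector Dieu H10Adic H10WI H10Vhat H10Disp H10HI

section torsion

variable {p : ℕ} [hp : Fact p.Prime] {S : Type u} [CommRing S]
variable {P : Type v} [AddCommGroup P] [Module (WittVector p S) P]
variable {P' : Type v} [AddCommGroup P'] [Module (WittVector p S) P']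

theorem eq_zero_of_p_smul (hpn : IsNilpotent (p : S)) (hn : IsNilpotent (nilradical S))
    (D : W4c1extbt610.Display3n p S P) (D' : W4c1extbt610.Display3n p S P')
    (hD : IsDisplay D) (ψ : P →ₗ[WittVector p S] P') (hψ : W4c1extbt610.IsHom D D' ψ)
    (h : (p : WittVector p S) • ψ = 0) : ψ = 0 := by
  haveI := D'.finite
  haveI := D'.projective
  obtain ⟨N, hN⟩ := hn
  exact hom_eq_zero D D' hD ψ hψ (nilradical S) (nilradical S) le_rfl
    (mem_nilradical.mpr hpn) N hN (mem_of_p_smul_eq_zero hpn ψ h)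

end torsion

section bc

variable {p : ℕ} [hp : Fact p.Prime] {S R : Type u} [CommRing S] [CommRing R] (f : S →+* R)
variable {P : Type v} [AddCommGroup P] [Module (WittVector p S) P]
variable {P' : Type v} [AddCommGroup P'] [Module (WittVector p S) P']

local notation "gg" => (WittVector.map f : WittVector p S →+* WittVector p R)

theorem ker_gg : RingHom.ker gg = K p (RingHom.ker f) :=
  Ideal.ext (fun x => mem_ker_map_iff f x)

theorem hom_sub (D : W4c1extbt610.Display3n p S P) (D' : W4c1extbt610.Display3n p S P')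
    (ψ χ : P →ₗ[WittVector p S] P') (hψ : W4c1extbt610.IsHom D D' ψ)
    (hχ : W4c1extbt610.IsHom D D' χ) : W4c1extbt610.IsHom D D' (ψ - χ) := by
  have h1 : ∀ q : P, q ∈ D.Q → (ψ - χ) q ∈ D'.Q := fun q hq => by
    rw [LinearMap.sub_apply]
    exact Submodule.sub_mem _ (hψ.mapsTo q hq) (hχ.mapsTo q hq)
  refine isHom_of_Vinv D D' (ψ - χ) h1 (fun q => ?_)
  rw [LinearMap.sub_apply, hψ.comm_Vinv, hχ.comm_Vinv, ← map_sub]
  exact congrArg D'.Vinv (Subtype.ext (LinearMap.sub_apply ψ χ (q : P)).symm)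

theorem injective_part (hf : Function.Surjective f) (hpn : IsNilpotent (p : S))
    (hker : IsNilpotent (RingHom.ker f))
    (D : W4c1extbt610.Display3n p S P) (D' : W4c1extbt610.Display3n p S P')
    (hD : IsDisplay D) (ψ χ : P →ₗ[WittVector p S] P') (hψ : W4c1extbt610.IsHom D D' ψ)
    (hχ : W4c1extbt610.IsHom D D' χ) (h : BC.map gg ψ = BC.map gg χ) : ψ = χ := by
  obtain ⟨N, hN⟩ := exists_nilp (p := p) hpn hker
  have hu := hom_sub D D' ψ χ hψ hχ
  have h0 : ∀ x, (ψ - χ) x ∈ K p (RingHom.ker f) • (⊤ : Submodule (WittVector p S) P') := by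
    intro x
    rw [← ker_gg]
    apply mem_of_tmul_one_eq_zero gg (WittVector.map_surjective f hf)
    rw [LinearMap.sub_apply, sub_eq_add_neg, BC.tmul_add, BC.tmul_neg, ← BC.map_tmul,
      ← BC.map_tmul gg χ, h, add_neg_cancel]
  have hz := hom_eq_zero D D' hD (ψ - χ) hu (RingHom.ker f)
    (RingHom.ker f ⊔ Ideal.span {(p : S)}) le_sup_left
    (Ideal.mem_sup_right (Ideal.subset_span rfl)) N hN h0
  exact sub_eq_zero.mp hz

theorem exists_lift (hf : Function.Surjective f) [Module.Finite (WittVector p S) P]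
    [Module.Projective (WittVector p S) P]
    (χ : BC gg P →ₗ[WittVector p R] BC gg P') :
    ∃ u₀ : P →ₗ[WittVector p S] P', ∀ x, BC.tmul gg 1 (u₀ x) = χ (BC.tmul gg 1 x) := by
  classical
  obtain ⟨r, ρ, i, _, _, hρi⟩ :=
    Module.Finite.exists_comp_eq_id_of_projective (WittVector p S) P
  have hx : ∀ x : P, x = ∑ j, i x j • ρ (fun j' => if j = j' then 1 else 0) := by
    intro x
    have h1 := LinearMap.congr_fun hρi x
    rw [LinearMap.comp_apply, LinearMap.id_apply, LinearMap.pi_apply_eq_sum_univ ρ (i x)] at h1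
    exact h1.symm
  have hsurj : ∀ z : BC gg P', ∃ x' : P', BC.tmul gg 1 x' = z := by
    intro z
    induction z using BC.induction_on gg with
    | zero => exact ⟨0, BC.tmul_zero gg 1⟩
    | tmul b x =>
      obtain ⟨a, rfl⟩ := WittVector.map_surjective f hf b
      exact ⟨a • x, (BC.tmul_apply_eq gg a x).symm⟩
    | add z₁ z₂ h1 h2 =>
      obtain ⟨x1, rfl⟩ := h1
      obtain ⟨x2, rfl⟩ := h2
      exact ⟨x1 + x2, BC.tmul_add gg 1 x1 x2⟩
  choose e' he' using fun j =>
    hsurj (χ (BC.tmul gg 1 (ρ (fun j' => if j = j' then 1 else 0))))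
  refine ⟨(Fintype.linearCombination (WittVector p S) e') ∘ₗ i, fun x => ?_⟩
  rw [LinearMap.comp_apply, Fintype.linearCombination_apply, tmul_one_sum]
  conv_rhs => rw [hx x]
  rw [tmul_one_sum, map_sum]
  refine Finset.sum_congr rfl (fun j _ => ?_)
  rw [map_smul, he']

theorem lift_mem_sup (hf : Function.Surjective f)
    (D : W4c1extbt610.Display3n p S P) (D' : W4c1extbt610.Display3n p S P')
    (DR : W4c1extbt610.Display3n p R (BC gg P)) (hDR : IsDispBaseChange f D DR)
    (DR' : W4c1extbt610.Display3n p R (BC gg P')) (hDR' : IsDispBaseChange f D' DR')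
    (χ : BC gg P →ₗ[WittVector p R] BC gg P') (hχ : W4c1extbt610.IsHom DR DR' χ)
    (u₀ : P →ₗ[WittVector p S] P') (hu₀ : ∀ x, BC.tmul gg 1 (u₀ x) = χ (BC.tmul gg 1 x))
    (y : D.Q) :
    u₀ (y : P) ∈ D'.Q ⊔ K p (RingHom.ker f) • (⊤ : Submodule (WittVector p S) P') := by
  have h1 : BC.tmul gg 1 (u₀ (y : P)) ∈ DR'.Q := by
    rw [hu₀]
    exact hχ.mapsTo _ (tmul_one_mem_Q f D DR hDR y)
  rw [hDR'.Q_eq, LinearMap.mem_ker, bcQuotMap_tmul, map_one] at h1
  have hG : Function.Surjective ((WittVector.constantCoeff : WittVector p R →+* R).comp gg) := by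
    intro r
    obtain ⟨s, rfl⟩ := hf r
    refine ⟨WittVector.teichmuller p s, ?_⟩
    rw [RingHom.comp_apply, WittVector.constantCoeff_apply, WittVector.map_coeff,
      WittVector.teichmuller_coeff_zero]
  have h2 := mem_of_tmul_one_eq_zero _ hG _ h1
  have h3 := mem_sup_of_mkQ_mem D'.Q _ _ h2
  have hk : RingHom.ker ((WittVector.constantCoeff : WittVector p R →+* R).comp gg) ≤
      K p (RingHom.ker f) ⊔ W4c1extbt610.IV p S := by
    intro w hw
    apply mem_K_sup_IV
    rw [RingHom.mem_ker, RingHom.comp_apply, WittVector.constantCoeff_apply,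
      WittVector.map_coeff] at hw
    exact hw
  have hle : RingHom.ker ((WittVector.constantCoeff : WittVector p R →+* R).comp gg) •
      (⊤ : Submodule (WittVector p S) P') ≤
      D'.Q ⊔ K p (RingHom.ker f) • (⊤ : Submodule (WittVector p S) P') := by
    refine (Submodule.smul_mono_left hk).trans ?_
    rw [Submodule.sup_smul]
    exact sup_le le_sup_right (D'.IV_smul_le.trans le_sup_left)
  have hle2 : D'.Q ⊔ RingHom.ker ((WittVector.constantCoeff : WittVector p R →+* R).comp gg) •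
      (⊤ : Submodule (WittVector p S) P') ≤
      D'.Q ⊔ K p (RingHom.ker f) • (⊤ : Submodule (WittVector p S) P') :=
    sup_le le_sup_left hle
  exact hle2 h3

theorem lift_Vinv (hf : Function.Surjective f)
    (D : W4c1extbt610.Display3n p S P) (D' : W4c1extbt610.Display3n p S P')
    (DR : W4c1extbt610.Display3n p R (BC gg P)) (hDR : IsDispBaseChange f D DR)
    (DR' : W4c1extbt610.Display3n p R (BC gg P')) (hDR' : IsDispBaseChange f D' DR')
    (χ : BC gg P →ₗ[WittVector p R] BC gg P') (hχ : W4c1extbt610.IsHom DR DR' χ)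
    (u₀ : P →ₗ[WittVector p S] P') (hu₀ : ∀ x, BC.tmul gg 1 (u₀ x) = χ (BC.tmul gg 1 x))
    (y : D.Q) (y' : D'.Q)
    (h : u₀ (y : P) - (y' : P') ∈
      K p (RingHom.ker f) • (⊤ : Submodule (WittVector p S) P')) :
    u₀ (D.Vinv y) - D'.Vinv y' ∈
      K p (RingHom.ker f) • (⊤ : Submodule (WittVector p S) P') := by
  have h1 : BC.tmul gg 1 (u₀ (y : P)) = BC.tmul gg 1 (y' : P') := by
    have h0 := tmul_eq_zero_of_mem gg 1 _ (by rw [ker_gg]; exact h)
    rw [sub_eq_add_neg, BC.tmul_add, BC.tmul_neg, ← sub_eq_add_neg, sub_eq_zero] at h0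
    exact h0
  have hyR : BC.tmul gg 1 (y : P) ∈ DR.Q := tmul_one_mem_Q f D DR hDR y
  have hy'R : BC.tmul gg 1 (y' : P') ∈ DR'.Q := tmul_one_mem_Q f D' DR' hDR' y'
  have e1 : DR.Vinv ⟨_, hyR⟩ = BC.tmul gg 1 (D.Vinv y) := by
    rw [hDR.Vinv_tmul 1 y hyR, map_one]
  have e2 : DR'.Vinv ⟨_, hy'R⟩ = BC.tmul gg 1 (D'.Vinv y') := by
    rw [hDR'.Vinv_tmul 1 y' hy'R, map_one]
  have e3 := hχ.comm_Vinv ⟨_, hyR⟩
  have e4 : (⟨χ (BC.tmul gg 1 (y : P)), hχ.mapsTo _ hyR⟩ : DR'.Q) =
      ⟨BC.tmul gg 1 (y' : P'), hy'R⟩ := by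
    apply Subtype.ext
    show χ (BC.tmul gg 1 (y : P)) = BC.tmul gg 1 (y' : P')
    rw [← hu₀, h1]
  have e5 : BC.tmul gg 1 (u₀ (D.Vinv y)) = BC.tmul gg 1 (D'.Vinv y') :=
    calc BC.tmul gg 1 (u₀ (D.Vinv y)) = χ (BC.tmul gg 1 (D.Vinv y)) := hu₀ _
      _ = χ (DR.Vinv ⟨_, hyR⟩) := by rw [e1]
      _ = DR'.Vinv ⟨χ (BC.tmul gg 1 (y : P)), hχ.mapsTo _ hyR⟩ := e3
      _ = DR'.Vinv ⟨BC.tmul gg 1 (y' : P'), hy'R⟩ := congrArg DR'.Vinv e4
      _ = BC.tmul gg 1 (D'.Vinv y') := e2
  rw [← ker_gg]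
  apply mem_of_tmul_one_eq_zero gg (WittVector.map_surjective f hf)
  rw [sub_eq_add_neg, BC.tmul_add, BC.tmul_neg, e5, add_neg_cancel]

theorem surjective_part (hf : Function.Surjective f) (hpn : IsNilpotent (p : S))
    (hker : IsNilpotent (RingHom.ker f))
    (D : W4c1extbt610.Display3n p S P) (D' : W4c1extbt610.Display3n p S P')
    (DR : W4c1extbt610.Display3n p R (BC gg P)) (hDR : IsDispBaseChange f D DR)
    (DR' : W4c1extbt610.Display3n p R (BC gg P')) (hDR' : IsDispBaseChange f D' DR')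
    (χ : BC gg P →ₗ[WittVector p R] BC gg P') (hχ : W4c1extbt610.IsHom DR DR' χ) :
    ∃ (n : ℕ) (ψ : P →ₗ[WittVector p S] P'), W4c1extbt610.IsHom D D' ψ ∧
      BC.map gg ψ = ((p : WittVector p R) ^ n) • χ := by
  classical
  haveI := D.finite
  haveI := D.projective
  obtain ⟨u₀, hu₀⟩ := exists_lift f hf χ
  obtain ⟨r, l, e, a, b, hdec, hb⟩ := exists_decomp D
  have hsup : ∀ j, ∃ q ∈ D'.Q, ∃ z ∈ K p (RingHom.ker f) •
      (⊤ : Submodule (WittVector p S) P'), q + z = u₀ (l j : P) := fun j =>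
    Submodule.mem_sup.mp (lift_mem_sup f hf D D' DR hDR DR' hDR' χ hχ u₀ hu₀ (l j))
  choose q hq z hz hqz using hsup
  let u : P →ₗ[WittVector p S] P' :=
    (Fintype.linearCombination (WittVector p S) q) ∘ₗ a +
      (Fintype.linearCombination (WittVector p S) (fun j => u₀ (e j))) ∘ₗ b
  have hu : ∀ x, u x = ∑ j, a x j • q j + ∑ j, b x j • u₀ (e j) := by
    intro x
    show (Fintype.linearCombination (WittVector p S) q) (a x) +
      (Fintype.linearCombination (WittVector p S) (fun j => u₀ (e j))) (b x) = _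
    rw [Fintype.linearCombination_apply, Fintype.linearCombination_apply]
  have hu₀x : ∀ x, u₀ x = ∑ j, a x j • u₀ (l j : P) + ∑ j, b x j • u₀ (e j) := by
    intro x
    conv_lhs => rw [hdec x]
    rw [map_add, map_sum, map_sum]
    exact congrArg₂ (· + ·) (Finset.sum_congr rfl (fun j _ => map_smul _ _ _))
      (Finset.sum_congr rfl (fun j _ => map_smul _ _ _))
  have hdiff : ∀ x, u₀ x - u x ∈
      K p (RingHom.ker f) • (⊤ : Submodule (WittVector p S) P') := by
    intro x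
    have e0 : u₀ x - u x = ∑ j, a x j • z j := by
      rw [hu₀x, hu, add_sub_add_right_eq_sub, ← Finset.sum_sub_distrib]
      refine Finset.sum_congr rfl (fun j _ => ?_)
      rw [← smul_sub, ← hqz j, add_sub_cancel_left]
    rw [e0]
    exact Submodule.sum_mem _ (fun j _ => Submodule.smul_mem _ _ (hz j))
  have huQ : ∀ y : P, y ∈ D.Q → u y ∈ D'.Q := by
    intro y hy
    rw [hu]
    refine Submodule.add_mem _
      (Submodule.sum_mem _ (fun j _ => Submodule.smul_mem _ _ (hq j)))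
      (Submodule.sum_mem _ (fun j _ => ?_))
    exact D'.IV_smul_le (Submodule.smul_mem_smul (hb y hy j) Submodule.mem_top)
  have hδ : ∀ y : D.Q, u (D.Vinv y) - D'.Vinv ⟨u (y : P), huQ y y.2⟩ ∈
      K p (RingHom.ker f) • (⊤ : Submodule (WittVector p S) P') := by
    intro y
    have h1 := lift_Vinv f hf D D' DR hDR DR' hDR' χ hχ u₀ hu₀ y ⟨u (y : P), huQ y y.2⟩
      (hdiff (y : P))
    have h2 := hdiff (D.Vinv y)
    have e0 : u (D.Vinv y) - D'.Vinv ⟨u (y : P), huQ y y.2⟩ =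
        (u₀ (D.Vinv y) - D'.Vinv ⟨u (y : P), huQ y y.2⟩) -
          (u₀ (D.Vinv y) - u (D.Vinv y)) := by abel
    rw [e0]
    exact Submodule.sub_mem _ h1 h2
  obtain ⟨N, hN⟩ := exists_nilp (p := p) hpn hker
  have hkill : ∀ z' : P', z' ∈ K p (RingHom.ker f) • (⊤ : Submodule (WittVector p S) P') →
      ((p : WittVector p S) ^ N) • z' = 0 := fun z' hz' =>
    p_pow_smul_eq_zero (RingHom.ker f) (RingHom.ker f ⊔ Ideal.span {(p : S)}) le_sup_left
      (Ideal.mem_sup_right (Ideal.subset_span rfl)) N hN hz'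
  have htu : ∀ x, BC.tmul gg 1 (u x) = χ (BC.tmul gg 1 x) := by
    intro x
    rw [← hu₀]
    have h0 := tmul_eq_zero_of_mem gg 1 _ (by rw [ker_gg]; exact hdiff x)
    rw [sub_eq_add_neg, BC.tmul_add, BC.tmul_neg, ← sub_eq_add_neg, sub_eq_zero] at h0
    exact h0.symm
  have hψQ : ∀ y : P, y ∈ D.Q → (((p : WittVector p S) ^ N) • u) y ∈ D'.Q := by
    intro y hy
    rw [LinearMap.smul_apply]
    exact Submodule.smul_mem _ _ (huQ y hy)
  refine ⟨N, ((p : WittVector p S) ^ N) • u, ?_, ?_⟩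
  · refine isHom_of_Vinv D D' _ hψQ (fun y => ?_)
    have e1 : (⟨(((p : WittVector p S) ^ N) • u) (y : P), hψQ y y.2⟩ : D'.Q) =
        ((p : WittVector p S) ^ N) • (⟨u (y : P), huQ y y.2⟩ : D'.Q) := rfl
    rw [e1, map_smulₛₗ, map_pow, map_natCast, LinearMap.smul_apply, ← sub_eq_zero, ← smul_sub]
    exact hkill _ (hδ y)
  · apply BC.ext
    intro x
    rw [BC.map_tmul, LinearMap.smul_apply, LinearMap.smul_apply, ← htu x]
    have e1 := (BC.ι gg P').map_smulₛₗ ((p : WittVector p S) ^ N) (u x)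
    rw [BC.ι_apply, BC.ι_apply, map_pow, map_natCast] at e1
    exact e1

end bc

end H10HB
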