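import Mathlib
import Groth.Prelude.Def_Disp2
import Groth.Agent.Lib.Helper10.DispVSharp
import Groth.Agent.Lib.Helper10.DispIter

/-!
# The matrix criterion for the nilpotence condition of a 3n-display
-/

set_option autoImplicit false
universe u v w

namespace H10Disp

open WittVector Dieu H10Adic

section matrix

variable {p : ℕ} [hp : Fact p.Prime] {R : Type u} [CommRing R]
variable {ιT ιL : Type w} [Fintype ιT] [Fintype ιL] [DecidableEq ιT] [DecidableEq ιL]

local notation "σ" => (WittVector.frobenius : WittVector p R →+* WittVector p R)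

/-- The reduction `W(R) → R/p`. -/
noncomputable def piRed (p : ℕ) [Fact p.Prime] (R : Type u) [CommRing R] :
    WittVector p R →+* R ⧸ Ideal.span {(p : R)} :=
  (Ideal.Quotient.mk (Ideal.span {(p : R)})).comp WittVector.constantCoeff

theorem mk_natCast_eq_zero : Ideal.Quotient.mk (Ideal.span {(p : R)}) (p : R) = 0 :=
  Ideal.Quotient.eq_zero_iff_mem.mpr (Ideal.mem_span_singleton_self _)

theorem piRed_natCast : piRed p R (p : WittVector p R) = 0 := by
  show Ideal.Quotient.mk _ (WittVector.constantCoeff (p : WittVector p R)) = 0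
  rw [map_natCast]
  exact mk_natCast_eq_zero

theorem piRed_frobenius (a : WittVector p R) : piRed p R (σ a) = piRed p R a ^ p := by
  show Ideal.Quotient.mk _ ((frobenius a).coeff 0) = (Ideal.Quotient.mk _ (a.coeff 0)) ^ p
  rw [WittVector.coeff_frobenius, frobeniusPoly, map_add, map_pow, map_mul,
    MvPolynomial.aeval_X, MvPolynomial.aeval_C]
  have h2 : algebraMap ℤ R (p : ℤ) = (p : R) := by simp
  rw [h2, map_add, map_pow, map_mul, mk_natCast_eq_zero, zero_mul, add_zero]

theorem piRed_pow_frobenius (i : ℕ) (a : WittVector p R) :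
    piRed p R ((σ ^ i) a) = piRed p R a ^ p ^ i := by
  induction i with
  | zero => rw [pow_zero, pow_zero, pow_one]; rfl
  | succ i ih =>
    rw [pow_succ']
    show piRed p R (σ ((σ ^ i) a)) = _
    rw [piRed_frobenius, ih, ← pow_mul, pow_succ]

theorem ker_piRed :
    RingHom.ker (piRed p R) = W4c1extbt610.IV p R ⊔ Ideal.span {(p : WittVector p R)} := by
  apply le_antisymm
  · intro x hx
    rw [RingHom.mem_ker] at hx
    have h1 : x.coeff 0 ∈ Ideal.span {(p : R)} := Ideal.Quotient.eq_zero_iff_mem.mp hx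
    obtain ⟨r, hr⟩ := Ideal.mem_span_singleton'.mp h1
    have h2 : x - teichmuller p r * (p : WittVector p R) ∈ H10Witt.II p R := by
      rw [RingHom.mem_ker, map_sub, map_mul, map_natCast]
      show x.coeff 0 - (teichmuller p r).coeff 0 * (p : R) = 0
      rw [WittVector.teichmuller_coeff_zero, hr, sub_self]
    rw [← IV_eq_II] at h2
    have e : x = (x - teichmuller p r * (p : WittVector p R)) +
        teichmuller p r * (p : WittVector p R) := by ring
    rw [e]
    exact Ideal.add_mem _ (Ideal.mem_sup_left h2)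
      (Ideal.mem_sup_right (Ideal.mul_mem_left _ _ (Ideal.mem_span_singleton_self _)))
  · refine sup_le ?_ ?_
    · rw [IV_eq_II]
      intro x hx
      rw [H10Witt.mem_II_iff] at hx
      rw [RingHom.mem_ker]
      show Ideal.Quotient.mk _ (x.coeff 0) = 0
      rw [hx, map_zero]
    · rw [Ideal.span_le]
      rintro _ rfl
      exact (RingHom.mem_ker).mpr piRed_natCast

variable (β : Matrix (ιT ⊕ ιL) (ιT ⊕ ιL) (WittVector p R))

/-- `Θ β` where `Θ = diag(p on T, 1 on L)`: the matrix of `V^#`. -/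
noncomputable def A0 : Matrix (ιT ⊕ ιL) (ιT ⊕ ιL) (WittVector p R) :=
  Matrix.of fun m i => Sum.elim (fun _ : ιT => (p : WittVector p R)) (fun _ : ιL => 1) m * β m i

theorem A0_inl (a : ιT) (i : ιT ⊕ ιL) : A0 β (Sum.inl a) i = (p : WittVector p R) * β (Sum.inl a) i :=
  rfl

theorem A0_inr (l : ιL) (i : ιT ⊕ ιL) : A0 β (Sum.inr l) i = β (Sum.inr l) i := by
  show (1 : WittVector p R) * β (Sum.inr l) i = _
  rw [one_mul]

/-- The matrices of the iterates of `V^#`. -/
noncomputable def AA : ℕ → Matrix (ιT ⊕ ιL) (ιT ⊕ ιL) (WittVector p R)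
  | 0 => A0 β
  | n + 1 => (RingHom.mapMatrix (WittVector.frobenius : WittVector p R →+* WittVector p R)
      (AA n)) * A0 β

theorem AA_succ_apply (n : ℕ) (j i : ιT ⊕ ιL) :
    AA β (n + 1) j i = ∑ m, σ (AA β n j m) * A0 β m i := by
  show ((RingHom.mapMatrix σ (AA β n)) * A0 β) j i = _
  rw [Matrix.mul_apply]
  rfl

/-- The `L`-block of `β`. -/
def βLL : Matrix ιL ιL (WittVector p R) := Matrix.of fun k l => β (Sum.inr k) (Sum.inr l)

/-- `σ^(N-1)(β_LL) ⋯ σ(β_LL) β_LL`. -/
noncomputable def PiW : ℕ → Matrix ιL ιL (WittVector p R)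
  | 0 => 1
  | N + 1 => RingHom.mapMatrix ((WittVector.frobenius : WittVector p R →+* WittVector p R) ^ N)
      (βLL β) * PiW N

theorem mapMatrix_frobenius_pow (N : ℕ) (X : Matrix ιL ιL (WittVector p R)) :
    RingHom.mapMatrix σ (RingHom.mapMatrix (σ ^ N) X) = RingHom.mapMatrix (σ ^ (N + 1)) X := by
  refine Matrix.ext (fun k l => ?_)
  show σ ((σ ^ N) (X k l)) = (σ ^ (N + 1)) (X k l)
  rw [pow_succ']
  rfl

theorem PiW_succ' (N : ℕ) : RingHom.mapMatrix σ (PiW β N) * βLL β = PiW β (N + 1) := by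
  induction N with
  | zero =>
    show RingHom.mapMatrix σ 1 * βLL β = RingHom.mapMatrix (σ ^ 0) (βLL β) * 1
    rw [map_one, one_mul, mul_one]
    refine Matrix.ext (fun k l => ?_)
    rfl
  | succ N ih =>
    show RingHom.mapMatrix σ (RingHom.mapMatrix (σ ^ N) (βLL β) * PiW β N) * βLL β =
      RingHom.mapMatrix (σ ^ (N + 1)) (βLL β) * PiW β (N + 1)
    rw [map_mul, mul_assoc, ih, mapMatrix_frobenius_pow]

theorem list_prod_eq (N : ℕ) :
    ((List.range N).reverse.map fun i : ℕ =>
      (Matrix.of fun k l : ιL =>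
          Ideal.Quotient.mk (Ideal.span {(p : R)})
            (WittVector.constantCoeff (β (Sum.inr k) (Sum.inr l)))).map
        fun x : R ⧸ Ideal.span {(p : R)} => x ^ p ^ i).prod =
      RingHom.mapMatrix (piRed p R) (PiW β N) := by
  induction N with
  | zero =>
    show (1 : Matrix ιL ιL (R ⧸ Ideal.span {(p : R)})) = RingHom.mapMatrix (piRed p R) 1
    rw [map_one]
  | succ N ih =>
    rw [List.range_succ, List.reverse_append, List.reverse_singleton, List.singleton_append,
      List.map_cons, List.prod_cons, ih]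
    show _ = RingHom.mapMatrix (piRed p R) (RingHom.mapMatrix (σ ^ N) (βLL β) * PiW β N)
    rw [map_mul]
    congr 1
    refine Matrix.ext (fun k l => ?_)
    show (piRed p R (β (Sum.inr k) (Sum.inr l))) ^ p ^ N =
      piRed p R ((σ ^ N) (β (Sum.inr k) (Sum.inr l)))
    rw [piRed_pow_frobenius]

theorem piRed_AA (n : ℕ) :
    (∀ (a : ιT) (i : ιT ⊕ ιL), piRed p R (AA β n (Sum.inl a) i) = 0) ∧
      (∀ (k : ιL) (i : ιT ⊕ ιL), piRed p R (AA β n (Sum.inr k) i) =
        ∑ l, piRed p R (σ (PiW β n k l)) * piRed p R (A0 β (Sum.inr l) i)) := by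
  have hp0 : (0 : R ⧸ Ideal.span {(p : R)}) ^ p = 0 := zero_pow hp.out.ne_zero
  have hA0 : ∀ (a : ιT) (i : ιT ⊕ ιL), piRed p R (A0 β (Sum.inl a) i) = 0 := by
    intro a i
    rw [A0_inl, map_mul, piRed_natCast, zero_mul]
  induction n with
  | zero =>
    refine ⟨hA0, fun k i => ?_⟩
    show _ = ∑ l, piRed p R (σ ((1 : Matrix ιL ιL (WittVector p R)) k l)) * _
    rw [Finset.sum_eq_single k]
    · rw [Matrix.one_apply_eq, map_one, map_one, one_mul]
      rfl
    · intro l _ hl
      rw [Matrix.one_apply_ne hl.symm, map_zero, map_zero, zero_mul]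
    · intro h
      exact absurd (Finset.mem_univ k) h
  | succ n ih =>
    obtain ⟨ih1, ih2⟩ := ih
    have hLL : ∀ k l, piRed p R (AA β n (Sum.inr k) (Sum.inr l)) =
        piRed p R (PiW β (n + 1) k l) := by
      intro k l
      rw [ih2, ← PiW_succ', Matrix.mul_apply, map_sum]
      refine Finset.sum_congr rfl (fun l' _ => ?_)
      rw [map_mul, A0_inr]
      rfl
    constructor
    · intro a i
      rw [AA_succ_apply, map_sum]
      refine Finset.sum_eq_zero (fun m _ => ?_)
      rw [map_mul, piRed_frobenius, ih1, hp0, zero_mul]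
    · intro k i
      rw [AA_succ_apply, map_sum, Fintype.sum_sum_type]
      have h1 : ∑ a : ιT, piRed p R (σ (AA β n (Sum.inr k) (Sum.inl a)) * A0 β (Sum.inl a) i) = 0 := by
        refine Finset.sum_eq_zero (fun a _ => ?_)
        rw [map_mul, hA0, mul_zero]
      rw [h1, zero_add]
      refine Finset.sum_congr rfl (fun l _ => ?_)
      rw [map_mul, piRed_frobenius, hLL, ← piRed_frobenius]

theorem piRed_AA_LL (n : ℕ) (k l : ιL) :
    piRed p R (AA β n (Sum.inr k) (Sum.inr l)) = piRed p R (PiW β (n + 1) k l) := by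
  rw [(piRed_AA β n).2, ← PiW_succ', Matrix.mul_apply, map_sum]
  refine Finset.sum_congr rfl (fun l' _ => ?_)
  rw [map_mul, A0_inr]
  rfl

theorem piRed_AA_eq_zero (N : ℕ) (h : RingHom.mapMatrix (piRed p R) (PiW β N) = 0)
    (j i : ιT ⊕ ιL) : piRed p R (AA β N j i) = 0 := by
  have hp0 : (0 : R ⧸ Ideal.span {(p : R)}) ^ p = 0 := zero_pow hp.out.ne_zero
  rcases j with a | k
  · exact (piRed_AA β N).1 a i
  · rw [(piRed_AA β N).2]
    refine Finset.sum_eq_zero (fun l _ => ?_)
    have h1 : piRed p R (PiW β N k l) = 0 := by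
      have := congrFun (congrFun h k) l
      exact this
    rw [piRed_frobenius, h1, hp0, zero_mul]

end matrix

section module

variable {p : ℕ} [hp : Fact p.Prime] {R : Type u} [CommRing R]
variable {P : Type v} [AddCommGroup P] [Module (WittVector p R) P]
variable {ι : Type w} [Fintype ι] [DecidableEq ι]

local notation "σ" => (WittVector.frobenius : WittVector p R →+* WittVector p R)

/-- The matrices of iterates for a general matrix of `V^#`. -/
noncomputable def iterMat (A₀ : Matrix ι ι (WittVector p R)) : ℕ → Matrix ι ι (WittVector p R)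
  | 0 => A₀
  | n + 1 => (RingHom.mapMatrix (WittVector.frobenius : WittVector p R →+* WittVector p R)
      (iterMat A₀ n)) * A₀

theorem vSharpPow_basis (b : Module.Basis ι (WittVector p R) P)
    (Vs : P →ₗ[WittVector p R] BC σ P) (A₀ : Matrix ι ι (WittVector p R))
    (hVs : ∀ l, Vs (b l) = ∑ m, A₀ m l • BC.tmul σ 1 (b m)) (n : ℕ) (i : ι) :
    vSharpPow Vs n (b i) = ∑ j, iterMat A₀ n j i • BC.tmul (σ ^ (n + 1)) 1 (b j) := by
  induction n generalizing i with
  | zero =>
    rw [vSharpPow_zero_apply, hVs, map_sum]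
    refine Finset.sum_congr rfl (fun m _ => ?_)
    rw [map_smul, BC.castHom_tmul]
    rfl
  | succ n ih =>
    rw [vSharpPow_succ', hVs, map_sum]
    have h1 : ∀ m, TT σ (σ ^ (n + 1)) (σ ^ (n + 1 + 1)) (comp_pow_eq_pow_succ σ (n + 1))
        (vSharpPow Vs n) (A₀ m i • BC.tmul σ 1 (b m)) =
        ∑ j, (σ (iterMat A₀ n j m) * A₀ m i) • BC.tmul (σ ^ (n + 1 + 1)) 1 (b j) := by
      intro m
      rw [map_smul, TT_tmul, one_smul, ih, map_sum, Finset.smul_sum]
      refine Finset.sum_congr rfl (fun j _ => ?_)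
      rw [map_smulₛₗ, pp_tmul, map_one, smul_smul, mul_comm]
    rw [Finset.sum_congr rfl (fun m _ => h1 m), Finset.sum_comm]
    refine Finset.sum_congr rfl (fun j _ => ?_)
    rw [← Finset.sum_smul]
    congr 1

theorem isVNilpotent_iff_basis (b : Module.Basis ι (WittVector p R) P)
    (Vs : P →ₗ[WittVector p R] BC σ P) (A₀ : Matrix ι ι (WittVector p R))
    (hVs : ∀ l, Vs (b l) = ∑ m, A₀ m l • BC.tmul σ 1 (b m)) :
    IsVNilpotent Vs ↔ ∃ n : ℕ, ∀ j i, iterMat A₀ n j i ∈
      W4c1extbt610.IV p R ⊔ Ideal.span {(p : WittVector p R)} := by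
  constructor
  · rintro ⟨n, h⟩
    refine ⟨n, fun j i => ?_⟩
    have h1 := h (b i)
    rw [vSharpPow_basis b Vs A₀ hVs] at h1
    let C : BC (σ ^ (n + 1)) P →ₗ[WittVector p R] WittVector p R :=
      BC.lift (σ ^ (n + 1)) ((semilinearOfRingHom (σ ^ (n + 1))).comp (b.coord j))
    have h2 := map_mem_smul_top _ C h1
    rw [smul_eq_mul, Ideal.mul_top, map_sum] at h2
    have h3 : ∑ m, C (iterMat A₀ n m i • BC.tmul (σ ^ (n + 1)) 1 (b m)) = iterMat A₀ n j i := by
      rw [Finset.sum_eq_single j]
      · rw [map_smul, BC.lift_tmul]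
        show iterMat A₀ n j i • ((1 : WittVector p R) • (σ ^ (n + 1)) (b.coord j (b j))) = _
        rw [Module.Basis.coord_apply, Module.Basis.repr_self, Finsupp.single_eq_same, map_one,
          smul_eq_mul, smul_eq_mul, mul_one, mul_one]
      · intro m _ hm
        rw [map_smul, BC.lift_tmul]
        show iterMat A₀ n m i • ((1 : WittVector p R) • (σ ^ (n + 1)) (b.coord j (b m))) = _
        rw [Module.Basis.coord_apply, Module.Basis.repr_self, Finsupp.single_eq_of_ne hm.symm,
          map_zero, smul_zero, smul_zero]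
      · intro h
        exact absurd (Finset.mem_univ j) h
    rw [h3] at h2
    exact h2
  · rintro ⟨n, h⟩
    refine ⟨n, fun x => ?_⟩
    rw [← b.sum_repr x, map_sum]
    refine Submodule.sum_mem _ (fun i _ => ?_)
    rw [map_smul, vSharpPow_basis b Vs A₀ hVs]
    refine Submodule.smul_mem _ _ (Submodule.sum_mem _ (fun j _ => ?_))
    exact Submodule.smul_mem_smul (h j i) Submodule.mem_top

end module

section final

variable {p : ℕ} [hp : Fact p.Prime] {R : Type u} [CommRing R]
variable {P : Type v} [AddCommGroup P] [Module (WittVector p R) P]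
variable {ιT ιL : Type w} [Fintype ιT] [Fintype ιL] [DecidableEq ιT] [DecidableEq ιL]

local notation "σ" => (WittVector.frobenius : WittVector p R →+* WittVector p R)

theorem iterMat_A0 (β : Matrix (ιT ⊕ ιL) (ιT ⊕ ιL) (WittVector p R)) (n : ℕ) :
    iterMat (A0 β) n = AA β n := by
  induction n with
  | zero => rfl
  | succ n ih =>
    show (RingHom.mapMatrix σ (iterMat (A0 β) n)) * A0 β = (RingHom.mapMatrix σ (AA β n)) * A0 β
    rw [ih]

theorem isDisplay_iff_matrix (hpn : IsNilpotent (p : R)) (D : W4c1extbt610.Display3n p R P)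
    (L T : Submodule (WittVector p R) P) (hLT : IsCompl L T) (hLQ : L ≤ D.Q)
    (bT : Module.Basis ιT (WittVector p R) T) (bL : Module.Basis ιL (WittVector p R) L)
    (α β : Matrix (ιT ⊕ ιL) (ιT ⊕ ιL) (WittVector p R)) (hαβ : α * β = 1)
    (hF : ∀ j : ιT, D.F (bT j : P) =
      Finset.univ.sum fun i : ιT ⊕ ιL => α i (Sum.inl j) •
        Sum.elim (fun a : ιT => (bT a : P)) (fun a : ιL => (bL a : P)) i)
    (hV : ∀ k : ιL, D.Vinv ⟨(bL k : P), hLQ (bL k).2⟩ =
      Finset.univ.sum fun i : ιT ⊕ ιL => α i (Sum.inr k) •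
        Sum.elim (fun a : ιT => (bT a : P)) (fun a : ιL => (bL a : P)) i) :
    Dieu.IsDisplay D ↔
      ∃ N : ℕ, 0 < N ∧
        (((List.range N).reverse.map fun i : ℕ =>
            (Matrix.of fun k l : ιL =>
                Ideal.Quotient.mk (Ideal.span {(p : R)})
                  (WittVector.constantCoeff (β (Sum.inr k) (Sum.inr l)))).map
              fun x : R ⧸ Ideal.span {(p : R)} => x ^ p ^ i).prod
          = 0) := by
  classical
  let b : Module.Basis (ιT ⊕ ιL) (WittVector p R) P :=
    (bT.prod bL).map (Submodule.prodEquivOfIsCompl T L hLT.symm)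
  have hb : ∀ i, b i = Sum.elim (fun a : ιT => (bT a : P)) (fun a : ιL => (bL a : P)) i := by
    intro i
    show ((bT.prod bL).map (Submodule.prodEquivOfIsCompl T L hLT.symm)) i = _
    rw [Module.Basis.map_apply, Submodule.coe_prodEquivOfIsCompl', Module.Basis.prod_apply]
    rcases i with a | a
    · simp
    · simp
  have hF' : ∀ j : ιT, D.F (b (Sum.inl j)) = ∑ i, α i (Sum.inl j) • b i := by
    intro j
    rw [hb (Sum.inl j)]
    show D.F (bT j : P) = _
    rw [hF]
    refine Finset.sum_congr rfl (fun i _ => ?_)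
    rw [hb]
  have hV' : ∀ k : ιL, D.Vinv ⟨(bL k : P), hLQ (bL k).2⟩ = ∑ i, α i (Sum.inr k) • b i := by
    intro k
    rw [hV]
    refine Finset.sum_congr rfl (fun i _ => ?_)
    rw [hb]
  have main : ∀ Vs : P →ₗ[WittVector p R] BC σ P, IsVSharp D Vs →
      ∀ l, Vs (b l) = ∑ m, A0 β m l • BC.tmul σ 1 (b m) := by
    intro Vs hVs
    have key : ∀ m, ∑ i, α i m • Vs (b i) =
        Sum.elim (fun _ : ιT => (p : WittVector p R)) (fun _ : ιL => 1) m •
          BC.tmul σ 1 (b m) := by
      intro m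
      rcases m with j | k
      · have h1 := hVs.app_smul_F 1 (b (Sum.inl j))
        rw [one_smul, hF' j, map_sum] at h1
        show _ = (p : WittVector p R) • BC.tmul σ 1 (b (Sum.inl j))
        rw [← h1]
        refine Finset.sum_congr rfl (fun i _ => ?_)
        rw [map_smul]
      · have h1 := hVs.app_smul_Vinv 1 ⟨(bL k : P), hLQ (bL k).2⟩
        rw [one_smul, hV' k, map_sum] at h1
        show _ = (1 : WittVector p R) • BC.tmul σ 1 (b (Sum.inr k))
        rw [one_smul, hb (Sum.inr k)]
        show _ = BC.tmul σ 1 (bL k : P)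
        rw [← h1]
        refine Finset.sum_congr rfl (fun i _ => ?_)
        rw [map_smul]
    intro l
    calc Vs (b l)
        = ∑ i, (1 : Matrix (ιT ⊕ ιL) (ιT ⊕ ιL) (WittVector p R)) i l • Vs (b i) := by
          rw [Finset.sum_eq_single l]
          · rw [Matrix.one_apply_eq, one_smul]
          · intro i _ hi
            rw [Matrix.one_apply_ne hi, zero_smul]
          · intro h
            exact absurd (Finset.mem_univ l) h
      _ = ∑ i, (∑ m, α i m * β m l) • Vs (b i) := by
          refine Finset.sum_congr rfl (fun i _ => ?_)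
          rw [← hαβ, Matrix.mul_apply]
      _ = ∑ i, ∑ m, β m l • (α i m • Vs (b i)) := by
          refine Finset.sum_congr rfl (fun i _ => ?_)
          rw [Finset.sum_smul]
          refine Finset.sum_congr rfl (fun m _ => ?_)
          rw [smul_smul, mul_comm]
      _ = ∑ m, β m l • ∑ i, α i m • Vs (b i) := by
          rw [Finset.sum_comm]
          refine Finset.sum_congr rfl (fun m _ => ?_)
          rw [Finset.smul_sum]
      _ = ∑ m, A0 β m l • BC.tmul σ 1 (b m) := by
          refine Finset.sum_congr rfl (fun m _ => ?_)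
          rw [key m, smul_smul, mul_comm]
          rfl
  constructor
  · rintro ⟨Vs, hVs, hnil⟩
    obtain ⟨n, hn⟩ := (isVNilpotent_iff_basis b Vs (A0 β) (main Vs hVs)).mp hnil
    refine ⟨n + 1, Nat.succ_pos n, ?_⟩
    rw [list_prod_eq]
    refine Matrix.ext (fun k l => ?_)
    show piRed p R (PiW β (n + 1) k l) = 0
    rw [← piRed_AA_LL, ← RingHom.mem_ker, ker_piRed, ← iterMat_A0]
    exact hn _ _
  · rintro ⟨N, _, hprod⟩
    rw [list_prod_eq] at hprod
    obtain ⟨Vs, hVs⟩ := exists_vSharp D (fun 𝔪 _ => comap_frobenius_eq hpn 𝔪)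
    refine ⟨Vs, hVs, ?_⟩
    refine (isVNilpotent_iff_basis b Vs (A0 β) (main Vs hVs)).mpr ⟨N, fun j i => ?_⟩
    rw [iterMat_A0, ← ker_piRed, RingHom.mem_ker]
    exact piRed_AA_eq_zero β N hprod j i

end final

end H10Disp
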