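import Mathlib
import Groth.Prelude.Def_Disp2
import Groth.Agent.Lib.Helper10.DispVSharp
import Groth.Agent.Lib.Helper10.DispIter

/-!
# Dieudonné modules over perfect rings: displays versus topological nilpotence of `V`
-/

set_option autoImplicit false
universe u v

namespace H10Disp

open WittVector Dieu TensorProduct

section general

variable {A : Type u} [CommRing A] {M : Type v} [AddCommGroup M] [Module A M]

theorem mem_span_singleton_smul_top (c : A) (y : M) :
    y ∈ Ideal.span {c} • (⊤ : Submodule A M) ↔ ∃ y' : M, y = c • y' := by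
  constructor
  · intro h
    refine Submodule.smul_induction_on h (fun a ha n _ => ?_) (fun y₁ y₂ h₁ h₂ => ?_)
    · obtain ⟨d, rfl⟩ := Ideal.mem_span_singleton'.mp ha
      exact ⟨d • n, by rw [smul_smul, mul_comm]⟩
    · obtain ⟨y₁', rfl⟩ := h₁
      obtain ⟨y₂', rfl⟩ := h₂
      exact ⟨y₁' + y₂', (smul_add _ _ _).symm⟩
  · rintro ⟨y', rfl⟩
    exact Submodule.smul_mem_smul (Ideal.mem_span_singleton_self c) Submodule.mem_top

/-- The bilinear map `(w, m) ↦ τinv w • m`. -/
noncomputable def invBil (τ τinv : A →+* A) (h : ∀ a, τinv (τ a) = a) :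
    Res τ →ₗ[A] M →ₗ[A] M where
  toFun t := τinv t.val • LinearMap.id
  map_add' s t := by
    show τinv (s.val + t.val) • (LinearMap.id : M →ₗ[A] M) = _
    rw [map_add, add_smul]
  map_smul' a t := by
    show τinv (τ a * t.val) • (LinearMap.id : M →ₗ[A] M) = a • (τinv t.val • LinearMap.id)
    rw [map_mul, h, mul_smul]

/-- `w ⊗ m ↦ τinv w • m`. -/
noncomputable def invMap (τ τinv : A →+* A) (h : ∀ a, τinv (τ a) = a) (z : BC τ M) : M :=
  TensorProduct.lift (invBil (M := M) τ τinv h) z

theorem invMap_tmul (τ τinv : A →+* A) (h : ∀ a, τinv (τ a) = a) (w : A) (m : M) :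
    invMap τ τinv h (BC.tmul τ w m) = τinv w • m := rfl

theorem invMap_add (τ τinv : A →+* A) (h : ∀ a, τinv (τ a) = a) (z₁ z₂ : BC τ M) :
    invMap τ τinv h (z₁ + z₂) = invMap τ τinv h z₁ + invMap τ τinv h z₂ :=
  map_add (TensorProduct.lift (invBil (M := M) τ τinv h)) z₁ z₂

theorem invMap_zero (τ τinv : A →+* A) (h : ∀ a, τinv (τ a) = a) :
    invMap τ τinv h (0 : BC τ M) = 0 :=
  map_zero (TensorProduct.lift (invBil (M := M) τ τinv h))

theorem invMap_smul (τ τinv : A →+* A) (h : ∀ a, τinv (τ a) = a) (c : A) (z : BC τ M) :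
    invMap τ τinv h (c • z) = τinv c • invMap τ τinv h z := by
  induction z using BC.induction_on τ with
  | zero => rw [smul_zero, invMap_zero, smul_zero]
  | tmul w m => rw [BC.smul_tmul, invMap_tmul, invMap_tmul, map_mul, mul_smul]
  | add z₁ z₂ h₁ h₂ => rw [smul_add, invMap_add, invMap_add, h₁, h₂, smul_add]

theorem tmul_one_mem_iff (τ : A →+* A) (hτ : Function.Bijective τ) (c : A) (hc : τ c = c)
    (y : M) :
    BC.tmul τ 1 y ∈ Ideal.span {c} • (⊤ : Submodule A (BC τ M)) ↔
      y ∈ Ideal.span {c} • (⊤ : Submodule A M) := by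
  let τe := RingEquiv.ofBijective τ hτ
  have hinv : ∀ a, (τe.symm : A →+* A) (τ a) = a := fun a => τe.symm_apply_apply a
  rw [mem_span_singleton_smul_top, mem_span_singleton_smul_top]
  constructor
  · rintro ⟨z', hz'⟩
    refine ⟨invMap τ (τe.symm : A →+* A) hinv z', ?_⟩
    have h1 := congrArg (invMap τ (τe.symm : A →+* A) hinv) hz'
    rw [invMap_tmul, map_one, one_smul, invMap_smul] at h1
    have h2 : (τe.symm : A →+* A) c = c := by
      conv_lhs => rw [← hc]
      exact hinv c
    rw [h2] at h1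
    exact h1
  · rintro ⟨y', rfl⟩
    refine ⟨BC.tmul τ 1 y', ?_⟩
    rw [← BC.tmul_mul_apply, hc, BC.smul_tmul, one_mul, mul_one]

end general

section perfect

variable {p : ℕ} [hp : Fact p.Prime] {k : Type u} [CommRing k] [CharP k p] [PerfectRing k p]
variable {M : Type v} [AddCommGroup M] [Module (WittVector p k) M]

local notation "σ" => (WittVector.frobenius : WittVector p k →+* WittVector p k)
local notation "τ'" => ((RingEquiv.symm (WittVector.frobeniusEquiv p k) : WittVector p k ≃+* WittVector p k) : WittVector p k →+* WittVector p k)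

theorem frob_frobInv (a : WittVector p k) : σ (τ' a) = a :=
  (WittVector.frobeniusEquiv p k).apply_symm_apply a

theorem IV_le_span : W4c1extbt610.IV p k ≤ Ideal.span {(p : WittVector p k)} := by
  rw [W4c1extbt610.IV, Ideal.span_le]
  rintro _ ⟨w, rfl⟩
  have h : verschiebung w = τ' w * p := by
    conv_lhs => rw [← frob_frobInv w]
    exact WittVector.verschiebung_frobenius _
  rw [SetLike.mem_coe, h]
  exact Ideal.mem_span_singleton.mpr (Dvd.intro_left _ rfl)

/-- `x ↦ 1 ⊗ V x`. -/
noncomputable def vsOfV (Dm : DieuMod p k M) : M →ₗ[WittVector p k] BC σ M where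
  toFun x := BC.tmul σ 1 (Dm.V x)
  map_add' x y := by rw [map_add, BC.tmul_add]
  map_smul' a x := by
    rw [map_smulₛₗ, ← BC.tmul_mul_apply, RingHom.id_apply, BC.smul_tmul, one_mul, mul_one]
    congr 1
    exact frob_frobInv a

theorem vsOfV_apply (Dm : DieuMod p k M) (x : M) : vsOfV Dm x = BC.tmul σ 1 (Dm.V x) := rfl

theorem isVSharp_vsOfV (Dm : DieuMod p k M) (D : W4c1extbt610.Display3n p k M)
    (hF : D.F = Dm.F) (hQ : ∀ x : M, x ∈ D.Q ↔ x ∈ Set.range Dm.V)
    (hV : ∀ (m : M) (h : Dm.V m ∈ D.Q), D.Vinv ⟨Dm.V m, h⟩ = m) : IsVSharp D (vsOfV Dm) := by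
  refine ⟨fun w x => ?_, fun w y => ?_⟩
  · rw [map_smul, vsOfV_apply, hF, Dm.V_F, ← BC.tmul_mul_apply, map_natCast, one_mul,
      BC.smul_tmul, BC.smul_tmul, mul_comm]
  · obtain ⟨y, hy⟩ := y
    obtain ⟨m, rfl⟩ := (hQ y).mp hy
    rw [hV m hy, map_smul, vsOfV_apply, BC.smul_tmul, mul_one]

theorem vSharpPow_vsOfV (Dm : DieuMod p k M) (n : ℕ) (x : M) :
    vSharpPow (vsOfV Dm) n x = BC.tmul (σ ^ (n + 1)) 1 ((⇑Dm.V)^[n + 1] x) := by
  induction n generalizing x with
  | zero =>
    rw [vSharpPow_zero_apply, vsOfV_apply, BC.castHom_tmul]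
    rfl
  | succ n ih =>
    rw [vSharpPow_succ', vsOfV_apply, TT_tmul, one_smul, ih, pp_tmul, map_one,
      ← Function.iterate_succ_apply (⇑Dm.V) (n + 1) x]

theorem iterate_V_smul (Dm : DieuMod p k M) (n e : ℕ) (y : M) :
    (⇑Dm.V)^[n] ((p : WittVector p k) ^ e • y) = (p : WittVector p k) ^ e • (⇑Dm.V)^[n] y := by
  induction n generalizing y with
  | zero => rfl
  | succ n ih =>
    rw [Function.iterate_succ_apply, Function.iterate_succ_apply, map_smulₛₗ, map_pow,
      map_natCast, ih]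

theorem bijective_pow (n : ℕ) : Function.Bijective (σ ^ n) := by
  rw [RingHom.coe_pow]
  exact (WittVector.frobeniusEquiv p k).bijective.iterate n

theorem isDisplay_iff_vTopNilp (Dm : DieuMod p k M) (D : W4c1extbt610.Display3n p k M)
    (hF : D.F = Dm.F) (hQ : ∀ x : M, x ∈ D.Q ↔ x ∈ Set.range Dm.V)
    (hV : ∀ (m : M) (h : Dm.V m ∈ D.Q), D.Vinv ⟨Dm.V m, h⟩ = m) :
    IsDisplay D ↔ Dm.VTopNilp := by
  have hsharp := isVSharp_vsOfV Dm D hF hQ hV
  constructor
  · rintro ⟨Vs, hVs, n₀, hnil⟩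
    obtain rfl : Vs = vsOfV Dm := unique_vSharp D Vs (vsOfV Dm) hVs hsharp
    have h1 : ∀ x : M, (⇑Dm.V)^[n₀ + 1] x ∈
        Ideal.span {(p : WittVector p k)} • (⊤ : Submodule (WittVector p k) M) := by
      intro x
      have h2 := hnil x
      rw [vSharpPow_vsOfV] at h2
      have h3 : W4c1extbt610.IV p k ⊔ Ideal.span {(p : WittVector p k)} ≤
          Ideal.span {(p : WittVector p k)} := sup_le IV_le_span le_rfl
      have h4 := Submodule.smul_mono_left h3 h2
      exact (tmul_one_mem_iff (σ ^ (n₀ + 1)) (bijective_pow (n₀ + 1)) (p : WittVector p k)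
        (map_natCast _ p) _).mp h4
    have h5 : ∀ e : ℕ, ∀ x : M, (⇑Dm.V)^[(n₀ + 1) * e] x ∈
        (Ideal.span {(p : WittVector p k)} ^ e) • (⊤ : Submodule (WittVector p k) M) := by
      intro e
      induction e with
      | zero =>
        intro x
        rw [pow_zero, Ideal.one_eq_top, Submodule.top_smul]
        exact Submodule.mem_top
      | succ e ih =>
        intro x
        have e1 : (n₀ + 1) * (e + 1) = (n₀ + 1) + (n₀ + 1) * e := by ring
        rw [e1, Function.iterate_add_apply]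
        have h6 := ih x
        rw [Ideal.span_singleton_pow, mem_span_singleton_smul_top] at h6 ⊢
        obtain ⟨y, hy⟩ := h6
        have h7 := h1 y
        rw [mem_span_singleton_smul_top] at h7
        obtain ⟨y', hy'⟩ := h7
        refine ⟨y', ?_⟩
        rw [hy, iterate_V_smul, hy', smul_smul, pow_succ]
    intro e
    exact ⟨(n₀ + 1) * e, h5 e⟩
  · intro h
    obtain ⟨n, hn⟩ := h 1
    refine ⟨vsOfV Dm, hsharp, n, fun x => ?_⟩
    rw [vSharpPow_vsOfV]
    have h1 : (⇑Dm.V)^[n + 1] x ∈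
        Ideal.span {(p : WittVector p k)} • (⊤ : Submodule (WittVector p k) M) := by
      rw [Function.iterate_succ_apply]
      have := hn (Dm.V x)
      rwa [pow_one] at this
    have h2 := (tmul_one_mem_iff (σ ^ (n + 1)) (bijective_pow (n + 1)) (p : WittVector p k)
      (map_natCast _ p) _).mpr h1
    exact Submodule.smul_mono_left le_sup_right h2

end perfect

end H10Disp
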