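import Mathlib
import Groth.Prelude.Def_Found
import Groth.Prelude.Def_CAlgX

/-!
# Basic lemmas around the Mittag-Leffler condition (`CAlg.IsMittagLeffler`)
-/

open scoped TensorProduct

namespace Groth.Agent.Lib.Helper10

universe u v w

variable {R : Type u} [CommRing R]

/-- Naturality of `piRightHom` in the left factor. -/
lemma piRightHom_rTensor {M₁ : Type v} {M₂ : Type v} [AddCommGroup M₁] [Module R M₁]
    [AddCommGroup M₂] [Module R M₂] (f : M₁ →ₗ[R] M₂) {ι : Type w} (Q : ι → Type w)
    [∀ i, AddCommGroup (Q i)] [∀ i, Module R (Q i)] (z : M₁ ⊗[R] (∀ i, Q i)) (i : ι) :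
    TensorProduct.piRightHom R R M₂ Q (f.rTensor (∀ i, Q i) z) i =
      f.rTensor (Q i) (TensorProduct.piRightHom R R M₁ Q z i) := by
  induction z using TensorProduct.induction_on with
  | zero => simp
  | tmul m q => simp
  | add x y hx hy => simp only [map_add, Pi.add_apply, hx, hy]

/-- Elements of `N ⊗ P` are combinations of finitely many generators of `N`. -/
lemma exists_sum_tmul_of_surjective {N : Type v} [AddCommGroup N] [Module R N] {k : ℕ}
    (p : (Fin k → R) →ₗ[R] N) (hp : Function.Surjective p) (P : Type w) [AddCommGroup P]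
    [Module R P] (t : N ⊗[R] P) :
    ∃ q : Fin k → P, t = ∑ j, p (Pi.single j 1) ⊗ₜ[R] q j := by
  classical
  induction t using TensorProduct.induction_on with
  | zero => exact ⟨0, by simp⟩
  | tmul n x =>
    obtain ⟨c, rfl⟩ := hp n
    refine ⟨fun j => c j • x, ?_⟩
    have hc : p c = ∑ j, c j • p (Pi.single j 1) := by
      rw [LinearMap.pi_apply_eq_sum_univ p c]
      apply Finset.sum_congr rfl
      intro j _
      congr 2
      ext l
      simp [Pi.single_apply, eq_comm]
    rw [hc, TensorProduct.sum_tmul]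
    apply Finset.sum_congr rfl
    intro j _
    rw [TensorProduct.smul_tmul]
  | add x y hx hy =>
    obtain ⟨q, rfl⟩ := hx
    obtain ⟨q', rfl⟩ := hy
    refine ⟨q + q', ?_⟩
    rw [← Finset.sum_add_distrib]
    apply Finset.sum_congr rfl
    intro j _
    rw [Pi.add_apply, TensorProduct.tmul_add]

/-- For a finitely generated module, `N ⊗ ∏ Qᵢ → ∏ N ⊗ Qᵢ` is surjective. -/
lemma piRightHom_surjective_of_finite {N : Type v} [AddCommGroup N] [Module R N]
    [Module.Finite R N] {ι : Type w} (Q : ι → Type w) [∀ i, AddCommGroup (Q i)]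
    [∀ i, Module R (Q i)] : Function.Surjective (TensorProduct.piRightHom R R N Q) := by
  classical
  obtain ⟨k, p, hp⟩ := Module.Finite.exists_fin' R N
  intro t
  have h1 : ∀ i, ∃ q : Fin k → Q i, t i = ∑ j, p (Pi.single j 1) ⊗ₜ[R] q j :=
    fun i => exists_sum_tmul_of_surjective p hp (Q i) (t i)
  choose q hq using h1
  refine ⟨∑ j, p (Pi.single j 1) ⊗ₜ[R] (fun i => q i j), ?_⟩
  funext i
  rw [map_sum, Finset.sum_apply, hq i]
  apply Finset.sum_congr rfl
  intro j _
  rw [TensorProduct.piRightHom_tmul]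

end Groth.Agent.Lib.Helper10
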