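import Mathlib
import Groth.Agent.Lib.Helper10.ML
import Groth.Agent.S6337
import Groth.Agent.S6338
import Groth.Agent.S6340
import Groth.Agent.S6342

/-!
# More lemmas around the Mittag-Leffler condition: finitely presented modules are Mittag-Leffler,
restriction of scalars along a ring map which is finitely presented as a module.
-/

open scoped TensorProduct

namespace Groth.Agent.Lib.Helper10

universe u

variable (R : Type u) [CommRing R]

/-- The Mittag-Leffler condition is invariant under linear equivalences. -/
lemma isML_of_equiv {M M' : Type u} [AddCommGroup M] [Module R M] [AddCommGroup M'] [Module R M']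
    (e : M ≃ₗ[R] M') (h : CAlg.IsMittagLeffler R M) : CAlg.IsMittagLeffler R M' := by
  refine Groth.Agent.S6338.result R e.symm.toLinearMap ?_ h
  intro Q _ _
  apply Function.LeftInverse.injective (g := e.toLinearMap.rTensor Q)
  intro x
  rw [← LinearMap.rTensor_comp_apply]
  have h1 : e.toLinearMap ∘ₗ e.symm.toLinearMap = LinearMap.id := by
    apply LinearMap.ext
    intro m
    simp
  rw [h1, LinearMap.rTensor_id, LinearMap.id_apply]

/-- The ring itself is Mittag-Leffler. -/
lemma isML_self : CAlg.IsMittagLeffler R R := by
  intro ι Q _ _
  rw [injective_iff_map_eq_zero]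
  intro z hz
  have key : ∀ (w : R ⊗[R] (∀ i, Q i)) (i : ι),
      TensorProduct.lid R (∀ i, Q i) w i =
        TensorProduct.lid R (Q i) (TensorProduct.piRightHom R R R Q w i) := by
    intro w i
    induction w using TensorProduct.induction_on with
    | zero => simp
    | tmul r q => simp
    | add x y hx hy => simp only [map_add, Pi.add_apply, hx, hy]
  apply (TensorProduct.lid R (∀ i, Q i)).injective
  rw [map_zero]
  funext i
  rw [key, hz]
  simp

/-- Finite free modules are Mittag-Leffler. -/
lemma isML_of_finite_free (L : Type u) [AddCommGroup L] [Module R L] [Module.Free R L]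
    [Module.Finite R L] : CAlg.IsMittagLeffler R L := by
  classical
  let κ := Module.Free.ChooseBasisIndex R L
  have h1 : CAlg.IsMittagLeffler R (DirectSum κ (fun _ => R)) :=
    (Groth.Agent.S6337.result R (fun _ : κ => R)).2 (fun _ => isML_self R)
  have e1 : DirectSum κ (fun _ => R) ≃ₗ[R] (κ → R) :=
    DirectSum.linearEquivFunOnFintype R κ (fun _ => R)
  have e2 : L ≃ₗ[R] (κ → R) := (Module.Free.chooseBasis R L).equivFun
  exact isML_of_equiv R (e1.trans e2.symm) h1

/-- Finitely presented modules are Mittag-Leffler. -/
lemma isML_of_finitePresentation (N : Type u) [AddCommGroup N] [Module R N]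
    [Module.FinitePresentation R N] : CAlg.IsMittagLeffler R N := by
  obtain ⟨L, _, _, K, e, hfree, hfin, hK⟩ := Module.FinitePresentation.equiv_quotient R N
  have h1 : CAlg.IsMittagLeffler R L := isML_of_finite_free R L
  have h2 : CAlg.IsMittagLeffler R (L ⧸ K) := Groth.Agent.S6340.result R K hK h1
  exact isML_of_equiv R e.symm h2

/-- For a finitely presented module `N`, the map `N ⊗ ∏ Qᵢ → ∏ N ⊗ Qᵢ` is bijective. -/
lemma piRightHom_bijective_of_finitePresentation (N : Type u) [AddCommGroup N] [Module R N]
    [Module.FinitePresentation R N] {ι : Type u} (Q : ι → Type u) [∀ i, AddCommGroup (Q i)]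
    [∀ i, Module R (Q i)] : Function.Bijective (TensorProduct.piRightHom R R N Q) :=
  ⟨isML_of_finitePresentation R N ι Q, piRightHom_surjective_of_finite Q⟩

/-- Restriction of scalars of a Mittag-Leffler module along `R → S` with `S` finitely presented
as an `R`-module. -/
lemma isML_restrictScalars_of_finitePresentation (S : Type u) [CommRing S] [Algebra R S]
    [Module.FinitePresentation R S]
    (M : Type u) [AddCommGroup M] [Module S M] [Module R M] [IsScalarTower R S M]
    (hM : CAlg.IsMittagLeffler S M) : CAlg.IsMittagLeffler R M := by
  intro ι Q _ _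
  rw [injective_iff_map_eq_zero]
  intro z hz
  obtain ⟨z', rfl⟩ :=
    (TensorProduct.AlgebraTensorModule.cancelBaseChange R S S M (∀ i, Q i)).surjective z
  have hβ : Function.Bijective (TensorProduct.piRightHom R S S Q) := by
    have h0 := piRightHom_bijective_of_finitePresentation R S Q
    have heq : ⇑(TensorProduct.piRightHom R S S Q) = ⇑(TensorProduct.piRightHom R R S Q) :=
      funext fun x => Groth.Agent.S6342.piRightHom_eq R S Q x
    rw [heq]
    exact h0
  let e := LinearEquiv.ofBijective (TensorProduct.piRightHom R S S Q) hβ
  have h1 : Function.Injective (LinearMap.lTensor M (TensorProduct.piRightHom R S S Q)) := by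
    apply Function.LeftInverse.injective (g := LinearMap.lTensor M e.symm.toLinearMap)
    intro x
    rw [← LinearMap.lTensor_comp_apply]
    have h5 : e.symm.toLinearMap ∘ₗ TensorProduct.piRightHom R S S Q = LinearMap.id := by
      apply LinearMap.ext
      intro y
      exact e.symm_apply_apply y
    rw [h5, LinearMap.lTensor_id, LinearMap.id_apply]
  have h2 : TensorProduct.piRightHom S S M (fun i => S ⊗[R] Q i)
      (LinearMap.lTensor M (TensorProduct.piRightHom R S S Q) z') = 0 := by
    funext i
    apply (TensorProduct.AlgebraTensorModule.cancelBaseChange R S S M (Q i)).injective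
    rw [Groth.Agent.S6342.nat, hz]
    simp
  have h3 := (injective_iff_map_eq_zero _).1 (hM ι (fun i => S ⊗[R] Q i)) _ h2
  have h4 := (injective_iff_map_eq_zero _).1 h1 _ h3
  rw [h4, map_zero]

end Groth.Agent.Lib.Helper10
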