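import Mathlib
import Groth.Agent.Lib.Helper10.ML2

/-!
# Mittag-Leffler modules and domination

* `Approx R f`: a small (`Type u`) family of factorizations `P → Q_j → M` of a map `f : P → M`
  through quotients of `P × Rⁿ` by finitely generated submodules.
* `exists_approx`: a tensor relation `(f ⊗ Q) x = 0` already holds in one of these approximations.
* `exists_dominating`: for Mittag-Leffler `M` and finitely presented `P`, some approximation
  dominates `f`.
* `isML_of_dominated`: the converse criterion.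
-/

open scoped TensorProduct

namespace Groth.Agent.Lib.Helper10

universe u

variable (R : Type u) [CommRing R]

/-- Explicit approximations of a linear map `f : P → M`. -/
structure Approx {P M : Type u} [AddCommGroup P] [Module R P] [AddCommGroup M] [Module R M]
    (f : P →ₗ[R] M) : Type u where
  /-- number of extra generators -/
  n : ℕ
  /-- relations -/
  L : Submodule R (P × (Fin n → R))
  fg : L.FG
  /-- the map to `M` -/
  h : ((P × (Fin n → R)) ⧸ L) →ₗ[R] M
  comp : h ∘ₗ L.mkQ ∘ₗ LinearMap.inl R P (Fin n → R) = f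

namespace Approx

variable {R}
variable {P M : Type u} [AddCommGroup P] [Module R P] [AddCommGroup M] [Module R M]
  {f : P →ₗ[R] M} (j : Approx R f)

/-- the approximating module -/
abbrev Q : Type u := (P × (Fin j.n → R)) ⧸ j.L

/-- the map `P → Q` -/
def g : P →ₗ[R] j.Q := j.L.mkQ ∘ₗ LinearMap.inl R P (Fin j.n → R)

lemma h_comp_g : j.h ∘ₗ j.g = f := j.comp

instance [Module.FinitePresentation R P] : Module.FinitePresentation R j.Q :=
  Module.finitePresentation_of_surjective j.L.mkQ (Submodule.mkQ_surjective _)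
    (by rw [Submodule.ker_mkQ]; exact j.fg)

lemma ker_g_le (N : Type u) [AddCommGroup N] [Module R N] :
    LinearMap.ker (j.g.rTensor N) ≤ LinearMap.ker (f.rTensor N) := by
  intro x hx
  rw [LinearMap.mem_ker] at hx ⊢
  rw [← j.h_comp_g, LinearMap.rTensor_comp_apply, hx, map_zero]

end Approx

/-- A tensor relation `(f ⊗ Q) x = 0` already holds in some explicit approximation. -/
theorem exists_approx {P M Q : Type u} [AddCommGroup P] [Module R P] [Module.Finite R P]
    [AddCommGroup M] [Module R M] [AddCommGroup Q] [Module R Q] (f : P →ₗ[R] M) (x : P ⊗[R] Q)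
    (hx : f.rTensor Q x = 0) : ∃ j : Approx R f, j.g.rTensor Q x = 0 := by
  classical
  let M₁ : Submodule R M := LinearMap.range f
  have hM₁ : M₁.FG := by
    have : M₁ = Submodule.map f ⊤ := (Submodule.map_top f).symm
    rw [this]
    exact (Module.Finite.fg_top).map f
  let f₁ : P →ₗ[R] M₁ := f.codRestrict M₁ (fun p => LinearMap.mem_range_self f p)
  have hf₁ : M₁.subtype ∘ₗ f₁ = f := LinearMap.ext fun p => rfl
  have h1 : (M₁.subtype.rTensor Q) (f₁.rTensor Q x) = 0 := by
    rw [← LinearMap.rTensor_comp_apply, hf₁]; exact hx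
  obtain ⟨M₂, h12, hM₂, h2⟩ := TensorProduct.eq_zero_of_fg_of_subtype_eq_zero hM₁ h1
  let f₂ : P →ₗ[R] M₂ := (Submodule.inclusion h12) ∘ₗ f₁
  have hf₂ : M₂.subtype ∘ₗ f₂ = f := LinearMap.ext fun p => rfl
  have hx₂ : f₂.rTensor Q x = 0 := by
    rw [LinearMap.rTensor_comp_apply]; exact h2
  haveI : Module.Finite R M₂ := Module.Finite.iff_fg.mpr hM₂
  obtain ⟨n, π, hπ⟩ := Module.Finite.exists_fin' R M₂
  let ψ : P × (Fin n → R) →ₗ[R] M₂ := f₂.coprod π
  have hψ : Function.Surjective ψ := fun m => by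
    obtain ⟨v, rfl⟩ := hπ m
    exact ⟨(0, v), by simp [ψ]⟩
  let L : Submodule R (P × (Fin n → R)) := LinearMap.ker ψ
  have hex : Function.Exact L.subtype ψ := LinearMap.exact_subtype_ker_map ψ
  have hex' := rTensor_exact Q hex hψ
  let x' := (LinearMap.inl R P (Fin n → R)).rTensor Q x
  have hx' : ψ.rTensor Q x' = 0 := by
    show ψ.rTensor Q ((LinearMap.inl R P (Fin n → R)).rTensor Q x) = 0
    rw [← LinearMap.rTensor_comp_apply, show ψ ∘ₗ LinearMap.inl R P (Fin n → R) = f₂ from
      LinearMap.coprod_inl f₂ π]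
    exact hx₂
  obtain ⟨z, hz⟩ := (hex' x').mp hx'
  obtain ⟨L₀, hL₀fg, hle, z₀, hz₀⟩ := Submodule.exists_fg_le_eq_rTensor_inclusion z
  have key : ∀ w : L₀ ⊗[R] Q,
      L₀.mkQ.rTensor Q (L.subtype.rTensor Q ((L₀.inclusion hle).rTensor Q w)) = 0 := by
    intro w
    induction w using TensorProduct.induction_on with
    | zero => simp
    | tmul v q =>
      simp only [LinearMap.rTensor_tmul, Submodule.subtype_apply, Submodule.coe_inclusion,
        Submodule.mkQ_apply]
      rw [(Submodule.Quotient.mk_eq_zero L₀).mpr v.2, TensorProduct.zero_tmul]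
    | add a b ha hb => simp only [map_add, ha, hb, add_zero]
  refine ⟨⟨n, L₀, hL₀fg, M₂.subtype ∘ₗ L₀.liftQ ψ hle, ?_⟩, ?_⟩
  · rw [← hf₂]
    ext p
    simp [ψ]
  · show (L₀.mkQ ∘ₗ LinearMap.inl R P (Fin n → R)).rTensor Q x = 0
    rw [LinearMap.rTensor_comp_apply]
    show L₀.mkQ.rTensor Q x' = 0
    rw [← hz, hz₀]
    exact key z₀

/-- For a Mittag-Leffler module `M` and a map `f : P → M` from a finitely presented module, one of
the explicit approximations dominates `f`. -/
theorem exists_dominating {M : Type u} [AddCommGroup M] [Module R M]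
    (hML : CAlg.IsMittagLeffler R M) {P : Type u} [AddCommGroup P] [Module R P]
    [Module.FinitePresentation R P] (f : P →ₗ[R] M) :
    ∃ j : Approx R f, ∀ (N : Type u) [AddCommGroup N] [Module R N],
      LinearMap.ker (f.rTensor N) ≤ LinearMap.ker (j.g.rTensor N) := by
  by_contra hcon
  push_neg at hcon
  choose N iN1 iN2 hN using hcon
  have hy : ∀ j, ∃ y : P ⊗[R] N j, f.rTensor (N j) y = 0 ∧ j.g.rTensor (N j) y ≠ 0 := by
    intro j
    have := hN j
    rw [SetLike.not_le_iff_exists] at this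
    obtain ⟨y, hy1, hy2⟩ := this
    exact ⟨y, LinearMap.mem_ker.mp hy1, fun h => hy2 (LinearMap.mem_ker.mpr h)⟩
  choose y hy1 hy2 using hy
  obtain ⟨Y, hY⟩ := (piRightHom_bijective_of_finitePresentation R P N).2 y
  have hfY : f.rTensor (∀ j, N j) Y = 0 := by
    apply hML (Approx R f) N
    rw [map_zero]
    ext j
    rw [piRightHom_rTensor, hY, hy1]
    rfl
  obtain ⟨k, hk⟩ := exists_approx R f Y hfY
  apply hy2 k
  have h3 := piRightHom_rTensor k.g N Y k
  rw [hY, hk, map_zero] at h3
  exact h3.symm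

/-- Domination criterion for the Mittag-Leffler property. -/
theorem isML_of_dominated {M : Type u} [AddCommGroup M] [Module R M]
    (H : ∀ (n : ℕ) (f : (Fin n → R) →ₗ[R] M),
      ∃ (Q : Type u) (_ : AddCommGroup Q) (_ : Module R Q) (_ : Module.FinitePresentation R Q)
        (g : (Fin n → R) →ₗ[R] Q),
        ∀ (N : Type u) [AddCommGroup N] [Module R N],
          LinearMap.ker (f.rTensor N) = LinearMap.ker (g.rTensor N)) :
    CAlg.IsMittagLeffler R M := by
  intro κ Q _ _
  rw [injective_iff_map_eq_zero]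
  intro x hx
  obtain ⟨M', hfin, hsub⟩ :=
    TensorProduct.exists_finite_submodule_left_of_setFinite {x} (Set.finite_singleton x)
  obtain ⟨x₁, hx₁⟩ := hsub (Set.mem_singleton x)
  obtain ⟨n, π, hπ⟩ := Module.Finite.exists_fin' R M'
  obtain ⟨x', hx'⟩ := LinearMap.rTensor_surjective (∀ i, Q i) hπ x₁
  let f : (Fin n → R) →ₗ[R] M := M'.subtype ∘ₗ π
  have hf : f.rTensor (∀ i, Q i) x' = x := by
    rw [LinearMap.rTensor_comp_apply, hx', hx₁]
  obtain ⟨Q₀, i1, i2, i3, g, hg⟩ := H n f
  have hgx : g.rTensor (∀ i, Q i) x' = 0 := by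
    apply isML_of_finitePresentation R Q₀ κ Q
    rw [map_zero]
    ext i
    rw [piRightHom_rTensor]
    have h1 : TensorProduct.piRightHom R R (Fin n → R) Q x' i ∈ LinearMap.ker (f.rTensor (Q i)) := by
      rw [LinearMap.mem_ker, ← piRightHom_rTensor, hf, hx]
      rfl
    rw [hg (Q i)] at h1
    exact h1
  have : x' ∈ LinearMap.ker (f.rTensor (∀ i, Q i)) := by
    rw [hg]; exact hgx
  rw [← hf]; exact this

end Groth.Agent.Lib.Helper10
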