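import Mathlib
import Groth.Agent.S1454

/-!
# A dominant quasi-finite morphism of irreducible schemes to a geometrically unibranch base is
universally open (helper10; sub-lemma P7 for helper9 / S13736)
-/

set_option autoImplicit false
universe u

open CategoryTheory CategoryTheory.Limits AlgebraicGeometry TopologicalSpace

namespace Groth.Agent.Lib.Helper10.DomUnivOpen

theorem universallyOpen_of_isDominant {U X : Scheme.{u}} [IsLocallyNoetherian X]
    [IrreducibleSpace ↥X] [IrreducibleSpace ↥U]
    (hX : ∀ x : X, CAlg2.IsGeomUnibranch (X.presheaf.stalk x)) (f : U ⟶ X)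
    [LocallyQuasiFinite f] [LocallyOfFiniteType f] [IsDominant f] : UniversallyOpen f := by
  refine Groth.Agent.S1454.result f hX ?_
  intro Z hZ x hx
  rw [irreducibleComponents_eq_singleton, Set.mem_singleton_iff] at hZ
  subst hZ
  refine ⟨Set.univ, by rw [irreducibleComponents_eq_singleton]; rfl, ?_⟩
  rw [isGenericPoint_def] at hx ⊢
  apply Set.eq_univ_of_univ_subset
  have hd : DenseRange f := f.denseRange
  calc Set.univ = closure (Set.range f) := hd.closure_range.symm
    _ ⊆ closure {f x} := by
        apply closure_minimal _ isClosed_closure
        rintro _ ⟨u, rfl⟩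
        have hu : u ∈ closure ({x} : Set U) := by
          rw [hx]
          trivial
        exact map_mem_closure f.continuous hu (fun y hy => by
          rw [Set.mem_singleton_iff] at hy ⊢
          rw [hy])

end Groth.Agent.Lib.Helper10.DomUnivOpen
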