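import Mathlib

/-!
# Subobjects of the image of a finite length object under an exact fully faithful functor

If `u : A ⥤ B` is exact and fully faithful, sends simple objects to simple objects, and all
objects of `A` have finite length, then every subobject of `u X` is in the essential image of `u`;
consequently the counit of an adjunction `u ⊣ uStar` is a monomorphism.
-/

set_option autoImplicit false

open CategoryTheory CategoryTheory.Limits

universe v v' u u'

namespace H10Ess

variable {A : Type u} [Category.{v} A] [Abelian A] {B : Type u'} [Category.{v'} B] [Abelian B]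

/-- `L n X`: `X` has a filtration of length at most `n` with simple subquotients. -/
noncomputable def L : ℕ → A → Prop :=
  fun n => Nat.rec (fun X => IsZero X)
    (fun _ ih X => IsZero X ∨ ∃ (S : A) (i : S ⟶ X), Simple S ∧ Mono i ∧ ih (cokernel i)) n

lemma exists_L (hlen : ∀ X : A, IsArtinianObject X ∧ IsNoetherianObject X) (X : A) :
    ∃ n, L n X := by
  haveI := (hlen X).2
  have key : ∀ Z : Subobject X, ∀ (Q : A) (π : X ⟶ Q), Epi π → kernelSubobject π = Z →
      ∃ n, L n Q := by
    intro Z
    refine (wellFounded_gt (α := Subobject X)).induction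
      (C := fun Z => ∀ (Q : A) (π : X ⟶ Q), Epi π → kernelSubobject π = Z → ∃ n, L n Q) Z ?_
    intro Z ih Q π hπ hZ
    by_cases hQ : IsZero Q
    · exact ⟨0, hQ⟩
    · haveI := (hlen Q).1
      haveI := hπ
      obtain ⟨Y, hY⟩ := exists_simple_subobject hQ
      haveI := hY
      have hlt : kernelSubobject (π ≫ cokernel.π Y.arrow) > Z := by
        rw [← hZ]
        refine lt_of_le_of_ne (kernelSubobject_comp_le π _) ?_
        intro heq
        have h0 : Y.arrow = 0 := by
          obtain ⟨T, ρ, hρ, y, hy⟩ := surjective_up_to_refinements_of_epi π Y.arrow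
          have hf : (kernelSubobject (π ≫ cokernel.π Y.arrow)).Factors y := by
            apply kernelSubobject_factors
            rw [← Category.assoc, ← hy, Category.assoc, cokernel.condition, comp_zero]
          rw [← heq] at hf
          have hyπ : y ≫ π = 0 := (kernelSubobject_factors_iff π y).1 hf
          rw [← cancel_epi ρ, comp_zero, hy, hyπ]
        exact Simple.not_isZero (Y : A) (IsZero.of_mono_eq_zero Y.arrow h0)
      obtain ⟨n, hn⟩ := ih _ hlt (cokernel Y.arrow) (π ≫ cokernel.π Y.arrow) (epi_comp _ _) rfl
      exact ⟨n + 1, Or.inr ⟨(Y : A), Y.arrow, hY, inferInstance, hn⟩⟩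
  exact key _ X (𝟙 X) inferInstance rfl

variable (u : A ⥤ B) [u.Full] [u.Faithful] [PreservesFiniteLimits u] [PreservesFiniteColimits u]

lemma essImage_of_isZero {X : A} (hX : IsZero X) {K : B} (k : K ⟶ u.obj X) [Mono k] :
    u.essImage K := by
  have hX' : IsZero (u.obj X) := u.map_isZero hX
  exact ⟨X, ⟨(IsZero.iso (IsZero.of_mono k hX') hX').symm⟩⟩

lemma essImage_of_mono_of_L (hsimple : ∀ X : A, Simple X → Simple (u.obj X)) (n : ℕ) :
    ∀ (X : A), L n X → ∀ (K : B) (k : K ⟶ u.obj X), Mono k → u.essImage K := by
  haveI : u.Additive := Functor.additive_of_preserves_binary_products u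
  induction n with
  | zero =>
    intro X hX K k hk
    haveI := hk
    exact essImage_of_isZero u hX k
  | succ n ih =>
    intro X hX K k hk
    haveI := hk
    rcases hX with hX | ⟨S, i, hS, hi, hQ⟩
    · exact essImage_of_isZero u hX k
    · haveI := hS
      haveI := hi
      let Sc : ShortComplex A := ShortComplex.mk i (cokernel.π i) (cokernel.condition i)
      have hSc : Sc.ShortExact :=
        ShortComplex.ShortExact.mk' (ShortComplex.exact_cokernel i) hi
          (inferInstanceAs (Epi (cokernel.π i)))
      have hSc' : (Sc.map u).ShortExact := hSc.map_of_exact u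
      haveI : Mono (Sc.map u).f := hSc'.mono_f
      haveI : Mono (u.map i) := hSc'.mono_f
      haveI : Simple (u.obj S) := hsimple S hS
      let k' : K ⟶ u.obj (cokernel i) := k ≫ u.map (cokernel.π i)
      let p : K ⟶ Abelian.image k' := Abelian.factorThruImage k'
      let m : Abelian.image k' ⟶ u.obj (cokernel i) := Abelian.image.ι k'
      have hpm : p ≫ m = k' := Abelian.image.fac k'
      obtain ⟨W', ⟨e'⟩⟩ := ih (cokernel i) hQ (Abelian.image k') m inferInstance
      have h0 : (kernel.ι k' ≫ k) ≫ (Sc.map u).g = 0 := by
        show (kernel.ι k' ≫ k) ≫ u.map (cokernel.π i) = 0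
        rw [Category.assoc]
        exact kernel.condition k'
      let n₀ : kernel k' ⟶ u.obj S := hSc'.exact.lift (kernel.ι k' ≫ k) h0
      have hn₀ : n₀ ≫ u.map i = kernel.ι k' ≫ k := hSc'.exact.lift_f _ h0
      haveI : Mono n₀ := mono_of_mono_fac hn₀
      have hkp : kernel.ι k' ≫ p = 0 := by
        rw [← cancel_mono m, Category.assoc, hpm, kernel.condition, zero_comp]
      by_cases hz : n₀ = 0
      · have hk0 : kernel.ι k' = 0 := by
          rw [← cancel_mono k, zero_comp, ← hn₀, hz, zero_comp]
        haveI : Mono k' := Preadditive.mono_of_kernel_zero hk0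
        haveI : Mono p := mono_of_mono_fac hpm
        haveI : IsIso p := isIso_of_mono_of_epi p
        exact ⟨W', ⟨e' ≪≫ (asIso p).symm⟩⟩
      · haveI : IsIso n₀ := isIso_of_mono_of_nonzero hz
        let j' : W' ⟶ cokernel i := u.preimage (e'.hom ≫ m)
        have hj' : u.map j' = e'.hom ≫ m := u.map_preimage _
        have hpb : IsPullback (u.map (pullback.fst (cokernel.π i) j'))
            (u.map (pullback.snd (cokernel.π i) j')) (u.map (cokernel.π i)) (u.map j') :=
          (IsPullback.of_hasPullback (cokernel.π i) j').map u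
        have w : k ≫ u.map (cokernel.π i) = (p ≫ e'.inv) ≫ u.map j' := by
          rw [hj', Category.assoc, e'.inv_hom_id_assoc, hpm]
        let φ : K ⟶ u.obj (pullback (cokernel.π i) j') := hpb.lift k (p ≫ e'.inv) w
        have hφ1 : φ ≫ u.map (pullback.fst (cokernel.π i) j') = k := hpb.lift_fst _ _ _
        have hφ2 : φ ≫ u.map (pullback.snd (cokernel.π i) j') = p ≫ e'.inv := hpb.lift_snd _ _ _
        haveI : Mono φ := mono_of_mono_fac hφ1
        haveI : Epi φ := by
          rw [epi_iff_surjective_up_to_refinements]
          intro T x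
          obtain ⟨T', π₁, hπ₁, y, hy⟩ := surjective_up_to_refinements_of_epi p
            (x ≫ u.map (pullback.snd (cokernel.π i) j') ≫ e'.hom)
          let d : T' ⟶ u.obj X := y ≫ k - π₁ ≫ x ≫ u.map (pullback.fst (cokernel.π i) j')
          have hd : d ≫ (Sc.map u).g = 0 := by
            show (y ≫ k - π₁ ≫ x ≫ u.map (pullback.fst (cokernel.π i) j')) ≫
              u.map (cokernel.π i) = 0
            have e1 : (y ≫ k) ≫ u.map (cokernel.π i) = y ≫ p ≫ m := by
              rw [Category.assoc, hpm]
            have e2 : (π₁ ≫ x ≫ u.map (pullback.fst (cokernel.π i) j')) ≫ u.map (cokernel.π i)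
                = y ≫ p ≫ m := by
              rw [← Category.assoc y, ← hy]
              simp only [Category.assoc]
              rw [← hj', hpb.w]
            rw [Preadditive.sub_comp, e1, e2, sub_self]
          let d₀ : T' ⟶ u.obj S := hSc'.exact.lift d hd
          have hd₀ : d₀ ≫ u.map i = d := hSc'.exact.lift_f d hd
          let d' : T' ⟶ K := d₀ ≫ inv n₀ ≫ kernel.ι k'
          have hd'k : d' ≫ k = d := by
            calc d' ≫ k = d₀ ≫ inv n₀ ≫ (kernel.ι k' ≫ k) := by
                  simp only [d', Category.assoc]
              _ = d₀ ≫ inv n₀ ≫ n₀ ≫ u.map i := by rw [hn₀]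
              _ = d := by rw [IsIso.inv_hom_id_assoc, hd₀]
          have hd'p : d' ≫ p = 0 := by
            calc d' ≫ p = d₀ ≫ inv n₀ ≫ (kernel.ι k' ≫ p) := by
                  simp only [d', Category.assoc]
              _ = 0 := by rw [hkp, comp_zero, comp_zero]
          refine ⟨T', π₁, hπ₁, y - d', ?_⟩
          apply hpb.hom_ext
          · calc (π₁ ≫ x) ≫ u.map (pullback.fst (cokernel.π i) j')
                = y ≫ k - d := by
                  simp only [d, Category.assoc]
                  abel
              _ = ((y - d') ≫ φ) ≫ u.map (pullback.fst (cokernel.π i) j') := by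
                  rw [Category.assoc, hφ1, Preadditive.sub_comp, hd'k]
          · calc (π₁ ≫ x) ≫ u.map (pullback.snd (cokernel.π i) j')
                = (π₁ ≫ x ≫ u.map (pullback.snd (cokernel.π i) j') ≫ e'.hom) ≫ e'.inv := by
                  simp only [Category.assoc, e'.hom_inv_id, Category.comp_id]
              _ = (y ≫ p) ≫ e'.inv := by rw [hy]
              _ = ((y - d') ≫ φ) ≫ u.map (pullback.snd (cokernel.π i) j') := by
                  rw [Category.assoc ((y - d')), hφ2, Preadditive.sub_comp, ← Category.assoc d',
                    hd'p, zero_comp, sub_zero, Category.assoc]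
        haveI : IsIso φ := isIso_of_mono_of_epi φ
        exact ⟨pullback (cokernel.π i) j', ⟨(asIso φ).symm⟩⟩

theorem mono_counit (uStar : B ⥤ A) (adj : u ⊣ uStar)
    (hlen : ∀ X : A, IsArtinianObject X ∧ IsNoetherianObject X)
    (hsimple : ∀ X : A, Simple X → Simple (u.obj X)) (Y : B) :
    Mono (adj.counit.app Y) := by
  haveI : u.Additive := Functor.additive_of_preserves_binary_products u
  obtain ⟨n, hn⟩ := exists_L hlen (uStar.obj Y)
  obtain ⟨W, ⟨e⟩⟩ := essImage_of_mono_of_L u hsimple n (uStar.obj Y) hn
    (kernel (adj.counit.app Y)) (kernel.ι _) inferInstance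
  let j : W ⟶ uStar.obj Y := u.preimage (e.hom ≫ kernel.ι (adj.counit.app Y))
  have hj : u.map j = e.hom ≫ kernel.ι (adj.counit.app Y) := u.map_preimage _
  have h1 : (adj.homEquiv W Y).symm j = 0 := by
    rw [Adjunction.homEquiv_counit, hj, Category.assoc, kernel.condition, comp_zero]
  have h2 : (adj.homEquiv W Y).symm 0 = 0 := by
    rw [Adjunction.homEquiv_counit, u.map_zero, zero_comp]
  have hj0 : j = 0 := (adj.homEquiv W Y).symm.injective (h1.trans h2.symm)
  apply Preadditive.mono_of_kernel_zero
  have h3 : e.hom ≫ kernel.ι (adj.counit.app Y) = 0 := by rw [← hj, hj0, u.map_zero]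
  rw [← cancel_epi e.hom, h3, comp_zero]

end H10Ess
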