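import Mathlib

/-!
# Essential surjectivity of `D⁺(A') ⥤ D⁺_{A'}(A)` (chain level construction)

`ι : A' ⥤ A` exact fully faithful, essential image closed under extensions, `A'` has enough
`A`-injectives.  Every bounded below complex of `A` with cohomology in the essential image is
isomorphic in `D(A)` to (the image of) a bounded below complex of `A'` with `A`-injective terms.
-/

set_option autoImplicit false
universe w w' v v' u u'
open CategoryTheory CategoryTheory.Limits ZeroObject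

namespace H10ES

section Step

variable {A : Type u} [Category.{v} A] [Abelian A]

lemma isZero_biprod {X Y : A} (hX : IsZero X) (hY : IsZero Y) : IsZero (X ⊞ Y) := by
  rw [IsZero.iff_id_eq_zero]
  apply biprod.hom_ext
  · exact hX.eq_of_tgt _ _
  · exact hY.eq_of_tgt _ _

lemma homology_iso_of_epi {P Q X Y : A} (π : P ⟶ Q) [Epi π] (f₁ : P ⟶ X) (f₂ : Q ⟶ X)
    (g : X ⟶ Y) (h : π ≫ f₂ = f₁) (w₁ : f₁ ≫ g = 0) (w₂ : f₂ ≫ g = 0) :
    Nonempty ((ShortComplex.mk f₁ g w₁).homology ≅ (ShortComplex.mk f₂ g w₂).homology) := by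
  let φ : ShortComplex.mk f₁ g w₁ ⟶ ShortComplex.mk f₂ g w₂ :=
    { τ₁ := π, τ₂ := 𝟙 _, τ₃ := 𝟙 _
      comm₁₂ := by simp [h]
      comm₂₃ := by simp }
  haveI : Epi φ.τ₁ := (inferInstance : Epi π)
  haveI : IsIso φ.τ₂ := (inferInstance : IsIso (𝟙 X))
  haveI : Mono φ.τ₃ := (inferInstance : Mono (𝟙 Y))
  haveI := ShortComplex.quasiIso_of_epi_of_isIso_of_mono φ
  exact ⟨asIso (ShortComplex.homologyMap φ)⟩

lemma exact_of_factor {X₁ X₂ X₃ Q₂ : A} (e : X₁ ⟶ Q₂) [Epi e] (m : Q₂ ⟶ X₂)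
    (m' : cokernel m ⟶ X₃) [Mono m'] {f : X₁ ⟶ X₂} {g : X₂ ⟶ X₃}
    (hf : f = e ≫ m) (hg : g = cokernel.π m ≫ m') (w : f ≫ g = 0) :
    (ShortComplex.mk f g w).Exact := by
  subst hf hg
  let φ₁ : ShortComplex.mk (e ≫ m) (cokernel.π m ≫ m') w ⟶
      ShortComplex.mk m (cokernel.π m ≫ m') (by simp) :=
    { τ₁ := e, τ₂ := 𝟙 _, τ₃ := 𝟙 _
      comm₁₂ := by simp
      comm₂₃ := by simp }
  let φ₂ : ShortComplex.mk m (cokernel.π m) (cokernel.condition m) ⟶
      ShortComplex.mk m (cokernel.π m ≫ m') (by simp) :=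
    { τ₁ := 𝟙 _, τ₂ := 𝟙 _, τ₃ := m'
      comm₁₂ := by simp
      comm₂₃ := by simp }
  haveI : Epi φ₁.τ₁ := (inferInstance : Epi e)
  haveI : IsIso φ₁.τ₂ := (inferInstance : IsIso (𝟙 X₂))
  haveI : Mono φ₁.τ₃ := (inferInstance : Mono (𝟙 X₃))
  haveI : Epi φ₂.τ₁ := (inferInstance : Epi (𝟙 Q₂))
  haveI : IsIso φ₂.τ₂ := (inferInstance : IsIso (𝟙 X₂))
  haveI : Mono φ₂.τ₃ := (inferInstance : Mono m')
  exact (ShortComplex.exact_iff_of_epi_of_isIso_of_mono φ₁).2
    ((ShortComplex.exact_iff_of_epi_of_isIso_of_mono φ₂).1 (ShortComplex.exact_cokernel m))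

variable {Q X X' J : A} (d : Q ⟶ X) (δ : X ⟶ X') (w : d ≫ δ = 0) (g : Q ⟶ J)

/-- The map `(d, g) : Q ⟶ X ⊞ J`. -/
noncomputable abbrev mm : Q ⟶ X ⊞ J := biprod.lift d g

/-- The induced differential on the cokernel of `(d, g)`. -/
noncomputable def d' : cokernel (mm d g) ⟶ X' :=
  cokernel.desc (mm d g) (biprod.fst ≫ δ) (by simp [w])

@[reassoc (attr := simp)]
lemma π_d' : cokernel.π (mm d g) ≫ d' d δ w g = biprod.fst ≫ δ := cokernel.π_desc _ _ _

/-- The projection `cokernel (d, g) ⟶ cokernel d`. -/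
noncomputable def qq : cokernel (mm d g) ⟶ cokernel d :=
  cokernel.desc (mm d g) (biprod.fst ≫ cokernel.π d) (by simp)

@[reassoc (attr := simp)]
lemma π_qq : cokernel.π (mm d g) ≫ qq d g = biprod.fst ≫ cokernel.π d := cokernel.π_desc _ _ _

lemma d'_eq : d' d δ w g = qq d g ≫ cokernel.desc d δ w := by
  rw [← cancel_epi (cokernel.π (mm d g))]
  simp

/-- The map `J ⟶ ker d'`. -/
noncomputable def phi : J ⟶ kernel (d' d δ w g) :=
  kernel.lift _ (biprod.inr ≫ cokernel.π (mm d g)) (by simp)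

@[reassoc (attr := simp)]
lemma phi_ι : phi d δ w g ≫ kernel.ι (d' d δ w g) = biprod.inr ≫ cokernel.π (mm d g) :=
  kernel.lift_ι _ _ _

/-- The map `ker d' ⟶ H`. -/
noncomputable def bb : kernel (d' d δ w g) ⟶ kernel (cokernel.desc d δ w) :=
  kernel.lift _ (kernel.ι (d' d δ w g) ≫ qq d g)
    (by rw [Category.assoc, ← d'_eq, kernel.condition])

@[reassoc (attr := simp)]
lemma bb_ι : bb d δ w g ≫ kernel.ι (cokernel.desc d δ w) = kernel.ι (d' d δ w g) ≫ qq d g :=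
  kernel.lift_ι _ _ _

lemma uu_inr : (kernel.ι d ≫ g) ≫ (biprod.inr : J ⟶ X ⊞ J) = kernel.ι d ≫ mm d g := by
  apply biprod.hom_ext <;> simp

lemma uu_phi : (kernel.ι d ≫ g) ≫ phi d δ w g = 0 := by
  rw [← cancel_mono (kernel.ι (d' d δ w g)), zero_comp, Category.assoc, phi_ι,
    ← Category.assoc, uu_inr, Category.assoc, cokernel.condition, comp_zero]

lemma exact1 : (ShortComplex.mk (kernel.ι d ≫ g) (phi d δ w g) (uu_phi d δ w g)).Exact := by
  rw [ShortComplex.exact_iff_exact_up_to_refinements]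
  intro T t ht
  dsimp at t ht
  have h1 : (t ≫ biprod.inr) ≫ cokernel.π (mm d g) = 0 := by
    rw [Category.assoc, ← phi_ι d δ w g, ← Category.assoc, ht, zero_comp]
  obtain ⟨T₁, π, hπ, z, hz⟩ :=
    (ShortComplex.exact_cokernel (mm d g)).exact_up_to_refinements (t ≫ biprod.inr) h1
  dsimp at z hz
  have hzd : z ≫ d = 0 := by
    have := congrArg (fun f => f ≫ biprod.fst) hz
    simpa using this.symm
  have hzg : z ≫ g = π ≫ t := by
    have := congrArg (fun f => f ≫ biprod.snd) hz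
    simpa using this.symm
  refine ⟨T₁, π, hπ, kernel.lift d z hzd, ?_⟩
  dsimp
  rw [kernel.lift_ι_assoc, hzg]

lemma phi_bb : phi d δ w g ≫ bb d δ w g = 0 := by
  rw [← cancel_mono (kernel.ι (cokernel.desc d δ w))]
  simp

lemma epi_bb : Epi (bb d δ w g) := by
  rw [epi_iff_surjective_up_to_refinements]
  intro T t
  obtain ⟨T₁, π, hπ, x, hx⟩ :=
    surjective_up_to_refinements_of_epi (cokernel.π d) (t ≫ kernel.ι (cokernel.desc d δ w))
  have h2 : x ≫ δ = 0 := by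
    have : x ≫ cokernel.π d ≫ cokernel.desc d δ w = 0 := by
      rw [← Category.assoc, ← hx, Category.assoc, Category.assoc, kernel.condition, comp_zero,
        comp_zero]
    simpa using this
  have hx0 : (x ≫ biprod.inl ≫ cokernel.π (mm d g)) ≫ d' d δ w g = 0 := by
    simp [h2]
  refine ⟨T₁, π, hπ, kernel.lift _ _ hx0, ?_⟩
  rw [← cancel_mono (kernel.ι (cokernel.desc d δ w))]
  simp [hx]

lemma exact2 : (ShortComplex.mk (phi d δ w g) (bb d δ w g) (phi_bb d δ w g)).Exact := by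
  rw [ShortComplex.exact_iff_exact_up_to_refinements]
  intro T t ht
  dsimp at t ht
  have h1 : t ≫ kernel.ι (d' d δ w g) ≫ qq d g = 0 := by
    rw [← bb_ι, ← Category.assoc, ht, zero_comp]
  obtain ⟨T₁, π₁, hπ₁, c, hc⟩ :=
    surjective_up_to_refinements_of_epi (cokernel.π (mm d g)) (t ≫ kernel.ι (d' d δ w g))
  have h2 : (c ≫ biprod.fst) ≫ cokernel.π d = 0 := by
    have : c ≫ cokernel.π (mm d g) ≫ qq d g = 0 := by
      rw [← Category.assoc, ← hc]
      simp only [Category.assoc]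
      rw [h1, comp_zero]
    simpa using this
  obtain ⟨T₂, π₂, hπ₂, z, hz⟩ :=
    (ShortComplex.exact_cokernel d).exact_up_to_refinements (c ≫ biprod.fst) h2
  dsimp at z hz
  have key : (π₂ ≫ c ≫ biprod.snd - z ≫ g) ≫ (biprod.inr : J ⟶ X ⊞ J) =
      π₂ ≫ c - z ≫ mm d g := by
    apply biprod.hom_ext
    · simp [hz]
    · simp
  refine ⟨T₂, π₂ ≫ π₁, epi_comp _ _, π₂ ≫ c ≫ biprod.snd - z ≫ g, ?_⟩
  dsimp
  rw [← cancel_mono (kernel.ι (d' d δ w g))]
  have e1 : ((π₂ ≫ π₁) ≫ t) ≫ kernel.ι (d' d δ w g) = π₂ ≫ c ≫ cokernel.π (mm d g) := by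
    rw [Category.assoc, Category.assoc, hc]
  have e2 : ((π₂ ≫ c ≫ biprod.snd - z ≫ g) ≫ phi d δ w g) ≫ kernel.ι (d' d δ w g) =
      π₂ ≫ c ≫ cokernel.π (mm d g) := by
    rw [Category.assoc, phi_ι, ← Category.assoc, key, Preadditive.sub_comp, Category.assoc,
      Category.assoc, cokernel.condition, comp_zero, sub_zero]
  rw [e1, e2]

lemma shortExact :
    (ShortComplex.mk (cokernel.desc (kernel.ι d ≫ g) (phi d δ w g) (uu_phi d δ w g))
      (bb d δ w g)
      (by rw [← cancel_epi (cokernel.π (kernel.ι d ≫ g)), cokernel.π_desc_assoc, phi_bb,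
        comp_zero])).ShortExact := by
  have hmono : Mono (cokernel.desc (kernel.ι d ≫ g) (phi d δ w g) (uu_phi d δ w g)) :=
    (exact1 d δ w g).mono_cokernelDesc
  have hepi := epi_bb d δ w g
  refine ShortComplex.ShortExact.mk' ?_ hmono hepi
  let φ : ShortComplex.mk (phi d δ w g) (bb d δ w g) (phi_bb d δ w g) ⟶
      ShortComplex.mk (cokernel.desc (kernel.ι d ≫ g) (phi d δ w g) (uu_phi d δ w g))
        (bb d δ w g)
        (by rw [← cancel_epi (cokernel.π (kernel.ι d ≫ g)), cokernel.π_desc_assoc, phi_bb,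
          comp_zero]) :=
    { τ₁ := cokernel.π _, τ₂ := 𝟙 _, τ₃ := 𝟙 _
      comm₁₂ := by simp
      comm₂₃ := by simp }
  haveI : Epi φ.τ₁ := (inferInstance : Epi (cokernel.π (kernel.ι d ≫ g)))
  haveI : IsIso φ.τ₂ := (inferInstance : IsIso (𝟙 (kernel (d' d δ w g))))
  haveI : Mono φ.τ₃ := (inferInstance : Mono (𝟙 (kernel (cokernel.desc d δ w))))
  exact (ShortComplex.exact_iff_of_epi_of_isIso_of_mono φ).1 (exact2 d δ w g)

end Step

section Closure

variable {A' : Type u'} [Category.{v'} A'] [Abelian A'] {A : Type u} [Category.{v} A] [Abelian A]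
  (ι : A' ⥤ A) [ι.Additive] [PreservesFiniteLimits ι] [PreservesFiniteColimits ι]
  [ι.Full] [ι.Faithful]

lemma ess_of_iso {X Y : A} (e : X ≅ Y) (hX : ι.essImage X) : ι.essImage Y := by
  obtain ⟨X₀, ⟨e₀⟩⟩ := hX
  exact ⟨X₀, ⟨e₀ ≪≫ e⟩⟩

lemma ess_of_isZero {X : A} (hX : IsZero X) : ι.essImage X :=
  ⟨0, ⟨(ι.map_isZero (isZero_zero A')).iso hX⟩⟩

lemma ess_cokernel {Z : A} (hZ : ι.essImage Z) (I : A') (u : Z ⟶ ι.obj I) :
    ι.essImage (cokernel u) := by
  obtain ⟨Z₀, ⟨e⟩⟩ := hZ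
  obtain ⟨u₀, hu₀⟩ := ι.map_surjective (e.hom ≫ u)
  exact ⟨cokernel u₀,
    ⟨PreservesCokernel.iso ι u₀ ≪≫ cokernelIsoOfEq hu₀ ≪≫ cokernelEpiComp e.hom u⟩⟩

lemma ess_step
    (hext : ∀ S : ShortComplex A, S.ShortExact → ι.essImage S.X₁ → ι.essImage S.X₃ →
      ι.essImage S.X₂)
    {Q X X' : A} (d : Q ⟶ X) (δ : X ⟶ X') (w : d ≫ δ = 0) (I : A') (g : Q ⟶ ι.obj I)
    (hker : ι.essImage (kernel d)) (hH : ι.essImage (ShortComplex.mk d δ w).homology) :
    ι.essImage (kernel (d' d δ w g)) := by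
  have h1 : ι.essImage (cokernel (kernel.ι d ≫ g)) := ess_cokernel ι hker I _
  have h3 : ι.essImage (kernel (cokernel.desc d δ w)) :=
    ess_of_iso ι ((ShortComplex.mk d δ w).homologyIsoKernelDesc) hH
  exact hext _ (shortExact d δ w g) h1 h3

lemma exists_g (hinj : ∀ X' : A', ∃ (Y' : A') (i : X' ⟶ Y'), Mono i ∧ Injective (ι.obj Y'))
    {Q X : A} (d : Q ⟶ X) (hker : ι.essImage (kernel d)) :
    ∃ (I : A') (g : Q ⟶ ι.obj I), Injective (ι.obj I) ∧ Mono (biprod.lift d g) := by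
  obtain ⟨Z₀, ⟨e⟩⟩ := hker
  obtain ⟨Y', i, hi, hY⟩ := hinj Z₀
  haveI := hi
  haveI := hY
  obtain ⟨u, hu⟩ : ∃ u : kernel d ⟶ ι.obj Y', u = e.inv ≫ ι.map i := ⟨_, rfl⟩
  haveI : Mono u := by rw [hu]; infer_instance
  refine ⟨Y', Injective.factorThru u (kernel.ι d), hY, ?_⟩
  have hfac : kernel.ι d ≫ Injective.factorThru u (kernel.ι d) = u :=
    Injective.comp_factorThru _ _
  apply Preadditive.mono_of_cancel_zero
  intro T t ht
  have h1 : t ≫ d = 0 := by
    have := congrArg (fun f => f ≫ biprod.fst) ht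
    simpa using this
  have h2 : t ≫ Injective.factorThru u (kernel.ι d) = 0 := by
    have := congrArg (fun f => f ≫ biprod.snd) ht
    simpa using this
  have h3 : kernel.lift d t h1 ≫ u = 0 := by
    rw [← hfac, kernel.lift_ι_assoc, h2]
  have h4 : kernel.lift d t h1 = 0 := by
    rw [← cancel_mono u, h3, zero_comp]
  calc t = kernel.lift d t h1 ≫ kernel.ι d := (kernel.lift_ι d t h1).symm
    _ = 0 := by rw [h4, zero_comp]

end Closure

end H10ES
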