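import Groth.Agent.Lib.Helper10.EssSurjInjMain

/-!
# Essential surjectivity statement (with shifts) for `EssSurjInj`
-/

set_option autoImplicit false
universe w w' v v' u u'
open CategoryTheory CategoryTheory.Limits ZeroObject

namespace H10ES

theorem main {A' : Type u'} [Category.{v'} A'] [Abelian A'] [HasDerivedCategory.{w'} A']
    {A : Type u} [Category.{v} A] [Abelian A] [HasDerivedCategory.{w} A]
    (ι : A' ⥤ A) [ι.Additive] [PreservesFiniteLimits ι] [PreservesFiniteColimits ι]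
    [ι.Full] [ι.Faithful]
    (hext : ∀ S : ShortComplex A, S.ShortExact → ι.essImage S.X₁ → ι.essImage S.X₃ →
      ι.essImage S.X₂)
    (hinj : ∀ X' : A', ∃ (Y' : A') (i : X' ⟶ Y'), Mono i ∧ Injective (ι.obj Y'))
    (Z : DerivedCategory A) (a : ℤ) [Z.IsGE a]
    (hZ : ∀ i : ℤ, ι.essImage ((DerivedCategory.homologyFunctor A i).obj Z)) :
    ∃ (I : CochainComplex A' ℤ), I.IsStrictlyGE a ∧ (∀ n : ℤ, Injective (ι.obj (I.X n))) ∧
      Nonempty (ι.mapDerivedCategory.obj (DerivedCategory.Q.obj I) ≅ Z) := by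
  haveI : (Z⟦a⟧).IsGE 0 := DerivedCategory.TStructure.t.isGE_shift Z a a 0 (add_zero a)
  obtain ⟨L, hL0, ⟨eL⟩⟩ := DerivedCategory.exists_iso_Q_obj_of_isGE (Z⟦a⟧) 0
  have hLh : ∀ n : ℤ, ι.essImage (L.homology n) := by
    intro n
    have e1 : (DerivedCategory.homologyFunctor A n).obj (DerivedCategory.Q.obj L) ≅
        L.homology n := (DerivedCategory.homologyFunctorFactors A n).app L
    have e2 : (DerivedCategory.homologyFunctor A n).obj (Z⟦a⟧) ≅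
        (DerivedCategory.homologyFunctor A n).obj (DerivedCategory.Q.obj L) :=
      (DerivedCategory.homologyFunctor A n).mapIso eL
    have e3 : (DerivedCategory.homologyFunctor A n).obj (Z⟦a⟧) ≅
        (DerivedCategory.homologyFunctor A (a + n)).obj Z :=
      ((DerivedCategory.homologyFunctor A 0).shiftIso a n (a + n) rfl).app Z
    exact ess_of_iso ι (e3.symm ≪≫ e2 ≪≫ e1) (hZ (a + n))
  have h : Hyp ι L := ⟨hL0, hext, hinj, hLh⟩
  obtain ⟨I₀, hI₀, hinj₀, ⟨e₀⟩⟩ := exists_of_ge_zero h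
  haveI := hI₀
  refine ⟨I₀⟦(1 - a)⟧, I₀.isStrictlyGE_shift 1 (1 - a) a (by lia), fun n => hinj₀ (n + (1 - a)),
    ⟨?_⟩⟩
  have f1 : ι.mapDerivedCategory.obj (DerivedCategory.Q.obj (I₀⟦(1 - a)⟧)) ≅
      DerivedCategory.Q.obj ((ι.mapHomologicalComplex (ComplexShape.up ℤ)).obj (I₀⟦(1 - a)⟧)) :=
    ι.mapDerivedCategoryFactors.app (I₀⟦(1 - a)⟧)
  have f2 : DerivedCategory.Q.obj
        ((ι.mapHomologicalComplex (ComplexShape.up ℤ)).obj (I₀⟦(1 - a)⟧)) ≅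
      DerivedCategory.Q.obj
        (((ι.mapHomologicalComplex (ComplexShape.up ℤ)).obj I₀)⟦(1 - a)⟧) :=
    DerivedCategory.Q.mapIso
      (((ι.mapHomologicalComplex (ComplexShape.up ℤ)).commShiftIso (1 - a)).app I₀)
  have f3 : DerivedCategory.Q.obj
        (((ι.mapHomologicalComplex (ComplexShape.up ℤ)).obj I₀)⟦(1 - a)⟧) ≅
      (DerivedCategory.Q.obj ((ι.mapHomologicalComplex (ComplexShape.up ℤ)).obj I₀))⟦(1 - a)⟧ :=
    (DerivedCategory.Q.commShiftIso (1 - a)).app _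
  have f4 : (DerivedCategory.Q.obj
        ((ι.mapHomologicalComplex (ComplexShape.up ℤ)).obj I₀))⟦(1 - a)⟧ ≅
      ((DerivedCategory.Q.obj
        ((ι.mapHomologicalComplex (ComplexShape.up ℤ)).obj I₀))⟦(1 : ℤ)⟧)⟦(-a)⟧ :=
    (shiftFunctorAdd' (DerivedCategory A) 1 (-a) (1 - a) (by lia)).app _
  have f5 : ((DerivedCategory.Q.obj
        ((ι.mapHomologicalComplex (ComplexShape.up ℤ)).obj I₀))⟦(1 : ℤ)⟧)⟦(-a)⟧ ≅
      (Z⟦a⟧)⟦(-a)⟧ :=
    (shiftFunctor (DerivedCategory A) (-a)).mapIso (e₀.symm ≪≫ eL.symm)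
  have f6 : (Z⟦a⟧)⟦(-a)⟧ ≅ Z :=
    (shiftFunctorCompIsoId (DerivedCategory A) a (-a) (by simp)).app Z
  exact f1 ≪≫ f2 ≪≫ f3 ≪≫ f4 ≪≫ f5 ≪≫ f6

end H10ES
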