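import Groth.Agent.Lib.Helper10.EssSurjInjStage

/-!
# The complexes and the main theorem for `EssSurjInj`
-/

set_option autoImplicit false
universe w w' v v' u u'
open CategoryTheory CategoryTheory.Limits ZeroObject

namespace H10ES

lemma prev_ofNat_succ (k : ℕ) : (ComplexShape.up ℤ).prev (Int.ofNat (k + 1)) = Int.ofNat k := by
  rw [CochainComplex.prev]
  show ((k + 1 : ℕ) : ℤ) - 1 = (k : ℤ)
  push_cast
  ring

lemma next_ofNat (k : ℕ) : (ComplexShape.up ℤ).next (Int.ofNat k) = Int.ofNat (k + 1) := by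
  rw [CochainComplex.next]
  rfl

lemma prev_ofNat_zero : (ComplexShape.up ℤ).prev (Int.ofNat 0) = Int.negSucc 0 := by
  rw [CochainComplex.prev]
  rfl

section Complexes

lemma exact_of_factor' {A : Type u} [Category.{v} A] [Abelian A] {X₁ X₂ X₃ Q₂ : A}
    (e : X₁ ⟶ Q₂) (he : Epi e) (m : Q₂ ⟶ X₂)
    (m' : cokernel m ⟶ X₃) (hm' : Mono m') {f : X₁ ⟶ X₂} {g : X₂ ⟶ X₃}
    (hf : f = e ≫ m) (hg : g = cokernel.π m ≫ m') (w : f ≫ g = 0) :
    (ShortComplex.mk f g w).Exact := by
  haveI := he
  haveI := hm'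
  exact exact_of_factor e m m' hf hg w

variable {A' : Type u'} [Category.{v'} A'] [Abelian A'] {A : Type u} [Category.{v} A] [Abelian A]
  {ι : A' ⥤ A} [ι.Additive] [PreservesFiniteLimits ι] [PreservesFiniteColimits ι]
  [ι.Full] [ι.Faithful]
  {L : CochainComplex A ℤ} (h : Hyp ι L)

/-- The objects of the complex `I` of `A'`. -/
noncomputable def IX : ℤ → A'
  | Int.ofNat k => (stage h k).I
  | Int.negSucc _ => 0

/-- The differential of `I`. -/
noncomputable def Id : ∀ n : ℤ, IX h n ⟶ IX h (n + 1)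
  | Int.ofNat k => ι.preimage ((stage h k).dJ h)
  | Int.negSucc _ => 0

lemma Id_sq (n : ℤ) : Id h n ≫ Id h (n + 1) = 0 := by
  rcases n with k | k
  · show ι.preimage ((stage h k).dJ h) ≫ ι.preimage (((stage h k).next h).dJ h) = 0
    apply ι.map_injective
    rw [ι.map_comp, ι.map_preimage, ι.map_preimage, ι.map_zero]
    exact (stage h k).dJ_dJ h
  · exact zero_comp

/-- The complex `I` of objects of `A'`. -/
noncomputable def Icx : CochainComplex A' ℤ := CochainComplex.of (IX h) (Id h) (Id_sq h)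

/-- The objects of the total complex. -/
noncomputable abbrev CX (n : ℤ) : A := L.X n ⊞ ι.obj (IX h n)

/-- The differential of the total complex. -/
noncomputable def CD : ∀ n : ℤ, CX h n ⟶ CX h (n + 1)
  | Int.ofNat k => (stage h k).Dm h
  | Int.negSucc _ => 0

lemma CD_sq (n : ℤ) : CD h n ≫ CD h (n + 1) = 0 := by
  rcases n with k | k
  · exact (stage h k).Dm_Dm h
  · exact zero_comp

/-- The total complex. -/
noncomputable def Ccx : CochainComplex A ℤ := CochainComplex.of (CX h) (CD h) (CD_sq h)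

/-- The inclusion `ι(I) ⟶ C`. -/
noncomputable def iJ : (ι.mapHomologicalComplex (ComplexShape.up ℤ)).obj (Icx h) ⟶ Ccx h where
  f n := (biprod.inr : ι.obj (IX h n) ⟶ L.X n ⊞ ι.obj (IX h n))
  comm' i j hij := by
    obtain rfl : i + 1 = j := hij
    show biprod.inr ≫ CochainComplex.of.d (CX h) (CD h) i (i + 1) =
      ι.map (CochainComplex.of.d (IX h) (Id h) i (i + 1)) ≫ biprod.inr
    rw [CochainComplex.of_d, CochainComplex.of_d]
    rcases i with k | k
    · show biprod.inr ≫ (stage h k).Dm h =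
        ι.map (ι.preimage ((stage h k).dJ h)) ≫ biprod.inr
      rw [ι.map_preimage]
      exact (stage h k).inr_Dm h
    · show biprod.inr ≫ (0 : CX h (Int.negSucc k) ⟶ CX h (Int.negSucc k + 1)) =
        ι.map (0 : IX h (Int.negSucc k) ⟶ IX h (Int.negSucc k + 1)) ≫ biprod.inr
      rw [comp_zero, ι.map_zero, zero_comp]

/-- The projection `C ⟶ L`. -/
noncomputable def pL : Ccx h ⟶ L where
  f n := (biprod.fst : L.X n ⊞ ι.obj (IX h n) ⟶ L.X n)
  comm' i j hij := by
    obtain rfl : i + 1 = j := hij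
    show biprod.fst ≫ L.d i (i + 1) = CochainComplex.of.d (CX h) (CD h) i (i + 1) ≫ biprod.fst
    rw [CochainComplex.of_d]
    rcases i with k | k
    · exact ((stage h k).Dm_fst h).symm
    · show biprod.fst ≫ L.d (Int.negSucc k) (Int.negSucc k + 1) =
        (0 : CX h (Int.negSucc k) ⟶ CX h (Int.negSucc k + 1)) ≫ biprod.fst
      rw [zero_comp, (h.isZero_neg _ (Int.negSucc_lt_zero k)).eq_of_src (L.d _ _) 0, comp_zero]

/-- The short exact sequence `0 ⟶ ι(I) ⟶ C ⟶ L ⟶ 0`. -/
noncomputable def ses : ShortComplex (CochainComplex A ℤ) :=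
  ShortComplex.mk (iJ h) (pL h) (by
    ext n
    show (biprod.inr : ι.obj (IX h n) ⟶ L.X n ⊞ ι.obj (IX h n)) ≫ biprod.fst = 0
    exact biprod.inr_fst)

lemma ses_shortExact : (ses h).ShortExact := by
  apply HomologicalComplex.shortExact_of_degreewise_shortExact
  intro n
  exact ShortComplex.Splitting.shortExact
    (S := (ses h).map (HomologicalComplex.eval A (ComplexShape.up ℤ) n))
    { r := (biprod.snd : L.X n ⊞ ι.obj (IX h n) ⟶ ι.obj (IX h n))
      s := (biprod.inl : L.X n ⟶ L.X n ⊞ ι.obj (IX h n))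
      f_r := biprod.inr_snd
      s_g := biprod.inl_fst
      id := (add_comm (biprod.snd ≫ biprod.inr : L.X n ⊞ ι.obj (IX h n) ⟶ _)
        (biprod.fst ≫ biprod.inl)).trans biprod.total }

lemma Ccx_exactAt (n : ℤ) : (Ccx h).ExactAt n := by
  rcases n with k | k
  · rcases k with _ | k
    · rw [HomologicalComplex.exactAt_iff' _ (Int.negSucc 0) (Int.ofNat 0) (Int.ofNat 1)
        prev_ofNat_zero (next_ofNat 0)]
      have hz : IsZero ((stage h 0).Q) := h.isZero_neg (-1) (by lia)
      show (ShortComplex.mk ((Ccx h).d (Int.negSucc 0) (Int.ofNat 0))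
        ((Ccx h).d (Int.ofNat 0) (Int.ofNat 1)) ((Ccx h).d_comp_d _ _ _)).Exact
      refine exact_of_factor' (0 : (Ccx h).X (Int.negSucc 0) ⟶ (stage h 0).Q) (hz.epi _)
        (mm (stage h 0).d (stage h 0).g) (mm (stage h 1).d (stage h 1).g) (stage h 1).mono
        ?_ ?_ _
      · rw [zero_comp]
        exact CochainComplex.of_d (CX h) (CD h) (Int.negSucc 0)
      · exact CochainComplex.of_d (CX h) (CD h) (Int.ofNat 0)
    · rw [HomologicalComplex.exactAt_iff' _ (Int.ofNat k) (Int.ofNat (k + 1))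
        (Int.ofNat (k + 1 + 1)) (prev_ofNat_succ k) (next_ofNat (k + 1))]
      show (ShortComplex.mk ((Ccx h).d (Int.ofNat k) (Int.ofNat (k + 1)))
        ((Ccx h).d (Int.ofNat (k + 1)) (Int.ofNat (k + 1 + 1))) ((Ccx h).d_comp_d _ _ _)).Exact
      exact exact_of_factor' (cokernel.π (mm (stage h k).d (stage h k).g)) inferInstance
        (mm (stage h (k + 1)).d (stage h (k + 1)).g)
        (mm (stage h (k + 1 + 1)).d (stage h (k + 1 + 1)).g) (stage h (k + 1 + 1)).mono
        (CochainComplex.of_d (CX h) (CD h) (Int.ofNat k))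
        (CochainComplex.of_d (CX h) (CD h) (Int.ofNat (k + 1))) _
  · apply ShortComplex.exact_of_isZero_X₂
    exact isZero_biprod (h.isZero_neg _ (Int.negSucc_lt_zero k))
      (ι.map_isZero (isZero_zero A'))

end Complexes

section Final

lemma isZero_Q_of_acyclic {C : Type u} [Category.{v} C] [Abelian C] [HasDerivedCategory.{w} C]
    (K : CochainComplex C ℤ) (hK : ∀ n, K.ExactAt n) : IsZero (DerivedCategory.Q.obj K) := by
  have hq : QuasiIso (0 : K ⟶ 0) := by
    rw [quasiIso_iff]
    intro n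
    rw [quasiIsoAt_iff_exactAt _ _ (hK n)]
    exact HomologicalComplex.acyclic_of_isZero _ (isZero_zero _) n
  haveI : IsIso (DerivedCategory.Q.map (0 : K ⟶ 0)) :=
    (DerivedCategory.isIso_Q_map_iff_quasiIso C (0 : K ⟶ 0)).2 hq
  exact IsZero.of_iso (DerivedCategory.Q.map_isZero (isZero_zero _))
    (asIso (DerivedCategory.Q.map (0 : K ⟶ 0)))

variable {A' : Type u'} [Category.{v'} A'] [Abelian A'] {A : Type u} [Category.{v} A] [Abelian A]
  [HasDerivedCategory.{w} A]
  {ι : A' ⥤ A} [ι.Additive] [PreservesFiniteLimits ι] [PreservesFiniteColimits ι]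
  [ι.Full] [ι.Faithful]
  {L : CochainComplex A ℤ}

theorem exists_of_ge_zero (h : Hyp ι L) :
    ∃ (I : CochainComplex A' ℤ), I.IsStrictlyGE 1 ∧ (∀ n : ℤ, Injective (ι.obj (I.X n))) ∧
      Nonempty (DerivedCategory.Q.obj L ≅
        (DerivedCategory.Q.obj
          ((ι.mapHomologicalComplex (ComplexShape.up ℤ)).obj I))⟦(1 : ℤ)⟧) := by
  refine ⟨Icx h, ?_, ?_, ?_⟩
  · rw [CochainComplex.isStrictlyGE_iff]
    intro i hi
    rcases i with k | k
    · rcases k with _ | k
      · exact isZero_zero A'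
      · exfalso
        have hi' : ((k + 1 : ℕ) : ℤ) < 1 := hi
        omega
    · exact isZero_zero A'
  · intro n
    rcases n with k | k
    · exact (stage h k).inj
    · exact (ι.map_isZero (isZero_zero A')).injective
  · have hS := ses_shortExact h
    have hT := DerivedCategory.triangleOfSES_distinguished hS
    have hz : IsZero (DerivedCategory.triangleOfSES hS).obj₂ :=
      isZero_Q_of_acyclic _ (Ccx_exactAt h)
    haveI : IsIso (DerivedCategory.triangleOfSES hS).mor₃ :=
      (Pretriangulated.Triangle.isZero₂_iff_isIso₃ _ hT).1 hz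
    have e := asIso (DerivedCategory.triangleOfSES hS).mor₃
    exact ⟨e⟩

end Final

end H10ES
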