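import Groth.Agent.Lib.Helper10.EssSurjInj

/-!
# The inductive construction (stages) for `EssSurjInj`
-/

set_option autoImplicit false
universe w w' v v' u u'
open CategoryTheory CategoryTheory.Limits ZeroObject

namespace H10ES

section Construction

variable {A' : Type u'} [Category.{v'} A'] [Abelian A'] {A : Type u} [Category.{v} A] [Abelian A]
  (ι : A' ⥤ A) [ι.Additive] [PreservesFiniteLimits ι] [PreservesFiniteColimits ι]
  [ι.Full] [ι.Faithful]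
  (L : CochainComplex A ℤ)

/-- The standing hypotheses. -/
structure Hyp : Prop where
  ge : L.IsStrictlyGE 0
  hext : ∀ S : ShortComplex A, S.ShortExact → ι.essImage S.X₁ → ι.essImage S.X₃ →
    ι.essImage S.X₂
  hinj : ∀ X' : A', ∃ (Y' : A') (i : X' ⟶ Y'), Mono i ∧ Injective (ι.obj Y')
  hL : ∀ n : ℤ, ι.essImage (L.homology n)

/-- The data at stage `k`. -/
structure Stage (k : ℕ) where
  Q : A
  d : Q ⟶ L.X (k : ℤ)
  w : d ≫ L.d (k : ℤ) ((k + 1 : ℕ) : ℤ) = 0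
  I : A'
  g : Q ⟶ ι.obj I
  inj : Injective (ι.obj I)
  mono : Mono (biprod.lift d g)
  hker : ι.essImage (kernel d)
  hH : ι.essImage (ShortComplex.mk d (L.d (k : ℤ) ((k + 1 : ℕ) : ℤ)) w).homology

variable {ι L}

lemma comp_zero_general {X₁ X₂ X₃ Q₂ Q₃ : A} (e : X₁ ⟶ Q₂) (m : Q₂ ⟶ X₂) (p : X₂ ⟶ Q₃)
    (m' : Q₃ ⟶ X₃) (hmp : m ≫ p = 0) : (e ≫ m) ≫ (p ≫ m') = 0 := by
  rw [Category.assoc, reassoc_of% hmp, zero_comp, comp_zero]

lemma Hyp.isZero_neg (h : Hyp ι L) (n : ℤ) (hn : n < 0) : IsZero (L.X n) := by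
  haveI := h.ge
  exact L.isZero_of_isStrictlyGE 0 n hn

lemma Stage.next_w {k : ℕ} (s : Stage ι L k) :
    d' s.d (L.d (k : ℤ) ((k + 1 : ℕ) : ℤ)) s.w s.g ≫
      L.d ((k + 1 : ℕ) : ℤ) ((k + 1 + 1 : ℕ) : ℤ) = 0 := by
  rw [← cancel_epi (cokernel.π (mm s.d s.g)), π_d'_assoc, HomologicalComplex.d_comp_d,
    comp_zero, comp_zero]

lemma Stage.next_hker (h : Hyp ι L) {k : ℕ} (s : Stage ι L k) :
    ι.essImage (kernel (d' s.d (L.d (k : ℤ) ((k + 1 : ℕ) : ℤ)) s.w s.g)) :=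
  ess_step ι h.hext s.d _ s.w s.I s.g s.hker s.hH

lemma Stage.next_hH (h : Hyp ι L) {k : ℕ} (s : Stage ι L k) :
    ι.essImage (ShortComplex.mk (d' s.d (L.d (k : ℤ) ((k + 1 : ℕ) : ℤ)) s.w s.g)
      (L.d ((k + 1 : ℕ) : ℤ) ((k + 1 + 1 : ℕ) : ℤ)) s.next_w).homology := by
  obtain ⟨e₁⟩ := homology_iso_of_epi (cokernel.π (mm s.d s.g))
    (biprod.fst ≫ L.d (k : ℤ) ((k + 1 : ℕ) : ℤ))
    (d' s.d (L.d (k : ℤ) ((k + 1 : ℕ) : ℤ)) s.w s.g)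
    (L.d ((k + 1 : ℕ) : ℤ) ((k + 1 + 1 : ℕ) : ℤ)) (π_d' s.d _ s.w s.g)
    (by rw [Category.assoc, HomologicalComplex.d_comp_d, comp_zero]) s.next_w
  obtain ⟨e₂⟩ := homology_iso_of_epi
    (biprod.fst : L.X (k : ℤ) ⊞ ι.obj s.I ⟶ L.X (k : ℤ))
    (biprod.fst ≫ L.d (k : ℤ) ((k + 1 : ℕ) : ℤ))
    (L.d (k : ℤ) ((k + 1 : ℕ) : ℤ))
    (L.d ((k + 1 : ℕ) : ℤ) ((k + 1 + 1 : ℕ) : ℤ)) rfl
    (by rw [Category.assoc, HomologicalComplex.d_comp_d, comp_zero]) (L.d_comp_d _ _ _)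
  have e₃ : L.homology ((k + 1 : ℕ) : ℤ) ≅
      (ShortComplex.mk (L.d (k : ℤ) ((k + 1 : ℕ) : ℤ))
        (L.d ((k + 1 : ℕ) : ℤ) ((k + 1 + 1 : ℕ) : ℤ)) (L.d_comp_d _ _ _)).homology :=
    L.homologyIsoSc' (k : ℤ) ((k + 1 : ℕ) : ℤ) ((k + 1 + 1 : ℕ) : ℤ) (by simp) (by simp)
  exact ess_of_iso ι (e₃ ≪≫ e₂.symm ≪≫ e₁) (h.hL _)

/-- The next stage. -/
noncomputable def Stage.next (h : Hyp ι L) {k : ℕ} (s : Stage ι L k) : Stage ι L (k + 1) where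
  Q := cokernel (mm s.d s.g)
  d := d' s.d (L.d (k : ℤ) ((k + 1 : ℕ) : ℤ)) s.w s.g
  w := s.next_w
  I := (exists_g ι h.hinj (d' s.d (L.d (k : ℤ) ((k + 1 : ℕ) : ℤ)) s.w s.g)
    (s.next_hker h)).choose
  g := (exists_g ι h.hinj (d' s.d (L.d (k : ℤ) ((k + 1 : ℕ) : ℤ)) s.w s.g)
    (s.next_hker h)).choose_spec.choose
  inj := (exists_g ι h.hinj (d' s.d (L.d (k : ℤ) ((k + 1 : ℕ) : ℤ)) s.w s.g)
    (s.next_hker h)).choose_spec.choose_spec.1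
  mono := (exists_g ι h.hinj (d' s.d (L.d (k : ℤ) ((k + 1 : ℕ) : ℤ)) s.w s.g)
    (s.next_hker h)).choose_spec.choose_spec.2
  hker := s.next_hker h
  hH := s.next_hH h

/-- The initial stage. -/
noncomputable def base (h : Hyp ι L) : Stage ι L 0 where
  Q := L.X (-1)
  d := L.d (-1) ((0 : ℕ) : ℤ)
  w := L.d_comp_d _ _ _
  I := 0
  g := 0
  inj := (ι.map_isZero (isZero_zero A')).injective
  mono := (h.isZero_neg (-1) (by lia)).mono _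
  hker := ess_of_isZero ι (IsZero.of_mono (kernel.ι _) (h.isZero_neg (-1) (by lia)))
  hH := ess_of_iso ι (L.homologyIsoSc' (-1) ((0 : ℕ) : ℤ) ((0 + 1 : ℕ) : ℤ) (by simp) (by simp))
    (h.hL _)

/-- All stages. -/
noncomputable def stage (h : Hyp ι L) : ∀ k : ℕ, Stage ι L k
  | 0 => base h
  | (k + 1) => (stage h k).next h

lemma stage_succ (h : Hyp ι L) (k : ℕ) : stage h (k + 1) = (stage h k).next h := rfl

/-- The differential of the total complex at a stage. -/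
noncomputable def Stage.Dm (h : Hyp ι L) {k : ℕ} (s : Stage ι L k) :
    L.X (k : ℤ) ⊞ ι.obj s.I ⟶ L.X ((k + 1 : ℕ) : ℤ) ⊞ ι.obj (s.next h).I :=
  cokernel.π (mm s.d s.g) ≫ mm (s.next h).d (s.next h).g

lemma Stage.Dm_fst (h : Hyp ι L) {k : ℕ} (s : Stage ι L k) :
    s.Dm h ≫ biprod.fst = biprod.fst ≫ L.d (k : ℤ) ((k + 1 : ℕ) : ℤ) := by
  have : cokernel.π (mm s.d s.g) ≫ (s.next h).d = biprod.fst ≫ L.d (k : ℤ) ((k + 1 : ℕ) : ℤ) :=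
    π_d' s.d _ s.w s.g
  rw [Stage.Dm, Category.assoc, biprod.lift_fst, this]

lemma Stage.Dm_Dm (h : Hyp ι L) {k : ℕ} (s : Stage ι L k) :
    s.Dm h ≫ (s.next h).Dm h = 0 := by
  exact comp_zero_general _ _ _ _ (cokernel.condition _)

/-- The differential of `J` at a stage. -/
noncomputable def Stage.dJ (h : Hyp ι L) {k : ℕ} (s : Stage ι L k) :
    ι.obj s.I ⟶ ι.obj (s.next h).I :=
  biprod.inr ≫ s.Dm h ≫ biprod.snd

lemma Stage.inr_Dm (h : Hyp ι L) {k : ℕ} (s : Stage ι L k) :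
    (biprod.inr : ι.obj s.I ⟶ L.X (k : ℤ) ⊞ ι.obj s.I) ≫ s.Dm h = s.dJ h ≫ biprod.inr := by
  apply biprod.hom_ext
  · rw [Category.assoc, s.Dm_fst h, biprod.inr_fst_assoc, zero_comp, Category.assoc,
      biprod.inr_fst, comp_zero]
  · simp [Stage.dJ]

lemma Stage.dJ_dJ (h : Hyp ι L) {k : ℕ} (s : Stage ι L k) :
    s.dJ h ≫ (s.next h).dJ h = 0 := by
  calc s.dJ h ≫ (s.next h).dJ h
      = (s.dJ h ≫ biprod.inr) ≫ (s.next h).Dm h ≫ biprod.snd := by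
        simp only [Stage.dJ, Category.assoc]
    _ = (biprod.inr ≫ s.Dm h) ≫ (s.next h).Dm h ≫ biprod.snd := by rw [s.inr_Dm h]
    _ = biprod.inr ≫ (s.Dm h ≫ (s.next h).Dm h) ≫ biprod.snd := by simp only [Category.assoc]
    _ = 0 := by rw [s.Dm_Dm h, zero_comp, comp_zero]

end Construction

end H10ES
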