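import Mathlib
import Groth.Agent.Lib.Helper10.EtQuotA
import Groth.Agent.S9868
import Groth.Agent.S9869

/-!
# Helper library (helper10): an etale sheaf with an etale chart is an algebraic space

`isAlgSpaceP_of_etale_chart`: a presheaf `F` which is a sheaf for the big etale topology, with a
map `p : h_U ⟶ F` which is etale locally surjective and whose kernel pair is represented by a
scheme `R` with etale projections, is an algebraic space (it is the fppf quotient sheaf `U/R`).
-/

set_option autoImplicit false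
universe u
open CategoryTheory CategoryTheory.Limits AlgebraicGeometry Opposite

namespace H10PT.EtQuot

open AlgSp H10PT.EtSh

variable {S : Scheme.{u}}

theorem isEqvRel_of_isPullback {F : PSp S} {R U : Over S} (s t : R ⟶ U) (p : (pyon S).obj U ⟶ F)
    (sq : IsPullback ((pyon S).map t) ((pyon S).map s) p p) : IsEqvRel s t where
  injective T r r' h1 h2 := by
    apply (pyon S).map_injective
    apply sq.hom_ext
    · rw [← Functor.map_comp, ← Functor.map_comp, h1]
    · rw [← Functor.map_comp, ← Functor.map_comp, h2]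
  equivalence T := by
    have key : ∀ a b : T ⟶ U, (∃ r : T ⟶ R, r ≫ t = a ∧ r ≫ s = b) ↔
        (pyon S).map a ≫ p = (pyon S).map b ≫ p :=
      fun a b => (rel_iff_of_isPullback s t p sq a b).symm
    exact ⟨fun a => (key a a).2 rfl, fun {a b} hab => (key b a).2 ((key a b).1 hab).symm,
      fun {a b c} hab hbc => (key a c).2 (((key a b).1 hab).trans ((key b c).1 hbc))⟩

theorem isAlgSpaceP_of_etale_chart (F : PSp S) (h1 : Presheaf.IsSheaf (Jet S) F)
    {R U : Over S} (s t : R ⟶ U) (p : (pyon S).obj U ⟶ F)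
    (sq : IsPullback ((pyon S).map t) ((pyon S).map s) p p) (hs : Etale s.left) (ht : Etale t.left)
    (hlift : ∀ ⦃T : Over S⦄ (ξ : (pyon S).obj T ⟶ F), ∃ (V : Over S) (v : V ⟶ T)
      (fst : (pyon S).obj V ⟶ (pyon S).obj U),
      fst ≫ p = (pyon S).map v ≫ ξ ∧ Etale v.left ∧ Surjective v.left) :
    IsAlgSpaceP F := by
  have hrel : ∀ {T : Over S} (x y : T ⟶ U),
      (pyon S).map x ≫ p = (pyon S).map y ≫ p ↔ ∃ r : T ⟶ R, r ≫ t = x ∧ r ≫ s = y :=
    fun x y => rel_iff_of_isPullback s t p sq x y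
  have hEt : IsEtaleEqvRel s t :=
    { toIsEqvRel := isEqvRel_of_isPullback s t p sq
      etale_left := hs
      etale_right := ht }
  have hq := Groth.Agent.S9868.result S s t hEt
  have hP := Groth.Agent.S9869.result S s t hEt hq
  suffices main : ∀ (F' : Sp S) (hq : IsAlgSpace F') (p' : (yon S).obj U ⟶ F')
      (hP : IsPresentation s t p'), AlgSp.IsAlgSpaceP F from main _ hq _ hP
  intro F' hq p' hP
  have sq' : IsPullback ((pyon S).map t) ((pyon S).map s) p'.hom p'.hom :=
    hP.isPullback.map (sheafToPresheaf (J S) (Type (u + 1)))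
  let A : Sheaf (Jet S) (Type (u + 1)) :=
    ⟨(pyon S).obj U, isSheaf_jet ((yon S).obj U).property⟩
  let B : Sheaf (Jet S) (Type (u + 1)) := ⟨F, h1⟩
  let B' : Sheaf (Jet S) (Type (u + 1)) := ⟨F'.obj, isSheaf_jet F'.property⟩
  let a : A ⟶ B := ObjectProperty.homMk p
  let a' : A ⟶ B' := ObjectProperty.homMk p'.hom
  haveI ha : Sheaf.IsLocallySurjective a := isLocallySurjective_of_relative p hlift
  haveI ha' : Sheaf.IsLocallySurjective a' :=
    isLocallySurjective_of_relative p'.hom (fun T ξ => by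
      obtain ⟨V, v, fst, sqv⟩ := hP.etale.1 (ObjectProperty.homMk ξ : (yon S).obj T ⟶ F')
      refine ⟨V, v, fst.hom, ?_, hP.etale.2 _ fst v sqv, hP.surjective.2 _ fst v sqv⟩
      exact congrArg (fun η => η.hom) sqv.w)
  haveI : Epi a := inferInstance
  haveI : Epi a' := inferInstance
  obtain ⟨e, -⟩ := exists_iso_of_epi_epi_sec a a' (fun T x y => by
    rcases T with ⟨T⟩
    obtain ⟨x⟩ := x
    obtain ⟨y⟩ := y
    show p.app (Opposite.op T) ⟨x⟩ = p.app (Opposite.op T) ⟨y⟩ ↔
      p'.hom.app (Opposite.op T) ⟨x⟩ = p'.hom.app (Opposite.op T) ⟨y⟩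
    exact ((app_up_eq_iff p x y).trans (hrel x y)).trans
      ((app_up_eq_iff (B := F'.obj) p'.hom x y).trans
        (rel_iff_of_isPullback s t p'.hom sq' x y)).symm)
  exact IsAlgSpaceP.of_iso ((isAlgSpaceP_obj_iff F').2 hq)
    ((sheafToPresheaf _ _).mapIso e).symm

end H10PT.EtQuot
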