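import Mathlib
import Groth.Agent.Lib.Helper8.SmoothLocusBC
import Groth.Agent.Lib.Helper8.UnramDescentSch
import Groth.Agent.Lib.Helper16.EtLocal

/-!
# Étale near a point (helper10, true smooth bootstrap, part 1)

`EtNear f x`: the morphism of schemes `f` is étale on an open neighbourhood of `x`.
Stability under étale precomposition, cancellation of étale maps on the source, base change, and
descent along flat locally finitely presented base change.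
-/

set_option autoImplicit false

universe u

open CategoryTheory CategoryTheory.Limits AlgebraicGeometry Opposite

namespace H10PT.TB

/-- `f` is étale on an open neighbourhood of `x`. -/
def EtNear {X Y : Scheme.{u}} (f : X ⟶ Y) (x : X) : Prop :=
  ∃ V : X.Opens, x ∈ V ∧ Etale (V.ι ≫ f)

theorem EtNear.of_etale {X Y : Scheme.{u}} (f : X ⟶ Y) [Etale f] (x : X) : EtNear f x :=
  ⟨⊤, trivial, inferInstance⟩

theorem EtNear.precomp {W X Y : Scheme.{u}} (e : W ⟶ X) [Etale e] (f : X ⟶ Y) (w : W)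
    (h : EtNear f (e w)) : EtNear (e ≫ f) w := by
  obtain ⟨V, hxV, hV⟩ := h
  refine ⟨e ⁻¹ᵁ V, hxV, ?_⟩
  have : (e ⁻¹ᵁ V).ι ≫ e ≫ f = (e ∣_ V) ≫ V.ι ≫ f := by
    rw [← Category.assoc, ← morphismRestrict_ι, Category.assoc]
  rw [this]
  infer_instance

theorem EtNear.cancel {W X Y : Scheme.{u}} (e : W ⟶ X) [Etale e] (f : X ⟶ Y) (w : W)
    (h : EtNear (e ≫ f) w) : EtNear f (e w) := by
  obtain ⟨V', hwV', hV'⟩ := h
  have hop : IsOpen (e '' (V' : Set W)) := e.isOpenMap _ V'.2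
  let V : X.Opens := ⟨e '' (V' : Set W), hop⟩
  refine ⟨V, ⟨w, hwV', rfl⟩, ?_⟩
  apply Groth.Agent.Lib.Helper16.etLocalST_etale.ofCover
  intro y
  obtain ⟨w', hw', hy⟩ := y.2
  have hr : Set.range (V'.ι ≫ e) ⊆ Set.range V.ι := by
    rintro _ ⟨z, rfl⟩
    rw [Scheme.Opens.range_ι]
    exact ⟨z.1, z.2, rfl⟩
  let e' : V'.toScheme ⟶ V.toScheme := IsOpenImmersion.lift V.ι (V'.ι ≫ e) hr
  have he' : e' ≫ V.ι = V'.ι ≫ e := IsOpenImmersion.lift_fac _ _ _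
  refine ⟨V'.toScheme, e', ?_, ⟨⟨w', hw'⟩, ?_⟩, ?_⟩
  · refine Groth.Agent.Lib.Helper16.etLocalST_etale.cancel e' V.ι inferInstance ?_
    rw [he']
    infer_instance
  · apply V.ι.isOpenEmbedding.injective
    rw [← Scheme.Hom.comp_apply, he', Scheme.Hom.comp_apply]
    exact hy
  · show Etale (e' ≫ V.ι ≫ f)
    rw [← Category.assoc, he', Category.assoc]
    exact hV'

theorem isPullback_restrict_comp {X Y X' Y' : Scheme.{u}} {f : X ⟶ Y} {g : Y' ⟶ Y} {f' : X' ⟶ Y'}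
    {g' : X' ⟶ X} (sq : IsPullback g' f' f g) (V : X.Opens) :
    IsPullback (g' ∣_ V) ((g' ⁻¹ᵁ V).ι ≫ f') (V.ι ≫ f) g :=
  (isPullback_morphismRestrict g' V).paste_vert sq

theorem EtNear.baseChange {X Y X' Y' : Scheme.{u}} {f : X ⟶ Y} {g : Y' ⟶ Y} {f' : X' ⟶ Y'}
    {g' : X' ⟶ X} (sq : IsPullback g' f' f g) (x' : X') (h : EtNear f (g' x')) :
    EtNear f' x' := by
  obtain ⟨V, hxV, hV⟩ := h
  exact ⟨g' ⁻¹ᵁ V, hxV, MorphismProperty.of_isPullback (isPullback_restrict_comp sq V) hV⟩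

/-- Variant of helper8's pointwise descent of unramifiedness with arbitrary pullback squares. -/
theorem formallyUnramified_of_pointwise_cover' {X Y : Scheme.{u}} (f : X ⟶ Y)
    [LocallyOfFiniteType f]
    (H : ∀ x : X, ∃ (X' Y' : Scheme.{u}) (g : Y' ⟶ Y) (g' : X' ⟶ X) (f' : X' ⟶ Y'),
      IsPullback g' f' f g ∧ ∃ U : X'.Opens, (∃ z ∈ U, g' z = x) ∧
        FormallyUnramified (U.ι ≫ f')) :
    FormallyUnramified f := by
  apply Groth.Agent.Lib.Helper8.formallyUnramified_of_pointwise_cover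
  intro x
  obtain ⟨X', Y', g, g', f', sq, U, ⟨z, hzU, hzx⟩, hU⟩ := H x
  let iso := sq.isoPullback
  have h1 : iso.hom ≫ pullback.fst f g = g' := sq.isoPullback_hom_fst
  have h2 : iso.hom ≫ pullback.snd f g = f' := sq.isoPullback_hom_snd
  refine ⟨Y', g, iso.inv ⁻¹ᵁ U, ⟨iso.hom z, ?_, ?_⟩, ?_⟩
  · show iso.inv (iso.hom z) ∈ U
    rw [← Scheme.Hom.comp_apply, Iso.hom_inv_id]
    exact hzU
  · rw [← Scheme.Hom.comp_apply, h1]
    exact hzx
  · have e1 : (iso.inv ⁻¹ᵁ U).ι ≫ pullback.snd f g = (iso.inv ∣_ U) ≫ U.ι ≫ f' := by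
      rw [← Category.assoc, morphismRestrict_ι, Category.assoc, ← h2, Iso.inv_hom_id_assoc]
    rw [e1]
    exact MorphismProperty.comp_mem _ _ _ inferInstance hU

theorem smooth_of_le_smoothLocus {X Y : Scheme.{u}} (f : X ⟶ Y) [LocallyOfFinitePresentation f]
    (V : X.Opens) (hV : V ≤ f.smoothLocus) : Smooth (V.ι ≫ f) := by
  rw [← Scheme.Hom.smoothLocus_eq_top_iff, ← Scheme.Hom.preimage_smoothLocus_eq]
  ext z
  exact ⟨fun _ => trivial, fun _ => hV z.2⟩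

theorem EtNear.descent {X Y X' Y' : Scheme.{u}} {f : X ⟶ Y} {g : Y' ⟶ Y} {f' : X' ⟶ Y'}
    {g' : X' ⟶ X} (sq : IsPullback g' f' f g) [Flat g] [LocallyOfFinitePresentation g]
    [LocallyOfFinitePresentation f] (x' : X') (h : EtNear f' x') : EtNear f (g' x') := by
  obtain ⟨V', hxV', hV'⟩ := h
  haveI : LocallyOfFinitePresentation f' := MorphismProperty.of_isPullback sq ‹_›
  haveI : Flat g' := MorphismProperty.of_isPullback sq.flip ‹Flat g›
  haveI : LocallyOfFinitePresentation g' := MorphismProperty.of_isPullback sq.flip ‹_›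
  have hsm' : x' ∈ f'.smoothLocus := by
    have h1 : (V'.ι ≫ f').smoothLocus = ⊤ := Scheme.Hom.smoothLocus_eq_top _
    have h2 := Scheme.Hom.preimage_smoothLocus_eq V'.ι f'
    have h3 : (⟨x', hxV'⟩ : V'.toScheme) ∈ V'.ι ⁻¹ᵁ f'.smoothLocus := by
      rw [h2, h1]; trivial
    exact h3
  have hsm : g' x' ∈ f.smoothLocus :=
    (Groth.Agent.Lib.Helper8.SmoothLocusBC.mem_smoothLocus_iff_of_isPullback f g f' g' sq
      (Or.inr inferInstance) x').1 hsm'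
  let W' : X'.Opens := g' ⁻¹ᵁ f.smoothLocus ⊓ V'
  have hx'W' : x' ∈ W' := ⟨hsm, hxV'⟩
  let V : X.Opens := ⟨g' '' (W' : Set X'), g'.isOpenMap _ W'.2⟩
  refine ⟨V, ⟨x', hx'W', rfl⟩, ?_⟩
  have hVsm : V ≤ f.smoothLocus := by
    rintro _ ⟨z, hz, rfl⟩
    exact hz.1
  haveI : Smooth (V.ι ≫ f) := smooth_of_le_smoothLocus f V hVsm
  rw [Etale.iff_flat_and_formallyUnramified]
  refine ⟨inferInstance, ?_, inferInstance⟩
  apply formallyUnramified_of_pointwise_cover'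
  intro v
  obtain ⟨z, hz, hzv⟩ := v.2
  have hzV : z ∈ g' ⁻¹ᵁ V := ⟨z, hz, rfl⟩
  refine ⟨_, Y', g, g' ∣_ V, (g' ⁻¹ᵁ V).ι ≫ f', isPullback_restrict_comp sq V,
    (g' ⁻¹ᵁ V).ι ⁻¹ᵁ W', ⟨⟨z, hzV⟩, hz, ?_⟩, ?_⟩
  · apply V.ι.isOpenEmbedding.injective
    rw [← Scheme.Hom.comp_apply, morphismRestrict_ι, Scheme.Hom.comp_apply]
    exact hzv
  · have hr : Set.range (((g' ⁻¹ᵁ V).ι ⁻¹ᵁ W').ι ≫ (g' ⁻¹ᵁ V).ι) ⊆ Set.range V'.ι := by
      rintro _ ⟨t, rfl⟩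
      rw [Scheme.Opens.range_ι]
      exact t.2.2
    let j := IsOpenImmersion.lift V'.ι (((g' ⁻¹ᵁ V).ι ⁻¹ᵁ W').ι ≫ (g' ⁻¹ᵁ V).ι) hr
    have hj : j ≫ V'.ι = ((g' ⁻¹ᵁ V).ι ⁻¹ᵁ W').ι ≫ (g' ⁻¹ᵁ V).ι :=
      IsOpenImmersion.lift_fac _ _ _
    have e1 : ((g' ⁻¹ᵁ V).ι ⁻¹ᵁ W').ι ≫ (g' ⁻¹ᵁ V).ι ≫ f' = j ≫ V'.ι ≫ f' := by
      rw [← Category.assoc, ← hj, Category.assoc]
    rw [e1]
    haveI : IsOpenImmersion j := by
      have : IsOpenImmersion (j ≫ V'.ι) := by rw [hj]; infer_instance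
      exact IsOpenImmersion.of_comp j V'.ι
    haveI : Etale (j ≫ V'.ι ≫ f') := inferInstance
    infer_instance

end H10PT.TB
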