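import Mathlib
import Groth.Agent.Lib.Helper10.TB1
import Groth.Agent.Lib.Helper16.FibreProduct
import Groth.Agent.Lib.Helper16.LocPGen

/-!
# Saturation of the étale locus (helper10, true smooth bootstrap, part 3)

For a smooth cover `p : h_U ⟶ F` of a sheaf with a scheme chart `R'` of its kernel pair, and a scheme
chart `X'` of `h_X ×_F h_U`, the locus in `X'` where `(f', c ∘ π) : X' ⟶ 𝔸ⁿ_U` is étale is
saturated for `π : X' ⟶ X`.
-/

set_option autoImplicit false

universe u

open CategoryTheory CategoryTheory.Limits AlgebraicGeometry Opposite AlgSp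

namespace H10PT.TB

theorem exists_preimage_of_isPullback {P X Y Z : Scheme.{u}} {a : P ⟶ X} {b : P ⟶ Y} {f : X ⟶ Z}
    {g : Y ⟶ Z} (sq : IsPullback a b f g) (x : X) (y : Y) (h : f x = g y) :
    ∃ z : P, a z = x ∧ b z = y := by
  obtain ⟨z₀, h1, h2⟩ := Scheme.Pullback.exists_preimage_pullback x y h
  refine ⟨sq.isoPullback.inv z₀, ?_, ?_⟩
  · rw [← Scheme.Hom.comp_apply, sq.isoPullback_inv_fst]; exact h1
  · rw [← Scheme.Hom.comp_apply, sq.isoPullback_inv_snd]; exact h2

variable {S : Scheme.{u}} {F : Sp S} {U : Over S} (p : (yon S).obj U ⟶ F)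

/-- A scheme chart of the kernel pair of `p`. -/
structure KChart where
  R' : Over S
  r : (yon S).obj R' ⟶ pullback p p
  s' : R' ⟶ U
  t' : R' ⟶ U
  hs' : (yon S).map s' = r ≫ pullback.fst p p
  ht' : (yon S).map t' = r ≫ pullback.snd p p
  et : RepWith @Etale r
  surj : RepWith @Surjective r

/-- A scheme chart of `h_X ×_F h_U`. -/
structure PChart {X : Over S} (φ : (yon S).obj X ⟶ F) where
  X' : Over S
  χ : (yon S).obj X' ⟶ pullback φ p
  π : X' ⟶ X
  f' : X' ⟶ U
  hπ : (yon S).map π = χ ≫ pullback.fst φ p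
  hf' : (yon S).map f' = χ ≫ pullback.snd φ p
  et : RepWith @Etale χ

variable {p}

theorem KChart.cond (K : KChart p) : (yon S).map K.s' ≫ p = (yon S).map K.t' ≫ p := by
  rw [K.hs', K.ht', Category.assoc, Category.assoc, pullback.condition]

theorem PChart.cond {X : Over S} {φ : (yon S).obj X ⟶ F} (C : PChart p φ) :
    (yon S).map C.π ≫ φ = (yon S).map C.f' ≫ p := by
  rw [C.hπ, C.hf', Category.assoc, Category.assoc, pullback.condition]

section Side

variable (K : KChart p) {X : Over S} {φ : (yon S).obj X ⟶ F} (C : PChart p φ)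

/-- The map `h_{X' ×_U R'} ⟶ h_X ×_F h_U` used to compare charts. -/
noncomputable def sideMap (e e' : K.R' ⟶ U) (hee : (yon S).map e ≫ p = (yon S).map e' ≫ p) :
    (yon S).obj (pullback C.f' e) ⟶ pullback φ p :=
  pullback.lift ((yon S).map (pullback.fst C.f' e ≫ C.π)) ((yon S).map (pullback.snd C.f' e ≫ e'))
    (by
      rw [Functor.map_comp, Functor.map_comp, Category.assoc, Category.assoc, C.cond, ← hee,
        ← Category.assoc, ← Category.assoc, ← Functor.map_comp, ← Functor.map_comp,
        pullback.condition])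

theorem side_isPullback (e e' : K.R' ⟶ U) (hee : (yon S).map e ≫ p = (yon S).map e' ≫ p)
    {W : Over S} (xa xb : W ⟶ C.X') (ρ : W ⟶ K.R')
    (hπ' : xa ≫ C.π = xb ≫ C.π) (ha : xa ≫ C.f' = ρ ≫ e) (hb : xb ≫ C.f' = ρ ≫ e')
    (UP : ∀ {Q : Sp S} (ya yb : Q ⟶ (yon S).obj C.X') (ϱ : Q ⟶ (yon S).obj K.R'),
      ya ≫ (yon S).map C.π = yb ≫ (yon S).map C.π →
      ya ≫ (yon S).map C.f' = ϱ ≫ (yon S).map e → yb ≫ (yon S).map C.f' = ϱ ≫ (yon S).map e' →
      ∃ l : Q ⟶ (yon S).obj W, l ≫ (yon S).map xa = ya ∧ l ≫ (yon S).map xb = yb ∧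
        l ≫ (yon S).map ρ = ϱ)
    (EXT : ∀ {Q : Sp S} (l l' : Q ⟶ (yon S).obj W), l ≫ (yon S).map xa = l' ≫ (yon S).map xa →
      l ≫ (yon S).map xb = l' ≫ (yon S).map xb → l ≫ (yon S).map ρ = l' ≫ (yon S).map ρ → l = l') :
    IsPullback ((yon S).map xb) ((yon S).map (pullback.lift xa ρ ha)) C.χ
      (sideMap K C e e' hee) := by
  have sqQ : IsPullback ((yon S).map (pullback.fst C.f' e)) ((yon S).map (pullback.snd C.f' e))
      ((yon S).map C.f') ((yon S).map e) := (IsPullback.of_hasPullback C.f' e).map (yon S)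
  have hk1 : (yon S).map (pullback.lift xa ρ ha) ≫ (yon S).map (pullback.fst C.f' e) =
      (yon S).map xa := by rw [← Functor.map_comp, pullback.lift_fst]
  have hk2 : (yon S).map (pullback.lift xa ρ ha) ≫ (yon S).map (pullback.snd C.f' e) =
      (yon S).map ρ := by rw [← Functor.map_comp, pullback.lift_snd]
  have hδ1 : sideMap K C e e' hee ≫ pullback.fst φ p =
      (yon S).map (pullback.fst C.f' e) ≫ (yon S).map C.π := by
    rw [sideMap, pullback.lift_fst, Functor.map_comp]
  have hδ2 : sideMap K C e e' hee ≫ pullback.snd φ p =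
      (yon S).map (pullback.snd C.f' e) ≫ (yon S).map e' := by
    rw [sideMap, pullback.lift_snd, Functor.map_comp]
  refine Groth.Agent.Lib.Helper16.isPullback_of_exists_lift ?_ ?_ ?_
  · apply pullback.hom_ext
    · rw [Category.assoc, Category.assoc, ← C.hπ, hδ1, ← Category.assoc, hk1, ← Functor.map_comp,
        ← Functor.map_comp, hπ']
    · rw [Category.assoc, Category.assoc, ← C.hf', hδ2, ← Category.assoc, hk2, ← Functor.map_comp,
        ← Functor.map_comp, hb]
  · intro Q a b hab
    have h1 : a ≫ (yon S).map C.π = (b ≫ (yon S).map (pullback.fst C.f' e)) ≫ (yon S).map C.π := by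
      have := congrArg (· ≫ pullback.fst φ p) hab
      simp only [Category.assoc] at this
      rw [← C.hπ, hδ1] at this
      rw [this, Category.assoc]
    have h2 : a ≫ (yon S).map C.f' = (b ≫ (yon S).map (pullback.snd C.f' e)) ≫ (yon S).map e' := by
      have := congrArg (· ≫ pullback.snd φ p) hab
      simp only [Category.assoc] at this
      rw [← C.hf', hδ2] at this
      rw [this, Category.assoc]
    have h3 : (b ≫ (yon S).map (pullback.fst C.f' e)) ≫ (yon S).map C.f' =
        (b ≫ (yon S).map (pullback.snd C.f' e)) ≫ (yon S).map e := by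
      rw [Category.assoc, Category.assoc, sqQ.w]
    obtain ⟨l, hl1, hl2, hl3⟩ := UP (b ≫ (yon S).map (pullback.fst C.f' e)) a
      (b ≫ (yon S).map (pullback.snd C.f' e)) h1.symm h3 h2
    refine ⟨l, hl2, ?_⟩
    apply sqQ.hom_ext
    · rw [Category.assoc, hk1, hl1]
    · rw [Category.assoc, hk2, hl3]
  · intro Q l l' h1 h2
    refine EXT l l' ?_ h1 ?_
    · have := congrArg (· ≫ (yon S).map (pullback.fst C.f' e)) h2
      simp only [Category.assoc] at this
      rwa [hk1] at this
    · have := congrArg (· ≫ (yon S).map (pullback.snd C.f' e)) h2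
      simp only [Category.assoc] at this
      rwa [hk2] at this

end Side

end H10PT.TB
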