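import Mathlib
import Groth.Agent.Lib.Helper10.TB3

/-!
# Saturation of the étale locus, main statement (helper10, true smooth bootstrap, part 4)
-/

set_option autoImplicit false

universe u

open CategoryTheory CategoryTheory.Limits AlgebraicGeometry Opposite AlgSp

namespace H10PT.TB

variable {S : Scheme.{u}} {F : Sp S} {U : Over S} {p : (yon S).obj U ⟶ F}
variable (K : KChart p) {X : Over S} {φ : (yon S).obj X ⟶ F} (C : PChart p φ)
variable (n : Type u) (v : n → Γ(X.left, ⊤))

/-- The map `(f', c ∘ π) : X' ⟶ 𝔸ⁿ_U`. -/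
noncomputable def psi : C.X'.left ⟶ 𝔸(n; U.left) :=
  AffineSpace.homOfVector C.f'.left (C.π.left.appTop ∘ v)

/-- Its base change to `X' ×_U R'`. -/
noncomputable def psiSide (e : K.R' ⟶ U) : (pullback C.f' e).left ⟶ 𝔸(n; K.R'.left) :=
  AffineSpace.homOfVector (pullback.snd C.f' e).left
    ((pullback.fst C.f' e ≫ C.π).left.appTop ∘ v)

theorem psiSide_comp_map (e : K.R' ⟶ U) :
    psiSide K C n v e ≫ AffineSpace.map n e.left = (pullback.fst C.f' e).left ≫ psi C n v := by
  have hw : (pullback.fst C.f' e).left ≫ C.f'.left = (pullback.snd C.f' e).left ≫ e.left := by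
    rw [← Over.comp_left, ← Over.comp_left, pullback.condition]
  apply AffineSpace.hom_ext
  · rw [Category.assoc, Category.assoc, AffineSpace.map_over, psiSide, psi,
      AffineSpace.homOfVector_over, AffineSpace.homOfVector_over_assoc, hw]
  · intro i
    rw [Scheme.Hom.comp_appTop, Scheme.Hom.comp_appTop, CommRingCat.comp_apply,
      CommRingCat.comp_apply, AffineSpace.map_appTop_coord, psiSide, psi,
      AffineSpace.homOfVector_appTop_coord, AffineSpace.homOfVector_appTop_coord]
    simp only [Function.comp_apply, Over.comp_left, Scheme.Hom.comp_appTop, CommRingCat.comp_apply]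

theorem psiSide_isPullback (e : K.R' ⟶ U) :
    IsPullback (pullback.fst C.f' e).left (psiSide K C n v e) (psi C n v)
      (AffineSpace.map n e.left) := by
  have outer : IsPullback (pullback.snd C.f' e).left (pullback.fst C.f' e).left e.left C.f'.left :=
    (Groth.Agent.Lib.Helper16.isPullback_left_forget C.f' e).flip
  have right : IsPullback (𝔸(n; K.R'.left) ↘ K.R'.left) (AffineSpace.map n e.left) e.left
      (𝔸(n; U.left) ↘ U.left) := (AffineSpace.isPullback_map e.left).flip
  have s : IsPullback (psiSide K C n v e ≫ 𝔸(n; K.R'.left) ↘ K.R'.left)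
      (pullback.fst C.f' e).left e.left (psi C n v ≫ 𝔸(n; U.left) ↘ U.left) := by
    rw [psiSide, psi, AffineSpace.homOfVector_over, AffineSpace.homOfVector_over]
    exact outer
  exact (IsPullback.of_right s (psiSide_comp_map K C n v e) right).flip

theorem etNear_saturated [Smooth K.s'.left] [Smooth K.t'.left]
    [LocallyOfFinitePresentation (psi C n v)]
    (x₁ x₃ : C.X'.left) (hx : C.π.left x₁ = C.π.left x₃) (h : EtNear (psi C n v) x₁) :
    EtNear (psi C n v) x₃ := by
  have sqD : IsPullback (pullback.fst C.π C.π).left (pullback.snd C.π C.π).left C.π.left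
      C.π.left := Groth.Agent.Lib.Helper16.isPullback_left_forget C.π C.π
  obtain ⟨δ, hδ1, hδ3⟩ := exists_preimage_of_isPullback sqD x₁ x₃ hx
  have sqDy : IsPullback ((yon S).map (pullback.fst C.π C.π)) ((yon S).map (pullback.snd C.π C.π))
      ((yon S).map C.π) ((yon S).map C.π) := (IsPullback.of_hasPullback C.π C.π).map (yon S)
  have wR : (yon S).map (pullback.fst C.π C.π ≫ C.f') ≫ p =
      (yon S).map (pullback.snd C.π C.π ≫ C.f') ≫ p := by
    rw [Functor.map_comp, Functor.map_comp, Category.assoc, Category.assoc, ← C.cond,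
      ← Category.assoc, ← Category.assoc, ← Functor.map_comp, ← Functor.map_comp,
      pullback.condition]
  obtain ⟨δR, hδR⟩ : ∃ δR : (yon S).obj (pullback C.π C.π) ⟶ pullback p p,
      δR = pullback.lift _ _ wR := ⟨_, rfl⟩
  have hδR1 : δR ≫ pullback.fst p p = (yon S).map (pullback.fst C.π C.π ≫ C.f') := by
    rw [hδR, pullback.lift_fst]
  have hδR2 : δR ≫ pullback.snd p p = (yon S).map (pullback.snd C.π C.π ≫ C.f') := by
    rw [hδR, pullback.lift_snd]
  obtain ⟨W, wD, wR₀, sqW⟩ := K.et.rep δR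
  have hwDe : Etale wD.left := K.et.property δR wR₀ wD sqW
  have hwDs : Surjective wD.left := K.surj.property δR wR₀ wD sqW
  obtain ⟨ρ, rfl⟩ := (yon S).map_surjective wR₀
  obtain ⟨ω, hω⟩ := hwDs.surj δ
  have E1 : (wD ≫ pullback.fst C.π C.π) ≫ C.f' = ρ ≫ K.s' := by
    apply (yon S).map_injective
    have := congrArg (· ≫ pullback.fst p p) sqW.w
    simp only [Category.assoc] at this
    rw [← K.hs', hδR1, ← Functor.map_comp, ← Functor.map_comp] at this
    rw [Category.assoc]
    exact this.symm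
  have E2 : (wD ≫ pullback.snd C.π C.π) ≫ C.f' = ρ ≫ K.t' := by
    apply (yon S).map_injective
    have := congrArg (· ≫ pullback.snd p p) sqW.w
    simp only [Category.assoc] at this
    rw [← K.ht', hδR2, ← Functor.map_comp, ← Functor.map_comp] at this
    rw [Category.assoc]
    exact this.symm
  have E3 : (wD ≫ pullback.fst C.π C.π) ≫ C.π = (wD ≫ pullback.snd C.π C.π) ≫ C.π := by
    rw [Category.assoc, Category.assoc, pullback.condition]
  have UP : ∀ {Q : Sp S} (y₁ y₃ : Q ⟶ (yon S).obj C.X') (ϱ : Q ⟶ (yon S).obj K.R'),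
      y₁ ≫ (yon S).map C.π = y₃ ≫ (yon S).map C.π →
      y₁ ≫ (yon S).map C.f' = ϱ ≫ (yon S).map K.s' → y₃ ≫ (yon S).map C.f' = ϱ ≫ (yon S).map K.t' →
      ∃ l : Q ⟶ (yon S).obj W, l ≫ (yon S).map (wD ≫ pullback.fst C.π C.π) = y₁ ∧
        l ≫ (yon S).map (wD ≫ pullback.snd C.π C.π) = y₃ ∧ l ≫ (yon S).map ρ = ϱ := by
    intro Q y₁ y₃ ϱ h1 h2 h3
    have hc : ϱ ≫ K.r = sqDy.lift y₁ y₃ h1 ≫ δR := by
      apply pullback.hom_ext
      · rw [Category.assoc, Category.assoc, ← K.hs', hδR1, Functor.map_comp, ← Category.assoc,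
          sqDy.lift_fst, h2]
      · rw [Category.assoc, Category.assoc, ← K.ht', hδR2, Functor.map_comp, ← Category.assoc,
          sqDy.lift_snd, h3]
    refine ⟨sqW.lift ϱ (sqDy.lift y₁ y₃ h1) hc, ?_, ?_, sqW.lift_fst _ _ _⟩
    · rw [Functor.map_comp, ← Category.assoc, sqW.lift_snd, sqDy.lift_fst]
    · rw [Functor.map_comp, ← Category.assoc, sqW.lift_snd, sqDy.lift_snd]
  have EXT : ∀ {Q : Sp S} (l l' : Q ⟶ (yon S).obj W),
      l ≫ (yon S).map (wD ≫ pullback.fst C.π C.π) = l' ≫ (yon S).map (wD ≫ pullback.fst C.π C.π) →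
      l ≫ (yon S).map (wD ≫ pullback.snd C.π C.π) = l' ≫ (yon S).map (wD ≫ pullback.snd C.π C.π) →
      l ≫ (yon S).map ρ = l' ≫ (yon S).map ρ → l = l' := by
    intro Q l l' h1 h2 h3
    apply sqW.hom_ext h3
    apply sqDy.hom_ext
    · rw [Category.assoc, Category.assoc, ← Functor.map_comp]
      exact h1
    · rw [Category.assoc, Category.assoc, ← Functor.map_comp]
      exact h2
  have sqA := side_isPullback K C K.s' K.t' K.cond (wD ≫ pullback.fst C.π C.π)
    (wD ≫ pullback.snd C.π C.π) ρ E3 E1 E2 UP EXT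
  have sqB := side_isPullback K C K.t' K.s' K.cond.symm (wD ≫ pullback.snd C.π C.π)
    (wD ≫ pullback.fst C.π C.π) ρ E3.symm E2 E1
    (fun ya yb ϱ h1 h2 h3 => by
      obtain ⟨l, a, b, c⟩ := UP yb ya ϱ h1.symm h3 h2
      exact ⟨l, b, a, c⟩)
    (fun l l' h1 h2 h3 => EXT l l' h2 h1 h3)
  obtain ⟨κA, hκA⟩ : ∃ κA : W ⟶ pullback C.f' K.s',
      κA = pullback.lift (wD ≫ pullback.fst C.π C.π) ρ E1 := ⟨_, rfl⟩
  obtain ⟨κB, hκB⟩ : ∃ κB : W ⟶ pullback C.f' K.t',
      κB = pullback.lift (wD ≫ pullback.snd C.π C.π) ρ E2 := ⟨_, rfl⟩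
  rw [← hκA] at sqA
  rw [← hκB] at sqB
  haveI hκAe : Etale κA.left := C.et.property _ _ _ sqA
  haveI hκBe : Etale κB.left := C.et.property _ _ _ sqB
  have hA1 : κA ≫ pullback.fst C.f' K.s' = wD ≫ pullback.fst C.π C.π := by
    rw [hκA, pullback.lift_fst]
  have hA2 : κA ≫ pullback.snd C.f' K.s' = ρ := by rw [hκA, pullback.lift_snd]
  have hB1 : κB ≫ pullback.fst C.f' K.t' = wD ≫ pullback.snd C.π C.π := by
    rw [hκB, pullback.lift_fst]
  have hB2 : κB ≫ pullback.snd C.f' K.t' = ρ := by rw [hκB, pullback.lift_snd]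
  have e1 : (pullback.fst C.f' K.s').left (κA.left ω) = x₁ := by
    rw [← Scheme.Hom.comp_apply, ← Over.comp_left, hA1, Over.comp_left, Scheme.Hom.comp_apply, hω,
      hδ1]
  have e3 : (pullback.fst C.f' K.t').left (κB.left ω) = x₃ := by
    rw [← Scheme.Hom.comp_apply, ← Over.comp_left, hB1, Over.comp_left, Scheme.Hom.comp_apply, hω,
      hδ3]
  have step1 : EtNear (psiSide K C n v K.s') (κA.left ω) :=
    EtNear.baseChange (psiSide_isPullback K C n v K.s') _ (by rw [e1]; exact h)
  have step2 : EtNear (κA.left ≫ psiSide K C n v K.s') ω := EtNear.precomp _ _ ω step1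
  have key : κA.left ≫ psiSide K C n v K.s' = κB.left ≫ psiSide K C n v K.t' := by
    apply AffineSpace.hom_ext
    · rw [Category.assoc, Category.assoc, psiSide, psiSide, AffineSpace.homOfVector_over,
        AffineSpace.homOfVector_over, ← Over.comp_left, ← Over.comp_left, hA2, hB2]
    · intro i
      rw [Scheme.Hom.comp_appTop, Scheme.Hom.comp_appTop, CommRingCat.comp_apply,
        CommRingCat.comp_apply, psiSide, psiSide, AffineSpace.homOfVector_appTop_coord,
        AffineSpace.homOfVector_appTop_coord]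
      simp only [Function.comp_apply]
      rw [← CommRingCat.comp_apply, ← CommRingCat.comp_apply, ← Scheme.Hom.comp_appTop,
        ← Scheme.Hom.comp_appTop, ← Over.comp_left, ← Over.comp_left, ← Category.assoc,
        ← Category.assoc, hA1, hB1, E3]
  rw [key] at step2
  have step4 : EtNear (psiSide K C n v K.t') (κB.left ω) := EtNear.cancel _ _ ω step2
  haveI : Flat (AffineSpace.map n K.t'.left) :=
    MorphismProperty.of_isPullback (AffineSpace.isPullback_map K.t'.left).flip
      (inferInstance : Flat K.t'.left)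
  haveI : LocallyOfFinitePresentation (AffineSpace.map n K.t'.left) :=
    MorphismProperty.of_isPullback (AffineSpace.isPullback_map K.t'.left).flip
      (inferInstance : LocallyOfFinitePresentation K.t'.left)
  have step5 := EtNear.descent (psiSide_isPullback K C n v K.t') _ step4
  rwa [e3] at step5

end H10PT.TB
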