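import Mathlib
import Groth.Agent.Lib.Helper10.TB4
import Groth.Agent.Lib.Helper16.Misc2
import Groth.Agent.Lib.Helper16.SmoothEt
import Groth.Agent.Lib.Helper16.EtChartSp

/-!
# Charts of a smooth cover (helper10, true smooth bootstrap, part 5)

* `isNilpotent_ker_SpecMap`: a square-zero surjection gives a nilpotent ideal sheaf.
* `formallyUnramified_M`: for a kernel pair chart `R'` of `p : h_U ⟶ F`, the map
  `(s', t') : R' ⟶ U ×_S U` is formally unramified.
* `exists_kchart`: kernel pair charts exist for a smooth surjective cover.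
* `PChart.ofK`: the chart of `h_X ×_F h_U` for `X ⟶ U` obtained from a kernel pair chart.
-/

set_option autoImplicit false

universe u

open CategoryTheory CategoryTheory.Limits AlgebraicGeometry Opposite AlgSp

namespace H10PT.TB

theorem isNilpotent_ker_SpecMap {R₀ S₀ : CommRingCat.{u}} (φ : R₀ ⟶ S₀)
    (h2 : RingHom.ker φ.hom ^ 2 = ⊥) : IsNilpotent (Spec.map φ).ker := by
  refine ⟨2, ?_⟩
  apply Scheme.IdealSheafData.ext_of_isAffine
  rw [Scheme.IdealSheafData.ideal_pow]
  change (Spec.map φ).ker.ideal ⟨⊤, isAffineOpen_top _⟩ ^ 2 = ⊥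
  rw [Scheme.Hom.ker_apply, eq_bot_iff, pow_two, Ideal.mul_le]
  intro x hx y hy
  rw [Ideal.mem_bot]
  have key : ∀ z, z ∈ RingHom.ker ((Spec.map φ).app ⊤).hom →
      (Scheme.ΓSpecIso R₀).hom z ∈ RingHom.ker φ.hom := by
    intro z hz
    rw [RingHom.mem_ker] at hz ⊢
    have := congrArg (fun f => f.hom z) (Scheme.ΓSpecIso_naturality φ)
    simp only [CommRingCat.hom_comp, RingHom.comp_apply] at this
    have hz' : ((Spec.map φ).appTop).hom z = 0 := hz
    rw [← this, hz', map_zero]
  have h3 : (Scheme.ΓSpecIso R₀).hom (x * y) ∈ RingHom.ker φ.hom ^ 2 := by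
    rw [map_mul, pow_two]
    exact Ideal.mul_mem_mul (key x hx) (key y hy)
  rw [h2, Ideal.mem_bot] at h3
  have hinj : Function.Injective (Scheme.ΓSpecIso R₀).hom :=
    (ConcreteCategory.bijective_of_isIso (Scheme.ΓSpecIso R₀).hom).1
  exact hinj (by rw [h3, map_zero])

variable {S : Scheme.{u}} {F : Sp S} {U : Over S} {p : (yon S).obj U ⟶ F}

/-- The map `(s', t') : R' ⟶ U ×_S U`. -/
noncomputable def KChart.M (K : KChart p) : K.R'.left ⟶ pullback U.hom U.hom :=
  pullback.lift K.s'.left K.t'.left (by rw [Over.w K.s', Over.w K.t'])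

theorem formallyUnramified_M (K : KChart p) : FormallyUnramified K.M := by
  apply FormallyUnramified.of_hom_ext
  intro R₀ S₀ φ hφ hker g₁ g₂ h12 hM
  have hs : g₁ ≫ K.s'.left = g₂ ≫ K.s'.left := by
    have := congrArg (· ≫ pullback.fst U.hom U.hom) hM
    simpa only [KChart.M, Category.assoc, pullback.lift_fst] using this
  have ht : g₁ ≫ K.t'.left = g₂ ≫ K.t'.left := by
    have := congrArg (· ≫ pullback.snd U.hom U.hom) hM
    simpa only [KChart.M, Category.assoc, pullback.lift_snd] using this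
  have hS : g₂ ≫ K.R'.hom = g₁ ≫ K.R'.hom := by
    rw [← Over.w K.s', ← Category.assoc, ← hs, Category.assoc]
  obtain ⟨T, hT⟩ : ∃ T : Over S, T = Over.mk (g₁ ≫ K.R'.hom) := ⟨_, rfl⟩
  obtain ⟨G₁, hG₁⟩ : ∃ G₁ : Over.mk (g₁ ≫ K.R'.hom) ⟶ K.R', G₁ = Over.homMk g₁ rfl := ⟨_, rfl⟩
  obtain ⟨G₂, hG₂⟩ : ∃ G₂ : Over.mk (g₁ ≫ K.R'.hom) ⟶ K.R', G₂ = Over.homMk g₂ hS := ⟨_, rfl⟩
  have hG₁l : G₁.left = g₁ := by rw [hG₁]; rfl
  have hG₂l : G₂.left = g₂ := by rw [hG₂]; rfl
  have hr : (yon S).map G₁ ≫ K.r = (yon S).map G₂ ≫ K.r := by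
    apply pullback.hom_ext
    · rw [Category.assoc, Category.assoc, ← K.hs', ← Functor.map_comp, ← Functor.map_comp]
      congr 1
      ext
      rw [Over.comp_left, Over.comp_left, hG₁l, hG₂l]
      exact hs
    · rw [Category.assoc, Category.assoc, ← K.ht', ← Functor.map_comp, ← Functor.map_comp]
      congr 1
      ext
      rw [Over.comp_left, Over.comp_left, hG₁l, hG₂l]
      exact ht
  obtain ⟨E, eT, eR₀, sq⟩ := K.et.rep ((yon S).map G₁ ≫ K.r)
  haveI : Etale eT.left := K.et.property _ _ _ sq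
  obtain ⟨eR, rfl⟩ := (yon S).map_surjective eR₀
  obtain ⟨σ₁₀, a1, a2⟩ : ∃ l : (yon S).obj (Over.mk (g₁ ≫ K.R'.hom)) ⟶ (yon S).obj E,
      l ≫ (yon S).map eR = (yon S).map G₁ ∧ l ≫ (yon S).map eT = 𝟙 _ :=
    ⟨sq.lift ((yon S).map G₁) (𝟙 _) (by rw [Category.id_comp]), sq.lift_fst _ _ _,
      sq.lift_snd _ _ _⟩
  obtain ⟨σ₂₀, b1, b2⟩ : ∃ l : (yon S).obj (Over.mk (g₁ ≫ K.R'.hom)) ⟶ (yon S).obj E,
      l ≫ (yon S).map eR = (yon S).map G₂ ∧ l ≫ (yon S).map eT = 𝟙 _ :=
    ⟨sq.lift ((yon S).map G₂) (𝟙 _) (by rw [Category.id_comp, hr]), sq.lift_fst _ _ _,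
      sq.lift_snd _ _ _⟩
  obtain ⟨σ₁, rfl⟩ := (yon S).map_surjective σ₁₀
  obtain ⟨σ₂, rfl⟩ := (yon S).map_surjective σ₂₀
  have a1' : σ₁ ≫ eR = G₁ := (yon S).map_injective (by rw [Functor.map_comp]; exact a1)
  have a2' : σ₁ ≫ eT = 𝟙 _ :=
    (yon S).map_injective (by rw [Functor.map_comp, a2, CategoryTheory.Functor.map_id])
  have b1' : σ₂ ≫ eR = G₂ := (yon S).map_injective (by rw [Functor.map_comp]; exact b1)
  have b2' : σ₂ ≫ eT = 𝟙 _ :=
    (yon S).map_injective (by rw [Functor.map_comp, b2, CategoryTheory.Functor.map_id])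
  obtain ⟨i₀, hi₀⟩ : ∃ i₀ : Over.mk (Spec.map φ ≫ g₁ ≫ K.R'.hom) ⟶ Over.mk (g₁ ≫ K.R'.hom),
      i₀ = Over.homMk (Spec.map φ) rfl := ⟨_, rfl⟩
  have hi₀l : i₀.left = Spec.map φ := by rw [hi₀]; rfl
  have hi : i₀ ≫ σ₁ = i₀ ≫ σ₂ := by
    apply (yon S).map_injective
    apply sq.hom_ext
    · rw [← Functor.map_comp, ← Functor.map_comp, Category.assoc, Category.assoc, a1', b1']
      congr 1
      ext
      rw [Over.comp_left, Over.comp_left, hG₁l, hG₂l, hi₀l]
      exact h12
    · rw [← Functor.map_comp, ← Functor.map_comp, Category.assoc, Category.assoc, a2', b2']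
  haveI : IsClosedImmersion (Spec.map φ) := IsClosedImmersion.spec_of_surjective φ hφ
  have key : σ₁.left = σ₂.left := by
    refine FormallyUnramified.hom_ext (Spec.map φ) (isNilpotent_ker_SpecMap φ hker) eT.left ?_ ?_
    · have := congrArg (fun f => f.left) hi
      simpa only [Over.comp_left, hi₀l] using this
    · rw [← Over.comp_left, ← Over.comp_left, a2', b2']
  calc g₁ = (σ₁ ≫ eR).left := by rw [a1', hG₁l]
    _ = σ₁.left ≫ eR.left := rfl
    _ = σ₂.left ≫ eR.left := by rw [key]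
    _ = (σ₂ ≫ eR).left := rfl
    _ = g₂ := by rw [b1', hG₂l]


section Charts

open Groth.Agent.Lib.Helper16

/-- The Sp-level form of the hypothesis "representable by algebraic spaces, surjective, smooth". -/
def SmoothCover (p : (yon S).obj U ⟶ F) : Prop :=
  ∀ ⦃T : Over S⦄ (ξ : (yon S).obj T ⟶ F) ⦃F' : Sp S⦄ (fst : F' ⟶ (yon S).obj U)
    (snd : F' ⟶ (yon S).obj T), IsPullback fst snd p ξ →
      IsAlgSpace F' ∧ IsSurjectiveMor snd ∧ LocP @Smooth snd

theorem surjective_left_of_points {A T : Over S} (h : A ⟶ T)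
    (hs : Function.Surjective (Points.map ((yon S).map h))) : Surjective h.left := by
  refine ⟨fun t => ?_⟩
  obtain ⟨x, hx⟩ := hs (Points.schemeHomeo T t)
  obtain ⟨a₀, rfl⟩ := (Points.schemeHomeo A).surjective x
  refine ⟨a₀, ?_⟩
  apply (Points.schemeHomeo T).injective
  rw [← Points.map_yon_map_apply, hx]

theorem exists_kchart (hp : SmoothCover p) :
    ∃ K : KChart p, Smooth K.s'.left ∧ Smooth K.t'.left ∧ Surjective K.t'.left := by
  obtain ⟨hR, hsurj, hsm2⟩ := hp p (pullback.fst p p) (pullback.snd p p)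
    (IsPullback.of_hasPullback p p)
  obtain ⟨-, -, hsm1⟩ := hp p (pullback.snd p p) (pullback.fst p p)
    (IsPullback.of_hasPullback p p).flip
  obtain ⟨R', r, hre, hrs⟩ := hR.atlas
  obtain ⟨s', hs'⟩ := (yon S).map_surjective (r ≫ pullback.fst p p)
  obtain ⟨t', ht'⟩ := (yon S).map_surjective (r ≫ pullback.snd p p)
  refine ⟨⟨R', r, s', t', hs', ht', hre, hrs⟩, ?_, ?_, ?_⟩
  · exact hsm1 r (𝟙 _) s' hre (repWith_id _ U) (by rw [Category.comp_id]; exact hs'.symm)
  · exact hsm2 r (𝟙 _) t' hre (repWith_id _ U) (by rw [Category.comp_id]; exact ht'.symm)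
  · apply surjective_left_of_points
    show Function.Surjective (Points.map ((yon S).map t'))
    rw [ht']
    intro x
    obtain ⟨z, hz⟩ := hsurj x
    obtain ⟨y, hy⟩ := (repWith_surjective_iff r hre.rep).1 hrs z
    exact ⟨y, by rw [Points.map_comp, hy, hz]⟩

variable (K : KChart p) {X : Over S} (i : X ⟶ U)

theorem ofK_cond :
    (yon S).map (pullback.fst i K.s') ≫ (yon S).map i ≫ p =
      (yon S).map (pullback.snd i K.s' ≫ K.t') ≫ p := by
  rw [← Category.assoc, ← Functor.map_comp, pullback.condition, Functor.map_comp, Functor.map_comp,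
    Category.assoc, Category.assoc, K.cond]

/-- The comparison `h_X ×_F h_U ⟶ h_U ×_F h_U`. -/
noncomputable def ofKρ : pullback ((yon S).map i ≫ p) p ⟶ pullback p p :=
  pullback.lift (pullback.fst _ _ ≫ (yon S).map i) (pullback.snd _ _)
    (by rw [Category.assoc, pullback.condition])

/-- The chart map `h_{X ×_U R'} ⟶ h_X ×_F h_U`. -/
noncomputable def ofKχ : (yon S).obj (pullback i K.s') ⟶ pullback ((yon S).map i ≫ p) p :=
  pullback.lift ((yon S).map (pullback.fst i K.s')) ((yon S).map (pullback.snd i K.s' ≫ K.t'))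
    (ofK_cond K i)

theorem ofK_isPullback :
    IsPullback ((yon S).map (pullback.snd i K.s')) (ofKχ K i) K.r (ofKρ i) := by
  have sqX : IsPullback ((yon S).map (pullback.fst i K.s')) ((yon S).map (pullback.snd i K.s'))
      ((yon S).map i) ((yon S).map K.s') := (IsPullback.of_hasPullback i K.s').map (yon S)
  refine isPullback_of_exists_lift ?_ ?_ ?_
  · apply pullback.hom_ext
    · rw [Category.assoc, Category.assoc, ← K.hs', ofKρ, pullback.lift_fst, ofKχ,
        pullback.lift_fst_assoc, sqX.w]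
    · rw [Category.assoc, Category.assoc, ← K.ht', ofKρ, pullback.lift_snd, ofKχ,
        pullback.lift_snd, Functor.map_comp]
  · intro Q a b hab
    have h1 : (b ≫ pullback.fst _ _) ≫ (yon S).map i = a ≫ (yon S).map K.s' := by
      have := congrArg (· ≫ pullback.fst p p) hab
      simp only [Category.assoc] at this
      rw [← K.hs', ofKρ, pullback.lift_fst] at this
      rw [Category.assoc]
      exact this.symm
    have h2 : a ≫ (yon S).map K.t' = b ≫ pullback.snd _ _ := by
      have := congrArg (· ≫ pullback.snd p p) hab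
      simp only [Category.assoc] at this
      rw [← K.ht', ofKρ, pullback.lift_snd] at this
      exact this
    refine ⟨sqX.lift _ _ h1, sqX.lift_snd _ _ _, ?_⟩
    apply pullback.hom_ext
    · rw [Category.assoc, ofKχ, pullback.lift_fst, sqX.lift_fst]
    · rw [Category.assoc, ofKχ, pullback.lift_snd, Functor.map_comp, ← Category.assoc,
        sqX.lift_snd, h2]
  · intro Q l l' h1 h2
    apply sqX.hom_ext
    · have := congrArg (· ≫ pullback.fst _ _) h2
      simp only [Category.assoc] at this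
      rwa [ofKχ, pullback.lift_fst] at this
    · exact h1

/-- The chart of `h_X ×_F h_U` for `i : X ⟶ U` obtained from a kernel pair chart. -/
noncomputable def PChart.ofK : PChart p ((yon S).map i ≫ p) where
  X' := pullback i K.s'
  χ := ofKχ K i
  π := pullback.fst i K.s'
  f' := pullback.snd i K.s' ≫ K.t'
  hπ := (pullback.lift_fst _ _ _).symm
  hf' := (pullback.lift_snd _ _ _).symm
  et := (RepWith (S := S) @Etale).of_isPullback (ofK_isPullback K i) K.et

theorem PChart.ofK_surj : RepWith @Surjective (PChart.ofK K i).χ :=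
  (RepWith (S := S) @Surjective).of_isPullback (ofK_isPullback K i) K.surj

theorem ofK_sq : IsPullback (pullback.fst i K.s').left (pullback.snd i K.s').left i.left
    K.s'.left := isPullback_left_forget i K.s'

instance ofK_smooth_π [Smooth K.s'.left] : Smooth (PChart.ofK K i).π.left :=
  MorphismProperty.of_isPullback (P := @Smooth) (ofK_sq K i).flip inferInstance

instance ofK_isOpenImmersion_snd [IsOpenImmersion i.left] :
    IsOpenImmersion (pullback.snd i K.s').left :=
  MorphismProperty.of_isPullback (P := @IsOpenImmersion) (ofK_sq K i) inferInstance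

instance ofK_smooth_f' [IsOpenImmersion i.left] [Smooth K.t'.left] :
    Smooth (PChart.ofK K i).f'.left := by
  show Smooth ((pullback.snd i K.s').left ≫ K.t'.left)
  infer_instance

instance psi_lfp [IsOpenImmersion i.left] [Smooth K.t'.left] (n : Type u) [Finite n]
    (v : n → Γ(X.left, ⊤)) : LocallyOfFinitePresentation (psi (PChart.ofK K i) n v) := by
  have h1 : LocallyOfFinitePresentation
      (psi (PChart.ofK K i) n v ≫ 𝔸(n; U.left) ↘ U.left) := by
    rw [psi, AffineSpace.homOfVector_over]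
    infer_instance
  exact lfp_of_comp_of_lft h1 inferInstance

end Charts

end H10PT.TB
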