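import Mathlib
import Groth.Agent.Lib.Helper10.EtQuotA
import Groth.Agent.Lib.Helper10.Boot1
import Groth.Agent.Lib.Helper10.TB5
import Groth.Agent.Lib.Helper16.EtChartSp
import Groth.Agent.Lib.Helper16.LocPInst
import Groth.Agent.Lib.Helper16.Rep
import Groth.Agent.Lib.Helper16.SmoothEt

/-!
# Helper library (helper10): scheme charts of a presheaf covered by an algebraic space

For a presheaf `F`, an algebraic space `X`, a map `p : X ⟶ F` and an atlas `a : h_U₀ ⟶ X`: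
* `exists_kernel_scheme`: the kernel pair of `a ≫ p` is represented by a scheme as soon as the
  pullback of `p` along `a ≫ p` is an algebraic space whose projection has a property `P`
  (etale, smooth) which is etale local and implies locally of finite type; the projections have `P`.
* `exists_lift_of_etale`, `exists_lift_of_smooth`: etale local liftings of points of `F` to `U₀`.
-/

set_option autoImplicit false
universe u
open CategoryTheory CategoryTheory.Limits AlgebraicGeometry Opposite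

namespace H10PT.EtQuot

open AlgSp Groth.Agent.Lib.Helper16

variable {S : Scheme.{u}}

theorem isPullback_iso_comp' {C : Type*} [Category C] {P P' X Y Z : C} {fst : P ⟶ X}
    {snd : P ⟶ Y} {f : X ⟶ Z} {g : Y ⟶ Z} (h : IsPullback fst snd f g) (e : P' ≅ P)
    {snd' : P' ⟶ Y} (hs : e.hom ≫ snd = snd') : IsPullback (e.hom ≫ fst) snd' f g := by
  subst hs
  exact IsPullback.of_iso h e.symm (Iso.refl _) (Iso.refl _) (Iso.refl _) (by simp) (by simp)
    (by simp) (by simp)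

theorem hom_ext_of_sq {K : Sp S} {X : Over S} {F : PSp S} {r₁ r₂ : K ⟶ (yon S).obj X}
    {q : (pyon S).obj X ⟶ F} (sq : IsPullback r₁.hom r₂.hom q q) {Q : Sp S} (l l' : Q ⟶ K)
    (h1 : l ≫ r₁ = l' ≫ r₁) (h2 : l ≫ r₂ = l' ≫ r₂) : l = l' := by
  apply (sheafToPresheaf (J S) (Type (u + 1))).map_injective
  apply sq.hom_ext
  · exact congrArg (fun η => η.hom) h1
  · exact congrArg (fun η => η.hom) h2

theorem exists_swap_iso {K : Sp S} {X : Over S} {F : PSp S} {r₁ r₂ : K ⟶ (yon S).obj X}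
    {q : (pyon S).obj X ⟶ F} (sq : IsPullback r₁.hom r₂.hom q q) :
    ∃ σ : K ≅ K, σ.hom ≫ r₁ = r₂ ∧ σ.hom ≫ r₂ = r₁ := by
  obtain ⟨σ, hσ⟩ : ∃ σ : K ⟶ K, σ = ObjectProperty.homMk (sq.lift r₂.hom r₁.hom sq.w.symm) :=
    ⟨_, rfl⟩
  have h1 : σ ≫ r₁ = r₂ := by
    apply (sheafToPresheaf (J S) (Type (u + 1))).map_injective
    rw [hσ]
    exact sq.lift_fst _ _ _
  have h2 : σ ≫ r₂ = r₁ := by
    apply (sheafToPresheaf (J S) (Type (u + 1))).map_injective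
    rw [hσ]
    exact sq.lift_snd _ _ _
  have h3 : σ ≫ σ = 𝟙 K := hom_ext_of_sq sq _ _
    (by rw [Category.assoc, h1, h2, Category.id_comp])
    (by rw [Category.assoc, h2, h1, Category.id_comp])
  exact ⟨⟨σ, σ, h3, h3⟩, h1, h2⟩

set_option maxHeartbeats 800000 in
theorem exists_kernel_scheme {P : MorphismProperty Scheme.{u}} (hP : EtLocalST P)
    (hPlft : ∀ ⦃A B : Scheme.{u}⦄ (f : A ⟶ B), P f → LocallyOfFiniteType f)
    {F : PSp S} {X : Sp S} (hX : IsAlgSpace X) (p : X.obj ⟶ F) {U₀ : Over S}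
    (a : (yon S).obj U₀ ⟶ X) (hae : RepWith @Etale a)
    {G : Sp S} (hG : IsAlgSpace G) (g₁ : G ⟶ X) (g₂ : G ⟶ (yon S).obj U₀)
    (sqG : IsPullback g₁.hom g₂.hom p (a.hom ≫ p)) (hg₂ : LocP P g₂) :
    ∃ (R₀ : Over S) (s t : R₀ ⟶ U₀),
      IsPullback ((pyon S).map t) ((pyon S).map s) (a.hom ≫ p) (a.hom ≫ p) ∧
        P s.left ∧ P t.left := by
  obtain ⟨W, w₁, w₂, sqW⟩ : ∃ (W : Sp S) (w₁ : W ⟶ (yon S).obj U₀) (w₂ : W ⟶ G),
      IsPullback w₁ w₂ a g₁ := ⟨_, _, _, IsPullback.of_hasPullback a g₁⟩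
  have hW : IsAlgSpace W :=
    isAlgSpace_of_isPullback (IsAlgSpace.yon_obj U₀) hX.diag hG sqW
  have sqK : IsPullback w₁.hom (w₂ ≫ g₂).hom (a.hom ≫ p) (a.hom ≫ p) :=
    (sqW.map (sheafToPresheaf (J S) (Type (u + 1)))).paste_vert sqG
  have hw₂ : LocP P w₂ := locP_of_repWith_etale hP hW hG _
    ((RepWith (S := S) @Etale).of_isPullback sqW hae)
  have hr₂ : LocP P (w₂ ≫ g₂) := locP_comp hP hW hG (IsAlgSpace.yon_obj U₀) _ _ hw₂ hg₂
  obtain ⟨σ, hσ1, hσ2⟩ := exists_swap_iso (r₁ := w₁) (r₂ := w₂ ≫ g₂) sqK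
  -- `U₀ ×_S U₀`
  obtain ⟨U₀', -⟩ : ∃ U₀' : U₀ ⟶ Over.mk (𝟙 S), True := ⟨Over.mkIdTerminal.from U₀, trivial⟩
  have sq₀ := (IsPullback.of_hasPullback U₀' U₀').map (yon S)
  obtain ⟨m, hm_def⟩ : ∃ m : W ⟶ (yon S).obj (pullback U₀' U₀'),
      m = sq₀.lift w₁ (w₂ ≫ g₂) (DimZero.hom_yon_terminal_ext _ _) := ⟨_, rfl⟩
  have hm1 : m ≫ (yon S).map (pullback.fst U₀' U₀') = w₁ := by
    rw [hm_def]; exact sq₀.lift_fst _ _ _
  have hm2 : m ≫ (yon S).map (pullback.snd U₀' U₀') = w₂ ≫ g₂ := by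
    rw [hm_def]; exact sq₀.lift_snd _ _ _
  haveI hmono : Mono m := ⟨fun l l' h => hom_ext_of_sq sqK l l'
    (by rw [← hm1, ← Category.assoc, h, Category.assoc])
    (by rw [← hm2, ← Category.assoc, h, Category.assoc])⟩
  have hm_lft : LocP @LocallyOfFiniteType m := by
    refine locP_lft_of_comp (IsAlgSpace.yon_obj U₀) m ((yon S).map (pullback.snd U₀' U₀')) ?_
    rw [hm2]
    exact fun A B a' b' h' ha' hb' c' => hPlft _ (hr₂ a' b' h' ha' hb' c')
  obtain ⟨R₀, ⟨ε⟩⟩ := EtChart.exists_iso_yon_of_mono_lft hW m hm_lft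
  obtain ⟨t, ht⟩ := (yon S).map_surjective (ε.hom ≫ w₁)
  obtain ⟨s, hs⟩ := (yon S).map_surjective (ε.hom ≫ w₂ ≫ g₂)
  have hriE : (RepWith (S := S) @Etale).RespectsIso :=
    MorphismProperty.IsStableUnderBaseChange.respectsIso
  refine ⟨R₀, s, t, ?_, ?_, ?_⟩
  · obtain ⟨e', he'⟩ : ∃ e' : (pyon S).obj R₀ ≅ W.obj, e'.hom = ε.hom.hom :=
      ⟨(sheafToPresheaf (J S) (Type (u + 1))).mapIso ε, rfl⟩
    have h1 : e'.hom ≫ w₁.hom = (pyon S).map t := by
      rw [he']; exact (congrArg (fun η => η.hom) ht).symm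
    have h2 : e'.hom ≫ (w₂ ≫ g₂).hom = (pyon S).map s := by
      rw [he']; exact (congrArg (fun η => η.hom) hs).symm
    rw [← h1, ← h2]
    exact isPullback_iso_comp' sqK e' rfl
  · exact hr₂ ε.hom (𝟙 _) s ((RepWith (S := S) @Etale).of_isIso ε.hom) (repWith_id _ U₀)
      (by rw [Category.comp_id, hs])
  · exact hr₂ (ε.hom ≫ σ.hom) (𝟙 _) t ((RepWith (S := S) @Etale).of_isIso (ε.hom ≫ σ.hom))
      (repWith_id _ U₀) (by rw [Category.comp_id, Category.assoc, hσ2, ht])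

theorem surjective_of_chart_comp {G : Sp S} {A T : Over S} (c : (yon S).obj A ⟶ G)
    (hce : RepWith @Etale c) (hcs : RepWith @Surjective c) (g₂ : G ⟶ (yon S).obj T)
    (hsurj : IsSurjectiveMor g₂) (h : A ⟶ T) (hh : (yon S).map h = c ≫ g₂) :
    Surjective h.left := by
  apply H10PT.TB.surjective_left_of_points
  rw [hh]
  intro x
  obtain ⟨z, hz⟩ := hsurj x
  obtain ⟨w, hw⟩ := (repWith_surjective_iff c hce.rep).1 hcs z
  exact ⟨w, by rw [Points.map_comp, hw, hz]⟩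

theorem hom_comp_eq {A G X : Sp S} {F : PSp S} {T : Over S} (k : A ⟶ G) (g₁ : G ⟶ X)
    (g₂ : G ⟶ (yon S).obj T) (p : X.obj ⟶ F) (ξ : (pyon S).obj T ⟶ F)
    (w : g₁.hom ≫ p = g₂.hom ≫ ξ) : (k ≫ g₁).hom ≫ p = (k ≫ g₂).hom ≫ ξ := by
  show (k.hom ≫ g₁.hom) ≫ p = (k.hom ≫ g₂.hom) ≫ ξ
  rw [Category.assoc, Category.assoc, w]

theorem exists_lift_of_etale {F : PSp S} {X : Sp S} (p : X.obj ⟶ F) {U₀ : Over S}
    (a : (yon S).obj U₀ ⟶ X) (hae : RepWith @Etale a) (has : RepWith @Surjective a)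
    {T : Over S} (ξ : (pyon S).obj T ⟶ F) {G : Sp S} (hG : IsAlgSpace G) (g₁ : G ⟶ X)
    (g₂ : G ⟶ (yon S).obj T) (w : g₁.hom ≫ p = g₂.hom ≫ ξ) (hsurj : IsSurjectiveMor g₂)
    (het : IsEtaleMor g₂) :
    ∃ (V : Over S) (v : V ⟶ T) (fst : (pyon S).obj V ⟶ (pyon S).obj U₀),
      fst ≫ (a.hom ≫ p) = (pyon S).map v ≫ ξ ∧ Etale v.left ∧ Surjective v.left := by
  obtain ⟨A, c, hce, hcs⟩ := hG.atlas
  have h1 : RepWith @Etale (c ≫ g₂) := het c hce
  obtain ⟨e', he'⟩ := (yon S).map_surjective (c ≫ g₂)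
  rw [← he'] at h1
  haveI he'e : Etale e'.left := (repWith_yon_map_iff _ _).1 h1
  haveI he's : Surjective e'.left := surjective_of_chart_comp c hce hcs g₂ hsurj e' he'
  obtain ⟨W', e'', u₀, sq⟩ := hae.rep (c ≫ g₁)
  haveI he''e : Etale e''.left := hae.property _ _ _ sq
  haveI he''s : Surjective e''.left := has.property _ _ _ sq
  refine ⟨W', e'' ≫ e', u₀.hom, ?_, ?_, ?_⟩
  · have h2 : u₀ ≫ a = ((yon S).map e'' ≫ c) ≫ g₁ := by rw [sq.w, Category.assoc]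
    have h3 : (yon S).map (e'' ≫ e') = ((yon S).map e'' ≫ c) ≫ g₂ := by
      rw [Functor.map_comp, he', Category.assoc]
    have key : (u₀ ≫ a).hom ≫ p = ((yon S).map (e'' ≫ e')).hom ≫ ξ := by
      rw [h2, h3]
      exact hom_comp_eq _ g₁ g₂ p ξ w
    exact (Category.assoc u₀.hom a.hom p).symm.trans key
  · rw [Over.comp_left]; infer_instance
  · rw [Over.comp_left]; infer_instance

theorem exists_lift_of_smooth {F : PSp S} {X : Sp S} (p : X.obj ⟶ F) {U₀ : Over S}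
    (a : (yon S).obj U₀ ⟶ X) (hae : RepWith @Etale a) (has : RepWith @Surjective a)
    {T : Over S} (ξ : (pyon S).obj T ⟶ F) {G : Sp S} (hG : IsAlgSpace G) (g₁ : G ⟶ X)
    (g₂ : G ⟶ (yon S).obj T) (w : g₁.hom ≫ p = g₂.hom ≫ ξ) (hsurj : IsSurjectiveMor g₂)
    (hsm : LocP @Smooth g₂) :
    ∃ (V : Over S) (v : V ⟶ T) (fst : (pyon S).obj V ⟶ (pyon S).obj U₀),
      fst ≫ (a.hom ≫ p) = (pyon S).map v ≫ ξ ∧ Etale v.left ∧ Surjective v.left := by
  obtain ⟨A, c, hce, hcs⟩ := hG.atlas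
  obtain ⟨h, hh⟩ := (yon S).map_surjective (c ≫ g₂)
  haveI : Smooth h.left := hsm c (𝟙 _) h hce (repWith_id _ T) (by rw [Category.comp_id, hh])
  haveI : Surjective h.left := surjective_of_chart_comp c hce hcs g₂ hsurj h hh
  obtain ⟨Y', c', s, hce', hcs', hsc⟩ := H10PT.Boot.exists_etale_cover_section h.left
  have hsA : s ≫ A.hom = c' ≫ T.hom := by
    rw [← Over.w h, ← Category.assoc, hsc]
  obtain ⟨σ, hσ⟩ : ∃ σ : Over.mk (c' ≫ T.hom) ⟶ A, σ = Over.homMk s hsA := ⟨_, rfl⟩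
  obtain ⟨e, he⟩ : ∃ e : Over.mk (c' ≫ T.hom) ⟶ T, e = Over.homMk c' rfl := ⟨_, rfl⟩
  have hσh : σ ≫ h = e := by
    ext
    rw [Over.comp_left, hσ, he]
    exact hsc
  haveI hee : Etale e.left := by rw [he]; exact hce'
  haveI hes : Surjective e.left := by rw [he]; exact hcs'
  obtain ⟨W', e'', u₀, sq⟩ := hae.rep ((yon S).map σ ≫ c ≫ g₁)
  haveI he''e : Etale e''.left := hae.property _ _ _ sq
  haveI he''s : Surjective e''.left := has.property _ _ _ sq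
  refine ⟨W', e'' ≫ e, u₀.hom, ?_, ?_, ?_⟩
  · have h2 : u₀ ≫ a = ((yon S).map e'' ≫ (yon S).map σ ≫ c) ≫ g₁ := by
      rw [sq.w]; simp only [Category.assoc]
    have h3 : (yon S).map (e'' ≫ e) = ((yon S).map e'' ≫ (yon S).map σ ≫ c) ≫ g₂ := by
      rw [← hσh, Functor.map_comp, Functor.map_comp, hh]; simp only [Category.assoc]
    have key : (u₀ ≫ a).hom ≫ p = ((yon S).map (e'' ≫ e)).hom ≫ ξ := by
      rw [h2, h3]
      exact hom_comp_eq _ g₁ g₂ p ξ w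
    exact (Category.assoc u₀.hom a.hom p).symm.trans key
  · rw [Over.comp_left]; infer_instance
  · rw [Over.comp_left]; infer_instance

end H10PT.EtQuot
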