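import Mathlib
import Groth.Agent.Lib.Helper8.SmoothQuotChart

/-!
# Ring-level input for the true smooth bootstrap (helper10, part 2)

* `span_D_eq_top`: if `B` is formally unramified over `C` and `C` is spanned over `A₁` by the
  image of `σ : A → C`, then `Ω[B/A₁]` is spanned over `B` by the `d(σ a)`.
* `exists_etale_coords`: étale coordinates at a smooth prime taken from the image of `σ`.
-/

set_option autoImplicit false

universe u

open TensorProduct KaehlerDifferential

namespace H10PT.TB

section Span

variable {A₁ A C B : Type*} [CommRing A₁] [CommRing A] [CommRing C] [CommRing B]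
  [Algebra A₁ C] [Algebra C B] [Algebra A₁ B] [IsScalarTower A₁ C B]

theorem D_algebraMap_mem (σ : A →+* C) (c : C) (hc : c ∈ Submodule.span A₁ (Set.range σ)) :
    D A₁ B (algebraMap C B c) ∈
      Submodule.span B (Set.range fun a : A => D A₁ B (algebraMap C B (σ a))) := by
  induction hc using Submodule.span_induction with
  | mem x hx =>
    obtain ⟨a, rfl⟩ := hx
    exact Submodule.subset_span ⟨a, rfl⟩
  | zero => simp
  | add x y _ _ hx hy =>
    rw [map_add, map_add]
    exact add_mem hx hy
  | smul r x _ hx =>
    have h1 : algebraMap C B (r • x) = r • algebraMap C B x := by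
      rw [Algebra.smul_def, map_mul, ← IsScalarTower.algebraMap_apply, ← Algebra.smul_def]
    rw [h1, Derivation.map_smul, ← algebraMap_smul B r]
    exact Submodule.smul_mem _ _ hx

theorem span_D_eq_top [Algebra.FormallyUnramified C B] (σ : A →+* C)
    (hgen : ∀ c : C, c ∈ Submodule.span A₁ (Set.range σ)) :
    Submodule.span B (Set.range fun a : A => D A₁ B (algebraMap C B (σ a))) = ⊤ := by
  rw [eq_top_iff]
  rintro ω -
  have hker : ω ∈ LinearMap.ker (KaehlerDifferential.map A₁ C B B) := Subsingleton.elim _ _
  rw [← KaehlerDifferential.range_mapBaseChange] at hker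
  obtain ⟨t, rfl⟩ := hker
  induction t with
  | zero => simp
  | add x y hx hy =>
    rw [map_add]
    exact add_mem hx hy
  | tmul x y =>
    rw [KaehlerDifferential.mapBaseChange_tmul]
    refine Submodule.smul_mem _ _ ?_
    have hy : y ∈ Submodule.span C (Set.range (D A₁ C)) := by
      rw [KaehlerDifferential.span_range_derivation]; trivial
    induction hy using Submodule.span_induction with
    | mem z hz =>
      obtain ⟨c, rfl⟩ := hz
      rw [KaehlerDifferential.map_D]
      exact D_algebraMap_mem σ c (hgen c)
    | zero => simp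
    | add z w _ _ hz hw =>
      rw [map_add]
      exact add_mem hz hw
    | smul c z _ hz =>
      rw [map_smul, ← algebraMap_smul B c]
      exact Submodule.smul_mem _ _ hz

end Span

section Coords

variable {A₁ A C B : Type u} [CommRing A₁] [CommRing A] [CommRing C] [CommRing B]
  [Algebra A₁ C] [Algebra C B] [Algebra A₁ B] [IsScalarTower A₁ C B]

theorem exists_etale_coords [Algebra.FormallyUnramified C B] [Algebra.FinitePresentation A₁ B]
    (σ : A →+* C) (hgen : ∀ c : C, c ∈ Submodule.span A₁ (Set.range σ))
    (q : Ideal B) [q.IsPrime] [Algebra.IsSmoothAt A₁ q] :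
    ∃ (m : ℕ) (a : ULift.{u} (Fin m) → A) (f : B), f ∉ q ∧
      (MvPolynomial.aeval (fun i => algebraMap B (Localization.Away f)
          (algebraMap C B (σ (a i)))) :
        MvPolynomial (ULift.{u} (Fin m)) A₁ →ₐ[A₁] Localization.Away f).toRingHom.Etale := by
  classical
  have hc : Submodule.span q.ResidueField
      (Set.range fun a : A => (1 : q.ResidueField) ⊗ₜ[B] D A₁ B (algebraMap C B (σ a))) = ⊤ := by
    have h1 := Submodule.baseChange_span (R := B) q.ResidueField
      (Set.range fun a : A => D A₁ B (algebraMap C B (σ a)))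
    rw [span_D_eq_top σ hgen, Submodule.baseChange_top, ← Set.range_comp] at h1
    exact h1.symm
  obtain ⟨m, a, hbij⟩ := Groth.Agent.Lib.Helper8.SmoothQuotChart.exists_extension_bijective
    (K := q.ResidueField) (V := q.ResidueField ⊗[B] Ω[B⁄A₁])
    (fun e : Empty => e.elim) linearIndependent_empty_type
    (fun a : A => (1 : q.ResidueField) ⊗ₜ[B] D A₁ B (algebraMap C B (σ a))) hc
  let e : ULift.{u} (Fin m) ≃ Empty ⊕ Fin m :=
    Equiv.ulift.trans (Equiv.emptySum Empty (Fin m)).symm
  let x : ULift.{u} (Fin m) → B := fun i => algebraMap C B (σ (a i.down))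
  have hfun : (fun i : ULift.{u} (Fin m) => (1 : q.ResidueField) ⊗ₜ[B] D A₁ B (x i)) =
      (Sum.elim (fun e : Empty => e.elim)
        ((fun a : A => (1 : q.ResidueField) ⊗ₜ[B] D A₁ B (algebraMap C B (σ a))) ∘ a)) ∘ e := by
    funext i
    rfl
  have hbij' : Function.Bijective (Finsupp.linearCombination q.ResidueField
      (fun i : ULift.{u} (Fin m) => (1 : q.ResidueField) ⊗ₜ[B] D A₁ B (x i))) := by
    rw [hfun, Finsupp.linearCombination_comp]
    exact hbij.comp ⟨Finsupp.mapDomain_injective e.injective,
      Finsupp.mapDomain_surjective e.surjective⟩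
  obtain ⟨f₁, hf₁, hét⟩ :=
    Groth.Agent.Lib.Helper8.SmoothQuotChart.exists_etale_aeval A₁ B q x hbij'
  exact ⟨m, fun i => a i.down, f₁, hf₁, hét f₁ dvd_rfl⟩

end Coords

end H10PT.TB
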