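import Mathlib
import Groth.Agent.Lib.Helper10.TB2
import Groth.Agent.Lib.Helper8.SmoothLocusBC

/-!
# Étale coordinates for a smooth, "unramified over the product" morphism (helper10, part 6)

For `M : R' ⟶ U ×_S U` formally unramified with second projection smooth, near every point of `R'`
there are functions on an affine open of `U` (pulled back along the first projection) which,
together with the second projection, give an étale map to affine space over `U`.
-/

set_option autoImplicit false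

universe u

open CategoryTheory CategoryTheory.Limits AlgebraicGeometry Opposite

namespace H10PT.TB

theorem homOfVector_comp_map {n : Type u} {X S T : Scheme.{u}} (g : X ⟶ S) (v : n → Γ(X, ⊤))
    (f : S ⟶ T) :
    AffineSpace.homOfVector g v ≫ AffineSpace.map n f = AffineSpace.homOfVector (g ≫ f) v := by
  apply AffineSpace.hom_ext
  · rw [Category.assoc, AffineSpace.map_over, AffineSpace.homOfVector_over_assoc,
      AffineSpace.homOfVector_over]
  · intro i
    rw [Scheme.Hom.comp_appTop, CommRingCat.comp_apply, AffineSpace.map_appTop_coord,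
      AffineSpace.homOfVector_appTop_coord, AffineSpace.homOfVector_appTop_coord]

theorem appTop_SpecMap_ΓSpecIso_inv {A B : CommRingCat.{u}} (φ : A ⟶ B) (x : A) :
    (Spec.map φ).appTop ((Scheme.ΓSpecIso A).inv x) = (Scheme.ΓSpecIso B).inv (φ.hom x) := by
  have := congrArg (fun f => f.hom x) (Scheme.ΓSpecIso_inv_naturality φ)
  exact this.symm

theorem SpecMap_comp_SpecIso_inv {n : Type u} (R : CommRingCat.{u}) {B : CommRingCat.{u}}
    (ψ : CommRingCat.of (MvPolynomial n R) ⟶ B) :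
    Spec.map ψ ≫ (AffineSpace.SpecIso n R).inv =
      AffineSpace.homOfVector (Spec.map (CommRingCat.ofHom MvPolynomial.C ≫ ψ))
        (fun j => (Scheme.ΓSpecIso B).inv (ψ.hom (MvPolynomial.X j))) := by
  apply AffineSpace.hom_ext
  · rw [Category.assoc, AffineSpace.SpecIso_inv_over, AffineSpace.homOfVector_over,
      ← Spec.map_comp]
  · intro i
    rw [Scheme.Hom.comp_appTop, CommRingCat.comp_apply, AffineSpace.SpecIso_inv_appTop_coord]
    refine Eq.trans ?_ (AffineSpace.homOfVector_appTop_coord _ _ i).symm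
    exact appTop_SpecMap_ΓSpecIso_inv ψ _

set_option maxHeartbeats 1600000 in
theorem exists_coords {R' U S₀ : Scheme.{u}} (h : U ⟶ S₀) (M : R' ⟶ pullback h h)
    [FormallyUnramified M] [Smooth (M ≫ pullback.snd h h)] (r₀ : R') :
    ∃ (V : U.Opens) (hV : IsAffineOpen V) (m : ℕ) (a : ULift.{u} (Fin m) → Γ(U, V))
      (E : Scheme.{u}) (ε : E ⟶ R') (g : E ⟶ Spec Γ(U, V)) (e₀ : E),
      IsOpenImmersion ε ∧ ε e₀ = r₀ ∧ g ≫ hV.fromSpec = ε ≫ M ≫ pullback.fst h h ∧
      Etale (AffineSpace.homOfVector (ε ≫ M ≫ pullback.snd h h)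
        (fun j => g.appTop ((Scheme.ΓSpecIso Γ(U, V)).inv (a j)))) := by
  obtain ⟨W, hW, V, hV, W', hW', V', hV', hVW, hW'W, hV'V, hV'W', hx', hpo⟩ :=
    Groth.Agent.Lib.Helper8.SmoothLocusBC.exists_affine_chart h h (pullback.snd h h)
      (pullback.fst h h) (IsPullback.of_hasPullback h h) (M r₀)
  obtain ⟨_, ⟨VB, hVB, rfl⟩, hrVB, hVBle⟩ :=
    R'.isBasis_affineOpens.exists_subset_of_mem_open
      (show r₀ ∈ (M ⁻¹ᵁ V' : Set R') from hx') (M ⁻¹ᵁ V').isOpen
  replace hVBle : VB ≤ M ⁻¹ᵁ V' := hVBle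
  have hVB : IsAffineOpen VB := hVB
  have hVBt : VB ≤ (M ≫ pullback.snd h h) ⁻¹ᵁ W' := fun x hx => hV'W' (hVBle hx)
  have hVBs : VB ≤ (M ≫ pullback.fst h h) ⁻¹ᵁ V := fun x hx => hV'V (hVBle hx)
  letI algA₁C : Algebra Γ(U, W') Γ(pullback h h, V') :=
    ((pullback.snd h h).appLE W' V' hV'W').hom.toAlgebra
  letI algCB : Algebra Γ(pullback h h, V') Γ(R', VB) := (M.appLE V' VB hVBle).hom.toAlgebra
  letI algA₁B : Algebra Γ(U, W') Γ(R', VB) :=
    ((M ≫ pullback.snd h h).appLE W' VB hVBt).hom.toAlgebra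
  haveI : IsScalarTower Γ(U, W') Γ(pullback h h, V') Γ(R', VB) :=
    IsScalarTower.of_algebraMap_eq (fun x => by
      have := congrArg (fun φ => φ.hom x)
        (Scheme.Hom.appLE_comp_appLE M (pullback.snd h h) W' V' VB hV'W' hVBle)
      exact this.symm)
  haveI : Algebra.FormallyUnramified Γ(pullback h h, V') Γ(R', VB) :=
    M.formallyUnramified_appLE hV' hVB hVBle
  haveI : Algebra.FinitePresentation Γ(U, W') Γ(R', VB) :=
    (M ≫ pullback.snd h h).finitePresentation_appLE hW' hVB hVBt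
  haveI : Algebra.Smooth Γ(U, W') Γ(R', VB) :=
    (M ≫ pullback.snd h h).smooth_appLE hW' hVB hVBt
  -- the pushout
  letI algRA : Algebra Γ(S₀, W) Γ(U, V) := (h.appLE W V hVW).hom.toAlgebra
  letI algRT : Algebra Γ(S₀, W) Γ(U, W') := (h.appLE W W' hW'W).hom.toAlgebra
  letI algAC : Algebra Γ(U, V) Γ(pullback h h, V') :=
    ((pullback.fst h h).appLE V V' hV'V).hom.toAlgebra
  letI algRC : Algebra Γ(S₀, W) Γ(pullback h h, V') :=
    (((pullback.snd h h).appLE W' V' hV'W').hom.comp (h.appLE W W' hW'W).hom).toAlgebra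
  haveI : IsScalarTower Γ(S₀, W) Γ(U, W') Γ(pullback h h, V') :=
    IsScalarTower.of_algebraMap_eq (fun _ => rfl)
  haveI : IsScalarTower Γ(S₀, W) Γ(U, V) Γ(pullback h h, V') :=
    IsScalarTower.of_algebraMap_eq (fun r => by
      have := congrArg (fun φ => φ.hom r) hpo.w
      exact this.symm)
  have hpo' : Algebra.IsPushout Γ(S₀, W) Γ(U, V) Γ(U, W') Γ(pullback h h, V') :=
    CommRingCat.isPushout_iff_isPushout.mp hpo
  have hpo'' : Algebra.IsPushout Γ(S₀, W) Γ(U, W') Γ(U, V) Γ(pullback h h, V') := hpo'.symm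
  have hgen : ∀ c : Γ(pullback h h, V'), c ∈ Submodule.span Γ(U, W')
      (Set.range ((pullback.fst h h).appLE V V' hV'V).hom) := by
    intro c
    refine hpo''.out.inductionOn c _ (zero_mem _) (fun a => Submodule.subset_span ⟨a, rfl⟩)
      (fun s n hn => Submodule.smul_mem _ s hn) (fun _ _ h1 h2 => add_mem h1 h2)
  obtain ⟨m, a, f, hf, hét⟩ := exists_etale_coords (A₁ := Γ(U, W')) (A := Γ(U, V))
    (C := Γ(pullback h h, V')) (B := Γ(R', VB))
    ((pullback.fst h h).appLE V V' hV'V).hom hgen (hVB.primeIdealOf ⟨r₀, hrVB⟩).asIdeal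
  -- geometry
  obtain ⟨ιf, hιf⟩ : ∃ ιf : Γ(R', VB) ⟶ CommRingCat.of (Localization.Away f),
      ιf = CommRingCat.ofHom (algebraMap _ _) := ⟨_, rfl⟩
  haveI : IsOpenImmersion (Spec.map ιf) := by rw [hιf]; infer_instance
  obtain ⟨ψ, hψ⟩ : ∃ ψ : CommRingCat.of (MvPolynomial (ULift.{u} (Fin m)) Γ(U, W')) ⟶
      CommRingCat.of (Localization.Away f), ψ = CommRingCat.ofHom
        (MvPolynomial.aeval (fun i => algebraMap Γ(R', VB) (Localization.Away f)
          (algebraMap Γ(pullback h h, V') Γ(R', VB)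
            (((pullback.fst h h).appLE V V' hV'V).hom (a i)))) :
          MvPolynomial (ULift.{u} (Fin m)) Γ(U, W') →ₐ[Γ(U, W')] Localization.Away f).toRingHom :=
    ⟨_, rfl⟩
  have hψét : Etale (Spec.map ψ) := by
    rw [HasRingHomProperty.Spec_iff (P := @Etale), hψ]
    exact hét
  have hmem : hVB.primeIdealOf ⟨r₀, hrVB⟩ ∈ Set.range (Spec.map ιf) := by
    have := PrimeSpectrum.localization_away_comap_range (Localization.Away f) f
    rw [hιf]
    change _ ∈ Set.range (PrimeSpectrum.comap (algebraMap Γ(R', VB) (Localization.Away f)))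
    rw [this]
    exact hf
  obtain ⟨e₀, he₀⟩ := hmem
  have hCψ : CommRingCat.ofHom MvPolynomial.C ≫ ψ =
      (M ≫ pullback.snd h h).appLE W' VB hVBt ≫ ιf := by
    rw [hψ, hιf]
    ext x
    simp only [CommRingCat.hom_comp, CommRingCat.hom_ofHom, RingHom.comp_apply,
      AlgHom.toRingHom_eq_coe, RingHom.coe_coe, MvPolynomial.aeval_C]
    rw [IsScalarTower.algebraMap_apply Γ(U, W') Γ(R', VB) (Localization.Away f)]
    rfl
  refine ⟨V, hV, m, a, Spec (CommRingCat.of (Localization.Away f)), Spec.map ιf ≫ hVB.fromSpec,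
    Spec.map ((M ≫ pullback.fst h h).appLE V VB hVBs ≫ ιf), e₀, inferInstance, ?_, ?_, ?_⟩
  · rw [Scheme.Hom.comp_apply, he₀]
    exact hVB.fromSpec_primeIdealOf ⟨r₀, hrVB⟩
  · rw [Spec.map_comp, Category.assoc, IsAffineOpen.SpecMap_appLE_fromSpec, Category.assoc]
  · have key : AffineSpace.homOfVector ((Spec.map ιf ≫ hVB.fromSpec) ≫ M ≫ pullback.snd h h)
        (fun j => (Spec.map ((M ≫ pullback.fst h h).appLE V VB hVBs ≫ ιf)).appTop
          ((Scheme.ΓSpecIso Γ(U, V)).inv (a j))) =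
        Spec.map ψ ≫ (AffineSpace.SpecIso (ULift.{u} (Fin m)) Γ(U, W')).inv ≫
          AffineSpace.map (ULift.{u} (Fin m)) hW'.fromSpec := by
      have e1 : Spec.map ψ ≫ (AffineSpace.SpecIso (ULift.{u} (Fin m)) Γ(U, W')).inv ≫
          AffineSpace.map (ULift.{u} (Fin m)) hW'.fromSpec =
          (Spec.map ψ ≫ (AffineSpace.SpecIso (ULift.{u} (Fin m)) Γ(U, W')).inv) ≫
          AffineSpace.map (ULift.{u} (Fin m)) hW'.fromSpec := (Category.assoc _ _ _).symm
      have e2 : Spec.map ((M ≫ pullback.snd h h).appLE W' VB hVBt ≫ ιf) ≫ hW'.fromSpec =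
          Spec.map ιf ≫ hVB.fromSpec ≫ M ≫ pullback.snd h h := by
        rw [Spec.map_comp, Category.assoc, IsAffineOpen.SpecMap_appLE_fromSpec]
      rw [e1, SpecMap_comp_SpecIso_inv, homOfVector_comp_map, hCψ, e2]
      refine congrArg₂ AffineSpace.homOfVector (by simp only [Category.assoc]) (funext fun j => ?_)
      rw [appTop_SpecMap_ΓSpecIso_inv]
      congr 1
      rw [hψ, hιf]
      simp only [CommRingCat.hom_comp, CommRingCat.hom_ofHom, RingHom.comp_apply,
        AlgHom.toRingHom_eq_coe, RingHom.coe_coe, MvPolynomial.aeval_X]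
      congr 1
      have := congrArg (fun φ => φ.hom (a j))
        (Scheme.Hom.appLE_comp_appLE M (pullback.fst h h) V V' VB hV'V hVBle)
      exact this.symm
    rw [key]
    haveI : IsOpenImmersion (AffineSpace.map (ULift.{u} (Fin m)) hW'.fromSpec) :=
      MorphismProperty.of_isPullback (P := @IsOpenImmersion)
        (AffineSpace.isPullback_map hW'.fromSpec).flip inferInstance
    infer_instance

end H10PT.TB
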