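import Mathlib

/-!
# An arithmetic lemma for the true smooth bootstrap (helper10)

Every nonzero polynomial over a field `K` is nonzero at some point of an algebraically closed
extension whose coordinates are powers of a root of unity of order prime to the characteristic;
such a point comes from a standard étale algebra over `ℤ`.
-/

set_option autoImplicit false

universe u

open Polynomial

namespace H10PT.TB

/-- The standard étale pair `(X ^ N - 1, N)` over `ℤ`. -/
noncomputable def rootPair (N : ℕ) (hN : N ≠ 0) : StandardEtalePair (ULift.{u} ℤ) where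
  f := X ^ N - C 1
  monic_f := monic_X_pow_sub_C 1 hN
  g := (N : (ULift.{u} ℤ)[X])
  cond := ⟨X, - (N : (ULift.{u} ℤ)[X]), 1, by
    have h1 : (X : (ULift.{u} ℤ)[X]) ^ (N - 1) * X = X ^ N := by
      rw [← pow_succ, Nat.sub_add_cancel (Nat.one_le_iff_ne_zero.2 hN)]
    rw [derivative_sub, derivative_X_pow, derivative_C, sub_zero, pow_one, C_eq_natCast, mul_assoc,
      h1, map_one]
    ring⟩

theorem rootPair_hasMap {L : Type u} [Field L] [Algebra (ULift.{u} ℤ) L] (N : ℕ) (hN : N ≠ 0)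
    (hNL : (N : L) ≠ 0) (ω : L) (hω : ω ^ N = 1) : (rootPair.{u} N hN).HasMap ω := by
  constructor
  · simp [rootPair, hω]
  · simp only [rootPair, map_natCast]
    exact isUnit_iff_ne_zero.2 hNL

theorem infinite_roots_of_unity (L : Type u) [Field L] [IsAlgClosed L] :
    {ζ : L | ∃ N : ℕ, (N : L) ≠ 0 ∧ ζ ^ N = 1}.Infinite := by
  obtain ⟨p, hp⟩ := CharP.exists L
  obtain ⟨ℓ, hℓ2, hℓ⟩ : ∃ ℓ : ℕ, 2 ≤ ℓ ∧ (ℓ : L) ≠ 0 := by
    by_cases h2 : p = 2
    · refine ⟨3, by norm_num, ?_⟩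
      rw [Ne, CharP.cast_eq_zero_iff L p, h2]
      norm_num
    · refine ⟨2, le_rfl, ?_⟩
      rw [Ne, CharP.cast_eq_zero_iff L p]
      intro hd
      have hle : p ≤ 2 := Nat.le_of_dvd (by norm_num) hd
      have h1 : p ≠ 1 := CharP.char_ne_one L p
      have h0 : p ≠ 0 := by
        rintro rfl
        simp at hd
      omega
  have hne : ∀ k : ℕ, NeZero ((ℓ ^ k : ℕ) : L) := fun k => ⟨by
    rw [Nat.cast_pow]
    exact pow_ne_zero _ hℓ⟩
  have hex : ∀ k : ℕ, ∃ ζ : L, IsPrimitiveRoot ζ (ℓ ^ k) := fun k => by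
    haveI := hne k
    exact HasEnoughRootsOfUnity.exists_primitiveRoot L _
  choose f hf using hex
  refine Set.infinite_of_injective_forall_mem (f := f) ?_ ?_
  · intro k k' hkk
    have h1 := hf k
    rw [hkk] at h1
    have := h1.unique (hf k')
    exact Nat.pow_right_injective hℓ2 this
  · intro k
    exact ⟨ℓ ^ k, (hne k).out, (hf k).pow_eq_one⟩

theorem exists_etale_int_point (K : Type u) [Field K] (n : Type u) [Finite n]
    (h : MvPolynomial n K) (hh : h ≠ 0) :
    ∃ (P : StandardEtalePair (ULift.{u} ℤ)) (c : n → P.Ring) (L : Type u) (_ : Field L)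
      (_ : Algebra K L) (θ : P.Ring →+* L),
      MvPolynomial.eval (fun i => θ (c i)) (MvPolynomial.map (algebraMap K L) h) ≠ 0 := by
  classical
  cases nonempty_fintype n
  let L := AlgebraicClosure K
  letI : Algebra (ULift.{u} ℤ) L :=
    ((Int.castRingHom L).comp (ULift.ringEquiv : ULift.{u} ℤ ≃+* ℤ).toRingHom).toAlgebra
  have hh' : MvPolynomial.map (algebraMap K L) h ≠ 0 := by
    intro h0
    apply hh
    apply MvPolynomial.map_injective (algebraMap K L) (algebraMap K L).injective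
    rw [h0, map_zero]
  obtain ⟨x, hx, hxe⟩ : ∃ x : n → L, x ∈ Set.pi Set.univ
      (fun _ : n => {ζ : L | ∃ N : ℕ, (N : L) ≠ 0 ∧ ζ ^ N = 1}) ∧
      MvPolynomial.eval x (MvPolynomial.map (algebraMap K L) h) ≠ 0 := by
    by_contra hcon
    push Not at hcon
    apply hh'
    refine MvPolynomial.funext_set (fun _ : n => {ζ : L | ∃ N : ℕ, (N : L) ≠ 0 ∧ ζ ^ N = 1})
      (fun _ => infinite_roots_of_unity L) ?_
    intro x hx
    rw [hcon x hx, map_zero]
  have hx' : ∀ i, ∃ N : ℕ, (N : L) ≠ 0 ∧ x i ^ N = 1 := fun i => hx i trivial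
  choose Nf hNf1 hNf2 using hx'
  let N : ℕ := ∏ i, Nf i
  have hNL : (N : L) ≠ 0 := by
    show ((∏ i, Nf i : ℕ) : L) ≠ 0
    rw [Nat.cast_prod]
    exact Finset.prod_ne_zero_iff.2 fun i _ => hNf1 i
  have hN : N ≠ 0 := by
    rintro h0
    apply hNL
    rw [h0, Nat.cast_zero]
  haveI : NeZero (N : L) := ⟨hNL⟩
  haveI : NeZero N := ⟨hN⟩
  obtain ⟨ω, hω⟩ := HasEnoughRootsOfUnity.exists_primitiveRoot L N
  have hxN : ∀ i, x i ^ N = 1 := fun i => by
    obtain ⟨m, hm⟩ : Nf i ∣ N := Finset.dvd_prod_of_mem Nf (Finset.mem_univ i)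
    rw [hm, pow_mul, hNf2 i, one_pow]
  have hk : ∀ i, ∃ k : ℕ, ω ^ k = x i := fun i => by
    obtain ⟨k, -, hk⟩ := hω.eq_pow_of_pow_eq_one (hxN i)
    exact ⟨k, hk⟩
  choose k hk using hk
  have hmap := rootPair_hasMap.{u} N hN hNL ω hω.pow_eq_one
  refine ⟨rootPair.{u} N hN, fun i => (rootPair.{u} N hN).X ^ k i, L, inferInstance, inferInstance,
    ((rootPair.{u} N hN).lift ω hmap).toRingHom, ?_⟩
  have hfun : (fun i => ((rootPair.{u} N hN).lift ω hmap).toRingHom
      ((rootPair.{u} N hN).X ^ k i)) = x := by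
    funext i
    show ((rootPair.{u} N hN).lift ω hmap) ((rootPair.{u} N hN).X ^ k i) = x i
    rw [map_pow, StandardEtalePair.lift_X, hk]
  rw [hfun]
  exact hxe

end H10PT.TB
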