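import Mathlib
import Groth.Agent.Lib.Helper10.TB6
import Groth.Agent.Lib.Helper10.TB3
import Groth.Agent.Lib.Helper10.TBArith

/-!
# Étale locus, étale slices and integral slice points (helper10, true smooth bootstrap, part 7)
-/

set_option autoImplicit false

universe u

open CategoryTheory CategoryTheory.Limits AlgebraicGeometry Opposite

namespace H10PT.TB

section EtLocus

variable {X Y : Scheme.{u}} (f : X ⟶ Y)

/-- The étale locus of a morphism, as an open. -/
def etLocus : X.Opens := ⟨{x | EtNear f x}, by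
  rw [isOpen_iff_forall_mem_open]
  rintro x ⟨V, hxV, hV⟩
  exact ⟨V, fun y hy => ⟨V, hy, hV⟩, V.2, hxV⟩⟩

theorem mem_etLocus {x : X} : x ∈ etLocus f ↔ EtNear f x := Iff.rfl

theorem etale_of_le_etLocus (E : X.Opens) (hE : E ≤ etLocus f) : Etale (E.ι ≫ f) := by
  apply Groth.Agent.Lib.Helper16.etLocalST_etale.ofCover
  intro y
  obtain ⟨V, hyV, hV⟩ := hE y.2
  have hr : Set.range (E.ι ⁻¹ᵁ V).ι ⊆ Set.range (E.ι ⁻¹ᵁ V).ι := le_rfl
  refine ⟨(E.ι ⁻¹ᵁ V).toScheme, (E.ι ⁻¹ᵁ V).ι, inferInstance, ?_, ?_⟩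
  · rw [Scheme.Opens.range_ι]
    exact hyV
  · have e1 : (E.ι ⁻¹ᵁ V).ι ≫ E.ι ≫ f = (E.ι ∣_ V) ≫ V.ι ≫ f := by
      rw [← Category.assoc, ← morphismRestrict_ι, Category.assoc]
    show Etale ((E.ι ⁻¹ᵁ V).ι ≫ E.ι ≫ f)
    rw [e1]
    infer_instance

end EtLocus

section Slice

/-- The point `Spec P.Ring ⟶ Spec ℤ[n]` given by `c : n → P.Ring`. -/
noncomputable def zMap {n : Type u} (P : StandardEtalePair (ULift.{u} ℤ)) (c : n → P.Ring) :
    Spec (CommRingCat.of P.Ring) ⟶ Spec (CommRingCat.of (MvPolynomial n (ULift.{u} ℤ))) :=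
  (AffineSpace.toSpecMvPolyIntEquiv n).symm
    (fun j => (Scheme.ΓSpecIso (CommRingCat.of P.Ring)).inv (c j))

instance etale_terminal_from_stdEtale (P : StandardEtalePair (ULift.{u} ℤ)) :
    Etale (terminal.from (Spec (CommRingCat.of P.Ring))) := by
  have h1 : Etale (Spec.map (CommRingCat.ofHom (algebraMap (ULift.{u} ℤ) P.Ring))) := by
    rw [HasRingHomProperty.Spec_iff (P := @Etale)]
    exact RingHom.etale_algebraMap.2 inferInstance
  have h2 : terminal.from (Spec (CommRingCat.of P.Ring)) =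
      Spec.map (CommRingCat.ofHom (algebraMap (ULift.{u} ℤ) P.Ring)) ≫ terminal.from _ :=
    (terminal.comp_from _).symm
  rw [h2]
  haveI : IsIso (terminal.from (Spec (CommRingCat.of (ULift.{u} ℤ)))) :=
    isIso_of_isTerminal specULiftZIsTerminal terminalIsTerminal _
  infer_instance

theorem etale_slice {n : Type u} {U E Zs : Scheme.{u}} (g : E ⟶ 𝔸(n; U)) [Etale g]
    (z : Zs ⟶ Spec (CommRingCat.of (MvPolynomial n (ULift.{u} ℤ)))) [Etale (terminal.from Zs)] :
    Etale (pullback.fst (g ≫ AffineSpace.toSpecMvPoly n U) z ≫ g ≫ 𝔸(n; U) ↘ U) := by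
  obtain ⟨tsp, htsp⟩ : ∃ tsp, tsp = AffineSpace.toSpecMvPoly n U := ⟨_, rfl⟩
  rw [← htsp]
  have right : IsPullback (pullback.fst tsp z) (pullback.snd tsp z) tsp z :=
    IsPullback.of_hasPullback _ _
  obtain ⟨l, hl⟩ : ∃ l : pullback (g ≫ tsp) z ⟶ pullback tsp z,
      l = pullback.lift (pullback.fst (g ≫ tsp) z ≫ g) (pullback.snd _ _)
        (by rw [Category.assoc, pullback.condition]) := ⟨_, rfl⟩
  have hl1 : l ≫ pullback.fst tsp z = pullback.fst (g ≫ tsp) z ≫ g := by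
    rw [hl, pullback.lift_fst]
  have hl2 : l ≫ pullback.snd tsp z = pullback.snd (g ≫ tsp) z := by
    rw [hl, pullback.lift_snd]
  have left : IsPullback (pullback.fst (g ≫ tsp) z) l g (pullback.fst tsp z) := by
    refine IsPullback.of_bot ?_ hl1.symm right
    rw [hl2]
    exact IsPullback.of_hasPullback _ _
  haveI : Etale l := MorphismProperty.of_isPullback (P := @Etale) left inferInstance
  have bottom : IsPullback (𝔸(n; U) ↘ U) tsp (terminal.from U)
      (terminal.from (Spec (CommRingCat.of (MvPolynomial n (ULift.{u} ℤ))))) := by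
    rw [htsp]
    exact IsPullback.of_hasPullback _ _
  have paste := right.paste_horiz bottom
  rw [terminal.comp_from] at paste
  haveI : Etale (pullback.fst tsp z ≫ 𝔸(n; U) ↘ U) :=
    MorphismProperty.of_isPullback (P := @Etale) paste.flip inferInstance
  rw [← Category.assoc, ← hl1, Category.assoc]
  infer_instance

end Slice

section Arith

theorem not_mem_prime_of_ne_zero {L : Type u} [Field L] (x : PrimeSpectrum L) {a : L}
    (ha : a ≠ 0) : a ∉ x.asIdeal := fun hmem =>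
  x.2.ne_top (Ideal.eq_top_of_isUnit_mem _ hmem (IsUnit.mk0 _ ha))

set_option maxHeartbeats 1600000 in
theorem exists_int_slice_point {n : Type u} [Finite n] {U : Scheme.{u}} (Ω : 𝔸(n; U).Opens)
    (ω₀ : 𝔸(n; U)) (hω₀ : ω₀ ∈ Ω) :
    ∃ (P : StandardEtalePair (ULift.{u} ℤ)) (c : n → P.Ring) (ω : 𝔸(n; U))
      (ζ : Spec (CommRingCat.of P.Ring)),
      ω ∈ Ω ∧ (𝔸(n; U) ↘ U) ω = (𝔸(n; U) ↘ U) ω₀ ∧
      AffineSpace.toSpecMvPoly n U ω = zMap P c ζ := by
  obtain ⟨u₁, hu₁⟩ : ∃ u₁ : U, u₁ = (𝔸(n; U) ↘ U) ω₀ := ⟨_, rfl⟩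
  rw [← hu₁]
  obtain ⟨x₀, -⟩ : ∃ x₀ : Spec (U.residueField u₁), True :=
    ⟨IsLocalRing.closedPoint (U.residueField u₁), trivial⟩
  have sqκ := AffineSpace.isPullback_map (n := n) (U.fromSpecResidueField u₁)
  obtain ⟨w, hw1, -⟩ := exists_preimage_of_isPullback sqκ ω₀ x₀
    (by rw [Scheme.fromSpecResidueField_apply, hu₁])
  obtain ⟨φκ, hφκ⟩ : ∃ φκ : Spec (CommRingCat.of (MvPolynomial n (U.residueField u₁))) ⟶ 𝔸(n; U),
      φκ = (AffineSpace.SpecIso n (U.residueField u₁)).inv ≫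
        AffineSpace.map n (U.fromSpecResidueField u₁) := ⟨_, rfl⟩
  have hw' : (AffineSpace.SpecIso n (U.residueField u₁)).hom w ∈ φκ ⁻¹ᵁ Ω := by
    show φκ ((AffineSpace.SpecIso n (U.residueField u₁)).hom w) ∈ Ω
    rw [hφκ, ← Scheme.Hom.comp_apply, Iso.hom_inv_id_assoc, hw1]
    exact hω₀
  obtain ⟨_, ⟨h, rfl⟩, hwh, hle⟩ :=
    (TopologicalSpace.Opens.isBasis_iff_nbhd.1 PrimeSpectrum.isBasis_basic_opens) hw'
  have hh : h ≠ 0 := by
    rintro rfl
    exact (PrimeSpectrum.mem_basicOpen _ _).1 hwh (zero_mem _)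
  obtain ⟨P, c, L, _, _, θ, hθ⟩ := exists_etale_int_point (U.residueField u₁) n h hh
  obtain ⟨ψL, hψL⟩ : ∃ ψL : MvPolynomial n (U.residueField u₁) →+* L,
      ψL = MvPolynomial.eval₂Hom (algebraMap (U.residueField u₁) L) (fun i => θ (c i)) :=
    ⟨_, rfl⟩
  have hψh : ψL h ≠ 0 := by
    rw [hψL, MvPolynomial.coe_eval₂Hom, MvPolynomial.eval₂_eq_eval_map]
    exact hθ
  obtain ⟨ptL, -⟩ : ∃ ptL : Spec (CommRingCat.of L), True :=
    ⟨IsLocalRing.closedPoint L, trivial⟩
  have hμ' : h ∉ (PrimeSpectrum.comap ψL ptL).asIdeal := by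
    rw [PrimeSpectrum.comap_asIdeal, Ideal.mem_comap]
    exact not_mem_prime_of_ne_zero ptL hψh
  have hμ : (Spec.map (CommRingCat.ofHom ψL)) ptL ∈ PrimeSpectrum.basicOpen h :=
    (PrimeSpectrum.mem_basicOpen h (PrimeSpectrum.comap ψL ptL)).2 hμ'
  refine ⟨P, c, φκ ((Spec.map (CommRingCat.ofHom ψL)) ptL),
    (Spec.map (CommRingCat.ofHom θ)) ptL, hle hμ, ?_, ?_⟩
  · rw [hφκ, ← Scheme.Hom.comp_apply, Category.assoc, AffineSpace.map_over,
      Scheme.Hom.comp_apply, Scheme.Hom.comp_apply, Scheme.fromSpecResidueField_apply]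
  · have key : Spec.map (CommRingCat.ofHom ψL) ≫ φκ ≫ AffineSpace.toSpecMvPoly n U =
        Spec.map (CommRingCat.ofHom θ) ≫ zMap P c := by
      rw [hφκ, Category.assoc, AffineSpace.map_toSpecMvPoly]
      apply (AffineSpace.toSpecMvPolyIntEquiv n).injective
      funext j
      have e1 : Spec.map (CommRingCat.ofHom ψL) ≫
          (AffineSpace.SpecIso n (U.residueField u₁)).inv ≫
            AffineSpace.toSpecMvPoly n (Spec (U.residueField u₁)) =
          (Spec.map (CommRingCat.ofHom ψL) ≫ (AffineSpace.SpecIso n (U.residueField u₁)).inv) ≫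
            AffineSpace.toSpecMvPoly n (Spec (U.residueField u₁)) := (Category.assoc _ _ _).symm
      rw [e1, AffineSpace.toSpecMvPolyIntEquiv_comp, AffineSpace.toSpecMvPolyIntEquiv_comp, zMap,
        Equiv.apply_symm_apply, appTop_SpecMap_ΓSpecIso_inv]
      change (Spec.map (CommRingCat.ofHom ψL) ≫
        (AffineSpace.SpecIso n (U.residueField u₁)).inv).appTop
          (AffineSpace.coord (Spec (U.residueField u₁)) j) = _
      rw [Scheme.Hom.comp_appTop, CommRingCat.comp_apply, AffineSpace.SpecIso_inv_appTop_coord,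
        appTop_SpecMap_ΓSpecIso_inv]
      congr 1
      rw [hψL]
      simp only [CommRingCat.hom_ofHom, MvPolynomial.coe_eval₂Hom, MvPolynomial.eval₂_X]
    calc (AffineSpace.toSpecMvPoly n U) (φκ ((Spec.map (CommRingCat.ofHom ψL)) ptL))
        = (Spec.map (CommRingCat.ofHom ψL) ≫ φκ ≫ AffineSpace.toSpecMvPoly n U) ptL := by
          simp only [Scheme.Hom.comp_apply]
      _ = (Spec.map (CommRingCat.ofHom θ) ≫ zMap P c) ptL := by rw [key]
      _ = zMap P c ((Spec.map (CommRingCat.ofHom θ)) ptL) := by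
          simp only [Scheme.Hom.comp_apply]

end Arith

end H10PT.TB
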