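import Mathlib
import Groth.Agent.Lib.Helper10.TB5
import Groth.Agent.Lib.Helper10.TB7

/-!
# Local étale slices of a smooth cover (helper10, true smooth bootstrap, part 8)
-/

set_option autoImplicit false

universe u

open CategoryTheory CategoryTheory.Limits AlgebraicGeometry Opposite AlgSp

namespace H10PT.TB

open Groth.Agent.Lib.Helper16

variable {S : Scheme.{u}} {F : Sp S} {U : Over S} {p : (yon S).obj U ⟶ F}

theorem psi_toSpecMvPoly {X : Over S} {φ : (yon S).obj X ⟶ F} (C : PChart p φ) (n : Type u)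
    (v : n → Γ(X.left, ⊤)) :
    psi C n v ≫ AffineSpace.toSpecMvPoly n U.left =
      C.π.left ≫ (AffineSpace.toSpecMvPolyIntEquiv n).symm v := by
  rw [psi, AffineSpace.homOfVector_toSpecMvPoly]
  apply (AffineSpace.toSpecMvPolyIntEquiv n).injective
  funext j
  rw [Equiv.apply_symm_apply, AffineSpace.toSpecMvPolyIntEquiv_comp, Equiv.apply_symm_apply]
  rfl

set_option maxHeartbeats 1600000 in
theorem slice_of_chart (K : KChart p) {X : Over S} (i : X ⟶ U) (n : Type u)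
    (v : n → Γ(X.left, ⊤)) (Wg : X.left.Opens)
    (hE : Etale (((PChart.ofK K i).π.left ⁻¹ᵁ Wg).ι ≫ psi (PChart.ofK K i) n v))
    (P : StandardEtalePair (ULift.{u} ℤ)) (c : n → P.Ring) :
    ∃ (V₁ : Over S) (k₁ : V₁ ⟶ U), Etale (pullback.snd k₁ K.s' ≫ K.t').left ∧
      ∀ (y₀ : ((PChart.ofK K i).π.left ⁻¹ᵁ Wg).toScheme) (ζ : Spec (CommRingCat.of P.Ring)),
        AffineSpace.toSpecMvPoly n U.left
          (psi (PChart.ofK K i) n v (((PChart.ofK K i).π.left ⁻¹ᵁ Wg).ι y₀)) = zMap P c ζ →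
        ∃ y : (pullback k₁ K.s').left, (pullback.snd k₁ K.s' ≫ K.t').left y =
          (PChart.ofK K i).f'.left (((PChart.ofK K i).π.left ⁻¹ᵁ Wg).ι y₀) := by
  set C : PChart p ((yon S).map i ≫ p) := PChart.ofK K i with hC
  have hCπ : C.π = pullback.fst i K.s' := rfl
  have hCf : C.f' = pullback.snd i K.s' ≫ K.t' := rfl
  obtain ⟨E', hE'⟩ : ∃ E' : C.X'.left.Opens, E' = C.π.left ⁻¹ᵁ Wg := ⟨_, rfl⟩
  obtain ⟨πW, hπW⟩ : ∃ πW : (C.π.left ⁻¹ᵁ Wg).toScheme ⟶ Wg.toScheme, πW = C.π.left ∣_ Wg :=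
    ⟨_, rfl⟩
  have hπWι : πW ≫ Wg.ι = (C.π.left ⁻¹ᵁ Wg).ι ≫ C.π.left := by rw [hπW, morphismRestrict_ι]
  obtain ⟨cX, hcX⟩ : ∃ cX : X.left ⟶ Spec (CommRingCat.of (MvPolynomial n (ULift.{u} ℤ))),
      cX = (AffineSpace.toSpecMvPolyIntEquiv n).symm v := ⟨_, rfl⟩
  have hpsit : psi C n v ≫ AffineSpace.toSpecMvPoly n U.left = C.π.left ≫ cX := by
    rw [hcX]; exact psi_toSpecMvPoly C n v
  obtain ⟨gE, hgE⟩ : ∃ gE : (C.π.left ⁻¹ᵁ Wg).toScheme ⟶ 𝔸(n; U.left),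
      gE = (C.π.left ⁻¹ᵁ Wg).ι ≫ psi C n v := ⟨_, rfl⟩
  rw [← hgE] at hE
  obtain ⟨tE, htE⟩ : ∃ tE, tE = gE ≫ AffineSpace.toSpecMvPoly n U.left := ⟨_, rfl⟩
  have htE' : tE = πW ≫ Wg.ι ≫ cX := by
    rw [htE, hgE, Category.assoc, hpsit, ← Category.assoc, ← hπWι, Category.assoc]
  obtain ⟨z, hz⟩ : ∃ z, z = zMap P c := ⟨_, rfl⟩
  -- the slice
  obtain ⟨V₁, hV₁⟩ : ∃ V₁ : Over S,
      V₁ = Over.mk (pullback.fst (Wg.ι ≫ cX) z ≫ Wg.ι ≫ X.hom) := ⟨_, rfl⟩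
  subst hV₁
  obtain ⟨k₁, hk₁⟩ : ∃ k₁ : Over.mk (pullback.fst (Wg.ι ≫ cX) z ≫ Wg.ι ≫ X.hom) ⟶ U,
      k₁ = Over.homMk (pullback.fst (Wg.ι ≫ cX) z ≫ Wg.ι ≫ i.left)
        (by simp only [Category.assoc, Over.w, Over.mk_hom]) := ⟨_, rfl⟩
  have hk₁l : k₁.left = (pullback.fst (Wg.ι ≫ cX) z ≫ Wg.ι) ≫ i.left := by
    rw [hk₁]
    exact (Category.assoc _ _ _).symm
  -- the comparison
  have hcompat : (pullback.fst tE z ≫ πW) ≫ (Wg.ι ≫ cX) = pullback.snd tE z ≫ z := by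
    rw [Category.assoc, ← htE', pullback.condition]
  obtain ⟨a₁, ha₁⟩ : ∃ a₁ : pullback tE z ⟶ pullback (Wg.ι ≫ cX) z,
      a₁ = pullback.lift (pullback.fst tE z ≫ πW) (pullback.snd tE z) hcompat := ⟨_, rfl⟩
  have ha₁1 : a₁ ≫ pullback.fst (Wg.ι ≫ cX) z = pullback.fst tE z ≫ πW := by
    rw [ha₁, pullback.lift_fst]
  have ha₁2 : a₁ ≫ pullback.snd (Wg.ι ≫ cX) z = pullback.snd tE z := by
    rw [ha₁, pullback.lift_snd]
  have sqA : IsPullback a₁ (pullback.fst tE z) (pullback.fst (Wg.ι ≫ cX) z) πW := by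
    refine IsPullback.of_right ?_ ha₁1 (IsPullback.of_hasPullback (Wg.ι ≫ cX) z).flip
    rw [ha₁2, ← htE']
    exact (IsPullback.of_hasPullback tE z).flip
  have sqB : IsPullback (C.π.left ⁻¹ᵁ Wg).ι πW C.π.left Wg.ι := by
    rw [hπW]
    exact (isPullback_morphismRestrict C.π.left Wg).flip
  have sqC : IsPullback (pullback.snd i K.s').left C.π.left K.s'.left i.left := by
    rw [hCπ]
    exact (ofK_sq K i).flip
  have sqABC := (sqA.flip.paste_horiz sqB).paste_horiz sqC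
  have sqk : IsPullback (pullback.fst k₁ K.s').left (pullback.snd k₁ K.s').left k₁.left
      K.s'.left := isPullback_left_forget k₁ K.s'
  rw [hk₁l] at sqk
  obtain ⟨e, he⟩ : ∃ e : (pullback k₁ K.s').left ≅ pullback tE z,
      e = sqk.isoIsPullback _ _ sqABC.flip := ⟨_, rfl⟩
  have he2 : e.hom ≫ (pullback.fst tE z ≫ (C.π.left ⁻¹ᵁ Wg).ι) ≫ (pullback.snd i K.s').left =
      (pullback.snd k₁ K.s').left := by
    rw [he]
    exact IsPullback.isoIsPullback_hom_snd _ _ sqk sqABC.flip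
  have hgEo : gE ≫ 𝔸(n; U.left) ↘ U.left = (C.π.left ⁻¹ᵁ Wg).ι ≫ C.f'.left := by
    rw [hgE, Category.assoc, psi, AffineSpace.homOfVector_over]
  have hkey : (pullback.snd k₁ K.s' ≫ K.t').left =
      e.hom ≫ pullback.fst tE z ≫ gE ≫ 𝔸(n; U.left) ↘ U.left := by
    rw [hgEo, hCf, Over.comp_left, Over.comp_left, ← he2]
    simp only [Category.assoc]
    rfl
  refine ⟨_, k₁, ?_, ?_⟩
  · rw [hkey]
    haveI : Etale (pullback.fst tE z ≫ gE ≫ 𝔸(n; U.left) ↘ U.left) := by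
      rw [htE, hz]
      exact etale_slice gE (zMap P c)
    infer_instance
  · intro y₀ ζ hy₀
    have hcond : tE y₀ = z ζ := by
      rw [htE, hgE, hz, Scheme.Hom.comp_apply, Scheme.Hom.comp_apply]
      exact hy₀
    obtain ⟨y, hy1, -⟩ := Scheme.Pullback.exists_preimage_pullback y₀ ζ hcond
    refine ⟨e.inv y, ?_⟩
    rw [hkey, ← Scheme.Hom.comp_apply, Iso.inv_hom_id_assoc, hgEo, Scheme.Hom.comp_apply, hy1]
    rfl

end H10PT.TB
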