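import Mathlib
import Groth.Agent.Lib.Helper10.TB8

/-!
# Existence of étale slices through every point (helper10, true smooth bootstrap, part 9)
-/

set_option autoImplicit false

universe u

open CategoryTheory CategoryTheory.Limits AlgebraicGeometry Opposite AlgSp

namespace H10PT.TB

open Groth.Agent.Lib.Helper16

variable {S : Scheme.{u}} {F : Sp S} {U : Over S} {p : (yon S).obj U ⟶ F}

set_option maxHeartbeats 1600000 in
theorem exists_local_slice (K : KChart p) [Smooth K.s'.left] [Smooth K.t'.left]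
    (ht : Surjective K.t'.left) (u₁ : U.left) :
    ∃ (V₁ : Over S) (k₁ : V₁ ⟶ U), Etale (pullback.snd k₁ K.s' ≫ K.t').left ∧
      ∃ y : (pullback k₁ K.s').left, (pullback.snd k₁ K.s' ≫ K.t').left y = u₁ := by
  obtain ⟨r₀, hr₀⟩ := ht.surj u₁
  have hMs : K.M ≫ pullback.fst U.hom U.hom = K.s'.left := pullback.lift_fst _ _ _
  have hMt : K.M ≫ pullback.snd U.hom U.hom = K.t'.left := pullback.lift_snd _ _ _
  haveI : Smooth (K.M ≫ pullback.snd U.hom U.hom) := by rw [hMt]; infer_instance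
  haveI := formallyUnramified_M K
  obtain ⟨V, hV, m, a, E₀, ε, g, e₀, hε, he₀, hg, hét⟩ := exists_coords U.hom K.M r₀
  rw [hMs] at hg
  rw [hMt] at hét
  -- the open piece of `U`
  obtain ⟨X, hX⟩ : ∃ X : Over S, X = Over.mk (hV.fromSpec ≫ U.hom) := ⟨_, rfl⟩
  subst hX
  obtain ⟨i, hi⟩ : ∃ i : Over.mk (hV.fromSpec ≫ U.hom) ⟶ U, i = Over.homMk hV.fromSpec rfl :=
    ⟨_, rfl⟩
  have hil : i.left = hV.fromSpec := by rw [hi]; rfl
  haveI : IsOpenImmersion i.left := by rw [hil]; infer_instance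
  obtain ⟨v, hv⟩ : ∃ v : ULift.{u} (Fin m) → Γ((Over.mk (hV.fromSpec ≫ U.hom)).left, ⊤),
      v = fun j => (Scheme.ΓSpecIso Γ(U.left, V)).inv (a j) := ⟨_, rfl⟩
  have hg' : g ≫ i.left = ε ≫ K.s'.left := by rw [hil]; exact hg
  obtain ⟨ε', hε'⟩ : ∃ ε' : E₀ ⟶ (PChart.ofK K i).X'.left, ε' = (ofK_sq K i).lift g ε hg' :=
    ⟨_, rfl⟩
  have h1 : ε' ≫ (PChart.ofK K i).π.left = g := by rw [hε']; exact (ofK_sq K i).lift_fst _ _ _
  have h2 : ε' ≫ (pullback.snd i K.s').left = ε := by rw [hε']; exact (ofK_sq K i).lift_snd _ _ _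
  haveI hsndoi : IsOpenImmersion (pullback.snd i K.s').left := ofK_isOpenImmersion_snd K i
  haveI : IsOpenImmersion ε' := by
    have h := @IsOpenImmersion.of_comp E₀ (pullback i K.s').left K.R'.left ε'
      (pullback.snd i K.s').left hsndoi (by have h3 := hε; rw [← h2] at h3; exact h3)
    exact h
  have hpsi : ε' ≫ psi (PChart.ofK K i) (ULift.{u} (Fin m)) v =
      AffineSpace.homOfVector (ε ≫ K.t'.left)
        (fun j => g.appTop ((Scheme.ΓSpecIso Γ(U.left, V)).inv (a j))) := by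
    refine (AffineSpace.comp_homOfVector _ ε' _).trans ?_
    refine congrArg₂ AffineSpace.homOfVector ?_ (funext fun j => ?_)
    · show ε' ≫ (pullback.snd i K.s').left ≫ K.t'.left = _
      rw [← Category.assoc, h2]
    · show ε'.appTop ((PChart.ofK K i).π.left.appTop (v j)) = _
      rw [← CommRingCat.comp_apply, ← Scheme.Hom.comp_appTop, h1, hv]
  haveI : Etale (ε' ≫ psi (PChart.ofK K i) (ULift.{u} (Fin m)) v) := by rw [hpsi]; exact hét
  have hx' : EtNear (psi (PChart.ofK K i) (ULift.{u} (Fin m)) v) (ε' e₀) :=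
    EtNear.cancel ε' _ e₀ (EtNear.of_etale _ e₀)
  have hx'u : (PChart.ofK K i).f'.left (ε' e₀) = u₁ := by
    have : (ε' ≫ (pullback.snd i K.s').left ≫ K.t'.left) e₀ = u₁ := by
      rw [← Category.assoc, h2, Scheme.Hom.comp_apply, he₀, hr₀]
    exact this
  -- the saturated open
  obtain ⟨E, hE⟩ : ∃ E, E = etLocus (psi (PChart.ofK K i) (ULift.{u} (Fin m)) v) := ⟨_, rfl⟩
  obtain ⟨Wg, hWg⟩ : ∃ Wg : (Over.mk (hV.fromSpec ≫ U.hom)).left.Opens,
      (Wg : Set _) = (PChart.ofK K i).π.left '' (E : Set _) :=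
    ⟨⟨(PChart.ofK K i).π.left '' (E : Set _), (PChart.ofK K i).π.left.isOpenMap _ E.2⟩, rfl⟩
  have hsat : (PChart.ofK K i).π.left ⁻¹ᵁ Wg = E := by
    ext x
    constructor
    · intro hx
      have hx2 : (PChart.ofK K i).π.left x ∈ (Wg : Set _) := hx
      rw [hWg] at hx2
      obtain ⟨x₁, hx₁E, hx₁x⟩ := hx2
      rw [hE] at hx₁E ⊢
      exact etNear_saturated K (PChart.ofK K i) _ v x₁ x hx₁x hx₁E
    · intro hx
      show (PChart.ofK K i).π.left x ∈ (Wg : Set _)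
      rw [hWg]
      exact ⟨x, hx, rfl⟩
  have hEét : Etale (((PChart.ofK K i).π.left ⁻¹ᵁ Wg).ι ≫
      psi (PChart.ofK K i) (ULift.{u} (Fin m)) v) :=
    etale_of_le_etLocus _ _ (by rw [hsat, hE])
  -- the image in affine space
  obtain ⟨Ω, hΩ⟩ : ∃ Ω : 𝔸(ULift.{u} (Fin m); U.left).Opens, (Ω : Set _) =
      Set.range (((PChart.ofK K i).π.left ⁻¹ᵁ Wg).ι ≫
        psi (PChart.ofK K i) (ULift.{u} (Fin m)) v) :=
    ⟨⟨_, (((PChart.ofK K i).π.left ⁻¹ᵁ Wg).ι ≫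
      psi (PChart.ofK K i) (ULift.{u} (Fin m)) v).isOpenMap.isOpen_range⟩, rfl⟩
  have hx'E : ε' e₀ ∈ (PChart.ofK K i).π.left ⁻¹ᵁ Wg := by rw [hsat, hE]; exact hx'
  have hω₀ : psi (PChart.ofK K i) (ULift.{u} (Fin m)) v (ε' e₀) ∈ Ω := by
    have : psi (PChart.ofK K i) (ULift.{u} (Fin m)) v (ε' e₀) ∈
        (Ω : Set 𝔸(ULift.{u} (Fin m); U.left)) := by
      rw [hΩ]
      exact ⟨⟨ε' e₀, hx'E⟩, rfl⟩
    exact this
  obtain ⟨P, c, ω, ζ, hωΩ, hωu, hωz⟩ := exists_int_slice_point Ω _ hω₀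
  have hωΩ' : ω ∈ (Ω : Set 𝔸(ULift.{u} (Fin m); U.left)) := hωΩ
  rw [hΩ] at hωΩ'
  obtain ⟨y₀, hy₀⟩ := hωΩ'
  obtain ⟨V₁, k₁, hk₁, hpt⟩ := slice_of_chart K i _ v Wg hEét P c
  refine ⟨V₁, k₁, hk₁, ?_⟩
  obtain ⟨y, hy⟩ := hpt y₀ ζ (by
    rw [← hωz, ← hy₀]
    rfl)
  refine ⟨y, ?_⟩
  rw [hy, ← hx'u]
  have e1 : ∀ x, (PChart.ofK K i).f'.left x =
      (𝔸(ULift.{u} (Fin m); U.left) ↘ U.left) (psi (PChart.ofK K i) (ULift.{u} (Fin m)) v x) := by
    intro x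
    rw [← Scheme.Hom.comp_apply, psi, AffineSpace.homOfVector_over]
  rw [e1, e1, ← hωu, ← hy₀]
  rfl

end H10PT.TB
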