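import Mathlib
import Groth.Agent.Lib.Helper10.TB9
import Groth.Agent.Lib.Helper10.Boot1

/-!
# The true smooth bootstrap for sheaves (helper10, part 10)

A sheaf with a smooth surjective cover (representable by algebraic spaces) by a scheme or an
algebraic space is an algebraic space.
-/

set_option autoImplicit false

universe u

open CategoryTheory CategoryTheory.Limits AlgebraicGeometry Opposite AlgSp

namespace H10PT.TB

open Groth.Agent.Lib.Helper16

variable {S : Scheme.{u}} {F : Sp S} {U : Over S} {p : (yon S).obj U ⟶ F}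

set_option maxHeartbeats 1600000 in
theorem exists_global_slice (K : KChart p) [Smooth K.s'.left] [Smooth K.t'.left]
    (ht : Surjective K.t'.left) :
    ∃ (V : Over S) (k : V ⟶ U), Etale (pullback.snd k K.s' ≫ K.t').left ∧
      Surjective (pullback.snd k K.s' ≫ K.t').left := by
  choose V₁ k₁ hk₁ y hy using exists_local_slice K ht
  obtain ⟨V, hV⟩ : ∃ V : Over S,
      V = Over.mk (Limits.Sigma.desc fun u : U.left => (V₁ u).hom) := ⟨_, rfl⟩
  subst hV
  obtain ⟨k, hk⟩ : ∃ k : Over.mk (Limits.Sigma.desc fun u : U.left => (V₁ u).hom) ⟶ U,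
      k = Over.homMk (Limits.Sigma.desc fun u : U.left => (k₁ u).left) (by
        apply Limits.Sigma.hom_ext
        intro u
        rw [← Category.assoc, Limits.Sigma.ι_desc, Over.w]
        exact (Limits.Sigma.ι_desc (fun u : U.left => (V₁ u).hom) u).symm) := ⟨_, rfl⟩
  obtain ⟨ι', hι'⟩ : ∃ ι' : ∀ u, V₁ u ⟶ Over.mk (Limits.Sigma.desc fun u : U.left => (V₁ u).hom),
      ι' = fun u => Over.homMk (Limits.Sigma.ι (fun u : U.left => (V₁ u).left) u) (Limits.Sigma.ι_desc _ _) := ⟨_, rfl⟩
  have hι'l : ∀ u, (ι' u).left = Limits.Sigma.ι (fun u : U.left => (V₁ u).left) u := by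
    intro u; rw [hι']; rfl
  have hιk : ∀ u, ι' u ≫ k = k₁ u := by
    intro u
    ext
    rw [Over.comp_left, hι'l, hk]
    exact Limits.Sigma.ι_desc _ _
  obtain ⟨ℓ, hℓ⟩ : ∃ ℓ : ∀ u, pullback (k₁ u) K.s' ⟶ pullback k K.s',
      ℓ = fun u => pullback.lift (pullback.fst _ _ ≫ ι' u) (pullback.snd _ _)
        (by rw [Category.assoc, hιk, pullback.condition]) := ⟨_, rfl⟩
  have hℓ1 : ∀ u, ℓ u ≫ pullback.fst k K.s' = pullback.fst (k₁ u) K.s' ≫ ι' u := by
    intro u; rw [hℓ]; exact pullback.lift_fst _ _ _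
  have hℓ2 : ∀ u, ℓ u ≫ pullback.snd k K.s' = pullback.snd (k₁ u) K.s' := by
    intro u; rw [hℓ]; exact pullback.lift_snd _ _ _
  have sqℓ : ∀ u, IsPullback (ℓ u) (pullback.fst (k₁ u) K.s') (pullback.fst k K.s') (ι' u) := by
    intro u
    refine IsPullback.of_right ?_ (hℓ1 u) (IsPullback.of_hasPullback k K.s').flip
    rw [hℓ2 u, hιk u]
    exact (IsPullback.of_hasPullback (k₁ u) K.s').flip
  have sqℓ' : ∀ u, IsPullback (ℓ u).left (pullback.fst (k₁ u) K.s').left
      (pullback.fst k K.s').left (ι' u).left := fun u => (sqℓ u).map (Over.forget S)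
  have hℓoi : ∀ u, IsOpenImmersion (ℓ u).left := by
    intro u
    refine MorphismProperty.of_isPullback (P := @IsOpenImmersion) (sqℓ' u).flip ?_
    rw [hι'l]
    infer_instance
  have hcov : ∀ x : (pullback k K.s').left, ∃ u z, (ℓ u).left z = x := by
    intro x
    obtain ⟨u, v, hv⟩ := (AlgebraicGeometry.sigmaOpenCover fun u : U.left => (V₁ u).left).exists_eq
      ((pullback.fst k K.s').left x)
    have hv' : (pullback.fst k K.s').left x = (ι' u).left v := by rw [hι'l]; exact hv.symm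
    obtain ⟨z, hz, -⟩ := exists_preimage_of_isPullback (sqℓ' u) x v hv'
    exact ⟨u, z, hz⟩
  refine ⟨_, k, ?_, ?_⟩
  · refine IsZariskiLocalAtSource.of_openCover (P := @Etale)
      (Scheme.Cover.mkOfCovers U.left (fun u => (pullback (k₁ u) K.s').left)
        (fun u => (ℓ u).left) hcov hℓoi) ?_
    intro u
    show Etale ((ℓ u).left ≫ (pullback.snd k K.s' ≫ K.t').left)
    rw [← Over.comp_left, ← Category.assoc, hℓ2 u]
    exact hk₁ u
  · refine ⟨fun u₁ => ⟨(ℓ u₁).left (y u₁), ?_⟩⟩
    rw [← Scheme.Hom.comp_apply, ← Over.comp_left, ← Category.assoc, hℓ2 u₁]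
    exact hy u₁

end H10PT.TB
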