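import Mathlib
import Groth.Agent.Lib.Helper10.EtQuotB
import Groth.Agent.Lib.Helper10.EtQuotC
import Groth.Agent.Lib.Helper10.TB10
import Groth.Agent.Lib.Helper15.EpiRefines

/-!
# Helper library (helper10): an etale sheaf with a smooth chart is an algebraic space

`isAlgSpaceP_of_smooth_chart`: a presheaf `F` which is a sheaf for the big etale topology, with a
map `q : h_U₀ ⟶ F` which is etale locally surjective and whose kernel pair is represented by a
scheme `R₀` with smooth projections, is an algebraic space: slice the smooth equivalence relation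
to an etale one and apply `isAlgSpaceP_of_etale_chart`.
-/

set_option autoImplicit false
universe u
open CategoryTheory CategoryTheory.Limits AlgebraicGeometry Opposite

namespace H10PT.EtQuot

open AlgSp H10PT.EtSh Groth.Agent.Lib.Helper16 Groth.Agent.Lib.Helper15

variable {S : Scheme.{u}}

theorem exists_swap {C : Type*} [Category C] {K X Y : C} {r₁ r₂ : K ⟶ X} {q : X ⟶ Y}
    (sq : IsPullback r₁ r₂ q q) : ∃ σ : K ⟶ K, σ ≫ r₁ = r₂ ∧ σ ≫ r₂ = r₁ ∧ σ ≫ σ = 𝟙 K := by
  refine ⟨sq.lift r₂ r₁ sq.w.symm, sq.lift_fst _ _ _, sq.lift_snd _ _ _, ?_⟩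
  apply sq.hom_ext
  · rw [Category.assoc, sq.lift_fst, sq.lift_snd, Category.id_comp]
  · rw [Category.assoc, sq.lift_snd, sq.lift_fst, Category.id_comp]

theorem isPullback_pyon {A B C : Over S} (f : A ⟶ C) (g : B ⟶ C) :
    IsPullback ((pyon S).map (pullback.fst f g)) ((pyon S).map (pullback.snd f g))
      ((pyon S).map f) ((pyon S).map g) :=
  ((IsPullback.of_hasPullback f g).map (yon S)).map (sheafToPresheaf (J S) (Type (u + 1)))

set_option maxHeartbeats 1600000 in
theorem isAlgSpaceP_of_smooth_chart (F : PSp S) (h1 : Presheaf.IsSheaf (Jet S) F)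
    {R₀ U₀ : Over S} (s t : R₀ ⟶ U₀) (q : (pyon S).obj U₀ ⟶ F)
    (sqR : IsPullback ((pyon S).map t) ((pyon S).map s) q q)
    (hs : Smooth s.left) (ht : Smooth t.left)
    (hlift : ∀ ⦃T : Over S⦄ (ξ : (pyon S).obj T ⟶ F), ∃ (V : Over S) (v : V ⟶ T)
      (fst : (pyon S).obj V ⟶ (pyon S).obj U₀),
      fst ≫ q = (pyon S).map v ≫ ξ ∧ Etale v.left ∧ Surjective v.left) :
    IsAlgSpaceP F := by
  have hEq : IsEqvRel s t := isEqvRel_of_isPullback s t q sqR
  have hE := Groth.Agent.S9868.isEqvRelSp_yon s t hEq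
  have sqQ := isPullback_quotSpπ hE
  have hriE : (RepWith (S := S) @Etale).RespectsIso :=
    MorphismProperty.IsStableUnderBaseChange.respectsIso
  have hriS : (RepWith (S := S) @Surjective).RespectsIso :=
    MorphismProperty.IsStableUnderBaseChange.respectsIso
  have hs_surj : Surjective s.left := by
    obtain ⟨r, -, hr2⟩ := (hEq.equivalence U₀).refl (𝟙 U₀)
    refine ⟨fun x => ⟨r.left x, ?_⟩⟩
    rw [← Scheme.Hom.comp_apply, ← Over.comp_left, hr2]
    rfl
  obtain ⟨V, k, het, hsurj⟩ := H10PT.TB.exists_global_slice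
    (K := (⟨R₀, sqQ.isoPullback.hom, t, s, sqQ.isoPullback_hom_fst.symm,
      sqQ.isoPullback_hom_snd.symm, (RepWith (S := S) @Etale).of_isIso _,
      (RepWith (S := S) @Surjective).of_isIso _⟩ :
      H10PT.TB.KChart (quotSpπ ((yon S).map s) ((yon S).map t)))) (ht := hs_surj)
  obtain ⟨ε, hε⟩ : ∃ ε : pullback k t ⟶ U₀, ε = pullback.snd k t ≫ s := ⟨_, rfl⟩
  have het' : Etale ε.left := by rw [hε]; exact het
  have hsurj' : Surjective ε.left := by rw [hε]; exact hsurj
  -- the kernel pair of `φ = h_k ≫ q`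
  have sq2 := isPullback_pyon k t
  have sq3 := sq2.flip.paste_horiz sqR.flip
  have sq3' : IsPullback ((pyon S).map (pullback.fst k t)) ((pyon S).map ε)
      ((pyon S).map k ≫ q) q := by
    rw [hε, Functor.map_comp]
    exact sq3.flip
  have sq4 := isPullback_pyon ε k
  have sq5 := sq4.paste_horiz sq3'
  rw [← Functor.map_comp] at sq5
  have hsV : Etale (pullback.snd ε k).left :=
    MorphismProperty.of_isPullback (P := @Etale) (isPullback_left_forget ε k) het'
  obtain ⟨σ, hσ1, hσ2, hσ3⟩ := exists_swap sq5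
  obtain ⟨σ₀, rfl⟩ := (pyon S).map_surjective σ
  have hσ₀ : σ₀ ≫ σ₀ = 𝟙 _ := (pyon S).map_injective (by rw [Functor.map_comp, hσ3, CategoryTheory.Functor.map_id])
  have hσt : σ₀ ≫ pullback.snd ε k = pullback.fst ε k ≫ pullback.fst k t :=
    (pyon S).map_injective (by rw [Functor.map_comp, hσ2])
  have htV : Etale (pullback.fst ε k ≫ pullback.fst k t).left := by
    rw [← hσt, Over.comp_left]
    haveI : IsIso σ₀.left := ⟨σ₀.left, by rw [← Over.comp_left, hσ₀]; rfl,
      by rw [← Over.comp_left, hσ₀]; rfl⟩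
    infer_instance
  refine isAlgSpaceP_of_etale_chart F h1 (pullback.snd ε k) (pullback.fst ε k ≫ pullback.fst k t)
    ((pyon S).map k ≫ q) sq5 hsV htV ?_
  intro T ξ
  obtain ⟨T', e, u₀, hu₀, hee, hes⟩ := hlift ξ
  obtain ⟨u, rfl⟩ := (pyon S).map_surjective u₀
  refine ⟨pullback u ε, pullback.fst u ε ≫ e,
    (pyon S).map (pullback.snd u ε ≫ pullback.fst k t), ?_, ?_, ?_⟩
  · have h1' : (pyon S).map (pullback.fst k t) ≫ (pyon S).map k ≫ q =
        (pyon S).map ε ≫ q := sq3'.w
    rw [Functor.map_comp, Category.assoc, h1', ← Category.assoc, ← Functor.map_comp,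
      ← pullback.condition, Functor.map_comp, Category.assoc, hu₀, ← Category.assoc,
      ← Functor.map_comp]
  · rw [Over.comp_left]
    haveI : Etale (pullback.fst u ε).left :=
      MorphismProperty.of_isPullback (P := @Etale) (isPullback_left_forget u ε).flip het'
    infer_instance
  · rw [Over.comp_left]
    haveI : Surjective (pullback.fst u ε).left :=
      MorphismProperty.of_isPullback (P := @Surjective) (isPullback_left_forget u ε).flip hsurj'
    infer_instance

end H10PT.EtQuot
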