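import Mathlib
import Groth.Agent.Lib.Helper10.Boot3
import Groth.Agent.Lib.Helper10.EtQuotA
import Groth.Agent.S10109

/-!
# Smooth covers of stacks for the big etale topology (helper10)

The etale-topology versions of `H10PT.Boot.repByAlgSp_of_etale_cover`,
`H10PT.Boot.repByAlgSp_fp_charts` and `H10PT.Boot.isAlgStack_of_smooth_cover`: a stack in groupoids
for the big etale topology with a smooth surjective cover, representable by algebraic spaces, by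
an algebraic space has diagonal representable by algebraic spaces.
-/

set_option autoImplicit false
set_option backward.isDefEq.respectTransparency false
set_option backward.isDefEq.respectTransparency.types false

universe u

open CategoryTheory CategoryTheory.Limits AlgebraicGeometry Opposite

namespace H10PT.EtStack

open Groth.Agent.Lib.Helper10.Fib Groth.Agent.Lib.Helper10.AlgStRep
open Groth.Agent.Lib.Helper10.StkPsh Groth.Agent.Lib.Helper10.HomSheaf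
open Groth.Agent.Lib.Helper10.StkPost Groth.Agent.Lib.Helper10.StkElem
open Groth.Agent.Lib.Helper28.AlgSt.Bridge Groth.Agent.Lib.Helper28.AlgSt.SpaceCalc
open Groth.Agent.Lib.Helper28.AlgSt.PropInst Groth.Agent.Lib.Helper28.AlgSt.Comp
open Groth.Agent.Lib.Helper28.AlgSt.Whisker Groth.Agent.Lib.Helper28.AlgSt.Key
open Groth.Agent.Lib.Helper28.AlgSt.Descent Groth.Agent.Lib.Helper28.AlgSt.DiagComp
open Groth.Agent.Lib.Helper28.AlgSt.ChartOver Groth.Agent.Lib.Helper28.AlgSt.IsoEquiv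
open Groth.Agent.Lib.Helper28.AlgSt.ClsPsh Groth.Agent.Lib.Helper28.AlgSt.PshFun
open Groth.Agent.Lib.Helper28.AlgSt.Chart Groth.Agent.Lib.Helper28.AlgSt.DiagRep
open Groth.Agent.Lib.Helper28.AlgSt.Basic Groth.Agent.Lib.Helper28.AlgSt.FpStack
open Groth.Agent.Lib.Helper28.AlgSt.StackDesc
open Groth.Agent.Lib.Helper16 Groth.Agent.Lib.Helper16.AlgStDC Groth.Agent.Lib.Helper15
open H10PT.MonoQC H10PT.Boot H10PT.EtSh H10PT.EtQuot

variable {S : Scheme.{u}}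

theorem isStack_ofSp_et (F : AlgSp.Sp S) : Stk.IsStack (Jet S) (AlgSt.ofSp F) :=
  (isStack_ofPsh_iff (Jet S) F.obj).2 ((isSheaf_iff_isSheaf_of_type _ _).1 (isSheaf_jet F.property))

theorem isStack_overCat_et (U : Over S) : Stk.IsStack (Jet S) (FibCat.overCat U) :=
  (isStack_iff_of_isEquivOver _ (AlgSt.toOverCat U) (isEquivOver_toOverCat U)).1 (isStack_ofSp_et _)

/-- A stack in setoids for the etale topology with a surjective etale cover by an algebraic space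
is an algebraic space. -/
theorem repByAlgSp_of_etale_cover_et {ℐ 𝒜 : AlgSt.Cat S} (hℐ : Stk.IsStack (Jet S) ℐ)
    (hfs : FibCat.IsFibSetoid ℐ.p) (h𝒜 : AlgSt.RepByAlgSp 𝒜) (a : 𝒜 ⥤ᵇ ℐ)
    (ha : AlgSt.RepByAlgSpWith (QEt S) a) : AlgSt.RepByAlgSp ℐ := by
  have hE := toCls_isEquivOver hfs
  have hst : Stk.IsStack (Jet S) (Stk.ofPsh (clsPsh hfs.1)) :=
    (isStack_iff_of_isEquivOver (Jet S) (toCls hfs.1) hE).1 hℐ
  have hsh : Presheaf.IsSheaf (Jet S) (clsPsh hfs.1) :=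
    (isSheaf_iff_isSheaf_of_type _ _).2
      ((Groth.Agent.S12796.result (Jet S) (clsPsh hfs.1)).1 hst)
  obtain ⟨X, eX, heX⟩ := h𝒜
  obtain ⟨eX', ⟨η⟩, ⟨ε⟩⟩ := heX
  have heX' : FibCat.IsEquivOver eX' := ⟨eX, ⟨ε⟩, ⟨η⟩⟩
  obtain ⟨G, hG⟩ : ∃ G : AlgSt.ofSp X.obj ⥤ᵇ Stk.ofPsh (clsPsh hfs.1),
      G = BasedFunctor.comp (BasedFunctor.comp eX a) (toCls hfs.1) := ⟨_, rfl⟩
  have i1 : BasedFunctor.comp a (toCls hfs.1) ≅
      BasedFunctor.comp (BasedFunctor.comp eX' eX) (BasedFunctor.comp a (toCls hfs.1)) :=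
    (wr ε (BasedFunctor.comp a (toCls hfs.1))).symm
  have i2 : BasedFunctor.comp eX' G ≅ BasedFunctor.comp eX' (Stk.ofPshMap (pshMapOf G)) :=
    wl eX' (isoPshMapOf G)
  have iso : BasedFunctor.comp a (toCls hfs.1) ≅
      BasedFunctor.comp eX' (Stk.ofPshMap (pshMapOf G)) := by
    rw [hG] at i2 ⊢
    exact i1 ≪≫ i2
  have h2 : AlgSt.RepByAlgSpWith (QEt S) (Stk.ofPshMap (pshMapOf G)) :=
    repByAlgSpWith_of_square _ _ a eX' (toCls hfs.1) heX' hE iso ha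
  have hrep : AlgSp.RepBySp (pshMapOf G) :=
    repBySp_of_repByAlgSp1 _ (repByAlgSp1_of_with _ _ h2)
  have h3 : AlgSp.RepBySpWith (QEt S) (pshMapOf G) :=
    repBySpWith_of_repByAlgSpWith_bc _ good_QEt.bc _ hrep h2
  have h4 : AlgSp.RepBySpWith (AlgSp.IsSurjectiveMor ⊓ AlgSp.IsEtaleMor) (pshMapOf G) := by
    intro U ξ F' fst snd sq
    obtain ⟨hs, halg, hq1, hq2⟩ := h3 ξ fst snd sq
    exact ⟨hs, halg, hq1, (isEtaleMor_iff_locP_etale (AlgSp.IsAlgSpace.yon_obj U) _).2 hq2⟩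
  obtain ⟨hfppf, hF⟩ := Groth.Agent.S10109.result S (clsPsh hfs.1) hsh X (pshMapOf G) h4
  obtain ⟨e₀, he₀⟩ := Groth.Agent.Lib.Helper10.StkPost.isEquivOver_symm hE
  exact ⟨⟨⟨clsPsh hfs.1, hfppf⟩, hF⟩, e₀, he₀⟩

/-- If `u : 𝒰 ⟶ 𝒳` is a smooth surjective cover, representable by algebraic spaces, of a stack
`𝒳` for the etale topology by an algebraic space, then `(Sch/V) ×_𝒳 (Sch/U)` is an algebraic
space for all charts. -/
theorem repByAlgSp_fp_charts_et {𝒰 𝒳 : AlgSt.Cat S} (h𝒳 : Stk.IsStack (Jet S) 𝒳)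
    (hU : AlgSt.RepByAlgSp 𝒰) (u : 𝒰 ⥤ᵇ 𝒳)
    (hsm : AlgSt.RepByAlgSpWith (AlgSp.LocP @Smooth) u)
    (hsurj : AlgSt.RepByAlgSpWith AlgSp.IsSurjectiveMor u)
    {U V : Over S} (x : FibCat.overCat U ⥤ᵇ 𝒳) (y : FibCat.overCat V ⥤ᵇ 𝒳) :
    AlgSt.RepByAlgSp (FibCat.fp y x) := by
  have f𝒳 := h𝒳.1
  have f𝒰 := isFibGrpd_of_repByAlgSp hU
  have hu1 : AlgSt.RepByAlgSp1 u := repByAlgSp1_of_with _ _ hsm
  obtain ⟨V', a, s, ha1, ha2, ⟨ιy⟩⟩ := exists_etale_lift_through u hsm hsurj y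
  obtain ⟨U', b, t, hb1, hb2, ⟨ιx⟩⟩ := exists_etale_lift_through u hsm hsurj x
  have hOV' := isFibGrpd_overForget V'
  have hOU' := isFibGrpd_overForget U'
  have hOV := isFibGrpd_overForget V
  have hOU := isFibGrpd_overForget U
  have ht : AlgSt.RepByAlgSp1 t := repByAlgSp1_of_repByAlgSp (repByAlgSp_overCat U') hU t
  have htu : AlgSt.RepByAlgSp1 (BasedFunctor.comp t u) := repByAlgSp1_comp hOU' f𝒰 t u ht hu1
  have hfst : AlgSt.RepByAlgSp1
      (FibCat.fpFst (BasedFunctor.comp s u) (BasedFunctor.comp t u)) :=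
    repByAlgSp1_of_with ⊤ _ (repByAlgSpWith_fpFst ⊤ (BasedFunctor.comp t u)
      (BasedFunctor.comp s u) (repByAlgSpWith_top _ htu))
  have h𝒜 : AlgSt.RepByAlgSp (FibCat.fp (BasedFunctor.comp s u) (BasedFunctor.comp t u)) :=
    repByAlgSp_of_repByAlgSp1 (isFibGrpd_fp _ _ hOV' hOU' f𝒳) (repByAlgSp_overCat V') _ hfst
  obtain ⟨Φ₁, hΦ₁def⟩ : ∃ Φ₁ : FibCat.fp (BasedFunctor.comp s u) (BasedFunctor.comp t u) ⥤ᵇ
      FibCat.fp (BasedFunctor.comp (AlgSt.overMap a) y) (BasedFunctor.comp (AlgSt.overMap b) x),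
      Φ₁ = fpMap (γ := BasedFunctor.id 𝒳) (α := BasedFunctor.id (FibCat.overCat V'))
        (β := BasedFunctor.id (FibCat.overCat U')) (G' := BasedFunctor.comp s u)
        (G := BasedFunctor.comp (AlgSt.overMap a) y) (f' := BasedFunctor.comp t u)
        (f := BasedFunctor.comp (AlgSt.overMap b) x) ιy ιx := ⟨_, rfl⟩
  have hΦ₁ : FibCat.IsEquivOver Φ₁ := by
    have := id_full 𝒳
    have := id_faithful 𝒳
    rw [hΦ₁def]
    exact isEquivOver_fpMap _ _ (isEquivOver_id _) (isEquivOver_id _)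
  have hQ := good_QEt (S := S)
  have hqa : AlgSt.RepByAlgSpWith (QEt S) (AlgSt.overMap a) :=
    H10PT.repByAlgSpWith_overMap _ hQ.bc a (qEt_yon_map a ha1 ha2)
  have hqb : AlgSt.RepByAlgSpWith (QEt S) (AlgSt.overMap b) :=
    H10PT.repByAlgSpWith_overMap _ hQ.bc b (qEt_yon_map b hb1 hb2)
  obtain ⟨Φ₂, hΦ₂⟩ := exists_cover_fp_good hQ hOV' hOU' hOV hOU f𝒳 y x (AlgSt.overMap a)
    (AlgSt.overMap b) hqa hqb
  have hcov : AlgSt.RepByAlgSpWith (QEt S) (BasedFunctor.comp Φ₁ Φ₂) :=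
    repByAlgSpWith_equiv_comp _ Φ₁ hΦ₁ Φ₂ hΦ₂
  haveI : x.toFunctor.Faithful :=
    faithful_of_isFibSetoid (isFibSetoid_of_repByAlgSp (repByAlgSp_overCat U)) x
  have hfs : FibCat.IsFibSetoid (FibCat.fp y x).p :=
    isFibSetoid_fp_left (isFibSetoid_of_repByAlgSp (repByAlgSp_overCat V)) hOU f𝒳 y x
  have hst : Stk.IsStack (Jet S) (FibCat.fp y x) :=
    Groth.Agent.Lib.Helper10.StkFp.isStack_fp y x _ (isStack_overCat_et V) (isStack_overCat_et U)
      (isPrestack_of_isStack h𝒳)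
  exact repByAlgSp_of_etale_cover_et hst hfs h𝒜 _ hcov

/-- A stack for the etale topology with a smooth surjective cover, representable by algebraic
spaces, by an algebraic space has diagonal representable by algebraic spaces. -/
theorem repByAlgSp1_diag_of_smooth_cover_et {𝒰 𝒳 : AlgSt.Cat S} (h𝒳 : Stk.IsStack (Jet S) 𝒳)
    (hU : AlgSt.RepByAlgSp 𝒰) (u : 𝒰 ⥤ᵇ 𝒳)
    (hsm : AlgSt.RepByAlgSpWith (AlgSp.LocP @Smooth) u)
    (hsurj : AlgSt.RepByAlgSpWith AlgSp.IsSurjectiveMor u) :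
    AlgSt.RepByAlgSp1 (FibCat.diag (FibCat.toSelf 𝒳)) :=
  repByAlgSp1_diag_of_forall h𝒳.1
    (fun _ x _ y => repByAlgSp_fp_charts_et h𝒳 hU u hsm hsurj x y)

end H10PT.EtStack
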