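import Groth.Agent.S10104
import Groth.Agent.S9881
import Groth.Agent.Lib.Helper16.SpCoprod2
import Groth.Agent.Lib.Helper16.FpqcCover
import Groth.Agent.Lib.Helper16.LocPGen
import Groth.Agent.Lib.Helper16.FibreProduct
import Groth.Agent.Lib.Helper15.ToposQuot
import Groth.Agent.Lib.Helper17.AlgSpEpi

/-!
# Helper library (helper10): being an algebraic space is fppf local on the base

A sheaf `F` over an algebraic space `X` all of whose base changes to the members of an fppf covering of `X`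
are algebraic spaces is an algebraic space (via the fppf chart criterion S10104).
-/

set_option autoImplicit false
universe u
open CategoryTheory CategoryTheory.Limits AlgebraicGeometry Opposite

namespace H10PT.FD

open AlgSp Groth.Agent.Lib.Helper15 Groth.Agent.Lib.Helper16

variable {S : Scheme.{u}}

/-- Epimorphisms of fppf sheaves are stable under base change. -/
theorem epi_of_isPullback {A B A' B' : Sp S} {fst : A' ⟶ A} {snd : A' ⟶ B'} {f : A ⟶ B} {g : B' ⟶ B}
    (sq : IsPullback fst snd f g) (hf : Epi f) : Epi snd := by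
  rw [epi_iff_locally_lift] at hf ⊢
  intro T y
  obtain ⟨R, hR, hlift⟩ := hf T (y ≫ g)
  refine ⟨R, hR, fun T' k hk => ?_⟩
  obtain ⟨x, hx⟩ := hlift k hk
  exact ⟨sq.lift x ((yon S).map k ≫ y) (by rw [hx, Category.assoc]), sq.lift_snd _ _ _⟩

/-- `LocP P` of a map out of a coproduct of sheaves can be tested on the summands. -/
theorem locP_of_cofan {P : MorphismProperty Scheme.{u}} (hP : EtLocalST P) {ι : Type u} {Q : ι → Sp S}
    (c : Cofan Q) (hc : IsColimit c) {Y : Sp S} (f : c.pt ⟶ Y) (h : ∀ i, LocP P (c.inj i ≫ f)) :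
    LocP P f := by
  intro A B a b k ha hb comm
  obtain ⟨V, gV, aV, h1, h2, h3, h4⟩ := SpCoprod.exists_decomposition c hc a
  apply hP.ofCover
  intro x
  obtain ⟨i, hi⟩ := h3 x
  haveI := (h2 i).1
  have hai : RepWith @Etale (aV i) := (RepWith @Etale).of_isPullback (h1 i).flip ha
  have hk := h i (aV i) b (gV i ≫ k) hai hb (by
    rw [← Category.assoc, (h1 i).w, Category.assoc, comm, Functor.map_comp, Category.assoc])
  rw [Over.comp_left] at hk
  exact ⟨(V i).left, (gV i).left, inferInstance, hi, hk⟩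

/-- Being an algebraic space is fppf local on the base. -/
theorem isAlgSpace_of_fppf_cover {X : Sp S} (hX : IsAlgSpace X) {ι : Type u} (Xi : ι → Sp S)
    (hXi : ∀ i, IsAlgSpace (Xi i)) (g : ∀ i, Xi i ⟶ X) (hcov : IsFppfCover Xi g) (F : Sp S) (p : F ⟶ X)
    (h : ∀ i, IsAlgSpace (pullback p (g i))) : IsAlgSpace F := by
  classical
  obtain ⟨c, ⟨hc⟩⟩ : ∃ c : Cofan (fun i => pullback p (g i)), Nonempty (IsColimit c) :=
    ⟨Cofan.mk (∐ fun i => pullback p (g i)) (Sigma.ι _), ⟨coproductIsCoproduct _⟩⟩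
  have hW : IsAlgSpace c.pt := Groth.Agent.S9881.result S _ h c hc
  obtain ⟨q, hq⟩ : ∃ q : c.pt ⟶ F, ∀ i, c.inj i ≫ q = pullback.fst p (g i) :=
    ⟨Cofan.IsColimit.desc hc (fun i => pullback.fst p (g i)), fun i => Cofan.IsColimit.fac hc _ i⟩
  have hepi : Epi q := by
    rw [epi_iff_locally_lift]
    intro T y
    obtain ⟨U, k, l, hl, hfl, hfp, hsurj⟩ := exists_fppf_charts hX Xi hXi g hcov T (y ≫ p)
    obtain ⟨hU⟩ := SpCoprod.isColimit_sig U
    haveI : Flat (SpCoprod.sigDesc U k).left := SpCoprod.sigDesc_prop U k hfl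
    haveI : LocallyOfFinitePresentation (SpCoprod.sigDesc U k).left := SpCoprod.sigDesc_prop U k hfp
    haveI : Surjective (SpCoprod.sigDesc U k).left := SpCoprod.sigDesc_surjective U k hsurj
    have hz : ∀ i, ∃ z : (yon S).obj (U i) ⟶ c.pt, z ≫ q = (yon S).map (k i) ≫ y := by
      intro i
      refine ⟨pullback.lift ((yon S).map (k i) ≫ y) (l i) (by rw [Category.assoc, hl i]) ≫ c.inj i, ?_⟩
      rw [Category.assoc, hq, pullback.lift_fst]
    choose z hz using hz
    have hfac : ∀ i, (yon S).map (SpCoprod.sigι U i) ≫ Cofan.IsColimit.desc hU z = z i :=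
      fun i => Cofan.IsColimit.fac hU _ i
    obtain ⟨x₀, hx₀⟩ : ∃ x₀ : (yon S).obj (SpCoprod.sig U) ⟶ c.pt,
        x₀ ≫ q = (yon S).map (SpCoprod.sigDesc U k) ≫ y := by
      refine ⟨Cofan.IsColimit.desc hU z, ?_⟩
      refine Cofan.IsColimit.hom_ext hU _ _ (fun i => ?_)
      show (yon S).map (SpCoprod.sigι U i) ≫ _ = (yon S).map (SpCoprod.sigι U i) ≫ _
      rw [← Category.assoc, hfac, hz, ← Category.assoc, ← Functor.map_comp, SpCoprod.sigι_desc]
    refine ⟨Sieve.generate (Presieve.singleton (SpCoprod.sigDesc U k)),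
      sieve_mem_J_of_fppf (SpCoprod.sigDesc U k) _
        ⟨_, 𝟙 _, _, Presieve.singleton_self _, Category.id_comp _⟩, ?_⟩
    rintro T' m ⟨Y, m', _, ⟨⟩, rfl⟩
    exact ⟨(yon S).map m' ≫ x₀, by rw [Category.assoc, hx₀, Functor.map_comp, Category.assoc]⟩
  have hrep : RepBySpWith (IsSurjectiveMor ⊓ LocP @Flat ⊓ LocP @LocallyOfFinitePresentation) q.hom := by
    rw [repBySpWith_hom_iff]
    intro T ξ Q f1 f2 sq
    have hVK := SpCoprod.isVanKampen_cofan c hc
    let c' : Cofan (fun i => pullback (c.inj i) f1) :=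
      Cofan.mk Q (fun i => pullback.snd (c.inj i) f1)
    let α : Discrete.functor (fun i => pullback (c.inj i) f1) ⟶
        Discrete.functor (fun i => pullback p (g i)) :=
      Discrete.natTrans fun i => pullback.fst (c.inj i.as) f1
    have hc' : Nonempty (IsColimit c') :=
      (hVK c' α f1 (by
        ext1
        ext1 ⟨i⟩
        simpa [α, c', Cofan.inj] using pullback.condition) (NatTrans.Equifibered.of_discrete α)).2
        (fun ⟨i⟩ => (IsPullback.of_hasPullback (c.inj i) f1).flip)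
    obtain ⟨hc'⟩ := hc'
    have sqi : ∀ i, IsPullback (pullback.fst (c.inj i) f1 ≫ pullback.snd p (g i))
        (pullback.snd (c.inj i) f1 ≫ f2) (g i) (ξ ≫ p) := by
      intro i
      have s1 := (IsPullback.of_hasPullback (c.inj i) f1).paste_vert sq
      rw [hq i] at s1
      exact s1.paste_horiz (IsPullback.of_hasPullback p (g i)).flip
    have hQi : ∀ i, IsAlgSpace (pullback (c.inj i) f1) := fun i =>
      isAlgSpace_of_isPullback (hXi i) hX.diag (IsAlgSpace.yon_obj T) (sqi i)
    have hQ : IsAlgSpace Q := Groth.Agent.S9881.result S _ hQi c' hc'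
    have hloc : ∀ {P : MorphismProperty Scheme.{u}} (hP : EtLocalST P), (∀ i, LocP P (g i)) →
        LocP P f2 := fun hP hg =>
      locP_of_cofan hP c' hc' f2 (fun i => locP_of_isPullback hP (hXi i) hX (sqi i) (hg i))
    haveI : Epi f2 := epi_of_isPullback sq hepi
    exact ⟨hQ, ⟨Groth.Agent.Lib.Helper17.isSurjectiveMor_of_epi f2,
      hloc etLocalST_flat (fun i => (hcov.1 i).1)⟩,
      hloc etLocalST_locallyOfFinitePresentation (fun i => (hcov.1 i).2)⟩
  exact Groth.Agent.S10104.result S F ⟨c.pt, hW⟩ q hrep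

end H10PT.FD
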