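import Mathlib
import Groth.Agent.S6380

/-!
# Finitely presented approximation of tensor relations

`fpa`: if `x ∈ M ⊗ Q` is killed by `f ⊗ Q`, then `x` comes from some `x₀ ∈ M ⊗ Q₀` with `Q₀`
finitely presented, `Q₀ → Q`, such that already `f ⊗ Q₀` kills `x₀`.
-/

open scoped TensorProduct

namespace Groth.Agent.Lib.Helper10

universe u

variable (R : Type u) [CommRing R]

/-- Naturality of `TensorProduct.comm`. -/
lemma comm_lTensor {N A B : Type u} [AddCommGroup N] [Module R N] [AddCommGroup A] [Module R A]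
    [AddCommGroup B] [Module R B] (g : A →ₗ[R] B) (w : N ⊗[R] A) :
    g.rTensor N (TensorProduct.comm R N A w) = TensorProduct.comm R N B (g.lTensor N w) := by
  induction w using TensorProduct.induction_on with
  | zero => simp
  | tmul a b => simp
  | add a b ha hb => simp only [map_add, ha, hb]

/-- Interchange of `rTensor` and `lTensor`. -/
lemma rTensor_lTensor_apply {M N A B : Type u} [AddCommGroup M] [Module R M] [AddCommGroup N]
    [Module R N] [AddCommGroup A] [Module R A] [AddCommGroup B] [Module R B]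
    (f : M →ₗ[R] N) (g : A →ₗ[R] B) (w : M ⊗[R] A) :
    f.rTensor B (g.lTensor M w) = g.lTensor N (f.rTensor A w) := by
  induction w using TensorProduct.induction_on with
  | zero => simp
  | tmul a b => simp
  | add a b ha hb => simp only [map_add, ha, hb]

/-- Finitely presented approximation of the right tensor factor. -/
theorem fpa {M N Q : Type u} [AddCommGroup M] [Module R M] [AddCommGroup N] [Module R N]
    [AddCommGroup Q] [Module R Q] (f : M →ₗ[R] N) (x : M ⊗[R] Q) (hx : f.rTensor Q x = 0) :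
    ∃ (Q₀ : Type u) (_ : AddCommGroup Q₀) (_ : Module R Q₀) (_ : Module.FinitePresentation R Q₀)
      (h : Q₀ →ₗ[R] Q) (x₀ : M ⊗[R] Q₀), h.lTensor M x₀ = x ∧ f.rTensor Q₀ x₀ = 0 := by
  obtain ⟨Q₁, hfin, hsub⟩ :=
    TensorProduct.exists_finite_submodule_right_of_setFinite {x} (Set.finite_singleton x)
  obtain ⟨x₁, hx₁⟩ := hsub (Set.mem_singleton x)
  obtain ⟨n, π, hπ⟩ := Module.Finite.exists_fin' R Q₁
  obtain ⟨xF, hxF⟩ := LinearMap.lTensor_surjective M hπ x₁
  let φ : (Fin n → R) →ₗ[R] Q := Q₁.subtype ∘ₗ π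
  have hφ : φ.lTensor M xF = x := by
    rw [LinearMap.lTensor_comp_apply, hxF, hx₁]
  have hy : φ.lTensor N (f.rTensor (Fin n → R) xF) = 0 := by
    rw [← rTensor_lTensor_apply, hφ, hx]
  have hy' : φ.rTensor N (TensorProduct.comm R N (Fin n → R) (f.rTensor (Fin n → R) xF)) = 0 := by
    rw [comm_lTensor, hy, map_zero]
  obtain ⟨Q₀, i1, i2, i3, φ', h, hφ', hzero⟩ := Groth.Agent.S6380.result R φ _ hy'
  refine ⟨Q₀, i1, i2, i3, h, φ'.lTensor M xF, ?_, ?_⟩
  · rw [← LinearMap.lTensor_comp_apply, ← hφ', hφ]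
  · rw [rTensor_lTensor_apply]
    rw [comm_lTensor] at hzero
    exact (TensorProduct.comm R N Q₀).injective (by rw [hzero, map_zero])

end Groth.Agent.Lib.Helper10
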