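import Mathlib

/-!
# Right exact functors on finitely presented modules are determined by their value at `A`
-/

set_option autoImplicit false

namespace H10EW

open CategoryTheory CategoryTheory.Limits

universe u v' u'

variable (A : Type u) [CommRing A]

/-- finitely presented modules -/
abbrev FP : Type (u + 1) :=
  ObjectProperty.FullSubcategory (fun M : ModuleCat.{u} A => Module.FinitePresentation A M)

variable {A}

/-- morphisms of `FP A` from linear maps -/
abbrev mk {X Y : FP A} (f : X.obj →ₗ[A] Y.obj) : X ⟶ Y :=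
  ObjectProperty.homMk (ModuleCat.ofHom f)

lemma ext' {X Y : FP A} {f g : X ⟶ Y} (h : ∀ x, f.hom.hom x = g.hom.hom x) : f = g :=
  ObjectProperty.hom_ext _ (ModuleCat.hom_ext (LinearMap.ext h))

@[simp] lemma mk_apply {X Y : FP A} (f : X.obj →ₗ[A] Y.obj) (x : X.obj) :
    (mk f).hom.hom x = f x := rfl

@[simp] lemma comp_apply' {X Y Z : FP A} (f : X ⟶ Y) (g : Y ⟶ Z) (x : X.obj) :
    (f ≫ g).hom.hom x = g.hom.hom (f.hom.hom x) := rfl

variable (A)

/-- `A` -/
abbrev one : FP A := ⟨ModuleCat.of A A, inferInstance⟩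

/-- `A^n` -/
abbrev fr (n : ℕ) : FP A := ⟨ModuleCat.of A (Fin n → A), inferInstance⟩

/-- `0` -/
abbrev zr : FP A := ⟨ModuleCat.of A PUnit.{u + 1}, inferInstance⟩

/-- inclusions -/
noncomputable abbrev ιk (n : ℕ) (k : Fin n) : one A ⟶ fr A n :=
  mk (LinearMap.single A (fun _ => A) k)

/-- projections -/
abbrev pk (n : ℕ) (k : Fin n) : fr A n ⟶ one A :=
  mk (LinearMap.proj k)

lemma ιk_pk_self (n : ℕ) (k : Fin n) : ιk A n k ≫ pk A n k = 𝟙 _ := by
  apply ext'
  intro x
  simp

lemma ιk_pk_ne (n : ℕ) {k j : Fin n} (h : k ≠ j) :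
    ιk A n k ≫ pk A n j = mk (0 : (one A).obj →ₗ[A] (one A).obj) := by
  apply ext'
  intro x
  simp [Pi.single_eq_of_ne' h]

/-- the coproduct cofan on `A^n` -/
noncomputable abbrev cofan (n : ℕ) : Cofan (fun _ : Fin n => one A) := Cofan.mk (fr A n) (ιk A n)

noncomputable def cofanIsColimit (n : ℕ) : IsColimit (cofan A n) :=
  Cofan.IsColimit.mk _
    (fun s => mk (∑ k : Fin n, (s.inj k).hom.hom ∘ₗ LinearMap.proj k))
    (fun s j => by
      apply ext'
      intro x
      show (∑ k : Fin n, (s.inj k).hom.hom ∘ₗ LinearMap.proj k) (Pi.single j x) = _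
      rw [LinearMap.sum_apply, Finset.sum_eq_single j]
      · simp
      · intro b _ hb
        simp [Pi.single_eq_of_ne hb]
      · intro h
        exact absurd (Finset.mem_univ j) h)
    (fun s m hm => by
      apply ext'
      intro x
      show m.hom.hom x = (∑ k : Fin n, (s.inj k).hom.hom ∘ₗ LinearMap.proj k) x
      rw [LinearMap.sum_apply]
      have hx : x = ∑ k : Fin n, Pi.single k (x k) := (Finset.univ_sum_single x).symm
      conv_lhs => rw [hx]
      rw [map_sum]
      refine Finset.sum_congr rfl fun k _ => ?_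
      have := congrArg (fun f => f.hom.hom (x k)) (hm k)
      simpa using this)

/-- `0` is initial in `FP A`. -/
def zrIsInitial : IsInitial (zr A) :=
  IsInitial.ofUniqueHom (fun Y => mk 0) (fun Y m => by
    apply ext'
    intro x
    have : x = 0 := Subsingleton.elim _ _
    subst this
    simp)

end H10EW
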