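import Groth.Agent.Lib.Helper10.FPFunctors

/-!
# Right exact functors on finitely presented modules: main results
-/

set_option autoImplicit false

namespace H10EW

open CategoryTheory CategoryTheory.Limits

universe u v' u'

variable {A : Type u} [CommRing A] {B : Type u'} [Category.{v'} B] [Preadditive B]
  [HasFiniteBiproducts B]

section One

variable (F : FP A ⥤ B) [PreservesFiniteColimits F]

lemma isZero_F_zr : IsZero (F.obj (zr A)) := by
  have hI : IsInitial (F.obj (zr A)) := IsInitial.isInitialObj F (zr A) (zrIsInitial A)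
  exact (isZero_zero B).of_iso (hI.uniqueUpToIso HasZeroObject.zeroIsInitial)

lemma F_map_zero (X Y : FP A) : F.map (mk (0 : X.obj →ₗ[A] Y.obj)) = 0 := by
  have h : (mk (0 : X.obj →ₗ[A] Y.obj)) =
      (mk (0 : X.obj →ₗ[A] (zr A).obj)) ≫ (mk (0 : (zr A).obj →ₗ[A] Y.obj)) := by
    apply ext'
    intro x
    simp
  rw [h, F.map_comp, (isZero_F_zr F).eq_of_tgt (F.map _) 0, zero_comp]

/-- `F(A^n)` is the coproduct of `n` copies of `F(A)`. -/
noncomputable def hF (n : ℕ) :
    IsColimit (Cofan.mk (F.obj (fr A n)) (fun k => F.map (ιk A n k))) :=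
  isColimitCofanMkObjOfIsColimit F _ (ιk A n) (cofanIsColimit A n)

lemma total (n : ℕ) :
    ∑ k : Fin n, F.map (pk A n k) ≫ F.map (ιk A n k) = 𝟙 (F.obj (fr A n)) := by
  apply Cofan.IsColimit.hom_ext (hF F n)
  intro j
  show F.map (ιk A n j) ≫ _ = F.map (ιk A n j) ≫ _
  rw [Preadditive.comp_sum, Category.comp_id, Finset.sum_eq_single j]
  · rw [← Category.assoc, ← F.map_comp, ιk_pk_self, F.map_id, Category.id_comp]
  · intro k _ hk
    rw [← Category.assoc, ← F.map_comp, ιk_pk_ne A n (Ne.symm hk), F_map_zero, zero_comp]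
  · intro h
    exact absurd (Finset.mem_univ j) h

end One

lemma endo_eq (y : one A ⟶ one A) :
    y = mk (LinearMap.lsmul A A (y.hom.hom (1 : A))) := by
  apply ext'
  intro a
  show y.hom.hom a = (y.hom.hom (1 : A)) • a
  have h : a = a • (1 : A) := by simp
  conv_lhs => rw [h]
  rw [map_smul]
  simp [mul_comm]

/-- a presentation of a finitely presented module -/
structure Pres (M : FP A) where
  n : ℕ
  m : ℕ
  π : (Fin n → A) →ₗ[A] M.obj
  R : (Fin m → A) →ₗ[A] (Fin n → A)
  surj : Function.Surjective π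
  exact : LinearMap.ker π = LinearMap.range R

lemma exists_pres (M : FP A) : Nonempty (Pres M) := by
  haveI : Module.FinitePresentation A M.obj := M.property
  obtain ⟨n, K, e, hK⟩ := Module.FinitePresentation.exists_fin A M.obj
  obtain ⟨m, s, hs⟩ := Submodule.fg_iff_exists_fin_generating_family.1 hK
  refine ⟨⟨n, m, e.symm.toLinearMap ∘ₗ K.mkQ, Fintype.linearCombination A s, ?_, ?_⟩⟩
  · exact e.symm.surjective.comp K.mkQ_surjective
  · rw [LinearEquiv.ker_comp, Submodule.ker_mkQ, Fintype.range_linearCombination, hs]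

namespace Pres

variable {M : FP A} (P : Pres M)

abbrev πh : fr A P.n ⟶ M := H10EW.mk P.π

abbrev Rh : fr A P.m ⟶ fr A P.n := H10EW.mk P.R

abbrev Zh : fr A P.m ⟶ fr A P.n := H10EW.mk 0

lemma π_R (x : Fin P.m → A) : P.π (P.R x) = 0 := by
  have : P.R x ∈ LinearMap.ker P.π := by
    rw [P.exact]
    exact LinearMap.mem_range_self _ _
  exact this

lemma w : P.Rh ≫ P.πh = P.Zh ≫ P.πh := by
  apply ext'
  intro x
  show P.π (P.R x) = P.π ((0 : (Fin P.m → A) →ₗ[A] (Fin P.n → A)) x)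
  rw [P.π_R]
  simp

noncomputable def isColimit : IsColimit (Cofork.ofπ P.πh P.w) :=
  Cofork.IsColimit.mk' _ (fun s => by
    have hle : LinearMap.ker P.π ≤ LinearMap.ker s.π.hom.hom := by
      intro x hx
      rw [P.exact] at hx
      obtain ⟨y, rfl⟩ := hx
      have h1 : (P.Rh ≫ s.π).hom.hom y = (P.Zh ≫ s.π).hom.hom y := by rw [s.condition]
      have h2 : s.π.hom.hom (P.R y) =
          s.π.hom.hom ((0 : (Fin P.m → A) →ₗ[A] (Fin P.n → A)) y) := h1
      rw [LinearMap.mem_ker, h2]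
      simp
    refine ⟨H10EW.mk (((LinearMap.ker P.π).liftQ s.π.hom.hom hle) ∘ₗ
      (P.π.quotKerEquivOfSurjective P.surj).symm.toLinearMap), ?_, ?_⟩
    · apply ext'
      intro x
      show ((LinearMap.ker P.π).liftQ s.π.hom.hom hle)
        ((P.π.quotKerEquivOfSurjective P.surj).symm (P.π x)) = _
      rw [LinearMap.quotKerEquivOfSurjective_symm_apply]
      rfl
    · intro m hm
      apply ext'
      intro y
      obtain ⟨x, rfl⟩ := P.surj y
      show m.hom.hom (P.π x) = ((LinearMap.ker P.π).liftQ s.π.hom.hom hle)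
        ((P.π.quotKerEquivOfSurjective P.surj).symm (P.π x))
      rw [LinearMap.quotKerEquivOfSurjective_symm_apply]
      have := congrArg (fun f => f.hom.hom x) hm
      simpa using this)

lemma exists_lift (x : one A ⟶ M) : ∃ y : one A ⟶ fr A P.n, y ≫ P.πh = x := by
  obtain ⟨v, hv⟩ := P.surj (x.hom.hom (1 : A))
  refine ⟨H10EW.mk (LinearMap.toSpanSingleton A (Fin P.n → A) v), ?_⟩
  apply ext'
  intro a
  show P.π (a • v) = x.hom.hom a
  rw [map_smul, hv, ← map_smul]
  simp

end Pres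

section Two

variable (F : FP A ⥤ B) [PreservesFiniteColimits F]

/-- `F(M)` is the cokernel of `F(R)`. -/
noncomputable def hFπ {M : FP A} (P : Pres M) :
    IsColimit (Cofork.ofπ (F.map P.πh) (by simp only [← F.map_comp, P.w]) :
      Cofork (F.map P.Rh) (F.map P.Zh)) :=
  isColimitCoforkMapOfIsColimit F P.w P.isColimit

/-- the morphisms `F(x)`, `x : A ⟶ M`, are jointly epimorphic. -/
lemma jointly_epi {M : FP A} {Z : B} (τ τ' : F.obj M ⟶ Z)
    (h : ∀ x : one A ⟶ M, F.map x ≫ τ = F.map x ≫ τ') : τ = τ' := by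
  obtain ⟨P⟩ := exists_pres M
  apply Cofork.IsColimit.hom_ext (hFπ F P)
  show F.map P.πh ≫ τ = F.map P.πh ≫ τ'
  apply Cofan.IsColimit.hom_ext (hF F P.n)
  intro k
  show F.map (ιk A P.n k) ≫ F.map P.πh ≫ τ = F.map (ιk A P.n k) ≫ F.map P.πh ≫ τ'
  rw [← Category.assoc, ← Category.assoc, ← F.map_comp]
  exact h _

variable (F' : FP A ⥤ B) [PreservesFiniteColimits F'] (φ : F.obj (one A) ⟶ F'.obj (one A))
  (hφ : ∀ a : A, F.map (mk (LinearMap.lsmul A A a) : one A ⟶ one A) ≫ φ =
    φ ≫ F'.map (mk (LinearMap.lsmul A A a) : one A ⟶ one A))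

include hφ in
lemma hφ' (y : one A ⟶ one A) : F.map y ≫ φ = φ ≫ F'.map y := by
  rw [endo_eq y]
  exact hφ _

noncomputable def tn (n : ℕ) : F.obj (fr A n) ⟶ F'.obj (fr A n) :=
  Cofan.IsColimit.desc (hF F n) (fun k => φ ≫ F'.map (ιk A n k))

lemma ι_tn (n : ℕ) (k : Fin n) :
    F.map (ιk A n k) ≫ tn F F' φ n = φ ≫ F'.map (ιk A n k) :=
  Cofan.IsColimit.fac (hF F n) _ k

include hφ in
lemma KF (n : ℕ) (x : one A ⟶ fr A n) : F.map x ≫ tn F F' φ n = φ ≫ F'.map x := by
  calc F.map x ≫ tn F F' φ n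
      = (F.map x ≫ ∑ k : Fin n, F.map (pk A n k) ≫ F.map (ιk A n k)) ≫ tn F F' φ n := by
        rw [total, Category.comp_id]
    _ = ∑ k : Fin n, F.map (x ≫ pk A n k) ≫ φ ≫ F'.map (ιk A n k) := by
        rw [Preadditive.comp_sum, Preadditive.sum_comp]
        refine Finset.sum_congr rfl fun k _ => ?_
        rw [Category.assoc, Category.assoc, ι_tn, F.map_comp, Category.assoc]
    _ = ∑ k : Fin n, φ ≫ F'.map (x ≫ pk A n k) ≫ F'.map (ιk A n k) := by
        refine Finset.sum_congr rfl fun k _ => ?_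
        rw [← Category.assoc, hφ' F F' φ hφ, Category.assoc]
    _ = φ ≫ F'.map x ≫ ∑ k : Fin n, F'.map (pk A n k) ≫ F'.map (ιk A n k) := by
        rw [Preadditive.comp_sum, Preadditive.comp_sum]
        refine Finset.sum_congr rfl fun k _ => ?_
        rw [F'.map_comp, Category.assoc]
    _ = φ ≫ F'.map x := by rw [total, Category.comp_id]

include hφ in
lemma exists_app (M : FP A) :
    ∃ τ : F.obj M ⟶ F'.obj M, ∀ x : one A ⟶ M, F.map x ≫ τ = φ ≫ F'.map x := by
  obtain ⟨P⟩ := exists_pres M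
  have hψ : F.map P.Rh ≫ (tn F F' φ P.n ≫ F'.map P.πh) =
      F.map P.Zh ≫ (tn F F' φ P.n ≫ F'.map P.πh) := by
    have key : ∀ (x : one A ⟶ fr A P.n),
        F.map x ≫ (tn F F' φ P.n ≫ F'.map P.πh) = φ ≫ F'.map (x ≫ P.πh) := fun x => by
      rw [← Category.assoc, KF F F' φ hφ, Category.assoc, ← F'.map_comp]
    apply Cofan.IsColimit.hom_ext (hF F P.m)
    intro l
    show F.map (ιk A P.m l) ≫ (F.map P.Rh ≫ (tn F F' φ P.n ≫ F'.map P.πh)) =
      F.map (ιk A P.m l) ≫ (F.map P.Zh ≫ (tn F F' φ P.n ≫ F'.map P.πh))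
    rw [← Category.assoc, ← F.map_comp, key,
      ← Category.assoc (F.map (ιk A P.m l)) (F.map P.Zh), ← F.map_comp, key,
      Category.assoc, Category.assoc, P.w]
  refine ⟨Cofork.IsColimit.desc (hFπ F P) _ hψ, ?_⟩
  intro x
  obtain ⟨y, rfl⟩ := P.exists_lift x
  have hd : F.map P.πh ≫ Cofork.IsColimit.desc (hFπ F P) _ hψ =
      tn F F' φ P.n ≫ F'.map P.πh := Cofork.IsColimit.π_desc' (hFπ F P) _ hψ
  rw [F.map_comp, Category.assoc, hd, ← Category.assoc, KF F F' φ hφ, Category.assoc,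
    ← F'.map_comp]

include hφ in
theorem exists_natTrans : ∃ t : F ⟶ F', t.app (one A) = φ := by
  choose τ hτ using exists_app F F' φ hφ
  refine ⟨{ app := τ, naturality := ?_ }, ?_⟩
  · intro M N f
    apply jointly_epi F
    intro x
    rw [← Category.assoc, ← F.map_comp, hτ N (x ≫ f), ← Category.assoc, hτ M x, Category.assoc,
      F'.map_comp]
  · apply jointly_epi F
    intro x
    show F.map x ≫ τ (one A) = F.map x ≫ φ
    rw [hτ (one A) x, hφ' F F' φ hφ]

omit [PreservesFiniteColimits F'] in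
theorem natTrans_ext (t t' : F ⟶ F') (h : t.app (one A) = t'.app (one A)) : t = t' := by
  ext M
  apply jointly_epi F
  intro x
  rw [t.naturality, t'.naturality, h]

end Two

end H10EW
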