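import Mathlib

/-!
# Faithful exact functors with a filtered-colimit-preserving right adjoint

Let `F : A ⥤ B` be a faithful exact functor between abelian categories (with `A` cocomplete)
admitting a right adjoint `G` which preserves filtered colimits.  If `B` is Grothendieck abelian,
so is `A`.
-/

set_option autoImplicit false
set_option backward.isDefEq.respectTransparency false
set_option backward.isDefEq.respectTransparency.types false

open CategoryTheory CategoryTheory.Limits

universe w u₁ u₂

namespace Groth.Agent.Lib.Helper10.FaithExact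

section Core

variable {A : Type u₁} [Category.{w} A] [Abelian A] {J : Type w} [SmallCategory J] [IsFiltered J]
  [HasColimitsOfShape J A] [HasExactColimitsOfShape J A]

/-- In an abelian category with exact `J`-colimits (`J` filtered), a subobject `m : a ⟶ c.pt` of a
colimit is jointly covered by the kernels `x j ↪ X.obj j` of `X.obj j ⟶ c.pt ⟶ coker m`. -/
theorem exists_jointly_epi {X : J ⥤ A} {c : Cocone X} (hc : IsColimit c) {a : A}
    (m : a ⟶ c.pt) [Mono m] :
    ∃ (x : J → A) (κ : ∀ j, x j ⟶ X.obj j) (ι : ∀ j, x j ⟶ a),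
      (∀ j, Mono (κ j)) ∧ (∀ j, ι j ≫ m = κ j ≫ c.ι.app j) ∧
      ∀ ⦃a'' : A⦄ (k : a ⟶ a''), (∀ j, ι j ≫ k = 0) → k = 0 := by
  have : IsConnected J := IsFiltered.isConnected J
  let β : X ⟶ (Functor.const J).obj (cokernel m) :=
    { app := fun j => c.ι.app j ≫ cokernel.π m
      naturality := fun j j' φ => by
        dsimp
        rw [Category.comp_id, ← Category.assoc, c.w φ] }
  let S : ShortComplex (J ⥤ A) := ShortComplex.mk (kernel.ι β) β (kernel.condition β)
  have hS : S.Exact := ShortComplex.exact_of_f_is_kernel S (kernelIsKernel β)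
  have hc₁ : IsColimit (colimit.cocone (kernel β)) := colimit.isColimit _
  let f : colimit (kernel β) ⟶ c.pt :=
    colimit.desc (kernel β) (Cocone.mk c.pt (kernel.ι β ≫ c.ι))
  have hf : ∀ j, (colimit.cocone (kernel β)).ι.app j ≫ f = S.f.app j ≫ c.ι.app j :=
    fun j => colimit.ι_desc _ j
  have hg : ∀ j, c.ι.app j ≫ cokernel.π m
      = S.g.app j ≫ (constCocone J (cokernel m)).ι.app j :=
    fun j => (Category.comp_id _).symm
  have E := colim.exact_mapShortComplex hS hc₁ hc (isColimitConstCocone J (cokernel m)) f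
    (cokernel.π m) hf hg
  have : Mono (kernel.ι β) := inferInstance
  have hmf : Mono f := colim.map_mono' (kernel.ι β) hc₁ hc f hf
  have : Mono (colim.mapShortComplex S hc₁ c (constCocone J (cokernel m)) f
      (cokernel.π m) hf hg).f := hmf
  obtain ⟨l, hl⟩ := E.lift' m (cokernel.condition m)
  have hl' : l ≫ f = m := hl
  have hfπ : f ≫ cokernel.π m = 0 :=
    (colim.mapShortComplex S hc₁ c (constCocone J (cokernel m)) f (cokernel.π m) hf hg).zero
  let f' : colimit (kernel β) ⟶ a := Abelian.monoLift m f hfπ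
  have hf' : f' ≫ m = f := Abelian.monoLift_comp m f hfπ
  refine ⟨fun j => (kernel β).obj j, fun j => (kernel.ι β).app j,
    fun j => colimit.ι (kernel β) j ≫ f', ?_, ?_, ?_⟩
  · intro j
    infer_instance
  · intro j
    rw [Category.assoc, hf']
    exact hf j
  · intro a'' k hk
    have h1 : f' ≫ k = 0 := colimit.hom_ext (fun j => by
      rw [← Category.assoc, hk j, comp_zero])
    have h2 : l ≫ f' = 𝟙 a := by
      rw [← cancel_mono m, Category.assoc, hf', hl', Category.id_comp]
    calc k = (l ≫ f') ≫ k := by rw [h2, Category.id_comp]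
      _ = 0 := by rw [Category.assoc, h1, comp_zero]

end Core

section FE

variable {A : Type u₁} [Category.{w} A] [Abelian A] {B : Type u₂} [Category.{w} B] [Abelian B]
  (F : A ⥤ B) [F.Additive] [F.Faithful] [PreservesFiniteLimits F] [PreservesFiniteColimits F]

/-- A faithful exact functor reflects the order on subobjects. -/
theorem le_of_map_le {x : A} (N₁ N₂ : Subobject x)
    (h : Subobject.mk (F.map N₁.arrow) ≤ Subobject.mk (F.map N₂.arrow)) : N₁ ≤ N₂ := by
  have h0 : N₁.arrow ≫ cokernel.π N₂.arrow = 0 := by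
    apply F.map_injective
    rw [F.map_comp, F.map_zero, ← Subobject.ofMkLEMk_comp h, Category.assoc, ← F.map_comp,
      cokernel.condition, F.map_zero, comp_zero]
  exact Subobject.le_of_comm (Abelian.monoLift N₂.arrow N₁.arrow h0)
    (Abelian.monoLift_comp _ _ _)

theorem map_arrow_injective (x : A) :
    Function.Injective (fun N : Subobject x => Subobject.mk (F.map N.arrow)) := by
  intro N₁ N₂ h
  have h' : Subobject.mk (F.map N₁.arrow) = Subobject.mk (F.map N₂.arrow) := h
  exact le_antisymm (le_of_map_le F N₁ N₂ h'.le) (le_of_map_le F N₂ N₁ h'.ge)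

include F in
theorem wellPowered_of_faithful [WellPowered.{w} B] : WellPowered.{w} A :=
  ⟨fun x => small_of_injective (map_arrow_injective F x)⟩

variable (G : B ⥤ A) (adj : F ⊣ G)

include adj in
theorem ab5 [HasColimitsOfSize.{w, w} A] [HasFilteredColimitsOfSize.{w, w} B]
    [AB5OfSize.{w, w} B] : AB5OfSize.{w, w} A := by
  have : PreservesColimitsOfSize.{w, w} F := adj.leftAdjoint_preservesColimits
  have : ReflectsFiniteLimits F :=
    ⟨fun J _ _ => reflectsLimitsOfShape_of_reflectsIsomorphisms⟩
  exact ⟨fun J _ _ => HasExactColimitsOfShape.domain_of_functor J F⟩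

end FE

section BSide

variable {B : Type u₂} [Category.{w} B] [Abelian B] [IsGrothendieckAbelian.{w} B]

/-- the countable copower -/
noncomputable def cop (U : B) : B := ∐ (fun _ : ULift.{w} ℕ => U)

theorem cop_isSeparator {U : B} (hU : IsSeparator U) : IsSeparator (cop U) :=
  isSeparator_sigma_of_isSeparator (fun _ : ULift.{w} ℕ => U) ⟨0⟩ hU

theorem exists_factor {U b : B} (h₁ h₂ : cop U ⟶ b) :
    ∃ (h₃ : cop U ⟶ b) (e₁ e₂ : cop U ⟶ cop U), e₁ ≫ h₃ = h₁ ∧ e₂ ≫ h₃ = h₂ := by
  let ι : ∀ n : ℕ, U ⟶ cop U := fun n => Sigma.ι (fun _ : ULift.{w} ℕ => U) ⟨n⟩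
  let p : ULift.{w} ℕ → (U ⟶ b) := fun n =>
    if n.down % 2 = 0 then ι (n.down / 2) ≫ h₁ else ι (n.down / 2) ≫ h₂
  let h₃ : cop U ⟶ b := Sigma.desc p
  let e₁ : cop U ⟶ cop U := Sigma.desc (fun n : ULift.{w} ℕ => ι (2 * n.down))
  let e₂ : cop U ⟶ cop U := Sigma.desc (fun n : ULift.{w} ℕ => ι (2 * n.down + 1))
  refine ⟨h₃, e₁, e₂, ?_, ?_⟩
  · refine Sigma.hom_ext _ _ (fun n => ?_)
    have h1 : (2 * n.down) % 2 = 0 := by omega
    have h2 : (2 * n.down) / 2 = n.down := by omega
    calc Sigma.ι (fun _ : ULift.{w} ℕ => U) n ≫ e₁ ≫ h₃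
        = ι (2 * n.down) ≫ h₃ := by
          rw [← Category.assoc]
          congr 1
          exact Sigma.ι_desc _ _
      _ = (if (2 * n.down) % 2 = 0 then ι ((2 * n.down) / 2) ≫ h₁
            else ι ((2 * n.down) / 2) ≫ h₂) := Sigma.ι_desc p _
      _ = ι n.down ≫ h₁ := by rw [if_pos h1, h2]
      _ = Sigma.ι (fun _ : ULift.{w} ℕ => U) n ≫ h₁ := rfl
  · refine Sigma.hom_ext _ _ (fun n => ?_)
    have h1 : ¬ ((2 * n.down + 1) % 2 = 0) := by omega
    have h2 : (2 * n.down + 1) / 2 = n.down := by omega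
    calc Sigma.ι (fun _ : ULift.{w} ℕ => U) n ≫ e₂ ≫ h₃
        = ι (2 * n.down + 1) ≫ h₃ := by
          rw [← Category.assoc]
          congr 1
          exact Sigma.ι_desc _ _
      _ = (if (2 * n.down + 1) % 2 = 0 then ι ((2 * n.down + 1) / 2) ≫ h₁
            else ι ((2 * n.down + 1) / 2) ≫ h₂) := Sigma.ι_desc p _
      _ = ι n.down ≫ h₂ := by rw [if_neg h1, h2]
      _ = Sigma.ι (fun _ : ULift.{w} ℕ => U) n ≫ h₂ := rfl

/-- If `V` is a separator, the images of all maps `V ⟶ b` cover `b`. -/
theorem iSup_imageSubobject_eq_top {V : B} (hV : IsSeparator V) (b : B) :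
    (⨆ h : V ⟶ b, imageSubobject h) = ⊤ := by
  have hq : cokernel.π (⨆ h : V ⟶ b, imageSubobject h).arrow = 0 := by
    refine hV.def _ _ (fun h => ?_)
    rw [comp_zero]
    have hle : imageSubobject h ≤ ⨆ h : V ⟶ b, imageSubobject h :=
      le_iSup (fun h : V ⟶ b => imageSubobject h) h
    have e : h = factorThruImageSubobject h ≫ Subobject.ofLE _ _ hle ≫
        (⨆ h : V ⟶ b, imageSubobject h).arrow := by
      rw [Subobject.ofLE_arrow, imageSubobject_arrow_comp]
    rw [e, Category.assoc, Category.assoc, cokernel.condition, comp_zero, comp_zero]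
  have : Epi (⨆ h : V ⟶ b, imageSubobject h).arrow := Abelian.epi_of_cokernel_π_eq_zero _ hq
  have : IsIso (⨆ h : V ⟶ b, imageSubobject h).arrow := isIso_of_mono_of_epi _
  exact Subobject.eq_top_of_isIso_arrow _

/-- The set of maps `V ⟶ b`, preordered by inclusion of images. -/
def Idx (V b : B) : Type w := V ⟶ b

namespace Idx

variable {V b : B}

/-- the underlying morphism -/
def hom (h : Idx V b) : V ⟶ b := h

noncomputable instance : Preorder (Idx V b) :=
  Preorder.lift (fun h : Idx V b => imageSubobject h.hom)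

theorem le_iff (h₁ h₂ : Idx V b) :
    h₁ ≤ h₂ ↔ imageSubobject h₁.hom ≤ imageSubobject h₂.hom := Iff.rfl

instance : Nonempty (Idx V b) := ⟨(0 : V ⟶ b)⟩

end Idx

instance idx_directed (U b : B) : IsDirectedOrder (Idx (cop U) b) :=
  ⟨fun h₁ h₂ => by
    obtain ⟨h₃, e₁, e₂, he₁, he₂⟩ := exists_factor h₁.hom h₂.hom
    refine ⟨(h₃ : cop U ⟶ b), ?_, ?_⟩
    · refine (Idx.le_iff _ _).2 ?_
      rw [← he₁]
      exact imageSubobject_comp_le e₁ h₃
    · refine (Idx.le_iff _ _).2 ?_
      rw [← he₂]
      exact imageSubobject_comp_le e₂ h₃⟩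

/-- the functor of images -/
noncomputable def imgFunctor (V b : B) : Idx V b ⥤ MonoOver b :=
  Monotone.functor (f := fun h : Idx V b => imageSubobject h.hom) (fun _ _ h => h) ⋙
    Subobject.representative

/-- the cocone of images -/
noncomputable def imgCocone (V b : B) :
    Cocone (imgFunctor V b ⋙ MonoOver.forget _ ⋙ Over.forget _) :=
  Cocone.mk b
    { app := fun j => ((imgFunctor V b).obj j).obj.hom
      naturality := fun j j' g => by simp [MonoOver.forget] }

theorem iSup_mk_imgFunctor {V : B} (hV : IsSeparator V) (b : B) :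
    (⨆ j : Idx V b, Subobject.mk ((imgFunctor V b).obj j).obj.hom) = ⊤ := by
  have h1 : ∀ j : Idx V b,
      Subobject.mk ((imgFunctor V b).obj j).obj.hom = imageSubobject j.hom :=
    fun j => Subobject.mk_arrow _
  simp only [h1]
  exact iSup_imageSubobject_eq_top hV b

/-- `b` is the filtered colimit of the images of the maps `cop U ⟶ b`. -/
noncomputable def isColimitImgCocone {U : B} (hU : IsSeparator U) (b : B) :
    IsColimit (imgCocone (cop U) b) := by
  let D := imgFunctor (cop U) b
  let f : colimit (D ⋙ MonoOver.forget _ ⋙ Over.forget _) ⟶ b :=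
    colimit.desc _ (imgCocone (cop U) b)
  have hf : ∀ j, (colimit.cocone (D ⋙ MonoOver.forget _ ⋙ Over.forget _)).ι.app j ≫ f
      = (D.obj j).obj.hom := fun j => colimit.ι_desc _ j
  have := IsGrothendieckAbelian.mono_of_isColimit_monoOver D (colimit.isColimit _) f hf
  have h := IsGrothendieckAbelian.subobjectMk_of_isColimit_eq_iSup D (colimit.isColimit _) f hf
  rw [iSup_mk_imgFunctor (cop_isSeparator hU) b] at h
  have hiso : IsIso f := (Subobject.isIso_iff_mk_eq_top f).2 h
  have : IsIso ((colimit.isColimit (D ⋙ MonoOver.forget _ ⋙ Over.forget _)).desc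
      (imgCocone (cop U) b)) := hiso
  exact IsColimit.ofPointIso (colimit.isColimit _)

/-- the quotient attached to a subobject -/
noncomputable abbrev Q {V : B} (K : Subobject V) : B := cokernel K.arrow

/-- the image of `h` is the quotient by the kernel. -/
noncomputable def isoQ {V b : B} (h : V ⟶ b) :
    ((imageSubobject h : Subobject b) : B) ≅ Q (kernelSubobject h) :=
  imageSubobjectIso h ≪≫ (Abelian.coimageIsoImage' h).symm ≪≫
    (cokernel.mapIso _ _ (kernelSubobjectIso h) (Iso.refl _) (by simp)).symm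

end BSide

section Assembly

variable {A : Type u₁} [Category.{w} A] [Abelian A] [HasColimitsOfSize.{w, w} A]
  {B : Type u₂} [Category.{w} B] [Abelian B] [IsGrothendieckAbelian.{w} B]
  (F : A ⥤ B) (G : B ⥤ A) (adj : F ⊣ G) [F.Additive] [F.Faithful]
  [PreservesFiniteLimits F] [PreservesFiniteColimits F]
  [PreservesFilteredColimitsOfSize.{w, w} G]

include adj in
/-- The objects admitting a monomorphism to some `G (cop U / K)` jointly cover every object. -/
theorem key [AB5OfSize.{w, w} A] {U : B} (hU : IsSeparator U) {a a'' : A} (k : a ⟶ a'')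
    (hk : ∀ (K : Subobject (cop U)) (x : A) (κ : x ⟶ G.obj (Q K)) (_ : Mono κ) (i : x ⟶ a),
      i ≫ k = 0) : k = 0 := by
  have hc₀ := isColimitImgCocone hU (F.obj a)
  have hcG : IsColimit (G.mapCocone (imgCocone (cop U) (F.obj a))) := isColimitOfPreserves G hc₀
  have : Mono (adj.unit.app a) := inferInstance
  obtain ⟨x, κ, ι, hκ, -, hepi⟩ := exists_jointly_epi hcG (a := a) (adj.unit.app a)
  refine hepi k (fun j => ?_)
  have := hκ j
  exact hk (kernelSubobject j.hom) (x j) (κ j ≫ G.map (isoQ j.hom).hom) (mono_comp _ _) (ι j)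

section Family

variable [WellPowered.{w} A]

/-- index type of the separating family -/
def Fam (V : B) : Type w :=
  Σ K : Shrink.{w} (Subobject V),
    Shrink.{w} (Subobject (G.obj (Q ((equivShrink.{w} (Subobject V)).symm K))))

/-- the separating family -/
noncomputable def fam (V : B) (k : Fam G V) : A :=
  (((equivShrink.{w} (Subobject (G.obj (Q ((equivShrink.{w} (Subobject V)).symm k.1))))).symm k.2 :
    Subobject (G.obj (Q ((equivShrink.{w} (Subobject V)).symm k.1)))) : A)

theorem exists_fam_iso {V : B} (K : Subobject V) {x : A} (κ : x ⟶ G.obj (Q K)) [Mono κ] :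
    ∃ k : Fam G V, Nonempty (fam G V k ≅ x) := by
  have hK : (equivShrink.{w} (Subobject V)).symm (equivShrink.{w} (Subobject V) K) = K :=
    Equiv.symm_apply_apply _ _
  let κ' : x ⟶ G.obj (Q ((equivShrink.{w} (Subobject V)).symm (equivShrink.{w} (Subobject V) K))) :=
    κ ≫ eqToHom (by rw [hK])
  have : Mono κ' := mono_comp _ _
  refine ⟨⟨equivShrink.{w} _ K, equivShrink.{w} _ (Subobject.mk κ')⟩, ?_⟩
  show Nonempty ((((equivShrink.{w} _).symm (equivShrink.{w} _ (Subobject.mk κ')) : Subobject _) : A) ≅ x)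
  have e2 : (equivShrink.{w} (Subobject (G.obj (Q ((equivShrink.{w} (Subobject V)).symm
      (equivShrink.{w} (Subobject V) K)))))).symm (equivShrink.{w} _ (Subobject.mk κ'))
      = Subobject.mk κ' := Equiv.symm_apply_apply _ _
  rw [e2]
  exact ⟨Subobject.underlyingIso κ'⟩

end Family

include adj in
theorem hasSeparator : HasSeparator A := by
  have : AB5OfSize.{w, w} A := ab5 F G adj
  have : WellPowered.{w} A := wellPowered_of_faithful F
  have hU : IsSeparator (separator B) := isSeparator_separator B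
  refine ⟨⟨∐ (fam G (cop (separator B))), (isSeparator_sigma _).2 ?_⟩⟩
  intro X Y f g hfg
  rw [← sub_eq_zero]
  refine key F G adj hU (f - g) (fun K x κ hκ i => ?_)
  have := hκ
  obtain ⟨k, ⟨e⟩⟩ := exists_fam_iso G K κ
  have h1 := hfg (fam G (cop (separator B)) k) ⟨k⟩ (e.hom ≫ i)
  rw [Preadditive.comp_sub, sub_eq_zero]
  have h2 : e.hom ≫ i ≫ f = e.hom ≫ i ≫ g := by simpa using h1
  exact (cancel_epi e.hom).1 h2

include adj in
theorem isGrothendieckAbelian : IsGrothendieckAbelian.{w} A := by
  have : AB5OfSize.{w, w} A := ab5 F G adj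
  have : HasSeparator A := hasSeparator F G adj
  exact {}

end Assembly

end Groth.Agent.Lib.Helper10.FaithExact
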