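import Mathlib

/-!
# Noetherian objects in abelian categories: quotients, extensions, finite sups
-/

set_option autoImplicit false
set_option backward.isDefEq.respectTransparency false
set_option backward.isDefEq.respectTransparency.types false

open CategoryTheory CategoryTheory.Limits

universe v u

namespace Groth.Agent.Lib.Helper10.NoethAb

variable {C : Type u} [Category.{v} C] [Abelian C]

/-- Pulling back subobjects along an epimorphism reflects the order. -/
theorem le_of_pullback_le {X Y : C} (p : X ⟶ Y) [Epi p] {M M' : Subobject Y}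
    (h : (Subobject.pullback p).obj M ≤ (Subobject.pullback p).obj M') : M ≤ M' := by
  have sq := Subobject.isPullback p M
  have sq' := Subobject.isPullback p M'
  have hepi : Epi (Subobject.pullbackπ p M) := Abelian.epi_fst_of_isLimit M.arrow p sq.isLimit
  have h1 : Subobject.pullbackπ p M ≫ M.arrow ≫ cokernel.π M'.arrow = 0 := by
    calc Subobject.pullbackπ p M ≫ M.arrow ≫ cokernel.π M'.arrow
        = (((Subobject.pullback p).obj M).arrow ≫ p) ≫ cokernel.π M'.arrow := by
          rw [← Category.assoc, sq.w]
      _ = ((Subobject.ofLE _ _ h ≫ ((Subobject.pullback p).obj M').arrow) ≫ p) ≫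
            cokernel.π M'.arrow := by
          rw [Subobject.ofLE_arrow]
      _ = Subobject.ofLE _ _ h ≫ (((Subobject.pullback p).obj M').arrow ≫ p) ≫
            cokernel.π M'.arrow := by
          simp only [Category.assoc]
      _ = Subobject.ofLE _ _ h ≫ (Subobject.pullbackπ p M' ≫ M'.arrow) ≫
            cokernel.π M'.arrow := by
          rw [sq'.w]
      _ = 0 := by
          rw [Category.assoc, cokernel.condition, comp_zero, comp_zero]
  have h0 : M.arrow ≫ cokernel.π M'.arrow = 0 :=
    (cancel_epi (Subobject.pullbackπ p M)).1 (h1.trans comp_zero.symm)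
  exact Subobject.le_of_comm (Abelian.monoLift M'.arrow M.arrow h0)
    (Abelian.monoLift_comp _ _ _)

/-- A quotient of a noetherian object is noetherian. -/
theorem isNoetherianObject_of_epi {X Y : C} (p : X ⟶ Y) [Epi p] [IsNoetherianObject X] :
    IsNoetherianObject Y := by
  rw [isNoetherianObject_iff_monotone_chain_condition]
  intro f
  obtain ⟨n, hn⟩ := monotone_chain_condition_of_isNoetherianObject
    ⟨_, (Subobject.pullback p).monotone.comp f.2⟩
  refine ⟨n, fun m hm => ?_⟩
  have h : (Subobject.pullback p).obj (f n) = (Subobject.pullback p).obj (f m) := hn m hm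
  exact le_antisymm (le_of_pullback_le p h.le) (le_of_pullback_le p h.ge)

theorem isNoetherianObject_of_iso {X Y : C} (e : X ≅ Y) [IsNoetherianObject Y] :
    IsNoetherianObject X :=
  isNoetherianObject_of_mono e.hom

theorem imageSubobject_comp_mono {X₂ X₃ : C} (g : X₂ ⟶ X₃) :
    Monotone (fun M : Subobject X₂ => imageSubobject (M.arrow ≫ g)) := by
  intro M M' h
  have key : ∀ (u : (M : C) ⟶ X₃), u = Subobject.ofLE M M' h ≫ M'.arrow ≫ g →
      imageSubobject u ≤ imageSubobject (M'.arrow ≫ g) := by
    rintro u rfl
    exact imageSubobject_comp_le _ _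
  exact key _ (by rw [← Category.assoc, Subobject.ofLE_arrow])

/-- The key step for extensions: a subobject of the middle term of a short exact sequence
is determined, among the subobjects containing it, by its trace on the kernel and
its image in the cokernel. -/
theorem ext_le {S : ShortComplex C} (hS : S.ShortExact) {M M' : Subobject S.X₂} (hle : M ≤ M')
    (h₁ : (Subobject.pullback S.f).obj M' ≤ (Subobject.pullback S.f).obj M)
    (h₃ : imageSubobject (M'.arrow ≫ S.g) ≤ imageSubobject (M.arrow ≫ S.g)) : M' ≤ M := by
  let e : (M : C) ⟶ ((imageSubobject (M.arrow ≫ S.g) : Subobject S.X₃) : C) :=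
    factorThruImageSubobject (M.arrow ≫ S.g)
  let e' : (M' : C) ⟶ ((imageSubobject (M.arrow ≫ S.g) : Subobject S.X₃) : C) :=
    factorThruImageSubobject (M'.arrow ≫ S.g) ≫ Subobject.ofLE _ _ h₃
  have he : e ≫ (imageSubobject (M.arrow ≫ S.g)).arrow = M.arrow ≫ S.g :=
    imageSubobject_arrow_comp _
  have he' : e' ≫ (imageSubobject (M.arrow ≫ S.g)).arrow = M'.arrow ≫ S.g := by
    simp only [e', Category.assoc, Subobject.ofLE_arrow, imageSubobject_arrow_comp]
  have hepi : Epi e := by
    dsimp only [e]
    infer_instance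
  have hepi2 : Epi (pullback.snd e e') := inferInstance
  have hc : pullback.fst e e' ≫ e = pullback.snd e e' ≫ e' := pullback.condition
  let d : pullback e e' ⟶ S.X₂ := pullback.snd e e' ≫ M'.arrow - pullback.fst e e' ≫ M.arrow
  have h3 : pullback.snd e e' ≫ M'.arrow ≫ S.g = pullback.fst e e' ≫ M.arrow ≫ S.g :=
    calc pullback.snd e e' ≫ M'.arrow ≫ S.g
        = pullback.snd e e' ≫ e' ≫ (imageSubobject (M.arrow ≫ S.g)).arrow :=
          congrArg (fun t => pullback.snd e e' ≫ t) he'.symm
      _ = (pullback.snd e e' ≫ e') ≫ (imageSubobject (M.arrow ≫ S.g)).arrow :=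
          (Category.assoc _ _ _).symm
      _ = (pullback.fst e e' ≫ e) ≫ (imageSubobject (M.arrow ≫ S.g)).arrow :=
          congrArg (fun t => t ≫ (imageSubobject (M.arrow ≫ S.g)).arrow) hc.symm
      _ = pullback.fst e e' ≫ e ≫ (imageSubobject (M.arrow ≫ S.g)).arrow :=
          Category.assoc _ _ _
      _ = pullback.fst e e' ≫ M.arrow ≫ S.g :=
          congrArg (fun t => pullback.fst e e' ≫ t) he
  have hd : d ≫ S.g = 0 := by
    dsimp only [d]
    rw [Preadditive.sub_comp, Category.assoc, Category.assoc, h3, sub_self]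
  have hmono := hS.mono_f
  let z : pullback e e' ⟶ S.X₁ := hS.exact.lift d hd
  have hz : z ≫ S.f = d := hS.exact.lift_f d hd
  let tM' : pullback e e' ⟶ (M' : C) :=
    pullback.snd e e' - pullback.fst e e' ≫ Subobject.ofLE M M' hle
  have htM' : tM' ≫ M'.arrow = d := by
    dsimp only [tM', d]
    rw [Preadditive.sub_comp, Category.assoc, Subobject.ofLE_arrow]
  let l : pullback e e' ⟶ ((Subobject.pullback S.f).obj M' : C) :=
    (Subobject.isPullback S.f M').lift tM' z (by rw [htM', hz])
  have hl : l ≫ ((Subobject.pullback S.f).obj M').arrow = z :=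
    (Subobject.isPullback S.f M').lift_snd _ _ _
  have hdM : d ≫ cokernel.π M.arrow = 0 := by
    calc d ≫ cokernel.π M.arrow
        = ((l ≫ ((Subobject.pullback S.f).obj M').arrow) ≫ S.f) ≫ cokernel.π M.arrow := by
          rw [hl, hz]
      _ = ((l ≫ Subobject.ofLE _ _ h₁ ≫ ((Subobject.pullback S.f).obj M).arrow) ≫ S.f) ≫
            cokernel.π M.arrow := by
          rw [Subobject.ofLE_arrow]
      _ = (l ≫ Subobject.ofLE _ _ h₁) ≫ (((Subobject.pullback S.f).obj M).arrow ≫ S.f) ≫
            cokernel.π M.arrow := by
          simp only [Category.assoc]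
      _ = (l ≫ Subobject.ofLE _ _ h₁) ≫ (Subobject.pullbackπ S.f M ≫ M.arrow) ≫
            cokernel.π M.arrow := by
          rw [(Subobject.isPullback S.f M).w]
      _ = 0 := by
          simp only [Category.assoc, cokernel.condition, comp_zero]
  have h2 : pullback.snd e e' ≫ M'.arrow = d + pullback.fst e e' ≫ M.arrow := by
    dsimp only [d]
    rw [sub_add_cancel]
  have h1 : pullback.snd e e' ≫ M'.arrow ≫ cokernel.π M.arrow = 0 := by
    rw [← Category.assoc, h2, Preadditive.add_comp, hdM, Category.assoc, cokernel.condition,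
      comp_zero, add_zero]
  have h0 : M'.arrow ≫ cokernel.π M.arrow = 0 :=
    (cancel_epi (pullback.snd e e')).1 (h1.trans comp_zero.symm)
  exact Subobject.le_of_comm (Abelian.monoLift M.arrow M'.arrow h0)
    (Abelian.monoLift_comp _ _ _)

/-- Noetherian objects are closed under extensions. -/
theorem isNoetherianObject_of_shortExact {S : ShortComplex C} (hS : S.ShortExact)
    [IsNoetherianObject S.X₁] [IsNoetherianObject S.X₃] : IsNoetherianObject S.X₂ := by
  rw [isNoetherianObject_iff_monotone_chain_condition]
  intro f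
  obtain ⟨n₁, hn₁⟩ := monotone_chain_condition_of_isNoetherianObject
    ⟨_, (Subobject.pullback S.f).monotone.comp f.2⟩
  obtain ⟨n₃, hn₃⟩ := monotone_chain_condition_of_isNoetherianObject
    ⟨_, (imageSubobject_comp_mono S.g).comp f.2⟩
  refine ⟨max n₁ n₃, fun m hm => ?_⟩
  have hle : f (max n₁ n₃) ≤ f m := f.2 hm
  refine le_antisymm hle (ext_le hS hle ?_ ?_)
  · have a : (Subobject.pullback S.f).obj (f n₁) = (Subobject.pullback S.f).obj (f m) :=
      hn₁ m (le_trans (le_max_left _ _) hm)
    have b : (Subobject.pullback S.f).obj (f n₁) =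
        (Subobject.pullback S.f).obj (f (max n₁ n₃)) := hn₁ (max n₁ n₃) (le_max_left _ _)
    exact (a.symm.trans b).le
  · have a : imageSubobject ((f n₃).arrow ≫ S.g) = imageSubobject ((f m).arrow ≫ S.g) :=
      hn₃ m (le_trans (le_max_right _ _) hm)
    have b : imageSubobject ((f n₃).arrow ≫ S.g) =
        imageSubobject ((f (max n₁ n₃)).arrow ≫ S.g) := hn₃ (max n₁ n₃) (le_max_right _ _)
    exact (a.symm.trans b).le

/-- Binary biproducts of noetherian objects are noetherian. -/
theorem isNoetherianObject_biprod (X Y : C) [IsNoetherianObject X] [IsNoetherianObject Y] :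
    IsNoetherianObject (X ⊞ Y) := by
  have hS := (ShortComplex.Splitting.ofHasBinaryBiproduct X Y).shortExact
  haveI : IsNoetherianObject (ShortComplex.mk (biprod.inl : X ⟶ X ⊞ Y)
      (biprod.snd : X ⊞ Y ⟶ Y) (by simp)).X₁ := ‹IsNoetherianObject X›
  haveI : IsNoetherianObject (ShortComplex.mk (biprod.inl : X ⟶ X ⊞ Y)
      (biprod.snd : X ⊞ Y ⟶ Y) (by simp)).X₃ := ‹IsNoetherianObject Y›
  exact isNoetherianObject_of_shortExact hS

/-- The image of a noetherian object is noetherian. -/
theorem isNoetherianObject_imageSubobject {X Y : C} (f : X ⟶ Y) [IsNoetherianObject X] :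
    IsNoetherianObject ((imageSubobject f : Subobject Y) : C) :=
  isNoetherianObject_of_epi (factorThruImageSubobject f)

/-- The sup of two noetherian subobjects is noetherian. -/
theorem isNoetherianObject_sup {b : C} (N₁ N₂ : Subobject b)
    [IsNoetherianObject (N₁ : C)] [IsNoetherianObject (N₂ : C)] :
    IsNoetherianObject ((N₁ ⊔ N₂ : Subobject b) : C) := by
  haveI := isNoetherianObject_biprod (N₁ : C) (N₂ : C)
  haveI := isNoetherianObject_imageSubobject (biprod.desc N₁.arrow N₂.arrow)
  have h1 : N₁ ≤ imageSubobject (biprod.desc N₁.arrow N₂.arrow) :=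
    Subobject.le_of_comm (biprod.inl ≫ factorThruImageSubobject _) (by simp)
  have h2 : N₂ ≤ imageSubobject (biprod.desc N₁.arrow N₂.arrow) :=
    Subobject.le_of_comm (biprod.inr ≫ factorThruImageSubobject _) (by simp)
  exact isNoetherianObject_of_mono (Subobject.ofLE _ _ (sup_le h1 h2))

theorem isNoetherianObject_bot (b : C) : IsNoetherianObject ((⊥ : Subobject b) : C) :=
  isNoetherianObject_of_isZero (IsZero.of_iso (isZero_zero C) Subobject.botCoeIsoZero)

/-- Finite sups of noetherian subobjects are noetherian. -/
theorem isNoetherianObject_finset_sup {b : C} {α : Type*} (S : Finset α)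
    (f : α → Subobject b) (hf : ∀ a, IsNoetherianObject ((f a : Subobject b) : C)) :
    IsNoetherianObject ((S.sup f : Subobject b) : C) := by
  classical
  induction S using Finset.induction_on with
  | empty =>
    rw [Finset.sup_empty]
    exact isNoetherianObject_bot b
  | insert a S _ ih =>
    rw [Finset.sup_insert]
    haveI := hf a
    haveI := ih
    exact isNoetherianObject_sup _ _

end Groth.Agent.Lib.Helper10.NoethAb
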