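import Mathlib
import Groth.Agent.Lib.Helper10.FaithExact
import Groth.Agent.Lib.Helper10.NoethAb

/-!
# Faithful exact functors with a filtered-colimit-preserving right adjoint, noetherian version
-/

set_option autoImplicit false
set_option backward.isDefEq.respectTransparency false
set_option backward.isDefEq.respectTransparency.types false

open CategoryTheory CategoryTheory.Limits

universe w u₁ u₂

namespace Groth.Agent.Lib.Helper10.FaithExact

open Groth.Agent.Lib.Helper10.NoethAb

section Core2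

variable {A : Type u₁} [Category.{w} A] [Abelian A] {J : Type w} [SmallCategory J] [IsFiltered J]
  [HasColimitsOfShape J A] [HasExactColimitsOfShape J A]

/-- Variant of `exists_jointly_epi` which also records the universal property of the `x j`. -/
theorem exists_jointly_epi' {X : J ⥤ A} {c : Cocone X} (hc : IsColimit c) {a : A}
    (m : a ⟶ c.pt) [Mono m] :
    ∃ (x : J → A) (κ : ∀ j, x j ⟶ X.obj j) (ι : ∀ j, x j ⟶ a),
      (∀ j, Mono (κ j)) ∧ (∀ j, ι j ≫ m = κ j ≫ c.ι.app j) ∧
      (∀ ⦃a'' : A⦄ (k : a ⟶ a''), (∀ j, ι j ≫ k = 0) → k = 0) ∧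
      (∀ j ⦃Z : A⦄ (z : Z ⟶ a) (y : Z ⟶ X.obj j), z ≫ m = y ≫ c.ι.app j →
        ∃ l : Z ⟶ x j, l ≫ ι j = z) := by
  haveI : IsConnected J := IsFiltered.isConnected J
  let β : X ⟶ (Functor.const J).obj (cokernel m) :=
    { app := fun j => c.ι.app j ≫ cokernel.π m
      naturality := fun j j' φ => by
        dsimp
        rw [Category.comp_id, ← Category.assoc, c.w φ] }
  let S : ShortComplex (J ⥤ A) := ShortComplex.mk (kernel.ι β) β (kernel.condition β)
  have hS : S.Exact := ShortComplex.exact_of_f_is_kernel S (kernelIsKernel β)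
  have hc₁ : IsColimit (colimit.cocone (kernel β)) := colimit.isColimit _
  let f : colimit (kernel β) ⟶ c.pt :=
    colimit.desc (kernel β) (Cocone.mk c.pt (kernel.ι β ≫ c.ι))
  have hf : ∀ j, (colimit.cocone (kernel β)).ι.app j ≫ f = S.f.app j ≫ c.ι.app j :=
    fun j => colimit.ι_desc _ j
  have hg : ∀ j, c.ι.app j ≫ cokernel.π m
      = S.g.app j ≫ (constCocone J (cokernel m)).ι.app j :=
    fun j => (Category.comp_id _).symm
  have E := colim.exact_mapShortComplex hS hc₁ hc (isColimitConstCocone J (cokernel m)) f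
    (cokernel.π m) hf hg
  have : Mono (kernel.ι β) := inferInstance
  have hmf : Mono f := colim.map_mono' (kernel.ι β) hc₁ hc f hf
  have : Mono (colim.mapShortComplex S hc₁ c (constCocone J (cokernel m)) f
      (cokernel.π m) hf hg).f := hmf
  obtain ⟨l, hl⟩ := E.lift' m (cokernel.condition m)
  have hl' : l ≫ f = m := hl
  have hfπ : f ≫ cokernel.π m = 0 :=
    (colim.mapShortComplex S hc₁ c (constCocone J (cokernel m)) f (cokernel.π m) hf hg).zero
  let f' : colimit (kernel β) ⟶ a := Abelian.monoLift m f hfπ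
  have hf' : f' ≫ m = f := Abelian.monoLift_comp m f hfπ
  have hcomm : ∀ j, (colimit.ι (kernel β) j ≫ f') ≫ m = (kernel.ι β).app j ≫ c.ι.app j := by
    intro j
    rw [Category.assoc, hf']
    exact hf j
  refine ⟨fun j => (kernel β).obj j, fun j => (kernel.ι β).app j,
    fun j => colimit.ι (kernel β) j ≫ f', ?_, hcomm, ?_, ?_⟩
  · intro j
    infer_instance
  · intro a'' k hk
    have h1 : f' ≫ k = 0 := colimit.hom_ext (fun j => by
      rw [← Category.assoc, hk j, comp_zero])
    have h2 : l ≫ f' = 𝟙 a := by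
      rw [← cancel_mono m, Category.assoc, hf', hl', Category.id_comp]
    calc k = (l ≫ f') ≫ k := by rw [h2, Category.id_comp]
      _ = 0 := by rw [Category.assoc, h1, comp_zero]
  · intro j Z z y hzy
    have hy : y ≫ ((evaluation J A).obj j).map β = 0 := by
      show y ≫ c.ι.app j ≫ cokernel.π m = 0
      rw [← Category.assoc, ← hzy, Category.assoc, cokernel.condition, comp_zero]
    have hlim := (KernelFork.ofι (kernel.ι β) (kernel.condition β)).mapIsLimit
      (kernelIsKernel β) ((evaluation J A).obj j)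
    let l' : Z ⟶ (kernel β).obj j := hlim.lift (KernelFork.ofι y hy)
    have hl'' : l' ≫ (kernel.ι β).app j = y := Fork.IsLimit.lift_ι hlim
    refine ⟨l', ?_⟩
    rw [← cancel_mono m, Category.assoc, hcomm j, ← Category.assoc, hl'', hzy]

end Core2

section BSide2

variable {B : Type u₂} [Category.{w} B] [Abelian B]

theorem imageSubobject_le_of_factor {V b : B} {h h₃ : V ⟶ b} (e : V ⟶ V) (he : e ≫ h₃ = h) :
    imageSubobject h ≤ imageSubobject h₃ := by
  subst he
  exact imageSubobject_comp_le _ _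

/-- A subobject containing the images of all maps from a separating family is everything. -/
theorem eq_top_of_images_le {ι : Type*} (s : ι → B)
    (hsep : ∀ ⦃X Y : B⦄ (f g : X ⟶ Y), (∀ (i : ι) (h : s i ⟶ X), h ≫ f = h ≫ g) → f = g)
    {b : B} (E : Subobject b) (hE : ∀ i (h : s i ⟶ b), imageSubobject h ≤ E) : E = ⊤ := by
  have hq : cokernel.π E.arrow = 0 := by
    refine hsep _ _ (fun i h => ?_)
    rw [comp_zero]
    have e : h = factorThruImageSubobject h ≫ Subobject.ofLE _ _ (hE i h) ≫ E.arrow := by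
      rw [Subobject.ofLE_arrow, imageSubobject_arrow_comp]
    rw [e, Category.assoc, Category.assoc, cokernel.condition, comp_zero, comp_zero]
  have : Epi E.arrow := Abelian.epi_of_cokernel_π_eq_zero _ hq
  have : IsIso E.arrow := isIso_of_mono_of_epi _
  exact Subobject.eq_top_of_isIso_arrow _

variable [IsGrothendieckAbelian.{w} B]

/-- the cocone of a diagram of subobjects -/
noncomputable def monoCocone {b : B} {J : Type w} [SmallCategory J] (D : J ⥤ MonoOver b) :
    Cocone (D ⋙ MonoOver.forget _ ⋙ Over.forget _) :=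
  Cocone.mk b
    { app := fun j => (D.obj j).obj.hom
      naturality := fun j j' g => by simp [MonoOver.forget] }

/-- `b` is the colimit of a filtered diagram of subobjects with supremum `⊤`. -/
noncomputable def isColimitMonoCocone {b : B} {J : Type w} [SmallCategory J] [IsFiltered J]
    (D : J ⥤ MonoOver b) (hD : (⨆ j, Subobject.mk (D.obj j).obj.hom) = ⊤) :
    IsColimit (monoCocone D) := by
  let f : colimit (D ⋙ MonoOver.forget _ ⋙ Over.forget _) ⟶ b :=
    colimit.desc _ (monoCocone D)
  have hf : ∀ j, (colimit.cocone (D ⋙ MonoOver.forget _ ⋙ Over.forget _)).ι.app j ≫ f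
      = (D.obj j).obj.hom := fun j => colimit.ι_desc _ j
  have := IsGrothendieckAbelian.mono_of_isColimit_monoOver D (colimit.isColimit _) f hf
  have h := IsGrothendieckAbelian.subobjectMk_of_isColimit_eq_iSup D (colimit.isColimit _) f hf
  rw [hD] at h
  have hiso : IsIso f := (Subobject.isIso_iff_mk_eq_top f).2 h
  have : IsIso ((colimit.isColimit (D ⋙ MonoOver.forget _ ⋙ Over.forget _)).desc
      (monoCocone D)) := hiso
  exact IsColimit.ofPointIso (colimit.isColimit _)

/-- A noetherian object of a Grothendieck category is a quotient of the countable copower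
of any separator. -/
theorem exists_iso_Q_of_noetherian {U : B} (hU : IsSeparator U) (N : B) [IsNoetherianObject N] :
    ∃ K : Subobject (cop U), Nonempty (N ≅ Q K) := by
  let σ : (cop U ⟶ N) → Subobject N := fun h => imageSubobject h
  obtain ⟨M, ⟨h₀, rfl⟩, hmax⟩ :=
    wellFounded_gt.has_min (Set.range σ) ⟨σ 0, ⟨0, rfl⟩⟩
  have hall : ∀ h, σ h ≤ σ h₀ := fun h => by
    obtain ⟨h₃, e₁, e₂, he₁, he₂⟩ := exists_factor h h₀
    have a1 : σ h ≤ σ h₃ := imageSubobject_le_of_factor e₁ he₁
    have a2 : σ h₀ ≤ σ h₃ := imageSubobject_le_of_factor e₂ he₂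
    have a3 : ¬ σ h₃ > σ h₀ := hmax _ ⟨h₃, rfl⟩
    have a4 : σ h₃ = σ h₀ := by
      rcases a2.lt_or_eq with h' | h'
      · exact absurd h' a3
      · exact h'.symm
    exact a1.trans a4.le
  have htop : σ h₀ = ⊤ := by
    rw [eq_top_iff, ← iSup_imageSubobject_eq_top (cop_isSeparator hU) N]
    exact iSup_le hall
  have : IsIso (imageSubobject h₀).arrow := (Subobject.isIso_arrow_iff_eq_top _).2 htop
  exact ⟨kernelSubobject h₀, ⟨(asIso (imageSubobject h₀).arrow).symm ≪≫ isoQ h₀⟩⟩

section Fin

variable {ι : Type w} (s : ι → B) (b : B)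

/-- finite sets of maps from the generators to `b` -/
def FIdx : Type w := Finset (Σ i, s i ⟶ b)

instance : PartialOrder (FIdx s b) := inferInstanceAs (PartialOrder (Finset (Σ i, s i ⟶ b)))

instance : IsDirectedOrder (FIdx s b) :=
  ⟨fun S T => by
    classical
    exact ⟨(S ∪ T : Finset (Σ i, s i ⟶ b)), Finset.subset_union_left, Finset.subset_union_right⟩⟩

instance : Nonempty (FIdx s b) := ⟨(∅ : Finset (Σ i, s i ⟶ b))⟩

/-- the subobject generated by a finite set of maps -/
noncomputable def finSub (S : FIdx s b) : Subobject b :=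
  Finset.sup (S : Finset (Σ i, s i ⟶ b)) (fun p => imageSubobject p.2)

theorem finSub_mono : Monotone (finSub s b) := fun _ _ h => Finset.sup_mono h

/-- the functor of finitely generated subobjects -/
noncomputable def finFunctor : FIdx s b ⥤ MonoOver b :=
  Monotone.functor (finSub_mono s b) ⋙ Subobject.representative

theorem mk_finFunctor (S : FIdx s b) :
    Subobject.mk ((finFunctor s b).obj S).obj.hom = finSub s b S :=
  Subobject.mk_arrow _

theorem finSub_noeth (hs : ∀ i, IsNoetherianObject (s i)) (S : FIdx s b) :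
    IsNoetherianObject ((finSub s b S : Subobject b) : B) :=
  isNoetherianObject_finset_sup _ _ (fun p => by
    haveI := hs p.1
    exact isNoetherianObject_imageSubobject p.2)

theorem iSup_finFunctor_eq_top
    (hsep : ∀ ⦃X Y : B⦄ (f g : X ⟶ Y), (∀ (i : ι) (h : s i ⟶ X), h ≫ f = h ≫ g) → f = g) :
    (⨆ S : FIdx s b, Subobject.mk ((finFunctor s b).obj S).obj.hom) = ⊤ := by
  refine eq_top_of_images_le s hsep _ (fun i h => ?_)
  have e : finSub s b ({⟨i, h⟩} : Finset (Σ i, s i ⟶ b)) = imageSubobject h :=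
    Finset.sup_singleton
  rw [← e, ← mk_finFunctor]
  exact le_iSup (fun S : FIdx s b => Subobject.mk ((finFunctor s b).obj S).obj.hom) _

end Fin

end BSide2

section Assembly2

variable {A : Type u₁} [Category.{w} A] [Abelian A] [HasColimitsOfSize.{w, w} A]
  {B : Type u₂} [Category.{w} B] [Abelian B] [IsGrothendieckAbelian.{w} B]
  (F : A ⥤ B) (G : B ⥤ A) (adj : F ⊣ G) [F.Additive] [F.Faithful]
  [PreservesFiniteLimits F] [PreservesFiniteColimits F]
  [PreservesFilteredColimitsOfSize.{w, w} G]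

include adj in
/-- The general covering statement. -/
theorem exists_cover [AB5OfSize.{w, w} A] {a : A} {J : Type w} [SmallCategory J] [IsFiltered J]
    (D : J ⥤ MonoOver (F.obj a)) (hD : (⨆ j, Subobject.mk (D.obj j).obj.hom) = ⊤) :
    ∃ (x : J → A) (κ : ∀ j, x j ⟶ G.obj ((D.obj j).obj.left)) (ι : ∀ j, x j ⟶ a),
      (∀ j, Mono (κ j)) ∧ (∀ j, ι j ≫ adj.unit.app a = κ j ≫ G.map (D.obj j).obj.hom) ∧
      (∀ ⦃a'' : A⦄ (k : a ⟶ a''), (∀ j, ι j ≫ k = 0) → k = 0) ∧
      (∀ j j' (_ : j ⟶ j'), ∃ l : x j ⟶ x j', l ≫ ι j' = ι j) := by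
  have hc₀ := isColimitMonoCocone D hD
  have hcG : IsColimit (G.mapCocone (monoCocone D)) := isColimitOfPreserves G hc₀
  have : Mono (adj.unit.app a) := inferInstance
  obtain ⟨x, κ, ι, hκ, hcomm, hepi, huniv⟩ :=
    exists_jointly_epi' hcG (a := a) (adj.unit.app a)
  refine ⟨x, κ, ι, hκ, hcomm, hepi, fun j j' φ => ?_⟩
  refine huniv j' (ι j) (κ j ≫ G.map ((D ⋙ MonoOver.forget _ ⋙ Over.forget _).map φ)) ?_
  rw [hcomm j, Category.assoc]
  congr 1
  exact ((G.mapCocone (monoCocone D)).w φ).symm

include adj in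
omit [HasColimitsOfSize.{w, w} A] [IsGrothendieckAbelian.{w} B] [F.Additive] [F.Faithful]
  [PreservesFiniteColimits F] [PreservesFilteredColimitsOfSize.{w, w} G] in
theorem mono_adjunct {a x : A} {N : B} (κ : x ⟶ G.obj N) (ι : x ⟶ a) [Mono ι]
    (n : N ⟶ F.obj a) (h : ι ≫ adj.unit.app a = κ ≫ G.map n) :
    Mono (F.map κ ≫ adj.counit.app N) := by
  have e : (F.map κ ≫ adj.counit.app N) ≫ n = F.map ι := by
    calc (F.map κ ≫ adj.counit.app N) ≫ n
        = F.map κ ≫ F.map (G.map n) ≫ adj.counit.app (F.obj a) := by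
          rw [Category.assoc]
          congr 1
          exact (adj.counit.naturality n).symm
      _ = F.map (κ ≫ G.map n) ≫ adj.counit.app (F.obj a) := by
          rw [F.map_comp, Category.assoc]
      _ = F.map (ι ≫ adj.unit.app a) ≫ adj.counit.app (F.obj a) := by rw [h]
      _ = F.map ι := by
          rw [F.map_comp, Category.assoc, adj.left_triangle_components, Category.comp_id]
  have : Mono ((F.map κ ≫ adj.counit.app N) ≫ n) := by
    rw [e]
    infer_instance
  exact mono_of_mono _ n

omit [HasColimitsOfSize.{w, w} A] [IsGrothendieckAbelian.{w} B] in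
/-- `F` reflects noetherian objects. -/
theorem isNoetherianObject_of_map (x : A) [IsNoetherianObject (F.obj x)] :
    IsNoetherianObject x := by
  rw [isNoetherianObject_iff_monotone_chain_condition]
  intro f
  have hm : Monotone (fun N : Subobject x => Subobject.mk (F.map N.arrow)) := fun N N' h =>
    Subobject.mk_le_mk_of_comm (F.map (Subobject.ofLE N N' h))
      (by rw [← F.map_comp, Subobject.ofLE_arrow])
  obtain ⟨n, hn⟩ := monotone_chain_condition_of_isNoetherianObject ⟨_, hm.comp f.2⟩
  exact ⟨n, fun m hm' => map_arrow_injective F x (hn m hm')⟩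

variable {ι : Type w} (s : ι → B) (hsN : ∀ i, IsNoetherianObject (s i))
  (hsep : ∀ ⦃X Y : B⦄ (f g : X ⟶ Y), (∀ (i : ι) (h : s i ⟶ X), h ≫ f = h ≫ g) → f = g)

include adj hsN hsep in
/-- The noetherian covering statement. -/
theorem exists_noeth_cover (a : A) :
    ∃ (x : FIdx s (F.obj a) → A) (ι' : ∀ j, x j ⟶ a),
      (∀ j, Mono (ι' j)) ∧ (∀ j, IsNoetherianObject (F.obj (x j))) ∧
      (∀ j, ∃ K : Subobject (cop (separator B)), ∃ κ : x j ⟶ G.obj (Q K), Mono κ) ∧
      (∀ ⦃a'' : A⦄ (k : a ⟶ a''), (∀ j, ι' j ≫ k = 0) → k = 0) ∧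
      (∀ j j' (_ : j ≤ j'), ∃ l : x j ⟶ x j', l ≫ ι' j' = ι' j) := by
  haveI : AB5OfSize.{w, w} A := ab5 F G adj
  haveI : PreservesLimitsOfSize.{0, 0} G := adj.rightAdjoint_preservesLimits
  haveI : G.PreservesMonomorphisms := inferInstance
  obtain ⟨x, κ, ι', hκ, hcomm, hepi, hmon⟩ :=
    exists_cover F G adj (finFunctor s (F.obj a)) (iSup_finFunctor_eq_top s (F.obj a) hsep)
  have hι : ∀ j, Mono (ι' j) := fun j => by
    haveI := hκ j
    haveI : Mono (ι' j ≫ adj.unit.app a) := by
      rw [hcomm j]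
      infer_instance
    exact mono_of_mono (ι' j) (adj.unit.app a)
  have hN : ∀ j, IsNoetherianObject (((finFunctor s (F.obj a)).obj j).obj.left) :=
    fun j => finSub_noeth s (F.obj a) hsN j
  refine ⟨x, ι', hι, fun j => ?_, fun j => ?_, hepi, fun j j' h => hmon j j' (homOfLE h)⟩
  · haveI := hι j
    haveI := hN j
    haveI := mono_adjunct F G adj (κ j) (ι' j) ((finFunctor s (F.obj a)).obj j).obj.hom (hcomm j)
    exact isNoetherianObject_of_mono (Y := ((finFunctor s (F.obj a)).obj j).obj.left)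
      (F.map (κ j) ≫ adj.counit.app _)
  · haveI := hN j
    haveI := hκ j
    obtain ⟨K, ⟨e⟩⟩ := exists_iso_Q_of_noetherian (isSeparator_separator B)
      (((finFunctor s (F.obj a)).obj j).obj.left)
    exact ⟨K, κ j ≫ G.map e.hom, mono_comp _ _⟩

include adj hsN hsep in
/-- `F` preserves and reflects noetherian objects. -/
theorem noetherian_iff (a : A) : IsNoetherianObject a ↔ IsNoetherianObject (F.obj a) := by
  constructor
  · intro ha
    obtain ⟨x, ι', hι, hxN, -, hepi, hmon⟩ := exists_noeth_cover F G adj s hsN hsep a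
    haveI : ∀ j, Mono (ι' j) := hι
    let σ : FIdx s (F.obj a) → Subobject a := fun j => Subobject.mk (ι' j)
    have hσ : Monotone σ := fun j j' h => by
      obtain ⟨l, hl⟩ := hmon j j' h
      exact Subobject.mk_le_mk_of_comm l hl
    obtain ⟨M, ⟨j₀, rfl⟩, hmax⟩ := wellFounded_gt.has_min (Set.range σ)
      ⟨σ (Classical.arbitrary _), ⟨_, rfl⟩⟩
    have hall : ∀ j, σ j ≤ σ j₀ := fun j => by
      obtain ⟨j₁, h1, h2⟩ := exists_ge_ge j j₀
      have a2 : σ j₀ ≤ σ j₁ := hσ h2
      have a3 : ¬ σ j₁ > σ j₀ := hmax _ ⟨j₁, rfl⟩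
      have a4 : σ j₁ = σ j₀ := by
        rcases a2.lt_or_eq with h' | h'
        · exact absurd h' a3
        · exact h'.symm
      exact (hσ h1).trans a4.le
    have hepi₀ : Epi (ι' j₀) := Preadditive.epi_of_cancel_zero _ (fun k hk => hepi k (fun j => by
      have hle : Subobject.mk (ι' j) ≤ Subobject.mk (ι' j₀) := hall j
      rw [← Subobject.ofMkLEMk_comp hle, Category.assoc, hk, comp_zero]))
    have hiso : IsIso (ι' j₀) := isIso_of_mono_of_epi _
    haveI := hxN j₀
    exact isNoetherianObject_of_mono (F.map (inv (ι' j₀)))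
  · intro h
    exact isNoetherianObject_of_map F a

include adj hsN hsep in
/-- A small separating family of noetherian objects of `A`. -/
theorem exists_noetherian_family :
    ∃ (κ : Type w) (t : κ → A), (∀ k, IsNoetherianObject (t k)) ∧
      ∀ ⦃X Y : A⦄ (f g : X ⟶ Y), (∀ (k : κ) (h : t k ⟶ X), h ≫ f = h ≫ g) → f = g := by
  haveI : WellPowered.{w} A := wellPowered_of_faithful F
  refine ⟨{k : Fam G (cop (separator B)) // IsNoetherianObject (fam G (cop (separator B)) k)},
    fun k => fam G (cop (separator B)) k.1, fun k => k.2, ?_⟩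
  intro X Y f g hfg
  obtain ⟨x, ι', hι, hxN, hQ, hepi, -⟩ := exists_noeth_cover F G adj s hsN hsep X
  rw [← sub_eq_zero]
  refine hepi (f - g) (fun j => ?_)
  obtain ⟨K, κ, hκ⟩ := hQ j
  haveI := hκ
  obtain ⟨k, ⟨e⟩⟩ := exists_fam_iso G K κ
  haveI := hxN j
  haveI : IsNoetherianObject (x j) := isNoetherianObject_of_map F (x j)
  have hk : IsNoetherianObject (fam G (cop (separator B)) k) := isNoetherianObject_of_iso e
  have h1 := hfg ⟨k, hk⟩ (e.hom ≫ ι' j)
  rw [Preadditive.comp_sub, sub_eq_zero]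
  have h2 : e.hom ≫ ι' j ≫ f = e.hom ≫ ι' j ≫ g := by simpa using h1
  exact (cancel_epi e.hom).1 h2

end Assembly2

end Groth.Agent.Lib.Helper10.FaithExact
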