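import Mathlib
import Groth.Prelude.Def_FibCat2
import Groth.Prelude.Def_W4stkcategoriessitesFib
import Groth.Agent.Lib.Helper10.FibRep

/-!
# Representability of the diagonal

* `isRepresentable_fp_of_diag`: if the diagonal `𝒮 ⟶ 𝒮 ×_C 𝒮` is representable then for functors
  `G' : C/V ⟶ 𝒮`, `G : C/U ⟶ 𝒮` over `C` the 2-fibre product is representable.
* `isRepresentable_fp_diag`: conversely the 2-fibre product of `H : C/W ⟶ 𝒮 ×_C 𝒮` with the
  diagonal is representable if the 2-fibre product of the two components of `H` is.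
-/

set_option autoImplicit false

universe v₅ u₅ v₄ u₄ v₃ u₃ v₂ u₂ v₁ u₁ v u

open CategoryTheory Functor CategoryTheory.Limits

namespace Groth.Agent.Lib.Helper10.Fib

section

variable {C : Type u} [Category.{v} C]

/-- `Over.map` as a functor over the base. -/
def overMapB {X Y : C} (f : X ⟶ Y) : FibCat.overCat X ⥤ᵇ FibCat.overCat Y :=
  ⟨Over.map f, Over.mapForget_eq f⟩

lemma left_eq_of_isHomLift {W : C} {A B : Over W} {T : C} (f : A.left ⟶ T) (k : A ⟶ B)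
    [inst : (Over.forget W).IsHomLift f k] (h : T = B.left) : k.left = f ≫ eqToHom h := by
  subst h
  rw [eqToHom_refl, Category.comp_id]
  exact (isHomLift_iff_eq (Over.forget W) f k).1 inst

end

section Forward

variable {C : Type u} [Category.{v} C] [HasBinaryProducts C] {𝒮 : BasedCategory.{v₂, u₂} C}
  {U V : C} (G' : FibCat.overCat V ⥤ᵇ 𝒮) (G : FibCat.overCat U ⥤ᵇ 𝒮)

/-- `(G' ∘ pr₁, G ∘ pr₂) : C/(V × U) ⟶ 𝒮 ×_C 𝒮`. -/
noncomputable def prodFunctor : FibCat.overCat (V ⨯ U) ⥤ᵇ FibCat.fp (FibCat.toSelf 𝒮) (FibCat.toSelf 𝒮) :=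
  FibCat.fpLift (BasedFunctor.comp (overMapB (prod.fst : V ⨯ U ⟶ V)) G')
    (BasedFunctor.comp (overMapB (prod.snd : V ⨯ U ⟶ U)) G) (selfIso _ _)

/-- The 2-isomorphism defining the comparison functor. -/
noncomputable def epsIso :
    BasedFunctor.comp (BasedFunctor.comp
      (FibCat.fpFst (prodFunctor G' G) (FibCat.diag (FibCat.toSelf 𝒮)))
      (overMapB (prod.fst : V ⨯ U ⟶ V))) G' ≅
    BasedFunctor.comp (BasedFunctor.comp
      (FibCat.fpFst (prodFunctor G' G) (FibCat.diag (FibCat.toSelf 𝒮)))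
      (overMapB (prod.snd : V ⨯ U ⟶ U))) G :=
  BasedNatIso.mkNatIso
    (NatIso.ofComponents (fun z => th1 (prodFunctor G' G) z ≪≫ (th2 (prodFunctor G' G) z).symm)
      (fun {z z'} m => by
        have e1 := hom_w1 (prodFunctor G' G) m
        have e2 := hom_w2 (prodFunctor G' G) m
        show ((prodFunctor G' G).map m.hom.fst).hom.fst ≫
            (th1 (prodFunctor G' G) z').hom ≫ (th2 (prodFunctor G' G) z').inv =
          ((th1 (prodFunctor G' G) z).hom ≫ (th2 (prodFunctor G' G) z).inv) ≫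
            ((prodFunctor G' G).map m.hom.fst).hom.snd
        rw [← Category.assoc, e1, Category.assoc, Category.assoc]
        congr 1
        rw [Iso.comp_inv_eq, Category.assoc, e2, Iso.inv_hom_id_assoc]))
    (fun z => by
      have := th1_lift (prodFunctor G' G) z
      have := th2_lift (prodFunctor G' G) z
      show 𝒮.p.IsHomLift (𝟙 ((FibCat.overCat (V ⨯ U)).p.obj z.obj.fst))
        ((th1 (prodFunctor G' G) z).hom ≫ (th2 (prodFunctor G' G) z).inv)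
      infer_instance)

/-- The comparison functor `C/(V × U) ×_{𝒮 × 𝒮} 𝒮 ⟶ C/V ×_𝒮 C/U`. -/
noncomputable def Psi : FibCat.fp (prodFunctor G' G) (FibCat.diag (FibCat.toSelf 𝒮)) ⥤ᵇ FibCat.fp G' G :=
  FibCat.fpLift _ _ (epsIso G' G)

theorem psi_faithful : (Psi G' G).toFunctor.Faithful := ⟨fun {z z'} m m' hm => by
  have h1 : (overMapB (prod.fst : V ⨯ U ⟶ V)).map m.hom.fst =
      (overMapB (prod.fst : V ⨯ U ⟶ V)).map m'.hom.fst := congrArg (fun t => t.hom.fst) hm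
  have hk : m.hom.fst = m'.hom.fst := by
    apply Over.OverMorphism.ext
    exact congrArg (fun t => t.left) h1
  have e1 := hom_w1 (prodFunctor G' G) m
  have e1' := hom_w1 (prodFunctor G' G) m'
  rw [hk] at e1
  have hσ : m.hom.snd = m'.hom.snd :=
    (cancel_epi (th1 (prodFunctor G' G) z).hom).1 (e1.symm.trans e1')
  apply ObjectProperty.hom_ext
  apply CategoricalPullback.hom_ext
  · exact hk
  · exact hσ⟩

theorem psi_full : (Psi G' G).toFunctor.Full := ⟨fun {z z'} n => by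
  have hl : (Over.forget U).IsHomLift n.hom.fst.left n.hom.snd :=
    FibCat.fp_isHomLift_snd G' G n
  have hleft : n.hom.snd.left = n.hom.fst.left :=
    (isHomLift_iff_eq (Over.forget U) (a := ((Psi G' G).obj z).obj.snd)
      (b := ((Psi G' G).obj z').obj.snd) n.hom.fst.left n.hom.snd).1 hl
  have hk : n.hom.fst.left ≫ homU (V ⨯ U) z'.obj.fst = homU (V ⨯ U) z.obj.fst := by
    apply Limits.prod.hom_ext
    · rw [Category.assoc]
      exact Over.w n.hom.fst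
    · rw [Category.assoc, ← hleft]
      exact Over.w n.hom.snd
  let k : z.obj.fst ⟶ z'.obj.fst := Over.homMk n.hom.fst.left hk
  have hk1 : (overMapB (prod.fst : V ⨯ U ⟶ V)).map k = n.hom.fst := Over.OverMorphism.ext rfl
  have hk2 : (overMapB (prod.snd : V ⨯ U ⟶ U)).map k = n.hom.snd :=
    Over.OverMorphism.ext hleft.symm
  have hw : G'.map n.hom.fst ≫
      ((th1 (prodFunctor G' G) z').hom ≫ (th2 (prodFunctor G' G) z').inv) =
      ((th1 (prodFunctor G' G) z).hom ≫ (th2 (prodFunctor G' G) z).inv) ≫ G.map n.hom.snd :=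
    n.hom.w
  rw [← hk1, ← hk2] at hw
  have hw' : ((prodFunctor G' G).map k).hom.fst ≫
      (th1 (prodFunctor G' G) z').hom ≫ (th2 (prodFunctor G' G) z').inv =
      ((th1 (prodFunctor G' G) z).hom ≫ (th2 (prodFunctor G' G) z).inv) ≫
        ((prodFunctor G' G).map k).hom.snd := hw
  refine ⟨mkHomD (prodFunctor G' G) k ((th1 (prodFunctor G' G) z).inv ≫
    ((prodFunctor G' G).map k).hom.fst ≫ (th1 (prodFunctor G' G) z').hom) ?_ ?_, ?_⟩
  · rw [Iso.hom_inv_id_assoc]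
  · calc ((prodFunctor G' G).map k).hom.snd ≫ (th2 (prodFunctor G' G) z').hom
        = ((th2 (prodFunctor G' G) z).hom ≫ (th1 (prodFunctor G' G) z).inv) ≫
          (((th1 (prodFunctor G' G) z).hom ≫ (th2 (prodFunctor G' G) z).inv) ≫
            ((prodFunctor G' G).map k).hom.snd) ≫ (th2 (prodFunctor G' G) z').hom := by simp
      _ = ((th2 (prodFunctor G' G) z).hom ≫ (th1 (prodFunctor G' G) z).inv) ≫
          (((prodFunctor G' G).map k).hom.fst ≫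
            (th1 (prodFunctor G' G) z').hom ≫ (th2 (prodFunctor G' G) z').inv) ≫
              (th2 (prodFunctor G' G) z').hom := by rw [hw']
      _ = (th2 (prodFunctor G' G) z).hom ≫ (th1 (prodFunctor G' G) z).inv ≫
          ((prodFunctor G' G).map k).hom.fst ≫ (th1 (prodFunctor G' G) z').hom := by simp
  · apply ObjectProperty.hom_ext
    apply CategoricalPullback.hom_ext
    · exact hk1
    · exact hk2⟩

theorem psi_essSurj : (Psi G' G).toFunctor.EssSurj := ⟨fun y => by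
  have hleft : y.obj.snd.left = y.obj.fst.left := (FibCat.fpSnd G' G).w_obj y
  have hy : 𝒮.p.IsHomLift (𝟙 y.obj.fst.left) y.obj.iso.hom := y.property
  let A : Over (V ⨯ U) :=
    Over.mk (prod.lift (homU V y.obj.fst) (eqToHom hleft.symm ≫ homU U y.obj.snd))
  let i₁ : (overMapB (prod.fst : V ⨯ U ⟶ V)).obj A ≅ y.obj.fst :=
    Over.isoMk (Iso.refl _) (by
      show 𝟙 _ ≫ homU V y.obj.fst =
        prod.lift (homU V y.obj.fst) (eqToHom hleft.symm ≫ homU U y.obj.snd) ≫ prod.fst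
      rw [Category.id_comp]
      exact (prod.lift_fst _ _).symm)
  let i₂ : (overMapB (prod.snd : V ⨯ U ⟶ U)).obj A ≅ y.obj.snd :=
    Over.isoMk (eqToIso hleft.symm) (by
      show eqToHom hleft.symm ≫ homU U y.obj.snd =
        prod.lift (homU V y.obj.fst) (eqToHom hleft.symm ≫ homU U y.obj.snd) ≫ prod.snd
      exact (prod.lift_snd _ _).symm)
  have a1 : 𝒮.p.IsHomLift (𝟙 y.obj.fst.left) (G'.map i₁.hom) :=
    isHomLift_map_over V G' i₁.hom
  have a2 : 𝒮.p.IsHomLift (eqToHom hleft.symm) (G.map i₂.hom) :=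
    isHomLift_map_over U G i₂.hom
  have a3 : 𝒮.p.IsHomLift (𝟙 y.obj.fst.left) (G.map i₂.hom) :=
    isHomLift_of_eqToHom 𝒮.p hleft.symm (G.map i₂.hom)
  have h₁ : 𝒮.p.IsHomLift (𝟙 y.obj.fst.left) (G'.map i₁.hom ≫ y.obj.iso.hom) := inferInstance
  let θ₁ : ((prodFunctor G' G).obj A).obj.fst ≅ G.obj y.obj.snd :=
    G'.toFunctor.mapIso i₁ ≪≫ y.obj.iso
  let θ₂ : ((prodFunctor G' G).obj A).obj.snd ≅ G.obj y.obj.snd := G.toFunctor.mapIso i₂
  let z := mkObjD (prodFunctor G' G) A (G.obj y.obj.snd) θ₁ θ₂ h₁ a3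
  refine ⟨z, ⟨(FibCat.fpProp G' G).isoMk (X := (Psi G' G).obj z) (Y := y)
    (CategoricalPullback.mkIso i₁ i₂ ?_)⟩⟩
  show G'.map i₁.hom ≫ y.obj.iso.hom =
    ((G'.map i₁.hom ≫ y.obj.iso.hom) ≫ (G.toFunctor.mapIso i₂).inv) ≫ G.map i₂.hom
  simp⟩

theorem isRepresentable_fp_of_diag (h𝒮 : FibCat.IsFibGrpd 𝒮.p)
    (hΔ : FibCat.IsRepresentable1 (FibCat.diag (FibCat.toSelf 𝒮))) :
    FibCat.IsRepresentable (FibCat.fp G' G) := by
  have h1 := hΔ (V ⨯ U) (prodFunctor G' G)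
  haveI := psi_faithful G' G
  haveI := psi_full G' G
  haveI := psi_essSurj G' G
  haveI : (Psi G' G).toFunctor.IsEquivalence := { }
  exact isRepresentable_of_functor_equivalence
    (isFibGrpd_fp G' G (isFibGrpd_overForget V) (isFibGrpd_overForget U) h𝒮)
    (Psi G' G).toFunctor h1

end Forward

section Backward

variable {C : Type u} [Category.{v} C] [HasBinaryProducts C] [HasPullbacks C]
  {𝒮 : BasedCategory.{v₂, u₂} C} {W : C}
  (H : FibCat.overCat W ⥤ᵇ FibCat.fp (FibCat.toSelf 𝒮) (FibCat.toSelf 𝒮))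

theorem isRepresentable_fp_diag (h𝒮 : FibCat.IsFibGrpd 𝒮.p)
    (hyp : FibCat.IsRepresentable (FibCat.fp
      (BasedFunctor.comp H (FibCat.fpFst (FibCat.toSelf 𝒮) (FibCat.toSelf 𝒮)))
      (BasedFunctor.comp H (FibCat.fpSnd (FibCat.toSelf 𝒮) (FibCat.toSelf 𝒮))))) :
    FibCat.IsRepresentable (FibCat.fp H (FibCat.diag (FibCat.toSelf 𝒮))) := by
  obtain ⟨Z₀, ⟨hZ₀⟩⟩ := exists_terminal_of_isRepresentable hyp
  haveI : HasEqualizers C := hasEqualizers_of_hasPullbacks_and_binary_products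
  let H₁ : FibCat.overCat W ⥤ᵇ 𝒮 :=
    BasedFunctor.comp H (FibCat.fpFst (FibCat.toSelf 𝒮) (FibCat.toSelf 𝒮))
  let H₂ : FibCat.overCat W ⥤ᵇ 𝒮 :=
    BasedFunctor.comp H (FibCat.fpSnd (FibCat.toSelf 𝒮) (FibCat.toSelf 𝒮))
  have hφ₀ : 𝒮.p.IsHomLift (𝟙 Z₀.obj.fst.left) Z₀.obj.iso.hom := Z₀.property
  have hl : Z₀.obj.snd.left = Z₀.obj.fst.left := (FibCat.fpSnd H₁ H₂).w_obj Z₀
  let a₀ : Z₀.obj.fst.left ⟶ W := homU W Z₀.obj.fst
  let b₀ : Z₀.obj.fst.left ⟶ W := eqToHom hl.symm ≫ homU W Z₀.obj.snd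
  obtain ⟨E, ι, hι, hlift⟩ : ∃ (E : C) (ι : E ⟶ Z₀.obj.fst.left), ι ≫ a₀ = ι ≫ b₀ ∧
      ∀ {T : C} (κ : T ⟶ Z₀.obj.fst.left), κ ≫ a₀ = κ ≫ b₀ →
        ∃! lam : T ⟶ E, lam ≫ ι = κ := by
    refine ⟨equalizer a₀ b₀, equalizer.ι a₀ b₀, equalizer.condition a₀ b₀, ?_⟩
    intro T κ hκ
    refine ⟨equalizer.lift κ hκ, equalizer.lift_ι κ hκ, ?_⟩
    intro y hy
    apply equalizer.hom_ext
    rw [hy, equalizer.lift_ι]
  let C₀ : (FibCat.overCat W).obj := Over.mk (ι ≫ a₀)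
  let ιA : C₀ ⟶ Z₀.obj.fst := Over.homMk ι rfl
  let ιB : C₀ ⟶ Z₀.obj.snd := Over.homMk (ι ≫ eqToHom hl.symm) (by
    show (ι ≫ eqToHom hl.symm) ≫ homU W Z₀.obj.snd = ι ≫ a₀
    rw [Category.assoc]
    exact hι.symm)
  have hHA : 𝒮.p.IsHomLift ι (H₁.map ιA) := isHomLift_map_over W H₁ ιA
  have hHB : 𝒮.p.IsHomLift (ι ≫ eqToHom hl.symm) (H₂.map ιB) := isHomLift_map_over W H₂ ιB
  have scB : 𝒮.p.IsStronglyCartesian (ι ≫ eqToHom hl.symm) (H₂.map ιB) :=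
    IsFibGrpd.sc h𝒮 _ _
  have hc1 : 𝒮.p.IsHomLift ι (H₁.map ιA ≫ Z₀.obj.iso.hom) := inferInstance
  have hc2 : 𝒮.p.IsHomLift (ι ≫ eqToHom hl.symm) (H₁.map ιA ≫ Z₀.obj.iso.hom) :=
    inferInstance
  obtain ⟨ψ₀, ⟨hψ1, hψ2⟩, -⟩ := IsStronglyCartesian.universal_property 𝒮.p
    (ι ≫ eqToHom hl.symm) (H₂.map ιB) (𝟙 E) (ι ≫ eqToHom hl.symm) (Category.id_comp _).symm
    (H₁.map ιA ≫ Z₀.obj.iso.hom)
  have := hψ1
  haveI : IsIso ψ₀ := IsFibGrpd.isIso_of_isHomLift_id h𝒮 (U := E) ψ₀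
  have hid : 𝒮.p.IsHomLift (𝟙 E) (𝟙 (H₂.obj C₀)) := IsHomLift.id (H₂.w_obj C₀)
  let Ψ₀ : H₁.obj C₀ ≅ H₂.obj C₀ := asIso ψ₀
  let z₀ : (FibCat.fp H (FibCat.diag (FibCat.toSelf 𝒮))).obj :=
    mkObjD H C₀ (H₂.obj C₀) Ψ₀ (Iso.refl _) hψ1 hid
  refine isRepresentable_of_terminal (isFibGrpd_fp H _ (isFibGrpd_overForget W) h𝒮
    (isFibGrpd_fp_self h𝒮 h𝒮)) (t := z₀) ?_
  have main : ∀ z : (FibCat.fp H (FibCat.diag (FibCat.toSelf 𝒮))).obj,
      ∃ m : z ⟶ z₀, ∀ m' : z ⟶ z₀, m' = m := by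
    intro z
    let t1 : H₁.obj z.obj.fst ≅ z.obj.snd := th1 H z
    let t2 : H₂.obj z.obj.fst ≅ z.obj.snd := th2 H z
    have l1 : 𝒮.p.IsHomLift (𝟙 z.obj.fst.left) t1.hom := th1_lift H z
    have l2 : 𝒮.p.IsHomLift (𝟙 z.obj.fst.left) t2.hom := th2_lift H z
    have l3 : 𝒮.p.IsHomLift (𝟙 z.obj.fst.left) (t1.hom ≫ t2.inv) := inferInstance
    let Ξz : (FibCat.fp H₁ H₂).obj := ⟨⟨z.obj.fst, z.obj.fst, t1 ≪≫ t2.symm⟩, l3⟩
    let K : Ξz ⟶ Z₀ := hZ₀.from Ξz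
    let k₁ : z.obj.fst ⟶ Z₀.obj.fst := K.hom.fst
    let k₂ : z.obj.fst ⟶ Z₀.obj.snd := K.hom.snd
    have hKw0 : H₁.map k₁ ≫ Z₀.obj.iso.hom = (t1.hom ≫ t2.inv) ≫ H₂.map k₂ := K.hom.w
    have hKw : H₁.map k₁ ≫ Z₀.obj.iso.hom = t1.hom ≫ t2.inv ≫ H₂.map k₂ :=
      hKw0.trans (Category.assoc _ _ _)
    have hKl : (Over.forget W).IsHomLift k₁.left k₂ := FibCat.fp_isHomLift_snd H₁ H₂ K
    have hk : k₂.left = k₁.left ≫ eqToHom hl.symm :=
      left_eq_of_isHomLift k₁.left k₂ hl.symm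
    have hκ : k₁.left ≫ a₀ = k₁.left ≫ b₀ := by
      have w1 : k₁.left ≫ homU W Z₀.obj.fst = homU W z.obj.fst := Over.w k₁
      have w2 : k₂.left ≫ homU W Z₀.obj.snd = homU W z.obj.fst := Over.w k₂
      show k₁.left ≫ homU W Z₀.obj.fst = k₁.left ≫ eqToHom hl.symm ≫ homU W Z₀.obj.snd
      rw [w1, ← Category.assoc, ← hk, w2]
    obtain ⟨lam, hlam, hlamu⟩ := hlift k₁.left hκ
    let l : z.obj.fst ⟶ C₀ := Over.homMk lam (by
      show lam ≫ ι ≫ a₀ = homU W z.obj.fst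
      rw [← Category.assoc, hlam]
      exact Over.w k₁)
    have hlA : l ≫ ιA = k₁ := Over.OverMorphism.ext hlam
    have hlB : l ≫ ιB = k₂ := Over.OverMorphism.ext (by
      show lam ≫ ι ≫ eqToHom hl.symm = k₂.left
      rw [← Category.assoc, hlam, hk])
    have hl1 : 𝒮.p.IsHomLift lam (H₁.map l) := isHomLift_map_over W H₁ l
    have hl2 : 𝒮.p.IsHomLift lam (H₂.map l) := isHomLift_map_over W H₂ l
    have e1 : H₁.map l ≫ ψ₀ = t1.hom ≫ t2.inv ≫ H₂.map l := by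
      have q1 : 𝒮.p.IsHomLift lam (H₁.map l ≫ ψ₀) := inferInstance
      have q2 : 𝒮.p.IsHomLift lam (t1.hom ≫ t2.inv ≫ H₂.map l) := inferInstance
      apply IsStronglyCartesian.ext 𝒮.p (ι ≫ eqToHom hl.symm) (H₂.map ιB) lam
      have s1 : (H₁.map l ≫ ψ₀) ≫ H₂.map ιB = H₁.map k₁ ≫ Z₀.obj.iso.hom := by
        rw [Category.assoc, hψ2, ← Category.assoc, ← H₁.toFunctor.map_comp, hlA]
      have s2 : (t1.hom ≫ t2.inv ≫ H₂.map l) ≫ H₂.map ιB =
          t1.hom ≫ t2.inv ≫ H₂.map k₂ := by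
        simp only [Category.assoc]
        rw [← H₂.toFunctor.map_comp, hlB]
      exact s1.trans (hKw.trans s2.symm)
    have e1' : (H.map l).hom.fst ≫ (th1 H z₀).hom =
        (th1 H z).hom ≫ (t2.inv ≫ H₂.map l) := e1
    have e2' : (H.map l).hom.snd ≫ (th2 H z₀).hom =
        (th2 H z).hom ≫ (t2.inv ≫ H₂.map l) := by
      show H₂.map l ≫ 𝟙 _ = t2.hom ≫ t2.inv ≫ H₂.map l
      rw [Category.comp_id, Iso.hom_inv_id_assoc]
    refine ⟨mkHomD H l (t2.inv ≫ H₂.map l) e1' e2', fun m' => ?_⟩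
    let l' : z.obj.fst ⟶ C₀ := m'.hom.fst
    let σ' : z.obj.snd ⟶ H₂.obj C₀ := m'.hom.snd
    have w1' : H₁.map l' ≫ ψ₀ = t1.hom ≫ σ' := hom_w1 H m'
    have w2' : H₂.map l' ≫ 𝟙 (H₂.obj C₀) = t2.hom ≫ σ' := hom_w2 H m'
    have w2'' : H₂.map l' = t2.hom ≫ σ' := by
      rw [← w2', Category.comp_id]
    have hσ' : σ' = t2.inv ≫ H₂.map l' := ((Iso.inv_comp_eq t2).2 w2'').symm
    let K' : Ξz ⟶ Z₀ := ObjectProperty.homMk ⟨l' ≫ ιA, l' ≫ ιB, by
      show H₁.map (l' ≫ ιA) ≫ Z₀.obj.iso.hom = (t1.hom ≫ t2.inv) ≫ H₂.map (l' ≫ ιB)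
      rw [H₁.toFunctor.map_comp, H₂.toFunctor.map_comp, Category.assoc, ← hψ2,
        ← Category.assoc (H₁.map l'), w1', hσ']
      simp only [Category.assoc]⟩
    have hK' : K' = K := hZ₀.hom_ext K' K
    have hfst : l' ≫ ιA = k₁ := congrArg (fun t => t.hom.fst) hK'
    have hleft' : l'.left ≫ ι = k₁.left := congrArg (fun t => t.left) hfst
    have hlam' : l'.left = lam := hlamu _ hleft'
    have hl' : l' = l := Over.OverMorphism.ext hlam'
    apply ObjectProperty.hom_ext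
    apply CategoricalPullback.hom_ext
    · exact hl'
    · show σ' = t2.inv ≫ H₂.map l
      rw [hσ']
      exact congrArg (fun t => t2.inv ≫ H₂.map t) hl'
  choose m hm using main
  exact IsTerminal.ofUniqueHom m hm

end Backward

end Groth.Agent.Lib.Helper10.Fib
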