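import Mathlib
import Groth.Prelude.Def_W4stkcategoriessitesFib
import Groth.Agent.Lib.Helper10.Fib2
import Groth.Agent.Lib.Helper10.FibGrpd

/-!
# Factorisation of a morphism of fibred categories

For `F : 𝒳 ⟶ 𝒴` over `C` the category `mid F` of triples `(x, y, f : y ⟶ F x)` with `f` over an
identity, with functors `uB : 𝒳 ⟶ mid F`, `vB : mid F ⟶ 𝒴`, `wB : mid F ⟶ 𝒳`.
-/

set_option autoImplicit false
set_option linter.style.haveILetI false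
set_option backward.isDefEq.respectTransparency false
set_option backward.isDefEq.respectTransparency.types false

universe v₃ u₃ v₂ u₂ v u

open CategoryTheory Functor

namespace Groth.Agent.Lib.Helper10.FibFactor

open Groth.Agent.Lib.Helper10.Fib

section Base

variable {𝒮 : Type u} [Category.{v} 𝒮] {𝒳 : Type u₂} [Category.{v₂} 𝒳] (p : 𝒳 ⥤ 𝒮)

lemma isHomLift_of_comp_id {R S : 𝒮} (g : R ⟶ S) {a b c : 𝒳} (φ : a ⟶ b) (ψ : b ⟶ c)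
    [p.IsHomLift g (φ ≫ ψ)] [p.IsHomLift (𝟙 S) ψ] : p.IsHomLift g φ := by
  have ha : p.obj a = R := IsHomLift.domain_eq p g (φ ≫ ψ)
  have hb : p.obj b = S := IsHomLift.domain_eq p (𝟙 S) ψ
  have hc : p.obj c = S := IsHomLift.codomain_eq p (𝟙 S) ψ
  apply IsHomLift.of_fac p g φ ha hb
  have h1 := IsHomLift.fac p g (φ ≫ ψ)
  have h2 := IsHomLift.fac' p (𝟙 S) ψ
  refine h1.trans ?_
  rw [p.map_comp, h2]
  simp

lemma isHomLift_comp_eqToHom {R S S' : 𝒮} (f : R ⟶ S) (e : S = S') {a b : 𝒳} (φ : a ⟶ b)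
    [p.IsHomLift f φ] : p.IsHomLift (f ≫ eqToHom e) φ := by
  subst e
  rw [eqToHom_refl, Category.comp_id]
  infer_instance

lemma sc_iso_comp {R S : 𝒮} (g : R ⟶ S) {a' a b : 𝒳} (i : a' ≅ a) (φ : a ⟶ b)
    [p.IsHomLift (𝟙 R) i.hom] [p.IsStronglyCartesian g φ] :
    p.IsStronglyCartesian g (i.hom ≫ φ) := by
  have h : p.IsStronglyCartesian (𝟙 R ≫ g) (i.hom ≫ φ) := inferInstance
  rwa [Category.id_comp] at h

end Base

variable {C : Type u} [Category.{v} C] {𝒳 : BasedCategory.{v₂, u₂} C}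
  {𝒴 : BasedCategory.{v₃, u₃} C} (F : 𝒳 ⥤ᵇ 𝒴)

/-- Objects of the middle category: `(x, y, f : y ⟶ F x)` with `f` over an identity. -/
structure Obj where
  /-- the object of `𝒳` -/
  x : 𝒳.obj
  /-- the object of `𝒴` -/
  y : 𝒴.obj
  /-- the vertical morphism -/
  f : y ⟶ F.obj x
  hf : 𝒴.p.IsHomLift (𝟙 (𝒳.p.obj x)) f

namespace Obj

variable {F}

/-- Morphisms of the middle category. -/
@[ext]
structure Hom (A B : Obj F) where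
  /-- component in `𝒳` -/
  a : A.x ⟶ B.x
  /-- component in `𝒴` -/
  b : A.y ⟶ B.y
  w : A.f ≫ F.map a = b ≫ B.f

instance : Category (Obj F) where
  Hom := Hom
  id A := ⟨𝟙 A.x, 𝟙 A.y, by simp⟩
  comp φ ψ := ⟨φ.a ≫ ψ.a, φ.b ≫ ψ.b, by
    rw [F.toFunctor.map_comp, ← Category.assoc, φ.w, Category.assoc, ψ.w, Category.assoc]⟩
  id_comp φ := Hom.ext (Category.id_comp _) (Category.id_comp _)
  comp_id φ := Hom.ext (Category.comp_id _) (Category.comp_id _)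
  assoc φ ψ χ := Hom.ext (Category.assoc _ _ _) (Category.assoc _ _ _)

lemma hom_ext {A B : Obj F} {φ ψ : A ⟶ B} (h₁ : φ.a = ψ.a) (h₂ : φ.b = ψ.b) : φ = ψ :=
  Hom.ext h₁ h₂

@[simp] lemma id_a (A : Obj F) : (𝟙 A : A ⟶ A).a = 𝟙 A.x := rfl
@[simp] lemma id_b (A : Obj F) : (𝟙 A : A ⟶ A).b = 𝟙 A.y := rfl
@[simp] lemma comp_a {A B D : Obj F} (φ : A ⟶ B) (ψ : B ⟶ D) : (φ ≫ ψ).a = φ.a ≫ ψ.a := rfl
@[simp] lemma comp_b {A B D : Obj F} (φ : A ⟶ B) (ψ : B ⟶ D) : (φ ≫ ψ).b = φ.b ≫ ψ.b := rfl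

end Obj

open Obj

/-- `(x, y, f) ↦ x`. -/
def wF : Obj F ⥤ 𝒳.obj where
  obj A := A.x
  map φ := φ.a
  map_id _ := rfl
  map_comp _ _ := rfl

/-- `(x, y, f) ↦ y`. -/
def vF : Obj F ⥤ 𝒴.obj where
  obj A := A.y
  map φ := φ.b
  map_id _ := rfl
  map_comp _ _ := rfl

/-- `x ↦ (x, F x, 𝟙)`. -/
def uF : 𝒳.obj ⥤ Obj F where
  obj x := ⟨x, F.obj x, 𝟙 _, IsHomLift.id (F.w_obj x)⟩
  map a := ⟨a, F.map a, by simp⟩
  map_id x := Obj.hom_ext rfl (F.toFunctor.map_id x)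
  map_comp a a' := Obj.hom_ext rfl (F.toFunctor.map_comp a a')

@[simp] lemma wF_map {A B : Obj F} (φ : A ⟶ B) : (wF F).map φ = φ.a := rfl
@[simp] lemma vF_map {A B : Obj F} (φ : A ⟶ B) : (vF F).map φ = φ.b := rfl
@[simp] lemma wF_obj (A : Obj F) : (wF F).obj A = A.x := rfl
@[simp] lemma vF_obj (A : Obj F) : (vF F).obj A = A.y := rfl

/-- The middle category over `C`. -/
def mid : BasedCategory.{max v₂ v₃, max u₂ u₃ v₃} C where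
  obj := Obj F
  p := wF F ⋙ 𝒳.p

lemma hom_b_lift {A B : Obj F} (φ : A ⟶ B) : 𝒴.p.IsHomLift (𝒳.p.map φ.a) φ.b := by
  haveI := A.hf
  haveI := B.hf
  haveI : 𝒴.p.IsHomLift (𝒳.p.map φ.a) (F.map φ.a) :=
    BasedFunctor.preserves_isHomLift F (𝒳.p.map φ.a) φ.a
  have h1 : 𝒴.p.IsHomLift (𝒳.p.map φ.a) (A.f ≫ F.map φ.a) :=
    IsHomLift.comp_lift_id_left 𝒴.p (𝒳.p.map φ.a) (F.map φ.a) A.f
  rw [φ.w] at h1
  haveI := h1
  exact isHomLift_of_comp_id 𝒴.p (𝒳.p.map φ.a) φ.b B.f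

/-- `wF` over `C`. -/
def wB : mid F ⥤ᵇ 𝒳 where
  toFunctor := wF F
  w := rfl

/-- `uF` over `C`. -/
def uB : 𝒳 ⥤ᵇ mid F where
  toFunctor := uF F
  w := rfl

/-- `vF` over `C`. -/
def vB : mid F ⥤ᵇ 𝒴 where
  toFunctor := vF F
  w := by
    refine CategoryTheory.Functor.ext (fun A => ?_) (fun A B φ => ?_)
    · haveI := A.hf
      exact IsHomLift.domain_eq 𝒴.p (𝟙 (𝒳.p.obj A.x)) A.f
    · haveI := hom_b_lift F φ
      exact IsHomLift.fac' 𝒴.p (𝒳.p.map φ.a) φ.b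

lemma lift_a {A B : Obj F} (φ : A ⟶ B) {R S : C} (g : R ⟶ S) [(mid F).p.IsHomLift g φ] :
    𝒳.p.IsHomLift g φ.a := by
  haveI : (wF F ⋙ 𝒳.p).IsHomLift g φ := ‹(mid F).p.IsHomLift g φ›
  exact isHomLift_map_of_comp (wF F) 𝒳.p g φ

lemma lift_b {A B : Obj F} (φ : A ⟶ B) {R S : C} (g : R ⟶ S) [(mid F).p.IsHomLift g φ] :
    𝒴.p.IsHomLift g φ.b :=
  BasedFunctor.preserves_isHomLift (vB F) g φ

lemma lift_of_a {A B : Obj F} (φ : A ⟶ B) {R S : C} (g : R ⟶ S) (h : 𝒳.p.IsHomLift g φ.a) :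
    (mid F).p.IsHomLift g φ := by
  haveI : 𝒳.p.IsHomLift g ((wF F).map φ) := h
  exact isHomLift_comp_map (wF F) 𝒳.p g φ

variable (hF : FibCat.PreservesStronglyCartesian F)

include hF in
lemma sc_of_sc {A B : Obj F} (φ : A ⟶ B) {R S : C} (g : R ⟶ S)
    (ha : 𝒳.p.IsStronglyCartesian g φ.a) (hb : 𝒴.p.IsStronglyCartesian g φ.b) :
    (mid F).p.IsStronglyCartesian g φ := by
  haveI := ha
  haveI := hb
  haveI hl : (mid F).p.IsHomLift g φ := lift_of_a F φ g inferInstance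
  haveI hFa : 𝒴.p.IsStronglyCartesian g (F.map φ.a) := hF g φ.a ha
  refine { universal_property' := ?_ }
  intro A'' g' φ'' hφ''
  haveI := hφ''
  haveI la : 𝒳.p.IsHomLift (g' ≫ g) φ''.a := lift_a F φ'' (g' ≫ g)
  haveI lb : 𝒴.p.IsHomLift (g' ≫ g) φ''.b := lift_b F φ'' (g' ≫ g)
  obtain ⟨c, ⟨hc1, hc2⟩, hc3⟩ :=
    IsStronglyCartesian.universal_property 𝒳.p g φ.a g' (g' ≫ g) rfl φ''.a
  obtain ⟨d, ⟨hd1, hd2⟩, hd3⟩ :=
    IsStronglyCartesian.universal_property 𝒴.p g φ.b g' (g' ≫ g) rfl φ''.b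
  haveI := hc1
  haveI := hd1
  have hsq : A''.f ≫ F.map c = d ≫ A.f := by
    haveI : 𝒴.p.IsHomLift g' (F.map c) := BasedFunctor.preserves_isHomLift F g' c
    haveI hA'' : 𝒴.p.IsHomLift (𝟙 ((mid F).p.obj A'')) A''.f := A''.hf
    haveI l1 : 𝒴.p.IsHomLift g' (A''.f ≫ F.map c) :=
      IsHomLift.comp_lift_id_left 𝒴.p g' (F.map c) A''.f
    haveI hAf : 𝒴.p.IsHomLift (𝟙 R) A.f := by
      haveI := A.hf
      exact isHomLift_id_of_eq 𝒴.p (IsHomLift.domain_eq 𝒳.p g φ.a) A.f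
    haveI l2 : 𝒴.p.IsHomLift g' (d ≫ A.f) := IsHomLift.comp_lift_id_right 𝒴.p g' d A.f
    apply IsStronglyCartesian.ext 𝒴.p g (F.map φ.a) g'
    calc (A''.f ≫ F.map c) ≫ F.map φ.a = A''.f ≫ F.map (c ≫ φ.a) := by
          rw [Category.assoc, F.toFunctor.map_comp]
      _ = φ''.b ≫ B.f := by rw [hc2, φ''.w]
      _ = (d ≫ φ.b) ≫ B.f := by rw [hd2]
      _ = (d ≫ A.f) ≫ F.map φ.a := by rw [Category.assoc, Category.assoc, φ.w]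
  refine ⟨⟨c, d, hsq⟩, ⟨lift_of_a F _ g' hc1, Obj.hom_ext hc2 hd2⟩, ?_⟩
  rintro χ ⟨hχ1, hχ2⟩
  haveI := hχ1
  haveI h1 : 𝒳.p.IsHomLift g' χ.a := lift_a F χ g'
  haveI h2 : 𝒴.p.IsHomLift g' χ.b := lift_b F χ g'
  apply Obj.hom_ext
  · exact hc3 χ.a ⟨h1, congrArg Hom.a hχ2⟩
  · exact hd3 χ.b ⟨h2, congrArg Hom.b hχ2⟩

include hF in
lemma exists_sc_lift [𝒳.p.IsFibered] [𝒴.p.IsFibered] (B : Obj F) {R S : C}
    (hB : 𝒳.p.obj B.x = S) (g : R ⟶ S) :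
    ∃ (A : Obj F) (φ : A ⟶ B), 𝒳.p.IsStronglyCartesian g φ.a ∧
      𝒴.p.IsStronglyCartesian g φ.b := by
  obtain ⟨x, a, ha⟩ := exists_sc' 𝒳.p hB g
  have hBy : 𝒴.p.obj B.y = S := by
    haveI := B.hf
    exact (IsHomLift.domain_eq 𝒴.p (𝟙 (𝒳.p.obj B.x)) B.f).trans hB
  obtain ⟨y, b, hb⟩ := exists_sc' 𝒴.p hBy g
  haveI := ha
  haveI := hb
  haveI hFa : 𝒴.p.IsStronglyCartesian g (F.map a) := hF g a ha
  haveI hBf : 𝒴.p.IsHomLift (𝟙 S) B.f := by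
    haveI := B.hf
    exact isHomLift_id_of_eq 𝒴.p hB B.f
  haveI l1 : 𝒴.p.IsHomLift g (b ≫ B.f) := IsHomLift.comp_lift_id_right 𝒴.p g b B.f
  obtain ⟨f, ⟨hf1, hf2⟩, -⟩ := IsStronglyCartesian.universal_property 𝒴.p g (F.map a) (𝟙 R) g
    (Category.id_comp g).symm (b ≫ B.f)
  have hx : 𝒳.p.obj x = R := IsHomLift.domain_eq 𝒳.p g a
  haveI := hf1
  have hf' : 𝒴.p.IsHomLift (𝟙 (𝒳.p.obj x)) f := isHomLift_id_of_eq 𝒴.p hx.symm f
  exact ⟨⟨x, y, f, hf'⟩, ⟨a, b, hf2⟩, ha, hb⟩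

include hF in
lemma isFibered_mid [𝒳.p.IsFibered] [𝒴.p.IsFibered] : (mid F).p.IsFibered := by
  apply Functor.IsFibered.of_exists_isStronglyCartesian
  intro B R g
  obtain ⟨A, φ, h1, h2⟩ := exists_sc_lift F hF B (rfl : 𝒳.p.obj B.x = 𝒳.p.obj B.x) g
  exact ⟨A, φ, sc_of_sc F hF φ g h1 h2⟩

include hF in
lemma sc_a_b [𝒳.p.IsFibered] [𝒴.p.IsFibered] {A B : Obj F} (φ : A ⟶ B) {R S : C} (g : R ⟶ S)
    (hφ : (mid F).p.IsStronglyCartesian g φ) :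
    𝒳.p.IsStronglyCartesian g φ.a ∧ 𝒴.p.IsStronglyCartesian g φ.b := by
  haveI := hφ
  have hB : 𝒳.p.obj B.x = S := IsHomLift.codomain_eq (mid F).p g φ
  obtain ⟨A₀, φ₀, h1, h2⟩ := exists_sc_lift F hF B hB g
  haveI := h1
  haveI := h2
  haveI h0 : (mid F).p.IsStronglyCartesian g φ₀ := sc_of_sc F hF φ₀ g h1 h2
  let ι : A ≅ A₀ := IsCartesian.domainUniqueUpToIso (mid F).p g φ₀ φ
  have hι : ι.hom ≫ φ₀ = φ := IsCartesian.fac (mid F).p g φ₀ φ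
  haveI lι : (mid F).p.IsHomLift (𝟙 R) ι.hom := inferInstance
  haveI la : 𝒳.p.IsHomLift (𝟙 R) ((wF F).mapIso ι).hom := lift_a F ι.hom (𝟙 R)
  haveI lb : 𝒴.p.IsHomLift (𝟙 R) ((vF F).mapIso ι).hom := lift_b F ι.hom (𝟙 R)
  have ea : φ.a = ((wF F).mapIso ι).hom ≫ φ₀.a := (congrArg Hom.a hι).symm
  have eb : φ.b = ((vF F).mapIso ι).hom ≫ φ₀.b := (congrArg Hom.b hι).symm
  constructor
  · rw [ea]; exact sc_iso_comp 𝒳.p g ((wF F).mapIso ι) φ₀.a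
  · rw [eb]; exact sc_iso_comp 𝒴.p g ((vF F).mapIso ι) φ₀.b

include hF in
lemma preserves_uB : FibCat.PreservesStronglyCartesian (uB F) := by
  intro R S g a b φ hφ
  exact sc_of_sc F hF ((uF F).map φ) g hφ (hF g φ hφ)

include hF in
lemma preserves_wB [𝒳.p.IsFibered] [𝒴.p.IsFibered] :
    FibCat.PreservesStronglyCartesian (wB F) := by
  intro R S g A B φ hφ
  exact (sc_a_b F hF φ g hφ).1

include hF in
lemma preserves_vB [𝒳.p.IsFibered] [𝒴.p.IsFibered] :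
    FibCat.PreservesStronglyCartesian (vB F) := by
  intro R S g A B φ hφ
  exact (sc_a_b F hF φ g hφ).2

lemma comp_uB_vB : BasedFunctor.comp (uB F) (vB F) = F := rfl

instance faithful_uF : (uF F).Faithful := ⟨fun {_ _} _ _ h => congrArg Hom.a h⟩

instance full_uF : (uF F).Full :=
  ⟨fun {x x'} φ => ⟨φ.a, Obj.hom_ext rfl (by
    have h : 𝟙 (F.obj x) ≫ F.map φ.a = φ.b ≫ 𝟙 (F.obj x') := φ.w
    exact (Category.id_comp _).symm.trans (h.trans (Category.comp_id _)))⟩⟩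

/-- `wF ⊣ uF`. -/
def adj : wF F ⊣ uF F :=
  Adjunction.mkOfHomEquiv
    { homEquiv := fun A x' =>
        { toFun := fun a => ⟨a, A.f ≫ F.map a, (Category.comp_id _).symm⟩
          invFun := fun φ => φ.a
          left_inv := fun _ => rfl
          right_inv := fun φ => Obj.hom_ext rfl (by
            have h : A.f ≫ F.map φ.a = φ.b ≫ 𝟙 (F.obj x') := φ.w
            exact h.trans (Category.comp_id _)) }
      homEquiv_naturality_left_symm := fun _ _ => rfl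
      homEquiv_naturality_right := fun {A x' x''} f g => Obj.hom_ext rfl (by
        show A.f ≫ F.map (f ≫ g) = (A.f ≫ F.map f) ≫ F.map g
        rw [F.toFunctor.map_comp, Category.assoc]) }

include hF in
lemma isFibered_vF [𝒳.p.IsFibered] : (vF F).IsFibered := by
  apply Functor.IsFibered.of_exists_isStronglyCartesian
  intro B y b
  change y ⟶ B.y at b
  haveI := B.hf
  have hBy : 𝒴.p.obj B.y = 𝒳.p.obj B.x := IsHomLift.domain_eq 𝒴.p (𝟙 (𝒳.p.obj B.x)) B.f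
  obtain ⟨g, hg⟩ : ∃ g : 𝒴.p.obj y ⟶ 𝒳.p.obj B.x, 𝒴.p.IsHomLift g b :=
    ⟨𝒴.p.map b ≫ eqToHom hBy, IsHomLift.of_fac 𝒴.p _ b rfl hBy (by simp)⟩
  haveI := hg
  obtain ⟨x, a, ha⟩ := exists_sc' 𝒳.p (rfl : 𝒳.p.obj B.x = 𝒳.p.obj B.x) g
  haveI := ha
  haveI hFa : 𝒴.p.IsStronglyCartesian g (F.map a) := hF g a ha
  haveI l1 : 𝒴.p.IsHomLift g (b ≫ B.f) := IsHomLift.comp_lift_id_right 𝒴.p g b B.f
  obtain ⟨f, ⟨hf1, hf2⟩, -⟩ := IsStronglyCartesian.universal_property 𝒴.p g (F.map a)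
    (𝟙 (𝒴.p.obj y)) g (Category.id_comp g).symm (b ≫ B.f)
  have hx : 𝒳.p.obj x = 𝒴.p.obj y := IsHomLift.domain_eq 𝒳.p g a
  haveI := hf1
  have hf' : 𝒴.p.IsHomLift (𝟙 (𝒳.p.obj x)) f := isHomLift_id_of_eq 𝒴.p hx.symm f
  let A : Obj F := ⟨x, y, f, hf'⟩
  let φ : A ⟶ B := ⟨a, b, hf2⟩
  refine ⟨A, φ, ?_⟩
  haveI hlφ : (vF F).IsHomLift b φ := IsHomLift.map (vF F) φ
  refine { universal_property' := ?_ }
  intro A'' d φ'' hφ''
  change A''.y ⟶ y at d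
  haveI := hφ''
  have hb'' : φ''.b = d ≫ b := by
    have := IsHomLift.fac' (vF F) (d ≫ b) φ''
    simpa using this
  haveI := A''.hf
  have hA''y : 𝒴.p.obj A''.y = 𝒳.p.obj A''.x :=
    IsHomLift.domain_eq 𝒴.p (𝟙 (𝒳.p.obj A''.x)) A''.f
  obtain ⟨h, hh⟩ : ∃ h : 𝒳.p.obj A''.x ⟶ 𝒴.p.obj y, 𝒴.p.IsHomLift h d :=
    ⟨eqToHom hA''y.symm ≫ 𝒴.p.map d, IsHomLift.of_fac 𝒴.p _ d hA''y rfl (by simp)⟩
  haveI := hh
  have e1 : 𝒳.p.map φ''.a = h ≫ g := by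
    haveI := hom_b_lift F φ''
    haveI : 𝒴.p.IsHomLift (h ≫ g) φ''.b := by
      rw [hb'']
      exact IsHomLift.comp 𝒴.p h g d b
    exact isHomLift_unique 𝒴.p (𝒳.p.map φ''.a) (h ≫ g) φ''.b
  haveI la : 𝒳.p.IsHomLift (h ≫ g) φ''.a := by
    rw [← e1]
    exact IsHomLift.map 𝒳.p φ''.a
  obtain ⟨c, ⟨hc1, hc2⟩, hc3⟩ :=
    IsStronglyCartesian.universal_property 𝒳.p g a h (h ≫ g) rfl φ''.a
  haveI := hc1
  have hsq : A''.f ≫ F.map c = d ≫ f := by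
    haveI : 𝒴.p.IsHomLift h (F.map c) := BasedFunctor.preserves_isHomLift F h c
    haveI l2 : 𝒴.p.IsHomLift h (A''.f ≫ F.map c) :=
      IsHomLift.comp_lift_id_left 𝒴.p h (F.map c) A''.f
    haveI l3 : 𝒴.p.IsHomLift h (d ≫ f) := IsHomLift.comp_lift_id_right 𝒴.p h d f
    apply IsStronglyCartesian.ext 𝒴.p g (F.map a) h
    calc (A''.f ≫ F.map c) ≫ F.map a = A''.f ≫ F.map (c ≫ a) := by
          rw [Category.assoc, F.toFunctor.map_comp]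
      _ = φ''.b ≫ B.f := by rw [hc2, φ''.w]
      _ = d ≫ b ≫ B.f := by rw [hb'', Category.assoc]
      _ = (d ≫ f) ≫ F.map a := by rw [Category.assoc, hf2]
  let χ₀ : A'' ⟶ A := ⟨c, d, hsq⟩
  have hlχ₀ : (vF F).IsHomLift d χ₀ := IsHomLift.map (vF F) χ₀
  refine ⟨χ₀, ⟨hlχ₀, Obj.hom_ext hc2 hb''.symm⟩, ?_⟩
  rintro χ ⟨hχ1, hχ2⟩
  haveI := hχ1
  have hχb : χ.b = d := by
    have := IsHomLift.fac' (vF F) d χ
    simpa using this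
  have hχa : 𝒳.p.IsHomLift h χ.a := by
    haveI l4 : 𝒴.p.IsHomLift (𝒳.p.map χ.a) χ.b := hom_b_lift F χ
    haveI l5 : 𝒴.p.IsHomLift (𝒳.p.map χ.a ≫ eqToHom hx) χ.b :=
      isHomLift_comp_eqToHom 𝒴.p (𝒳.p.map χ.a) hx χ.b
    haveI l6 : 𝒴.p.IsHomLift h χ.b := by rw [hχb]; exact hh
    have e2 : 𝒳.p.map χ.a ≫ eqToHom hx = h :=
      isHomLift_unique 𝒴.p (𝒳.p.map χ.a ≫ eqToHom hx) h χ.b
    rw [← e2]
    haveI : 𝒳.p.IsHomLift (𝒳.p.map χ.a) χ.a := IsHomLift.map 𝒳.p χ.a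
    exact isHomLift_comp_eqToHom 𝒳.p (𝒳.p.map χ.a) hx χ.a
  apply Obj.hom_ext
  · exact hc3 χ.a ⟨hχa, congrArg Hom.a hχ2⟩
  · exact hχb

end Groth.Agent.Lib.Helper10.FibFactor
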