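import Mathlib
import Groth.Agent.Lib.Helper10.Fib2

/-!
# Cartesian morphisms of the opposite functor

* `op_isHomLift_iff`, `op_isCartesian_iff`, `op_isCocartesian_iff`: lifting, cartesian and
  cocartesian morphisms for `p.op` in terms of `p`.
* `cocartesian_comp`: for a fibred `q`, cocartesian morphisms are stable under composition.
* `isFibered_iff_isFibered_op`.
-/

set_option autoImplicit false
set_option linter.style.haveILetI false

universe v₁ v₂ u₁ u₂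

open CategoryTheory Functor Opposite

namespace Groth.Agent.Lib.Helper10.FibOp

open Groth.Agent.Lib.Helper10.Fib

variable {𝒮 : Type u₁} {𝒳 : Type u₂} [Category.{v₁} 𝒮] [Category.{v₂} 𝒳] (p : 𝒳 ⥤ 𝒮)

lemma op_isHomLift_of {R S : 𝒮} {a b : 𝒳} (f : R ⟶ S) (φ : a ⟶ b) [h : p.IsHomLift f φ] :
    p.op.IsHomLift f.op φ.op := by
  cases h
  exact IsHomLift.map p.op φ.op

lemma isHomLift_of_op {R S : 𝒮ᵒᵖ} {a b : 𝒳ᵒᵖ} (f : R ⟶ S) (φ : a ⟶ b) [h : p.op.IsHomLift f φ] :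
    p.IsHomLift f.unop φ.unop := by
  cases h
  exact IsHomLift.map p φ.unop

lemma op_isHomLift_iff {R S : 𝒮ᵒᵖ} {a b : 𝒳ᵒᵖ} (f : R ⟶ S) (φ : a ⟶ b) :
    p.op.IsHomLift f φ ↔ p.IsHomLift f.unop φ.unop :=
  ⟨fun _ => isHomLift_of_op p f φ, fun _ => op_isHomLift_of p f.unop φ.unop⟩

lemma op_isCartesian_iff {R S : 𝒮ᵒᵖ} {a b : 𝒳ᵒᵖ} (f : R ⟶ S) (φ : a ⟶ b) :
    p.op.IsCartesian f φ ↔ p.IsCocartesian f.unop φ.unop := by
  constructor
  · intro h
    haveI : p.IsHomLift f.unop φ.unop := isHomLift_of_op p f φ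
    refine { universal_property := ?_ }
    intro b' φ' hφ'
    haveI : p.op.IsHomLift f φ'.op := op_isHomLift_of p f.unop φ'
    obtain ⟨χ', ⟨h1, h2⟩, h3⟩ := h.universal_property φ'.op
    haveI := h1
    refine ⟨χ'.unop, ⟨isHomLift_of_op p (𝟙 R) χ', congrArg Quiver.Hom.unop h2⟩, ?_⟩
    rintro χ₂ ⟨h4, h5⟩
    haveI := h4
    have := h3 χ₂.op ⟨op_isHomLift_of p (𝟙 R.unop) χ₂, congrArg Quiver.Hom.op h5⟩
    exact congrArg Quiver.Hom.unop this
  · intro h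
    haveI : p.op.IsHomLift f φ := op_isHomLift_of p f.unop φ.unop
    refine { universal_property := ?_ }
    intro a' φ' hφ'
    haveI : p.IsHomLift f.unop φ'.unop := isHomLift_of_op p f φ'
    obtain ⟨χ', ⟨h1, h2⟩, h3⟩ := h.universal_property φ'.unop
    haveI := h1
    refine ⟨χ'.op, ⟨op_isHomLift_of p (𝟙 R.unop) χ', congrArg Quiver.Hom.op h2⟩, ?_⟩
    rintro χ₂ ⟨h4, h5⟩
    haveI := h4
    have := h3 χ₂.unop ⟨isHomLift_of_op p (𝟙 R) χ₂, congrArg Quiver.Hom.unop h5⟩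
    exact congrArg Quiver.Hom.op this

lemma op_isCocartesian_iff {R S : 𝒮ᵒᵖ} {a b : 𝒳ᵒᵖ} (f : R ⟶ S) (φ : a ⟶ b) :
    p.op.IsCocartesian f φ ↔ p.IsCartesian f.unop φ.unop := by
  constructor
  · intro h
    haveI : p.IsHomLift f.unop φ.unop := isHomLift_of_op p f φ
    refine { universal_property := ?_ }
    intro a' φ' hφ'
    haveI : p.op.IsHomLift f φ'.op := op_isHomLift_of p f.unop φ'
    obtain ⟨χ', ⟨h1, h2⟩, h3⟩ := h.universal_property φ'.op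
    haveI := h1
    refine ⟨χ'.unop, ⟨isHomLift_of_op p (𝟙 S) χ', congrArg Quiver.Hom.unop h2⟩, ?_⟩
    rintro χ₂ ⟨h4, h5⟩
    haveI := h4
    have := h3 χ₂.op ⟨op_isHomLift_of p (𝟙 S.unop) χ₂, congrArg Quiver.Hom.op h5⟩
    exact congrArg Quiver.Hom.unop this
  · intro h
    haveI : p.op.IsHomLift f φ := op_isHomLift_of p f.unop φ.unop
    refine { universal_property := ?_ }
    intro b' φ' hφ'
    haveI : p.IsHomLift f.unop φ'.unop := isHomLift_of_op p f φ'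
    obtain ⟨χ', ⟨h1, h2⟩, h3⟩ := h.universal_property φ'.unop
    haveI := h1
    refine ⟨χ'.op, ⟨op_isHomLift_of p (𝟙 S.unop) χ', congrArg Quiver.Hom.op h2⟩, ?_⟩
    rintro χ₂ ⟨h4, h5⟩
    haveI := h4
    have := h3 χ₂.unop ⟨isHomLift_of_op p (𝟙 S) χ₂, congrArg Quiver.Hom.unop h5⟩
    exact congrArg Quiver.Hom.op this

/-- For a fibred functor, cocartesian morphisms are stable under composition. -/
lemma cocartesian_comp [p.IsFibered] {R S T : 𝒮} (f : R ⟶ S) (g : S ⟶ T) {a b c : 𝒳}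
    (φ : a ⟶ b) (ψ : b ⟶ c) [p.IsCocartesian f φ] [p.IsCocartesian g ψ] :
    p.IsCocartesian (f ≫ g) (φ ≫ ψ) := by
  refine { universal_property := ?_ }
  intro d χ hχ
  have hd : p.obj d = T := IsHomLift.codomain_eq p (f ≫ g) χ
  obtain ⟨e, κ, hκ⟩ := exists_sc' p hd g
  haveI := hκ
  obtain ⟨χ', ⟨hχ'1, hχ'2⟩, -⟩ :=
    IsStronglyCartesian.universal_property p g κ f (f ≫ g) rfl χ
  haveI := hχ'1
  have hθ'1 : p.IsHomLift (𝟙 S) (IsCocartesian.map p f φ χ') := inferInstance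
  have hθ'2 : φ ≫ IsCocartesian.map p f φ χ' = χ' := IsCocartesian.fac p f φ χ'
  obtain ⟨θ', hθ'⟩ : ∃ θ' : b ⟶ e, θ' = IsCocartesian.map p f φ χ' := ⟨_, rfl⟩
  rw [← hθ'] at hθ'1 hθ'2
  haveI := hθ'1
  haveI l1 : p.IsHomLift g (θ' ≫ κ) := IsHomLift.comp_lift_id_left p g κ θ'
  have hθ1 : p.IsHomLift (𝟙 T) (IsCocartesian.map p g ψ (θ' ≫ κ)) := inferInstance
  have hθ2 : ψ ≫ IsCocartesian.map p g ψ (θ' ≫ κ) = θ' ≫ κ := IsCocartesian.fac p g ψ (θ' ≫ κ)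
  refine ⟨IsCocartesian.map p g ψ (θ' ≫ κ), ⟨hθ1, ?_⟩, ?_⟩
  · rw [Category.assoc, hθ2, ← Category.assoc, hθ'2, hχ'2]
  · rintro θ₂ ⟨h1, h2⟩
    haveI := h1
    apply IsCocartesian.map_uniq p g ψ (θ' ≫ κ) θ₂
    haveI l2 : p.IsHomLift g (ψ ≫ θ₂) := IsHomLift.comp_lift_id_right p g ψ θ₂
    obtain ⟨η, ⟨hη1, hη2⟩, -⟩ :=
      IsStronglyCartesian.universal_property p g κ (𝟙 S) g (Category.id_comp g).symm (ψ ≫ θ₂)
    haveI := hη1
    haveI l3 : p.IsHomLift f (φ ≫ η) := IsHomLift.comp_lift_id_right p f φ η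
    have e1 : φ ≫ η = χ' := by
      apply IsStronglyCartesian.ext p g κ f
      rw [Category.assoc, hη2, hχ'2, ← Category.assoc]
      exact h2
    have e2 : η = θ' := by
      rw [hθ']
      exact IsCocartesian.map_uniq p f φ χ' η e1
    rw [← hη2, e2]

theorem isFibered_iff_isFibered_op [p.IsPreFibered] [p.op.IsPreFibered] :
    p.IsFibered ↔ p.op.IsFibered := by
  constructor
  · intro h
    refine { comp := ?_ }
    intro R S T f g a b c φ ψ hφ hψ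
    haveI := (op_isCartesian_iff p f φ).1 hφ
    haveI := (op_isCartesian_iff p g ψ).1 hψ
    exact (op_isCartesian_iff p (f ≫ g) (φ ≫ ψ)).2
      (cocartesian_comp p g.unop f.unop ψ.unop φ.unop)
  · intro h
    refine { comp := ?_ }
    intro R S T f g a b c φ ψ hφ hψ
    haveI : p.op.IsCocartesian f.op φ.op := (op_isCocartesian_iff p f.op φ.op).2 hφ
    haveI : p.op.IsCocartesian g.op ψ.op := (op_isCocartesian_iff p g.op ψ.op).2 hψ
    exact (op_isCocartesian_iff p (g.op ≫ f.op) (ψ.op ≫ φ.op)).1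
      (cocartesian_comp p.op g.op f.op ψ.op φ.op)

end Groth.Agent.Lib.Helper10.FibOp
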