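import Mathlib
import Groth.Prelude.Def_FilD

set_option backward.isDefEq.respectTransparency false
set_option backward.isDefEq.respectTransparency.types false
set_option autoImplicit false

universe v u

open CategoryTheory CategoryTheory.Limits Opposite

namespace H10Fil

variable {A : Type u} [Category.{v} A] [Abelian A]

/-! ### Refinement predicates and abstract diagram chases -/

/-- exactness of `f`, `g` at the middle, in refinement form. -/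
def RefEx {X Y Z : A} (f : X ⟶ Y) (g : Y ⟶ Z) : Prop :=
  ∀ ⦃T : A⦄ (y : T ⟶ Y), y ≫ g = 0 →
    ∃ (T' : A) (π : T' ⟶ T) (_ : Epi π) (x : T' ⟶ X), π ≫ y = x ≫ f

lemma refEx_iff {X Y Z : A} (f : X ⟶ Y) (g : Y ⟶ Z) (w : f ≫ g = 0) :
    RefEx f g ↔ (ShortComplex.mk f g w).Exact :=
  ⟨fun h => (ShortComplex.exact_iff_exact_up_to_refinements _).2 h,
    fun h => (ShortComplex.exact_iff_exact_up_to_refinements _).1 h⟩

/-- elements of `Y'` whose image in `Y` comes from `X` come from `X'`. -/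
def RefStr {X' Y' X Y : A} (iY : Y' ⟶ Y) (φ' : X' ⟶ Y') (φ : X ⟶ Y) : Prop :=
  ∀ ⦃T : A⦄ (y : T ⟶ Y') (x : T ⟶ X), y ≫ iY = x ≫ φ →
    ∃ (T' : A) (π : T' ⟶ T) (_ : Epi π) (x' : T' ⟶ X'), π ≫ y = x' ≫ φ'

lemma refEx_mid {X' X X'' Y' Y Y'' Z' Z Z'' : A}
    {iX : X' ⟶ X} {pX : X ⟶ X''} {iY : Y' ⟶ Y} {pY : Y ⟶ Y''} {iZ : Z' ⟶ Z} {pZ : Z ⟶ Z''}
    {f' : X' ⟶ Y'} {f : X ⟶ Y} {f'' : X'' ⟶ Y''} {g' : Y' ⟶ Z'} {g : Y ⟶ Z} {g'' : Y'' ⟶ Z''}
    [Epi pX] [Mono iZ]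
    (rowY : RefEx iY pY)
    (c1 : iX ≫ f = f' ≫ iY) (c2 : pX ≫ f'' = f ≫ pY) (c3 : iY ≫ g = g' ≫ iZ)
    (c4 : pY ≫ g'' = g ≫ pZ)
    (fg : f ≫ g = 0) (E' : RefEx f' g') (E'' : RefEx f'' g'') : RefEx f g := by
  intro T y hy
  have e0 : (y ≫ pY) ≫ g'' = 0 := by
    rw [Category.assoc, c4, ← Category.assoc, hy, zero_comp]
  obtain ⟨T1, π1, _, xb, hxb⟩ := E'' (y ≫ pY) e0
  obtain ⟨T2, π2, _, x, hx⟩ := surjective_up_to_refinements_of_epi pX xb
  have e1 : (π2 ≫ π1 ≫ y - x ≫ f) ≫ pY = 0 := by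
    have h1 : x ≫ f ≫ pY = π2 ≫ π1 ≫ y ≫ pY := by
      rw [← c2, ← Category.assoc x pX f'', ← hx, Category.assoc, ← hxb]
    simp only [Preadditive.sub_comp, Category.assoc, h1, sub_self]
  obtain ⟨T3, π3, _, y', hy'⟩ := rowY _ e1
  have e2 : y' ≫ g' = 0 := by
    rw [← cancel_mono iZ, Category.assoc, ← c3, ← Category.assoc, ← hy', zero_comp]
    simp only [Preadditive.sub_comp, Category.assoc, hy, fg, comp_zero, sub_self]
  obtain ⟨T4, π4, _, x', hx'⟩ := E' y' e2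
  refine ⟨T4, π4 ≫ π3 ≫ π2 ≫ π1, inferInstance, π4 ≫ π3 ≫ x + x' ≫ iX, ?_⟩
  have key : π4 ≫ π3 ≫ (π2 ≫ π1 ≫ y - x ≫ f) = x' ≫ iX ≫ f := by
    rw [hy', ← Category.assoc, hx', Category.assoc, c1]
  simp only [Preadditive.comp_sub] at key
  simp only [Category.assoc, Preadditive.add_comp]
  rw [← key]
  abel

lemma refStr_g {X X'' Y' Y Y'' Z' Z Z'' : A}
    {pX : X ⟶ X''} {iY : Y' ⟶ Y} {pY : Y ⟶ Y''} {iZ : Z' ⟶ Z} {pZ : Z ⟶ Z''}
    {f : X ⟶ Y} {f'' : X'' ⟶ Y''} {g' : Y' ⟶ Z'} {g : Y ⟶ Z} {g'' : Y'' ⟶ Z''}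
    [Epi pX] [Mono iZ] (rowY : RefEx iY pY) (zZ : iZ ≫ pZ = 0)
    (c2 : pX ≫ f'' = f ≫ pY) (c3 : iY ≫ g = g' ≫ iZ) (c4 : pY ≫ g'' = g ≫ pZ)
    (fg : f ≫ g = 0) (E'' : RefEx f'' g'') : RefStr iZ g' g := by
  intro T z y hzy
  have e0 : (y ≫ pY) ≫ g'' = 0 := by
    rw [Category.assoc, c4, ← Category.assoc, ← hzy, Category.assoc, zZ, comp_zero]
  obtain ⟨T1, π1, _, xb, hxb⟩ := E'' (y ≫ pY) e0
  obtain ⟨T2, π2, _, x, hx⟩ := surjective_up_to_refinements_of_epi pX xb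
  have e1 : (π2 ≫ π1 ≫ y - x ≫ f) ≫ pY = 0 := by
    have h1 : x ≫ f ≫ pY = π2 ≫ π1 ≫ y ≫ pY := by
      rw [← c2, ← Category.assoc x pX f'', ← hx, Category.assoc, ← hxb]
    simp only [Preadditive.sub_comp, Category.assoc, h1, sub_self]
  obtain ⟨T3, π3, _, y', hy'⟩ := rowY _ e1
  refine ⟨T3, π3 ≫ π2 ≫ π1, inferInstance, y', ?_⟩
  rw [← cancel_mono iZ]
  calc ((π3 ≫ π2 ≫ π1) ≫ z) ≫ iZ = π3 ≫ π2 ≫ π1 ≫ y ≫ g := by
        simp only [Category.assoc, hzy]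
    _ = π3 ≫ (π2 ≫ π1 ≫ y - x ≫ f) ≫ g := by
        simp only [Preadditive.sub_comp, Category.assoc, fg, comp_zero, sub_zero]
    _ = (y' ≫ g') ≫ iZ := by
        rw [← Category.assoc, hy', Category.assoc, c3, Category.assoc]

lemma refStr_f {X' X Y' Y Z' Z : A} {iY : Y' ⟶ Y} {iZ : Z' ⟶ Z} {f' : X' ⟶ Y'} {f : X ⟶ Y}
    {g' : Y' ⟶ Z'} {g : Y ⟶ Z}
    [Mono iZ] (c3 : iY ≫ g = g' ≫ iZ) (fg : f ≫ g = 0) (E' : RefEx f' g') : RefStr iY f' f := by
  intro T y x hyx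
  have e : y ≫ g' = 0 := by
    rw [← cancel_mono iZ, Category.assoc, ← c3, ← Category.assoc, hyx, Category.assoc, fg,
      comp_zero, zero_comp]
  exact E' y e

lemma refEx_gr_of_str {K K'' X' X X'' Y' Y Y'' : A}
    {pK : K ⟶ K''} {iX : X' ⟶ X} {pX : X ⟶ X''} {iY : Y' ⟶ Y} {pY : Y ⟶ Y''}
    {k : K ⟶ X} {k'' : K'' ⟶ X''} {φ' : X' ⟶ Y'} {φ : X ⟶ Y} {φ'' : X'' ⟶ Y''}
    [Epi pX] (rowY : RefEx iY pY) (zX : iX ≫ pX = 0)
    (cK : pK ≫ k'' = k ≫ pX) (c1 : iX ≫ φ = φ' ≫ iY) (c2 : pX ≫ φ'' = φ ≫ pY)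
    (EK : RefEx k φ) (hs : RefStr iY φ' φ) : RefEx k'' φ'' := by
  intro T xb hxb
  obtain ⟨T1, π1, _, x, hx⟩ := surjective_up_to_refinements_of_epi pX xb
  have e0 : (x ≫ φ) ≫ pY = 0 := by
    rw [Category.assoc, ← c2, ← Category.assoc, ← hx, Category.assoc, hxb, comp_zero]
  obtain ⟨T2, π2, _, y, hy⟩ := rowY _ e0
  obtain ⟨T3, π3, _, x', hx'⟩ := hs y (π2 ≫ x) (by rw [Category.assoc]; exact hy.symm)
  have e1 : (π3 ≫ π2 ≫ x - x' ≫ iX) ≫ φ = 0 := by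
    have h1 : x' ≫ iX ≫ φ = π3 ≫ π2 ≫ x ≫ φ := by
      rw [c1, ← Category.assoc x' φ' iY, ← hx', Category.assoc, hy]
    simp only [Preadditive.sub_comp, Category.assoc, h1, sub_self]
  obtain ⟨T4, π4, _, kk, hkk⟩ := EK _ e1
  refine ⟨T4, π4 ≫ π3 ≫ π2 ≫ π1, inferInstance, kk ≫ pK, ?_⟩
  calc (π4 ≫ π3 ≫ π2 ≫ π1) ≫ xb = π4 ≫ π3 ≫ π2 ≫ x ≫ pX := by
        simp only [Category.assoc, hx]
    _ = π4 ≫ (π3 ≫ π2 ≫ x - x' ≫ iX) ≫ pX := by
        simp only [Preadditive.sub_comp, Category.assoc, zX, comp_zero, sub_zero]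
    _ = (kk ≫ pK) ≫ k'' := by
        rw [← Category.assoc, hkk, Category.assoc, Category.assoc, cK]

lemma refStr_of_refEx_gr {K K'' X' X X'' Y' Y Y'' : A}
    {pK : K ⟶ K''} {iX : X' ⟶ X} {pX : X ⟶ X''} {iY : Y' ⟶ Y} {pY : Y ⟶ Y''}
    {k : K ⟶ X} {k'' : K'' ⟶ X''} {φ' : X' ⟶ Y'} {φ : X ⟶ Y} {φ'' : X'' ⟶ Y''}
    [Epi pK] [Mono iY] (rowX : RefEx iX pX) (zY : iY ≫ pY = 0)
    (cK : pK ≫ k'' = k ≫ pX) (c1 : iX ≫ φ = φ' ≫ iY) (c2 : pX ≫ φ'' = φ ≫ pY)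
    (kφ : k ≫ φ = 0) (Egr : RefEx k'' φ'') : RefStr iY φ' φ := by
  intro T y x hyx
  have e0 : (x ≫ pX) ≫ φ'' = 0 := by
    rw [Category.assoc, c2, ← Category.assoc, ← hyx, Category.assoc, zY, comp_zero]
  obtain ⟨T1, π1, _, kb, hkb⟩ := Egr _ e0
  obtain ⟨T2, π2, _, kk, hkk⟩ := surjective_up_to_refinements_of_epi pK kb
  have e1 : (π2 ≫ π1 ≫ x - kk ≫ k) ≫ pX = 0 := by
    have h1 : kk ≫ k ≫ pX = π2 ≫ π1 ≫ x ≫ pX := by
      rw [← cK, ← Category.assoc kk pK k'', ← hkk, Category.assoc, ← hkb]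
    simp only [Preadditive.sub_comp, Category.assoc, h1, sub_self]
  obtain ⟨T3, π3, _, x', hx'⟩ := rowX _ e1
  refine ⟨T3, π3 ≫ π2 ≫ π1, inferInstance, x', ?_⟩
  rw [← cancel_mono iY]
  calc ((π3 ≫ π2 ≫ π1) ≫ y) ≫ iY = π3 ≫ π2 ≫ π1 ≫ x ≫ φ := by
        simp only [Category.assoc, hyx]
    _ = π3 ≫ (π2 ≫ π1 ≫ x - kk ≫ k) ≫ φ := by
        simp only [Preadditive.sub_comp, Category.assoc, kφ, comp_zero, sub_zero]
    _ = (x' ≫ φ') ≫ iY := by
        rw [← Category.assoc, hx', Category.assoc, c1, Category.assoc]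

/-! ### Downward induction on `ℤ` -/

lemma down_ind (P : ℤ → Prop) (b : ℤ) (h0 : ∀ p, b ≤ p → P p) (h1 : ∀ p, P (p + 1) → P p) :
    ∀ p, P p := by
  intro p
  by_cases hp : b ≤ p
  · exact h0 p hp
  · obtain ⟨k, hk⟩ : ∃ k : ℕ, p + k = b := ⟨(b - p).toNat, by omega⟩
    clear hp
    induction k generalizing p with
    | zero => exact h0 p (by omega)
    | succ k ih =>
      apply h1
      exact ih (p + 1) (by push_cast at hk; omega)

/-! ### Functors `ℤᵒᵖ ⥤ A` -/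

/-- transition map `F q ⟶ F p` for `p ≤ q`. -/
noncomputable abbrev tr (F : ℤᵒᵖ ⥤ A) (p q : ℤ) (h : p ≤ q) : F.obj (op q) ⟶ F.obj (op p) :=
  F.map (homOfLE h).op

lemma map_eq (F : ℤᵒᵖ ⥤ A) {P Q : ℤᵒᵖ} (f g : P ⟶ Q) : F.map f = F.map g := by
  rw [Subsingleton.elim f g]

lemma tr_comp (F : ℤᵒᵖ ⥤ A) (p q r : ℤ) (h1 : p ≤ q) (h2 : q ≤ r) :
    tr F q r h2 ≫ tr F p q h1 = tr F p r (h1.trans h2) := by
  unfold tr
  rw [← F.map_comp]
  exact map_eq F _ _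

lemma tr_self (F : ℤᵒᵖ ⥤ A) (p : ℤ) (h : p ≤ p) : tr F p p h = 𝟙 _ := by
  unfold tr
  rw [map_eq F (homOfLE h).op (𝟙 (op p)), F.map_id]

/-- the projection onto the graded piece. -/
noncomputable abbrev grπ (F : ℤᵒᵖ ⥤ A) (p : ℤ) : F.obj (op p) ⟶ (FilD.gr A p).obj F :=
  cokernel.π (F.map (FilD.stepHom p))

@[reassoc]
lemma st_grπ (F : ℤᵒᵖ ⥤ A) (p : ℤ) : F.map (FilD.stepHom p) ≫ grπ F p = 0 :=
  cokernel.condition _

@[reassoc]
lemma grπ_map {F G : ℤᵒᵖ ⥤ A} (φ : F ⟶ G) (p : ℤ) :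
    grπ F p ≫ (FilD.gr A p).map φ = φ.app (op p) ≫ grπ G p := by
  dsimp only [grπ, FilD.gr]
  exact cokernel.π_desc _ _ _

lemma row (F : ℤᵒᵖ ⥤ A) (p : ℤ) : RefEx (F.map (FilD.stepHom p)) (grπ F p) :=
  (refEx_iff _ _ (st_grπ F p)).2 (ShortComplex.exact_cokernel _)

lemma levelKer {F G : ℤᵒᵖ ⥤ A} (φ : F ⟶ G) (P : ℤᵒᵖ) :
    RefEx ((kernel.ι φ).app P) (φ.app P) := by
  have h : ((ShortComplex.mk (kernel.ι φ) φ (kernel.condition φ)).map
      ((evaluation ℤᵒᵖ A).obj P)).Exact :=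
    (ShortComplex.exact_kernel φ).map_of_mono_of_preservesKernel _
      (by dsimp; infer_instance) inferInstance
  exact (ShortComplex.exact_iff_exact_up_to_refinements _).1 h

lemma kernel_app_zero {F G : ℤᵒᵖ ⥤ A} (φ : F ⟶ G) (P : ℤᵒᵖ) :
    (kernel.ι φ).app P ≫ φ.app P = 0 := by
  rw [← NatTrans.comp_app, kernel.condition]
  rfl

/-- strictness in refinement form. -/
def Str {F G : ℤᵒᵖ ⥤ A} (φ : F ⟶ G) : Prop :=
  ∀ (p q : ℤ) (h : p ≤ q), RefStr (tr G p q h) (φ.app (op q)) (φ.app (op p))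

/-- one-step strictness in refinement form. -/
def Str1 {F G : ℤᵒᵖ ⥤ A} (φ : F ⟶ G) : Prop :=
  ∀ (p : ℤ), RefStr (G.map (FilD.stepHom p)) (φ.app (op (p + 1))) (φ.app (op p))

lemma str_aux {F G : ℤᵒᵖ ⥤ A} (φ : F ⟶ G) (h1 : Str1 φ) :
    ∀ (n : ℕ) (p q : ℤ) (h : p ≤ q), q = p + n →
      RefStr (tr G p q h) (φ.app (op q)) (φ.app (op p)) := by
  intro n
  induction n with
  | zero =>
    intro p q h hq T y x hyx
    obtain rfl : q = p := by simpa using hq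
    refine ⟨T, 𝟙 T, inferInstance, x, ?_⟩
    rw [tr_self, Category.comp_id] at hyx
    rw [Category.id_comp, hyx]
  | succ n ih =>
    intro p q h hq T y x hyx
    have h' : p + 1 ≤ q := by push_cast at hq; omega
    have e : tr G (p + 1) q h' ≫ G.map (FilD.stepHom p) = tr G p q h := by
      unfold tr
      rw [← G.map_comp]
      exact map_eq G _ _
    obtain ⟨T1, π1, _, x1, hx1⟩ := h1 p (y ≫ tr G (p + 1) q h') x
      (by rw [Category.assoc, e, hyx])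
    obtain ⟨T2, π2, _, x', hx'⟩ := ih (p + 1) q h' (by push_cast at hq; omega) (π1 ≫ y) x1
      (by rw [Category.assoc]; exact hx1)
    exact ⟨T2, π2 ≫ π1, inferInstance, x', by rw [Category.assoc]; exact hx'⟩

lemma str_of_str1 {F G : ℤᵒᵖ ⥤ A} (φ : F ⟶ G) (h1 : Str1 φ) : Str φ := by
  intro p q h
  exact str_aux φ h1 (q - p).toNat p q h (by omega)

/-! ### Strictness: subobject form versus refinement form -/

lemma imageSubobject_congr {X Y : A} {f g : X ⟶ Y} (h : f = g) :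
    imageSubobject f = imageSubobject g := by
  subst h; rfl

lemma inf_le_imageSubobject {Xp Xq Yp Yq : A} (φp : Xp ⟶ Yp) (φq : Xq ⟶ Yq) (t : Yq ⟶ Yp)
    [Mono t] (hs : RefStr t φq φp) :
    imageSubobject φp ⊓ Subobject.mk t ≤ imageSubobject (φq ≫ t) := by
  set S := imageSubobject φp ⊓ Subobject.mk t with hS
  have h1 : (imageSubobject φp).Factors S.arrow :=
    Subobject.factors_of_le _ inf_le_left (Subobject.factors_self S)
  have h2 : (Subobject.mk t).Factors S.arrow :=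
    Subobject.factors_of_le _ inf_le_right (Subobject.factors_self S)
  obtain ⟨y, hy⟩ : ∃ y : (S : A) ⟶ Yq, y ≫ t = S.arrow :=
    (Subobject.mk_factors_iff t S.arrow).1 h2
  obtain ⟨T1, π1, _, x, hx⟩ := surjective_up_to_refinements_of_epi
    (factorThruImageSubobject φp) ((imageSubobject φp).factorThru S.arrow h1)
  have e1 : (π1 ≫ y) ≫ t = x ≫ φp := by
    have h3 : π1 ≫ S.arrow = x ≫ φp := by
      rw [← (imageSubobject φp).factorThru_arrow S.arrow h1, ← Category.assoc, hx,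
        Category.assoc, imageSubobject_arrow_comp]
    rw [Category.assoc, hy, h3]
  obtain ⟨T2, π2, _, x', hx'⟩ := hs (π1 ≫ y) x e1
  haveI : StrongEpi (π2 ≫ π1) := strongEpi_of_epi _
  have e2 : (x' ≫ φq) ≫ t = (π2 ≫ π1) ≫ S.arrow := by
    rw [← hx']
    simp only [Category.assoc, hy]
  have sq : CommSq (x' ≫ factorThruImageSubobject (φq ≫ t)) (π2 ≫ π1)
      (imageSubobject (φq ≫ t)).arrow S.arrow := ⟨by
    rw [Category.assoc, imageSubobject_arrow_comp, ← Category.assoc]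
    exact e2⟩
  exact Subobject.le_of_comm sq.lift sq.fac_right

lemma refStr_of_image_eq {Xp Xq Yp Yq : A} (φp : Xp ⟶ Yp) (φq : Xq ⟶ Yq) (t : Yq ⟶ Yp) [Mono t]
    (key : imageSubobject (φq ≫ t) = imageSubobject φp ⊓ Subobject.mk t) : RefStr t φq φp := by
  intro T y x hyx
  have f1 : (imageSubobject φp).Factors (y ≫ t) := by
    have h3 : x ≫ φp = (x ≫ factorThruImageSubobject φp) ≫ (imageSubobject φp).arrow := by
      rw [Category.assoc, imageSubobject_arrow_comp]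
    rw [hyx, h3]
    exact Subobject.factors_comp_arrow _
  have f2 : (Subobject.mk t).Factors (y ≫ t) :=
    Subobject.factors_of_factors_right _ (Subobject.mk_factors_self t)
  have f3 : (imageSubobject (φq ≫ t)).Factors (y ≫ t) := by
    rw [key]
    exact (Subobject.inf_factors _).2 ⟨f1, f2⟩
  obtain ⟨T', π, hπ, x', hx'⟩ := surjective_up_to_refinements_of_epi
    (factorThruImageSubobject (φq ≫ t)) ((imageSubobject (φq ≫ t)).factorThru _ f3)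
  refine ⟨T', π, hπ, x', ?_⟩
  have h4 : π ≫ y ≫ t = x' ≫ φq ≫ t := by
    rw [← (imageSubobject (φq ≫ t)).factorThru_arrow _ f3, ← Category.assoc, hx',
      Category.assoc, imageSubobject_arrow_comp]
  rw [← cancel_mono t, Category.assoc, Category.assoc]
  exact h4

theorem isStrict_iff_str {X Y : FilD.FilF A} (φ : X ⟶ Y) : FilD.IsStrict φ ↔ Str φ.hom := by
  constructor
  · intro hI p q h
    haveI : Mono (Y.obj.map (homOfLE h).op) := Y.property.1 _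
    exact refStr_of_image_eq _ _ _ (hI p q h)
  · intro hS p q h
    haveI : Mono (Y.obj.map (homOfLE h).op) := Y.property.1 _
    apply le_antisymm
    · apply le_inf
      · exact (imageSubobject_congr (φ.hom.naturality (homOfLE h).op).symm).trans_le
          (imageSubobject_comp_le _ _)
      · exact imageSubobject_le_mk _ _ (φ.hom.app (op q)) rfl
    · exact inf_le_imageSubobject _ _ _ (hS p q h)

/-! ### Graded exactness implies level exactness and strictness -/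

section

variable (S : ShortComplex (FilD.FilF A))

lemma app_zero (p : ℤ) : S.f.hom.app (op p) ≫ S.g.hom.app (op p) = 0 := by
  have h2 : (S.f ≫ S.g).hom.app (op p) = (0 : S.X₁ ⟶ S.X₃).hom.app (op p) := by rw [S.zero]
  exact h2

theorem levEx_of_grEx (hS : ∀ p : ℤ, (S.map (FilD.grF A p)).Exact) (p : ℤ) :
    RefEx (S.f.hom.app (op p)) (S.g.hom.app (op p)) := by
  obtain ⟨b, hb⟩ := S.X₂.property.2.1
  refine down_ind (fun p => RefEx (S.f.hom.app (op p)) (S.g.hom.app (op p))) b ?_ ?_ p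
  · intro p hp T y _
    exact ⟨T, 𝟙 T, inferInstance, 0, (hb p hp).eq_of_tgt _ _⟩
  · intro p ih
    haveI : Mono (S.X₃.obj.map (FilD.stepHom p)) := S.X₃.property.1 _
    have E'' : RefEx ((FilD.gr A p).map S.f.hom) ((FilD.gr A p).map S.g.hom) :=
      (ShortComplex.exact_iff_exact_up_to_refinements _).1 (hS p)
    exact refEx_mid (row S.X₂.obj p) (S.f.hom.naturality (FilD.stepHom p)) (grπ_map S.f.hom p)
      (S.g.hom.naturality (FilD.stepHom p)) (grπ_map S.g.hom p) (app_zero S p) ih E''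

theorem str1_f_of_levEx (lev : ∀ p : ℤ, RefEx (S.f.hom.app (op p)) (S.g.hom.app (op p))) :
    Str1 S.f.hom := by
  intro p
  haveI : Mono (S.X₃.obj.map (FilD.stepHom p)) := S.X₃.property.1 _
  exact refStr_f (S.g.hom.naturality (FilD.stepHom p)) (app_zero S p) (lev (p + 1))

theorem str1_g_of_grEx (hS : ∀ p : ℤ, (S.map (FilD.grF A p)).Exact) : Str1 S.g.hom := by
  intro p
  haveI : Mono (S.X₃.obj.map (FilD.stepHom p)) := S.X₃.property.1 _
  have E'' : RefEx ((FilD.gr A p).map S.f.hom) ((FilD.gr A p).map S.g.hom) :=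
    (ShortComplex.exact_iff_exact_up_to_refinements _).1 (hS p)
  exact refStr_g (row S.X₂.obj p) (st_grπ S.X₃.obj p) (grπ_map S.f.hom p)
    (S.g.hom.naturality (FilD.stepHom p)) (grπ_map S.g.hom p) (app_zero S p) E''

theorem S1085_main (hS : ∀ p : ℤ, (S.map (FilD.grF A p)).Exact) :
    (∀ p : ℤ, (S.map ((FilD.IsFinFil A).ι ⋙ (evaluation ℤᵒᵖ A).obj (op p))).Exact) ∧
      FilD.IsStrict S.f ∧ FilD.IsStrict S.g := by
  have lev := levEx_of_grEx S hS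
  refine ⟨fun p => (ShortComplex.exact_iff_exact_up_to_refinements _).2 (lev p), ?_, ?_⟩
  · rw [isStrict_iff_str]
    exact str_of_str1 _ (str1_f_of_levEx S lev)
  · rw [isStrict_iff_str]
    exact str_of_str1 _ (str1_g_of_grEx S hS)

end

theorem S1086_main {X Y : FilD.FilF A} (φ : X ⟶ Y) :
    FilD.IsStrict φ ↔
      ∀ p : ℤ, ((ShortComplex.mk (kernel.ι φ.hom) φ.hom (kernel.condition φ.hom)).map
        (FilD.gr A p)).Exact := by
  rw [isStrict_iff_str]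
  constructor
  · intro hs p
    refine (ShortComplex.exact_iff_exact_up_to_refinements _).2 ?_
    exact refEx_gr_of_str (row Y.obj p) (st_grπ X.obj p) (grπ_map (kernel.ι φ.hom) p)
      (φ.hom.naturality (FilD.stepHom p)) (grπ_map φ.hom p) (levelKer φ.hom (op p))
      (hs p (p + 1) (by omega))
  · intro hgr
    apply str_of_str1
    intro p
    haveI : Mono (Y.obj.map (FilD.stepHom p)) := Y.property.1 _
    exact refStr_of_refEx_gr (row X.obj p) (st_grπ Y.obj p) (grπ_map (kernel.ι φ.hom) p)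
      (φ.hom.naturality (FilD.stepHom p)) (grπ_map φ.hom p) (kernel_app_zero φ.hom (op p))
      ((ShortComplex.exact_iff_exact_up_to_refinements _).1 (hgr p))

end H10Fil
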