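import Groth.Agent.Lib.Helper10.FilHtpy

set_option backward.isDefEq.respectTransparency false
set_option backward.isDefEq.respectTransparency.types false
set_option autoImplicit false

universe v u

open CategoryTheory CategoryTheory.Limits Opposite

namespace H10Fil

variable {A : Type u} [Category.{v} A] [Abelian A]

/-! ### Binary biproducts of finite filtered objects -/

lemma isFinFil_of_bicone {F G H : ℤᵒᵖ ⥤ A} (fst : H ⟶ F) (snd : H ⟶ G) (inl : F ⟶ H)
    (inr : G ⟶ H) (total : fst ≫ inl + snd ≫ inr = 𝟙 H)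
    (hF : FilD.IsFinFil A F) (hG : FilD.IsFinFil A G) : FilD.IsFinFil A H := by
  have tot : ∀ P : ℤᵒᵖ, fst.app P ≫ inl.app P + snd.app P ≫ inr.app P = 𝟙 (H.obj P) := by
    intro P
    have := congrArg (fun t => t.app P) total
    simpa using this
  obtain ⟨mF, ⟨bF, zF⟩, ⟨aF, iF⟩⟩ := hF
  obtain ⟨mG, ⟨bG, zG⟩, ⟨aG, iG⟩⟩ := hG
  refine ⟨?_, ⟨max bF bG, ?_⟩, ⟨min aF aG, ?_⟩⟩
  · intro P Q f
    haveI := mF f
    haveI := mG f
    rw [Preadditive.mono_iff_cancel_zero]
    intro T t ht
    have h1 : t ≫ fst.app P = 0 := by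
      rw [← cancel_mono (F.map f), Category.assoc, ← fst.naturality, ← Category.assoc, ht,
        zero_comp, zero_comp]
    have h2 : t ≫ snd.app P = 0 := by
      rw [← cancel_mono (G.map f), Category.assoc, ← snd.naturality, ← Category.assoc, ht,
        zero_comp, zero_comp]
    calc t = t ≫ 𝟙 _ := (Category.comp_id t).symm
      _ = 0 := by
        rw [← tot P, Preadditive.comp_add]
        simp only [reassoc_of% h1, reassoc_of% h2, zero_comp, add_zero]
  · intro p hp
    rw [IsZero.iff_id_eq_zero, ← tot (op p)]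
    have h1 : fst.app (op p) = 0 := (zF p (le_trans (le_max_left _ _) hp)).eq_of_tgt _ _
    have h2 : snd.app (op p) = 0 := (zG p (le_trans (le_max_right _ _) hp)).eq_of_tgt _ _
    rw [h1, h2, zero_comp, zero_comp, add_zero]
  · intro P Q f hP
    haveI := iF f (le_trans hP (min_le_left _ _))
    haveI := iG f (le_trans hP (min_le_right _ _))
    refine ⟨⟨fst.app Q ≫ inv (F.map f) ≫ inl.app P + snd.app Q ≫ inv (G.map f) ≫ inr.app P,
      ?_, ?_⟩⟩
    · rw [Preadditive.comp_add, ← Category.assoc, fst.naturality, Category.assoc,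
        IsIso.hom_inv_id_assoc, ← Category.assoc (H.map f), snd.naturality, Category.assoc,
        IsIso.hom_inv_id_assoc, tot P]
    · rw [Preadditive.add_comp, Category.assoc, Category.assoc, ← inl.naturality,
        IsIso.inv_hom_id_assoc, Category.assoc, Category.assoc, ← inr.naturality,
        IsIso.inv_hom_id_assoc, tot Q]

instance : HasBinaryBiproducts (FilD.FilF A) where
  has_binary_biproduct X Y := by
    have hH : FilD.IsFinFil A (X.obj ⊞ Y.obj) :=
      isFinFil_of_bicone biprod.fst biprod.snd biprod.inl biprod.inr biprod.total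
        X.property Y.property
    exact hasBinaryBiproduct_of_total
      { pt := ⟨X.obj ⊞ Y.obj, hH⟩
        fst := ObjectProperty.homMk biprod.fst
        snd := ObjectProperty.homMk biprod.snd
        inl := ObjectProperty.homMk biprod.inl
        inr := ObjectProperty.homMk biprod.inr
        inl_fst := by ext : 1; exact biprod.inl_fst
        inl_snd := by ext : 1; exact biprod.inl_snd
        inr_fst := by ext : 1; exact biprod.inr_fst
        inr_snd := by ext : 1; exact biprod.inr_snd }
      (by ext : 1; exact biprod.total)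

/-! ### Mapping cones of filtered quasi-isomorphisms -/

lemma exactAt_mappingCone_of_quasiIso {K L : CochainComplex A ℤ} (ψ : K ⟶ L) [QuasiIso ψ]
    (n : ℤ) : (CochainComplex.mappingCone ψ).ExactAt n := by
  have h1 : HomotopyCategory.quasiIso A (ComplexShape.up ℤ)
      ((HomotopyCategory.quotient A (ComplexShape.up ℤ)).map ψ) := by
    rw [HomotopyCategory.quotient_map_mem_quasiIso_iff, HomologicalComplex.mem_quasiIso_iff]
    infer_instance
  rw [HomotopyCategory.quasiIso_eq_trW_subcategoryAcyclic] at h1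
  have h2 := ((HomotopyCategory.subcategoryAcyclic A).trW_iff_of_distinguished _
    (HomotopyCategory.mappingCone_triangleh_distinguished ψ)).1 h1
  exact (HomotopyCategory.quotient_obj_mem_subcategoryAcyclic_iff_exactAt _).1 h2 n

lemma isFilteredAcyclic_mappingCone {K L : CochainComplex (FilD.FilF A) ℤ} (α : K ⟶ L)
    (hα : FilD.IsFilteredQuasiIso α) :
    FilD.IsFilteredAcyclic (CochainComplex.mappingCone α) := by
  intro p n
  haveI : QuasiIso ((FilD.grCx p).map α) := hα p
  have e := CochainComplex.mappingCone.mapHomologicalComplexIso α (FilD.grF A p)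
  have h := exactAt_mappingCone_of_quasiIso ((FilD.grCx p).map α) n
  rw [HomologicalComplex.exactAt_iff_isZero_homology] at h ⊢
  exact h.of_iso ((HomologicalComplex.homologyFunctor _ _ n).mapIso e)

lemma hom_eq_zero_of_acyclic (C J : CochainComplex (FilD.FilF A) ℤ)
    (hC : FilD.IsFilteredAcyclic C) (a : ℤ) [J.IsStrictlyGE a]
    (hJ : ∀ n, FilD.IsFilteredInjective (J.X n))
    (g : (HomotopyCategory.quotient (FilD.FilF A) (ComplexShape.up ℤ)).obj C ⟶
      (HomotopyCategory.quotient (FilD.FilF A) (ComplexShape.up ℤ)).obj J) : g = 0 := by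
  obtain ⟨g, rfl⟩ := (HomotopyCategory.quotient _ _).map_surjective g
  obtain ⟨h⟩ := S1083_main C J hC a hJ g
  rw [HomotopyCategory.eq_of_homotopy g 0 h, Functor.map_zero]

open Pretriangulated in
theorem S1084_main (I : CochainComplex (FilD.FilF A) ℤ)
    (a : ℤ) [I.IsStrictlyGE a] (hI : ∀ n, FilD.IsFilteredInjective (I.X n))
    {K L : CochainComplex (FilD.FilF A) ℤ} (α : K ⟶ L) (hα : FilD.IsFilteredQuasiIso α) :
    Function.Bijective (fun β : (HomotopyCategory.quotient (FilD.FilF A) (ComplexShape.up ℤ)).obj L ⟶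
        (HomotopyCategory.quotient (FilD.FilF A) (ComplexShape.up ℤ)).obj I =>
      (HomotopyCategory.quotient (FilD.FilF A) (ComplexShape.up ℤ)).map α ≫ β) := by
  have hC := isFilteredAcyclic_mappingCone α hα
  have hT := HomotopyCategory.mappingCone_triangleh_distinguished α
  constructor
  · intro β1 β2 h
    have h0 : (CochainComplex.mappingCone.triangleh α).mor₁ ≫ (β1 - β2) = 0 := by
      rw [Preadditive.comp_sub, sub_eq_zero]
      exact h
    obtain ⟨g, hg⟩ := Triangle.yoneda_exact₂ _ hT (β1 - β2) h0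
    rw [hom_eq_zero_of_acyclic _ I hC a hI g, comp_zero] at hg
    exact sub_eq_zero.1 hg
  · intro f
    have hT2 := rot_of_distTriang _ (rot_of_distTriang _ hT)
    haveI : (I⟦(1 : ℤ)⟧).IsStrictlyGE (a - 1) :=
      CochainComplex.isStrictlyGE_shift I a 1 (a - 1) (by omega)
    have hI1 : ∀ n, FilD.IsFilteredInjective ((I⟦(1 : ℤ)⟧).X n) := fun n => hI (n + 1)
    let e := ((HomotopyCategory.quotient (FilD.FilF A) (ComplexShape.up ℤ)).commShiftIso
      (1 : ℤ)).app I
    have hf : (CochainComplex.mappingCone.triangleh α).mor₃ ≫ f⟦(1 : ℤ)⟧' = 0 := by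
      rw [← cancel_mono e.inv, zero_comp]
      exact hom_eq_zero_of_acyclic _ (I⟦(1 : ℤ)⟧) hC (a - 1) hI1 _
    obtain ⟨g, hg⟩ := Triangle.yoneda_exact₂ _ hT2 (f⟦(1 : ℤ)⟧') hf
    obtain ⟨g', rfl⟩ := (shiftFunctor (HomotopyCategory (FilD.FilF A) (ComplexShape.up ℤ))
      (1 : ℤ)).map_surjective g
    have hg' : f⟦(1 : ℤ)⟧' =
        (-((HomotopyCategory.quotient (FilD.FilF A) (ComplexShape.up ℤ)).map α)⟦(1 : ℤ)⟧') ≫
          g'⟦(1 : ℤ)⟧' := hg
    refine ⟨-g', ?_⟩
    apply (shiftFunctor (HomotopyCategory (FilD.FilF A) (ComplexShape.up ℤ))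
      (1 : ℤ)).map_injective
    rw [hg', Functor.map_comp, Functor.map_neg, Preadditive.comp_neg, Preadditive.neg_comp]

lemma exists_lift_homotopy (I : CochainComplex (FilD.FilF A) ℤ)
    (a : ℤ) [I.IsStrictlyGE a] (hI : ∀ n, FilD.IsFilteredInjective (I.X n))
    {K L : CochainComplex (FilD.FilF A) ℤ} (α : K ⟶ L) (hα : FilD.IsFilteredQuasiIso α)
    (g : K ⟶ I) : ∃ ψ : L ⟶ I, Nonempty (Homotopy (α ≫ ψ) g) := by
  obtain ⟨β, hβ⟩ := (S1084_main I a hI α hα).2
    ((HomotopyCategory.quotient (FilD.FilF A) (ComplexShape.up ℤ)).map g)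
  obtain ⟨ψ, rfl⟩ := (HomotopyCategory.quotient _ _).map_surjective β
  refine ⟨ψ, ⟨HomotopyCategory.homotopyOfEq _ _ ?_⟩⟩
  rw [Functor.map_comp]
  exact hβ

end H10Fil
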