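import Groth.Agent.Lib.Helper10.FilRes

set_option backward.isDefEq.respectTransparency false
set_option backward.isDefEq.respectTransparency.types false
set_option autoImplicit false

universe v u

open CategoryTheory CategoryTheory.Limits Opposite

namespace H10Fil

variable {A : Type u} [Category.{v} A] [Abelian A]

attribute [local instance] Abelian.hasFiniteBiproducts

/-! ### Generalities on injective objects -/

lemma injective_of_retract {X Y : A} (s : X ⟶ Y) (r : Y ⟶ X) (h : s ≫ r = 𝟙 X)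
    (hY : Injective Y) : Injective X :=
  ⟨fun g f _ => ⟨Injective.factorThru (g ≫ s) f ≫ r, by
    rw [← Category.assoc, Injective.comp_factorThru, Category.assoc, h, Category.comp_id]⟩⟩

lemma injective_cokernel_of_split {K' K : A} (i : K' ⟶ K) (ρ : K ⟶ K') (h : i ≫ ρ = 𝟙 K')
    (hK : Injective K) : Injective (cokernel i) := by
  have e : i ≫ (𝟙 K - ρ ≫ i) = 0 := by
    rw [Preadditive.comp_sub, Category.comp_id, ← Category.assoc, h, Category.id_comp, sub_self]
  refine injective_of_retract (cokernel.desc i (𝟙 K - ρ ≫ i) e) (cokernel.π i) ?_ hK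
  rw [← cancel_epi (cokernel.π i), ← Category.assoc, cokernel.π_desc, Preadditive.sub_comp,
    Category.id_comp, Category.assoc, cokernel.condition, comp_zero, sub_zero, Category.comp_id]

lemma injective_biproduct {ι : Type*} (c : ι → A) [HasBiproduct c] [∀ n, Injective (c n)] :
    Injective (⨁ c) :=
  ⟨fun g f _ => ⟨biproduct.lift (fun n => Injective.factorThru (g ≫ biproduct.π c n) f), by
    apply biproduct.hom_ext
    intro n
    rw [Category.assoc, biproduct.lift_π, Injective.comp_factorThru]⟩⟩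

lemma isIso_kernel_ι_of_eq_zero {X Y : A} (f : X ⟶ Y) (h : f = 0) : IsIso (kernel.ι f) := by
  subst h
  infer_instance

lemma mono_cokernel_π_of_isZero {X Y : A} (f : X ⟶ Y) (h : IsZero X) :
    Mono (cokernel.π f) := by
  have h0 : f = 0 := h.eq_of_src _ _
  subst h0
  infer_instance

lemma refEx_cokernel {X Y : A} (f : X ⟶ Y) : RefEx f (cokernel.π f) :=
  (refEx_iff _ _ (cokernel.condition f)).2 (ShortComplex.exact_cokernel f)

/-! ### The filtered object of kernels of a decreasing family of idempotents -/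

section KerFil

variable {E : A} (ψ : ℤ → (E ⟶ E)) (H1 : ∀ p q : ℤ, p ≤ q → ψ q ≫ ψ p = ψ p)

include H1 in
lemma kerFil_aux (p q : ℤ) (h : p ≤ q) : kernel.ι (ψ q) ≫ ψ p = 0 := by
  rw [← H1 p q h, ← Category.assoc, kernel.condition, zero_comp]

/-- transition maps between the kernels. -/
noncomputable def kerFilMap (p q : ℤ) (h : p ≤ q) : kernel (ψ q) ⟶ kernel (ψ p) :=
  kernel.lift (ψ p) (kernel.ι (ψ q)) (kerFil_aux ψ H1 p q h)

lemma kerFilMap_ι (p q : ℤ) (h : p ≤ q) :
    kerFilMap ψ H1 p q h ≫ kernel.ι (ψ p) = kernel.ι (ψ q) :=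
  kernel.lift_ι _ _ _

/-- the filtered object `q ↦ ker ψ_q`. -/
noncomputable def kerFil : ℤᵒᵖ ⥤ A where
  obj P := kernel (ψ P.unop)
  map {P Q} f := kerFilMap ψ H1 Q.unop P.unop (leOfHom f.unop)
  map_id P := by
    rw [← cancel_mono (kernel.ι (ψ P.unop)), kerFilMap_ι, Category.id_comp]
  map_comp {P Q R} f g := by
    rw [← cancel_mono (kernel.ι (ψ R.unop)), Category.assoc, kerFilMap_ι, kerFilMap_ι,
      kerFilMap_ι]

lemma kerFil_map_ι {P Q : ℤᵒᵖ} (f : P ⟶ Q) :
    (kerFil ψ H1).map f ≫ kernel.ι (ψ Q.unop) = kernel.ι (ψ P.unop) :=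
  kerFilMap_ι ψ H1 _ _ (leOfHom f.unop)

lemma kerFil_step_ι (p : ℤ) :
    (kerFil ψ H1).map (FilD.stepHom p) ≫ kernel.ι (ψ p) = kernel.ι (ψ (p + 1)) :=
  kerFilMap_ι ψ H1 p (p + 1) (by omega)

lemma isFinFil_kerFil (a b : ℤ) (H2 : ∀ q, q ≤ a → ψ q = 0) (H3 : ∀ q, b ≤ q → ψ q = 𝟙 E) :
    FilD.IsFinFil A (kerFil ψ H1) := by
  have hmono : ∀ ⦃P Q : ℤᵒᵖ⦄ (f : P ⟶ Q), Mono ((kerFil ψ H1).map f) := by
    intro P Q f
    exact mono_of_mono_fac (kerFil_map_ι ψ H1 f)
  refine ⟨hmono, ⟨b, ?_⟩, ⟨a, ?_⟩⟩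
  · intro p hp
    haveI : Mono (ψ p) := by
      rw [H3 p hp]
      infer_instance
    exact isZero_kernel_of_mono (ψ p)
  · intro P Q f hP
    have hQ : Q.unop ≤ a := le_trans (leOfHom f.unop) hP
    haveI : IsIso (kernel.ι (ψ P.unop)) := isIso_kernel_ι_of_eq_zero _ (H2 _ hP)
    haveI : IsIso (kernel.ι (ψ Q.unop)) := isIso_kernel_ι_of_eq_zero _ (H2 _ hQ)
    exact IsIso.of_isIso_fac_right (kerFil_map_ι ψ H1 f)

lemma injective_gr_kerFil (hE : Injective E) (p : ℤ) :
    Injective ((FilD.gr A p).obj (kerFil ψ H1)) := by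
  have idem : ∀ q, ψ q ≫ ψ q = ψ q := fun q => H1 q q le_rfl
  have z1 : (𝟙 E - ψ p) ≫ ψ p = 0 := by
    rw [Preadditive.sub_comp, Category.id_comp, idem, sub_self]
  have hKp : Injective (kernel (ψ p)) :=
    injective_of_retract (kernel.ι (ψ p)) (kernel.lift (ψ p) (𝟙 E - ψ p) z1) (by
      rw [← cancel_mono (kernel.ι (ψ p)), Category.assoc, kernel.lift_ι, Preadditive.comp_sub,
        Category.comp_id, kernel.condition, sub_zero, Category.id_comp]) hE
  have z2 : (kernel.ι (ψ p) ≫ (𝟙 E - ψ (p + 1))) ≫ ψ (p + 1) = 0 := by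
    rw [Category.assoc, Preadditive.sub_comp, Category.id_comp, idem, sub_self, comp_zero]
  show Injective (cokernel (kerFilMap ψ H1 p (p + 1) (by omega)))
  refine injective_cokernel_of_split (kerFilMap ψ H1 p (p + 1) (by omega))
    (kernel.lift (ψ (p + 1)) (kernel.ι (ψ p) ≫ (𝟙 E - ψ (p + 1))) z2) ?_ hKp
  rw [← cancel_mono (kernel.ι (ψ (p + 1))), Category.assoc, kernel.lift_ι, ← Category.assoc,
    kerFilMap_ι, Preadditive.comp_sub, Category.comp_id, kernel.condition, sub_zero,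
    Category.id_comp]

/-- the map into the filtered object of kernels induced by a compatible family. -/
noncomputable def toKerFil {X : ℤᵒᵖ ⥤ A} (w : ∀ q : ℤ, X.obj (op q) ⟶ E)
    (wnat : ∀ (p q : ℤ) (h : p ≤ q), tr X p q h ≫ w p = w q)
    (wψ : ∀ q : ℤ, w q ≫ ψ q = 0) : X ⟶ kerFil ψ H1 where
  app P := kernel.lift (ψ P.unop) (w P.unop) (wψ P.unop)
  naturality P Q f := by
    have hab : Q.unop ≤ P.unop := leOfHom f.unop
    have e1 : X.map f = tr X Q.unop P.unop hab := map_eq X _ _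
    rw [← cancel_mono (kernel.ι (ψ Q.unop)), Category.assoc, Category.assoc, kernel.lift_ι,
      kerFil_map_ι, kernel.lift_ι, e1]
    exact wnat _ _ hab

lemma toKerFil_app_ι {X : ℤᵒᵖ ⥤ A} (w : ∀ q : ℤ, X.obj (op q) ⟶ E)
    (wnat : ∀ (p q : ℤ) (h : p ≤ q), tr X p q h ≫ w p = w q)
    (wψ : ∀ q : ℤ, w q ≫ ψ q = 0) (q : ℤ) :
    (toKerFil ψ H1 w wnat wψ).app (op q) ≫ kernel.ι (ψ q) = w q :=
  kernel.lift_ι _ _ _

lemma str1_toKerFil {X : ℤᵒᵖ ⥤ A} (w : ∀ q : ℤ, X.obj (op q) ⟶ E)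
    (wnat : ∀ (p q : ℤ) (h : p ≤ q), tr X p q h ≫ w p = w q)
    (wψ : ∀ q : ℤ, w q ≫ ψ q = 0)
    (hS : ∀ (p : ℤ) ⦃T : A⦄ (x : T ⟶ X.obj (op p)), x ≫ w p ≫ ψ (p + 1) = 0 →
      ∃ (T' : A) (π : T' ⟶ T) (_ : Epi π) (x' : T' ⟶ X.obj (op (p + 1))),
        π ≫ x = x' ≫ X.map (FilD.stepHom p)) :
    Str1 (toKerFil ψ H1 w wnat wψ) := by
  intro p T y x hyx
  have h1 : x ≫ w p = y ≫ kernel.ι (ψ (p + 1)) := by
    rw [← toKerFil_app_ι ψ H1 w wnat wψ p, ← Category.assoc, ← hyx, Category.assoc,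
      kerFil_step_ι]
  have e : x ≫ w p ≫ ψ (p + 1) = 0 := by
    rw [← Category.assoc, h1, Category.assoc, kernel.condition, comp_zero]
  obtain ⟨T', π, hπ, x', hx'⟩ := hS p x e
  refine ⟨T', π, hπ, x', ?_⟩
  haveI : Mono ((kerFil ψ H1).map (FilD.stepHom p)) :=
    mono_of_mono_fac (kerFil_step_ι ψ H1 p)
  rw [← cancel_mono ((kerFil ψ H1).map (FilD.stepHom p)), Category.assoc, hyx, ← Category.assoc,
    hx', Category.assoc, Category.assoc,
    (toKerFil ψ H1 w wnat wψ).naturality (FilD.stepHom p)]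

end KerFil

/-! ### Enough filtered injectives -/

section Enough

variable [EnoughInjectives A] (F : ℤᵒᵖ ⥤ A) (a b : ℤ)

lemma idx_le (n : Set.Icc a b) : a ≤ n.1 + 1 := by
  have := n.2.1
  omega

/-- the injective hulls of the quotients of the whole object by the steps of the filtration. -/
noncomputable abbrev compJ (n : Set.Icc a b) : A :=
  Injective.under (cokernel (tr F a (n.1 + 1) (idx_le a b n)))

/-- the componentwise idempotent: zero on the components of level `≥ q`. -/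
noncomputable def thetaC (q : ℤ) (n : Set.Icc a b) : compJ F a b n ⟶ compJ F a b n :=
  if q ≤ n.1 then 0 else 𝟙 _

/-- the ambient injective object. -/
noncomputable abbrev bigE : A := ⨁ (compJ F a b)

/-- the decreasing family of idempotents of the ambient object. -/
noncomputable def psiE (q : ℤ) : bigE F a b ⟶ bigE F a b := biproduct.map (thetaC F a b q)

lemma psiE_π (q : ℤ) (n : Set.Icc a b) :
    psiE F a b q ≫ biproduct.π (compJ F a b) n =
      biproduct.π (compJ F a b) n ≫ thetaC F a b q n :=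
  biproduct.map_π _ _

lemma thetaC_comp (p q : ℤ) (h : p ≤ q) (n : Set.Icc a b) :
    thetaC F a b q n ≫ thetaC F a b p n = thetaC F a b p n := by
  unfold thetaC
  by_cases h1 : q ≤ n.1
  · rw [if_pos h1, if_pos (h.trans h1), comp_zero]
  · rw [if_neg h1, Category.id_comp]

lemma psiE_comp (p q : ℤ) (h : p ≤ q) : psiE F a b q ≫ psiE F a b p = psiE F a b p := by
  apply biproduct.hom_ext
  intro n
  rw [Category.assoc, psiE_π, ← Category.assoc, psiE_π, Category.assoc,
    thetaC_comp F a b p q h n]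

lemma psiE_zero (q : ℤ) (h : q ≤ a) : psiE F a b q = 0 := by
  apply biproduct.hom_ext
  intro n
  have e : thetaC F a b q n = 0 := by
    unfold thetaC
    rw [if_pos (h.trans n.2.1)]
  rw [psiE_π, e, comp_zero, zero_comp]

lemma psiE_one (q : ℤ) (h : b < q) : psiE F a b q = 𝟙 _ := by
  apply biproduct.hom_ext
  intro n
  have e : thetaC F a b q n = 𝟙 _ := by
    unfold thetaC
    rw [if_neg (by have := n.2.2; omega)]
  rw [psiE_π, e, Category.comp_id, Category.id_comp]

/-- the map from the whole object to the ambient injective object. -/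
noncomputable def toE : F.obj (op a) ⟶ bigE F a b :=
  biproduct.lift (fun n => cokernel.π (tr F a (n.1 + 1) (idx_le a b n)) ≫ Injective.ι _)

lemma toE_π (n : Set.Icc a b) : toE F a b ≫ biproduct.π (compJ F a b) n =
    cokernel.π (tr F a (n.1 + 1) (idx_le a b n)) ≫ Injective.ι _ :=
  biproduct.lift_π _ _

lemma mono_toE (hab : a ≤ b) (hz : ∀ p, b + 1 ≤ p → IsZero (F.obj (op p))) :
    Mono (toE F a b) := by
  haveI : Mono (cokernel.π (tr F a (b + 1) (by omega))) :=
    mono_cokernel_π_of_isZero _ (hz (b + 1) le_rfl)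
  haveI : Mono (toE F a b ≫ biproduct.π (compJ F a b) ⟨b, hab, le_rfl⟩) := by
    rw [toE_π]
    exact mono_comp _ _
  exact mono_of_mono (toE F a b) (biproduct.π (compJ F a b) ⟨b, hab, le_rfl⟩)

variable (ha : ∀ ⦃p q : ℤᵒᵖ⦄ (f : p ⟶ q), p.unop ≤ a → IsIso (F.map f))

/-- inverse of the transition map in the constant range. -/
noncomputable def jinv (m : ℤ) (hm : m ≤ a) : F.obj (op m) ⟶ F.obj (op a) :=
  haveI : IsIso (tr F m a hm) := ha _ le_rfl
  inv (tr F m a hm)

lemma jinv_tr (m : ℤ) (hm : m ≤ a) : jinv F a ha m hm ≫ tr F m a hm = 𝟙 _ := by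
  haveI : IsIso (tr F m a hm) := ha _ le_rfl
  exact IsIso.inv_hom_id _

/-- the map from a level to the whole object. -/
noncomputable def jmap (q : ℤ) : F.obj (op q) ⟶ F.obj (op a) :=
  tr F (min q a) q (min_le_left _ _) ≫ jinv F a ha (min q a) (min_le_right _ _)

lemma jmap_spec (q : ℤ) :
    jmap F a ha q ≫ tr F (min q a) a (min_le_right _ _) = tr F (min q a) q (min_le_left _ _) := by
  unfold jmap
  rw [Category.assoc, jinv_tr, Category.comp_id]

lemma jmap_ge (q : ℤ) (h : a ≤ q) : jmap F a ha q = tr F a q h := by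
  haveI : IsIso (tr F (min q a) a (min_le_right _ _)) := ha _ le_rfl
  rw [← cancel_mono (tr F (min q a) a (min_le_right _ _)), jmap_spec, tr_comp]

lemma jmap_nat (p q : ℤ) (h : p ≤ q) : tr F p q h ≫ jmap F a ha p = jmap F a ha q := by
  have hm : min p a ≤ min q a := by omega
  haveI : IsIso (tr F (min p a) a (min_le_right _ _)) := ha _ le_rfl
  rw [← cancel_mono (tr F (min p a) a (min_le_right _ _)), Category.assoc, jmap_spec, tr_comp,
    ← tr_comp F (min p a) (min q a) a hm (min_le_right _ _), ← Category.assoc, jmap_spec, tr_comp]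

lemma mono_jmap (hFm : ∀ ⦃P Q : ℤᵒᵖ⦄ (f : P ⟶ Q), Mono (F.map f)) (q : ℤ) :
    Mono (jmap F a ha q) := by
  haveI : Mono (tr F (min q a) q (min_le_left _ _)) := hFm _
  haveI : Mono (jinv F a ha (min q a) (min_le_right _ _)) :=
    mono_of_mono_fac (jinv_tr F a ha _ _)
  unfold jmap
  exact mono_comp _ _

/-- the map from a level to the ambient injective object. -/
noncomputable def wmap (q : ℤ) : F.obj (op q) ⟶ bigE F a b := jmap F a ha q ≫ toE F a b

lemma wmap_nat (p q : ℤ) (h : p ≤ q) : tr F p q h ≫ wmap F a b ha p = wmap F a b ha q := by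
  unfold wmap
  rw [← Category.assoc, jmap_nat]

lemma mono_wmap (hFm : ∀ ⦃P Q : ℤᵒᵖ⦄ (f : P ⟶ Q), Mono (F.map f)) (hab : a ≤ b)
    (hz : ∀ p, b + 1 ≤ p → IsZero (F.obj (op p))) (q : ℤ) : Mono (wmap F a b ha q) := by
  haveI := mono_jmap F a ha hFm q
  haveI := mono_toE F a b hab hz
  unfold wmap
  exact mono_comp _ _

lemma w_psi (q : ℤ) : wmap F a b ha q ≫ psiE F a b q = 0 := by
  apply biproduct.hom_ext
  intro n
  rw [zero_comp, Category.assoc, psiE_π]
  unfold wmap thetaC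
  by_cases h1 : q ≤ n.1
  · rw [if_pos h1, comp_zero, comp_zero]
  · have h2 : n.1 + 1 ≤ q := by omega
    have h3 : a ≤ n.1 + 1 := idx_le a b n
    rw [if_neg h1, Category.comp_id, Category.assoc, toE_π, jmap_ge F a ha q (h3.trans h2),
      ← tr_comp F a (n.1 + 1) q h3 h2, Category.assoc, cokernel.condition_assoc, zero_comp,
      comp_zero]

lemma w_strict (hFm : ∀ ⦃P Q : ℤᵒᵖ⦄ (f : P ⟶ Q), Mono (F.map f))
    (hz : ∀ p, b + 1 ≤ p → IsZero (F.obj (op p)))
    (p : ℤ) ⦃T : A⦄ (x : T ⟶ F.obj (op p))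
    (hx : x ≫ wmap F a b ha p ≫ psiE F a b (p + 1) = 0) :
    ∃ (T' : A) (π : T' ⟶ T) (_ : Epi π) (x' : T' ⟶ F.obj (op (p + 1))),
      π ≫ x = x' ≫ F.map (FilD.stepHom p) := by
  by_cases h1 : p < a
  · haveI : IsIso (F.map (FilD.stepHom p)) := ha _ (show p + 1 ≤ a by omega)
    exact ⟨T, 𝟙 T, inferInstance, x ≫ inv (F.map (FilD.stepHom p)), by
      rw [Category.id_comp, Category.assoc, IsIso.inv_hom_id, Category.comp_id]⟩
  · by_cases h2 : p ≤ b
    · have hap : a ≤ p := by omega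
      have h3 : a ≤ p + 1 := by omega
      have e1 : (x ≫ wmap F a b ha p ≫ psiE F a b (p + 1)) ≫
          biproduct.π (compJ F a b) ⟨p, hap, h2⟩ = 0 := by rw [hx, zero_comp]
      have e2 : thetaC F a b (p + 1) ⟨p, hap, h2⟩ = 𝟙 _ := by
        unfold thetaC
        rw [if_neg (by show ¬ (p + 1 ≤ p); omega)]
      rw [Category.assoc, Category.assoc, psiE_π, e2, Category.comp_id] at e1
      unfold wmap at e1
      rw [Category.assoc, toE_π, jmap_ge F a ha p hap] at e1
      obtain ⟨T', π, hπ, x', hx'⟩ := refEx_cokernel (tr F a (p + 1) h3) (x ≫ tr F a p hap) (by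
        rw [← cancel_mono (Injective.ι (cokernel (tr F a (p + 1) h3))), zero_comp,
          Category.assoc, Category.assoc]
        exact e1)
      refine ⟨T', π, hπ, x', ?_⟩
      haveI : Mono (tr F a p hap) := hFm _
      have e3 : F.map (FilD.stepHom p) ≫ tr F a p hap = tr F a (p + 1) h3 := by
        unfold tr
        rw [← F.map_comp]
        exact map_eq F _ _
      rw [← cancel_mono (tr F a p hap), Category.assoc, Category.assoc, e3]
      exact hx'
    · have hz' : IsZero (F.obj (op p)) := hz p (by omega)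
      exact ⟨T, 𝟙 T, inferInstance, 0, by rw [zero_comp]; exact hz'.eq_of_tgt _ _⟩

end Enough

theorem S1081_main [EnoughInjectives A] (X : FilD.FilF A) :
    ∃ (I : FilD.FilF A) (u : X ⟶ I),
      FilD.IsFilteredInjective I ∧ Mono u ∧ FilD.IsStrict u := by
  obtain ⟨hXm, ⟨b0, hb0⟩, ⟨a, ha⟩⟩ := X.property
  obtain ⟨b, hab, hbb⟩ : ∃ b : ℤ, a ≤ b ∧ b0 ≤ b :=
    ⟨max a b0, le_max_left _ _, le_max_right _ _⟩
  have hz : ∀ p, b + 1 ≤ p → IsZero (X.obj.obj (op p)) := fun p hp => hb0 p (by omega)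
  have H1 := psiE_comp X.obj a b
  have hK : FilD.IsFinFil A (kerFil (psiE X.obj a b) H1) :=
    isFinFil_kerFil _ H1 a (b + 1) (psiE_zero X.obj a b)
      (fun q hq => psiE_one X.obj a b q (by omega))
  refine ⟨⟨kerFil (psiE X.obj a b) H1, hK⟩,
    ObjectProperty.homMk (toKerFil (psiE X.obj a b) H1 (wmap X.obj a b ha)
      (wmap_nat X.obj a b ha) (w_psi X.obj a b ha)), ?_, ?_, ?_⟩
  · intro p
    exact injective_gr_kerFil _ H1 (injective_biproduct _) p
  · apply mono_of_mono_app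
    intro p
    haveI : Mono (wmap X.obj a b ha p) := mono_wmap X.obj a b ha hXm hab hz p
    exact mono_of_mono_fac (toKerFil_app_ι (psiE X.obj a b) H1 (wmap X.obj a b ha)
      (wmap_nat X.obj a b ha) (w_psi X.obj a b ha) p)
  · rw [isStrict_iff_str]
    apply str_of_str1
    exact str1_toKerFil (psiE X.obj a b) H1 (wmap X.obj a b ha)
      (wmap_nat X.obj a b ha) (w_psi X.obj a b ha) (w_strict X.obj a b ha hXm hz)

end H10Fil
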