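import Groth.Agent.Lib.Helper10.FilBase

set_option backward.isDefEq.respectTransparency false
set_option backward.isDefEq.respectTransparency.types false
set_option autoImplicit false

universe v u

open CategoryTheory CategoryTheory.Limits Opposite

namespace H10Fil

variable {A : Type u} [Category.{v} A] [Abelian A]

/-! ### Levels of a filtered injective object are injective -/

lemma injective_of_cokernel {I' I : A} (i : I' ⟶ I) [Mono i] [Injective I']
    [Injective (cokernel i)] : Injective I := by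
  let r : I ⟶ I' := Injective.factorThru (𝟙 I') i
  have hr : i ≫ r = 𝟙 I' := Injective.comp_factorThru _ _
  have he : i ≫ (𝟙 I - r ≫ i) = 0 := by
    rw [Preadditive.comp_sub, Category.comp_id, ← Category.assoc, hr, Category.id_comp, sub_self]
  let s : cokernel i ⟶ I := cokernel.desc i (𝟙 I - r ≫ i) he
  have hs : cokernel.π i ≫ s = 𝟙 I - r ≫ i := cokernel.π_desc _ _ _
  constructor
  intro U V g m _
  refine ⟨Injective.factorThru (g ≫ r) m ≫ i + Injective.factorThru (g ≫ cokernel.π i) m ≫ s, ?_⟩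
  have e1 : m ≫ Injective.factorThru (g ≫ r) m = g ≫ r := Injective.comp_factorThru _ _
  have e2 : m ≫ Injective.factorThru (g ≫ cokernel.π i) m = g ≫ cokernel.π i :=
    Injective.comp_factorThru _ _
  rw [Preadditive.comp_add, ← Category.assoc, e1, ← Category.assoc m, e2, Category.assoc,
    Category.assoc, hs, Preadditive.comp_sub, Category.comp_id]
  abel

lemma inj_levels (I : FilD.FilF A) (hI : FilD.IsFilteredInjective I) :
    ∀ p : ℤ, Injective (I.obj.obj (op p)) := by
  obtain ⟨b, hb⟩ := I.property.2.1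
  refine down_ind _ b (fun p hp => (hb p hp).injective) ?_
  intro p ih
  haveI := ih
  haveI : Mono (I.obj.map (FilD.stepHom p)) := I.property.1 _
  haveI : Injective (cokernel (I.obj.map (FilD.stepHom p))) := hI p
  exact injective_of_cokernel (I.obj.map (FilD.stepHom p))

/-! ### Natural transformations from one-step compatible families -/

lemma nat_aux (F G : ℤᵒᵖ ⥤ A) (β : ∀ p : ℤ, F.obj (op p) ⟶ G.obj (op p))
    (hβ : ∀ (p q : ℤ) (hq : q = p + 1),
      tr F p q (by omega) ≫ β p = β q ≫ tr G p q (by omega)) :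
    ∀ (n : ℕ) (p q : ℤ) (h : p ≤ q), q = p + n → tr F p q h ≫ β p = β q ≫ tr G p q h := by
  intro n
  induction n with
  | zero =>
    intro p q h hq
    obtain rfl : q = p := by simpa using hq
    rw [tr_self, tr_self, Category.id_comp, Category.comp_id]
  | succ n ih =>
    intro p q h hq
    have h1 : p ≤ q - 1 := by push_cast at hq; omega
    have h2 : q - 1 ≤ q := by omega
    rw [← tr_comp F p (q - 1) q h1 h2, ← tr_comp G p (q - 1) q h1 h2, Category.assoc,
      ih p (q - 1) h1 (by push_cast at hq; omega), ← Category.assoc, hβ (q - 1) q (by omega),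
      Category.assoc]

noncomputable def natOfSteps (F G : ℤᵒᵖ ⥤ A) (β : ∀ p : ℤ, F.obj (op p) ⟶ G.obj (op p))
    (hβ : ∀ (p q : ℤ) (hq : q = p + 1),
      tr F p q (by omega) ≫ β p = β q ≫ tr G p q (by omega)) : F ⟶ G where
  app P := β P.unop
  naturality P Q f := by
    have hab : Q.unop ≤ P.unop := leOfHom f.unop
    have e1 : F.map f = tr F Q.unop P.unop hab := map_eq F _ _
    have e2 : G.map f = tr G Q.unop P.unop hab := map_eq G _ _
    rw [e1, e2]
    exact nat_aux F G β hβ (P.unop - Q.unop).toNat Q.unop P.unop hab (by omega)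

section Rec

variable (F G : ℤᵒᵖ ⥤ A) (b : ℤ)
  (Good : ∀ p : ℤ, (F.obj (op p) ⟶ G.obj (op p)) → Prop)
  (step : ∀ (p q : ℤ) (hq : q = p + 1) (βq : F.obj (op q) ⟶ G.obj (op q)), Good q βq →
      ∃ βp : F.obj (op p) ⟶ G.obj (op p), Good p βp ∧
        tr F p q (by omega) ≫ βp = βq ≫ tr G p q (by omega))
  (good0 : ∀ p, b ≤ p → Good p 0)

/-- the recursively defined family. -/
noncomputable def famRec (z : ℤ) : {β : F.obj (op z) ⟶ G.obj (op z) // Good z β} :=
  Int.inductionOn' (motive := fun z => {β : F.obj (op z) ⟶ G.obj (op z) // Good z β}) z b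
    ⟨0, good0 b le_rfl⟩
    (fun k _ _ => ⟨0, good0 (k + 1) (by omega)⟩)
    (fun k _ βk => ⟨(step (k - 1) k (by omega) βk.1 βk.2).choose,
      (step (k - 1) k (by omega) βk.1 βk.2).choose_spec.1⟩)

lemma famRec_spec (z : ℤ) (hz : z ≤ b) :
    tr F (z - 1) z (by omega) ≫ (famRec F G b Good step good0 (z - 1)).1 =
      (famRec F G b Good step good0 z).1 ≫ tr G (z - 1) z (by omega) := by
  have e : famRec F G b Good step good0 (z - 1) =
      ⟨(step (z - 1) z (by omega) (famRec F G b Good step good0 z).1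
          (famRec F G b Good step good0 z).2).choose,
        (step (z - 1) z (by omega) (famRec F G b Good step good0 z).1
          (famRec F G b Good step good0 z).2).choose_spec.1⟩ := by
    unfold famRec
    exact Int.inductionOn'_sub_one hz
  rw [e]
  exact (step (z - 1) z (by omega) (famRec F G b Good step good0 z).1
    (famRec F G b Good step good0 z).2).choose_spec.2

include step good0 in
theorem exists_nat_of_step (hG : ∀ p, b ≤ p → IsZero (G.obj (op p))) :
    ∃ τ : F ⟶ G, ∀ p, Good p (τ.app (op p)) := by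
  refine ⟨natOfSteps F G (fun p => (famRec F G b Good step good0 p).1) ?_,
    fun p => (famRec F G b Good step good0 p).2⟩
  intro p q hq
  obtain rfl : p = q - 1 := by omega
  by_cases hb : q ≤ b
  · exact famRec_spec F G b Good step good0 q hb
  · exact (hG (q - 1) (by omega)).eq_of_tgt _ _

end Rec

/-! ### The extension lemma -/

lemma ext_step_aux {K Xp Xq Yp Yq Ip Iq : A}
    {tX : Xq ⟶ Xp} {tY : Yq ⟶ Yp} {tI : Iq ⟶ Ip}
    {vp : Xp ⟶ Yp} {vq : Xq ⟶ Yq} {αp : Xp ⟶ Ip} {αq : Xq ⟶ Iq}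
    (cv : tX ≫ vp = vq ≫ tY) (cα : tX ≫ αp = αq ≫ tI)
    (hker : ∀ ⦃T : A⦄ (x : T ⟶ Xp), x ≫ vp = 0 → x ≫ αp = 0)
    (hs : RefStr tY vq vp) (βq : Yq ⟶ Iq) (hβq : vq ≫ βq = αq)
    (y' : K ⟶ Yq) (x : K ⟶ Xp) (hc : y' ≫ tY + x ≫ vp = 0) :
    y' ≫ βq ≫ tI + x ≫ αp = 0 := by
  have h0 : y' ≫ tY = (-x) ≫ vp := by
    rw [Preadditive.neg_comp]
    exact eq_neg_of_add_eq_zero_left hc
  obtain ⟨T1, π1, _, x', hx'⟩ := hs y' (-x) h0
  have h1 : (π1 ≫ x + x' ≫ tX) ≫ vp = 0 := by
    rw [Preadditive.add_comp, Category.assoc, Category.assoc, cv, ← Category.assoc x' vq tY,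
      ← hx', Category.assoc, ← Preadditive.comp_add, add_comm, hc, comp_zero]
  have h2 := hker _ h1
  rw [Preadditive.add_comp, Category.assoc, Category.assoc] at h2
  rw [← cancel_epi π1, comp_zero, Preadditive.comp_add, ← Category.assoc π1 y', hx',
    Category.assoc, ← Category.assoc vq, hβq, ← cα, add_comm]
  exact h2

lemma ext_step {Xp Xq Yp Yq Ip Iq : A}
    {tX : Xq ⟶ Xp} {tY : Yq ⟶ Yp} {tI : Iq ⟶ Ip}
    {vp : Xp ⟶ Yp} {vq : Xq ⟶ Yq} {αp : Xp ⟶ Ip} {αq : Xq ⟶ Iq} [Injective Ip]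
    (cv : tX ≫ vp = vq ≫ tY) (cα : tX ≫ αp = αq ≫ tI)
    (hker : ∀ ⦃T : A⦄ (x : T ⟶ Xp), x ≫ vp = 0 → x ≫ αp = 0)
    (hs : RefStr tY vq vp) (βq : Yq ⟶ Iq) (hβq : vq ≫ βq = αq) :
    ∃ βp : Yp ⟶ Ip, vp ≫ βp = αp ∧ tY ≫ βp = βq ≫ tI := by
  have hm : biprod.desc tY vp = biprod.fst ≫ tY + biprod.snd ≫ vp := biprod.desc_eq
  have hn : biprod.desc (βq ≫ tI) αp = biprod.fst ≫ βq ≫ tI + biprod.snd ≫ αp :=
    biprod.desc_eq
  have hκ : kernel.ι (biprod.desc tY vp) ≫ biprod.desc (βq ≫ tI) αp = 0 := by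
    have hc : kernel.ι (biprod.desc tY vp) ≫ (biprod.fst ≫ tY + biprod.snd ≫ vp) = 0 := by
      rw [← hm]
      exact kernel.condition _
    have e := ext_step_aux cv cα hker hs βq hβq
      (kernel.ι (biprod.desc tY vp) ≫ biprod.fst) (kernel.ι (biprod.desc tY vp) ≫ biprod.snd)
      (by simpa only [Preadditive.comp_add, Category.assoc] using hc)
    rw [hn]
    simpa only [Preadditive.comp_add, Category.assoc] using e
  have hβp := (ShortComplex.exact_kernel (biprod.desc tY vp)).comp_descToInjective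
    (biprod.desc (βq ≫ tI) αp) hκ
  refine ⟨(ShortComplex.exact_kernel (biprod.desc tY vp)).descToInjective
    (biprod.desc (βq ≫ tI) αp) hκ, ?_, ?_⟩
  · have := biprod.inr ≫= hβp
    rwa [biprod.inr_desc_assoc, biprod.inr_desc] at this
  · have := biprod.inl ≫= hβp
    rwa [biprod.inl_desc_assoc, biprod.inl_desc] at this

theorem ext_desc {X Y I : FilD.FilF A} (v : X ⟶ Y) (hv : Str v.hom)
    (hI : FilD.IsFilteredInjective I) (α : X ⟶ I)
    (hker : ∀ (p : ℤ) ⦃T : A⦄ (x : T ⟶ X.obj.obj (op p)),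
      x ≫ v.hom.app (op p) = 0 → x ≫ α.hom.app (op p) = 0) :
    ∃ β : Y ⟶ I, v ≫ β = α := by
  obtain ⟨b, hb⟩ := I.property.2.1
  obtain ⟨τ, hτ⟩ := exists_nat_of_step Y.obj I.obj b
    (fun p β => v.hom.app (op p) ≫ β = α.hom.app (op p))
    (by
      intro p q hq βq hβq
      haveI := inj_levels I hI p
      exact ext_step (v.hom.naturality (homOfLE (by omega : p ≤ q)).op)
        (α.hom.naturality (homOfLE (by omega : p ≤ q)).op)
        (hker p) (hv p q (by omega)) βq hβq)
    (fun p hp => (hb p hp).eq_of_tgt _ _)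
    hb
  refine ⟨ObjectProperty.homMk τ, ?_⟩
  ext P
  exact hτ P.unop

/-! ### Kernels and monomorphisms of finite filtered objects -/

lemma isFinFil_kernel {X Y : FilD.FilF A} (φ : X ⟶ Y) : FilD.IsFinFil A (kernel φ.hom) := by
  have hmono : ∀ ⦃P Q : ℤᵒᵖ⦄ (f : P ⟶ Q), Mono ((kernel φ.hom).map f) := by
    intro P Q f
    haveI : Mono (X.obj.map f) := X.property.1 f
    exact mono_of_mono_fac ((kernel.ι φ.hom).naturality f)
  refine ⟨hmono, ?_, ?_⟩
  · obtain ⟨b, hb⟩ := X.property.2.1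
    exact ⟨b, fun p hp => IsZero.of_mono ((kernel.ι φ.hom).app (op p)) (hb p hp)⟩
  · obtain ⟨aX, hX⟩ := X.property.2.2
    obtain ⟨aY, hY⟩ := Y.property.2.2
    refine ⟨min aX aY, ?_⟩
    intro P Q f hP
    haveI : IsIso (X.obj.map f) := hX f (le_trans hP (min_le_left _ _))
    haveI : IsIso (Y.obj.map f) := hY f (le_trans hP (min_le_right _ _))
    haveI := hmono f
    haveI : Epi ((kernel φ.hom).map f) := by
      rw [epi_iff_surjective_up_to_refinements]
      intro T t
      have nat : inv (X.obj.map f) ≫ φ.hom.app P = φ.hom.app Q ≫ inv (Y.obj.map f) := by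
        rw [IsIso.inv_comp_eq, ← Category.assoc, IsIso.eq_comp_inv]
        exact (φ.hom.naturality f).symm
      have e : (t ≫ (kernel.ι φ.hom).app Q ≫ inv (X.obj.map f)) ≫ φ.hom.app P = 0 := by
        rw [Category.assoc, Category.assoc, nat, ← Category.assoc ((kernel.ι φ.hom).app Q),
          kernel_app_zero, zero_comp, comp_zero]
      obtain ⟨T', π, hπ, t', ht'⟩ := levelKer φ.hom P _ e
      refine ⟨T', π, hπ, t', ?_⟩
      rw [← cancel_mono ((kernel.ι φ.hom).app Q), Category.assoc, Category.assoc,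
        (kernel.ι φ.hom).naturality f, ← Category.assoc t', ← ht']
      simp only [Category.assoc, IsIso.inv_hom_id, Category.comp_id]
    exact isIso_of_mono_of_epi _

lemma mono_app_of_mono {X Y : FilD.FilF A} (u : X ⟶ Y) [Mono u] (p : ℤ) :
    Mono (u.hom.app (op p)) := by
  let K : FilD.FilF A := ⟨kernel u.hom, isFinFil_kernel u⟩
  let κ : K ⟶ X := ObjectProperty.homMk (kernel.ι u.hom)
  have h0 : κ ≫ u = 0 := by
    ext : 1
    exact kernel.condition u.hom
  have hκ : κ = 0 := by rw [← cancel_mono u, h0, zero_comp]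
  have hk : kernel.ι u.hom = 0 := congrArg (fun t => t.hom) hκ
  rw [Preadditive.mono_iff_cancel_zero]
  intro T x hx
  obtain ⟨T', π, _, k, hk'⟩ := levelKer u.hom (op p) x hx
  rw [← cancel_epi π, hk', hk, zero_app, comp_zero, comp_zero]

lemma mono_of_mono_app {X Y : FilD.FilF A} (u : X ⟶ Y) (h : ∀ p : ℤ, Mono (u.hom.app (op p))) :
    Mono u := by
  haveI : ∀ P : ℤᵒᵖ, Mono (u.hom.app P) := fun P => h P.unop
  haveI : Mono u.hom := NatTrans.mono_of_mono_app _
  exact (FilD.IsFinFil A).ι.mono_of_mono_map (show Mono ((FilD.IsFinFil A).ι.map u) from this)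

theorem S6605_main {X Y I : FilD.FilF A} (u : X ⟶ Y) [Mono u] (hu : FilD.IsStrict u)
    (hI : FilD.IsFilteredInjective I) (f : X ⟶ I) : ∃ g : Y ⟶ I, u ≫ g = f := by
  refine ext_desc u ((isStrict_iff_str u).1 hu) hI f ?_
  intro p T x hx
  haveI := mono_app_of_mono u p
  have : x = 0 := by rw [← cancel_mono (u.hom.app (op p)), hx, zero_comp]
  rw [this, zero_comp]

theorem S1080_main {I X : FilD.FilF A} (u : I ⟶ X) [Mono u] (hu : FilD.IsStrict u)
    (hI : FilD.IsFilteredInjective I) : ∃ r : X ⟶ I, u ≫ r = 𝟙 I :=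
  S6605_main u hu hI (𝟙 I)

end H10Fil
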