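import Groth.Agent.Lib.Helper10.FilExt

set_option backward.isDefEq.respectTransparency false
set_option backward.isDefEq.respectTransparency.types false
set_option autoImplicit false

universe v u

open CategoryTheory CategoryTheory.Limits Opposite

namespace H10Fil

section General

open CochainComplex HomComplex Preadditive

variable {C : Type*} [Category C] [Preadditive C]

lemma nullHomotopic_aux {K L : CochainComplex C ℤ}
    (f : K ⟶ L) (α : Cochain K L (-1)) (n m : ℤ) (hnm : n + 1 = m)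
    (hdesc : ∀ (u : K.X (n + 1) ⟶ L.X (n + 1)), K.d n (n + 1) ≫ u = 0 →
      ∃ β : K.X (n + 2) ⟶ L.X (n + 1), K.d (n + 1) (n + 2) ≫ β = u)
    (hα : (δ (-1) 0 α).EqUpTo (Cochain.ofHom f) n) :
    ∃ (h : K.X (n + 2) ⟶ L.X (n + 1)),
      (δ (-1) 0 (α + Cochain.single h (-1))).EqUpTo (Cochain.ofHom f) m := by
  subst hnm
  let u := f.f (n + 1) - α.v (n + 1) n (by lia) ≫ L.d n (n + 1) -
    K.d (n + 1) (n + 2) ≫ α.v (n + 2) (n + 1) (by lia)
  have hu : K.d n (n + 1) ≫ u = 0 := by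
    have eq := hα n n (add_zero n) (by rfl)
    simp only [δ_v (-1) 0 (neg_add_cancel 1) α n n (add_zero _) (n - 1) (n + 1)
      (by lia) (by lia), Int.negOnePow_zero, one_smul, Cochain.ofHom_v] at eq
    simp only [u, comp_sub, HomologicalComplex.d_comp_d_assoc, zero_comp,
      ← f.comm, ← eq, add_comp, Category.assoc, L.d_comp_d, comp_zero, zero_add, sub_self]
  obtain ⟨β, hβ⟩ := hdesc u hu
  refine ⟨β, ?_⟩
  intro p q hpq hp
  obtain rfl : p = q := by lia
  obtain hp | rfl := hp.lt_or_eq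
  · rw [δ_add, Cochain.add_v, hα p p (by lia) (by lia), add_eq_left,
      δ_v (-1) 0 (neg_add_cancel 1) _ p p hpq (p - 1) (p + 1) rfl rfl,
      Cochain.single_v_eq_zero _ _ _ _ _ (by lia),
      Cochain.single_v_eq_zero _ _ _ _ _ (by lia)]
    simp
  · rw [δ_v (-1) 0 (neg_add_cancel 1) _ (n + 1) (n + 1) (by lia) n (n + 2)
      (by lia) (by lia), Cochain.add_v,
      Cochain.single_v_eq_zero _ _ _ _ _ (by lia)]
    simp [hβ, u]

open Cochain.InductionUp in
theorem nullHomotopic_of_desc {K L : CochainComplex C ℤ} (d : ℤ) [L.IsStrictlyGE d]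
    (hdesc : ∀ (n : ℤ) (u : K.X (n + 1) ⟶ L.X (n + 1)), K.d n (n + 1) ≫ u = 0 →
      ∃ β : K.X (n + 2) ⟶ L.X (n + 1), K.d (n + 1) (n + 2) ≫ β = u)
    (f : K ⟶ L) : Nonempty (Homotopy f 0) := by
  let X (n : ℕ) : Set (Cochain K L (-1)) :=
    Set.ofPred (fun α => (δ (-1) 0 α).EqUpTo (Cochain.ofHom f) (n + d - 1))
  let x₀ : X 0 := ⟨0, fun p q hpq hp ↦
    IsZero.eq_of_tgt (L.isZero_of_isStrictlyGE d _ (by lia)) _ _⟩
  let φ (n : ℕ) (α : X n) : X (n + 1) :=
    ⟨_, (nullHomotopic_aux f α.1 (n + d - 1) ((n + 1 : ℕ) + d - 1)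
      (by lia) (hdesc _) α.2).choose_spec⟩
  have hφ (k : ℕ) (x : X k) : (φ k x).1.EqUpTo x.1 (d + k) := fun p q hpq hp => by
    dsimp [φ]
    rw [add_eq_left, Cochain.single_v_eq_zero _ _ _ _ _ (by lia)]
  refine ⟨(Cochain.equivHomotopy f 0).symm ⟨limitSequence φ hφ x₀, ?_⟩⟩
  rw [Cochain.ofHom_zero, add_zero]
  ext n
  let k₀ := (n - d + 1).toNat
  rw [← (sequence φ x₀ k₀).2 n n (add_zero n) (by lia),
    δ_v (-1) 0 (neg_add_cancel 1) _ n n (by lia) (n - 1) (n + 1) rfl (by lia),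
    δ_v (-1) 0 (neg_add_cancel 1) _ n n (by lia) (n - 1) (n + 1) rfl (by lia),
    limitSequence_eqUpTo φ hφ x₀ k₀ n (n - 1) (by lia) (by lia),
    limitSequence_eqUpTo φ hφ x₀ k₀ (n + 1) n (by lia) (by lia)]

end General

variable {A : Type u} [Category.{v} A] [Abelian A]

lemma app_zero_of_comp_zero {X Y Z : FilD.FilF A} (f : X ⟶ Y) (g : Y ⟶ Z) (h : f ≫ g = 0)
    (p : ℤ) : f.hom.app (op p) ≫ g.hom.app (op p) = 0 := by
  have h2 : (f ≫ g).hom.app (op p) = (0 : X ⟶ Z).hom.app (op p) := by rw [h]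
  exact h2

theorem S1083_main (K I : CochainComplex (FilD.FilF A) ℤ)
    (hK : FilD.IsFilteredAcyclic K) (a : ℤ) [I.IsStrictlyGE a]
    (hI : ∀ n, FilD.IsFilteredInjective (I.X n)) (φ : K ⟶ I) :
    Nonempty (Homotopy φ 0) := by
  refine nullHomotopic_of_desc a ?_ φ
  intro n u hu
  let S : ShortComplex (FilD.FilF A) :=
    ShortComplex.mk (K.d n (n + 1)) (K.d (n + 1) (n + 2)) (K.d_comp_d _ _ _)
  have hS : ∀ p, (S.map (FilD.grF A p)).Exact := by
    intro p
    have := hK p (n + 1)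
    rw [HomologicalComplex.exactAt_iff' _ n (n + 1) (n + 2) (by simp) (by simp; lia)] at this
    exact this
  have lev := levEx_of_grEx S hS
  have hstr : Str (K.d (n + 1) (n + 2)).hom := str_of_str1 _ (str1_g_of_grEx S hS)
  refine ext_desc (K.d (n + 1) (n + 2)) hstr (hI (n + 1)) u ?_
  intro p T x hx
  obtain ⟨T', π, _, w, hw⟩ := lev p x hx
  rw [← cancel_epi π, comp_zero, ← Category.assoc, hw, Category.assoc,
    app_zero_of_comp_zero _ _ hu p, comp_zero]

end H10Fil
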