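import Groth.Agent.Lib.Helper10.FilCone

set_option backward.isDefEq.respectTransparency false
set_option backward.isDefEq.respectTransparency.types false
set_option autoImplicit false

universe v u

open CategoryTheory CategoryTheory.Limits Opposite

namespace H10Fil

/-! ### Maps out of a complex concentrated in degree zero -/

section Single

variable {C : Type*} [Category C] [Preadditive C] [HasZeroObject C]

/-- degree-zero component of a map out of a complex concentrated in degree zero. -/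
noncomputable def deg0 {X : C} {K : CochainComplex C ℤ}
    (u : (CochainComplex.singleFunctor C 0).obj X ⟶ K) : X ⟶ K.X 0 :=
  (HomologicalComplex.singleObjXSelf (ComplexShape.up ℤ) 0 X).inv ≫ u.f 0

lemma deg0_d {X : C} {K : CochainComplex C ℤ}
    (u : (CochainComplex.singleFunctor C 0).obj X ⟶ K) (k : ℤ) : deg0 u ≫ K.d 0 k = 0 := by
  unfold deg0
  rw [Category.assoc, u.comm 0 k, CochainComplex.singleFunctor_obj_d, zero_comp, comp_zero]

lemma deg0_ext {X : C} {K : CochainComplex C ℤ}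
    {u v : (CochainComplex.singleFunctor C 0).obj X ⟶ K} (h : deg0 u = deg0 v) : u = v := by
  refine HomologicalComplex.from_single_hom_ext (c := ComplexShape.up ℤ) (j := 0) (A := X) ?_
  unfold deg0 at h
  exact (cancel_epi (HomologicalComplex.singleObjXSelf (ComplexShape.up ℤ) 0 X).inv).1 h

lemma deg0_comp {X : C} {K L : CochainComplex C ℤ}
    (u : (CochainComplex.singleFunctor C 0).obj X ⟶ K) (φ : K ⟶ L) :
    deg0 (u ≫ φ) = deg0 u ≫ φ.f 0 := by
  unfold deg0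
  rw [HomologicalComplex.comp_f, Category.assoc]

lemma deg0_map_comp {X Y : C} {K : CochainComplex C ℤ} (f : X ⟶ Y)
    (v : (CochainComplex.singleFunctor C 0).obj Y ⟶ K) :
    deg0 ((CochainComplex.singleFunctor C 0).map f ≫ v) = f ≫ deg0 v := by
  unfold deg0
  rw [HomologicalComplex.comp_f]
  have e : ((CochainComplex.singleFunctor C 0).map f).f 0 =
      (HomologicalComplex.singleObjXSelf (ComplexShape.up ℤ) 0 X).hom ≫ f ≫
        (HomologicalComplex.singleObjXSelf (ComplexShape.up ℤ) 0 Y).inv :=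
    HomologicalComplex.single_map_f_self (c := ComplexShape.up ℤ) 0 f
  rw [e]
  simp only [Category.assoc, Iso.inv_hom_id_assoc]

/-- a map out of a complex concentrated in degree zero from its degree-zero component. -/
noncomputable def mk0 {X : C} {K : CochainComplex C ℤ} (φ : X ⟶ K.X 0)
    (hφ : φ ≫ K.d 0 (0 + 1) = 0) : (CochainComplex.singleFunctor C 0).obj X ⟶ K :=
  HomologicalComplex.mkHomFromSingle φ (by
    intro k hk
    have hk' : (0 : ℤ) + 1 = k := hk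
    subst hk'
    exact hφ)

lemma deg0_mk0 {X : C} {K : CochainComplex C ℤ} (φ : X ⟶ K.X 0)
    (hφ : φ ≫ K.d 0 (0 + 1) = 0) : deg0 (mk0 φ hφ) = φ := by
  unfold deg0 mk0
  rw [HomologicalComplex.mkHomFromSingle_f, Iso.inv_hom_id_assoc]

lemma deg0_homotopy {X : C} {K : CochainComplex C ℤ}
    (u v : (CochainComplex.singleFunctor C 0).obj X ⟶ K) (H : Homotopy u v) :
    ∃ h : X ⟶ K.X (-1), deg0 u = h ≫ K.d (-1) 0 + deg0 v := by
  refine ⟨(HomologicalComplex.singleObjXSelf (ComplexShape.up ℤ) 0 X).inv ≫ H.hom 0 (-1), ?_⟩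
  have h1 := H.comm 0
  have h2 : dNext 0 H.hom = 0 := by
    rw [dNext_eq H.hom (show (ComplexShape.up ℤ).Rel 0 1 by simp)]
    have : H.hom 1 0 = 0 :=
      (HomologicalComplex.isZero_single_obj_X (ComplexShape.up ℤ) 0 X 1 (by simp)).eq_of_src _ _
    rw [this, comp_zero]
  have h3 : prevD 0 H.hom = H.hom 0 (-1) ≫ K.d (-1) 0 :=
    prevD_eq H.hom (show (ComplexShape.up ℤ).Rel (-1) 0 by simp)
  rw [h2, h3, zero_add] at h1
  unfold deg0
  rw [h1, Preadditive.comp_add, Category.assoc]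

lemma reindex_d {K : CochainComplex C ℤ} {T : C} (p q : ℤ) (e : p = q) (r : ℤ)
    (h : T ⟶ K.X p) : ∃ h' : T ⟶ K.X q, h ≫ K.d p r = h' ≫ K.d q r := by
  subst e
  exact ⟨h, rfl⟩

/-! ### The twisted direct sum of two complexes -/

variable [HasBinaryBiproducts C]
variable (I J : CochainComplex C ℤ) (τ : ∀ n : ℤ, J.X n ⟶ I.X (n + 1))

/-- the twisted differential. -/
noncomputable def twistD (n : ℤ) : (I.X n ⊞ J.X n) ⟶ (I.X (n + 1) ⊞ J.X (n + 1)) :=
  biprod.fst ≫ I.d n (n + 1) ≫ biprod.inl + biprod.snd ≫ τ n ≫ biprod.inl +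
    biprod.snd ≫ J.d n (n + 1) ≫ biprod.inr

lemma inl_twistD (n : ℤ) : biprod.inl ≫ twistD I J τ n = I.d n (n + 1) ≫ biprod.inl := by
  simp [twistD]

lemma inr_twistD (n : ℤ) :
    biprod.inr ≫ twistD I J τ n = τ n ≫ biprod.inl + J.d n (n + 1) ≫ biprod.inr := by
  simp [twistD]

lemma twistD_snd (n : ℤ) : twistD I J τ n ≫ biprod.snd = biprod.snd ≫ J.d n (n + 1) := by
  simp [twistD]

variable (hτ : ∀ n : ℤ, τ n ≫ I.d (n + 1) (n + 1 + 1) + J.d n (n + 1) ≫ τ (n + 1) = 0)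

include hτ in
lemma twistD_sq (n : ℤ) : twistD I J τ n ≫ twistD I J τ (n + 1) = 0 := by
  apply biprod.hom_ext'
  · rw [← Category.assoc, inl_twistD, Category.assoc, inl_twistD, ← Category.assoc,
      I.d_comp_d, zero_comp, comp_zero]
  · rw [← Category.assoc, inr_twistD, comp_zero]
    simp only [Preadditive.add_comp, Preadditive.comp_add, Category.assoc, inl_twistD,
      inr_twistD, HomologicalComplex.d_comp_d_assoc, zero_comp, comp_zero, add_zero]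
    rw [← Category.assoc (τ n), ← Category.assoc (J.d n (n + 1)), ← Preadditive.add_comp, hτ,
      zero_comp]

/-- the twisted direct sum complex. -/
noncomputable def twist : CochainComplex C ℤ :=
  CochainComplex.of (fun n => I.X n ⊞ J.X n) (twistD I J τ) (twistD_sq I J τ hτ)

lemma twist_d (n : ℤ) : (twist I J τ hτ).d n (n + 1) = twistD I J τ n := by
  show CochainComplex.of.d (fun n => I.X n ⊞ J.X n) (twistD I J τ) n (n + 1) = _
  exact CochainComplex.of_d (fun n => I.X n ⊞ J.X n) (twistD I J τ) n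

/-- the inclusion of the first summand. -/
noncomputable def twistInl : I ⟶ twist I J τ hτ where
  f n := (biprod.inl : I.X n ⟶ I.X n ⊞ J.X n)
  comm' n m hnm := by
    have e : n + 1 = m := hnm
    subst e
    rw [twist_d]
    exact inl_twistD I J τ n

/-- the projection to the second summand. -/
noncomputable def twistSnd : twist I J τ hτ ⟶ J where
  f n := (biprod.snd : I.X n ⊞ J.X n ⟶ J.X n)
  comm' n m hnm := by
    have e : n + 1 = m := hnm
    subst e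
    rw [twist_d]
    exact (twistD_snd I J τ n).symm

lemma twist_split (n : ℤ) :
    ∃ (r : (twist I J τ hτ).X n ⟶ I.X n) (s : J.X n ⟶ (twist I J τ hτ).X n),
      (twistInl I J τ hτ).f n ≫ r = 𝟙 _ ∧ s ≫ (twistSnd I J τ hτ).f n = 𝟙 _ ∧
      (twistInl I J τ hτ).f n ≫ (twistSnd I J τ hτ).f n = 0 ∧
      r ≫ (twistInl I J τ hτ).f n + (twistSnd I J τ hτ).f n ≫ s = 𝟙 _ :=
  ⟨(biprod.fst : I.X n ⊞ J.X n ⟶ I.X n), (biprod.inr : J.X n ⟶ I.X n ⊞ J.X n),
    biprod.inl_fst, biprod.inr_snd, biprod.inl_snd, biprod.total⟩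

lemma twist_from_single_d {X : C} (x : X ⟶ I.X 0) (y : X ⟶ J.X 0)
    (h1 : x ≫ I.d 0 (0 + 1) + y ≫ τ 0 = 0) (h2 : y ≫ J.d 0 (0 + 1) = 0) :
    ((x ≫ (biprod.inl : I.X 0 ⟶ I.X 0 ⊞ J.X 0) + y ≫ (biprod.inr : J.X 0 ⟶ I.X 0 ⊞ J.X 0) :
      X ⟶ I.X 0 ⊞ J.X 0) : X ⟶ (twist I J τ hτ).X 0) ≫ (twist I J τ hτ).d 0 (0 + 1) = 0 := by
  rw [twist_d]
  simp only [Preadditive.add_comp, Preadditive.comp_add, Category.assoc, inl_twistD, inr_twistD]
  have e1 : x ≫ I.d 0 (0 + 1) ≫ biprod.inl + y ≫ τ 0 ≫ biprod.inl =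
      (0 : X ⟶ I.X (0 + 1) ⊞ J.X (0 + 1)) := by
    rw [← Category.assoc x, ← Category.assoc y, ← Preadditive.add_comp, h1, zero_comp]
  have e2 : y ≫ J.d 0 (0 + 1) ≫ biprod.inr = (0 : X ⟶ I.X (0 + 1) ⊞ J.X (0 + 1)) := by
    rw [← Category.assoc, h2, zero_comp]
  rw [e2, add_zero]
  exact e1

end Single

variable {A : Type u} [Category.{v} A] [Abelian A]

lemma epi_of_epi_app {X Y : FilD.FilF A} (u : X ⟶ Y) (h : ∀ p : ℤ, Epi (u.hom.app (op p))) :
    Epi u := by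
  haveI : ∀ P : ℤᵒᵖ, Epi (u.hom.app P) := fun P => h P.unop
  haveI : Epi u.hom := NatTrans.epi_of_epi_app _
  exact (FilD.IsFinFil A).ι.epi_of_epi_map (show Epi ((FilD.IsFinFil A).ι.map u) from this)

theorem S1090_main {X Y : FilD.FilF A} (f : X ⟶ Y)
    (I : CochainComplex (FilD.FilF A) ℤ)
    (a : (CochainComplex.singleFunctor (FilD.FilF A) 0).obj X ⟶ I)
    (ha : FilD.IsFilteredQuasiIso a)
    (J : CochainComplex (FilD.FilF A) ℤ) [J.IsStrictlyGE 0]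
    (hJ : ∀ n, FilD.IsFilteredInjective (J.X n))
    (b : (CochainComplex.singleFunctor (FilD.FilF A) 0).obj Y ⟶ J) :
    ∃ φ : I ⟶ J, a ≫ φ = (CochainComplex.singleFunctor (FilD.FilF A) 0).map f ≫ b := by
  obtain ⟨φ, ⟨H⟩⟩ := exists_lift_homotopy J 0 hJ a ha
    ((CochainComplex.singleFunctor (FilD.FilF A) 0).map f ≫ b)
  refine ⟨φ, ?_⟩
  obtain ⟨h, hh⟩ := deg0_homotopy _ _ H
  apply deg0_ext
  rw [hh]
  have : h = 0 := (J.isZero_of_isStrictlyGE 0 (-1) (by omega)).eq_of_tgt _ _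
  rw [this, zero_comp, zero_add]

theorem S1091_main (S : ShortComplex (FilD.FilF A))
    (hS : ∀ p : ℤ, (S.map ((FilD.IsFinFil A).ι ⋙ (evaluation ℤᵒᵖ A).obj (op p))).ShortExact)
    (I : CochainComplex (FilD.FilF A) ℤ) [I.IsStrictlyGE 0]
    (hI : ∀ n, FilD.IsFilteredInjective (I.X n))
    (a : (CochainComplex.singleFunctor (FilD.FilF A) 0).obj S.X₁ ⟶ I)
    (J : CochainComplex (FilD.FilF A) ℤ)
    (c : (CochainComplex.singleFunctor (FilD.FilF A) 0).obj S.X₃ ⟶ J)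
    (hc : FilD.IsFilteredQuasiIso c) :
    ∃ (M : CochainComplex (FilD.FilF A) ℤ) (α : I ⟶ M) (β : M ⟶ J)
      (b : (CochainComplex.singleFunctor (FilD.FilF A) 0).obj S.X₂ ⟶ M),
      (∀ n, ∃ (r : M.X n ⟶ I.X n) (s : J.X n ⟶ M.X n), α.f n ≫ r = 𝟙 _ ∧ s ≫ β.f n = 𝟙 _ ∧
        α.f n ≫ β.f n = 0 ∧ r ≫ α.f n + β.f n ≫ s = 𝟙 _) ∧
      a ≫ α = (CochainComplex.singleFunctor (FilD.FilF A) 0).map S.f ≫ b ∧
      b ≫ β = (CochainComplex.singleFunctor (FilD.FilF A) 0).map S.g ≫ c := by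
  have lev : ∀ p : ℤ, RefEx (S.f.hom.app (op p)) (S.g.hom.app (op p)) := fun p =>
    (ShortComplex.exact_iff_exact_up_to_refinements _).1 (hS p).exact
  have hmf : ∀ p : ℤ, Mono (S.f.hom.app (op p)) := fun p => (hS p).mono_f
  have heg : ∀ p : ℤ, Epi (S.g.hom.app (op p)) := fun p => (hS p).epi_g
  haveI : Mono S.f := mono_of_mono_app S.f hmf
  haveI : Epi S.g := epi_of_epi_app S.g heg
  have hfs : FilD.IsStrict S.f :=
    (isStrict_iff_str S.f).2 (str_of_str1 _ (str1_f_of_levEx S lev))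
  have hgs : Str S.g.hom := by
    intro p q h T z y _
    haveI := heg q
    exact surjective_up_to_refinements_of_epi (S.g.hom.app (op q)) z
  obtain ⟨β', hβ'⟩ := S6605_main S.f hfs (hI 0) (deg0 a)
  have hfd : S.f ≫ β' ≫ I.d 0 (0 + 1) = 0 := by
    rw [← Category.assoc, hβ', deg0_d]
  obtain ⟨γ, hγ⟩ := ext_desc S.g hgs (hI (0 + 1)) (β' ≫ I.d 0 (0 + 1)) (by
    intro p T x hx
    obtain ⟨T', π, _, x', hx'⟩ := lev p x hx
    rw [← cancel_epi π, comp_zero, ← Category.assoc, hx', Category.assoc,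
      app_zero_of_comp_zero S.f (β' ≫ I.d 0 (0 + 1)) hfd p, comp_zero])
  have hγd : γ ≫ I.d (0 + 1) (0 + 1 + 1) = 0 := by
    rw [← cancel_epi S.g, ← Category.assoc, hγ, Category.assoc, I.d_comp_d, comp_zero, comp_zero]
  haveI : (I⟦(1 : ℤ)⟧).IsStrictlyGE (-1) :=
    CochainComplex.isStrictlyGE_shift I 0 1 (-1) (by omega)
  have hI1 : ∀ n, FilD.IsFilteredInjective ((I⟦(1 : ℤ)⟧).X n) := fun n => hI (n + 1)
  obtain ⟨gt, hgt⟩ : ∃ gt : (CochainComplex.singleFunctor (FilD.FilF A) 0).obj S.X₃ ⟶ I⟦(1 : ℤ)⟧,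
      deg0 gt = (-γ : S.X₃ ⟶ (I⟦(1 : ℤ)⟧).X 0) := by
    refine ⟨mk0 (-γ : S.X₃ ⟶ (I⟦(1 : ℤ)⟧).X 0) ?_, deg0_mk0 _ _⟩
    show (-γ) ≫ ((1 : ℤ).negOnePow • I.d (0 + 1) (0 + 1 + 1)) = 0
    rw [Int.negOnePow_one, Units.neg_smul, one_smul, Preadditive.neg_comp, Preadditive.comp_neg,
      neg_neg]
    exact hγd
  obtain ⟨ψ, ⟨H⟩⟩ := exists_lift_homotopy (I⟦(1 : ℤ)⟧) (-1) hI1 c hc gt
  obtain ⟨τ, hτdef⟩ : ∃ τ : ∀ n : ℤ, J.X n ⟶ I.X (n + 1), ∀ n, τ n = ψ.f n :=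
    ⟨fun n => ψ.f n, fun n => rfl⟩
  have hτ : ∀ n : ℤ, τ n ≫ I.d (n + 1) (n + 1 + 1) + J.d n (n + 1) ≫ τ (n + 1) = 0 := by
    intro n
    have h1 : τ n ≫ ((1 : ℤ).negOnePow • I.d (n + 1) (n + 1 + 1)) =
        J.d n (n + 1) ≫ τ (n + 1) := by
      rw [hτdef n, hτdef (n + 1)]
      exact ψ.comm n (n + 1)
    rw [Int.negOnePow_one, Units.neg_smul, one_smul, Preadditive.comp_neg] at h1
    rw [← h1, add_neg_cancel]
  obtain ⟨h, hh⟩ := deg0_homotopy (c ≫ ψ) gt H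
  rw [deg0_comp, hgt] at hh
  obtain ⟨h', hh'⟩ := reindex_d (K := I) (-1 + 1) 0 (by norm_num) (0 + 1)
    (h : S.X₃ ⟶ I.X (-1 + 1))
  have key : deg0 c ≫ τ 0 = -(h' ≫ I.d 0 (0 + 1)) - γ := by
    rw [← hh', hτdef 0]
    have e : (h : S.X₃ ⟶ I.X (-1 + 1)) ≫ ((1 : ℤ).negOnePow • I.d (-1 + 1) (0 + 1)) + -γ
        = -((h : S.X₃ ⟶ I.X (-1 + 1)) ≫ I.d (-1 + 1) (0 + 1)) - γ := by
      rw [Int.negOnePow_one, Units.neg_smul, one_smul, Preadditive.comp_neg, sub_eq_add_neg]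
    exact hh.trans e
  obtain ⟨β'', hβ1, hβ2⟩ : ∃ β'' : S.X₂ ⟶ I.X 0, S.f ≫ β'' = deg0 a ∧
      β'' ≫ I.d 0 (0 + 1) + (S.g ≫ deg0 c) ≫ τ 0 = 0 := by
    refine ⟨β' + S.g ≫ h', ?_, ?_⟩
    · rw [Preadditive.comp_add, hβ', ← Category.assoc, S.zero, zero_comp, add_zero]
    · rw [Category.assoc, key, Preadditive.add_comp, Preadditive.comp_sub, Preadditive.comp_neg,
        hγ, Category.assoc]
      abel
  obtain ⟨y, hy⟩ : ∃ y : S.X₂ ⟶ J.X 0, y = S.g ≫ deg0 c := ⟨_, rfl⟩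
  have fy : S.f ≫ y = 0 := by rw [hy, ← Category.assoc, S.zero, zero_comp]
  have yd : y ≫ J.d 0 (0 + 1) = 0 := by rw [hy, Category.assoc, deg0_d, comp_zero]
  rw [← hy] at hβ2
  refine ⟨twist I J τ hτ, twistInl I J τ hτ, twistSnd I J τ hτ,
    mk0 _ (twist_from_single_d I J τ hτ β'' y hβ2 yd), twist_split I J τ hτ, ?_, ?_⟩
  · apply deg0_ext
    rw [deg0_comp, deg0_map_comp, deg0_mk0]
    show deg0 a ≫ biprod.inl = S.f ≫ (β'' ≫ biprod.inl + y ≫ biprod.inr)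
    rw [Preadditive.comp_add, ← Category.assoc, hβ1, ← Category.assoc, fy, zero_comp, add_zero]
  · apply deg0_ext
    rw [deg0_comp, deg0_mk0, deg0_map_comp]
    show (β'' ≫ biprod.inl + y ≫ biprod.inr) ≫ biprod.snd = S.g ≫ deg0 c
    rw [Preadditive.add_comp, Category.assoc, Category.assoc, biprod.inl_snd, biprod.inr_snd,
      comp_zero, zero_add, Category.comp_id, hy]

end H10Fil
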