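import Groth.Agent.Lib.Helper10.FilEnough

set_option backward.isDefEq.respectTransparency false
set_option backward.isDefEq.respectTransparency.types false
set_option autoImplicit false

universe v u

open CategoryTheory CategoryTheory.Limits Opposite

namespace H10Fil

/-! ### `ℤ`-indexed complexes from `ℕ`-indexed sequences -/

section NatToInt

variable {C : Type*} [Category C] [Preadditive C] [HasZeroObject C]

open ZeroObject

/-- objects of the `ℤ`-indexed extension by zero of an `ℕ`-indexed sequence. -/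
noncomputable def obZ (I : ℕ → C) : ℤ → C
  | Int.ofNat m => I m
  | Int.negSucc _ => 0

/-- differentials of the `ℤ`-indexed extension by zero. -/
noncomputable def dZ (I : ℕ → C) (d : ∀ m, I m ⟶ I (m + 1)) :
    ∀ n : ℤ, obZ I n ⟶ obZ I (n + 1)
  | Int.ofNat m => d m
  | Int.negSucc _ => 0

lemma dZ_sq (I : ℕ → C) (d : ∀ m, I m ⟶ I (m + 1)) (sq : ∀ m, d m ≫ d (m + 1) = 0) :
    ∀ n : ℤ, dZ I d n ≫ dZ I d (n + 1) = 0
  | Int.ofNat m => sq m
  | Int.negSucc _ => zero_comp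

/-- the `ℤ`-indexed extension by zero of an `ℕ`-indexed complex. -/
noncomputable def natZ (I : ℕ → C) (d : ∀ m, I m ⟶ I (m + 1))
    (sq : ∀ m, d m ≫ d (m + 1) = 0) : CochainComplex C ℤ :=
  CochainComplex.of (obZ I) (dZ I d) (dZ_sq I d sq)

lemma natZ_d (I : ℕ → C) (d : ∀ m, I m ⟶ I (m + 1)) (sq : ∀ m, d m ≫ d (m + 1) = 0) (m : ℕ) :
    (natZ I d sq).d (Int.ofNat m) (Int.ofNat (m + 1)) = d m :=
  CochainComplex.of_d (obZ I) (dZ I d) (Int.ofNat m)

lemma natZ_isZero (I : ℕ → C) (d : ∀ m, I m ⟶ I (m + 1)) (sq : ∀ m, d m ≫ d (m + 1) = 0)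
    (n : ℤ) (h : n < 0) : IsZero ((natZ I d sq).X n) := by
  cases n with
  | ofNat m => exact absurd h (not_lt.mpr (Int.natCast_nonneg m))
  | negSucc m => exact isZero_zero C

instance (I : ℕ → C) (d : ∀ m, I m ⟶ I (m + 1)) (sq : ∀ m, d m ≫ d (m + 1) = 0) :
    (natZ I d sq).IsStrictlyGE 0 := by
  rw [CochainComplex.isStrictlyGE_iff]
  intro i hi
  exact natZ_isZero I d sq i hi

lemma mk0_f {X : C} {K : CochainComplex C ℤ} (φ : X ⟶ K.X 0)
    (hφ : φ ≫ K.d 0 (0 + 1) = 0) :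
    (mk0 φ hφ).f 0 = (HomologicalComplex.singleObjXSelf (ComplexShape.up ℤ) 0 X).hom ≫ φ := by
  unfold mk0
  exact HomologicalComplex.mkHomFromSingle_f _ _

end NatToInt

variable {A : Type u} [Category.{v} A] [Abelian A]

/-! ### Abstract chases -/

lemma mono_bot {X' X X'' Y' Y Y'' Z' Z : A}
    {iX : X' ⟶ X} {pX : X ⟶ X''} {iY : Y' ⟶ Y} {pY : Y ⟶ Y''} {iZ : Z' ⟶ Z}
    {f' : X' ⟶ Y'} {f : X ⟶ Y} {f'' : X'' ⟶ Y''} {g' : Y' ⟶ Z'} {g : Y ⟶ Z}
    [Epi pX] [Mono iZ] [Mono f]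
    (zX : iX ≫ pX = 0) (rowY : RefEx iY pY)
    (c1 : iX ≫ f = f' ≫ iY) (c2 : pX ≫ f'' = f ≫ pY) (c3 : iY ≫ g = g' ≫ iZ)
    (fg : f ≫ g = 0) (E' : RefEx f' g') : Mono f'' := by
  rw [Preadditive.mono_iff_cancel_zero]
  intro T x'' hx''
  obtain ⟨T1, π1, _, x, hx⟩ := surjective_up_to_refinements_of_epi pX x''
  have e1 : (x ≫ f) ≫ pY = 0 := by
    rw [Category.assoc, ← c2, ← Category.assoc, ← hx, Category.assoc, hx'', comp_zero]
  obtain ⟨T2, π2, _, y', hy'⟩ := rowY (x ≫ f) e1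
  have e2 : y' ≫ g' = 0 := by
    rw [← cancel_mono iZ, Category.assoc, ← c3, ← Category.assoc, ← hy', zero_comp,
      Category.assoc, Category.assoc, fg, comp_zero, comp_zero]
  obtain ⟨T3, π3, _, x', hx'⟩ := E' y' e2
  have e3 : π3 ≫ π2 ≫ x = x' ≫ iX := by
    rw [← cancel_mono f, Category.assoc, Category.assoc, hy', ← Category.assoc, hx',
      Category.assoc, Category.assoc, c1]
  have e4 : π3 ≫ π2 ≫ π1 ≫ x'' = 0 := by
    rw [hx, reassoc_of% e3, zX, comp_zero]
  rw [← cancel_epi π1, ← cancel_epi π2, ← cancel_epi π3, e4, comp_zero, comp_zero, comp_zero]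

lemma refEx_bot {X X'' Y' Y Y'' Z' Z Z'' : A}
    {pX : X ⟶ X''} {iY : Y' ⟶ Y} {pY : Y ⟶ Y''} {iZ : Z' ⟶ Z} {pZ : Z ⟶ Z''}
    {f : X ⟶ Y} {f'' : X'' ⟶ Y''} {g' : Y' ⟶ Z'} {g : Y ⟶ Z} {g'' : Y'' ⟶ Z''}
    [Epi pY] [Epi g']
    (zY : iY ≫ pY = 0) (rowZ : RefEx iZ pZ)
    (c2 : pX ≫ f'' = f ≫ pY) (c3 : iY ≫ g = g' ≫ iZ) (c4 : pY ≫ g'' = g ≫ pZ)
    (E : RefEx f g) : RefEx f'' g'' := by
  intro T y'' hy''
  obtain ⟨T1, π1, _, y, hy⟩ := surjective_up_to_refinements_of_epi pY y''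
  have e1 : (y ≫ g) ≫ pZ = 0 := by
    rw [Category.assoc, ← c4, ← Category.assoc, ← hy, Category.assoc, hy'', comp_zero]
  obtain ⟨T2, π2, _, z', hz'⟩ := rowZ (y ≫ g) e1
  obtain ⟨T3, π3, _, y', hy'⟩ := surjective_up_to_refinements_of_epi g' z'
  have e2 : (π3 ≫ π2 ≫ y - y' ≫ iY) ≫ g = 0 := by
    rw [Preadditive.sub_comp, Category.assoc, Category.assoc, hz', Category.assoc, c3,
      ← Category.assoc π3, hy', Category.assoc, sub_self]
  obtain ⟨T4, π4, _, x, hx⟩ := E _ e2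
  refine ⟨T4, π4 ≫ π3 ≫ π2 ≫ π1, inferInstance, x ≫ pX, ?_⟩
  have key : (x ≫ f) ≫ pY = π4 ≫ π3 ≫ π2 ≫ y ≫ pY := by
    rw [← hx]
    simp only [Preadditive.sub_comp, Preadditive.comp_sub, Category.assoc, zY, comp_zero,
      sub_zero]
  calc (π4 ≫ π3 ≫ π2 ≫ π1) ≫ y'' = π4 ≫ π3 ≫ π2 ≫ y ≫ pY := by
        simp only [Category.assoc, hy]
    _ = (x ≫ f) ≫ pY := key.symm
    _ = (x ≫ pX) ≫ f'' := by rw [Category.assoc, Category.assoc, c2]

lemma refEx_splice {I0 C1 I1 C2 I2 : A} (q0 : I0 ⟶ C1) (u1 : C1 ⟶ I1) (q1 : I1 ⟶ C2)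
    (u2 : C2 ⟶ I2) [Epi q0] [Mono u2] (h : RefEx u1 q1) : RefEx (q0 ≫ u1) (q1 ≫ u2) := by
  intro T y hy
  have e : y ≫ q1 = 0 := by
    rw [← cancel_mono u2, Category.assoc, hy, zero_comp]
  obtain ⟨T1, π1, _, c, hc⟩ := h y e
  obtain ⟨T2, π2, _, y', hy'⟩ := surjective_up_to_refinements_of_epi q0 c
  refine ⟨T2, π2 ≫ π1, inferInstance, y', ?_⟩
  rw [Category.assoc, hc, ← Category.assoc, hy', Category.assoc]

lemma refEx_splice0 {X I0 C1 I1 : A} (u0 : X ⟶ I0) (q0 : I0 ⟶ C1) (u1 : C1 ⟶ I1) [Mono u1]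
    (h : RefEx u0 q0) : RefEx u0 (q0 ≫ u1) := by
  intro T y hy
  exact h y (by rw [← cancel_mono u1, Category.assoc, hy, zero_comp])

lemma refEx_iso_comp {W X Y Z : A} (e : W ⟶ X) [IsIso e] (f : X ⟶ Y) (g : Y ⟶ Z)
    (h : RefEx f g) : RefEx (e ≫ f) g := by
  intro T y hy
  obtain ⟨T1, π1, hπ, x, hx⟩ := h y hy
  exact ⟨T1, π1, hπ, x ≫ inv e, by rw [Category.assoc, IsIso.inv_hom_id_assoc]; exact hx⟩

lemma exactAt_of_isZero {K : CochainComplex A ℤ} (n : ℤ) (h : IsZero (K.X n)) : K.ExactAt n :=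
  ShortComplex.exact_of_isZero_X₂ _ h

/-! ### Graded pieces of levelwise short exact sequences -/

theorem gr_shortExact (S : ShortComplex (FilD.FilF A))
    (lev : ∀ p : ℤ, RefEx (S.f.hom.app (op p)) (S.g.hom.app (op p)))
    (hm : ∀ p : ℤ, Mono (S.f.hom.app (op p))) (he : ∀ p : ℤ, Epi (S.g.hom.app (op p)))
    (p : ℤ) :
    Mono ((FilD.gr A p).map S.f.hom) ∧
      RefEx ((FilD.gr A p).map S.f.hom) ((FilD.gr A p).map S.g.hom) ∧
      Epi ((FilD.gr A p).map S.g.hom) := by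
  haveI := hm p
  haveI := he p
  haveI := he (p + 1)
  haveI : Mono (S.X₃.obj.map (FilD.stepHom p)) := S.X₃.property.1 _
  refine ⟨?_, ?_, ?_⟩
  · exact mono_bot (st_grπ S.X₁.obj p) (row S.X₂.obj p) (S.f.hom.naturality (FilD.stepHom p))
      (grπ_map S.f.hom p) (S.g.hom.naturality (FilD.stepHom p)) (app_zero S p) (lev (p + 1))
  · exact refEx_bot (st_grπ S.X₂.obj p) (row S.X₃.obj p) (grπ_map S.f.hom p)
      (S.g.hom.naturality (FilD.stepHom p)) (grπ_map S.g.hom p) (lev p)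
  · exact epi_of_epi_fac (grπ_map S.g.hom p)

/-! ### Cokernels of strict morphisms -/

lemma levelCoker {F G : ℤᵒᵖ ⥤ A} (φ : F ⟶ G) (P : ℤᵒᵖ) :
    RefEx (φ.app P) ((cokernel.π φ).app P) := by
  have h : ((ShortComplex.mk φ (cokernel.π φ) (cokernel.condition φ)).map
      ((evaluation ℤᵒᵖ A).obj P)).Exact :=
    (ShortComplex.exact_cokernel φ).map_of_epi_of_preservesCokernel _
      (by dsimp; infer_instance) inferInstance
  exact (ShortComplex.exact_iff_exact_up_to_refinements _).1 h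

lemma epi_coker_app {F G : ℤᵒᵖ ⥤ A} (φ : F ⟶ G) (P : ℤᵒᵖ) :
    Epi ((cokernel.π φ).app P) := inferInstance

lemma coker_app_zero {F G : ℤᵒᵖ ⥤ A} (φ : F ⟶ G) (P : ℤᵒᵖ) :
    φ.app P ≫ (cokernel.π φ).app P = 0 := by
  rw [← NatTrans.comp_app, cokernel.condition]
  rfl

lemma isFinFil_cokernel {X Y : FilD.FilF A} (φ : X ⟶ Y) (hφ : Str φ.hom) :
    FilD.IsFinFil A (cokernel φ.hom) := by
  have hmono : ∀ ⦃P Q : ℤᵒᵖ⦄ (f : P ⟶ Q), Mono ((cokernel φ.hom).map f) := by
    intro P Q f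
    rw [Preadditive.mono_iff_cancel_zero]
    intro T z hz
    haveI := epi_coker_app φ.hom P
    obtain ⟨T1, π1, _, y, hy⟩ :=
      surjective_up_to_refinements_of_epi ((cokernel.π φ.hom).app P) z
    have nat := (cokernel.π φ.hom).naturality f
    have e1 : (y ≫ Y.obj.map f) ≫ (cokernel.π φ.hom).app Q = 0 := by
      rw [Category.assoc, nat, ← Category.assoc, ← hy, Category.assoc, hz, comp_zero]
    obtain ⟨T2, π2, _, x, hx⟩ := levelCoker φ.hom Q _ e1
    have hab : Q.unop ≤ P.unop := leOfHom f.unop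
    have e2 : Y.obj.map f = tr Y.obj Q.unop P.unop hab := map_eq Y.obj _ _
    obtain ⟨T3, π3, _, x', hx'⟩ := hφ Q.unop P.unop hab (π2 ≫ y) x (by
      rw [Category.assoc, ← e2]
      exact hx)
    have e4 : φ.hom.app (op P.unop) ≫ (cokernel.π φ.hom).app P = 0 := coker_app_zero φ.hom P
    have e3 : π3 ≫ π2 ≫ π1 ≫ z = 0 := by
      rw [hy, reassoc_of% hx', e4, comp_zero]
    rw [← cancel_epi π1, ← cancel_epi π2, ← cancel_epi π3, e3, comp_zero, comp_zero, comp_zero]
  refine ⟨hmono, ?_, ?_⟩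
  · obtain ⟨b, hb⟩ := Y.property.2.1
    refine ⟨b, fun p hp => ?_⟩
    haveI := epi_coker_app φ.hom (op p)
    exact IsZero.of_epi ((cokernel.π φ.hom).app (op p)) (hb p hp)
  · obtain ⟨a, ha⟩ := Y.property.2.2
    refine ⟨a, ?_⟩
    intro P Q f hP
    haveI : IsIso (Y.obj.map f) := ha f hP
    haveI := epi_coker_app φ.hom Q
    haveI := hmono f
    haveI : Epi ((cokernel φ.hom).map f) :=
      epi_of_epi_fac ((cokernel.π φ.hom).naturality f).symm
    exact isIso_of_mono_of_epi _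

lemma isFilteredInjective_of_isZero {Z : FilD.FilF A} (h : IsZero Z) :
    FilD.IsFilteredInjective Z :=
  fun p => ((FilD.grF A p).map_isZero h).injective

/-! ### Filtered injective resolutions of objects -/

section Resolution

variable [EnoughInjectives A]

/-- a chosen filtered injective object containing `C`. -/
noncomputable def emb (C : FilD.FilF A) : FilD.FilF A := (S1081_main C).choose

/-- the chosen strict monomorphism. -/
noncomputable def embU (C : FilD.FilF A) : C ⟶ emb C := (S1081_main C).choose_spec.choose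

lemma emb_spec (C : FilD.FilF A) :
    FilD.IsFilteredInjective (emb C) ∧ Mono (embU C) ∧ FilD.IsStrict (embU C) :=
  (S1081_main C).choose_spec.choose_spec

/-- the cokernel of the chosen strict monomorphism. -/
noncomputable def nextC (C : FilD.FilF A) : FilD.FilF A :=
  ⟨cokernel (embU C).hom,
    isFinFil_cokernel (embU C) ((isStrict_iff_str _).1 (emb_spec C).2.2)⟩

/-- the projection to the cokernel. -/
noncomputable def embQ (C : FilD.FilF A) : emb C ⟶ nextC C :=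
  ObjectProperty.homMk (cokernel.π (embU C).hom)

lemma embU_Q (C : FilD.FilF A) : embU C ≫ embQ C = 0 := by
  ext : 1
  exact cokernel.condition (embU C).hom

lemma emb_gr (C : FilD.FilF A) (p : ℤ) :
    Mono ((FilD.grF A p).map (embU C)) ∧
      RefEx ((FilD.grF A p).map (embU C)) ((FilD.grF A p).map (embQ C)) ∧
      Epi ((FilD.grF A p).map (embQ C)) := by
  haveI := (emb_spec C).2.1
  exact gr_shortExact (ShortComplex.mk (embU C) (embQ C) (embU_Q C))
    (fun q => levelCoker (embU C).hom (op q)) (fun q => mono_app_of_mono (embU C) q)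
    (fun q => epi_coker_app (embU C).hom (op q)) p

/-- the successive cokernels. -/
noncomputable def Cn (X : FilD.FilF A) : ℕ → FilD.FilF A
  | 0 => X
  | n + 1 => nextC (Cn X n)

/-- the terms of the resolution. -/
noncomputable def In (X : FilD.FilF A) (n : ℕ) : FilD.FilF A := emb (Cn X n)

/-- the differentials of the resolution. -/
noncomputable def dn (X : FilD.FilF A) (n : ℕ) : In X n ⟶ In X (n + 1) :=
  embQ (Cn X n) ≫ embU (nextC (Cn X n))

lemma dn_sq (X : FilD.FilF A) (n : ℕ) : dn X n ≫ dn X (n + 1) = 0 := by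
  show (embQ (Cn X n) ≫ embU (nextC (Cn X n))) ≫
    (embQ (nextC (Cn X n)) ≫ embU (nextC (nextC (Cn X n)))) = 0
  rw [Category.assoc, ← Category.assoc (embU (nextC (Cn X n))), embU_Q, zero_comp, comp_zero]

lemma gr_dn_exact (X : FilD.FilF A) (p : ℤ) (m : ℕ) :
    RefEx ((FilD.grF A p).map (dn X m)) ((FilD.grF A p).map (dn X (m + 1))) := by
  haveI := (emb_gr (Cn X m) p).2.2
  haveI := (emb_gr (nextC (nextC (Cn X m))) p).1
  have h := (emb_gr (nextC (Cn X m)) p).2.1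
  have e1 : (FilD.grF A p).map (dn X m) = (FilD.grF A p).map (embQ (Cn X m)) ≫
      (FilD.grF A p).map (embU (nextC (Cn X m))) := (FilD.grF A p).map_comp _ _
  have e2 : (FilD.grF A p).map (dn X (m + 1)) = (FilD.grF A p).map (embQ (nextC (Cn X m))) ≫
      (FilD.grF A p).map (embU (nextC (nextC (Cn X m)))) := (FilD.grF A p).map_comp _ _
  rw [e1, e2]
  exact refEx_splice _ _ _ _ h

lemma gr_d0_exact (X : FilD.FilF A) (p : ℤ) :
    RefEx ((FilD.grF A p).map (embU X)) ((FilD.grF A p).map (dn X 0)) := by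
  haveI := (emb_gr (nextC X) p).1
  have h := (emb_gr X p).2.1
  have e1 : (FilD.grF A p).map (dn X 0) = (FilD.grF A p).map (embQ X) ≫
      (FilD.grF A p).map (embU (nextC X)) := (FilD.grF A p).map_comp _ _
  rw [e1]
  exact refEx_splice0 _ _ _ h

/-- the resolution, as a `ℤ`-indexed complex. -/
noncomputable def resZ (X : FilD.FilF A) : CochainComplex (FilD.FilF A) ℤ :=
  natZ (In X) (dn X) (dn_sq X)

instance (X : FilD.FilF A) : (resZ X).IsStrictlyGE 0 := by
  unfold resZ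
  infer_instance

lemma resZ_d (X : FilD.FilF A) (m : ℕ) :
    (resZ X).d (Int.ofNat m) (Int.ofNat (m + 1)) = dn X m :=
  natZ_d (In X) (dn X) (dn_sq X) m

lemma resZ_inj (X : FilD.FilF A) : ∀ n : ℤ, FilD.IsFilteredInjective ((resZ X).X n)
  | Int.ofNat m => (emb_spec (Cn X m)).1
  | Int.negSucc _ => isFilteredInjective_of_isZero (isZero_zero _)

lemma aug_d (X : FilD.FilF A) :
    (embU X : X ⟶ (resZ X).X 0) ≫ (resZ X).d 0 (0 + 1) = 0 := by
  have e : (resZ X).d 0 (0 + 1) = dn X 0 := resZ_d X 0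
  rw [e]
  show embU X ≫ (embQ X ≫ embU (nextC X)) = 0
  rw [← Category.assoc, embU_Q, zero_comp]

/-- the augmentation. -/
noncomputable def augZ (X : FilD.FilF A) :
    (CochainComplex.singleFunctor (FilD.FilF A) 0).obj X ⟶ resZ X :=
  mk0 (embU X : X ⟶ (resZ X).X 0) (aug_d X)

lemma augZ_f (X : FilD.FilF A) :
    (augZ X).f 0 = (HomologicalComplex.singleObjXSelf (ComplexShape.up ℤ) 0 X).hom ≫
      (embU X : X ⟶ (resZ X).X 0) :=
  mk0_f _ _

theorem augZ_quasiIso (X : FilD.FilF A) : FilD.IsFilteredQuasiIso (augZ X) := by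
  intro p
  rw [quasiIso_iff]
  intro n
  have hS : ∀ k : ℤ, k ≠ 0 → ((FilD.grCx p).obj
      ((CochainComplex.singleFunctor (FilD.FilF A) 0).obj X)).ExactAt k := by
    intro k hk
    apply exactAt_of_isZero
    exact (FilD.grF A p).map_isZero
      (HomologicalComplex.isZero_single_obj_X (ComplexShape.up ℤ) 0 X k hk)
  cases n with
  | negSucc m =>
    rw [quasiIsoAt_iff_exactAt _ _ (hS _ (by simp))]
    apply exactAt_of_isZero
    exact (FilD.grF A p).map_isZero (isZero_zero _)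
  | ofNat k =>
    cases k with
    | succ m =>
      rw [quasiIsoAt_iff_exactAt _ _ (hS _ (by simp; omega))]
      rw [HomologicalComplex.exactAt_iff' _ (Int.ofNat m) (Int.ofNat (m + 1))
        (Int.ofNat (m + 1 + 1)) ((ComplexShape.up ℤ).prev_eq' rfl)
        ((ComplexShape.up ℤ).next_eq' rfl)]
      refine (ShortComplex.exact_iff_exact_up_to_refinements _).2 ?_
      show RefEx ((FilD.grF A p).map ((resZ X).d (Int.ofNat m) (Int.ofNat (m + 1))))
        ((FilD.grF A p).map ((resZ X).d (Int.ofNat (m + 1)) (Int.ofNat (m + 1 + 1))))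
      rw [resZ_d, resZ_d]
      exact gr_dn_exact X p m
    | zero =>
      show QuasiIsoAt ((FilD.grCx p).map (augZ X)) 0
      rw [quasiIsoAt_iff' _ (-1) 0 1 (by simp) (by simp)]
      have hf₁ : (FilD.grF A p).map
          (((CochainComplex.singleFunctor (FilD.FilF A) 0).obj X).d (-1) 0) = 0 := by
        rw [CochainComplex.singleFunctor_obj_d, Functor.map_zero]
      have hg₁ : (FilD.grF A p).map
          (((CochainComplex.singleFunctor (FilD.FilF A) 0).obj X).d 0 1) = 0 := by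
        rw [CochainComplex.singleFunctor_obj_d, Functor.map_zero]
      have hf₂ : (FilD.grF A p).map ((resZ X).d (-1) 0) = 0 := by
        have : (resZ X).d (-1) 0 = 0 :=
          (natZ_isZero (In X) (dn X) (dn_sq X) (-1) (by omega)).eq_of_src _ _
        rw [this, Functor.map_zero]
      refine (ShortComplex.quasiIso_iff_of_zeros _ hf₁ hg₁ hf₂).2 ⟨?_, ?_⟩
      · refine (ShortComplex.exact_iff_exact_up_to_refinements _).2 ?_
        show RefEx ((FilD.grF A p).map ((augZ X).f 0)) ((FilD.grF A p).map ((resZ X).d 0 1))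
        have e : (resZ X).d 0 1 = dn X 0 := resZ_d X 0
        rw [e, augZ_f, Functor.map_comp]
        exact refEx_iso_comp _ _ _ (gr_d0_exact X p)
      · show Mono ((FilD.grF A p).map ((augZ X).f 0))
        rw [augZ_f, Functor.map_comp]
        haveI := (emb_gr X p).1
        exact mono_comp _ _

theorem S1089_main (X : FilD.FilF A) :
    ∃ (I : CochainComplex (FilD.FilF A) ℤ)
      (φ : (CochainComplex.singleFunctor (FilD.FilF A) 0).obj X ⟶ I), I.IsStrictlyGE 0 ∧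
      (∀ n, FilD.IsFilteredInjective (I.X n)) ∧ FilD.IsFilteredQuasiIso φ :=
  ⟨resZ X, augZ X, inferInstance, resZ_inj X, augZ_quasiIso X⟩

end Resolution

end H10Fil
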