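import Groth.Agent.Lib.Helper10.FilTruncLE

set_option backward.isDefEq.respectTransparency false
set_option backward.isDefEq.respectTransparency.types false
set_option autoImplicit false

universe v u

open CategoryTheory CategoryTheory.Limits Opposite

namespace H10Fil

variable {A : Type u} [Category.{v} A] [Abelian A]

/-! ### Abstract criterion -/

theorem quasiIso_of_truncGE_like {K L : CochainComplex A ℤ} (φ : K ⟶ L) (a : ℤ)
    (Q1 : ∀ n, Epi (φ.f n)) (Q2 : ∀ n, a < n → IsIso (φ.f n))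
    (Q3 : RefEx (K.d (a - 1) a) (φ.f a)) (Q4 : ∀ n, n < a → IsZero (L.X n))
    (H : ∀ n, n < a → K.ExactAt n) : QuasiIso φ := by
  rw [quasiIso_iff]
  intro n
  rw [quasiIsoAt_iff_isIso_homologyMap]
  haveI : Mono (HomologicalComplex.homologyMap φ n) := by
    rw [HomologicalComplex.mono_homologyMap_iff_up_to_refinements φ (n - 1) n (n + 1)
      (by simp) (by simp)]
    intro T x₂ hx₂ y₁ hy₁
    by_cases hn : n < a
    · have hex := H n hn
      rw [HomologicalComplex.exactAt_iff_exact_up_to_refinements K (n - 1) n (n + 1)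
        (by simp) (by simp)] at hex
      exact hex x₂ hx₂
    · by_cases hn' : n = a
      · subst hn'
        have hz : y₁ = 0 := (Q4 (n - 1) (by omega)).eq_of_tgt _ _
        rw [hz, zero_comp] at hy₁
        exact Q3 x₂ hy₁
      · haveI := Q1 (n - 1)
        haveI := Q2 n (by omega)
        obtain ⟨T', π, hπ, y, hy⟩ := surjective_up_to_refinements_of_epi (φ.f (n - 1)) y₁
        refine ⟨T', π, hπ, y, ?_⟩
        rw [← cancel_mono (φ.f n), Category.assoc, hy₁, ← Category.assoc, hy, Category.assoc,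
          Category.assoc, φ.comm (n - 1) n]
  haveI : Epi (HomologicalComplex.homologyMap φ n) := by
    rw [HomologicalComplex.epi_homologyMap_iff_up_to_refinements φ (n - 1) n (n + 1)
      (by simp) (by simp)]
    intro T y₂ hy₂
    by_cases hn : n < a
    · have hz : y₂ = 0 := (Q4 n hn).eq_of_tgt _ _
      exact ⟨T, 𝟙 T, inferInstance, 0, zero_comp, 0, by
        rw [hz, comp_zero, zero_comp, zero_comp, add_zero]⟩
    · haveI := Q1 n
      haveI := Q2 (n + 1) (by omega)
      obtain ⟨T', π, hπ, x₂, hx₂⟩ := surjective_up_to_refinements_of_epi (φ.f n) y₂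
      refine ⟨T', π, hπ, x₂, ?_, 0, ?_⟩
      · rw [← cancel_mono (φ.f (n + 1)), zero_comp, Category.assoc, ← φ.comm n (n + 1),
          ← Category.assoc, ← hx₂, Category.assoc, hy₂, comp_zero]
      · rw [zero_comp, add_zero]
        exact hx₂
  exact isIso_of_mono_of_epi _

/-! ### Cokernels of strict morphisms in `FilF A` -/

section Coker

variable {X Y : FilD.FilF A} (ϑ : X ⟶ Y) (hϑ : Str ϑ.hom)

/-- the cokernel of a strict morphism of finite filtered objects. -/
noncomputable def cokF : FilD.FilF A := ⟨cokernel ϑ.hom, isFinFil_cokernel ϑ hϑ⟩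

/-- the projection to the cokernel. -/
noncomputable def cokFπ : Y ⟶ cokF ϑ hϑ := ObjectProperty.homMk (cokernel.π ϑ.hom)

lemma cokF_comp : ϑ ≫ cokFπ ϑ hϑ = 0 := by
  ext : 1
  exact cokernel.condition ϑ.hom

/-- descending from the cokernel. -/
noncomputable def cokFdesc {W : FilD.FilF A} (k : Y ⟶ W) (h : ϑ ≫ k = 0) : cokF ϑ hϑ ⟶ W :=
  ObjectProperty.homMk (cokernel.desc ϑ.hom k.hom (by
    have h2 : (ϑ ≫ k).hom = (0 : X ⟶ W).hom := by rw [h]
    exact h2))

lemma cokFπ_desc {W : FilD.FilF A} (k : Y ⟶ W) (h : ϑ ≫ k = 0) :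
    cokFπ ϑ hϑ ≫ cokFdesc ϑ hϑ k h = k := by
  ext : 1
  exact cokernel.π_desc _ _ _

lemma epi_app_cokFπ (p : ℤ) : Epi ((cokFπ ϑ hϑ).hom.app (op p)) :=
  epi_coker_app ϑ.hom (op p)

instance : Epi (cokFπ ϑ hϑ) := epi_of_epi_app _ (epi_app_cokFπ ϑ hϑ)

lemma isIso_cokFπ_of_eq_zero (h : ϑ = 0) : IsIso (cokFπ ϑ hϑ) := by
  have h1 : ϑ ≫ 𝟙 Y = 0 := by rw [h, zero_comp]
  refine ⟨⟨cokFdesc ϑ hϑ (𝟙 Y) h1, cokFπ_desc ϑ hϑ _ _, ?_⟩⟩
  rw [← cancel_epi (cokFπ ϑ hϑ), ← Category.assoc, cokFπ_desc, Category.id_comp,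
    Category.comp_id]

lemma isZero_cokF_of_π_eq_zero (h : cokFπ ϑ hϑ = 0) : IsZero (cokF ϑ hϑ) := by
  rw [IsZero.iff_id_eq_zero, ← cancel_epi (cokFπ ϑ hϑ), Category.comp_id, comp_zero]
  exact h

end Coker

/-! ### Strictness of some morphisms -/

lemma str_zero (X Y : FilD.FilF A) : Str (0 : X ⟶ Y).hom := by
  intro p q h T y x hyx
  haveI : Mono (tr Y.obj p q h) := Y.property.1 _
  have hy : y = 0 := by
    rw [← cancel_mono (tr Y.obj p q h), hyx, zero_comp]
    exact comp_zero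
  exact ⟨T, 𝟙 T, inferInstance, 0, by rw [hy, comp_zero, zero_comp]⟩

lemma str_of_epi_app {X Y : FilD.FilF A} (φ : X ⟶ Y)
    (h : ∀ q : ℤ, Epi (φ.hom.app (op q))) : Str φ.hom := by
  intro p q hpq T y x _
  haveI := h q
  exact surjective_up_to_refinements_of_epi (φ.hom.app (op q)) y

lemma str_comp_of_epi_app {W X Y : FilD.FilF A} (e : W ⟶ X) (φ : X ⟶ Y)
    (he : ∀ q : ℤ, Epi (e.hom.app (op q))) (hφ : Str φ.hom) : Str (e ≫ φ).hom := by
  intro p q hpq T y x hyx
  obtain ⟨T1, π1, _, x', hx'⟩ := hφ p q hpq y (x ≫ e.hom.app (op p))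
    (by rw [Category.assoc]; exact hyx)
  haveI := he q
  obtain ⟨T2, π2, _, w, hw⟩ := surjective_up_to_refinements_of_epi (e.hom.app (op q)) x'
  refine ⟨T2, π2 ≫ π1, inferInstance, w, ?_⟩
  show (π2 ≫ π1) ≫ y = w ≫ e.hom.app (op q) ≫ φ.hom.app (op q)
  rw [Category.assoc, hx', ← Category.assoc, hw, Category.assoc]

lemma epi_app_of_split {X Y : FilD.FilF A} (s : Y ⟶ X) (r : X ⟶ Y) (h : s ≫ r = 𝟙 Y)
    (q : ℤ) : Epi (r.hom.app (op q)) := by
  have e : s.hom.app (op q) ≫ r.hom.app (op q) = 𝟙 _ := by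
    have := congrArg (fun t : Y ⟶ Y => t.hom.app (op q)) h
    exact this
  exact epi_of_epi_fac e

lemma d_reindex (K : CochainComplex (FilD.FilF A) ℤ) (i i' : ℤ) (e : i = i') (j : ℤ)
    {W : FilD.FilF A} (g : K.X j ⟶ W) (h : K.d i j ≫ g = 0) : K.d i' j ≫ g = 0 := by
  subst e
  exact h

/-! ### The filtered truncation `τ_{≥ a}` -/

section TruncGE

variable (K : CochainComplex (FilD.FilF A) ℤ) (a : ℤ)

/-- the morphism whose cokernel is the `n`-th term of the truncation. -/
noncomputable def thGE (n : ℤ) : K.X (n - 1) ⊞ K.X n ⟶ K.X n :=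
  if a < n then 0 else if n = a then biprod.fst ≫ K.d (n - 1) n else biprod.snd

lemma thGE_gt (n : ℤ) (h : a < n) : thGE K a n = 0 := by
  unfold thGE
  rw [if_pos h]

lemma thGE_eq (n : ℤ) (h : n = a) : thGE K a n = biprod.fst ≫ K.d (n - 1) n := by
  unfold thGE
  rw [if_neg (by omega), if_pos h]

lemma thGE_lt (n : ℤ) (h : n < a) : thGE K a n = biprod.snd := by
  unfold thGE
  rw [if_neg (by omega), if_neg (by omega)]

lemma str_thGE (hstr : Str (K.d (a - 1) a).hom) (n : ℤ) : Str (thGE K a n).hom := by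
  by_cases h1 : a < n
  · rw [thGE_gt K a n h1]
    exact str_zero _ _
  · by_cases h2 : n = a
    · subst h2
      rw [thGE_eq K n n rfl]
      exact str_comp_of_epi_app _ _
        (epi_app_of_split biprod.inl biprod.fst biprod.inl_fst) hstr
    · rw [thGE_lt K a n (by omega)]
      exact str_of_epi_app _ (epi_app_of_split biprod.inr biprod.snd biprod.inr_snd)

variable (hstr : Str (K.d (a - 1) a).hom)

lemma π_eq_zero_of_lt (n : ℤ) (h : n < a) :
    cokFπ (thGE K a n) (str_thGE K a hstr n) = 0 := by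
  have e : (biprod.snd : K.X (n - 1) ⊞ K.X n ⟶ K.X n) ≫
      cokFπ (thGE K a n) (str_thGE K a hstr n) = 0 := by
    rw [← thGE_lt K a n h]
    exact cokF_comp _ _
  have e' := biprod.inr ≫= e
  rwa [comp_zero, ← Category.assoc, biprod.inr_snd, Category.id_comp] at e'

lemma d_π_of_le (n : ℤ) (h : n + 1 ≤ a) :
    K.d n (n + 1) ≫ cokFπ (thGE K a (n + 1)) (str_thGE K a hstr (n + 1)) = 0 := by
  by_cases h' : n + 1 = a
  · have e : ((biprod.fst : K.X (n + 1 - 1) ⊞ K.X (n + 1) ⟶ K.X (n + 1 - 1)) ≫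
        K.d (n + 1 - 1) (n + 1)) ≫
        cokFπ (thGE K a (n + 1)) (str_thGE K a hstr (n + 1)) = 0 := by
      rw [← thGE_eq K a (n + 1) h']
      exact cokF_comp _ _
    have e' := biprod.inl ≫= e
    rw [comp_zero, ← Category.assoc, ← Category.assoc, biprod.inl_fst, Category.id_comp] at e'
    exact d_reindex K (n + 1 - 1) n (by omega) (n + 1) _ e'
  · rw [π_eq_zero_of_lt K a hstr (n + 1) (by omega), comp_zero]

lemma th_d_π (n : ℤ) : thGE K a n ≫
    (K.d n (n + 1) ≫ cokFπ (thGE K a (n + 1)) (str_thGE K a hstr (n + 1))) = 0 := by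
  by_cases h1 : a < n
  · rw [thGE_gt K a n h1, zero_comp]
  · by_cases h2 : n = a
    · rw [thGE_eq K a n h2, Category.assoc, K.d_comp_d_assoc, zero_comp, comp_zero]
    · rw [d_π_of_le K a hstr n (by omega), comp_zero]

/-- the differential of the truncation. -/
noncomputable def dGE (n : ℤ) : cokF (thGE K a n) (str_thGE K a hstr n) ⟶
    cokF (thGE K a (n + 1)) (str_thGE K a hstr (n + 1)) :=
  cokFdesc (thGE K a n) (str_thGE K a hstr n)
    (K.d n (n + 1) ≫ cokFπ (thGE K a (n + 1)) (str_thGE K a hstr (n + 1))) (th_d_π K a hstr n)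

lemma π_dGE (n : ℤ) : cokFπ (thGE K a n) (str_thGE K a hstr n) ≫ dGE K a hstr n =
    K.d n (n + 1) ≫ cokFπ (thGE K a (n + 1)) (str_thGE K a hstr (n + 1)) :=
  cokFπ_desc _ _ _ _

lemma dGE_sq (n : ℤ) : dGE K a hstr n ≫ dGE K a hstr (n + 1) = 0 := by
  rw [← cancel_epi (cokFπ (thGE K a n) (str_thGE K a hstr n)), comp_zero, ← Category.assoc,
    π_dGE, Category.assoc, π_dGE, ← Category.assoc, K.d_comp_d, zero_comp]

/-- the filtered truncation `τ_{≥ a} K`. -/
noncomputable def truncGEF : CochainComplex (FilD.FilF A) ℤ :=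
  CochainComplex.of (fun n => cokF (thGE K a n) (str_thGE K a hstr n)) (dGE K a hstr)
    (dGE_sq K a hstr)

lemma truncGEF_d (n : ℤ) : (truncGEF K a hstr).d n (n + 1) = dGE K a hstr n := by
  show CochainComplex.of.d (fun n => cokF (thGE K a n) (str_thGE K a hstr n))
    (dGE K a hstr) n (n + 1) = _
  exact CochainComplex.of_d (fun n => cokF (thGE K a n) (str_thGE K a hstr n))
    (dGE K a hstr) n

/-- the projection to the truncation. -/
noncomputable def truncGEFπ : K ⟶ truncGEF K a hstr where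
  f n := cokFπ (thGE K a n) (str_thGE K a hstr n)
  comm' n m hnm := by
    have e : n + 1 = m := hnm
    subst e
    rw [truncGEF_d]
    exact π_dGE K a hstr n

lemma isZero_truncGEF (n : ℤ) (h : n < a) : IsZero ((truncGEF K a hstr).X n) :=
  isZero_cokF_of_π_eq_zero _ _ (π_eq_zero_of_lt K a hstr n h)

lemma lev_d_π_a (P : ℤᵒᵖ) : RefEx ((K.d (a - 1) a).hom.app P)
    ((cokFπ (thGE K a a) (str_thGE K a hstr a)).hom.app P) := by
  intro T y hy
  obtain ⟨T', π, hπ, x, hx⟩ := levelCoker (thGE K a a).hom P y hy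
  have e0 : (thGE K a a).hom.app P =
      (biprod.fst : K.X (a - 1) ⊞ K.X a ⟶ K.X (a - 1)).hom.app P ≫
        (K.d (a - 1) a).hom.app P := by
    have := congrArg (fun t : K.X (a - 1) ⊞ K.X a ⟶ K.X a => t.hom.app P) (thGE_eq K a a rfl)
    exact this
  refine ⟨T', π, hπ, x ≫ (biprod.fst : K.X (a - 1) ⊞ K.X a ⟶ K.X (a - 1)).hom.app P, ?_⟩
  rw [hx, e0, Category.assoc]

end TruncGE

theorem S1087_main (K : CochainComplex (FilD.FilF A) ℤ) (a : ℤ)
    (hK : ∀ (p n : ℤ), n < a → IsZero (((FilD.grCx p).obj K).homology n)) :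
    ∃ (L : CochainComplex (FilD.FilF A) ℤ) (φ : K ⟶ L),
      L.IsStrictlyGE a ∧ FilD.IsFilteredQuasiIso φ := by
  have hex : ∀ (p n : ℤ), n < a → ((FilD.grCx p).obj K).ExactAt n := fun p n hn =>
    (HomologicalComplex.exactAt_iff_isZero_homology _ _).2 (hK p n hn)
  have hstr : FilD.IsStrict (K.d (a - 1) a) := by
    refine (S1085_main (ShortComplex.mk (K.d (a - 1 - 1) (a - 1)) (K.d (a - 1) a)
      (K.d_comp_d _ _ _)) ?_).2.2
    intro q
    have h1 := hex q (a - 1) (by omega)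
    rw [HomologicalComplex.exactAt_iff' _ (a - 1 - 1) (a - 1) a (by simp) (by simp)] at h1
    exact h1
  have hstr' := (isStrict_iff_str _).1 hstr
  refine ⟨truncGEF K a hstr', truncGEFπ K a hstr', ?_, ?_⟩
  · rw [CochainComplex.isStrictlyGE_iff]
    intro i hi
    exact isZero_truncGEF K a hstr' i hi
  · intro p
    apply quasiIso_of_truncGE_like ((FilD.grCx p).map (truncGEFπ K a hstr')) a
    · intro n
      show Epi ((FilD.gr A p).map (cokFπ (thGE K a n) (str_thGE K a hstr' n)).hom)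
      haveI := epi_app_cokFπ (thGE K a n) (str_thGE K a hstr' n) p
      exact epi_of_epi_fac (grπ_map (cokFπ (thGE K a n) (str_thGE K a hstr' n)).hom p)
    · intro n hn
      haveI := isIso_cokFπ_of_eq_zero (thGE K a n) (str_thGE K a hstr' n) (thGE_gt K a n hn)
      show IsIso ((FilD.grF A p).map (cokFπ (thGE K a n) (str_thGE K a hstr' n)))
      infer_instance
    · show RefEx ((FilD.gr A p).map (K.d (a - 1) a).hom)
        ((FilD.gr A p).map (cokFπ (thGE K a a) (str_thGE K a hstr' a)).hom)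
      haveI := epi_app_cokFπ (thGE K a a) (str_thGE K a hstr' a) (p + 1)
      exact refEx_bot (st_grπ (K.X a).obj p) (row _ p) (grπ_map (K.d (a - 1) a).hom p)
        ((cokFπ (thGE K a a) (str_thGE K a hstr' a)).hom.naturality (FilD.stepHom p))
        (grπ_map (cokFπ (thGE K a a) (str_thGE K a hstr' a)).hom p)
        (lev_d_π_a K a hstr' (op p))
    · intro n hn
      exact (FilD.grF A p).map_isZero (isZero_truncGEF K a hstr' n hn)
    · exact hex p

end H10Fil
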