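import Groth.Agent.Lib.Helper10.FilSingle

set_option backward.isDefEq.respectTransparency false
set_option backward.isDefEq.respectTransparency.types false
set_option autoImplicit false

universe v u

open CategoryTheory CategoryTheory.Limits Opposite

namespace H10Fil

variable {A : Type u} [Category.{v} A] [Abelian A]

/-! ### Abstract criteria -/

theorem quasiIso_of_truncLE_like {M K : CochainComplex A ℤ} (φ : M ⟶ K) (b : ℤ)
    (Q1 : ∀ n, Mono (φ.f n)) (Q2 : ∀ n, n < b → IsIso (φ.f n))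
    (Q3 : RefEx (φ.f b) (K.d b (b + 1))) (Q4 : ∀ n, b < n → IsZero (M.X n))
    (H : ∀ n, b < n → K.ExactAt n) : QuasiIso φ := by
  rw [quasiIso_iff]
  intro n
  rw [quasiIsoAt_iff_isIso_homologyMap]
  haveI : Mono (HomologicalComplex.homologyMap φ n) := by
    rw [HomologicalComplex.mono_homologyMap_iff_up_to_refinements φ (n - 1) n (n + 1)
      (by simp) (by simp)]
    intro T x₂ hx₂ y₁ hy₁
    by_cases hn : n ≤ b
    · haveI := Q2 (n - 1) (by omega)
      haveI := Q1 n
      refine ⟨T, 𝟙 T, inferInstance, y₁ ≫ inv (φ.f (n - 1)), ?_⟩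
      rw [Category.id_comp, ← cancel_mono (φ.f n), hy₁, Category.assoc, ← φ.comm (n - 1) n,
        Category.assoc, IsIso.inv_hom_id_assoc]
    · have hz : x₂ = 0 := (Q4 n (by omega)).eq_of_tgt _ _
      exact ⟨T, 𝟙 T, inferInstance, 0, by rw [hz, comp_zero, zero_comp]⟩
  haveI : Epi (HomologicalComplex.homologyMap φ n) := by
    rw [HomologicalComplex.epi_homologyMap_iff_up_to_refinements φ (n - 1) n (n + 1)
      (by simp) (by simp)]
    intro T y₂ hy₂
    by_cases hn : n < b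
    · haveI := Q2 n hn
      haveI := Q1 (n + 1)
      refine ⟨T, 𝟙 T, inferInstance, y₂ ≫ inv (φ.f n), ?_, 0, ?_⟩
      · rw [← cancel_mono (φ.f (n + 1)), zero_comp, Category.assoc, ← φ.comm n (n + 1),
          Category.assoc, IsIso.inv_hom_id_assoc, hy₂]
      · rw [Category.id_comp, Category.assoc, IsIso.inv_hom_id, Category.comp_id, zero_comp,
          add_zero]
    · by_cases hn' : n = b
      · subst hn'
        obtain ⟨T', π, hπ, x₂, hx₂⟩ := Q3 y₂ hy₂
        refine ⟨T', π, hπ, x₂, (Q4 (n + 1) (by omega)).eq_of_tgt _ _, 0, ?_⟩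
        rw [zero_comp, add_zero]
        exact hx₂
      · have hex := H n (by omega)
        rw [HomologicalComplex.exactAt_iff_exact_up_to_refinements K (n - 1) n (n + 1)
          (by simp) (by simp)] at hex
        obtain ⟨T', π, hπ, y₁, hy₁⟩ := hex y₂ hy₂
        refine ⟨T', π, hπ, 0, zero_comp, y₁, ?_⟩
        rw [zero_comp, zero_add]
        exact hy₁
  exact isIso_of_mono_of_epi _

lemma mono_gr_of_refStr {Z' Z Z'' X' X X'' : A} {iZ : Z' ⟶ Z} {pZ : Z ⟶ Z''} {iX : X' ⟶ X}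
    {pX : X ⟶ X''} {κ' : Z' ⟶ X'} {κ : Z ⟶ X} {κ'' : Z'' ⟶ X''} [Epi pZ] [Mono κ]
    (zZ : iZ ≫ pZ = 0) (rowX : RefEx iX pX) (c1 : iZ ≫ κ = κ' ≫ iX) (c2 : pZ ≫ κ'' = κ ≫ pX)
    (hs : RefStr iX κ' κ) : Mono κ'' := by
  rw [Preadditive.mono_iff_cancel_zero]
  intro T x'' hx''
  obtain ⟨T1, π1, _, x, hx⟩ := surjective_up_to_refinements_of_epi pZ x''
  have e1 : (x ≫ κ) ≫ pX = 0 := by
    rw [Category.assoc, ← c2, ← Category.assoc, ← hx, Category.assoc, hx'', comp_zero]
  obtain ⟨T2, π2, _, y', hy'⟩ := rowX (x ≫ κ) e1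
  obtain ⟨T3, π3, _, z', hz'⟩ := hs y' (π2 ≫ x) (by rw [Category.assoc]; exact hy'.symm)
  have e3 : π3 ≫ π2 ≫ x = z' ≫ iZ := by
    rw [← cancel_mono κ, Category.assoc, Category.assoc, hy', ← Category.assoc, hz',
      Category.assoc, Category.assoc, c1]
  have e4 : π3 ≫ π2 ≫ π1 ≫ x'' = 0 := by
    rw [hx, reassoc_of% e3, zZ, comp_zero]
  rw [← cancel_epi π1, ← cancel_epi π2, ← cancel_epi π3, e4, comp_zero, comp_zero, comp_zero]

/-! ### Kernels in `FilF A` -/

section Ker

variable {X Y : FilD.FilF A} (ϑ : X ⟶ Y)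

/-- the kernel of a morphism of finite filtered objects. -/
noncomputable def kerF : FilD.FilF A := ⟨kernel ϑ.hom, isFinFil_kernel ϑ⟩

/-- the inclusion of the kernel. -/
noncomputable def kerFι : kerF ϑ ⟶ X := ObjectProperty.homMk (kernel.ι ϑ.hom)

lemma kerFι_comp : kerFι ϑ ≫ ϑ = 0 := by
  ext : 1
  exact kernel.condition ϑ.hom

/-- lifting to the kernel. -/
noncomputable def kerFlift {W : FilD.FilF A} (k : W ⟶ X) (h : k ≫ ϑ = 0) : W ⟶ kerF ϑ :=
  ObjectProperty.homMk (kernel.lift ϑ.hom k.hom (by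
    have h2 : (k ≫ ϑ).hom = (0 : W ⟶ Y).hom := by rw [h]
    exact h2))

lemma kerFlift_ι {W : FilD.FilF A} (k : W ⟶ X) (h : k ≫ ϑ = 0) :
    kerFlift ϑ k h ≫ kerFι ϑ = k := by
  ext : 1
  exact kernel.lift_ι _ _ _

lemma mono_app_kerFι (p : ℤ) : Mono ((kerFι ϑ).hom.app (op p)) := by
  show Mono ((kernel.ι ϑ.hom).app (op p))
  infer_instance

instance : Mono (kerFι ϑ) := mono_of_mono_app _ (mono_app_kerFι ϑ)

lemma str_kerFι : Str (kerFι ϑ).hom := by
  intro p q h T y x hyx
  haveI : Mono (tr Y.obj p q h) := Y.property.1 _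
  have e : y ≫ ϑ.hom.app (op q) = 0 := by
    rw [← cancel_mono (tr Y.obj p q h), zero_comp, Category.assoc,
      ← ϑ.hom.naturality (homOfLE h).op, ← Category.assoc, hyx, Category.assoc]
    show x ≫ (kernel.ι ϑ.hom).app (op p) ≫ ϑ.hom.app (op p) = 0
    rw [kernel_app_zero, comp_zero]
  exact levelKer ϑ.hom (op q) y e

lemma isIso_kerFι_of_eq_zero (h : ϑ = 0) : IsIso (kerFι ϑ) := by
  have h1 : 𝟙 X ≫ ϑ = 0 := by rw [h, comp_zero]
  refine ⟨⟨kerFlift ϑ (𝟙 X) h1, ?_, kerFlift_ι ϑ _ _⟩⟩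
  rw [← cancel_mono (kerFι ϑ), Category.assoc, kerFlift_ι, Category.comp_id, Category.id_comp]

lemma isZero_kerF_of_ι_eq_zero (h : kerFι ϑ = 0) : IsZero (kerF ϑ) := by
  rw [IsZero.iff_id_eq_zero, ← cancel_mono (kerFι ϑ), Category.id_comp, zero_comp]
  exact h

end Ker

/-! ### The filtered truncation `τ_{≤ b}` -/

section TruncLE

variable (K : CochainComplex (FilD.FilF A) ℤ) (b : ℤ)

/-- the morphism whose kernel is the `n`-th term of the truncation. -/
noncomputable def thLE (n : ℤ) : K.X n ⟶ K.X n ⊞ K.X (n + 1) :=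
  if n < b then 0 else if n = b then K.d n (n + 1) ≫ biprod.inr else biprod.inl

lemma thLE_lt (n : ℤ) (h : n < b) : thLE K b n = 0 := by
  unfold thLE
  rw [if_pos h]

lemma thLE_eq (n : ℤ) (h : n = b) : thLE K b n = K.d n (n + 1) ≫ biprod.inr := by
  unfold thLE
  rw [if_neg (by omega), if_pos h]

lemma thLE_gt (n : ℤ) (h : b < n) : thLE K b n = biprod.inl := by
  unfold thLE
  rw [if_neg (by omega), if_neg (by omega)]

lemma kerι_eq_zero_of_gt (n : ℤ) (h : b < n) : kerFι (thLE K b n) = 0 := by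
  have e : kerFι (thLE K b n) ≫ (biprod.inl : K.X n ⟶ K.X n ⊞ K.X (n + 1)) = 0 := by
    rw [← thLE_gt K b n h]
    exact kerFι_comp _
  have e' := e =≫ biprod.fst
  rwa [zero_comp, Category.assoc, biprod.inl_fst, Category.comp_id] at e'

lemma kerι_d_of_ge (n : ℤ) (h : b ≤ n) : kerFι (thLE K b n) ≫ K.d n (n + 1) = 0 := by
  by_cases h' : n = b
  · have e : kerFι (thLE K b n) ≫
        (K.d n (n + 1) ≫ (biprod.inr : K.X (n + 1) ⟶ K.X n ⊞ K.X (n + 1))) = 0 := by
      rw [← thLE_eq K b n h']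
      exact kerFι_comp _
    have e' := e =≫ biprod.snd
    rwa [zero_comp, Category.assoc, Category.assoc, biprod.inr_snd, Category.comp_id] at e'
  · rw [kerι_eq_zero_of_gt K b n (by omega), zero_comp]

lemma kerι_d_th (n : ℤ) :
    (kerFι (thLE K b n) ≫ K.d n (n + 1)) ≫ thLE K b (n + 1) = 0 := by
  by_cases h1 : n + 1 < b
  · rw [thLE_lt K b (n + 1) h1, comp_zero]
  · by_cases h2 : n + 1 = b
    · rw [thLE_eq K b (n + 1) h2, Category.assoc, K.d_comp_d_assoc, zero_comp, comp_zero]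
    · rw [kerι_d_of_ge K b n (by omega), zero_comp]

/-- the differential of the truncation. -/
noncomputable def dLE (n : ℤ) : kerF (thLE K b n) ⟶ kerF (thLE K b (n + 1)) :=
  kerFlift (thLE K b (n + 1)) (kerFι (thLE K b n) ≫ K.d n (n + 1)) (kerι_d_th K b n)

lemma dLE_ι (n : ℤ) :
    dLE K b n ≫ kerFι (thLE K b (n + 1)) = kerFι (thLE K b n) ≫ K.d n (n + 1) :=
  kerFlift_ι _ _ _

lemma dLE_sq (n : ℤ) : dLE K b n ≫ dLE K b (n + 1) = 0 := by
  rw [← cancel_mono (kerFι (thLE K b (n + 1 + 1))), zero_comp, Category.assoc, dLE_ι,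
    ← Category.assoc, dLE_ι, Category.assoc, K.d_comp_d, comp_zero]

/-- the filtered truncation `τ_{≤ b} K`. -/
noncomputable def truncLEF : CochainComplex (FilD.FilF A) ℤ :=
  CochainComplex.of (fun n => kerF (thLE K b n)) (dLE K b) (dLE_sq K b)

lemma truncLEF_d (n : ℤ) : (truncLEF K b).d n (n + 1) = dLE K b n := by
  show CochainComplex.of.d (fun n => kerF (thLE K b n)) (dLE K b) n (n + 1) = _
  exact CochainComplex.of_d (fun n => kerF (thLE K b n)) (dLE K b) n

/-- the inclusion of the truncation. -/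
noncomputable def truncLEFι : truncLEF K b ⟶ K where
  f n := kerFι (thLE K b n)
  comm' n m hnm := by
    have e : n + 1 = m := hnm
    subst e
    rw [truncLEF_d]
    exact (dLE_ι K b n).symm

lemma isZero_truncLEF (n : ℤ) (h : b < n) : IsZero ((truncLEF K b).X n) :=
  isZero_kerF_of_ι_eq_zero _ (kerι_eq_zero_of_gt K b n h)

lemma lev_kerι_b (P : ℤᵒᵖ) :
    RefEx ((kerFι (thLE K b b)).hom.app P) ((K.d b (b + 1)).hom.app P) := by
  intro T y hy
  have e0 : (thLE K b b).hom.app P = (K.d b (b + 1)).hom.app P ≫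
      (biprod.inr : K.X (b + 1) ⟶ K.X b ⊞ K.X (b + 1)).hom.app P := by
    have := congrArg (fun t : K.X b ⟶ K.X b ⊞ K.X (b + 1) => t.hom.app P) (thLE_eq K b b rfl)
    exact this
  have e : y ≫ (thLE K b b).hom.app P = 0 := by
    rw [e0, ← Category.assoc, hy, zero_comp]
  exact levelKer (thLE K b b).hom P y e

end TruncLE

theorem S1088_main (K : CochainComplex (FilD.FilF A) ℤ) (b : ℤ)
    (hK : ∀ (p n : ℤ), b < n → IsZero (((FilD.grCx p).obj K).homology n)) :
    ∃ (M : CochainComplex (FilD.FilF A) ℤ) (φ : M ⟶ K),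
      M.IsStrictlyLE b ∧ FilD.IsFilteredQuasiIso φ := by
  have hex : ∀ (p n : ℤ), b < n → ((FilD.grCx p).obj K).ExactAt n := fun p n hn =>
    (HomologicalComplex.exactAt_iff_isZero_homology _ _).2 (hK p n hn)
  have hstr : FilD.IsStrict (K.d b (b + 1)) := by
    refine (S1085_main (ShortComplex.mk (K.d b (b + 1)) (K.d (b + 1) (b + 1 + 1))
      (K.d_comp_d _ _ _)) ?_).2.1
    intro q
    have h1 := hex q (b + 1) (by omega)
    rw [HomologicalComplex.exactAt_iff' _ b (b + 1) (b + 1 + 1) (by simp) (by simp)] at h1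
    exact h1
  have hstr' := (isStrict_iff_str _).1 hstr
  refine ⟨truncLEF K b, truncLEFι K b, ?_, ?_⟩
  · rw [CochainComplex.isStrictlyLE_iff]
    intro i hi
    exact isZero_truncLEF K b i hi
  · intro p
    apply quasiIso_of_truncLE_like ((FilD.grCx p).map (truncLEFι K b)) b
    · intro n
      show Mono ((FilD.gr A p).map (kerFι (thLE K b n)).hom)
      haveI := mono_app_kerFι (thLE K b n) p
      exact mono_gr_of_refStr (st_grπ _ p) (row (K.X n).obj p)
        ((kerFι (thLE K b n)).hom.naturality (FilD.stepHom p)) (grπ_map _ p)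
        (str_kerFι (thLE K b n) p (p + 1) (by omega))
    · intro n hn
      haveI := isIso_kerFι_of_eq_zero (thLE K b n) (thLE_lt K b n hn)
      show IsIso ((FilD.grF A p).map (kerFι (thLE K b n)))
      infer_instance
    · show RefEx ((FilD.gr A p).map (kerFι (thLE K b b)).hom)
        ((FilD.gr A p).map (K.d b (b + 1)).hom)
      exact refEx_gr_of_str (row (K.X (b + 1)).obj p) (st_grπ (K.X b).obj p)
        (grπ_map (kerFι (thLE K b b)).hom p) ((K.d b (b + 1)).hom.naturality (FilD.stepHom p))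
        (grπ_map (K.d b (b + 1)).hom p) (lev_kerι_b K b (op p)) (hstr' p (p + 1) (by omega))
    · intro n hn
      exact (FilD.grF A p).map_isZero (isZero_truncLEF K b n hn)
    · exact hex p

end H10Fil
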