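import Mathlib

/-!
# Coresolutions of unbounded complexes by a class `P` of finite "codimension"

Namespace `H10CL`.  Given a class `P` of objects of an abelian category such that every object
embeds into an object of `P`, `P` is closed under cokernels of monos between objects of `P` and
extensions, and every `n`-th cosyzygy of a `P`-coresolution is in `P`, every (unbounded) cochain
complex admits a quasi-isomorphism to a complex with terms in `P`.
-/

set_option autoImplicit false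
universe v u
open CategoryTheory CategoryTheory.Limits ZeroObject

namespace H10CL

variable {A : Type u} [Category.{v} A] [Abelian A]

section closure

variable (P : ObjectProperty A)
  (h1 : ∀ X : A, ∃ (Y : A) (i : X ⟶ Y), P Y ∧ Mono i)
  (h2 : ∀ S : ShortComplex A, S.ShortExact → P S.X₁ → (P S.X₂ ↔ P S.X₃))

include h1 h2

theorem P_of_isZero {Z : A} (hZ : IsZero Z) : P Z := by
  obtain ⟨Y, i, hY, _⟩ := h1 Z
  have hS : (ShortComplex.mk (𝟙 Y) (0 : Y ⟶ Z) (by simp)).ShortExact :=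
    ShortComplex.ShortExact.mk' ((ShortComplex.exact_iff_epi _ rfl).2 (by dsimp; infer_instance))
      (by dsimp; infer_instance) (by dsimp; exact hZ.epi _)
  exact (h2 _ hS hY).1 hY

theorem P_of_iso {X X' : A} (e : X ≅ X') (hX : P X) : P X' := by
  have hS : (ShortComplex.mk e.hom (0 : X' ⟶ (0 : A)) (by simp)).ShortExact :=
    ShortComplex.ShortExact.mk' ((ShortComplex.exact_iff_epi _ rfl).2 (by dsimp; infer_instance))
      (by dsimp; infer_instance) (by dsimp; exact (isZero_zero A).epi _)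
  exact (h2 _ hS hX).2 (P_of_isZero P h1 h2 (isZero_zero A))

theorem P_biprod {X Y : A} (hX : P X) (hY : P Y) : P (X ⊞ Y) :=
  (h2 _ (ShortComplex.Splitting.ofHasBinaryBiproduct X Y).shortExact hX).2 hY

end closure

section embedding

/-- The complex with terms `E (X k) ⊞ E (X (k+1))`. -/
noncomputable abbrev embJ (E : A → A) (X : CochainComplex A ℤ) : CochainComplex A ℤ :=
  CochainComplex.of (fun k : ℤ => E (X.X k) ⊞ E (X.X (k + 1)))
    (fun _ => biprod.snd ≫ biprod.inl) (by intro k; simp)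

/-- The embedding of `X` into `embJ E X`. -/
noncomputable def embι (E : A → A) (e : ∀ X : A, X ⟶ E X) (X : CochainComplex A ℤ) :
    X ⟶ embJ E X where
  f k := biprod.lift (e (X.X k)) (X.d k (k + 1) ≫ e (X.X (k + 1)))
  comm' := by
    intro i j hij
    have hij' : i + 1 = j := hij
    subst hij'
    dsimp only [embJ]
    rw [CochainComplex.of_d]
    apply biprod.hom_ext
    · simp
    · simp

theorem embι_mono (E : A → A) (e : ∀ X : A, X ⟶ E X) (he : ∀ X, Mono (e X))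
    (X : CochainComplex A ℤ) : Mono (embι E e X) := by
  apply HomologicalComplex.mono_of_mono_f
  intro k
  haveI := he (X.X k)
  have fac : (embι E e X).f k ≫ biprod.fst = e (X.X k) := by simp [embι]
  exact mono_of_mono_fac fac

variable (P : ObjectProperty A)
  (h1 : ∀ X : A, ∃ (Y : A) (i : X ⟶ Y), P Y ∧ Mono i)
  (h2 : ∀ S : ShortComplex A, S.ShortExact → P S.X₁ → (P S.X₂ ↔ P S.X₃))

include h1 h2

theorem exists_embedding (X : CochainComplex A ℤ) :
    ∃ (J : CochainComplex A ℤ) (i : X ⟶ J), Mono i ∧ ∀ k, P (J.X k) := by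
  choose E e hE he using h1
  exact ⟨embJ E X, embι E e X, embι_mono E e he X,
    fun k => P_biprod P (fun X => ⟨E X, e X, hE X, he X⟩) h2 (hE _) (hE _)⟩

end embedding

section objects

/-- `ObjCores P Z r Y`: `Z` is (isomorphic to) an `r`-th cosyzygy of `Y` for a partial
coresolution by objects of `P`. -/
inductive ObjCores (P : ObjectProperty A) (Z : A) : ℕ → A → Prop
  | zero {Y : A} (e : Y ≅ Z) : ObjCores P Z 0 Y
  | succ {r : ℕ} (S : ShortComplex A) (hS : S.ShortExact) (hE : P S.X₂)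
      (h : ObjCores P Z r S.X₃) : ObjCores P Z (r + 1) S.X₁

/-- The data of an exact complex `0 → Y → K⁰ → ⋯ → Kʳ → 0` with `Kⁱ ∈ P` for `i < r`
and `Kʳ ≅ Z`. -/
structure KData (P : ObjectProperty A) (r : ℕ) (Y Z : A) where
  K : CochainComplex A ℕ
  ε : Y ⟶ K.X 0
  w : ε ≫ K.d 0 1 = 0
  mono : Mono ε
  ex0 : (ShortComplex.mk ε (K.d 0 1) w).Exact
  iso0 : r = 0 → IsIso ε
  ex : ∀ i : ℕ, 1 ≤ i → i ≤ r → K.ExactAt i
  zero : ∀ i : ℕ, r < i → IsZero (K.X i)
  epi : 1 ≤ r → Epi (K.d (r - 1) r)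
  hP : ∀ i : ℕ, i < r → P (K.X i)
  iso : K.X r ≅ Z

variable (P : ObjectProperty A)

noncomputable def KData.ofIso {Y Z : A} (e : Y ≅ Z) : KData P 0 Y Z where
  K := (HomologicalComplex.single A (ComplexShape.up ℕ) 0).obj Z
  ε := e.hom ≫ (HomologicalComplex.singleObjXSelf (ComplexShape.up ℕ) 0 Z).inv
  w := by rw [HomologicalComplex.single_obj_d, comp_zero]
  mono := inferInstance
  ex0 := (ShortComplex.exact_iff_epi _ rfl).2 (by dsimp; infer_instance)
  iso0 := fun _ => inferInstance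
  ex := fun i h1 h0 => by omega
  zero := fun i hi => HomologicalComplex.isZero_single_obj_X _ _ _ _ (by omega)
  epi := fun h => by omega
  hP := fun i hi => by omega
  iso := HomologicalComplex.singleObjXSelf (ComplexShape.up ℕ) 0 Z

noncomputable def KData.succ {r : ℕ} {Z : A} (S : ShortComplex A) (hS : S.ShortExact)
    (hE : P S.X₂) (D : KData P r S.X₃ Z) : KData P (r + 1) S.X₁ Z where
  K := D.K.augment (S.g ≫ D.ε) (by rw [Category.assoc, D.w, comp_zero])
  ε := S.f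
  w := by
    show S.f ≫ (S.g ≫ D.ε) = 0
    rw [← Category.assoc, S.zero, zero_comp]
  mono := hS.mono_f
  ex0 := by
    let φ : S ⟶ ShortComplex.mk S.f (S.g ≫ D.ε)
        (by rw [← Category.assoc, S.zero, zero_comp]) :=
      { τ₁ := 𝟙 _, τ₂ := 𝟙 _, τ₃ := D.ε, comm₁₂ := by simp, comm₂₃ := by simp }
    haveI : Mono φ.τ₃ := D.mono
    haveI : Epi φ.τ₁ := (inferInstance : Epi (𝟙 S.X₁))
    haveI : IsIso φ.τ₂ := (inferInstance : IsIso (𝟙 S.X₂))
    exact (ShortComplex.exact_iff_of_epi_of_isIso_of_mono φ).1 hS.exact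
  iso0 := fun h => by omega
  ex := by
    intro i hi1 hir
    obtain _ | _ | j := i
    · omega
    · refine (HomologicalComplex.exactAt_iff' _ 0 1 2 (by simp) (by simp)).2 ?_
      let φ : ShortComplex.mk (S.g ≫ D.ε) (D.K.d 0 1)
          (by rw [Category.assoc, D.w, comp_zero]) ⟶ ShortComplex.mk D.ε (D.K.d 0 1) D.w :=
        { τ₁ := S.g, τ₂ := 𝟙 _, τ₃ := 𝟙 _, comm₁₂ := by simp, comm₂₃ := by simp }
      haveI : Epi φ.τ₁ := hS.epi_g
      haveI : IsIso φ.τ₂ := (inferInstance : IsIso (𝟙 (D.K.X 0)))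
      haveI : Mono φ.τ₃ := (inferInstance : Mono (𝟙 (D.K.X 1)))
      exact (ShortComplex.exact_iff_of_epi_of_isIso_of_mono φ).2 D.ex0
    · refine (HomologicalComplex.exactAt_iff' _ (j + 1) (j + 1 + 1) (j + 1 + 1 + 1)
        (by simp) (by simp)).2 ?_
      exact (HomologicalComplex.exactAt_iff' D.K j (j + 1) (j + 1 + 1) (by simp) (by simp)).1
        (D.ex (j + 1) (by omega) (by omega))
  zero := by
    intro i hi
    obtain _ | j := i
    · omega
    · exact D.zero j (by omega)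
  epi := by
    intro _
    show Epi ((D.K.augment (S.g ≫ D.ε) _).d r (r + 1))
    rcases r with _ | r'
    · haveI := D.iso0 rfl
      haveI := hS.epi_g
      exact (inferInstance : Epi (S.g ≫ D.ε))
    · have h := D.epi (by omega)
      exact h
  hP := by
    intro i hi
    obtain _ | j := i
    · exact hE
    · exact D.hP j (by omega)
  iso := D.iso

theorem nonempty_kdata {Z : A} {r : ℕ} {Y : A} (h : ObjCores P Z r Y) :
    Nonempty (KData P r Y Z) := by
  induction h with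
  | zero e => exact ⟨KData.ofIso P e⟩
  | succ S hS hE _ ih =>
    obtain ⟨D⟩ := ih
    exact ⟨KData.succ P S hS hE D⟩

variable (h1 : ∀ X : A, ∃ (Y : A) (i : X ⟶ Y), P Y ∧ Mono i)
  (h2 : ∀ S : ShortComplex A, S.ShortExact → P S.X₁ → (P S.X₂ ↔ P S.X₃))
  (n : ℕ) (hn : 1 ≤ n)
  (h3 : ∀ K : CochainComplex A ℕ, (∀ i : ℕ, 1 ≤ i → i ≤ n → K.ExactAt i) →
    (∀ i : ℕ, n < i → IsZero (K.X i)) →
    Epi (K.d (n - 1) n) → (∀ i : ℕ, i < n → P (K.X i)) → P (K.X n))

include h1 h2 hn h3 in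
theorem P_of_objCores {Y Z : A} (h : ObjCores P Z n Y) : P Z := by
  obtain ⟨D⟩ := nonempty_kdata P h
  exact P_of_iso P h1 h2 D.iso (h3 D.K D.ex D.zero (D.epi hn) D.hP)

end objects

section complexes

/-- `CCores P Z r Y`: the complex `Z` is an `r`-th cosyzygy of the complex `Y` for a partial
coresolution by complexes with terms in `P`. -/
inductive CCores (P : ObjectProperty A) (Z : CochainComplex A ℤ) :
    ℕ → CochainComplex A ℤ → Prop
  | zero : CCores P Z 0 Z
  | succ {r : ℕ} (S : ShortComplex (CochainComplex A ℤ)) (hS : S.ShortExact)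
      (hJ : ∀ k, P (S.X₂.X k)) (h : CCores P Z r S.X₃) : CCores P Z (r + 1) S.X₁

variable (P : ObjectProperty A)

theorem objCores_of_ccores {Z : CochainComplex A ℤ} {r : ℕ} {Y : CochainComplex A ℤ}
    (h : CCores P Z r Y) (k : ℤ) : ObjCores P (Z.X k) r (Y.X k) := by
  induction h with
  | zero => exact ObjCores.zero (Iso.refl _)
  | succ S hS hJ _ ih =>
    exact ObjCores.succ (S.map (HomologicalComplex.eval A _ k)) (hS.map_of_exact _) (hJ k) ih

variable (h1 : ∀ X : A, ∃ (Y : A) (i : X ⟶ Y), P Y ∧ Mono i)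
  (h2 : ∀ S : ShortComplex A, S.ShortExact → P S.X₁ → (P S.X₂ ↔ P S.X₃))

include h1 h2 in
theorem exists_ccores (r : ℕ) : ∀ X : CochainComplex A ℤ, ∃ Z, CCores P Z r X := by
  induction r with
  | zero => intro X; exact ⟨X, CCores.zero⟩
  | succ r ih =>
    intro X
    obtain ⟨J, i, hi, hJ⟩ := exists_embedding P h1 h2 X
    obtain ⟨Z, hZ⟩ := ih (cokernel i)
    have hS : (ShortComplex.mk i (cokernel.π i) (cokernel.condition i)).ShortExact :=
      ShortComplex.ShortExact.mk' (ShortComplex.exact_cokernel i) hi inferInstance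
    exact ⟨Z, CCores.succ _ hS hJ hZ⟩

section CC

attribute [local instance] HasDerivedCategory.standard

open CochainComplex

theorem quasiIso_mappingCone_map {K₁ L₁ K₂ L₂ : CochainComplex A ℤ} (φ₁ : K₁ ⟶ L₁)
    (φ₂ : K₂ ⟶ L₂) (a : K₁ ⟶ K₂) (b : L₁ ⟶ L₂) (comm : φ₁ ≫ b = a ≫ φ₂)
    [QuasiIso a] [QuasiIso b] : QuasiIso (mappingCone.map φ₁ φ₂ a b comm) := by
  rw [← DerivedCategory.isIso_Q_map_iff_quasiIso]
  have h₁ : IsIso (DerivedCategory.Q.map a) :=
    (DerivedCategory.isIso_Q_map_iff_quasiIso A a).2 inferInstance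
  have h₂ : IsIso (DerivedCategory.Q.map b) :=
    (DerivedCategory.isIso_Q_map_iff_quasiIso A b).2 inferInstance
  exact Pretriangulated.isIso₃_of_isIso₁₂
    (DerivedCategory.Q.mapTriangle.map (mappingCone.triangleMap φ₁ φ₂ a b comm))
    (DerivedCategory.mappingCone_triangle_distinguished φ₁)
    (DerivedCategory.mappingCone_triangle_distinguished φ₂) h₁ h₂

theorem exists_quasiIso_cocone (S : ShortComplex (CochainComplex A ℤ)) (hS : S.ShortExact)
    {T : CochainComplex A ℤ} (t : S.X₃ ⟶ T) [QuasiIso t] :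
    ∃ f : S.X₁ ⟶ (mappingCone (S.g ≫ t))⟦(-1 : ℤ)⟧, QuasiIso f := by
  haveI : QuasiIso (mappingCone.descShortComplex S) := mappingCone.quasiIso_descShortComplex hS
  have comm : mappingCone.inr S.f ≫ (mappingCone.descShortComplex S ≫ t) =
      𝟙 S.X₂ ≫ (S.g ≫ t) := by
    rw [← Category.assoc, mappingCone.inr_descShortComplex, Category.id_comp]
  haveI := quasiIso_mappingCone_map (mappingCone.inr S.f) (S.g ≫ t) (𝟙 S.X₂)
    (mappingCone.descShortComplex S ≫ t) comm
  obtain ⟨q, hq⟩ : ∃ q : S.X₁⟦(1 : ℤ)⟧ ⟶ mappingCone (S.g ≫ t), QuasiIso q :=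
    ⟨(mappingCone.rotateHomotopyEquiv S.f).hom ≫
      mappingCone.map (mappingCone.inr S.f) (S.g ≫ t) (𝟙 S.X₂)
        (mappingCone.descShortComplex S ≫ t) comm, inferInstance⟩
  obtain ⟨q', hq'⟩ : ∃ q' : (S.X₁⟦(1 : ℤ)⟧)⟦(-1 : ℤ)⟧ ⟶ (mappingCone (S.g ≫ t))⟦(-1 : ℤ)⟧,
      QuasiIso q' := ⟨q⟦(-1 : ℤ)⟧', (CochainComplex.quasiIso_shift_iff q (-1 : ℤ)).2 hq⟩
  obtain ⟨u, hu⟩ : ∃ u : S.X₁ ⟶ (S.X₁⟦(1 : ℤ)⟧)⟦(-1 : ℤ)⟧, QuasiIso u :=
    ⟨((shiftEquiv (CochainComplex A ℤ) (1 : ℤ)).unitIso.app S.X₁).hom, inferInstance⟩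
  exact ⟨u ≫ q', inferInstance⟩

end CC

include h1 h2 in
theorem P_cocone_terms {K L : CochainComplex A ℤ} (φ : K ⟶ L) (hK : ∀ k, P (K.X k))
    (hL : ∀ k, P (L.X k)) (k : ℤ) :
    P (((CochainComplex.mappingCone φ)⟦(-1 : ℤ)⟧).X k) := by
  show P ((CochainComplex.mappingCone φ).X (k + -1))
  exact P_of_iso P h1 h2
    (HomologicalComplex.homotopyCofiber.XIsoBiprod φ (k + -1) (k + -1 + 1) rfl).symm
    (P_biprod P h1 h2 (hK _) (hL _))

include h1 h2 in
theorem good_of_ccores {Z : CochainComplex A ℤ} {r : ℕ} {Y : CochainComplex A ℤ}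
    (h : CCores P Z r Y) (hZ : ∀ k, P (Z.X k)) :
    ∃ (I : CochainComplex A ℤ) (f : Y ⟶ I), QuasiIso f ∧ ∀ k, P (I.X k) := by
  induction h with
  | zero => exact ⟨Z, 𝟙 Z, inferInstance, hZ⟩
  | succ S hS hJ _ ih =>
    obtain ⟨T, t, ht, hT⟩ := ih
    obtain ⟨f, hf⟩ := exists_quasiIso_cocone S hS t
    exact ⟨_, f, hf, P_cocone_terms P h1 h2 _ hJ hT⟩

include h1 h2 in
theorem main (n : ℕ) (hn : 1 ≤ n)
    (h3 : ∀ K : CochainComplex A ℕ, (∀ i : ℕ, 1 ≤ i → i ≤ n → K.ExactAt i) →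
      (∀ i : ℕ, n < i → IsZero (K.X i)) →
      Epi (K.d (n - 1) n) → (∀ i : ℕ, i < n → P (K.X i)) → P (K.X n))
    (X : CochainComplex A ℤ) :
    ∃ (I : CochainComplex A ℤ) (f : X ⟶ I), QuasiIso f ∧ ∀ k : ℤ, P (I.X k) := by
  obtain ⟨Z, hZ⟩ := exists_ccores P h1 h2 n X
  exact good_of_ccores P h1 h2 hZ
    (fun k => P_of_objCores P h1 h2 n hn h3 (objCores_of_ccores P hZ k))

end complexes

end H10CL
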