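import Mathlib
import Groth.Agent.Lib.Helper2.RDBridge
import Groth.Agent.Lib.Helper10.PClassResolution

/-!
# Acyclic objects for a left exact functor of finite cohomological dimension

Namespace `H10FD`.  For `F : A ⥤ B` additive (left exact where needed) with `RⁿF = 0`:
* every complex admits a quasi-isomorphism to a complex with `F`-acyclic terms;
* `F` sends acyclic complexes with `F`-acyclic terms to acyclic complexes.
-/

set_option autoImplicit false
universe v v' u u'
open CategoryTheory CategoryTheory.Limits ZeroObject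
open Groth.Agent.Lib.Helper2.RDBridge

namespace H10FD

variable {A : Type u} [Category.{v} A] [Abelian A] [HasInjectiveResolutions A]
  {B : Type u'} [Category.{v'} B] [Abelian B] (F : A ⥤ B) [F.Additive]

omit [HasInjectiveResolutions A] in
theorem enoughInjectives [HasInjectiveResolutions A] : EnoughInjectives A where
  presentation X := by
    have h : Mono ((injectiveResolution X).ι.f 0) := inferInstance
    exact ⟨{ J := (injectiveResolution X).cocomplex.X 0
             injective := inferInstance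
             f := (injectiveResolution X).ι.f 0
             mono := h }⟩

/-- The `F`-acyclic objects. -/
abbrev Pac : ObjectProperty A := fun X => ∀ i : ℕ, 0 < i → IsZero ((F.rightDerived i).obj X)

lemma pac_of_injective (X : A) [Injective X] : Pac F X := by
  haveI := enoughInjectives (A := A)
  exact racyc_of_injective F X

lemma pac_of_isZero (X : A) (hX : IsZero X) : Pac F X := by
  haveI := enoughInjectives (A := A)
  exact racyc_of_isZero F X hX

lemma pac_h1 (X : A) : ∃ (Y : A) (i : X ⟶ Y), Pac F Y ∧ Mono i := by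
  haveI := enoughInjectives (A := A)
  exact ⟨Injective.under X, Injective.ι X, pac_of_injective F _, inferInstance⟩

lemma pac_h2 (S : ShortComplex A) (hS : S.ShortExact) (h₁ : Pac F S.X₁) :
    Pac F S.X₂ ↔ Pac F S.X₃ := by
  haveI := enoughInjectives (A := A)
  exact ⟨fun h₂ => racyc_X₃ F S hS h₁ h₂, fun h₃ => racyc_X₂ F S hS h₁ h₃⟩

lemma pac_of_iso {X Y : A} (e : X ≅ Y) (hX : Pac F X) : Pac F Y :=
  fun i hi => IsZero.of_iso (hX i hi) ((F.rightDerived i).mapIso e.symm)

lemma pac_biprod {X Y : A} (hX : Pac F X) (hY : Pac F Y) : Pac F (X ⊞ Y) :=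
  H10CL.P_biprod (Pac F) (pac_h1 F) (pac_h2 F) hX hY

lemma isZero_rightDerived_of_le (n : ℕ) (hn : ∀ X : A, IsZero ((F.rightDerived n).obj X)) :
    ∀ (j : ℕ), n ≤ j → ∀ X : A, IsZero ((F.rightDerived j).obj X) := by
  haveI := enoughInjectives (A := A)
  intro j hj
  induction j, hj using Nat.le_induction with
  | base => exact hn
  | succ j hj ih =>
    intro X
    have hS : (ShortComplex.mk (Injective.ι X) (cokernel.π (Injective.ι X))
        (cokernel.condition _)).ShortExact :=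
      ShortComplex.ShortExact.mk' (ShortComplex.exact_cokernel _) inferInstance inferInstance
    obtain ⟨δ, z1, z2, z3, e1, e2, e3⟩ := rightDerived_les' F _ hS j
    exact e3.isZero_of_both_zeros ((ih _).eq_of_src _ _)
      ((F.isZero_rightDerived_obj_injective_succ j _).eq_of_tgt _ _)

lemma isZero_of_objCores {Z : A} {r : ℕ} {Y : A} (h : H10CL.ObjCores (Pac F) Z r Y) :
    ∀ i : ℕ, 0 < i → IsZero ((F.rightDerived (i + r)).obj Y) →
      IsZero ((F.rightDerived i).obj Z) := by
  haveI := enoughInjectives (A := A)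
  induction h with
  | zero e =>
    intro i hi hz
    exact IsZero.of_iso hz ((F.rightDerived i).mapIso e.symm)
  | succ S hS hE _ ih =>
    intro i hi hz
    apply ih i hi
    obtain ⟨δ, z1, z2, z3, e1, e2, e3⟩ := rightDerived_les' F S hS (i + _)
    exact e2.isZero_of_both_zeros ((hE (i + _) (by omega)).eq_of_src _ _) (hz.eq_of_tgt _ _)

lemma pac_of_objCores (n : ℕ) (hn : ∀ X : A, IsZero ((F.rightDerived n).obj X)) {Y Z : A}
    (h : H10CL.ObjCores (Pac F) Z n Y) : Pac F Z :=
  fun i hi => isZero_of_objCores F h i hi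
    (isZero_rightDerived_of_le F n hn (i + n) (by omega) Y)

theorem exists_resolution (n : ℕ) (hn : ∀ X : A, IsZero ((F.rightDerived n).obj X))
    (X : CochainComplex A ℤ) :
    ∃ (I : CochainComplex A ℤ) (f : X ⟶ I), QuasiIso f ∧ ∀ k, Pac F (I.X k) := by
  obtain ⟨Z, hZ⟩ := H10CL.exists_ccores (Pac F) (pac_h1 F) (pac_h2 F) n X
  exact H10CL.good_of_ccores (Pac F) (pac_h1 F) (pac_h2 F) hZ
    (fun k => pac_of_objCores F n hn (H10CL.objCores_of_ccores (Pac F) hZ k))

section acyclic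

variable (K : CochainComplex A ℤ)

/-- cycles -/
noncomputable abbrev Zc (m : ℤ) : A := kernel (K.d m (m + 1))

noncomputable abbrev πc (m : ℤ) : K.X m ⟶ Zc K (m + 1) :=
  kernel.lift _ (K.d m (m + 1)) (K.d_comp_d _ _ _)

omit [HasInjectiveResolutions A] in
lemma ι_πc (m : ℤ) : kernel.ι (K.d m (m + 1)) ≫ πc K m = 0 := by
  rw [← cancel_mono (kernel.ι (K.d (m + 1) (m + 1 + 1)))]
  simp

noncomputable abbrev Sc (m : ℤ) : ShortComplex A :=
  ShortComplex.mk (kernel.ι (K.d m (m + 1))) (πc K m) (ι_πc K m)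

omit [HasInjectiveResolutions A] in
lemma shortExact_Sc (hK : ∀ m, K.ExactAt m) (m : ℤ) : (Sc K m).ShortExact := by
  have hex : (Sc K m).Exact := by
    let φ : Sc K m ⟶ ShortComplex.mk (kernel.ι (K.d m (m + 1))) (K.d m (m + 1))
        (kernel.condition _) :=
      { τ₁ := 𝟙 _, τ₂ := 𝟙 _, τ₃ := kernel.ι (K.d (m + 1) (m + 1 + 1))
        comm₁₂ := by simp
        comm₂₃ := by simp }
    haveI : Epi φ.τ₁ := (inferInstance : Epi (𝟙 (Zc K m)))
    haveI : IsIso φ.τ₂ := (inferInstance : IsIso (𝟙 (K.X m)))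
    haveI : Mono φ.τ₃ := (inferInstance : Mono (kernel.ι (K.d (m + 1) (m + 1 + 1))))
    exact (ShortComplex.exact_iff_of_epi_of_isIso_of_mono φ).2 (ShortComplex.exact_kernel _)
  have hK' := (K.exactAt_iff' m (m + 1) (m + 1 + 1) (by simp) (by simp)).1 (hK (m + 1))
  have hepi : Epi (πc K m) := hK'.epi_kernelLift
  exact ShortComplex.ShortExact.mk' hex inferInstance hepi

variable (hK : ∀ m, K.ExactAt m) (hP : ∀ m, Pac F (K.X m))

include hK hP in
lemma objCores_Zc (r : ℕ) :
    ∀ m : ℤ, H10CL.ObjCores (Pac F) (Zc K (m + r)) r (Zc K m) := by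
  induction r with
  | zero => intro m; exact H10CL.ObjCores.zero (eqToIso (by simp))
  | succ r ih =>
    intro m
    have e : m + ((r + 1 : ℕ) : ℤ) = m + 1 + (r : ℤ) := by push_cast; ring
    rw [e]
    exact H10CL.ObjCores.succ (Sc K m) (shortExact_Sc K hK m) (hP m) (ih (m + 1))

include hK hP in
lemma pac_Zc (n : ℕ) (hn : ∀ X : A, IsZero ((F.rightDerived n).obj X)) (m : ℤ) :
    Pac F (Zc K m) := by
  have h := pac_of_objCores F n hn (objCores_Zc F K hK hP n (m - n))
  have e : m - (n : ℤ) + (n : ℤ) = m := by ring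
  rwa [e] at h

include hK hP in
theorem exactAt_map [PreservesFiniteLimits F] (n : ℕ)
    (hn : ∀ X : A, IsZero ((F.rightDerived n).obj X)) (m : ℤ) :
    ((F.mapHomologicalComplex (ComplexShape.up ℤ)).obj K).ExactAt m := by
  haveI := enoughInjectives (A := A)
  obtain ⟨m, rfl⟩ : ∃ m', m = m' + 1 := ⟨m - 1, by ring⟩
  rw [HomologicalComplex.exactAt_iff' _ m (m + 1) (m + 1 + 1) (by simp) (by simp)]
  have h1 := shortExact_map_of_isZero F (Sc K m) (shortExact_Sc K hK m)
    (pac_Zc F K hK hP n hn m 1 one_pos)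
  have h2 := shortExact_map_of_isZero F (Sc K (m + 1)) (shortExact_Sc K hK (m + 1))
    (pac_Zc F K hK hP n hn (m + 1) 1 one_pos)
  have w3 : F.map (kernel.ι (K.d (m + 1) (m + 1 + 1))) ≫ F.map (K.d (m + 1) (m + 1 + 1)) = 0 := by
    rw [← F.map_comp, kernel.condition, F.map_zero]
  have h3 : (ShortComplex.mk _ _ w3).Exact := by
    let φ₂ : (Sc K (m + 1)).map F ⟶ ShortComplex.mk _ _ w3 :=
      { τ₁ := 𝟙 _, τ₂ := 𝟙 _, τ₃ := F.map (kernel.ι (K.d (m + 1 + 1) (m + 1 + 1 + 1)))
        comm₁₂ := (Category.id_comp _).trans (Category.comp_id _).symm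
        comm₂₃ := by
          show 𝟙 _ ≫ F.map (K.d (m + 1) (m + 1 + 1)) =
            F.map (πc K (m + 1)) ≫ F.map (kernel.ι (K.d (m + 1 + 1) (m + 1 + 1 + 1)))
          rw [Category.id_comp, ← F.map_comp, kernel.lift_ι] }
    haveI : Epi φ₂.τ₁ := (inferInstance : Epi (𝟙 (F.obj (Zc K (m + 1)))))
    haveI : IsIso φ₂.τ₂ := (inferInstance : IsIso (𝟙 (F.obj (K.X (m + 1)))))
    haveI : Mono φ₂.τ₃ :=
      (inferInstance : Mono (F.map (kernel.ι (K.d (m + 1 + 1) (m + 1 + 1 + 1)))))
    exact (ShortComplex.exact_iff_of_epi_of_isIso_of_mono φ₂).1 h2.exact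
  let φ₁ : ((F.mapHomologicalComplex (ComplexShape.up ℤ)).obj K).sc' m (m + 1) (m + 1 + 1) ⟶
      ShortComplex.mk _ _ w3 :=
    { τ₁ := F.map (πc K m), τ₂ := 𝟙 _, τ₃ := 𝟙 _
      comm₁₂ := by
        show F.map (πc K m) ≫ F.map (kernel.ι (K.d (m + 1) (m + 1 + 1))) =
          F.map (K.d m (m + 1)) ≫ 𝟙 _
        rw [Category.comp_id, ← F.map_comp, kernel.lift_ι]
      comm₂₃ := by
        show 𝟙 _ ≫ F.map (K.d (m + 1) (m + 1 + 1)) = F.map (K.d (m + 1) (m + 1 + 1)) ≫ 𝟙 _
        rw [Category.id_comp, Category.comp_id] }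
  haveI : Epi φ₁.τ₁ := h1.epi_g
  haveI : IsIso φ₁.τ₂ := (inferInstance : IsIso (𝟙 (F.obj (K.X (m + 1)))))
  haveI : Mono φ₁.τ₃ := (inferInstance : Mono (𝟙 (F.obj (K.X (m + 1 + 1)))))
  exact (ShortComplex.exact_iff_of_epi_of_isIso_of_mono φ₁).2 h3

end acyclic

end H10FD
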