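import Mathlib
import Groth.Agent.Lib.Helper10.FinDimAcyclic

/-!
# Right derived functors on unbounded derived categories via a class of adapted objects

Namespace `H10FD` (continued).  Given a class `P` of objects of an abelian category `A` (closed under
zero objects, isomorphisms and binary biproducts) such that every cochain complex admits a
quasi-isomorphism to a complex with terms in `P`, the complexes with terms in `P` form a
triangulated subcategory of `K(A)` which is right localizing (Verdier) with respect to acyclic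
complexes, and the inclusion is a right derivability structure.
-/

set_option autoImplicit false
universe w w' v v' u u'
open CategoryTheory CategoryTheory.Limits ZeroObject Pretriangulated

namespace H10FD

section general

variable {A : Type u} [Category.{v} A] [Abelian A]

/-- Hypotheses on a class of "adapted" objects. -/
class PGood (P : ObjectProperty A) : Prop where
  zero : ∀ Z : A, IsZero Z → P Z
  iso : ∀ {X Y : A}, (X ≅ Y) → P X → P Y
  biprod : ∀ {X Y : A}, P X → P Y → P (X ⊞ Y)
  res : ∀ X : CochainComplex A ℤ, ∃ (I : CochainComplex A ℤ) (f : X ⟶ I),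
    QuasiIso f ∧ ∀ k, P (I.X k)

/-- complexes with terms in `P` -/
def termsIn (P : ObjectProperty A) : ObjectProperty (CochainComplex A ℤ) :=
  fun I => ∀ k, P (I.X k)

/-- objects of the homotopy category given by complexes with terms in `P` -/
def hoP (P : ObjectProperty A) : ObjectProperty (HomotopyCategory A (ComplexShape.up ℤ)) :=
  (termsIn P).strictMap (HomotopyCategory.quotient _ _)

variable (P : ObjectProperty A)

lemma hoP_quotient_obj_iff (K : CochainComplex A ℤ) :
    hoP P ((HomotopyCategory.quotient _ _).obj K) ↔ termsIn P K := by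
  refine ⟨?_, fun h ↦ ⟨_, h⟩⟩
  simp only [hoP, ObjectProperty.strictMap_iff]
  rintro ⟨L, h, hL⟩
  obtain rfl : L = K := congr_arg Quotient.as hL
  exact h

lemma termsIn_mappingCone [PGood P] {K L : CochainComplex A ℤ} (f : K ⟶ L)
    (hK : termsIn P K) (hL : termsIn P L) : termsIn P (CochainComplex.mappingCone f) :=
  fun k => PGood.iso (HomologicalComplex.homotopyCofiber.XIsoBiprod f k (k + 1) rfl).symm
    (PGood.biprod (hK _) (hL _))

instance [PGood P] : (hoP P).ContainsZero where
  exists_zero :=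
    ⟨(HomotopyCategory.quotient _ _).obj 0, Functor.map_isZero _ (isZero_zero _), by
      rw [hoP_quotient_obj_iff]
      intro k
      exact PGood.zero _ ((HomologicalComplex.eval A _ k).map_isZero (isZero_zero _))⟩

instance : (hoP P).IsStableUnderShift ℤ where
  isStableUnderShiftBy n :=
    { le_shift K hK := by
        obtain ⟨K : CochainComplex _ _, rfl⟩ := K.quotient_obj_surjective
        rw [hoP_quotient_obj_iff] at hK
        rw [ObjectProperty.prop_shift_iff, HomotopyCategory.shift_quotient_obj,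
          hoP_quotient_obj_iff]
        intro k
        exact hK _ }

instance [PGood P] : (hoP P).IsTriangulatedClosed₃ where
  ext₃' T hT h₁ h₂ := by
    have h₁' : termsIn P T.obj₁.as := by rwa [← hoP_quotient_obj_iff]
    have h₂' : termsIn P T.obj₂.as := by rwa [← hoP_quotient_obj_iff]
    obtain ⟨f : T.obj₁.as ⟶ T.obj₂.as, hf⟩ :=
      (HomotopyCategory.quotient _ _).map_surjective T.mor₁
    refine ⟨_, ?_,
      ⟨Triangle.π₃.mapIso (isoTriangleOfIso₁₂ T _ hT
        (HomotopyCategory.mappingCone_triangleh_distinguished f)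
        (Iso.refl _) (Iso.refl _) ?_)⟩⟩
    · exact (hoP_quotient_obj_iff P _).2 (termsIn_mappingCone P f h₁' h₂')
    · exact (Category.comp_id T.mor₁).trans (hf.symm.trans (Category.id_comp _).symm)

instance [PGood P] : (hoP P).IsTriangulated where
  toIsTriangulatedClosed₂ := .of_isTriangulatedClosed₃

lemma trW_quotient_map_iff {K L : CochainComplex A ℤ} (f : K ⟶ L) :
    (HomotopyCategory.subcategoryAcyclic A).trW ((HomotopyCategory.quotient _ _).map f) ↔
      QuasiIso f := by
  rw [← HomotopyCategory.quasiIso_eq_trW_subcategoryAcyclic,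
    HomotopyCategory.quotient_map_mem_quasiIso_iff, HomologicalComplex.mem_quasiIso_iff]

lemma inf_trW_of_quasiIso [PGood P] {K L : CochainComplex A ℤ} (hK : termsIn P K)
    (hL : termsIn P L) (σ : K ⟶ L) (hσ : QuasiIso σ) :
    (hoP P ⊓ HomotopyCategory.subcategoryAcyclic A).trW
      ((HomotopyCategory.quotient _ _).map σ) := by
  rw [ObjectProperty.trW_iff]
  refine ⟨_, _, _, HomotopyCategory.mappingCone_triangleh_distinguished σ, ?_, ?_⟩
  · exact (hoP_quotient_obj_iff P _).2 (termsIn_mappingCone P σ hK hL)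
  · exact ((HomotopyCategory.subcategoryAcyclic A).trW_iff_of_distinguished _
      (HomotopyCategory.mappingCone_triangleh_distinguished σ)).1
      ((trW_quotient_map_iff σ).2 hσ)

instance [PGood P] :
    (hoP P).IsVerdierRightLocalizing (HomotopyCategory.subcategoryAcyclic A) := by
  rw [ObjectProperty.isVerdierRightLocalizing_iff]
  intro X Y s hX hs
  obtain ⟨X : CochainComplex _ _, rfl⟩ := X.quotient_obj_surjective
  obtain ⟨Y : CochainComplex _ _, rfl⟩ := Y.quotient_obj_surjective
  obtain ⟨s, rfl⟩ := (HomotopyCategory.quotient _ _).map_surjective s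
  rw [hoP_quotient_obj_iff] at hX
  rw [trW_quotient_map_iff] at hs
  obtain ⟨Z, r, hr, hZ⟩ := PGood.res (P := P) Y
  refine ⟨(HomotopyCategory.quotient _ _).obj Z, (HomotopyCategory.quotient _ _).map (s ≫ r),
    (HomotopyCategory.quotient _ _).map r, (hoP_quotient_obj_iff P Z).2 hZ, ?_, by simp⟩
  exact inf_trW_of_quasiIso P hX hZ (s ≫ r) inferInstance

/-- The localizer morphism. -/
noncomputable abbrev Φ [PGood P] :=
  (hoP P).triangulatedLocalizerMorphism (HomotopyCategory.subcategoryAcyclic A)

lemma exists_res [PGood P] (Y : HomotopyCategory A (ComplexShape.up ℤ)) :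
    ∃ (Z : (hoP P).FullSubcategory) (ρ : Y ⟶ (hoP P).ι.obj Z),
      (HomotopyCategory.subcategoryAcyclic A).trW ρ := by
  obtain ⟨Y : CochainComplex _ _, rfl⟩ := Y.quotient_obj_surjective
  obtain ⟨I, r, hr, hI⟩ := PGood.res (P := P) Y
  exact ⟨⟨(HomotopyCategory.quotient _ _).obj I, (hoP_quotient_obj_iff P I).2 hI⟩,
    (HomotopyCategory.quotient _ _).map r, (trW_quotient_map_iff r).2 hr⟩

lemma essSurj [PGood P] [HasDerivedCategory.{w} A] :
    ((hoP P).ι ⋙ (DerivedCategory.Qh : _ ⥤ DerivedCategory A)).EssSurj where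
  mem_essImage Y := by
    obtain ⟨I, f, hf, hI⟩ := PGood.res (P := P) (DerivedCategory.Q.objPreimage Y)
    haveI : IsIso (DerivedCategory.Q.map f) :=
      (DerivedCategory.isIso_Q_map_iff_quasiIso A f).2 hf
    exact ⟨⟨(HomotopyCategory.quotient _ _).obj I, (hoP_quotient_obj_iff P I).2 hI⟩,
      ⟨(DerivedCategory.quotientCompQhIso A).app I ≪≫ (asIso (DerivedCategory.Q.map f)).symm ≪≫
        DerivedCategory.Q.objObjPreimageIso Y⟩⟩

theorem isLocalizedEquivalence [PGood P] : (Φ P).IsLocalizedEquivalence := by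
  letI : HasDerivedCategory.{max u v} A := HasDerivedCategory.standard A
  haveI : ((hoP P).ι ⋙ (DerivedCategory.Qh : _ ⥤ DerivedCategory A)).EssSurj := essSurj P
  haveI : ((Φ P).functor ⋙ (DerivedCategory.Qh : _ ⥤ DerivedCategory A)).IsLocalization
      ((HomotopyCategory.subcategoryAcyclic A).inverseImage (hoP P).ι).trW :=
    (Φ P).isLocalization_of_isLocalizedFullyFaithful
      (L₂ := (DerivedCategory.Qh : _ ⥤ DerivedCategory A))
      (L₁ := (hoP P).ι ⋙ (DerivedCategory.Qh : _ ⥤ DerivedCategory A))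
      (F := 𝟭 _) (Functor.rightUnitor _).symm
  exact LocalizerMorphism.IsLocalizedEquivalence.of_isLocalization_of_isLocalization (Φ P)
    (DerivedCategory.Qh : _ ⥤ DerivedCategory A)

theorem isConnected_rightResolution [PGood P] (X₂ : HomotopyCategory A (ComplexShape.up ℤ)) :
    IsConnected ((Φ P).RightResolution X₂) := by
  haveI : Nonempty ((Φ P).RightResolution X₂) := by
    obtain ⟨Z, ρ, hρ⟩ := exists_res P X₂
    exact ⟨{ X₁ := Z, w := ρ, hw := hρ }⟩
  refine zigzag_isConnected (fun R R' => ?_)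
  obtain ⟨ψ, hψ⟩ := MorphismProperty.HasLeftCalculusOfFractions.exists_leftFraction
    (W := (HomotopyCategory.subcategoryAcyclic A).trW)
    (MorphismProperty.RightFraction.mk R.w R.hw R'.w)
  have hψ' : R'.w ≫ ψ.s = R.w ≫ ψ.f := hψ
  obtain ⟨Z, ρ, hρ⟩ := exists_res P ψ.Y'
  have hw'' : (HomotopyCategory.subcategoryAcyclic A).trW (R.w ≫ ψ.f ≫ ρ) := by
    rw [← Category.assoc, ← hψ']
    exact MorphismProperty.comp_mem _ _ _ (MorphismProperty.comp_mem _ _ _ R'.hw ψ.hs) hρ
  obtain ⟨R'', hR''⟩ : ∃ R'' : (Φ P).RightResolution X₂,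
      R'' = { X₁ := Z, w := R.w ≫ ψ.f ≫ ρ, hw := hw'' } := ⟨_, rfl⟩
  have a : R ⟶ R'' := by
    subst hR''
    exact { f := ObjectProperty.homMk (ψ.f ≫ ρ), comm := rfl }
  have b : R' ⟶ R'' := by
    subst hR''
    exact { f := ObjectProperty.homMk (ψ.s ≫ ρ)
            comm := by
              show R'.w ≫ (ψ.s ≫ ρ) = R.w ≫ ψ.f ≫ ρ
              rw [← Category.assoc, hψ', Category.assoc] }
  exact (Zigzag.of_hom a).trans (Zigzag.of_inv b)

theorem hasRightResolutions_arrow [PGood P] : (Φ P).arrow.HasRightResolutions := by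
  intro f
  obtain ⟨Y, ρY, hρY⟩ := exists_res P f.right
  obtain ⟨X, ρX, hρX⟩ := exists_res P f.left
  obtain ⟨ψ, hψ⟩ := MorphismProperty.HasLeftCalculusOfFractions.exists_leftFraction
    (W := (HomotopyCategory.subcategoryAcyclic A).trW)
    (MorphismProperty.RightFraction.mk ρX hρX (f.hom ≫ ρY))
  have hψ' : (f.hom ≫ ρY) ≫ ψ.s = ρX ≫ ψ.f := hψ
  obtain ⟨Z, ρ, hρ⟩ := exists_res P ψ.Y'
  exact ⟨{ X₁ := Arrow.mk (ObjectProperty.homMk (ψ.f ≫ ρ) : X ⟶ Z)
           w := Arrow.homMk ρX (ρY ≫ ψ.s ≫ ρ) (by
             show ρX ≫ (ψ.f ≫ ρ) = f.hom ≫ ρY ≫ ψ.s ≫ ρ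
             rw [← Category.assoc, ← hψ']
             simp only [Category.assoc])
           hw := ⟨hρX, MorphismProperty.comp_mem _ _ _ hρY
             (MorphismProperty.comp_mem _ _ _ ψ.hs hρ)⟩ }⟩

theorem isRightDerivabilityStructure [PGood P] : (Φ P).IsRightDerivabilityStructure := by
  haveI := isLocalizedEquivalence P
  haveI : ∀ X₂, IsConnected ((Φ P).RightResolution X₂) := isConnected_rightResolution P
  haveI : (Φ P).arrow.HasRightResolutions := hasRightResolutions_arrow P
  exact LocalizerMorphism.IsRightDerivabilityStructure.mk' (Φ P)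

end general

section derived

variable {A : Type u} [Category.{v} A] [Abelian A]
  {B : Type u'} [Category.{v'} B] [Abelian B] [HasDerivedCategory.{w'} B]
  (P : ObjectProperty A) [PGood P] (G : A ⥤ B) [G.Additive]

lemma isZero_Q_of_acyclic {C : Type u} [Category.{v} C] [Abelian C] [HasDerivedCategory.{w} C]
    (K : CochainComplex C ℤ) (hK : ∀ n, K.ExactAt n) : IsZero (DerivedCategory.Q.obj K) := by
  have hq : QuasiIso (0 : K ⟶ 0) := by
    rw [quasiIso_iff]
    intro n
    rw [quasiIsoAt_iff_exactAt _ _ (hK n)]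
    exact HomologicalComplex.acyclic_of_isZero _ (isZero_zero _) n
  haveI : IsIso (DerivedCategory.Q.map (0 : K ⟶ 0)) :=
    (DerivedCategory.isIso_Q_map_iff_quasiIso C (0 : K ⟶ 0)).2 hq
  exact IsZero.of_iso (DerivedCategory.Q.map_isZero (isZero_zero _))
    (asIso (DerivedCategory.Q.map (0 : K ⟶ 0)))

theorem derives
    (hG : ∀ K : CochainComplex A ℤ, termsIn P K → (∀ m, K.ExactAt m) →
      ∀ m, ((G.mapHomologicalComplex (ComplexShape.up ℤ)).obj K).ExactAt m) :
    (Φ P).Derives (G.mapHomotopyCategory (ComplexShape.up ℤ) ⋙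
      (DerivedCategory.Qh : _ ⥤ DerivedCategory B)) := by
  intro X Y f hf
  rw [ObjectProperty.trW_inverseImage_ι_iff] at hf
  obtain ⟨Z, g, h, hT, hZ⟩ := hf
  have hT' := (G.mapHomotopyCategory (ComplexShape.up ℤ) ⋙
      (DerivedCategory.Qh : _ ⥤ DerivedCategory B)).map_distinguished _ hT
  have hz : IsZero ((G.mapHomotopyCategory (ComplexShape.up ℤ) ⋙
      (DerivedCategory.Qh : _ ⥤ DerivedCategory B)).obj Z) := by
    obtain ⟨hZ1, hZ2⟩ := hZ
    obtain ⟨Z : CochainComplex _ _, rfl⟩ := Z.quotient_obj_surjective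
    rw [hoP_quotient_obj_iff] at hZ1
    rw [HomotopyCategory.quotient_obj_mem_subcategoryAcyclic_iff_exactAt] at hZ2
    exact IsZero.of_iso (isZero_Q_of_acyclic _ (hG Z hZ1 hZ2))
      ((DerivedCategory.quotientCompQhIso B).app
        ((G.mapHomologicalComplex (ComplexShape.up ℤ)).obj Z))
  exact (Triangle.isZero₃_iff_isIso₁ _ hT').1 hz

theorem hasRightDerivedFunctor
    (hG : ∀ K : CochainComplex A ℤ, termsIn P K → (∀ m, K.ExactAt m) →
      ∀ m, ((G.mapHomologicalComplex (ComplexShape.up ℤ)).obj K).ExactAt m) :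
    (G.mapHomotopyCategory (ComplexShape.up ℤ) ⋙
      (DerivedCategory.Qh : _ ⥤ DerivedCategory B)).HasRightDerivedFunctor
      (HomotopyCategory.quasiIso A (ComplexShape.up ℤ)) := by
  rw [HomotopyCategory.quasiIso_eq_trW_subcategoryAcyclic]
  haveI := isRightDerivabilityStructure P
  haveI := (derives P G hG).hasPointwiseRightDerivedFunctor
  infer_instance

theorem isIso_unit [HasDerivedCategory.{w} A]
    (hG : ∀ K : CochainComplex A ℤ, termsIn P K → (∀ m, K.ExactAt m) →
      ∀ m, ((G.mapHomologicalComplex (ComplexShape.up ℤ)).obj K).ExactAt m)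
    [(G.mapHomotopyCategory (ComplexShape.up ℤ) ⋙
      (DerivedCategory.Qh : _ ⥤ DerivedCategory B)).HasRightDerivedFunctor
      (HomotopyCategory.quasiIso A (ComplexShape.up ℤ))]
    (K : CochainComplex A ℤ) (hK : termsIn P K) :
    IsIso (((G.mapHomotopyCategory (ComplexShape.up ℤ) ⋙
      (DerivedCategory.Qh : _ ⥤ DerivedCategory B)).totalRightDerivedUnit
        (DerivedCategory.Qh : _ ⥤ DerivedCategory A)
        (HomotopyCategory.quasiIso A (ComplexShape.up ℤ))).app
      ((HomotopyCategory.quotient A (ComplexShape.up ℤ)).obj K)) := by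
  have key : ∀ (W : MorphismProperty (HomotopyCategory A (ComplexShape.up ℤ)))
      (_ : W = (HomotopyCategory.subcategoryAcyclic A).trW)
      [(G.mapHomotopyCategory (ComplexShape.up ℤ) ⋙
        (DerivedCategory.Qh : _ ⥤ DerivedCategory B)).HasRightDerivedFunctor W]
      [(DerivedCategory.Qh : _ ⥤ DerivedCategory A).IsLocalization W],
      IsIso (((G.mapHomotopyCategory (ComplexShape.up ℤ) ⋙
        (DerivedCategory.Qh : _ ⥤ DerivedCategory B)).totalRightDerivedUnit
          (DerivedCategory.Qh : _ ⥤ DerivedCategory A) W).app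
        ((HomotopyCategory.quotient A (ComplexShape.up ℤ)).obj K)) := by
    intro W hW _ _
    subst hW
    haveI := isRightDerivabilityStructure P
    exact (derives P G hG).isIso_of_isRightDerivedFunctor
      ((G.mapHomotopyCategory (ComplexShape.up ℤ) ⋙
        (DerivedCategory.Qh : _ ⥤ DerivedCategory B)).totalRightDerivedUnit
          (DerivedCategory.Qh : _ ⥤ DerivedCategory A) _)
      ⟨(HomotopyCategory.quotient A (ComplexShape.up ℤ)).obj K, (hoP_quotient_obj_iff P K).2 hK⟩
  exact key _ (HomotopyCategory.quasiIso_eq_trW_subcategoryAcyclic A)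

end derived

end H10FD
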