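import Mathlib
import Groth.Prelude.Def_StGerb2
import Groth.Agent.Lib.Helper10.Gerbe
import Groth.Agent.Lib.Helper10.HomSheaf
import Groth.Agent.Lib.Helper10.StkLoc
import Groth.Agent.Lib.Helper10.Fib4

/-!
# Gerbes over a site: local triviality, and a criterion for equivalences

* `pairSieve`, `pairSieve_mem`: two objects of a gerbe over the same base object have locally a
  common pullback.
* `trivSieve`, `trivSieve_mem`: every object of a gerbe with a "global" object `s` is locally a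
  pullback of `s`.
* `autOfHom`, `eq_id_of_autMap_injective`, `exists_of_autMap_surjective`.
* `isEquivOver_of_bijective_autMap`: a functor between gerbes which is bijective on the
  automorphism groups of the pullbacks of a global object is an equivalence over the base.
-/

set_option autoImplicit false
set_option linter.style.haveILetI false
set_option backward.isDefEq.respectTransparency false
set_option backward.isDefEq.respectTransparency.types false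

universe v₂ u₂ v₃ u₃ v u

open CategoryTheory Functor

namespace Groth.Agent.Lib.Helper10.GerbeLoc

open Groth.Agent.Lib.Helper10.Fib Groth.Agent.Lib.Helper10.Gerbe Groth.Agent.Lib.Helper10

section

variable {C : Type u} [Category.{v} C] (J : GrothendieckTopology C)
  {𝒳 : BasedCategory.{v₂, u₂} C} {𝒴 : BasedCategory.{v₃, u₃} C}

/-- The sieve of arrows along which `x` and `x'` have a common pullback. -/
def pairSieve (h𝒳 : FibCat.IsFibGrpd 𝒳.p) (x x' : 𝒳.obj) (U : C) : Sieve U where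
  arrows V f := ∃ (x₀ : 𝒳.obj) (χ : x₀ ⟶ x) (χ' : x₀ ⟶ x'),
    𝒳.p.IsHomLift f χ ∧ 𝒳.p.IsHomLift f χ'
  downward_closed := by
    rintro V W f ⟨x₀, χ, χ', hχ, hχ'⟩ k
    haveI := hχ
    haveI := hχ'
    obtain ⟨x₁, κ, hκ⟩ := IsFibGrpd.exists_lift' h𝒳 (IsHomLift.domain_eq 𝒳.p f χ) k
    haveI := hκ
    exact ⟨x₁, κ ≫ χ, κ ≫ χ', inferInstance, inferInstance⟩

theorem pairSieve_mem (h : Gerb.IsGerbe J 𝒳) (x x' : 𝒳.obj) (U : C) (hx : 𝒳.p.obj x = U)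
    (hx' : 𝒳.p.obj x' = U) : pairSieve h.1.1 x x' U ∈ J U := by
  subst hx
  have hb : (FibCat.selfOver C).p.IsHomLift (𝟙 (𝒳.p.obj x))
      (eqToHom hx'.symm : 𝒳.p.obj x ⟶ 𝒳.p.obj x') :=
    IsHomLift.eqToHom_domain_lift_id hx'.symm rfl
  obtain ⟨R, hR, H⟩ := h.2.2 x x' (eqToHom hx'.symm) hb
  refine J.superset_covering (fun V f hf => ?_) hR
  obtain ⟨x₀, φ, ψ, hφ, hψ, -⟩ := H f hf
  exact ⟨x₀, φ, ψ, hφ, hψ⟩

/-- The sieve of arrows along which `x` becomes a pullback of `s`. -/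
def trivSieve (h𝒳 : FibCat.IsFibGrpd 𝒳.p) (s x : 𝒳.obj) (U : C) : Sieve U where
  arrows V f := ∃ (x₀ : 𝒳.obj) (χ : x₀ ⟶ x), 𝒳.p.IsHomLift f χ ∧ Nonempty (x₀ ⟶ s)
  downward_closed := by
    rintro V W f ⟨x₀, χ, hχ, ⟨c⟩⟩ k
    haveI := hχ
    obtain ⟨x₁, κ, hκ⟩ := IsFibGrpd.exists_lift' h𝒳 (IsHomLift.domain_eq 𝒳.p f χ) k
    haveI := hκ
    exact ⟨x₁, κ ≫ χ, inferInstance, ⟨κ ≫ c⟩⟩

theorem trivSieve_mem (h : Gerb.IsGerbe J 𝒳) (s : 𝒳.obj)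
    (hT : ∀ U : C, Nonempty (U ⟶ 𝒳.p.obj s)) (x : 𝒳.obj) (U : C) (hx : 𝒳.p.obj x = U) :
    trivSieve h.1.1 s x U ∈ J U := by
  obtain ⟨t⟩ := hT U
  obtain ⟨sU, σ, hσ⟩ := IsFibGrpd.exists_lift' h.1.1 (rfl : 𝒳.p.obj s = _) t
  haveI := hσ
  have hsU : 𝒳.p.obj sU = U := IsHomLift.domain_eq 𝒳.p t σ
  refine J.superset_covering ?_ (pairSieve_mem J h x sU U hx hsU)
  rintro V f ⟨x₀, χ, χ', hχ, hχ'⟩
  exact ⟨x₀, χ, hχ, ⟨χ' ≫ σ⟩⟩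

lemma triv_of_mem (h𝒳 : FibCat.IsFibGrpd 𝒳.p) {s x : 𝒳.obj} {U V : C} {f : V ⟶ U}
    (hf : (trivSieve h𝒳 s x U).arrows f) {z : 𝒳.obj} (ξ : z ⟶ x) [𝒳.p.IsHomLift f ξ] :
    Nonempty (z ⟶ s) := by
  obtain ⟨x₀, χ, hχ, ⟨c⟩⟩ := hf
  haveI := hχ
  obtain ⟨θ, -, -⟩ := exists_factor h𝒳 f ξ χ
  exact ⟨θ ≫ c⟩

lemma exists_of_mem_pair (h𝒳 : FibCat.IsFibGrpd 𝒳.p) {x x' : 𝒳.obj} {U V : C} {f : V ⟶ U}
    (hf : (pairSieve h𝒳 x x' U).arrows f) {z : 𝒳.obj} (ξ : z ⟶ x) [𝒳.p.IsHomLift f ξ] :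
    ∃ ξ' : z ⟶ x', 𝒳.p.IsHomLift f ξ' := by
  obtain ⟨x₀, χ, χ', hχ, hχ'⟩ := hf
  haveI := hχ
  haveI := hχ'
  obtain ⟨θ, hθ, -⟩ := exists_factor h𝒳 f ξ χ
  haveI := hθ
  exact ⟨θ ≫ χ', inferInstance⟩

/-- An automorphism over the identity, as an element of `Gerb.AutO`. -/
noncomputable def autOfHom (h𝒳 : FibCat.IsFibGrpd 𝒳.p) {x : 𝒳.obj} (α : x ⟶ x)
    (hα : 𝒳.p.IsHomLift (𝟙 (𝒳.p.obj x)) α) : Gerb.AutO x :=
  haveI := IsFibGrpd.isGroupoid_fiber h𝒳 (𝒳.p.obj x)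
  asIso (⟨α, hα⟩ : Gerb.fib x ⟶ Gerb.fib x)

lemma autOfHom_hom (h𝒳 : FibCat.IsFibGrpd 𝒳.p) {x : 𝒳.obj} (α : x ⟶ x)
    (hα : 𝒳.p.IsHomLift (𝟙 (𝒳.p.obj x)) α) : (autOfHom h𝒳 α hα).hom.1 = α := rfl

lemma eq_id_of_autMap_injective (φ : 𝒳 ⥤ᵇ 𝒴) (h𝒳 : FibCat.IsFibGrpd 𝒳.p) {x : 𝒳.obj}
    (hinj : Function.Injective (Gerb.autMap φ x)) {V : C} (hV : 𝒳.p.obj x = V) (α : x ⟶ x)
    (hα : 𝒳.p.IsHomLift (𝟙 V) α) (he : φ.map α = 𝟙 (φ.obj x)) : α = 𝟙 x := by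
  subst hV
  have h1 : Gerb.autMap φ x (autOfHom h𝒳 α hα) = 1 := by
    apply Aut.ext; apply Functor.Fiber.hom_ext
    change φ.map α = 𝟙 (φ.obj x)
    exact he
  have h2 := hinj (h1.trans (map_one _).symm)
  exact congrArg (fun a : Gerb.AutO x => a.hom.1) h2

lemma exists_of_autMap_surjective (φ : 𝒳 ⥤ᵇ 𝒴) (h𝒴 : FibCat.IsFibGrpd 𝒴.p) {x : 𝒳.obj}
    (hsurj : Function.Surjective (Gerb.autMap φ x)) {V : C} (hV : 𝒳.p.obj x = V)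
    (β : φ.obj x ⟶ φ.obj x) (hβ : 𝒴.p.IsHomLift (𝟙 V) β) :
    ∃ α : x ⟶ x, 𝒳.p.IsHomLift (𝟙 V) α ∧ φ.map α = β := by
  subst hV
  have hβ' : 𝒴.p.IsHomLift (𝟙 (𝒴.p.obj (φ.obj x))) β := by
    haveI := hβ
    exact isHomLift_id_of_eq 𝒴.p (φ.w_obj x).symm β
  obtain ⟨A, hA⟩ := hsurj (autOfHom h𝒴 β hβ')
  exact ⟨A.hom.1, A.hom.2, congrArg (fun b : Gerb.AutO (φ.obj x) => b.hom.1) hA⟩

end

section Main

variable {C : Type u} [Category.{v} C] (J : GrothendieckTopology C)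
  {𝒳 : BasedCategory.{v₂, u₂} C} {𝒴 : BasedCategory.{v₃, u₃} C}

/-- Automorphisms over the identity killed by `φ` are trivial, if `φ` is injective on the
automorphism groups of the pullbacks of the global object `s`. -/
theorem eq_id_of_map_eq_id (h𝒳 : Gerb.IsGerbe J 𝒳) (h𝒴 : FibCat.IsFibGrpd 𝒴.p) (φ : 𝒳 ⥤ᵇ 𝒴)
    (s : 𝒳.obj) (hT : ∀ U : C, Nonempty (U ⟶ 𝒳.p.obj s))
    (hφ : ∀ (x : 𝒳.obj) (_ : x ⟶ s), Function.Injective (Gerb.autMap φ x))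
    (x : 𝒳.obj) (α : x ⟶ x) (hα : 𝒳.p.IsHomLift (𝟙 (𝒳.p.obj x)) α)
    (he : φ.map α = 𝟙 (φ.obj x)) : α = 𝟙 x := by
  have hX := h𝒳.1.1
  haveI := hα
  have hR := trivSieve_mem J h𝒳 s hT x _ rfl
  refine HomSheaf.sep _ hX (HomSheaf.faithful_of_isStack _ J h𝒳.1 hR) rfl α (𝟙 x) hα
    (IsHomLift.id rfl) ?_
  intro V f hf z χ hχ
  haveI := hχ
  obtain ⟨c⟩ := triv_of_mem hX hf χ
  obtain ⟨α₀, hα₀, eα₀⟩ := exists_factor hX f (χ ≫ α) χ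
  haveI := hα₀
  haveI scχ : 𝒴.p.IsStronglyCartesian f (φ.map χ) := IsFibGrpd.sc h𝒴 _ _
  have hz : 𝒳.p.obj z = V := IsHomLift.domain_eq 𝒳.p f χ
  have hφα₀ : φ.map α₀ = 𝟙 (φ.obj z) := by
    haveI : 𝒴.p.IsHomLift (𝟙 V) (𝟙 (φ.obj z)) := IsHomLift.id ((φ.w_obj z).trans hz)
    apply IsStronglyCartesian.ext 𝒴.p f (φ.map χ) (𝟙 V)
    rw [← CategoryTheory.Functor.map_comp, eα₀, CategoryTheory.Functor.map_comp, he,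
      Category.comp_id, Category.id_comp]
  have e3 : α₀ = 𝟙 z := eq_id_of_autMap_injective φ hX (hφ z c) hz α₀ hα₀ hφα₀
  rw [Category.comp_id, ← eα₀, e3, Category.id_comp]

/-- Under the same hypothesis `φ` is faithful. -/
theorem map_injective_of_autMap_injective (h𝒳 : Gerb.IsGerbe J 𝒳) (h𝒴 : FibCat.IsFibGrpd 𝒴.p)
    (φ : 𝒳 ⥤ᵇ 𝒴) (s : 𝒳.obj) (hT : ∀ U : C, Nonempty (U ⟶ 𝒳.p.obj s))
    (hφ : ∀ (x : 𝒳.obj) (_ : x ⟶ s), Function.Injective (Gerb.autMap φ x))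
    {x x' : 𝒳.obj} (n₁ n₂ : x ⟶ x') (hn : φ.map n₁ = φ.map n₂) : n₁ = n₂ := by
  have hX := h𝒳.1.1
  obtain ⟨h, hh⟩ : ∃ h : 𝒳.p.obj x ⟶ 𝒳.p.obj x', h = 𝒳.p.map n₁ := ⟨_, rfl⟩
  haveI l1 : 𝒳.p.IsHomLift h n₁ := by rw [hh]; exact IsHomLift.map 𝒳.p n₁
  haveI l2 : 𝒳.p.IsHomLift h n₂ := by
    rw [← BasedFunctor.isHomLift_iff φ]
    show 𝒴.p.IsHomLift h (φ.toFunctor.map n₂)
    rw [← hn]; infer_instance
  obtain ⟨α, hα, eα⟩ := exists_factor hX h n₂ n₁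
  haveI := hα
  haveI scn : 𝒴.p.IsStronglyCartesian h (φ.map n₁) := IsFibGrpd.sc h𝒴 _ _
  have hφα : φ.map α = 𝟙 (φ.obj x) := by
    haveI : 𝒴.p.IsHomLift (𝟙 (𝒳.p.obj x)) (𝟙 (φ.obj x)) := IsHomLift.id (φ.w_obj x)
    apply IsStronglyCartesian.ext 𝒴.p h (φ.map n₁) (𝟙 (𝒳.p.obj x))
    rw [← CategoryTheory.Functor.map_comp, eα, Category.id_comp, hn]
  rw [← eα, eq_id_of_map_eq_id J h𝒳 h𝒴 φ s hT hφ x α hα hφα, Category.id_comp]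

/-- Fibrewise fullness. -/
theorem exists_map_eq_of_bijective (h𝒳 : Gerb.IsGerbe J 𝒳) (h𝒴 : Stk.IsStack J 𝒴)
    (φ : 𝒳 ⥤ᵇ 𝒴) (s : 𝒳.obj) (hT : ∀ U : C, Nonempty (U ⟶ 𝒳.p.obj s))
    (hφ : ∀ (x : 𝒳.obj) (_ : x ⟶ s), Function.Bijective (Gerb.autMap φ x))
    (x x' : 𝒳.obj) (U : C) (hx : 𝒳.p.obj x = U) (hx' : 𝒳.p.obj x' = U)
    (m : φ.obj x ⟶ φ.obj x') (hm : 𝒴.p.IsHomLift (𝟙 U) m) : ∃ n : x ⟶ x', φ.map n = m := by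
  have hX := h𝒳.1.1
  have hY := h𝒴.1
  haveI := hm
  have Ffaith : ∀ {a b : 𝒳.obj} (n₁ n₂ : a ⟶ b), φ.map n₁ = φ.map n₂ → n₁ = n₂ :=
    fun n₁ n₂ hn => map_injective_of_autMap_injective J h𝒳 hY φ s hT
      (fun x c => (hφ x c).1) n₁ n₂ hn
  have hR1 := trivSieve_mem J h𝒳 s hT x U hx
  have hR2 := pairSieve_mem J h𝒳 x x' U hx hx'
  have hR := J.intersection_covering hR1 hR2
  have hex : ∀ ⦃V : C⦄ (f : V ⟶ U), (trivSieve hX s x U ⊓ pairSieve hX x x' U).arrows f →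
      ∀ (z : 𝒳.obj) (ξ : z ⟶ x), 𝒳.p.IsHomLift f ξ →
      ∃ μ : z ⟶ x', 𝒳.p.IsHomLift f μ ∧ φ.map μ = φ.map ξ ≫ m := by
    intro V f hf z ξ hξ
    obtain ⟨hf1, hf2⟩ := hf
    haveI := hξ
    obtain ⟨c⟩ := triv_of_mem hX hf1 ξ
    obtain ⟨ξ', hξ'⟩ := exists_of_mem_pair hX hf2 ξ
    haveI := hξ'
    obtain ⟨β, hβ, eβ⟩ := exists_factor hY f (φ.map ξ ≫ m) (φ.map ξ')
    have hz : 𝒳.p.obj z = V := IsHomLift.domain_eq 𝒳.p f ξ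
    obtain ⟨α, hα, eα⟩ := exists_of_autMap_surjective φ hY (hφ z c).2 hz β hβ
    haveI := hα
    refine ⟨α ≫ ξ', inferInstance, ?_⟩
    rw [CategoryTheory.Functor.map_comp, eα, eβ]
  obtain ⟨n, hn, Hn⟩ := HomSheaf.glue _ hX (HomSheaf.full_of_isStack _ J h𝒳.1 hR) hx hx'
    (fun ⦃_⦄ ξ μ => φ.map μ = φ.map ξ ≫ m) hex
    (fun V f _ z ξ μ μ' _ _ _ h1 h2 => Ffaith μ μ' (h1.trans h2.symm))
    (fun z z₁ ξ μ κ h1 => by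
      show φ.map (κ ≫ μ) = φ.map (κ ≫ ξ) ≫ m
      rw [CategoryTheory.Functor.map_comp, CategoryTheory.Functor.map_comp, Category.assoc, h1])
  refine ⟨n, ?_⟩
  haveI := hn
  refine HomSheaf.sep _ hY (HomSheaf.faithful_of_isStack _ J h𝒴 hR) ((φ.w_obj x).trans hx)
    (φ.map n) m inferInstance hm ?_
  intro V f hf w ζ hζ
  haveI := hζ
  obtain ⟨x₁, ξ₁, hξ₁, -⟩ := hf.1
  haveI := hξ₁
  obtain ⟨θ, hθ, eθ⟩ := exists_factor hY f ζ (φ.map ξ₁)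
  have hP : φ.map (ξ₁ ≫ n) = φ.map ξ₁ ≫ m := Hn f hf x₁ ξ₁ hξ₁
  rw [← eθ, Category.assoc, Category.assoc, ← hP, CategoryTheory.Functor.map_comp]

theorem isEquivOver_of_bijective_autMap (h𝒳 : Gerb.IsGerbe J 𝒳) (h𝒴 : Gerb.IsGerbe J 𝒴)
    (φ : 𝒳 ⥤ᵇ 𝒴) (s : 𝒳.obj) (hT : ∀ U : C, Nonempty (U ⟶ 𝒳.p.obj s))
    (hφ : ∀ (x : 𝒳.obj) (_ : x ⟶ s), Function.Bijective (Gerb.autMap φ x)) :
    FibCat.IsEquivOver φ := by
  have hX := h𝒳.1.1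
  have hY := h𝒴.1.1
  haveI instFaith : φ.toFunctor.Faithful :=
    ⟨fun {x x'} n₁ n₂ hn => map_injective_of_autMap_injective J h𝒳 hY φ s hT
      (fun x c => (hφ x c).1) n₁ n₂ hn⟩
  haveI instFull : φ.toFunctor.Full := ⟨fun {x x'} m => by
    obtain ⟨h, hh⟩ : ∃ h : 𝒴.p.obj (φ.obj x) ⟶ 𝒴.p.obj (φ.obj x'), h = 𝒴.p.map m := ⟨_, rfl⟩
    haveI l1 : 𝒴.p.IsHomLift h m := by rw [hh]; exact IsHomLift.map 𝒴.p m
    obtain ⟨x'', π, hπ⟩ := IsFibGrpd.exists_lift' hX (φ.w_obj x').symm h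
    haveI := hπ
    obtain ⟨m', hm', em'⟩ := exists_factor hY h m (φ.map π)
    have hx'' : 𝒳.p.obj x'' = 𝒴.p.obj (φ.obj x) := IsHomLift.domain_eq 𝒳.p h π
    obtain ⟨n', hn'⟩ := exists_map_eq_of_bijective J h𝒳 h𝒴.1 φ s hT hφ x x'' _
      (φ.w_obj x).symm hx'' m' hm'
    exact ⟨n' ≫ π, by rw [CategoryTheory.Functor.map_comp, hn', em']⟩⟩
  apply isEquivOver_of_ff φ
  intro y
  obtain ⟨t⟩ := hT (𝒴.p.obj y)
  obtain ⟨sU, σ, hσ⟩ := IsFibGrpd.exists_lift' hX (rfl : 𝒳.p.obj s = _) t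
  haveI := hσ
  have hsU : 𝒳.p.obj sU = 𝒴.p.obj y := IsHomLift.domain_eq 𝒳.p t σ
  have hR := pairSieve_mem J h𝒴 y (φ.obj sU) (𝒴.p.obj y) rfl ((φ.w_obj sU).trans hsU)
  refine StkLoc.exists_iso_of_locally J h𝒳.1 h𝒴.1 φ y _ hR ?_
  rintro V f ⟨y₀, a, a', ha, ha'⟩
  haveI := ha
  haveI := ha'
  obtain ⟨sV, σ', hσ'⟩ := IsFibGrpd.exists_lift' hX hsU f
  haveI := hσ'
  obtain ⟨θ, hθ, eθ⟩ := exists_factor hY f (φ.map σ') a'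
  haveI := hθ
  exact ⟨sV, θ ≫ a, inferInstance⟩

end Main

end Groth.Agent.Lib.Helper10.GerbeLoc
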