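import Mathlib
import Groth.Agent.Lib.Helper10.Boot3
import Groth.Agent.Lib.Helper10.GerbeLoc
import Groth.Agent.Lib.Helper29.QuotUnpack

/-!
# Fppf-local lifting through flat, locally finitely presented, surjective covers (helper10)

* `exists_fppf_lift`, `exists_fppf_lift_through`: objects lift fppf-locally through a 1-morphism
  representable by algebraic spaces which is flat, locally of finite presentation and surjective.
* `faithful_of_fppf_cover`: a 1-morphism `f : 𝒳 ⟶ 𝒴` from a stack whose base change to such a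
  cover is fibred in setoids is faithful.
-/

set_option autoImplicit false
set_option backward.isDefEq.respectTransparency false
set_option backward.isDefEq.respectTransparency.types false

universe u

open CategoryTheory CategoryTheory.Limits AlgebraicGeometry Opposite

namespace H10PT.FppfLift

open Groth.Agent.Lib.Helper10.Fib Groth.Agent.Lib.Helper10.AlgStRep
open Groth.Agent.Lib.Helper10.StkPsh Groth.Agent.Lib.Helper10.HomSheaf
open Groth.Agent.Lib.Helper10.StkPost Groth.Agent.Lib.Helper10.StkElem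
open Groth.Agent.Lib.Helper28.AlgSt.Bridge Groth.Agent.Lib.Helper28.AlgSt.SpaceCalc
open Groth.Agent.Lib.Helper28.AlgSt.PropInst Groth.Agent.Lib.Helper28.AlgSt.Comp
open Groth.Agent.Lib.Helper28.AlgSt.Whisker Groth.Agent.Lib.Helper28.AlgSt.Key
open Groth.Agent.Lib.Helper28.AlgSt.Descent Groth.Agent.Lib.Helper28.AlgSt.DiagComp
open Groth.Agent.Lib.Helper28.AlgSt.ChartOver Groth.Agent.Lib.Helper28.AlgSt.IsoEquiv
open Groth.Agent.Lib.Helper28.AlgSt.ClsPsh Groth.Agent.Lib.Helper28.AlgSt.PshFun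
open Groth.Agent.Lib.Helper28.AlgSt.Chart Groth.Agent.Lib.Helper28.AlgSt.DiagRep
open Groth.Agent.Lib.Helper28.AlgSt.Basic Groth.Agent.Lib.Helper28.AlgSt.FpStack
open Groth.Agent.Lib.Helper28.AlgSt.StackDesc
open Groth.Agent.Lib.Helper16 Groth.Agent.Lib.Helper16.AlgStDC Groth.Agent.Lib.Helper15
open H10PT.MonoQC H10PT.Boot
open Groth.Agent.Lib.Helper10.Gerbe

variable {S : Scheme.{u}}

/-- Fppf-local sections of a flat, locally finitely presented, surjective morphism from an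
algebraic space to a scheme. -/
theorem exists_fppf_lift {𝒜 : AlgSt.Cat S} (h𝒜 : AlgSt.RepByAlgSp 𝒜) {V : Over S}
    (q : 𝒜 ⥤ᵇ FibCat.overCat V)
    (hq1 : AlgSt.RepByAlgSpWith (AlgSp.LocP @Flat) q)
    (hq2 : AlgSt.RepByAlgSpWith (AlgSp.LocP @LocallyOfFinitePresentation) q)
    (hq3 : AlgSt.RepByAlgSpWith AlgSp.IsSurjectiveMor q) :
    ∃ (V' : Over S) (c : V' ⟶ V) (k : FibCat.overCat V' ⥤ᵇ 𝒜), Flat c.left ∧
      LocallyOfFinitePresentation c.left ∧ Surjective c.left ∧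
      Nonempty (BasedFunctor.comp k q ≅ AlgSt.overMap c) := by
  obtain ⟨F, e, he⟩ := h𝒜
  have a_fl := (repByAlgSpWith_iff_chart _ good_flat.bc good_flat.loc q e he).1 hq1
  have a_fp := (repByAlgSpWith_iff_chart _ good_lfp.bc good_lfp.loc q e he).1 hq2
  have a_surj := (repByAlgSpWith_iff_chart _ good_surjective.bc good_surjective.loc q e he).1 hq3
  obtain ⟨m, hm⟩ : ∃ m : F.obj ⟶ (AlgSp.yon S).obj V,
      m = AlgSt.spMapOfOver (BasedFunctor.comp e q) := ⟨_, rfl⟩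
  rw [← hm] at a_fl a_fp a_surj
  obtain ⟨W, p, hpe, hps⟩ := F.property.atlas
  obtain ⟨g, hg⟩ := (AlgSp.yon S).map_surjective (p ≫ m)
  have hc : p ≫ m = (AlgSp.yon S).map g ≫ 𝟙 _ := by rw [Category.comp_id, hg]
  have hgfl : Flat g.left := a_fl p (𝟙 _) g hpe (AlgSp.repWith_id _ V) hc
  have hgfp : LocallyOfFinitePresentation g.left :=
    a_fp p (𝟙 _) g hpe (AlgSp.repWith_id _ V) hc
  have hgsurj : Surjective g.left := by
    apply surjective_left_of_surjective_points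
    rw [hg]
    intro y
    obtain ⟨x, hx⟩ := a_surj y
    obtain ⟨z, hz⟩ := (repWith_surjective_iff p hps.rep).1 hps x
    exact ⟨z, by rw [AlgSp.Points.map_comp, hz, hx]⟩
  refine ⟨W, g, BasedFunctor.comp (AlgSt.ofOverCat W) (BasedFunctor.comp (AlgSt.ofSpMap p) e),
    hgfl, hgfp, hgsurj, ?_⟩
  have key : ∀ (m' : (AlgSp.yon S).obj W ⟶ (AlgSp.yon S).obj V),
      m' = (AlgSp.yon S).map g →
      Nonempty (BasedFunctor.comp (BasedFunctor.comp (AlgSt.ofOverCat W)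
        (AlgSt.ofSpMap m')) (AlgSt.toOverCat V) ≅ AlgSt.overMap g) := by
    rintro _ rfl
    exact ⟨isoOfHomEq _ _ (by rw [homOfOver_chart, homOfOver_overMap])⟩
  obtain ⟨κ⟩ := key _ hg.symm
  refine ⟨?_ ≪≫ κ⟩
  subst hm
  exact wl (AlgSt.ofOverCat W) (wl (AlgSt.ofSpMap p) (spIso (BasedFunctor.comp e q)))

/-- Fppf-local lifting through a flat, locally finitely presented, surjective morphism
representable by algebraic spaces. -/
theorem exists_fppf_lift_through {𝒰 𝒳 : AlgSt.Cat S} (u : 𝒰 ⥤ᵇ 𝒳)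
    (hfl : AlgSt.RepByAlgSpWith (AlgSp.LocP @Flat) u)
    (hfp : AlgSt.RepByAlgSpWith (AlgSp.LocP @LocallyOfFinitePresentation) u)
    (hsurj : AlgSt.RepByAlgSpWith AlgSp.IsSurjectiveMor u)
    {V : Over S} (y : FibCat.overCat V ⥤ᵇ 𝒳) :
    ∃ (V' : Over S) (c : V' ⟶ V) (s : FibCat.overCat V' ⥤ᵇ 𝒰), Flat c.left ∧
      LocallyOfFinitePresentation c.left ∧ Surjective c.left ∧
      Nonempty (BasedFunctor.comp s u ≅ BasedFunctor.comp (AlgSt.overMap c) y) := by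
  have hu1 : AlgSt.RepByAlgSp1 u := repByAlgSp1_of_with _ _ hsurj
  obtain ⟨V', c, k, h1, h2, h3, ⟨ψ⟩⟩ := exists_fppf_lift (hu1 V y) (FibCat.fpFst y u)
    (repByAlgSpWith_fpFst _ u y hfl) (repByAlgSpWith_fpFst _ u y hfp)
    (repByAlgSpWith_fpFst _ u y hsurj)
  refine ⟨V', c, BasedFunctor.comp k (FibCat.fpSnd y u), h1, h2, h3, ⟨?_⟩⟩
  exact wl k (FibCat.fpIso y u).symm ≪≫ wr ψ y

/-- A 1-morphism `f : 𝒳 ⟶ 𝒴` out of a stack is faithful as soon as its base change along a flat,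
locally finitely presented, surjective morphism `w : 𝒰 ⟶ 𝒴` representable by algebraic spaces is
fibred in setoids. -/
theorem faithful_of_fppf_cover {𝒰 𝒳 𝒴 : AlgSt.Cat S} (h𝒳 : Stk.IsStack (AlgSp.J S) 𝒳)
    (h𝒴 : FibCat.IsFibGrpd 𝒴.p) (f : 𝒳 ⥤ᵇ 𝒴) (w : 𝒰 ⥤ᵇ 𝒴)
    (hw₁ : AlgSt.RepByAlgSpWith (AlgSp.LocP @Flat) w)
    (hw₂ : AlgSt.RepByAlgSpWith (AlgSp.LocP @LocallyOfFinitePresentation) w)
    (hw₃ : AlgSt.RepByAlgSpWith AlgSp.IsSurjectiveMor w)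
    (hset : FibCat.IsFibSetoid (FibCat.fp w f).p) : f.toFunctor.Faithful := by
  have hX := h𝒳.1
  apply faithful_of_aut hX h𝒴 f
  intro a φ hφ hfφ
  haveI := hφ
  obtain ⟨y, j, hj⟩ := Groth.Agent.Lib.Helper10.HomSheaf.exists_rep h𝒴 (x := f.obj a) (f.w_obj a)
  haveI := hj
  obtain ⟨V', c, s, hc1, hc2, hc3, ⟨ψ⟩⟩ := exists_fppf_lift_through w hw₁ hw₂ hw₃ y
  have hR : Sieve.ofArrows (fun _ : PUnit.{1} => V') (fun _ => c) ∈ AlgSp.J S (𝒳.p.obj a) := by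
    apply Groth.Agent.Lib.Helper29.QuotUnpack.mem_J_of_cover Scheme.fppfPrecoverage
    rw [Scheme.fppfPrecoverage, Scheme.ofArrows_mem_precoverage_iff]
    exact ⟨fun x => ⟨PUnit.unit, hc3.surj x⟩, fun _ => ⟨hc1, hc2⟩⟩
  refine Groth.Agent.Lib.Helper10.HomSheaf.sep _ hX (Groth.Agent.Lib.Helper10.HomSheaf.faithful_of_isStack _ _ h𝒳 hR) rfl φ (𝟙 a) hφ
    (IsHomLift.id rfl) ?_
  rintro V g ⟨Z, h, g', ⟨⟨⟩⟩, rfl⟩ x₀ χ hχ
  haveI := hχ
  obtain ⟨α₀, hα₀, eα₀⟩ := exists_factor hX (h ≫ c) (χ ≫ φ) χ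
  haveI := hα₀
  haveI scχ : 𝒴.p.IsStronglyCartesian (h ≫ c) (f.map χ) := IsFibGrpd.sc h𝒴 _ _
  have hz : 𝒳.p.obj x₀ = V := IsHomLift.domain_eq 𝒳.p (h ≫ c) χ
  have hfα₀ : f.map α₀ = 𝟙 (f.obj x₀) := by
    haveI : 𝒴.p.IsHomLift (𝟙 V) (𝟙 (f.obj x₀)) := IsHomLift.id ((f.w_obj x₀).trans hz)
    apply Functor.IsStronglyCartesian.ext 𝒴.p (h ≫ c) (f.map χ) (𝟙 V)
    rw [← CategoryTheory.Functor.map_comp, eα₀, CategoryTheory.Functor.map_comp, hfφ,
      Category.comp_id, Category.id_comp]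
  -- the object of `𝒰` over `V` lifting `f x₀`
  obtain ⟨t, ht⟩ : ∃ t : 𝒰.obj, t = s.obj (Over.mk h) := ⟨_, rfl⟩
  have htV : 𝒰.p.obj t = V := by rw [ht]; exact s.w_obj (Over.mk h)
  let A : Over (𝒳.p.obj a) := (AlgSt.overMap c).obj (Over.mk h)
  have hAhom : homU (𝒳.p.obj a) A = h ≫ c := rfl
  let ψ' : w.obj t ≅ y.obj A := by
    rw [ht]
    exact (natIsoOfBased ψ).app (Over.mk h)
  have hψ' : 𝒴.p.IsHomLift (𝟙 V) ψ'.hom := by
    subst ht
    exact ψ.hom.isHomLift' (Over.mk h)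
  haveI hm : 𝒴.p.IsHomLift (h ≫ c) (y.map (toTerminal (𝒳.p.obj a) A) ≫ j.hom) := by
    rw [← hAhom]
    exact Groth.Agent.Lib.Helper10.HomSheaf.isHomLift_chi y j.hom A
  obtain ⟨θ, hθ, -⟩ := exists_factor_iso h𝒴 (h ≫ c)
    (y.map (toTerminal (𝒳.p.obj a) A) ≫ j.hom) (f.map χ)
  haveI := hθ
  haveI := hψ'
  have hι : 𝒴.p.IsHomLift (𝟙 (𝒰.p.obj t)) (ψ' ≪≫ θ).hom := by
    rw [htV]
    have h0 : 𝒴.p.IsHomLift (𝟙 V ≫ 𝟙 V) (ψ'.hom ≫ θ.hom) := inferInstance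
    rw [Category.comp_id] at h0
    exact h0
  let Z₀ : (FibCat.fp w f).obj := ⟨⟨t, x₀, ψ' ≪≫ θ⟩, hι⟩
  have hw' : w.map (𝟙 t) ≫ Z₀.obj.iso.hom = Z₀.obj.iso.hom ≫ f.map α₀ := by
    rw [hfα₀, Category.comp_id]
    exact (congrArg (fun k => k ≫ Z₀.obj.iso.hom) (w.toFunctor.map_id t)).trans
      (Category.id_comp _)
  let n : Z₀ ⟶ Z₀ := ObjectProperty.homMk ⟨𝟙 t, α₀, hw'⟩
  haveI hn : (FibCat.fp w f).p.IsHomLift (𝟙 (𝒰.p.obj t)) n := by
    rw [fp_isHomLift_iff]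
    exact IsHomLift.id rfl
  haveI hid : (FibCat.fp w f).p.IsHomLift (𝟙 (𝒰.p.obj t)) (𝟙 Z₀) := IsHomLift.id rfl
  have e2 : n = 𝟙 Z₀ := hom_eq_of_isFibSetoid hset (𝟙 (𝒰.p.obj t)) n (𝟙 Z₀)
  have e3 : α₀ = 𝟙 x₀ := congrArg (fun k => k.hom.snd) e2
  rw [Category.comp_id, ← eα₀, e3, Category.id_comp]

end H10PT.FppfLift
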