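import Groth.Agent.S10102
import Groth.Agent.Lib.Helper16.FpqcCover

/-!
# Helper library (helper10): free actions of group sheaves give equivalence relations
-/

set_option autoImplicit false
universe u
open CategoryTheory CategoryTheory.Limits AlgebraicGeometry Opposite MonoidalCategory
  CartesianMonoidalCategory MonObj

namespace H10PT.GAct

open AlgSp Groth.Agent.Lib.Helper15 Groth.Agent.Lib.Helper16

variable {S : Scheme.{u}} {B : Sp S} {G X : Over B} [GrpObj G] (a : GAction G X)

theorem one_smul {T : Over B} (x : T ⟶ X) : lift (1 : T ⟶ G) x ≫ a.act = x := by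
  rw [Hom.one_def]
  have e : lift (toUnit T ≫ η[G]) x = lift (toUnit T) x ≫ (η[G] ▷ X) := by
    rw [lift_whiskerRight]
  rw [e, Category.assoc, a.one_act, lift_leftUnitor_hom]

theorem mul_smul {T : Over B} (g h : T ⟶ G) (x : T ⟶ X) :
    lift (g * h) x ≫ a.act = lift g (lift h x ≫ a.act) ≫ a.act := by
  rw [Hom.mul_def]
  have e : lift (lift g h ≫ μ[G]) x = lift (lift g h) x ≫ (μ[G] ▷ X) := by
    rw [lift_whiskerRight]
  rw [e, Category.assoc, a.mul_act, ← Category.assoc, lift_lift_associator_hom, ← Category.assoc,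
    lift_whiskerLeft]

theorem exists_decomp {T : Over S} (r : (yon S).obj T ⟶ (G ⊗ X).left) :
    ∃ (β : (yon S).obj T ⟶ B) (g : Over.mk β ⟶ G) (x : Over.mk β ⟶ X), r = (lift g x).left := by
  refine ⟨r ≫ (G ⊗ X).hom,
    (Over.homMk r rfl : Over.mk (r ≫ (G ⊗ X).hom) ⟶ G ⊗ X) ≫ fst G X,
    (Over.homMk r rfl : Over.mk (r ≫ (G ⊗ X).hom) ⟶ G ⊗ X) ≫ snd G X, ?_⟩
  rw [lift_comp_fst_snd]
  rfl

theorem isEqvRelSp (ha : a.IsFree) : IsEqvRelSp (snd G X).left a.act.left where
  injective T r r' h1 h2 := by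
    obtain ⟨β, g, x, rfl⟩ := exists_decomp r
    obtain ⟨β', g', x', rfl⟩ := exists_decomp r'
    rw [← Over.comp_left, ← Over.comp_left, lift_snd, lift_snd] at h2
    have hβ : β = β' := by
      have e1 := Over.w x
      have e2 := Over.w x'
      simp only [Over.mk_hom] at e1 e2
      rw [← e1, ← e2, h2]
    subst hβ
    have hx : x = x' := Over.OverMorphism.ext h2
    subst hx
    rw [← Over.comp_left, ← Over.comp_left] at h1
    have h1' : lift g x ≫ a.act = lift g' x ≫ a.act := Over.OverMorphism.ext h1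
    have h3 : lift (g'⁻¹ * g) x ≫ a.act = x := by
      rw [mul_smul, h1', ← mul_smul, inv_mul_cancel, one_smul]
    have h5 : g'⁻¹ * g = 1 := ha β (g'⁻¹ * g) x h3
    rw [inv_mul_eq_one] at h5
    rw [h5]
  equivalence T := by
    have key : ∀ (p q : (yon S).obj T ⟶ X.left),
        (∃ r : (yon S).obj T ⟶ (G ⊗ X).left, r ≫ a.act.left = p ∧ r ≫ (snd G X).left = q) ↔
        ∃ (β : (yon S).obj T ⟶ B) (g : Over.mk β ⟶ G) (x : Over.mk β ⟶ X),
          (lift g x ≫ a.act).left = p ∧ x.left = q := by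
      intro p q
      constructor
      · rintro ⟨r, rfl, rfl⟩
        obtain ⟨β, g, x, rfl⟩ := exists_decomp r
        exact ⟨β, g, x, by rw [Over.comp_left], by rw [← Over.comp_left, lift_snd]⟩
      · rintro ⟨β, g, x, rfl, rfl⟩
        exact ⟨(lift g x).left, by rw [Over.comp_left], by rw [← Over.comp_left, lift_snd]⟩
    refine ⟨fun p => ?_, fun {p q} hpq => ?_, fun {p q w} hpq hqw => ?_⟩
    · rw [key]
      exact ⟨p ≫ X.hom, 1, Over.homMk p rfl, by rw [one_smul]; rfl, rfl⟩
    · rw [key] at hpq ⊢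
      obtain ⟨β, g, x, rfl, rfl⟩ := hpq
      refine ⟨β, g⁻¹, lift g x ≫ a.act, ?_, rfl⟩
      rw [← mul_smul, inv_mul_cancel, one_smul]
    · rw [key] at hpq hqw ⊢
      obtain ⟨β, g, x, rfl, rfl⟩ := hpq
      obtain ⟨β', g', x', hq, rfl⟩ := hqw
      have hβ : β' = β := by
        have e1 := Over.w x
        have e2 := Over.w (lift g' x' ≫ a.act)
        simp only [Over.mk_hom] at e1 e2
        rw [← e1, ← e2, hq]
      subst hβ
      have hx : lift g' x' ≫ a.act = x := Over.OverMorphism.ext hq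
      subst hx
      exact ⟨β', g * g', x', by rw [mul_smul], rfl⟩

/-- The involution `(g, x) ↦ (g⁻¹, g x)` of `G ×_B X`. -/
noncomputable def inv : G ⊗ X ⟶ G ⊗ X := lift (fst G X)⁻¹ a.act

theorem inv_snd : inv a ≫ snd G X = a.act := lift_snd _ _

theorem inv_inv : inv a ≫ inv a = 𝟙 _ := by
  apply CartesianMonoidalCategory.hom_ext
  · rw [Category.assoc, Category.id_comp]
    unfold inv
    rw [lift_fst, Hom.inv_def, ← Category.assoc, lift_fst]
    have : ι[G] ≫ ι[G] = 𝟙 G := by simp
    rw [Category.assoc, this, Category.comp_id]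
  · rw [Category.assoc, Category.id_comp, inv_snd]
    unfold inv
    have h1 : lift (fst G X)⁻¹ a.act = lift (fst G X)⁻¹ (lift (fst G X) (snd G X) ≫ a.act) := by
      rw [lift_fst_snd, Category.id_comp]
    rw [h1, ← mul_smul, inv_mul_cancel, one_smul]

theorem isIso_inv_left : IsIso (inv a).left :=
  ⟨(inv a).left, by rw [← Over.comp_left, inv_inv]; rfl, by rw [← Over.comp_left, inv_inv]; rfl⟩

theorem locP_act {P : MorphismProperty Scheme.{u}} (hP : EtLocalST P) (hR : IsAlgSpace (G ⊗ X).left)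
    (hX : IsAlgSpace X.left) (hs : LocP P (snd G X).left) : LocP P a.act.left := by
  have e : a.act.left = (inv a).left ≫ (snd G X).left := by rw [← Over.comp_left, inv_snd]
  rw [e]
  haveI := isIso_inv_left a
  refine locP_comp hP hR hR hX _ _ ?_ hs
  exact locP_of_repWith_etale hP hR hR _ ((RepWith (S := S) @Etale).of_isIso _)

end H10PT.GAct
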