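import Groth.Agent.Lib.Helper10.QSC2

/-!
# Helper library (helper10): points from schemes of objects over the terminal fppf sheaf

Morphisms, equalities of morphisms, pullback squares and group actions in `Over h_S` (sheaves over the
terminal sheaf) can be given and checked on points `h_A ⟶ Z` from schemes `A` over `S`.
-/

set_option autoImplicit false
set_option backward.isDefEq.respectTransparency false
set_option backward.isDefEq.respectTransparency.types false
universe u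
open CategoryTheory CategoryTheory.Limits MonoidalCategory CartesianMonoidalCategory MonObj GrpObj
  AlgebraicGeometry Opposite

namespace H10PT.GBA

open H10PT.QSC AlgSp AlgSt

variable {S : Scheme.{u}}

/-- the section of a point -/
noncomputable def secOf {Z : Over (B₀ S)} {A : Over S} (t : (Y S).obj A ⟶ Z) : Z.left.obj.obj (op A) :=
  (J S).uliftYonedaEquiv t.left

/-- the point of a section -/
noncomputable def ptOf {Z : Over (B₀ S)} {A : Over S} (s : Z.left.obj.obj (op A)) : (Y S).obj A ⟶ Z :=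
  ovHom ((J S).uliftYonedaEquiv.symm s)

@[simp] theorem secOf_ptOf {Z : Over (B₀ S)} {A : Over S} (s : Z.left.obj.obj (op A)) :
    secOf (ptOf s : (Y S).obj A ⟶ Z) = s := by
  unfold secOf ptOf
  rw [ovHom_left]
  exact Equiv.apply_symm_apply _ _

@[simp] theorem ptOf_secOf {Z : Over (B₀ S)} {A : Over S} (t : (Y S).obj A ⟶ Z) : ptOf (secOf t) = t := by
  unfold secOf ptOf
  have e : (J S).uliftYonedaEquiv.symm ((J S).uliftYonedaEquiv t.left) = t.left :=
    Equiv.symm_apply_apply _ _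
  exact (congrArg ovHom e).trans (ovHom_of_left t)

theorem secOf_injective {Z : Over (B₀ S)} {A : Over S} {t t' : (Y S).obj A ⟶ Z} (h : secOf t = secOf t') :
    t = t' := by
  rw [← ptOf_secOf t, h, ptOf_secOf]

theorem secOf_comp {Z Z' : Over (B₀ S)} {A : Over S} (t : (Y S).obj A ⟶ Z) (m : Z ⟶ Z') :
    secOf (t ≫ m) = m.left.hom.app (op A) (secOf t) := by
  unfold secOf
  rw [Over.comp_left]
  exact (J S).uliftYonedaEquiv_comp _ _

theorem secOf_map {Z : Over (B₀ S)} {A' A : Over S} (k : A' ⟶ A) (t : (Y S).obj A ⟶ Z) :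
    secOf ((Y S).map k ≫ t) = Z.left.obj.map k.op (secOf t) := by
  unfold secOf
  rw [Over.comp_left, Y_map_left]
  exact ((J S).uliftYonedaEquiv_naturality _ _).symm

theorem ptOf_map {Z : Over (B₀ S)} {A' A : Over S} (k : A' ⟶ A) (s : Z.left.obj.obj (op A)) :
    (Y S).map k ≫ (ptOf s : (Y S).obj A ⟶ Z) = ptOf (Z.left.obj.map k.op s) := by
  apply secOf_injective
  rw [secOf_map, secOf_ptOf, secOf_ptOf]

/-- morphisms are determined by their values on points from schemes -/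
theorem hom_ext_pts {Z Z' : Over (B₀ S)} {m m' : Z ⟶ Z'}
    (h : ∀ (A : Over S) (t : (Y S).obj A ⟶ Z), t ≫ m = t ≫ m') : m = m' := by
  apply Over.OverMorphism.ext
  apply Sheaf.hom_ext
  ext A s
  have := congrArg secOf (h A.unop (ptOf s))
  rw [secOf_comp, secOf_comp, secOf_ptOf] at this
  exact this

/-- a natural family of maps on points from schemes is induced by a morphism -/
theorem exists_hom_of_pts {Z Z' : Over (B₀ S)}
    (τ : ∀ A : Over S, ((Y S).obj A ⟶ Z) → ((Y S).obj A ⟶ Z'))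
    (hτ : ∀ {A' A : Over S} (k : A' ⟶ A) (t : (Y S).obj A ⟶ Z),
      τ A' ((Y S).map k ≫ t) = (Y S).map k ≫ τ A t) :
    ∃ m : Z ⟶ Z', ∀ (A : Over S) (t : (Y S).obj A ⟶ Z), t ≫ m = τ A t := by
  let nt : Z.left.obj ⟶ Z'.left.obj :=
    { app := fun A => ↾fun s => secOf (τ A.unop (ptOf s))
      naturality := by
        intro A A' f
        ext s
        show secOf (τ A'.unop (ptOf (Z.left.obj.map f s))) = Z'.left.obj.map f (secOf (τ A.unop (ptOf s)))
        have e : (ptOf (Z.left.obj.map f s) : (Y S).obj A'.unop ⟶ Z) = (Y S).map f.unop ≫ ptOf s :=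
          (ptOf_map f.unop s).symm
        rw [e, hτ, secOf_map]
        rfl }
  refine ⟨ovHom (ObjectProperty.homMk nt), fun A t => ?_⟩
  apply secOf_injective
  rw [secOf_comp]
  have e : (ovHom (ObjectProperty.homMk nt) : Z ⟶ Z').left.hom.app (op A) (secOf t) =
      secOf (τ A (ptOf (secOf t))) := rfl
  rw [e, ptOf_secOf]

/-- pullback squares can be checked on points from schemes -/
theorem isPullback_of_pts {W Z₁ Z₂ Z₀ : Over (B₀ S)} (p₁ : W ⟶ Z₁) (p₂ : W ⟶ Z₂) (f : Z₁ ⟶ Z₀)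
    (g : Z₂ ⟶ Z₀) (w : p₁ ≫ f = p₂ ≫ g)
    (h : ∀ (A : Over S) (t₁ : (Y S).obj A ⟶ Z₁) (t₂ : (Y S).obj A ⟶ Z₂), t₁ ≫ f = t₂ ≫ g →
      ∃! t : (Y S).obj A ⟶ W, t ≫ p₁ = t₁ ∧ t ≫ p₂ = t₂) : IsPullback p₁ p₂ f g := by
  have hex : ∀ {Q : Over (B₀ S)} (q₁ : Q ⟶ Z₁) (q₂ : Q ⟶ Z₂), q₁ ≫ f = q₂ ≫ g →
      ∃ l : Q ⟶ W, l ≫ p₁ = q₁ ∧ l ≫ p₂ = q₂ := by
    intro Q q₁ q₂ hq
    have hc : ∀ (A : Over S) (t : (Y S).obj A ⟶ Q), (t ≫ q₁) ≫ f = (t ≫ q₂) ≫ g := fun A t => by
      rw [Category.assoc, Category.assoc, hq]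
    obtain ⟨l, hl⟩ := exists_hom_of_pts (Z := Q) (Z' := W)
      (fun A t => (h A (t ≫ q₁) (t ≫ q₂) (hc A t)).choose)
      (by
        intro A' A k t
        have h1 := (h A (t ≫ q₁) (t ≫ q₂) (hc A t)).choose_spec.1
        refine ((h A' (((Y S).map k ≫ t) ≫ q₁) (((Y S).map k ≫ t) ≫ q₂)
          (hc A' _)).choose_spec.2 _ ⟨?_, ?_⟩).symm
        · rw [Category.assoc, h1.1, Category.assoc]
        · rw [Category.assoc, h1.2, Category.assoc])
    refine ⟨l, hom_ext_pts fun A t => ?_, hom_ext_pts fun A t => ?_⟩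
    · rw [← Category.assoc, hl]
      exact (h A (t ≫ q₁) (t ≫ q₂) (hc A t)).choose_spec.1.1
    · rw [← Category.assoc, hl]
      exact (h A (t ≫ q₁) (t ≫ q₂) (hc A t)).choose_spec.1.2
  have huniq : ∀ {Q : Over (B₀ S)} (l l' : Q ⟶ W), l ≫ p₁ = l' ≫ p₁ → l ≫ p₂ = l' ≫ p₂ → l = l' := by
    intro Q l l' h1 h2
    apply hom_ext_pts
    intro A t
    have hc : ((t ≫ l) ≫ p₁) ≫ f = ((t ≫ l) ≫ p₂) ≫ g := by
      simp only [Category.assoc, w]
    obtain ⟨t₀, -, hu⟩ := h A ((t ≫ l) ≫ p₁) ((t ≫ l) ≫ p₂) hc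
    rw [hu (t ≫ l) ⟨rfl, rfl⟩]
    refine (hu (t ≫ l') ⟨?_, ?_⟩).symm
    · rw [Category.assoc, Category.assoc, h1]
    · rw [Category.assoc, Category.assoc, h2]
  refine ⟨⟨w⟩, ⟨PullbackCone.IsLimit.mk w (fun s => (hex s.fst s.snd s.condition).choose)
    (fun s => (hex s.fst s.snd s.condition).choose_spec.1)
    (fun s => (hex s.fst s.snd s.condition).choose_spec.2) ?_⟩⟩
  intro s m h1 h2
  exact huniq _ _ (h1.trans (hex s.fst s.snd s.condition).choose_spec.1.symm)
    (h2.trans (hex s.fst s.snd s.condition).choose_spec.2.symm)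

/-- the axioms of an action can be checked on points from schemes -/
theorem act_axioms_of_pts {G P : Over (B₀ S)} [GrpObj G] (act : G ⊗ P ⟶ P)
    (h1 : ∀ (A : Over S) (p : (Y S).obj A ⟶ P), lift (1 : (Y S).obj A ⟶ G) p ≫ act = p)
    (h2 : ∀ (A : Over S) (g h : (Y S).obj A ⟶ G) (p : (Y S).obj A ⟶ P),
      lift (g * h) p ≫ act = lift g (lift h p ≫ act) ≫ act) :
    (η[G] ▷ P) ≫ act = (λ_ P).hom ∧ (μ[G] ▷ P) ≫ act = (α_ G G P).hom ≫ (G ◁ act) ≫ act := by
  constructor
  · rw [one_act_iff]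
    intro T p
    apply hom_ext_pts
    intro A t
    rw [← Category.assoc, comp_lift, MonObj.comp_one, h1]
  · rw [mul_act_iff]
    intro T g h p
    apply hom_ext_pts
    intro A t
    rw [← Category.assoc, comp_lift, MonObj.comp_mul, h2, ← Category.assoc (t) (lift g _) act, comp_lift,
      ← Category.assoc t (lift h p) act, comp_lift]

end H10PT.GBA
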