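import Groth.Agent.Lib.Helper10.GBA8

/-!
# Helper library (helper10): the functor `y ↦ Isom(x, y)` is bijective on automorphisms of pullbacks of `x`
-/

set_option autoImplicit false
set_option linter.style.haveILetI false
set_option backward.isDefEq.respectTransparency false
set_option backward.isDefEq.respectTransparency.types false
universe u
open CategoryTheory CategoryTheory.Limits AlgebraicGeometry Opposite Functor MonoidalCategory
  CartesianMonoidalCategory MonObj GrpObj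

namespace H10PT.GBA

open scoped Obj
open H10PT.QSC AlgSp AlgSt Groth.Agent.Lib.Helper10.Fib Groth.Agent.Lib.Helper10.Gerbe
  Groth.Agent.Lib.Helper10 Groth.Agent.Lib.Helper10.GerbeLoc

variable {S : Scheme.{u}} {𝒳 : BasedCategory.{u, u + 1} (Over S)} {x : FibCat.overCat (tS S) ⥤ᵇ 𝒳}
  {G : Over S} [GrpObj G] (r : Gerb.AutRep x (Gerb.ptsGrp (tS S) G))
  (hg : Gerb.IsGerbe (J S) 𝒳)

/-- two equivariant maps of torsors which agree at a point over the identity are equal -/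
theorem top_eq_of_pt {z : 𝒳.obj} (e₀ : El x z (𝒳.p.obj z)) (h₀ : e₀.a = 𝟙 _)
    (T T' : PB (x := x) hg.1 z ⟶ PB (x := x) hg.1 z)
    (hT : actM r hg.1 z ≫ T = ((Y S).obj G ◁ T) ≫ actM r hg.1 z)
    (hT' : actM r hg.1 z ≫ T' = ((Y S).obj G ◁ T') ≫ actM r hg.1 z)
    (h : ptEl hg.1 e₀ ≫ T = ptEl hg.1 e₀ ≫ T') : T = T' := by
  apply hom_ext_pts
  intro A t
  have ha : (elOf hg.1 t).a = (e₀.res (elOf hg.1 t).a).a := by
    show _ = (elOf hg.1 t).a ≫ e₀.a
    rw [h₀, Category.comp_id]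
  obtain ⟨g, hg', -⟩ := El.existsUnique_smul r hg.1.1 (elOf hg.1 t) (e₀.res (elOf hg.1 t).a) ha
  have ht : t = lift ((Y S).map g) ((Y S).map (elOf hg.1 t).a ≫ ptEl hg.1 e₀) ≫ actM r hg.1 z := by
    rw [ptEl_map, actM_pt, hg', ptEl_elOf]
  rw [ht, Category.assoc, Category.assoc, hT, hT', ← Category.assoc, ← Category.assoc,
    lift_whiskerLeft, lift_whiskerLeft, Category.assoc, Category.assoc, h]

variable {r hg}

theorem base_eq_id_of_lift {z : 𝒳.obj}
    (β : (psi r hg).obj z ⟶ (psi r hg).obj z)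
    (hβ : (SpQuotSt Scheme.fppfPrecoverage ((Y S).obj G) (pushAct G (trivAction G))).p.IsHomLift
      (𝟙 (𝒳.p.obj z)) β) : β.base = 𝟙 (𝒳.p.obj z) := by
  have := @IsHomLift.fac' _ _ _ _
    (SpQuotSt Scheme.fppfPrecoverage ((Y S).obj G) (pushAct G (trivAction G))).p _ _ _ _ _ β hβ
  have e : (SpQuotSt Scheme.fppfPrecoverage ((Y S).obj G) (pushAct G (trivAction G))).p.map β =
      β.base := rfl
  rw [e] at this
  rw [this]
  simp only [eqToHom_refl, Category.id_comp, Category.comp_id]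
  rfl

theorem map_eq_id_of_lift (hfib : FibCat.IsFibGrpd 𝒳.p) {z : 𝒳.obj} (α : z ⟶ z) {A : Over S}
    (hA : 𝒳.p.obj z = A) (hα : 𝒳.p.IsHomLift (𝟙 A) α) : 𝒳.p.map α = 𝟙 _ := by
  subst hA
  have := @IsHomLift.fac' _ _ _ _ 𝒳.p _ _ _ _ _ α hα
  rw [this]
  simp

variable (r hg)

theorem bijective_autMap_psi (z : 𝒳.obj) (c : z ⟶ xo x (tS S)) :
    Function.Bijective (Gerb.autMap (psi r hg) z) := by
  have hfib := hg.1.1
  -- a trivialisation of `z`
  obtain ⟨θ, hθ, -⟩ := exists_factor hfib (baseOf x c) (xm x (baseOf x c)) c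
  haveI := hθ
  haveI : IsIso θ := IsFibGrpd.isIso_of_isHomLift_id hfib (U := 𝒳.p.obj z) θ
  let e₀ : El x z (𝒳.p.obj z) := ⟨𝟙 _, θ, hθ⟩
  constructor
  · intro α β hαβ
    have h1 : (psi r hg).map α.hom.1 = (psi r hg).map β.hom.1 :=
      congrArg (fun a : Gerb.AutO ((psi r hg).obj z) => a.hom.1) hαβ
    have h2 : topM hg α.hom.1 = topM hg β.hom.1 := congrArg (fun k => k.top) h1
    have h3 := congrArg (fun T => (elOf hg.1 (ptEl hg.1 e₀ ≫ T)).φ) h2
    simp only [topM_pt, elOf_ptEl] at h3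
    have h4 : θ ≫ α.hom.1 = θ ≫ β.hom.1 := h3
    apply Aut.ext
    apply Functor.Fiber.hom_ext
    exact (cancel_epi θ).1 h4
  · intro β
    have hb : β.hom.1.base = 𝟙 (𝒳.p.obj z) := base_eq_id_of_lift (r := r) (hg := hg) β.hom.1 β.hom.2
    let e₁ : El x z (𝒳.p.obj z) := elOf hg.1 (ptEl hg.1 e₀ ≫ β.hom.1.top)
    have he₁ : e₁.a = 𝟙 _ := by
      apply (Y S).map_injective
      have h1 := piM_pt' hg.1 (ptEl hg.1 e₀ ≫ β.hom.1.top)
      have h2 : β.hom.1.top ≫ piM hg.1 z = piM hg.1 z ≫ (Y S).map β.hom.1.base := by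
        have := β.hom.1.cart.w
        have e : (bHom β.hom.1.base β.hom.1.wb :
            Over.mk ((psi r hg).obj z).b ⟶ Over.mk ((psi r hg).obj z).b) =
            (Y S).map β.hom.1.base := Over.OverMorphism.ext rfl
        rw [e] at this
        exact this
      rw [Category.assoc, h2, ← Category.assoc, piM_pt, hb, ← Functor.map_comp] at h1
      exact h1.symm.trans (congrArg (Y S).map (Category.comp_id _))
    haveI : 𝒳.p.IsHomLift (𝟙 (𝒳.p.obj z)) e₁.φ := by rw [← he₁]; infer_instance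
    have hα₀ : 𝒳.p.IsHomLift (𝟙 (𝒳.p.obj z)) (inv θ ≫ e₁.φ) := inferInstance
    refine ⟨autOfHom hfib (inv θ ≫ e₁.φ) hα₀, ?_⟩
    apply Aut.ext
    apply Functor.Fiber.hom_ext
    show (psi r hg).map (inv θ ≫ e₁.φ) = β.hom.1
    have hpm : 𝒳.p.map (inv θ ≫ e₁.φ) = 𝟙 _ := map_eq_id_of_lift hfib _ rfl hα₀
    apply SpQuotObj.hom_ext
    · show 𝒳.p.map (inv θ ≫ e₁.φ) = β.hom.1.base
      rw [hpm, hb]
    · show topM hg (inv θ ≫ e₁.φ) = β.hom.1.top
      refine top_eq_of_pt r hg e₀ rfl _ _ (topM_eqv r hg _) β.hom.1.eqv ?_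
      rw [topM_pt, ← ptEl_elOf hg.1 (ptEl hg.1 e₀ ≫ β.hom.1.top)]
      congr 1
      refine El.ext ?_ ?_
      · show 𝟙 _ ≫ 𝒳.p.map (inv θ ≫ e₁.φ) = e₁.a
        rw [hpm, he₁, Category.comp_id]
      · show θ ≫ inv θ ≫ e₁.φ = e₁.φ
        rw [IsIso.hom_inv_id_assoc]

end H10PT.GBA
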