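import Groth.Agent.Lib.Helper10.QSC1
import Groth.Agent.Lib.Helper10.TQ6
import Groth.Agent.Lib.Helper10.TQR2
import Groth.Prelude.Def_StGerb2

/-!
# Helper library (helper10): the stack of sheaf torsors over the base scheme is a gerbe
-/

set_option autoImplicit false
set_option linter.style.haveILetI false
set_option backward.isDefEq.respectTransparency false
set_option backward.isDefEq.respectTransparency.types false
universe u
open CategoryTheory CategoryTheory.Limits AlgebraicGeometry Opposite Functor MonoidalCategory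
  CartesianMonoidalCategory MonObj GrpObj

namespace H10PT.GBA

open H10PT.QSC AlgSp AlgSt H10PT.TQ H10PT.TQR

variable {S : Scheme.{u}} {G' : Over (B₀ S)} [GrpObj G'] {X' : Over (B₀ S)} (hX' : IsTerminal X')
  (aX' : GAction G' X')

include hX' in
theorem left_ext_of_isTerminal {F : Sp S} (u v : F ⟶ X'.left) : u = v := by
  have h : (ovHom u : Over.mk ((B₀IsTerminal S).from F) ⟶ X') = ovHom v := hX'.hom_ext _ _
  have := congrArg (fun k => k.left) h
  exact this

/-- the point of the terminal object over a scheme -/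
noncomputable def tpt (V : Over S) : (ofSp X'.left).obj := mkPt ((hX'.from ((Y S).obj V)).left)

include hX' in
theorem locSurjObj_spQuotSt :
    Gerb.LocSurjObj (J S) (FibCat.toSelf (SpQuotSt Scheme.fppfPrecoverage G' aX')) := by
  intro U
  refine ⟨⊤, (J S).top_mem _, fun V f _ => ?_⟩
  refine ⟨tv (K := Scheme.fppfPrecoverage) (G := G') (aX := aX') (tpt hX' V), f, ?_⟩
  exact IsHomLift.map (𝟭 (Over S)) f

include hX' in
theorem locSurjHom_spQuotSt :
    Gerb.LocSurjHom (J S) (FibCat.toSelf (SpQuotSt Scheme.fppfPrecoverage G' aX')) := by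
  intro A A' b hb
  have hU' : A'.base = A.base :=
    @IsHomLift.codomain_eq _ _ _ _ (FibCat.selfOver (Over S)).p _ _ _ _ _ b hb
  have hbe : b = eqToHom hU'.symm := by
    have := @IsHomLift.fac' _ _ _ _ (FibCat.selfOver (Over S)).p _ _ _ _ _ b hb
    have e : (FibCat.selfOver (Over S)).p.map b = b := rfl
    rw [e] at this
    rw [this]
    simp
  have h1 : secSieve (πc A) ∈ J S A.base := TQ.secSieve_mem A.loc
  have h2 : secSieve (πc A' ≫ (yon S).map (eqToHom hU')) ∈ J S A.base :=
    secSieve_eqToHom_mem hU' _ _ (TQ.secSieve_mem A'.loc)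
  refine ⟨secSieve (πc A) ⊓ secSieve (πc A' ≫ (yon S).map (eqToHom hU')),
    (J S).intersection_covering h1 h2, ?_⟩
  rintro V f ⟨⟨s, hs⟩, ⟨s', hs'⟩⟩
  have hx : s ≫ A.φ.left = secYon (tpt hX' V) := left_ext_of_isTerminal hX' _ _
  have hx' : s' ≫ A'.φ.left = secYon (tpt hX' V) := left_ext_of_isTerminal hX' _ _
  have hb1 : trivBase A (tpt hX' V) s = f := by
    apply (yon S).map_injective
    rw [map_trivBase]
    exact hs
  have hb2 : trivBase A' (tpt hX' V) s' ≫ eqToHom hU' = f := by
    apply (yon S).map_injective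
    rw [Functor.map_comp, map_trivBase, Category.assoc]
    exact hs'
  refine ⟨tv (tpt hX' V), trivHom A (tpt hX' V) s hx, trivHom A' (tpt hX' V) s' hx', ?_, ?_, ?_⟩
  · have : (SpQuotSt Scheme.fppfPrecoverage G' aX').p.IsHomLift
        ((SpQuotSt Scheme.fppfPrecoverage G' aX').p.map (trivHom A (tpt hX' V) s hx))
        (trivHom A (tpt hX' V) s hx) := inferInstance
    have e : (SpQuotSt Scheme.fppfPrecoverage G' aX').p.map (trivHom A (tpt hX' V) s hx) = f := hb1
    rw [e] at this
    exact this
  · refine IsHomLift.of_fac _ f (trivHom A' (tpt hX' V) s' hx') rfl hU' ?_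
    rw [eqToHom_refl, Category.id_comp]
    exact hb2.symm
  · show trivBase A (tpt hX' V) s ≫ b = trivBase A' (tpt hX' V) s'
    rw [hb1, hbe, ← hb2, Category.assoc, eqToHom_trans, eqToHom_refl, Category.comp_id]

include hX' in
theorem isGerbe_spQuotSt :
    Gerb.IsGerbe (J S) (SpQuotSt Scheme.fppfPrecoverage G' aX') :=
  ⟨TQ.isStack Scheme.fppfPrecoverage G' aX' rfl,
    locSurjObj_spQuotSt hX' aX', locSurjHom_spQuotSt hX' aX'⟩

end H10PT.GBA
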