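import Groth.Agent.Lib.Helper10.GBA10
import Groth.Agent.Lib.Helper10.GBA9
import Groth.Agent.Lib.Helper10.QSC6
import Groth.Agent.Lib.Helper10.FibBC
import Groth.Agent.Lib.Helper10.StkPost

/-!
# Helper library (helper10): a gerbe over the base scheme with a section is a classifying stack
-/

set_option autoImplicit false
set_option linter.style.haveILetI false
set_option backward.isDefEq.respectTransparency false
set_option backward.isDefEq.respectTransparency.types false
universe u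
open CategoryTheory CategoryTheory.Limits AlgebraicGeometry Opposite Functor MonoidalCategory
  CartesianMonoidalCategory MonObj GrpObj

namespace H10PT.GBA

open scoped Obj
open H10PT.QSC AlgSp AlgSt Groth.Agent.Lib.Helper10.Fib Groth.Agent.Lib.Helper10.Gerbe
  Groth.Agent.Lib.Helper10 Groth.Agent.Lib.Helper10.GerbeLoc

variable {S : Scheme.{u}} {𝒳 : BasedCategory.{u, u + 1} (Over S)}

/-- a gerbe over the terminal object is a gerbe over the site -/
theorem isGerbeOver_toSelf_of_terminal (π : 𝒳 ⥤ᵇ FibCat.overCat (tS S))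
    (hπ : Gerb.IsGerbeOver (J S) π) : Gerb.IsGerbeOver (J S) (FibCat.toSelf 𝒳) := by
  constructor
  · intro U
    obtain ⟨R, hR, H⟩ := hπ.1 (hat U)
    refine ⟨R, hR, fun V f hf => ?_⟩
    obtain ⟨z, g, hg⟩ := H f hf
    have hz : 𝒳.p.obj z = V :=
      (π.w_obj z).symm.trans (@IsHomLift.domain_eq _ _ _ _ (FibCat.overCat (tS S)).p _ _ _ _ f g hg)
    refine ⟨z, eqToHom hz ≫ f, ?_⟩
    refine IsHomLift.of_fac (FibCat.selfOver (Over S)).p f (eqToHom hz ≫ f) hz rfl ?_
    show f = eqToHom hz.symm ≫ (eqToHom hz ≫ f) ≫ eqToHom rfl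
    simp
  · intro z z' b hb
    have hU' : 𝒳.p.obj z' = 𝒳.p.obj z :=
      @IsHomLift.codomain_eq _ _ _ _ (FibCat.selfOver (Over S)).p _ _ _ _ _ b hb
    have hbe : b = eqToHom hU'.symm := by
      have := @IsHomLift.fac' _ _ _ _ (FibCat.selfOver (Over S)).p _ _ _ _ _ b hb
      have e : (FibCat.selfOver (Over S)).p.map b = b := rfl
      rw [e] at this
      rw [this]
      simp
    have h1 : (π.obj z).left = 𝒳.p.obj z := π.w_obj z
    have h2 : (π.obj z').left = 𝒳.p.obj z := (π.w_obj z').trans hU'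
    let b' : π.obj z ⟶ π.obj z' := Over.homMk (eqToHom (h1.trans h2.symm))
      ((tSIsTerminal S).hom_ext _ _)
    have hb' : (FibCat.overCat (tS S)).p.IsHomLift (𝟙 (𝒳.p.obj z)) b' := by
      refine IsHomLift.of_fac (FibCat.overCat (tS S)).p _ b' h1 h2 ?_
      show 𝟙 _ = eqToHom h1.symm ≫ eqToHom (h1.trans h2.symm) ≫ eqToHom h2
      simp
    obtain ⟨R, hR, H⟩ := hπ.2 z z' b' hb'
    refine ⟨R, hR, fun V f hf => ?_⟩
    obtain ⟨z₀, φ, ψ, hφ, hψ, -⟩ := H f hf
    refine ⟨z₀, φ, ψ, hφ, hψ, ?_⟩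
    show 𝒳.p.map φ ≫ b = 𝒳.p.map ψ
    have e1 := @IsHomLift.fac' _ _ _ _ 𝒳.p _ _ _ _ f φ hφ
    have e2 := @IsHomLift.fac' _ _ _ _ 𝒳.p _ _ _ _ f ψ hψ
    rw [e1, e2, hbe]
    simp

variable (x : FibCat.overCat (tS S) ⥤ᵇ 𝒳) {G : Over S} [GrpObj G] [IsAffineHom G.hom]
  (r : Gerb.AutRep x (Gerb.ptsGrp (tS S) G))

include r in
/-- a gerbe over the base scheme with a section whose automorphisms are an affine group scheme `G` is the
classifying stack of `G` -/
theorem isQuotientOf_of_isGerbe (hg : Gerb.IsGerbe (J S) 𝒳) :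
    AlgSt.IsQuotientOf Scheme.fppfPrecoverage G (trivAction G) 𝒳 := by
  have hT : ∀ U : Over S, Nonempty (U ⟶ 𝒳.p.obj (xo x (tS S))) := fun U =>
    ⟨(tSIsTerminal S).from U ≫ eqToHom (xo_base x (tS S)).symm⟩
  have h1 : FibCat.IsEquivOver (psi r hg) :=
    isEquivOver_of_bijective_autMap (J S) hg
      (isGerbe_spQuotSt (termYU (S := S)) (pushAct G (trivAction G))) (psi r hg) (xo x (tS S)) hT
      (fun z c => bijective_autMap_psi r hg z c)
  obtain ⟨ψi, hψi⟩ := StkPost.isEquivOver_symm h1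
  exact ⟨BasedFunctor.comp (Φ Scheme.fppfPrecoverage G (trivAction G)) ψi,
    Groth.Agent.Lib.Helper10.Fib.isEquivOver_comp _ _ (isEquivOver_Φ G (trivAction G)) hψi⟩

end H10PT.GBA
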