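import Groth.Agent.Lib.Helper10.QSC1
import Groth.Agent.Lib.Helper10.HomSheaf
import Groth.Prelude.Def_StGerb2

/-!
# Helper library (helper10): the sheaf of morphisms from the pullbacks of a global point to an object

For a point `x : (Sch/S) ⟶ 𝒳` of a stack in groupoids and an object `y` of `𝒳` over `T`: the presheaf on
`(Sch/S)` whose sections over `A` are the pairs (`a : A ⟶ T`, a morphism `x_A ⟶ y` lying over `a`).  It is an
fppf sheaf.
-/

set_option autoImplicit false
set_option linter.style.haveILetI false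
set_option backward.isDefEq.respectTransparency false
set_option backward.isDefEq.respectTransparency.types false
universe u
open CategoryTheory CategoryTheory.Limits AlgebraicGeometry Opposite Functor

namespace H10PT.GBA

open H10PT.QSC AlgSp AlgSt Groth.Agent.Lib.Helper10.Fib Groth.Agent.Lib.Helper10.Gerbe
  Groth.Agent.Lib.Helper10

variable {S : Scheme.{u}}

/-- a scheme over `S` as an object over the terminal object of `Over S` -/
abbrev hat (A : Over S) : Over (tS S) := Over.mk (Over.homMk A.hom (Category.comp_id _) : A ⟶ tS S)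

/-- a morphism of schemes over `S` as a morphism over the terminal object -/
abbrev hatMap {A' A : Over S} (k : A' ⟶ A) : hat A' ⟶ hat A :=
  Over.homMk k (Over.OverMorphism.ext (Over.w k))

theorem hatMap_id (A : Over S) : hatMap (𝟙 A) = 𝟙 (hat A) := Over.OverMorphism.ext rfl

theorem hatMap_comp {A'' A' A : Over S} (k' : A'' ⟶ A') (k : A' ⟶ A) :
    hatMap (k' ≫ k) = hatMap k' ≫ hatMap k := Over.OverMorphism.ext rfl

variable {𝒳 : BasedCategory.{u, u + 1} (Over S)} (x : FibCat.overCat (tS S) ⥤ᵇ 𝒳)

/-- the value of the point on a scheme -/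
abbrev xo (A : Over S) : 𝒳.obj := x.obj (hat A)

/-- the restriction morphisms of the point -/
abbrev xm {A' A : Over S} (k : A' ⟶ A) : xo x A' ⟶ xo x A := x.map (hatMap k)

theorem xm_id (A : Over S) : xm x (𝟙 A) = 𝟙 (xo x A) := by
  unfold xm
  rw [hatMap_id]
  exact x.toFunctor.map_id _

theorem xm_comp {A'' A' A : Over S} (k' : A'' ⟶ A') (k : A' ⟶ A) :
    xm x (k' ≫ k) = xm x k' ≫ xm x k := by
  unfold xm
  rw [hatMap_comp]
  exact x.toFunctor.map_comp _ _

theorem xo_base (A : Over S) : 𝒳.p.obj (xo x A) = A := x.w_obj (hat A)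

instance xm_lift {A' A : Over S} (k : A' ⟶ A) : 𝒳.p.IsHomLift k (xm x k) :=
  isHomLift_map_over (tS S) x (hatMap k)

/-- the sections of the sheaf of morphisms from the point to `y` -/
@[ext]
structure El (y : 𝒳.obj) (A : Over S) : Type u where
  /-- the morphism of schemes -/
  a : A ⟶ 𝒳.p.obj y
  /-- the morphism of the stack -/
  φ : xo x A ⟶ y
  lift : 𝒳.p.IsHomLift a φ

attribute [instance] El.lift

variable {x}

/-- restriction of sections -/
def El.res {y : 𝒳.obj} {A' A : Over S} (k : A' ⟶ A) (e : El x y A) : El x y A' where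
  a := k ≫ e.a
  φ := xm x k ≫ e.φ
  lift := inferInstance

theorem El.res_id {y : 𝒳.obj} {A : Over S} (e : El x y A) : e.res (𝟙 A) = e := by
  ext
  · exact Category.id_comp _
  · show xm x (𝟙 A) ≫ e.φ = e.φ
    rw [xm_id, Category.id_comp]

theorem El.res_comp {y : 𝒳.obj} {A'' A' A : Over S} (k' : A'' ⟶ A') (k : A' ⟶ A) (e : El x y A) :
    e.res (k' ≫ k) = (e.res k).res k' := by
  ext
  · exact Category.assoc _ _ _
  · show xm x (k' ≫ k) ≫ e.φ = xm x k' ≫ xm x k ≫ e.φ
    rw [xm_comp, Category.assoc]

variable (x)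

/-- the presheaf of morphisms from the point to `y` -/
def Fy (y : 𝒳.obj) : (Over S)ᵒᵖ ⥤ Type (u + 1) where
  obj A := ULift.{u + 1} (El x y A.unop)
  map k := ↾fun e => ⟨e.down.res k.unop⟩
  map_id A := by
    refine ConcreteCategory.hom_ext _ _ (fun e => ?_)
    exact congrArg ULift.up (El.res_id e.down)
  map_comp f g := by
    refine ConcreteCategory.hom_ext _ _ (fun e => ?_)
    exact congrArg ULift.up (El.res_comp g.unop f.unop e.down)

theorem Fy_map_down (y : 𝒳.obj) {A' A : Over S} (k : A' ⟶ A) (e : ULift.{u + 1} (El x y A)) :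
    ((Fy x y).map k.op e).down = e.down.res k := rfl

end H10PT.GBA
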