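import Groth.Agent.Lib.Helper10.GBA2

/-!
# Helper library (helper10): the presheaf of morphisms from a global point to an object is a sheaf
-/

set_option autoImplicit false
set_option linter.style.haveILetI false
set_option backward.isDefEq.respectTransparency false
set_option backward.isDefEq.respectTransparency.types false
universe u
open CategoryTheory CategoryTheory.Limits AlgebraicGeometry Opposite Functor

namespace H10PT.GBA

open H10PT.QSC AlgSp AlgSt Groth.Agent.Lib.Helper10.Fib Groth.Agent.Lib.Helper10.Gerbe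
  Groth.Agent.Lib.Helper10

variable {S : Scheme.{u}} {𝒳 : BasedCategory.{u, u + 1} (Over S)} (x : FibCat.overCat (tS S) ⥤ᵇ 𝒳)

theorem eq_of_lifts {a b : 𝒳.obj} {U V : Over S} (m : a ⟶ b) (f f' : U ⟶ V) [𝒳.p.IsHomLift f m]
    [𝒳.p.IsHomLift f' m] : f = f' :=
  (IsHomLift.fac 𝒳.p f m).trans (IsHomLift.fac 𝒳.p f' m).symm

/-- the base morphism of a morphism to a value of the point -/
def baseOf {x₀ : 𝒳.obj} {V : Over S} (θ : x₀ ⟶ xo x V) : 𝒳.p.obj x₀ ⟶ V :=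
  𝒳.p.map θ ≫ eqToHom (xo_base x V)

instance baseOf_lift {x₀ : 𝒳.obj} {V : Over S} (θ : x₀ ⟶ xo x V) : 𝒳.p.IsHomLift (baseOf x θ) θ := by
  unfold baseOf
  infer_instance

variable {x}

theorem fam_congr {y : 𝒳.obj} {A : Over S} {R : Sieve A}
    (s : Presieve.FamilyOfElements (Fy x y) R.arrows) {V : Over S} {f f' : V ⟶ A} (e : f = f')
    (h : R f) (h' : R f') : s f h = s f' h' := by
  subst e
  rfl

theorem key_compat (hfib : FibCat.IsFibGrpd 𝒳.p) {y : 𝒳.obj} {A : Over S} {R : Sieve A}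
    (s : Presieve.FamilyOfElements (Fy x y) R.arrows) (hs : s.SieveCompatible)
    {x₀ : 𝒳.obj} {V₁ V₂ : Over S} {f₁ : V₁ ⟶ A} {f₂ : V₂ ⟶ A} (h₁ : R f₁) (h₂ : R f₂)
    (θ₁ : x₀ ⟶ xo x V₁) (θ₂ : x₀ ⟶ xo x V₂) (h : θ₁ ≫ xm x f₁ = θ₂ ≫ xm x f₂) :
    θ₁ ≫ (s f₁ h₁).down.φ = θ₂ ≫ (s f₂ h₂).down.φ := by
  have hb : baseOf x θ₁ ≫ f₁ = baseOf x θ₂ ≫ f₂ := by
    haveI l1 : 𝒳.p.IsHomLift (baseOf x θ₁ ≫ f₁) (θ₁ ≫ xm x f₁) := inferInstance
    haveI l2 : 𝒳.p.IsHomLift (baseOf x θ₂ ≫ f₂) (θ₁ ≫ xm x f₁) := by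
      rw [h]; infer_instance
    exact eq_of_lifts (θ₁ ≫ xm x f₁) _ _
  obtain ⟨θ₁', hθ₁', e₁⟩ := exists_factor hfib (baseOf x θ₁) θ₁ (xm x (baseOf x θ₁))
  obtain ⟨θ₂', hθ₂', e₂⟩ := exists_factor hfib (baseOf x θ₂) θ₂ (xm x (baseOf x θ₂))
  haveI := hθ₁'
  haveI := hθ₂'
  have e12 : θ₁' = θ₂' := by
    haveI : 𝒳.p.IsStronglyCartesian (baseOf x θ₁ ≫ f₁) (xm x (baseOf x θ₁ ≫ f₁)) :=
      IsFibGrpd.sc hfib _ _
    apply IsStronglyCartesian.ext 𝒳.p (baseOf x θ₁ ≫ f₁) (xm x (baseOf x θ₁ ≫ f₁)) (𝟙 _)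
    have t1 : θ₁' ≫ xm x (baseOf x θ₁ ≫ f₁) = θ₁ ≫ xm x f₁ := by
      rw [xm_comp, ← Category.assoc, e₁]
    have t2 : θ₂' ≫ xm x (baseOf x θ₂ ≫ f₂) = θ₂ ≫ xm x f₂ := by
      rw [xm_comp, ← Category.assoc, e₂]
    rw [t1, h, ← t2]
    congr 1
    rw [hb]
  have r1 : θ₁ ≫ (s f₁ h₁).down.φ = θ₁' ≫ (s (baseOf x θ₁ ≫ f₁) (R.downward_closed h₁ _)).down.φ := by
    rw [hs f₁ (baseOf x θ₁) h₁]
    show _ = θ₁' ≫ xm x (baseOf x θ₁) ≫ (s f₁ h₁).down.φ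
    rw [← Category.assoc, e₁]
  have r2 : θ₂ ≫ (s f₂ h₂).down.φ = θ₂' ≫ (s (baseOf x θ₂ ≫ f₂) (R.downward_closed h₂ _)).down.φ := by
    rw [hs f₂ (baseOf x θ₂) h₂]
    show _ = θ₂' ≫ xm x (baseOf x θ₂) ≫ (s f₂ h₂).down.φ
    rw [← Category.assoc, e₂]
  rw [r1, r2, e12, fam_congr s hb (R.downward_closed h₁ _) (R.downward_closed h₂ _)]

theorem isSheaf_Fy (hst : Stk.IsStack (J S) 𝒳) (y : 𝒳.obj) : Presheaf.IsSheaf (J S) (Fy x y) := by
  have hfib := hst.1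
  rw [isSheaf_iff_isSheaf_of_type]
  intro A R hR s hs
  have hs' := (Presieve.compatible_iff_sieveCompatible s).1 hs
  -- glue the morphisms of schemes
  have hT : Presieve.IsSheafFor ((yon S).obj (𝒳.p.obj y)).obj R.arrows :=
    (isSheaf_iff_isSheaf_of_type _ _).1 ((yon S).obj (𝒳.p.obj y)).property R hR
  let sa : Presieve.FamilyOfElements ((yon S).obj (𝒳.p.obj y)).obj R.arrows :=
    fun V f hf => (ULift.up (s f hf).down.a : ULift.{u + 1} (V ⟶ 𝒳.p.obj y))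
  have hsa : sa.Compatible := by
    rw [Presieve.compatible_iff_sieveCompatible]
    intro V W f g hf
    show (ULift.up (s (g ≫ f) _).down.a : ULift.{u + 1} (W ⟶ 𝒳.p.obj y)) = ULift.up (g ≫ (s f hf).down.a)
    rw [hs' f g hf]
    rfl
  obtain ⟨ta, hta, hta'⟩ := hT sa hsa
  have ha : ∀ {V : Over S} (f : V ⟶ A) (hf : R f), f ≫ ta.down = (s f hf).down.a := fun f hf =>
    congrArg ULift.down (hta f hf)
  -- a cartesian lift of `y`
  obtain ⟨ya, χ, hχ⟩ := IsFibGrpd.exists_lift' hfib (rfl : 𝒳.p.obj y = 𝒳.p.obj y) ta.down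
  haveI := hχ
  have hya : 𝒳.p.obj ya = A := IsHomLift.domain_eq 𝒳.p ta.down χ
  have hFull := HomSheaf.full_of_isStack R (J S) hst hR
  have hFaith := HomSheaf.faithful_of_isStack R (J S) hst hR
  have hl : ∀ {V : Over S} (f : V ⟶ A) (hf : R f), 𝒳.p.IsHomLift (f ≫ ta.down) (s f hf).down.φ := by
    intro V f hf
    rw [ha f hf]
    infer_instance
  obtain ⟨n, hn, hnP⟩ := HomSheaf.glue R hfib hFull (xo_base x A) hya
    (fun x₀ χ₀ μ => ∃ (V : Over S) (f : V ⟶ A) (hf : R f) (θ : x₀ ⟶ xo x V),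
      χ₀ = θ ≫ xm x f ∧ μ ≫ χ = θ ≫ (s f hf).down.φ)
    (by
      intro V f hf x₀ χ₀ hχ₀
      haveI := hχ₀
      obtain ⟨θ₀, hθ₀, e₀⟩ := exists_factor hfib f χ₀ (xm x f)
      haveI := hθ₀
      haveI := hl f hf
      haveI : 𝒳.p.IsHomLift (f ≫ ta.down) (θ₀ ≫ (s f hf).down.φ) :=
        IsHomLift.comp_lift_id_left' (p := 𝒳.p) V θ₀ (f ≫ ta.down) (s f hf).down.φ
      obtain ⟨μ, ⟨hμ1, hμ2⟩, -⟩ := IsStronglyCartesian.universal_property 𝒳.p ta.down χ f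
        (f ≫ ta.down) rfl (θ₀ ≫ (s f hf).down.φ)
      exact ⟨μ, hμ1, V, f, hf, θ₀, e₀.symm, hμ2⟩)
    (by
      rintro V f hf x₀ χ₀ μ μ' hχ₀ hμ hμ' ⟨V₁, f₁, hf₁, θ₁, e₁, m₁⟩ ⟨V₂, f₂, hf₂, θ₂, e₂, m₂⟩
      haveI := hμ
      haveI := hμ'
      apply IsStronglyCartesian.ext 𝒳.p ta.down χ f
      rw [m₁, m₂]
      exact key_compat hfib s hs' hf₁ hf₂ θ₁ θ₂ (e₁.symm.trans e₂))
    (by
      rintro x₀ x₁ χ₀ μ κ ⟨V, f, hf, θ, e, m⟩
      exact ⟨V, f, hf, κ ≫ θ, by rw [e, Category.assoc], by rw [Category.assoc, m, Category.assoc]⟩)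
  haveI := hn
  have key : ∀ {V : Over S} (f : V ⟶ A) (hf : R f), xm x f ≫ n ≫ χ = (s f hf).down.φ := by
    intro V f hf
    obtain ⟨V', f', hf', θ, e, m⟩ := hnP f hf (xo x V) (xm x f) inferInstance
    rw [← Category.assoc, m]
    have := key_compat hfib s hs' hf hf' (𝟙 _) θ (by rw [Category.id_comp]; exact e)
    rw [Category.id_comp] at this
    exact this.symm
  haveI lnχ : 𝒳.p.IsHomLift ta.down (n ≫ χ) :=
    IsHomLift.comp_lift_id_left' (p := 𝒳.p) A n ta.down χ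
  refine ⟨⟨⟨ta.down, n ≫ χ, lnχ⟩⟩, ?_, ?_⟩
  · intro V f hf
    apply ULift.ext
    refine El.ext (ha f hf) ?_
    exact key f hf
  · intro t ht
    have hta2 : t.down.a = ta.down := by
      have : (ULift.up t.down.a : ULift.{u + 1} (A ⟶ 𝒳.p.obj y)) = ta := by
        apply hta'
        intro V f hf
        have := congrArg (fun e => (ULift.up e.down.a : ULift.{u + 1} (V ⟶ 𝒳.p.obj y))) (ht f hf)
        exact this
      exact congrArg ULift.down this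
    haveI lt : 𝒳.p.IsHomLift ta.down t.down.φ := by
      rw [← hta2]; infer_instance
    obtain ⟨ν, hν, eν⟩ := exists_factor hfib ta.down t.down.φ χ
    haveI := hν
    have hνn : ν = n := by
      refine HomSheaf.sep R hfib hFaith (xo_base x A) ν n hν hn ?_
      intro V f hf x₀ χ₀ hχ₀
      haveI := hχ₀
      obtain ⟨θ₀, hθ₀, e₀⟩ := exists_factor hfib f χ₀ (xm x f)
      haveI := hθ₀
      apply IsStronglyCartesian.ext 𝒳.p ta.down χ f
      rw [Category.assoc, Category.assoc, eν, ← e₀, Category.assoc, Category.assoc, key f hf]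
      congr 1
      exact congrArg (fun e => e.down.φ) (ht f hf)
    apply ULift.ext
    refine El.ext hta2 ?_
    show t.down.φ = n ≫ χ
    rw [← hνn, eν]

/-- the sheaf of morphisms from the point to `y` -/
noncomputable def Py (hst : Stk.IsStack (J S) 𝒳) (y : 𝒳.obj) : Sp S := ⟨Fy x y, isSheaf_Fy hst y⟩

end H10PT.GBA
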