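import Groth.Agent.Lib.Helper10.GBA3
import Groth.Agent.Lib.Helper10.GerbeLoc

set_option autoImplicit false
set_option linter.style.haveILetI false
set_option backward.isDefEq.respectTransparency false
set_option backward.isDefEq.respectTransparency.types false
universe u
open CategoryTheory CategoryTheory.Limits AlgebraicGeometry Opposite Functor MonoidalCategory
  CartesianMonoidalCategory MonObj GrpObj

namespace H10PT.GBA

open H10PT.QSC AlgSp AlgSt Groth.Agent.Lib.Helper10.Fib Groth.Agent.Lib.Helper10.Gerbe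
  Groth.Agent.Lib.Helper10 Groth.Agent.Lib.Helper10.GerbeLoc

variable {S : Scheme.{u}} {𝒳 : BasedCategory.{u, u + 1} (Over S)} {x : FibCat.overCat (tS S) ⥤ᵇ 𝒳}
  {G : Over S} [GrpObj G] (r : Gerb.AutRep x (Gerb.ptsGrp (tS S) G))

example (A : Over S) : (Over.iteratedSliceForward (tS S)).obj (hat A) = A := rfl

/-- the group of points of `G` over `A` is the group of automorphisms of the value of the point on `A` -/
noncomputable def rho (A : Over S) : (A ⟶ G) ≃* Gerb.AutO (xo x A) := r.iso (hat A)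

theorem rho_nat {A' A : Over S} (k : A' ⟶ A) (g : A ⟶ G) :
    (rho r A' (k ≫ g)).hom.1 ≫ xm x k = xm x k ≫ (rho r A g).hom.1 := by
  have := r.natural (hatMap k) g
  exact this

theorem rho_mul_hom {A : Over S} (g h : A ⟶ G) :
    (rho r A (g * h)).hom.1 = (rho r A h).hom.1 ≫ (rho r A g).hom.1 := by
  rw [map_mul]
  rfl

theorem rho_one_hom (A : Over S) : (rho r A (1 : A ⟶ G)).hom.1 = 𝟙 (xo x A) := by
  rw [map_one]
  rfl

theorem comp_inv' {A' A : Over S} (k : A' ⟶ A) (g : A ⟶ G) : k ≫ g⁻¹ = (k ≫ g)⁻¹ := by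
  rw [Hom.inv_def, Hom.inv_def, Category.assoc]

/-- the action of points of `G` on the sections of the sheaf of morphisms -/
noncomputable def El.smul {y : 𝒳.obj} {A : Over S} (g : A ⟶ G) (e : El x y A) : El x y A where
  a := e.a
  φ := (rho r A g⁻¹).hom.1 ≫ e.φ
  lift :=
    haveI := (rho r A g⁻¹).hom.2
    IsHomLift.comp_lift_id_left' (p := 𝒳.p) (𝒳.p.obj (xo x A)) (rho r A g⁻¹).hom.1 e.a e.φ

theorem El.one_smul {y : 𝒳.obj} {A : Over S} (e : El x y A) : e.smul r (1 : A ⟶ G) = e := by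
  refine El.ext rfl ?_
  show (rho r A (1 : A ⟶ G)⁻¹).hom.1 ≫ e.φ = e.φ
  rw [inv_one, rho_one_hom, Category.id_comp]

theorem El.mul_smul {y : 𝒳.obj} {A : Over S} (g h : A ⟶ G) (e : El x y A) :
    e.smul r (g * h) = (e.smul r h).smul r g := by
  refine El.ext rfl ?_
  show (rho r A (g * h)⁻¹).hom.1 ≫ e.φ = (rho r A g⁻¹).hom.1 ≫ (rho r A h⁻¹).hom.1 ≫ e.φ
  rw [_root_.mul_inv_rev, rho_mul_hom, Category.assoc]

theorem El.res_smul {y : 𝒳.obj} {A' A : Over S} (k : A' ⟶ A) (g : A ⟶ G) (e : El x y A) :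
    (e.smul r g).res k = (e.res k).smul r (k ≫ g) := by
  refine El.ext rfl ?_
  show xm x k ≫ (rho r A g⁻¹).hom.1 ≫ e.φ = (rho r A' (k ≫ g)⁻¹).hom.1 ≫ xm x k ≫ e.φ
  rw [← comp_inv', ← Category.assoc, ← rho_nat, Category.assoc]

/-- the action is simply transitive on the sections over a given morphism of schemes -/
theorem El.existsUnique_smul (hfib : FibCat.IsFibGrpd 𝒳.p) {y : 𝒳.obj} {A : Over S}
    (e₁ e₂ : El x y A) (h : e₁.a = e₂.a) : ∃! g : A ⟶ G, e₂.smul r g = e₁ := by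
  haveI : 𝒳.p.IsHomLift e₁.a e₂.φ := by rw [h]; infer_instance
  obtain ⟨θ, hθ, eθ⟩ := exists_factor hfib e₁.a e₁.φ e₂.φ
  haveI := hθ
  have hθ' : 𝒳.p.IsHomLift (𝟙 (𝒳.p.obj (xo x A))) θ := isHomLift_id_of_eq 𝒳.p (xo_base x A).symm θ
  haveI : 𝒳.p.IsStronglyCartesian e₁.a e₂.φ := IsFibGrpd.sc hfib _ _
  refine ⟨((rho r A).symm (autOfHom hfib θ hθ'))⁻¹, ?_, ?_⟩
  · refine El.ext h.symm ?_
    show (rho r A ((rho r A).symm (autOfHom hfib θ hθ'))⁻¹⁻¹).hom.1 ≫ e₂.φ = e₁.φ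
    rw [_root_.inv_inv, MulEquiv.apply_symm_apply, autOfHom_hom, eθ]
  · intro g' hg'
    have e1 : (rho r A g'⁻¹).hom.1 ≫ e₂.φ = e₁.φ := congrArg El.φ hg'
    have e2 : (rho r A g'⁻¹).hom.1 = θ := by
      haveI := (rho r A g'⁻¹).hom.2
      haveI : 𝒳.p.IsHomLift (𝟙 A) (rho r A g'⁻¹).hom.1 :=
        isHomLift_id_of_eq 𝒳.p (xo_base x A) (rho r A g'⁻¹).hom.1
      apply IsStronglyCartesian.ext 𝒳.p e₁.a e₂.φ (𝟙 A)
      rw [e1, eθ]
    have e3 : rho r A g'⁻¹ = autOfHom hfib θ hθ' := by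
      apply Aut.ext
      apply Functor.Fiber.hom_ext
      exact e2
    rw [← e3, MulEquiv.symm_apply_apply, _root_.inv_inv]

end H10PT.GBA
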