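import Groth.Agent.Lib.Helper10.GBA1
import Groth.Agent.Lib.Helper10.GBA4
import Groth.Agent.Lib.Helper10.TQ1

/-!
# Helper library (helper10): the torsor of morphisms from a global point of a gerbe to an object
-/

set_option autoImplicit false
set_option linter.style.haveILetI false
set_option backward.isDefEq.respectTransparency false
set_option backward.isDefEq.respectTransparency.types false
universe u
open CategoryTheory CategoryTheory.Limits AlgebraicGeometry Opposite Functor MonoidalCategory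
  CartesianMonoidalCategory MonObj GrpObj

namespace H10PT.GBA

open scoped Obj
open H10PT.QSC AlgSp AlgSt Groth.Agent.Lib.Helper10.Fib Groth.Agent.Lib.Helper10.Gerbe
  Groth.Agent.Lib.Helper10 Groth.Agent.Lib.Helper10.GerbeLoc

variable {S : Scheme.{u}} {𝒳 : BasedCategory.{u, u + 1} (Over S)} {x : FibCat.overCat (tS S) ⥤ᵇ 𝒳}
  {G : Over S} [GrpObj G] (r : Gerb.AutRep x (Gerb.ptsGrp (tS S) G))
  (hst : Stk.IsStack (J S) 𝒳)

/-- the sheaf of morphisms from the point to `y`, over the terminal sheaf -/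
noncomputable def PB (y : 𝒳.obj) : Over (B₀ S) := Over.mk ((B₀IsTerminal S).from (Py (x := x) hst y))

/-- the section of a point of `PB y` -/
noncomputable def elOf {y : 𝒳.obj} {A : Over S} (t : (Y S).obj A ⟶ PB (x := x) hst y) : El x y A :=
  (secOf t).down

/-- the point of a section -/
noncomputable def ptEl {y : 𝒳.obj} {A : Over S} (e : El x y A) : (Y S).obj A ⟶ PB (x := x) hst y :=
  ptOf (Z := PB (x := x) hst y) (ULift.up e)

@[simp] theorem elOf_ptEl {y : 𝒳.obj} {A : Over S} (e : El x y A) : elOf hst (ptEl hst e) = e := by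
  unfold elOf ptEl
  rw [secOf_ptOf]

@[simp] theorem ptEl_elOf {y : 𝒳.obj} {A : Over S} (t : (Y S).obj A ⟶ PB (x := x) hst y) :
    ptEl hst (elOf hst t) = t := by
  unfold elOf ptEl
  exact ptOf_secOf t

theorem ptEl_injective {y : 𝒳.obj} {A : Over S} {e e' : El x y A} (h : ptEl hst e = ptEl hst e') :
    e = e' := by
  rw [← elOf_ptEl hst e, h, elOf_ptEl]

theorem elOf_map {y : 𝒳.obj} {A' A : Over S} (k : A' ⟶ A) (t : (Y S).obj A ⟶ PB (x := x) hst y) :
    elOf hst ((Y S).map k ≫ t) = (elOf hst t).res k := by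
  unfold elOf
  rw [secOf_map]
  rfl

theorem ptEl_map {y : 𝒳.obj} {A' A : Over S} (k : A' ⟶ A) (e : El x y A) :
    (Y S).map k ≫ ptEl hst e = ptEl hst (e.res k) := by
  rw [← ptEl_elOf hst ((Y S).map k ≫ ptEl hst e), elOf_map, elOf_ptEl]

/-- the point of `G` attached to a point of `h_G` -/
noncomputable def gOf {A : Over S} (t : (Y S).obj A ⟶ (Y S).obj G) : A ⟶ G := (Y S).preimage t

@[simp] theorem map_gOf {A : Over S} (t : (Y S).obj A ⟶ (Y S).obj G) : (Y S).map (gOf t) = t :=
  (Y S).map_preimage t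

@[simp] theorem gOf_map {A : Over S} (g : A ⟶ G) : gOf ((Y S).map g) = g := (Y S).preimage_map g

theorem gOf_comp {A' A : Over S} (k : A' ⟶ A) (t : (Y S).obj A ⟶ (Y S).obj G) :
    gOf ((Y S).map k ≫ t) = k ≫ gOf t := by
  apply (Y S).map_injective
  rw [map_gOf, Functor.map_comp, map_gOf]

theorem exists_act (y : 𝒳.obj) : ∃ act : (Y S).obj G ⊗ PB (x := x) hst y ⟶ PB (x := x) hst y,
    ∀ (A : Over S) (t : (Y S).obj A ⟶ (Y S).obj G ⊗ PB (x := x) hst y),
      t ≫ act = ptEl hst ((elOf hst (t ≫ snd _ _)).smul r (gOf (t ≫ fst _ _))) := by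
  apply exists_hom_of_pts
  intro A' A k t
  rw [Category.assoc, Category.assoc, elOf_map, gOf_comp, ← El.res_smul, ptEl_map]

/-- the action of `h_G` on the sheaf of morphisms -/
noncomputable def actM (y : 𝒳.obj) : (Y S).obj G ⊗ PB (x := x) hst y ⟶ PB (x := x) hst y :=
  (exists_act r hst y).choose

theorem actM_pt {y : 𝒳.obj} {A : Over S} (g : A ⟶ G) (e : El x y A) :
    lift ((Y S).map g) (ptEl hst e) ≫ actM r hst y = ptEl hst (e.smul r g) := by
  rw [actM, (exists_act r hst y).choose_spec, lift_snd, lift_fst, elOf_ptEl, gOf_map]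

theorem pt_eq_lift {y : 𝒳.obj} {A : Over S} (t : (Y S).obj A ⟶ (Y S).obj G ⊗ PB (x := x) hst y) :
    t = lift ((Y S).map (gOf (t ≫ fst _ _))) (ptEl hst (elOf hst (t ≫ snd _ _))) := by
  rw [map_gOf, ptEl_elOf]
  apply CartesianMonoidalCategory.hom_ext
  · rw [lift_fst]
  · rw [lift_snd]

theorem actM_axioms (y : 𝒳.obj) :
    (η[(Y S).obj G] ▷ PB (x := x) hst y) ≫ actM r hst y = (λ_ (PB (x := x) hst y)).hom ∧
    (μ[(Y S).obj G] ▷ PB (x := x) hst y) ≫ actM r hst y =
      (α_ ((Y S).obj G) ((Y S).obj G) (PB (x := x) hst y)).hom ≫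
        ((Y S).obj G ◁ actM r hst y) ≫ actM r hst y := by
  apply act_axioms_of_pts
  · intro A p
    rw [← ptEl_elOf hst p, ← Functor.map_one (Y S), actM_pt, El.one_smul]
  · intro A g h p
    rw [← ptEl_elOf hst p, ← map_gOf g, ← map_gOf h, ← Functor.map_mul, actM_pt, actM_pt, actM_pt,
      El.mul_smul]

/-- the action of `h_G` on the sheaf of morphisms -/
noncomputable def gact (y : 𝒳.obj) : AlgSp.GAction ((Y S).obj G) (PB (x := x) hst y) where
  act := actM r hst y
  one_act := (actM_axioms r hst y).1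
  mul_act := (actM_axioms r hst y).2

end H10PT.GBA
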