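import Groth.Agent.Lib.Helper10.GBA5

/-!
# Helper library (helper10): the torsor of morphisms from a global point of a gerbe to an object, II
-/

set_option autoImplicit false
set_option linter.style.haveILetI false
set_option backward.isDefEq.respectTransparency false
set_option backward.isDefEq.respectTransparency.types false
universe u
open CategoryTheory CategoryTheory.Limits AlgebraicGeometry Opposite Functor MonoidalCategory
  CartesianMonoidalCategory MonObj GrpObj

namespace H10PT.GBA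

open scoped Obj
open H10PT.QSC AlgSp AlgSt Groth.Agent.Lib.Helper10.Fib Groth.Agent.Lib.Helper10.Gerbe
  Groth.Agent.Lib.Helper10 Groth.Agent.Lib.Helper10.GerbeLoc

variable {S : Scheme.{u}} {𝒳 : BasedCategory.{u, u + 1} (Over S)} {x : FibCat.overCat (tS S) ⥤ᵇ 𝒳}
  {G : Over S} [GrpObj G] (r : Gerb.AutRep x (Gerb.ptsGrp (tS S) G))
  (hst : Stk.IsStack (J S) 𝒳)

theorem exists_piM (y : 𝒳.obj) : ∃ π : PB (x := x) hst y ⟶ (Y S).obj (𝒳.p.obj y),
    ∀ (A : Over S) (t : (Y S).obj A ⟶ PB (x := x) hst y), t ≫ π = (Y S).map (elOf hst t).a := by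
  apply exists_hom_of_pts
  intro A' A k t
  rw [elOf_map, ← Functor.map_comp]
  rfl

/-- the structure map of the torsor of morphisms -/
noncomputable def piM (y : 𝒳.obj) : PB (x := x) hst y ⟶ (Y S).obj (𝒳.p.obj y) := (exists_piM hst y).choose

theorem piM_pt {y : 𝒳.obj} {A : Over S} (e : El x y A) :
    ptEl hst e ≫ piM hst y = (Y S).map e.a := by
  rw [piM, (exists_piM hst y).choose_spec, elOf_ptEl]

theorem piM_pt' {y : 𝒳.obj} {A : Over S} (t : (Y S).obj A ⟶ PB (x := x) hst y) :
    t ≫ piM hst y = (Y S).map (elOf hst t).a := (exists_piM hst y).choose_spec A t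

theorem actM_piM (y : 𝒳.obj) :
    actM r hst y ≫ piM hst y = snd ((Y S).obj G) (PB (x := x) hst y) ≫ piM hst y := by
  apply hom_ext_pts
  intro A t
  rw [pt_eq_lift hst t, ← Category.assoc, actM_pt, piM_pt, ← Category.assoc, lift_snd, piM_pt]
  rfl

theorem cartM (hfib : FibCat.IsFibGrpd 𝒳.p) (y : 𝒳.obj) :
    IsPullback (actM r hst y) (snd ((Y S).obj G) (PB (x := x) hst y)) (piM hst y) (piM hst y) := by
  apply isPullback_of_pts _ _ _ _ (actM_piM r hst y)
  intro A t₁ t₂ h
  rw [piM_pt', piM_pt'] at h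
  have ha : (elOf hst t₁).a = (elOf hst t₂).a := (Y S).map_injective h
  obtain ⟨g, hg, hu⟩ := El.existsUnique_smul r hfib (elOf hst t₁) (elOf hst t₂) ha
  refine ⟨lift ((Y S).map g) t₂, ⟨?_, lift_snd _ _⟩, ?_⟩
  · rw [← ptEl_elOf hst t₂, actM_pt, hg, ptEl_elOf]
  · rintro t' ⟨h1, h2⟩
    rw [pt_eq_lift hst t', h2, ptEl_elOf]
    congr 2
    apply hu
    have := h1
    rw [pt_eq_lift hst t', actM_pt, h2] at this
    rw [← elOf_ptEl hst ((elOf hst t₂).smul r (gOf (t' ≫ fst _ _))), this]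

end H10PT.GBA
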