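import Groth.Agent.Lib.Helper10.GBA6

/-!
# Helper library (helper10): the functor from a gerbe with a global point to the stack of sheaf torsors
-/

set_option autoImplicit false
set_option linter.style.haveILetI false
set_option backward.isDefEq.respectTransparency false
set_option backward.isDefEq.respectTransparency.types false
universe u
open CategoryTheory CategoryTheory.Limits AlgebraicGeometry Opposite Functor MonoidalCategory
  CartesianMonoidalCategory MonObj GrpObj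

namespace H10PT.GBA

open scoped Obj
open H10PT.QSC AlgSp AlgSt Groth.Agent.Lib.Helper10.Fib Groth.Agent.Lib.Helper10.Gerbe
  Groth.Agent.Lib.Helper10 Groth.Agent.Lib.Helper10.GerbeLoc

variable {S : Scheme.{u}} {𝒳 : BasedCategory.{u, u + 1} (Over S)} {x : FibCat.overCat (tS S) ⥤ᵇ 𝒳}
  {G : Over S} [GrpObj G] (r : Gerb.AutRep x (Gerb.ptsGrp (tS S) G))
  (hg : Gerb.IsGerbe (J S) 𝒳)

theorem locM (y : 𝒳.obj) : HasSecLoc Scheme.fppfPrecoverage (piM (x := x) hg.1 y).left := by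
  apply H10PT.TQ.hasSecLoc_of_secSieve_mem
  refine (J S).superset_covering ?_
    (pairSieve_mem (J S) hg (xo x (𝒳.p.obj y)) y (𝒳.p.obj y) (xo_base x _) rfl)
  intro V f hf
  obtain ⟨ξ', hξ'⟩ := exists_of_mem_pair hg.1.1 hf (xm x f)
  refine ⟨(ptEl hg.1 (⟨f, ξ', hξ'⟩ : El x y V)).left, ?_⟩
  have := congrArg (fun k => k.left) (piM_pt hg.1 (⟨f, ξ', hξ'⟩ : El x y V))
  exact this

/-- the terminal object `h` of the terminal scheme over `S` -/
noncomputable def termYU : IsTerminal ((Y S).obj (𝟙_ (Over S))) :=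
  IsTerminal.isTerminalObj (Y S) _ isTerminalTensorUnit

/-- the torsor of morphisms from the point to `y` -/
noncomputable def psiObj (y : 𝒳.obj) :
    SpQuotObj Scheme.fppfPrecoverage ((Y S).obj G) (pushAct G (trivAction G)) where
  base := 𝒳.p.obj y
  b := ((Y S).obj (𝒳.p.obj y)).hom
  P := PB (x := x) hg.1 y
  act := gact r hg.1 y
  π := piM hg.1 y
  cart := cartM r hg.1 hg.1.1 y
  loc := locM hg y
  φ := termYU.from _
  eqv := termYU.hom_ext _ _

/-- composing sections with a morphism of the stack -/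
def El.push {y' y : 𝒳.obj} (m : y' ⟶ y) {A : Over S} (e : El x y' A) : El x y A where
  a := e.a ≫ 𝒳.p.map m
  φ := e.φ ≫ m
  lift := inferInstance

theorem El.push_res {y' y : 𝒳.obj} (m : y' ⟶ y) {A' A : Over S} (k : A' ⟶ A) (e : El x y' A) :
    (e.res k).push m = (e.push m).res k :=
  El.ext (Category.assoc _ _ _) (Category.assoc _ _ _)

theorem El.push_smul {y' y : 𝒳.obj} (m : y' ⟶ y) {A : Over S} (g : A ⟶ G) (e : El x y' A) :
    (e.smul r g).push m = (e.push m).smul r g :=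
  El.ext rfl (Category.assoc _ _ _)

theorem El.push_id {y : 𝒳.obj} {A : Over S} (e : El x y A) : e.push (𝟙 y) = e := by
  refine El.ext ?_ (Category.comp_id _)
  show e.a ≫ 𝒳.p.map (𝟙 y) = e.a
  rw [𝒳.p.map_id, Category.comp_id]

theorem El.push_comp {y'' y' y : 𝒳.obj} (m' : y'' ⟶ y') (m : y' ⟶ y) {A : Over S} (e : El x y'' A) :
    e.push (m' ≫ m) = (e.push m').push m := by
  refine El.ext ?_ (Category.assoc _ _ _).symm
  show e.a ≫ 𝒳.p.map (m' ≫ m) = (e.a ≫ 𝒳.p.map m') ≫ 𝒳.p.map m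
  rw [𝒳.p.map_comp, Category.assoc]

theorem exists_topM {y' y : 𝒳.obj} (m : y' ⟶ y) :
    ∃ top : PB (x := x) hg.1 y' ⟶ PB (x := x) hg.1 y,
      ∀ (A : Over S) (t : (Y S).obj A ⟶ PB (x := x) hg.1 y'),
        t ≫ top = ptEl hg.1 ((elOf hg.1 t).push m) := by
  apply exists_hom_of_pts
  intro A' A k t
  rw [elOf_map, El.push_res, ptEl_map]

/-- the map of torsors induced by a morphism of the stack -/
noncomputable def topM {y' y : 𝒳.obj} (m : y' ⟶ y) : PB (x := x) hg.1 y' ⟶ PB (x := x) hg.1 y :=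
  (exists_topM hg m).choose

theorem topM_pt {y' y : 𝒳.obj} (m : y' ⟶ y) {A : Over S} (e : El x y' A) :
    ptEl hg.1 e ≫ topM hg m = ptEl hg.1 (e.push m) := by
  rw [topM, (exists_topM hg m).choose_spec, elOf_ptEl]

theorem topM_id (y : 𝒳.obj) : topM (x := x) hg (𝟙 y) = 𝟙 _ := by
  apply hom_ext_pts
  intro A t
  rw [← ptEl_elOf hg.1 t, topM_pt, El.push_id, Category.comp_id]

theorem topM_comp {y'' y' y : 𝒳.obj} (m' : y'' ⟶ y') (m : y' ⟶ y) :
    topM (x := x) hg (m' ≫ m) = topM hg m' ≫ topM hg m := by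
  apply hom_ext_pts
  intro A t
  rw [← ptEl_elOf hg.1 t, topM_pt, ← Category.assoc, topM_pt, topM_pt, El.push_comp]

theorem topM_eqv {y' y : 𝒳.obj} (m : y' ⟶ y) :
    actM r hg.1 y' ≫ topM hg m = ((Y S).obj G ◁ topM hg m) ≫ actM r hg.1 y := by
  apply hom_ext_pts
  intro A t
  rw [pt_eq_lift hg.1 t, ← Category.assoc, actM_pt, topM_pt, ← Category.assoc, lift_whiskerLeft,
    topM_pt, actM_pt, El.push_smul]

theorem topM_piM {y' y : 𝒳.obj} (m : y' ⟶ y) :
    topM (x := x) hg m ≫ piM hg.1 y = piM hg.1 y' ≫ (Y S).map (𝒳.p.map m) := by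
  apply hom_ext_pts
  intro A t
  rw [← ptEl_elOf hg.1 t, ← Category.assoc, topM_pt, piM_pt, ← Category.assoc, piM_pt,
    ← Functor.map_comp]
  rfl

theorem topM_cart {y' y : 𝒳.obj} (m : y' ⟶ y) :
    IsPullback (topM (x := x) hg m) (piM hg.1 y') (piM hg.1 y) ((Y S).map (𝒳.p.map m)) := by
  have hfib := hg.1.1
  apply isPullback_of_pts _ _ _ _ (topM_piM hg m)
  intro A t₁ t₂ h
  obtain ⟨a', rfl⟩ := exists_Y_map t₂
  rw [piM_pt', ← Functor.map_comp] at h
  have ha : (elOf hg.1 t₁).a = a' ≫ 𝒳.p.map m := (Y S).map_injective h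
  haveI : 𝒳.p.IsStronglyCartesian (𝒳.p.map m) m := IsFibGrpd.sc hfib _ _
  haveI : 𝒳.p.IsHomLift (a' ≫ 𝒳.p.map m) (elOf hg.1 t₁).φ := by rw [← ha]; infer_instance
  obtain ⟨φ', ⟨hφ'1, hφ'2⟩, hu⟩ := IsStronglyCartesian.universal_property 𝒳.p (𝒳.p.map m) m a'
    (a' ≫ 𝒳.p.map m) rfl (elOf hg.1 t₁).φ
  refine ⟨ptEl hg.1 (⟨a', φ', hφ'1⟩ : El x y' A), ⟨?_, ?_⟩, ?_⟩
  · rw [topM_pt, ← ptEl_elOf hg.1 t₁]
    congr 1
    exact El.ext ha.symm hφ'2
  · rw [piM_pt]
  · rintro t' ⟨h1, h2⟩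
    rw [← ptEl_elOf hg.1 t']
    congr 1
    rw [piM_pt'] at h2
    have h2' : (elOf hg.1 t').a = a' := (Y S).map_injective h2
    refine El.ext h2' ?_
    haveI : 𝒳.p.IsHomLift a' (elOf hg.1 t').φ := by rw [← h2']; infer_instance
    apply hu
    refine ⟨inferInstance, ?_⟩
    rw [← ptEl_elOf hg.1 t', topM_pt] at h1
    have := congrArg (fun t => (elOf hg.1 t).φ) h1
    simp only [elOf_ptEl] at this
    exact this

end H10PT.GBA
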