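import Groth.Agent.Lib.Helper10.GBA7

/-!
# Helper library (helper10): the functor from a gerbe with a global point to the stack of sheaf torsors, II
-/

set_option autoImplicit false
set_option linter.style.haveILetI false
set_option backward.isDefEq.respectTransparency false
set_option backward.isDefEq.respectTransparency.types false
universe u
open CategoryTheory CategoryTheory.Limits AlgebraicGeometry Opposite Functor MonoidalCategory
  CartesianMonoidalCategory MonObj GrpObj

namespace H10PT.GBA

open scoped Obj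
open H10PT.QSC AlgSp AlgSt Groth.Agent.Lib.Helper10.Fib Groth.Agent.Lib.Helper10.Gerbe
  Groth.Agent.Lib.Helper10 Groth.Agent.Lib.Helper10.GerbeLoc

variable {S : Scheme.{u}} {𝒳 : BasedCategory.{u, u + 1} (Over S)} {x : FibCat.overCat (tS S) ⥤ᵇ 𝒳}
  {G : Over S} [GrpObj G] (r : Gerb.AutRep x (Gerb.ptsGrp (tS S) G))
  (hg : Gerb.IsGerbe (J S) 𝒳)

/-- the map of torsors induced by a morphism of the stack, as a morphism of the stack of torsors -/
noncomputable def psiMap {y' y : 𝒳.obj} (m : y' ⟶ y) : psiObj r hg y' ⟶ psiObj r hg y where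
  base := 𝒳.p.map m
  wb := (B₀IsTerminal S).hom_ext _ _
  top := topM hg m
  eqv := topM_eqv r hg m
  cart := by
    have h := topM_cart (x := x) hg m
    have e : (bHom (𝒳.p.map m) ((B₀IsTerminal S).hom_ext _ _) :
        Over.mk (psiObj r hg y').b ⟶ Over.mk (psiObj r hg y).b) = (Y S).map (𝒳.p.map m) :=
      Over.OverMorphism.ext rfl
    rw [e]
    exact h
  wφ := termYU.hom_ext _ _

/-- the functor `y ↦ Isom(x, y)` -/
noncomputable def psi : 𝒳 ⥤ᵇ SpQuotSt Scheme.fppfPrecoverage ((Y S).obj G) (pushAct G (trivAction G)) where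
  toFunctor :=
    { obj := psiObj r hg
      map := psiMap r hg
      map_id := fun y => SpQuotObj.hom_ext (𝒳.p.map_id y) (topM_id hg y)
      map_comp := fun m' m => SpQuotObj.hom_ext (𝒳.p.map_comp m' m) (topM_comp hg m' m) }
  w := rfl

@[simp] theorem psi_obj (y : 𝒳.obj) : (psi r hg).obj y = psiObj r hg y := rfl

@[simp] theorem psi_map_top {y' y : 𝒳.obj} (m : y' ⟶ y) : ((psi r hg).map m).top = topM hg m := rfl

@[simp] theorem psi_map_base {y' y : 𝒳.obj} (m : y' ⟶ y) : ((psi r hg).map m).base = 𝒳.p.map m := rfl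

end H10PT.GBA
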