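import Groth.Agent.Lib.Helper10.GBA11
import Groth.Agent.Lib.Helper10.StkSub
import Groth.Agent.Lib.Helper10.AlgStSubChart

/-!
# Helper library (helper10): the substack of objects locally isomorphic to a global point

For a point `x : (Sch/S) ⟶ 𝒳` of a stack in groupoids: the full subcategory of objects that receive a
morphism from the point locally is a gerbe, through which the point factors.
-/

set_option autoImplicit false
set_option linter.style.haveILetI false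
set_option backward.isDefEq.respectTransparency false
set_option backward.isDefEq.respectTransparency.types false
universe u
open CategoryTheory CategoryTheory.Limits AlgebraicGeometry Opposite Functor MonoidalCategory
  CartesianMonoidalCategory MonObj GrpObj

namespace H10PT.GBB

open scoped Obj

open H10PT.QSC H10PT.GBA AlgSp AlgSt Groth.Agent.Lib.Helper10.Fib Groth.Agent.Lib.Helper10
  Groth.Agent.Lib.Helper10.AlgStRep Groth.Agent.Lib.Helper10.GerbeLoc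

variable {S : Scheme.{u}} {𝒳 : AlgSt.Cat S}

theorem isHomLift_of_comp_eqToHom {a b : 𝒳.obj} {R S' : Over S} (f : R ⟶ 𝒳.p.obj b)
    (h : 𝒳.p.obj b = S') (φ : a ⟶ b) (hφ : 𝒳.p.IsHomLift (f ≫ eqToHom h) φ) :
    𝒳.p.IsHomLift f φ := by
  subst h
  rw [eqToHom_refl, Category.comp_id] at hφ
  exact hφ

section Sub

variable {Q : 𝒳.obj → Prop}

theorem sub_isHomLift_iff {z z' : (AlgSt.fullSub 𝒳 Q).obj} {U V : Over S} (f : U ⟶ V)
    (m : z ⟶ z') : (AlgSt.fullSub 𝒳 Q).p.IsHomLift f m ↔ 𝒳.p.IsHomLift f m.hom := by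
  constructor
  · intro h
    exact IsHomLift.of_fac' 𝒳.p f m.hom
      (@IsHomLift.domain_eq _ _ _ _ (AlgSt.fullSub 𝒳 Q).p _ _ _ _ f m h)
      (@IsHomLift.codomain_eq _ _ _ _ (AlgSt.fullSub 𝒳 Q).p _ _ _ _ f m h)
      (@IsHomLift.fac' _ _ _ _ (AlgSt.fullSub 𝒳 Q).p _ _ _ _ f m h)
  · intro h
    exact IsHomLift.of_fac' (AlgSt.fullSub 𝒳 Q).p f m
      (@IsHomLift.domain_eq _ _ _ _ 𝒳.p _ _ _ _ f m.hom h)
      (@IsHomLift.codomain_eq _ _ _ _ 𝒳.p _ _ _ _ f m.hom h)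
      (@IsHomLift.fac' _ _ _ _ 𝒳.p _ _ _ _ f m.hom h)

/-- an automorphism over the identity from a pair of mutually inverse morphisms -/
def mkAutO {𝒴 : AlgSt.Cat S} (z : 𝒴.obj) (f g : z ⟶ z)
    (hf : 𝒴.p.IsHomLift (𝟙 (𝒴.p.obj z)) f) (hg : 𝒴.p.IsHomLift (𝟙 (𝒴.p.obj z)) g)
    (h1 : f ≫ g = 𝟙 z) (h2 : g ≫ f = 𝟙 z) : Gerb.AutO z where
  hom := ⟨f, hf⟩
  inv := ⟨g, hg⟩
  hom_inv_id := by
    apply Functor.Fiber.hom_ext
    exact h1
  inv_hom_id := by
    apply Functor.Fiber.hom_ext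
    exact h2

theorem bijective_autMap_subIncl (z : (AlgSt.fullSub 𝒳 Q).obj) :
    Function.Bijective (Gerb.autMap (AlgSt.subIncl 𝒳 Q) z) := by
  constructor
  · intro α β h
    apply Aut.ext
    apply Functor.Fiber.hom_ext
    have h' : (AlgSt.subIncl 𝒳 Q).map α.hom.1 = (AlgSt.subIncl 𝒳 Q).map β.hom.1 :=
      congrArg (fun t => t.hom.1) h
    exact (AlgSt.subIncl 𝒳 Q).toFunctor.map_injective h'
  · intro β
    have e1 : β.hom.1 ≫ β.inv.1 = 𝟙 _ := congrArg Subtype.val β.hom_inv_id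
    have e2 : β.inv.1 ≫ β.hom.1 = 𝟙 _ := congrArg Subtype.val β.inv_hom_id
    refine ⟨mkAutO z (ObjectProperty.homMk β.hom.1) (ObjectProperty.homMk β.inv.1)
      ((sub_isHomLift_iff _ _).2 β.hom.2) ((sub_isHomLift_iff _ _).2 β.inv.2)
      (ObjectProperty.hom_ext _ e1) (ObjectProperty.hom_ext _ e2), ?_⟩
    apply Aut.ext
    apply Functor.Fiber.hom_ext
    rfl

variable (Q) in
/-- automorphisms in the full subcategory -/
noncomputable def autEquiv (z : (AlgSt.fullSub 𝒳 Q).obj) :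
    Gerb.AutO z ≃* Gerb.AutO ((AlgSt.subIncl 𝒳 Q).obj z) :=
  MulEquiv.ofBijective (Gerb.autMap (AlgSt.subIncl 𝒳 Q) z) (bijective_autMap_subIncl z)

theorem autEquiv_symm_hom (z : (AlgSt.fullSub 𝒳 Q).obj)
    (β : Gerb.AutO ((AlgSt.subIncl 𝒳 Q).obj z)) :
    (((autEquiv Q z).symm β).hom.1).hom = β.hom.1 := by
  have h := congrArg (fun t => t.hom.1) ((autEquiv Q z).apply_symm_apply β)
  exact h

end Sub

variable (x : FibCat.overCat (tS S) ⥤ᵇ 𝒳)

/-- the sieve of morphisms along which `y` receives a morphism from the point -/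
def locS (y : 𝒳.obj) : Sieve (𝒳.p.obj y) where
  arrows V f := ∃ φ : xo x V ⟶ y, 𝒳.p.IsHomLift f φ
  downward_closed := by
    rintro V W f ⟨φ, hφ⟩ g
    exact ⟨xm x g ≫ φ, inferInstance⟩

/-- locally isomorphic to the point -/
def Qx (y : 𝒳.obj) : Prop := locS x y ∈ J S (𝒳.p.obj y)

theorem Qx_of_hom (h𝒳 : FibCat.IsFibGrpd 𝒳.p) {y' y : 𝒳.obj} (φ : y' ⟶ y) (hy : Qx x y) :
    Qx x y' := by
  have hpb := (J S).pullback_stable (𝒳.p.map φ) hy
  refine (J S).superset_covering ?_ hpb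
  rintro V g ⟨ψ, hψ⟩
  haveI := hψ
  haveI : 𝒳.p.IsStronglyCartesian (𝒳.p.map φ) φ := h𝒳.isStronglyCartesian φ
  obtain ⟨χ, ⟨hχ, -⟩, -⟩ := Functor.IsStronglyCartesian.universal_property 𝒳.p (𝒳.p.map φ) φ g
    (g ≫ 𝒳.p.map φ) rfl ψ
  exact ⟨χ, hχ⟩

theorem Qx_xo (V : Over S) : Qx x (xo x V) := by
  have h : locS x (xo x V) = ⊤ := by
    apply top_unique
    intro W f _
    exact ⟨xm x (f ≫ eqToHom (xo_base x V)),
      isHomLift_of_comp_eqToHom f (xo_base x V) _ inferInstance⟩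
  unfold Qx
  rw [h]
  exact (J S).top_mem _

theorem Qx_obj (h𝒳 : FibCat.IsFibGrpd 𝒳.p) (A : Over (tS S)) : Qx x (x.obj A) := by
  let k : A ⟶ hat (tS S) := Over.homMk A.hom ((tSIsTerminal S).hom_ext _ _)
  exact Qx_of_hom x h𝒳 (x.map k) (Qx_xo x (tS S))

theorem isStack_sub (hst : Stk.IsStack (J S) 𝒳) :
    Stk.IsStack (J S) (AlgSt.fullSub 𝒳 (Qx x)) := by
  refine StkSub.isStack_sub (Qx x) (J S) hst ?_ ?_
  · intro y z φ hz
    exact ⟨y, Iso.refl y, Qx_of_hom x hst.1 φ hz, IsHomLift.id rfl⟩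
  · intro U R hR z hz H
    subst hz
    refine ⟨z, Iso.refl z, ?_, IsHomLift.id rfl⟩
    refine (J S).transitive hR (locS x z) ?_
    intro V f hf
    obtain ⟨y, φ, hφ⟩ := hst.1.exists_lift (x := z) f
    obtain ⟨y', e, hy', -⟩ := H f hf y φ hφ
    have hy : Qx x y := Qx_of_hom x hst.1 e.hom hy'
    have hyV : 𝒳.p.obj y = V := @IsHomLift.domain_eq _ _ _ _ 𝒳.p _ _ _ _ f φ hφ
    subst hyV
    refine (J S).superset_covering ?_ hy
    rintro W g ⟨ψ, hψ⟩
    haveI := hψ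
    haveI := hφ
    exact ⟨ψ ≫ φ, inferInstance⟩

theorem isGerbe_sub (hst : Stk.IsStack (J S) 𝒳) :
    Gerb.IsGerbe (J S) (AlgSt.fullSub 𝒳 (Qx x)) := by
  refine ⟨isStack_sub x hst, ?_, ?_⟩
  · intro U
    refine ⟨⊤, (J S).top_mem _, fun V f _ => ?_⟩
    refine ⟨⟨xo x V, Qx_xo x V⟩, eqToHom (xo_base x V) ≫ f, ?_⟩
    refine IsHomLift.of_fac (FibCat.selfOver (Over S)).p f (eqToHom (xo_base x V) ≫ f)
      (xo_base x V) rfl ?_
    show f = eqToHom (xo_base x V).symm ≫ (eqToHom (xo_base x V) ≫ f) ≫ eqToHom rfl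
    simp
  · intro z z' b hb
    have hU' : 𝒳.p.obj z'.obj = 𝒳.p.obj z.obj :=
      @IsHomLift.codomain_eq _ _ _ _ (FibCat.selfOver (Over S)).p _ _ _ _ _ b hb
    have hbe : b = eqToHom hU'.symm := by
      have := @IsHomLift.fac' _ _ _ _ (FibCat.selfOver (Over S)).p _ _ _ _ _ b hb
      have e : (FibCat.selfOver (Over S)).p.map b = b := rfl
      rw [e] at this
      rw [this]
      simp
    refine ⟨locS x z.obj ⊓ (locS x z'.obj).pullback (eqToHom hU'.symm),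
      (J S).intersection_covering z.property ((J S).pullback_stable _ z'.property), ?_⟩
    rintro V f ⟨⟨φ, hφ⟩, ⟨ψ, hψ⟩⟩
    have hψ' : 𝒳.p.IsHomLift f ψ := by
      refine IsHomLift.of_fac 𝒳.p f ψ (xo_base x V) hU' ?_
      have := @IsHomLift.fac' _ _ _ _ 𝒳.p _ _ _ _ _ ψ hψ
      rw [this]
      simp
    refine ⟨⟨xo x V, Qx_xo x V⟩, ObjectProperty.homMk φ, ObjectProperty.homMk ψ,
      (sub_isHomLift_iff _ _).2 hφ, (sub_isHomLift_iff _ _).2 hψ', ?_⟩
    show 𝒳.p.map φ ≫ b = 𝒳.p.map ψ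
    have e1 := @IsHomLift.fac' _ _ _ _ 𝒳.p _ _ _ _ f φ hφ
    have e2 := @IsHomLift.fac' _ _ _ _ 𝒳.p _ _ _ _ f ψ hψ'
    rw [e1, e2, hbe]
    simp

/-- the point, as a point of the substack -/
def xsub (h𝒳 : FibCat.IsFibGrpd 𝒳.p) : FibCat.overCat (tS S) ⥤ᵇ AlgSt.fullSub 𝒳 (Qx x) :=
  liftSub (Qx x) x (Qx_obj x h𝒳)

theorem xsub_comp (h𝒳 : FibCat.IsFibGrpd 𝒳.p) :
    BasedFunctor.comp (xsub x h𝒳) (AlgSt.subIncl 𝒳 (Qx x)) = x := rfl

variable {x} in
/-- the automorphism group of the point of the substack -/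
noncomputable def subRep {G : Over S} [GrpObj G] (h𝒳 : FibCat.IsFibGrpd 𝒳.p)
    (r : Gerb.AutRep x (Gerb.ptsGrp (tS S) G)) :
    Gerb.AutRep (xsub x h𝒳) (Gerb.ptsGrp (tS S) G) where
  iso T := (r.iso T).trans (autEquiv (Qx x) ((xsub x h𝒳).obj T)).symm
  natural {T' T} h a := by
    apply ObjectProperty.hom_ext
    show ((autEquiv (Qx x) ((xsub x h𝒳).obj T')).symm
        (r.iso T' (((Gerb.ptsGrp (tS S) G).map h.op) a))).hom.1.hom ≫ x.map h =
      x.map h ≫ ((autEquiv (Qx x) ((xsub x h𝒳).obj T)).symm (r.iso T a)).hom.1.hom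
    rw [autEquiv_symm_hom, autEquiv_symm_hom]
    exact r.natural h a

/-- the comparison functor of a gerbe with a section to the classifying stack is an
equivalence -/
theorem isEquivOver_psi {𝒴 : AlgSt.Cat S} (z : FibCat.overCat (tS S) ⥤ᵇ 𝒴) {G : Over S} [GrpObj G]
    [IsAffineHom G.hom] (r : Gerb.AutRep z (Gerb.ptsGrp (tS S) G))
    (hg : Gerb.IsGerbe (J S) 𝒴) : FibCat.IsEquivOver (psi r hg) := by
  have hT : ∀ U : Over S, Nonempty (U ⟶ 𝒴.p.obj (xo z (tS S))) := fun U =>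
    ⟨(tSIsTerminal S).from U ≫ eqToHom (xo_base z (tS S)).symm⟩
  exact isEquivOver_of_bijective_autMap (J S) hg
    (isGerbe_spQuotSt (termYU (S := S)) (pushAct G (trivAction G))) (psi r hg) (xo z (tS S)) hT
    (fun w c => bijective_autMap_psi r hg w c)

end H10PT.GBB
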