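import Groth.Agent.Lib.Helper10.GBB1

/-!
# Helper library (helper10): the base point of the classifying stack and the point of a gerbe

* `yoneda_iso`: two functors `(C/U) ⟶ 𝒳` over `C` into a category fibred in groupoids whose values at the
  identity are related by a morphism over the identity are 2-isomorphic.
* `exists_base_hom`: for a gerbe `𝒴` with a section `z` whose automorphisms are `G`, the image of the trivial
  torsor and the torsor of `z` are related by a morphism over the identity.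
-/

set_option autoImplicit false
set_option linter.style.haveILetI false
set_option backward.isDefEq.respectTransparency false
set_option backward.isDefEq.respectTransparency.types false
universe v₂ u₂ v₀ u₀ u
open CategoryTheory CategoryTheory.Limits AlgebraicGeometry Opposite Functor MonoidalCategory
  CartesianMonoidalCategory MonObj GrpObj

namespace H10PT.GBB

open scoped Obj
open H10PT.QSC H10PT.GBA H10PT.TQ H10PT.TQR AlgSp AlgSt Groth.Agent.Lib.Helper10.Fib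
  Groth.Agent.Lib.Helper10 Groth.Agent.Lib.Helper10.AlgStRep Groth.Agent.Lib.Helper10.GerbeLoc

section Yoneda

variable {C : Type u₀} [Category.{v₀} C] (U : C) {𝒳 : BasedCategory.{v₂, u₂} C}

theorem yoneda_iso (h𝒳 : FibCat.IsFibGrpd 𝒳.p) (G H : FibCat.overCat U ⥤ᵇ 𝒳)
    (m : G.obj (Over.mk (𝟙 U)) ⟶ H.obj (Over.mk (𝟙 U))) (hm : 𝒳.p.IsHomLift (𝟙 U) m) :
    Nonempty (G ≅ H) := by
  haveI := hm
  haveI : IsIso m := IsFibGrpd.isIso_of_isHomLift_id h𝒳 (U := U) m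
  have hsc : ∀ (K : FibCat.overCat U ⥤ᵇ 𝒳) (A : Over U),
      𝒳.p.IsStronglyCartesian (homU U A) (K.map (toTerminal U A)) := fun K A => by
    haveI := isHomLift_toTerminal U K A
    exact IsFibGrpd.sc h𝒳 _ _
  obtain ⟨α, hα, -⟩ := yoneda_existsUnique U G H (hsc H) m hm
  have hm' : 𝒳.p.IsHomLift (𝟙 U) (inv m) := inferInstance
  obtain ⟨β, hβ, -⟩ := yoneda_existsUnique U H G (hsc G) (inv m) hm'
  obtain ⟨γ₁, -, hu1⟩ := yoneda_existsUnique U G G (hsc G) (𝟙 _) (IsHomLift.id (G.w_obj _))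
  obtain ⟨γ₂, -, hu2⟩ := yoneda_existsUnique U H H (hsc H) (𝟙 _) (IsHomLift.id (H.w_obj _))
  refine ⟨⟨α, β, ?_, ?_⟩⟩
  · rw [hu1 (α ≫ β) ?_, hu1 (𝟙 G) rfl]
    show α.toNatTrans.app _ ≫ β.toNatTrans.app _ = 𝟙 _
    rw [hα, hβ, IsIso.hom_inv_id]
  · rw [hu2 (β ≫ α) ?_, hu2 (𝟙 H) rfl]
    show β.toNatTrans.app _ ≫ α.toNatTrans.app _ = 𝟙 _
    rw [hα, hβ, IsIso.inv_hom_id]

end Yoneda

variable {S : Scheme.{u}}

/-- the base point of the terminal scheme -/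
def bpt (S : Scheme.{u}) : (AlgSt.ofSch (𝟙_ (Over S))).obj := ⟨tS S, ⟨𝟙 _⟩⟩

variable {𝒴 : AlgSt.Cat S} (z : FibCat.overCat (tS S) ⥤ᵇ 𝒴) {G : Over S} [GrpObj G]
  [IsAffineHom G.hom] (r : Gerb.AutRep z (Gerb.ptsGrp (tS S) G)) (hg : Gerb.IsGerbe (J S) 𝒴)

theorem exists_base_hom :
    ∃ mu : (Φ Scheme.fppfPrecoverage G (trivAction G)).obj
        ((AlgSt.quotMap Scheme.fppfPrecoverage G (trivAction G)).obj (bpt S)) ⟶
        (psi r hg).obj (z.obj (Over.mk (𝟙 (tS S)))),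
      (SpQuotSt Scheme.fppfPrecoverage ((Y S).obj G) (pushAct G (trivAction G))).p.IsHomLift
        (𝟙 (tS S)) mu := by
  have hfib : FibCat.IsFibGrpd
      (SpQuotSt Scheme.fppfPrecoverage ((Y S).obj G) (pushAct G (trivAction G))).p :=
    (TQ.isStack Scheme.fppfPrecoverage ((Y S).obj G) (pushAct G (trivAction G)) rfl).1
  obtain ⟨A₁, hA₁⟩ : ∃ A₁, A₁ = (Φ Scheme.fppfPrecoverage G (trivAction G)).obj
        ((AlgSt.quotMap Scheme.fppfPrecoverage G (trivAction G)).obj (bpt S)) := ⟨_, rfl⟩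
  obtain ⟨A₂, hA₂⟩ : ∃ A₂, A₂ = (psi r hg).obj (z.obj (Over.mk (𝟙 (tS S)))) := ⟨_, rfl⟩
  rw [← hA₁, ← hA₂]
  have hb1 : A₁.base = tS S := by rw [hA₁]; rfl
  have hb2 : A₂.base = tS S := by rw [hA₂]; exact z.w_obj (Over.mk (𝟙 (tS S)))
  -- sections
  obtain ⟨s₁⟩ : Nonempty ((yon S).obj (tpt (termYU (S := S)) (tS S)).base ⟶ A₁.P.left) := by
    rw [hA₁]
    exact ⟨((Y S).map (lift (toUnit (tS S) ≫ η[G]) (𝟙 (tS S)))).left⟩
  obtain ⟨s₂⟩ : Nonempty ((yon S).obj (tpt (termYU (S := S)) (tS S)).base ⟶ A₂.P.left) := by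
    rw [hA₂]
    let k : hat (tS S) ⟶ Over.mk (𝟙 (tS S)) := Over.homMk (𝟙 _) ((tSIsTerminal S).hom_ext _ _)
    let e : El z (z.obj (Over.mk (𝟙 (tS S)))) (tS S) :=
      { a := eqToHom (xo_base z (tS S)).symm ≫ 𝒴.p.map (z.map k)
        φ := z.map k
        lift := IsHomLift.of_fac 𝒴.p _ (z.map k) (xo_base z (tS S)) rfl (by simp) }
    exact ⟨(ptEl hg.1 e).left⟩
  have hx₁ : s₁ ≫ A₁.φ.left = secYon (tpt (termYU (S := S)) (tS S)) :=
    left_ext_of_isTerminal termYU _ _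
  have hx₂ : s₂ ≫ A₂.φ.left = secYon (tpt (termYU (S := S)) (tS S)) :=
    left_ext_of_isTerminal termYU _ _
  obtain ⟨m₁, hm₁⟩ : ∃ m₁, m₁ = trivHom A₁ (tpt (termYU (S := S)) (tS S)) s₁ hx₁ := ⟨_, rfl⟩
  obtain ⟨m₂, hm₂⟩ : ∃ m₂, m₂ = trivHom A₂ (tpt (termYU (S := S)) (tS S)) s₂ hx₂ := ⟨_, rfl⟩
  have hT : ∀ {W : Over S} (h : W = tS S) (f g : tS S ⟶ W), f = g := by
    intro W h f g
    subst h
    exact (tSIsTerminal S).hom_ext _ _
  have hl₁ : (SpQuotSt Scheme.fppfPrecoverage ((Y S).obj G) (pushAct G (trivAction G))).p.IsHomLift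
      (𝟙 (tS S)) m₁ := by
    refine IsHomLift.of_fac _ (𝟙 (tS S)) m₁ rfl hb1 ?_
    exact (tSIsTerminal S).hom_ext _ _
  haveI : IsIso m₁ := IsFibGrpd.isIso_of_isHomLift_id hfib (U := tS S) m₁
  refine ⟨inv m₁ ≫ m₂, ?_⟩
  refine IsHomLift.of_fac _ (𝟙 (tS S)) (inv m₁ ≫ m₂) hb1 hb2 ?_
  exact (tSIsTerminal S).hom_ext _ _

end H10PT.GBB
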