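import Groth.Agent.Lib.Helper10.GBB2
import Groth.Agent.Lib.Helper10.BootF3
import Groth.Agent.Lib.Helper28.QuotSt.RepProps

/-!
# Helper library (helper10): a gerbe with a section is the classifying stack, compatibly with the base points
-/

set_option autoImplicit false
set_option linter.style.haveILetI false
set_option backward.isDefEq.respectTransparency false
set_option backward.isDefEq.respectTransparency.types false
universe u
open CategoryTheory CategoryTheory.Limits AlgebraicGeometry Opposite Functor MonoidalCategory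
  CartesianMonoidalCategory MonObj GrpObj

namespace H10PT.GBB

open scoped Obj
open H10PT.QSC H10PT.GBA H10PT.TQ H10PT.TQR H10PT.BootF AlgSp AlgSt Groth.Agent.Lib.Helper10.Fib
  Groth.Agent.Lib.Helper10 Groth.Agent.Lib.Helper10.AlgStRep Groth.Agent.Lib.Helper10.GerbeLoc
  Groth.Agent.Lib.Helper28.AlgSt.Whisker Groth.Agent.Lib.Helper28.AlgSt.Bridge
  Groth.Agent.Lib.Helper28.AlgSt.Chart Groth.Agent.Lib.Helper28.AlgSt.DiagComp
  Groth.Agent.Lib.Helper28.QuotSt.Rep

variable {S : Scheme.{u}} {𝒴 : AlgSt.Cat S} (z : FibCat.overCat (tS S) ⥤ᵇ 𝒴) {G : Over S} [GrpObj G]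
  [IsAffineHom G.hom] (r : Gerb.AutRep z (Gerb.ptsGrp (tS S) G)) (hg : Gerb.IsGerbe (J S) 𝒴)

include r hg in
/-- the equivalence with the classifying stack, compatible with the base points -/
theorem exists_equiv_based :
    ∃ E : AlgSt.BG Scheme.fppfPrecoverage G ⥤ᵇ 𝒴, FibCat.IsEquivOver E ∧
      Nonempty (BasedFunctor.comp (AlgSt.ofOverCat (tS S))
        (BasedFunctor.comp (AlgSt.quotMap Scheme.fppfPrecoverage G (trivAction G)) E) ≅ z) := by
  obtain ⟨ψi, ⟨eta⟩, ⟨eps⟩⟩ := isEquivOver_psi z r hg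
  have hψi : FibCat.IsEquivOver ψi := ⟨psi r hg, ⟨eps⟩, ⟨eta⟩⟩
  refine ⟨BasedFunctor.comp (Φ Scheme.fppfPrecoverage G (trivAction G)) ψi,
    Groth.Agent.Lib.Helper10.Fib.isEquivOver_comp _ _ (isEquivOver_Φ G (trivAction G)) hψi, ?_⟩
  obtain ⟨mu, hmu⟩ := exists_base_hom z r hg
  haveI := hmu
  have h1 : 𝒴.p.IsHomLift (𝟙 (tS S)) (ψi.map mu) := inferInstance
  have h2 : 𝒴.p.IsHomLift (𝟙 (tS S)) (eta.hom.toNatTrans.app (z.obj (Over.mk (𝟙 (tS S))))) :=
    BasedNatTrans.isHomLift eta.hom (z.w_obj (Over.mk (𝟙 (tS S))))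
  have h3 : 𝒴.p.IsHomLift (𝟙 (tS S))
      (ψi.map mu ≫ eta.hom.toNatTrans.app (z.obj (Over.mk (𝟙 (tS S))))) := inferInstance
  exact yoneda_iso (tS S) hg.1.1 _ z _ h3

section QF

variable [Flat G.hom] [LocallyOfFinitePresentation G.hom]

omit [IsAffineHom G.hom] in
theorem repByAlgSpWith_QF_qm :
    AlgSt.RepByAlgSpWith (QF S) (qm Scheme.fppfPrecoverage (trivAction G)) :=
  repByAlgSpWith_qm (K := Scheme.fppfPrecoverage) (aX := trivAction G) (QF S) (fun A U h =>
    qF_yon_map _ (π_prop' @Flat A inferInstance U h)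
      (π_prop' @LocallyOfFinitePresentation A inferInstance U h)
      (π_prop' @Surjective A (Groth.Agent.Lib.Helper29.TorsorDesc.surjective_of_grp G) U h))

include r hg in
/-- the section of a gerbe with flat locally finitely presented automorphism group is a flat, locally finitely
presented, surjective cover -/
theorem repByAlgSpWith_QF_point : AlgSt.RepByAlgSpWith (QF S) z := by
  obtain ⟨E, hE, ⟨κ⟩⟩ := exists_equiv_based z r hg
  refine repByAlgSpWith_iso (QF S) κ.symm ?_
  have h1 : AlgSt.RepByAlgSpWith (QF S) (BasedFunctor.comp (AlgSt.ofOverCat (tS S))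
      (AlgSt.quotMap Scheme.fppfPrecoverage G (trivAction G))) := repByAlgSpWith_QF_qm
  exact repByAlgSpWith_comp_equiv (QF S) _ E hE h1

end QF

omit [IsAffineHom G.hom] in
/-- from the slice form of the comparison of base points to the form with the category of the sheaf -/
theorem based_iso_of_slice {𝒲 : AlgSt.Cat S} (F : AlgSt.ofSch (tS S) ⥤ᵇ 𝒲)
    (w : FibCat.overCat (tS S) ⥤ᵇ 𝒲)
    (κ : BasedFunctor.comp (AlgSt.ofOverCat (tS S)) F ≅ w) :
    Nonempty (F ≅ BasedFunctor.comp (AlgSt.toOverCat (tS S)) w) := by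
  have e1 : BasedFunctor.comp (AlgSt.toOverCat (tS S))
      (BasedFunctor.comp (AlgSt.ofOverCat (tS S)) F) ≅
      BasedFunctor.comp (AlgSt.toOverCat (tS S)) w := wl (AlgSt.toOverCat (tS S)) κ
  have e2 : BasedFunctor.comp (BasedFunctor.comp (AlgSt.toOverCat (tS S))
      (AlgSt.ofOverCat (tS S))) F ≅ BasedFunctor.comp (BasedFunctor.id _) F :=
    wr (toOfIso (tS S)) F
  exact ⟨e2.symm ≪≫ e1⟩

end H10PT.GBB
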