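import Groth.Agent.Lib.Helper10.GBB3

/-!
# Helper library (helper10): the substack of objects locally isomorphic to a point with flat stabilizer is a
monomorphism
-/

set_option autoImplicit false
set_option linter.style.haveILetI false
set_option backward.isDefEq.respectTransparency false
set_option backward.isDefEq.respectTransparency.types false
universe v₂ u₂ v₃ u₃ v₄ u₄ v₀ u₀ u
open CategoryTheory CategoryTheory.Limits AlgebraicGeometry Opposite Functor MonoidalCategory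
  CartesianMonoidalCategory MonObj GrpObj

namespace H10PT.GBB

open scoped Obj
open H10PT.QSC H10PT.GBA H10PT.BootF AlgSp AlgSt Groth.Agent.Lib.Helper10.Fib
  Groth.Agent.Lib.Helper10 Groth.Agent.Lib.Helper10.AlgStRep Groth.Agent.Lib.Helper10.GerbeLoc
  Groth.Agent.Lib.Helper10.StkPost
  Groth.Agent.Lib.Helper28.AlgSt.Whisker Groth.Agent.Lib.Helper28.AlgSt.Bridge
  Groth.Agent.Lib.Helper28.AlgSt.Chart Groth.Agent.Lib.Helper28.AlgSt.DiagComp
  Groth.Agent.Lib.Helper28.AlgSt.Key Groth.Agent.Lib.Helper28.AlgSt.DiagRep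
  Groth.Agent.Lib.Helper28.AlgSt.FpStack Groth.Agent.Lib.Helper28.AlgSt.StackDesc

section FpFst

variable {C : Type u₀} [Category.{v₀} C] {𝒳 : BasedCategory.{v₂, u₂} C}
  {𝒴 : BasedCategory.{v₃, u₃} C} {𝒮 : BasedCategory.{v₄, u₄} C} (F : 𝒳 ⥤ᵇ 𝒮) (G : 𝒴 ⥤ᵇ 𝒮)

theorem fpFst_full [G.toFunctor.Full] : (FibCat.fpFst F G).toFunctor.Full := by
  constructor
  intro P P' f
  obtain ⟨g, hg⟩ := G.toFunctor.map_surjective
    (P.obj.iso.inv ≫ F.toFunctor.map f ≫ P'.obj.iso.hom)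
  refine ⟨ObjectProperty.homMk { fst := f, snd := g, w := ?_ }, rfl⟩
  rw [hg, Iso.hom_inv_id_assoc]

end FpFst

variable {S : Scheme.{u}}

theorem mono_of_injective {F G : Sp S} (m : F ⟶ G)
    (h : ∀ (T : Over S) (a b : F.obj.obj (op T)),
      m.hom.app (op T) a = m.hom.app (op T) b → a = b) : Mono m := by
  constructor
  intro Z g₁ g₂ w
  apply ObjectProperty.hom_ext
  apply NatTrans.ext
  funext T
  refine ConcreteCategory.hom_ext _ _ (fun t => ?_)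
  apply h T.unop
  have := congrArg (fun k => k.hom.app T t) w
  exact this

theorem mono_spMapOfOver_of_full {F : Sp S} {U : Over S} (Ψ : ofSp F ⥤ᵇ FibCat.overCat U)
    [Ψ.toFunctor.Full] : Mono (spMapOfOver Ψ) := by
  apply mono_of_injective
  intro T a b hab
  rw [spMapOfOver_app, spMapOfOver_app] at hab
  have h1 : secHom Ψ ⟨T, a⟩ = secHom Ψ ⟨T, b⟩ := congrArg ULift.down hab
  have ha : (Ψ.obj ⟨T, a⟩).left = T := Ψ.w_obj ⟨T, a⟩
  have hb : (Ψ.obj ⟨T, b⟩).left = T := Ψ.w_obj ⟨T, b⟩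
  have hw : eqToHom (ha.trans hb.symm) ≫ (Ψ.obj ⟨T, b⟩).hom = (Ψ.obj ⟨T, a⟩).hom := by
    unfold secHom at h1
    rw [← cancel_epi (eqToHom ha.symm)]
    rw [eqToHom_trans_assoc]
    exact h1.symm
  obtain ⟨k, hk⟩ := Ψ.toFunctor.map_surjective
    (Over.homMk (eqToHom (ha.trans hb.symm)) hw : Ψ.obj ⟨T, a⟩ ⟶ Ψ.obj ⟨T, b⟩)
  have h2 : (Ψ.map k).left = eqToHom ha ≫ k.hom ≫ eqToHom hb.symm :=
    IsHomLift.fac' (FibCat.overCat U).p ((ofSp F).p.map k) (Ψ.map k)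
  have hk1 : k.hom = 𝟙 T := by
    have e : k.hom = eqToHom ha.symm ≫ (eqToHom ha ≫ k.hom ≫ eqToHom hb.symm) ≫ eqToHom hb := by
      simp
    rw [e, ← h2]
    have : (Ψ.map k).left = eqToHom (ha.trans hb.symm) := congrArg (fun t => t.left) hk
    rw [this]
    simp
  have h3 := k.map_sec
  rw [hk1] at h3
  simpa using h3.symm

variable {𝒳 : AlgSt.Cat S} (x : FibCat.overCat (tS S) ⥤ᵇ 𝒳) {G : Over S} [GrpObj G]
  [IsAffineHom G.hom] [Flat G.hom] [LocallyOfFinitePresentation G.hom]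
  (r : Gerb.AutRep x (Gerb.ptsGrp (tS S) G))

include r in
/-- the substack of objects locally isomorphic to the point is a monomorphism -/
theorem isMono_subIncl (hst : Stk.IsStack (J S) 𝒳)
    (hΔ : AlgSt.RepByAlgSp1 (FibCat.diag (FibCat.toSelf 𝒳))) :
    AlgSt.IsMono (AlgSt.subIncl 𝒳 (Qx x)) := by
  intro U y
  have f𝒳 := hst.1
  have hst𝒵 := isStack_sub x hst
  have hg := isGerbe_sub x hst
  have hx' : AlgSt.RepByAlgSpWith (QF S) (xsub x f𝒳) :=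
    repByAlgSpWith_QF_point (xsub x f𝒳) (subRep f𝒳 r) hg
  have hstℐ : Stk.IsStack (J S) (FibCat.fp y (AlgSt.subIncl 𝒳 (Qx x))) :=
    Groth.Agent.Lib.Helper10.StkFp.isStack_fp y (AlgSt.subIncl 𝒳 (Qx x)) _ (isStack_overCat U)
      hst𝒵 (isPrestack_of_isStack hst)
  have hfs : FibCat.IsFibSetoid (FibCat.fp y (AlgSt.subIncl 𝒳 (Qx x))).p :=
    isFibSetoid_fp_left (isFibSetoid_of_repByAlgSp (repByAlgSp_overCat U)) hst𝒵.1 f𝒳 y
      (AlgSt.subIncl 𝒳 (Qx x))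
  have hcov : AlgSt.RepByAlgSpWith (QF S)
      (FibCat.fpFst (FibCat.fpSnd y (AlgSt.subIncl 𝒳 (Qx x))) (xsub x f𝒳)) :=
    repByAlgSpWith_fpFst (QF S) (xsub x f𝒳) (FibCat.fpSnd y (AlgSt.subIncl 𝒳 (Qx x))) hx'
  have h𝒜 : AlgSt.RepByAlgSp
      (FibCat.fp (FibCat.fpSnd y (AlgSt.subIncl 𝒳 (Qx x))) (xsub x f𝒳)) := by
    obtain ⟨i, hi⟩ := StkPost.isEquivOver_symm
      (isEquivOver_paste2 y (AlgSt.subIncl 𝒳 (Qx x)) (xsub x f𝒳))
    exact AlgStRep.repByAlgSp_of_isEquivOver i hi (repByAlgSp1_of_diag f𝒳 hΔ (tS S) x U y)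
  obtain ⟨F, e, he⟩ := repByAlgSp_of_fppf_cover hstℐ hfs h𝒜 _ hcov
  refine ⟨F, e, he, ?_⟩
  haveI := IsEquivOver.isEquivalence he
  haveI := fpFst_full y (AlgSt.subIncl 𝒳 (Qx x))
  haveI : (BasedFunctor.comp e (FibCat.fpFst y (AlgSt.subIncl 𝒳 (Qx x)))).toFunctor.Full :=
    inferInstanceAs (e.toFunctor ⋙ (FibCat.fpFst y (AlgSt.subIncl 𝒳 (Qx x))).toFunctor).Full
  exact mono_spMapOfOver_of_full _

end H10PT.GBB
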