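import Mathlib
import Groth.Prelude.Def_W4c5qcohlocdualityLoc

/-!
# Closed objects for localizing closures in Grothendieck abelian categories
-/

set_option autoImplicit false

namespace H10GB

open CategoryTheory CategoryTheory.Limits CategoryTheory.Abelian

universe w v u

variable {C : Type u} [Category.{v} C] [Abelian C] [IsGrothendieckAbelian.{w} C] (M : C)

/-- no maps to `M` and no extensions by `M` -/
def Good (W : C) : Prop := (∀ f : W ⟶ M, f = 0) ∧ ∀ e : Ext.{w} W M 1, e = 0

/-- all subobjects are good -/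
def T : ObjectProperty C := fun Y => ∀ ⦃W : C⦄ (j : W ⟶ Y), Mono j → Good M W

/-- the embedding of `M` into an injective, as a short complex -/
noncomputable abbrev SE : ShortComplex C :=
  ShortComplex.mk (Injective.ι M) (cokernel.π (Injective.ι M)) (cokernel.condition _)

lemma sesE : (SE M).ShortExact :=
  ShortComplex.ShortExact.mk' ((SE M).exact_of_g_is_cokernel (cokernelIsCokernel _))
    (inferInstanceAs (Mono (Injective.ι M))) (inferInstanceAs (Epi (cokernel.π (Injective.ι M))))

variable {M}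

lemma ext0_eq_zero {W : C} (h : ∀ f : W ⟶ M, f = 0) (x : Ext.{w} W M 0) : x = 0 := by
  rw [← Ext.mk₀_homEquiv₀_apply x, h (Ext.homEquiv₀ x), Ext.mk₀_zero]

/-- a map to the quotient of a short exact sequence lifts when the relevant `Ext¹` vanishes -/
lemma exists_lift {S : ShortComplex C} (hS : S.ShortExact) {W : C}
    (hW : ∀ e : Ext.{w} W S.X₁ 1, e = 0) (g : W ⟶ S.X₃) : ∃ l : W ⟶ S.X₂, l ≫ S.g = g := by
  obtain ⟨x₂, hx₂⟩ := Ext.covariant_sequence_exact₃ W hS (Ext.mk₀ g) (zero_add 1) (hW _)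
  refine ⟨Ext.homEquiv₀ x₂, ?_⟩
  apply (Ext.mk₀_bijective _ _).1
  rw [← Ext.mk₀_comp_mk₀, Ext.mk₀_homEquiv₀_apply, hx₂]

lemma isSplitMono_of_ext_eq_zero {S : ShortComplex C} (hS : S.ShortExact)
    (h : ∀ e : Ext.{w} S.X₃ S.X₁ 1, e = 0) : IsSplitMono S.f := by
  obtain ⟨s, hs⟩ := exists_lift hS h (𝟙 S.X₃)
  exact IsSplitMono.mk' ⟨(ShortComplex.Splitting.ofExactOfSection S hS.exact s hs hS.mono_f).r,
    (ShortComplex.Splitting.ofExactOfSection S hS.exact s hs hS.mono_f).f_r⟩

lemma ext_eq_zero_of_lifts {W : C}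
    (h : ∀ g : W ⟶ (SE M).X₃, ∃ l : W ⟶ (SE M).X₂, l ≫ (SE M).g = g)
    (e : Ext.{w} W M 1) : e = 0 := by
  obtain ⟨x₃, hx₃⟩ := Ext.covariant_sequence_exact₁ W (sesE M) e
    (Ext.eq_zero_of_injective _) (zero_add 1)
  obtain ⟨l, hl⟩ := h (Ext.homEquiv₀ x₃)
  have hx : x₃ = (Ext.mk₀ l).comp (Ext.mk₀ (SE M).g) (zero_add 0) := by
    rw [Ext.mk₀_comp_mk₀, hl, Ext.mk₀_homEquiv₀_apply]
  rw [← hx₃, hx, Ext.comp_assoc_of_second_deg_zero, (sesE M).comp_extClass, Ext.comp_zero]

lemma lift_unique {W : C} (hW : ∀ f : W ⟶ M, f = 0) (l l' : W ⟶ (SE M).X₂)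
    (h : l ≫ (SE M).g = l' ≫ (SE M).g) : l = l' := by
  haveI := (sesE M).mono_f
  have h0 : (l - l') ≫ (SE M).g = 0 := by rw [Preadditive.sub_comp, h, sub_self]
  have h1 : (sesE M).exact.lift (l - l') h0 ≫ (SE M).f = l - l' := (sesE M).exact.lift_f _ _
  rw [hW ((sesE M).exact.lift (l - l') h0), zero_comp] at h1
  exact sub_eq_zero.1 h1.symm

variable (M) in
/-- the splitting condition of `GabLoc.IsClosedFor` for a single object -/
def Splits (W : C) : Prop :=
  ∀ ⦃N : C⦄ (i : M ⟶ N) (p : N ⟶ W) (hp : i ≫ p = 0),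
    (ShortComplex.mk i p hp).ShortExact → IsSplitMono i

lemma ext_eq_zero_of_splits {W : C} (hW : Splits M W) (e : Ext.{w} W M 1) : e = 0 := by
  apply ext_eq_zero_of_lifts
  intro g
  -- the pullback extension
  have hi : Injective.ι M ≫ cokernel.π (Injective.ι M) = (0 : M ⟶ W) ≫ g := by
    rw [cokernel.condition, zero_comp]
  have hp : pullback.lift (Injective.ι M) (0 : M ⟶ W) hi ≫
      pullback.snd (cokernel.π (Injective.ι M)) g = 0 := pullback.lift_snd _ _ _
  have hfst : pullback.lift (Injective.ι M) (0 : M ⟶ W) hi ≫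
      pullback.fst (cokernel.π (Injective.ι M)) g = Injective.ι M := pullback.lift_fst _ _ _
  haveI : Mono (pullback.lift (Injective.ι M) (0 : M ⟶ W) hi) := mono_of_mono_fac hfst
  haveI : Epi (pullback.snd (cokernel.π (Injective.ι M)) g) := epi_pullback_of_epi_f _ _
  have hex : (ShortComplex.mk _ _ hp).Exact := by
    rw [ShortComplex.exact_iff_exact_up_to_refinements]
    intro A x hx
    haveI := (sesE M).mono_f
    have hx' : (x ≫ pullback.fst (cokernel.π (Injective.ι M)) g) ≫ (SE M).g = 0 := by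
      rw [Category.assoc]
      show x ≫ pullback.fst (cokernel.π (Injective.ι M)) g ≫ cokernel.π (Injective.ι M) = 0
      rw [pullback.condition, ← Category.assoc]
      have hx2 : x ≫ pullback.snd (cokernel.π (Injective.ι M)) g = 0 := hx
      rw [hx2, zero_comp]
    refine ⟨A, 𝟙 A, inferInstance, (sesE M).exact.lift _ hx', ?_⟩
    rw [Category.id_comp]
    apply pullback.hom_ext
    · rw [Category.assoc, hfst]
      exact ((sesE M).exact.lift_f _ hx').symm
    · rw [Category.assoc, hp, comp_zero]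
      exact hx
  have hS : (ShortComplex.mk _ _ hp).ShortExact :=
    ShortComplex.ShortExact.mk' hex inferInstance inferInstance
  obtain ⟨⟨r, hr⟩⟩ := hW _ _ hp hS
  -- the section
  have h0 : pullback.lift (Injective.ι M) (0 : M ⟶ W) hi ≫
      (𝟙 _ - r ≫ pullback.lift (Injective.ι M) (0 : M ⟶ W) hi) = 0 := by
    rw [Preadditive.comp_sub, Category.comp_id, ← Category.assoc, hr, Category.id_comp, sub_self]
  have hs : pullback.snd (cokernel.π (Injective.ι M)) g ≫ hS.exact.desc _ h0 =
      𝟙 _ - r ≫ pullback.lift (Injective.ι M) (0 : M ⟶ W) hi := hS.exact.g_desc _ h0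
  refine ⟨hS.exact.desc _ h0 ≫ pullback.fst (cokernel.π (Injective.ι M)) g, ?_⟩
  apply (cancel_epi (pullback.snd (cokernel.π (Injective.ι M)) g)).1
  show pullback.snd (cokernel.π (Injective.ι M)) g ≫ (hS.exact.desc _ h0 ≫
    pullback.fst (cokernel.π (Injective.ι M)) g) ≫ cokernel.π (Injective.ι M) =
    pullback.snd (cokernel.π (Injective.ι M)) g ≫ g
  rw [Category.assoc, ← Category.assoc, hs, Preadditive.sub_comp, Category.id_comp,
    Category.assoc, ← Category.assoc (pullback.lift _ _ hi), hfst, cokernel.condition, comp_zero,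
    sub_zero, pullback.condition]

/-! ### Closure properties of `Good` along short exact sequences -/

lemma good_X₂ {S : ShortComplex C} (hS : S.ShortExact) (h₁ : Good M S.X₁) (h₃ : Good M S.X₃) :
    Good M S.X₂ := by
  constructor
  · intro g
    obtain ⟨x₃, hx₃⟩ := Ext.contravariant_sequence_exact₂ hS M (Ext.mk₀ g)
      (by rw [Ext.mk₀_comp_mk₀, h₁.1 (S.f ≫ g), Ext.mk₀_zero])
    apply (Ext.mk₀_bijective _ _).1
    rw [← hx₃, ext0_eq_zero h₃.1 x₃, Ext.comp_zero, Ext.mk₀_zero]
  · intro e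
    obtain ⟨x₃, hx₃⟩ := Ext.contravariant_sequence_exact₂ hS M e (h₁.2 _)
    rw [← hx₃, h₃.2 x₃, Ext.comp_zero]

lemma good_X₃ {S : ShortComplex C} (hS : S.ShortExact) (h₁ : ∀ f : S.X₁ ⟶ M, f = 0)
    (h₂ : Good M S.X₂) : Good M S.X₃ := by
  haveI := hS.epi_g
  constructor
  · intro g
    apply (cancel_epi S.g).1
    rw [h₂.1 (S.g ≫ g), comp_zero]
  · intro e
    obtain ⟨x₁, hx₁⟩ := Ext.contravariant_sequence_exact₃ hS M e (h₂.2 _) (add_zero 1)
    rw [← hx₁, ext0_eq_zero h₁ x₁, Ext.comp_zero]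

/-! ### Closure properties of `T` -/

lemma T_of_isZero {Y : C} (h : IsZero Y) : T M Y := by
  intro W j hj
  haveI := hj
  have hW : IsZero W := IsZero.of_mono j h
  refine ⟨fun f => hW.eq_of_src f 0, fun e => ?_⟩
  rw [← Ext.mk₀_id_comp e, hW.eq_of_src (𝟙 W) 0, Ext.mk₀_zero, Ext.zero_comp]

lemma T_of_mono {X Y : C} (f : X ⟶ Y) [Mono f] (h : T M Y) : T M X := by
  intro W j hj
  haveI := hj
  exact h (j ≫ f) (mono_comp j f)

lemma T_of_epi {X Y : C} (π : X ⟶ Y) [Epi π] (h : T M X) : T M Y := by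
  intro Z j hj
  haveI := hj
  haveI : Epi (pullback.fst j π) := epi_pullback_of_epi_g j π
  haveI hms : Mono (pullback.snd j π) := pullback.snd_of_mono
  have hY' : Good M (pullback j π) := h (pullback.snd j π) hms
  have hK : Good M (kernel (pullback.fst j π)) :=
    h (kernel.ι (pullback.fst j π) ≫ pullback.snd j π) (mono_comp _ _)
  have hS : (ShortComplex.mk (kernel.ι (pullback.fst j π)) (pullback.fst j π)
      (kernel.condition _)).ShortExact :=
    ShortComplex.ShortExact.mk' (ShortComplex.exact_of_f_is_kernel _ (kernelIsKernel _))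
      (inferInstanceAs (Mono (kernel.ι (pullback.fst j π))))
      (inferInstanceAs (Epi (pullback.fst j π)))
  exact good_X₃ hS hK.1 hY'

lemma T_of_shortExact {S : ShortComplex C} (hS : S.ShortExact) (h₁ : T M S.X₁) (h₃ : T M S.X₃) :
    T M S.X₂ := by
  intro Z j hj
  haveI := hj
  haveI := hS.mono_f
  have hk : (kernel.ι (j ≫ S.g) ≫ j) ≫ S.g = 0 := by
    rw [Category.assoc]
    exact kernel.condition (j ≫ S.g)
  have hu : hS.exact.lift (kernel.ι (j ≫ S.g) ≫ j) hk ≫ S.f = kernel.ι (j ≫ S.g) ≫ j :=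
    hS.exact.lift_f _ _
  haveI : Mono (hS.exact.lift (kernel.ι (j ≫ S.g) ≫ j) hk) := mono_of_mono_fac hu
  have hZ' : Good M (kernel (j ≫ S.g)) := h₁ (hS.exact.lift (kernel.ι (j ≫ S.g) ≫ j) hk) this
  have hZ'' : Good M (Abelian.image (j ≫ S.g)) :=
    h₃ (Abelian.image.ι (j ≫ S.g)) (inferInstanceAs (Mono (Abelian.image.ι (j ≫ S.g))))
  have hq : kernel.ι (j ≫ S.g) ≫ Abelian.factorThruImage (j ≫ S.g) = 0 := by
    apply (cancel_mono (Abelian.image.ι (j ≫ S.g))).1
    rw [Category.assoc, Abelian.image.fac, zero_comp, kernel.condition]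
  have hex : (ShortComplex.mk _ _ hq).Exact := by
    rw [ShortComplex.exact_iff_exact_up_to_refinements]
    intro A (x : A ⟶ Z) hx
    have hx2 : x ≫ Abelian.factorThruImage (j ≫ S.g) = 0 := hx
    have hx' : x ≫ (j ≫ S.g) = 0 :=
      calc x ≫ (j ≫ S.g)
          = x ≫ (Abelian.factorThruImage (j ≫ S.g) ≫ Abelian.image.ι (j ≫ S.g)) := by
            rw [Abelian.image.fac]
        _ = (x ≫ Abelian.factorThruImage (j ≫ S.g)) ≫ Abelian.image.ι (j ≫ S.g) :=
            (Category.assoc _ _ _).symm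
        _ = 0 := by rw [hx2, zero_comp]
    refine ⟨A, 𝟙 A, inferInstance, kernel.lift (j ≫ S.g) x hx', ?_⟩
    rw [Category.id_comp]
    exact (kernel.lift_ι _ _ _).symm
  have hS₂ : (ShortComplex.mk _ _ hq).ShortExact :=
    ShortComplex.ShortExact.mk' hex (inferInstanceAs (Mono (kernel.ι (j ≫ S.g))))
      (inferInstanceAs (Epi (Abelian.factorThruImage (j ≫ S.g))))
  exact good_X₂ hS₂ hZ' hZ''

variable (M)

instance : (T M).ContainsZero := ⟨⟨_, isZero_zero C, T_of_isZero (isZero_zero C)⟩⟩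

instance : (T M).IsClosedUnderSubobjects := ⟨fun f _ h => T_of_mono f h⟩

instance : (T M).IsClosedUnderQuotients := ⟨fun π _ h => T_of_epi π h⟩

instance : (T M).IsClosedUnderExtensions := ⟨fun hS h₁ h₃ => T_of_shortExact hS h₁ h₃⟩

instance : (T M).IsSerreClass where

instance : (T M).IsClosedUnderBinaryProducts :=
  ObjectProperty.IsClosedUnderLimitsOfShape.mk' (by
    rintro _ ⟨F, hF⟩
    have h : T M (F.obj ⟨WalkingPair.left⟩ ⊞ F.obj ⟨WalkingPair.right⟩) :=
      (T M).prop_biprod (hF _) (hF _)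
    exact (T M).prop_of_iso ((biprod.isoProd _ _) ≪≫
      (HasLimit.isoOfNatIso (diagramIsoPair F)).symm) h)

instance : (T M).IsClosedUnderFiniteProducts := ObjectProperty.IsClosedUnderFiniteProducts.mk'

variable {M}

lemma T_finite_coproduct {ι : Type w} [Finite ι] (g : ι → C) (hg : ∀ i, T M (g i)) :
    T M (∐ g) := by
  haveI : HasFiniteBiproducts C := Abelian.hasFiniteBiproducts
  haveI : HasBiproductsOfShape ι C := hasBiproductsOfShape_finite C
  haveI : HasBiproduct g := HasBiproductsOfShape.has_biproduct g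
  exact (T M).prop_of_iso ((biproduct.isoProduct g).symm ≪≫ biproduct.isoCoproduct g)
    ((T M).prop_product hg)

section Filtered

variable {J : Type w} [SmallCategory J] [IsFiltered J] {Y : J ⥤ C} {c : Cocone Y}

open IsGrothendieckAbelian.IsPresentable.surjectivity in
lemma T_of_isColimit (hc : IsColimit c) (hY : ∀ j, T M (Y.obj j)) : T M c.pt := by
  intro Z z hz
  haveI := hz
  haveI : IsIso (f z) := isIso_f hc z
  have hpb : ∀ j, IsPullback ((pullback.fst c.ι ((Functor.const J).map z)).app j)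
      ((pullback.snd c.ι ((Functor.const J).map z)).app j) (c.ι.app j) z := fun j =>
    (IsPullback.of_hasPullback c.ι ((Functor.const J).map z)).map ((evaluation J C).obj j)
  have hmono : ∀ j, Mono ((pullback.fst c.ι ((Functor.const J).map z)).app j) :=
    fun j => (hpb j).mono_fst_of_mono
  have hgood : ∀ j, Good M ((pullback c.ι ((Functor.const J).map z)).obj j) :=
    fun j => hY j _ (hmono j)
  constructor
  · intro g
    apply (cancel_epi (f z)).1
    rw [comp_zero]
    apply colimit.hom_ext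
    intro j
    rw [comp_zero, ← Category.assoc, hf z j]
    exact (hgood j).1 _
  · apply ext_eq_zero_of_lifts
    intro g
    have hl : ∀ j, ∃ l : (pullback c.ι ((Functor.const J).map z)).obj j ⟶ (SE M).X₂,
        l ≫ (SE M).g = (pullback.snd c.ι ((Functor.const J).map z)).app j ≫ g :=
      fun j => exists_lift (sesE M) (hgood j).2 _
    choose l hl using hl
    have hnat : ∀ ⦃j j' : J⦄ (u : j ⟶ j'),
        (pullback c.ι ((Functor.const J).map z)).map u ≫ l j' = l j := by
      intro j j' u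
      apply lift_unique (hgood j).1
      rw [Category.assoc, hl j', hl j, ← Category.assoc,
        (pullback.snd c.ι ((Functor.const J).map z)).naturality u]
      simp
    refine ⟨inv (f z) ≫ colimit.desc _ (Cocone.mk (SE M).X₂
      { app := l
        naturality := fun j j' u => by
          rw [hnat u]
          exact (Category.comp_id _).symm }), ?_⟩
    rw [Category.assoc, IsIso.inv_comp_eq]
    apply colimit.hom_ext
    intro j
    rw [colimit.ι_desc_assoc, ← Category.assoc, hf z j]
    exact hl j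

end Filtered

lemma T_coproduct {α : Type w} (g : α → C) (hg : ∀ a, T M (g a)) : T M (∐ g) := by
  have h := T_of_isColimit (M := M)
    (CoproductsFromFiniteFiltered.isColimitFiniteSubproductsCocone g)
    (fun S => T_finite_coproduct _ (fun x => hg _))
  exact h

lemma isLocalizing_T : GabLoc.IsLocalizing.{w} (T M) where
  isSerreClass := inferInstance
  isClosedUnderCoproducts J :=
    ObjectProperty.IsClosedUnderColimitsOfShape.mk' (by
      rintro _ ⟨F, hF⟩
      have h : T M (∐ fun j : J => F.obj ⟨j⟩) := T_coproduct _ (fun j => hF _)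
      exact (T M).prop_of_iso (HasColimit.isoOfNatIso Discrete.natIsoFunctor).symm h)

theorem core (P : ObjectProperty C) [P.IsClosedUnderSubobjects] (hM : GabLoc.IsClosedFor P M) :
    GabLoc.IsClosedFor (GabLoc.locClosure.{w} P) M := by
  have hP : P ≤ T M := by
    intro Y hY W j hj
    haveI := hj
    have hW : P W := P.prop_of_mono j hY
    exact ⟨fun f => hM.1 hW f, ext_eq_zero_of_splits (fun N i p hp hS => hM.2 i p hp hW hS)⟩
  have hgood : ∀ X, GabLoc.locClosure.{w} P X → Good M X := fun X hX =>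
    hX (T M) isLocalizing_T hP (𝟙 X) inferInstance
  refine ⟨fun Y hY f => (hgood Y hY).1 f, fun N Y i p hp hY hS => ?_⟩
  exact isSplitMono_of_ext_eq_zero hS (hgood Y hY).2

end H10GB
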