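import Mathlib

/-!
# Coflasque lattices: `H¹(Γ', Λ) = 0` for all subgroups iff extensions of permutation
modules by `Λ` split (S17849).  Namespace `H10GL`.
-/

set_option autoImplicit false
open CategoryTheory

namespace H10GL

open Representation

variable {k : Type} [CommRing k] {Γ : Type} [Group Γ]

/-- vanishing of `H¹` of all subgroups, in cocycle form -/
def H1van {V : Type} {_ : AddCommGroup V} {_ : Module k V} (ρ : Representation k Γ V) : Prop :=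
  ∀ (Γ' : Subgroup Γ) (c : Γ' → V), (∀ γ δ : Γ', c (γ * δ) = ρ γ (c δ) + c γ) →
    ∃ a : V, ∀ γ : Γ', c γ = ρ γ a - a

section PartA

variable {V₁ V₂ X : Type} {_ : AddCommGroup V₁} {_ : Module k V₁} {_ : AddCommGroup V₂}
  {_ : Module k V₂}
  [MulAction Γ X]
  (ρ₁ : Representation k Γ V₁) (ρ₂ : Representation k Γ V₂)
  (i : IntertwiningMap ρ₁ ρ₂) (p : IntertwiningMap ρ₂ (Representation.ofMulAction k Γ X))

theorem exists_fixed_lift (hi : Function.Injective i) (hp : Function.Surjective p)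
    (hpi : ∀ v, p (i v) = 0) (hex : ∀ e, p e = 0 → ∃ v, i v = e) (h1 : H1van ρ₁) (x₀ : X) :
    ∃ e : V₂, p e = MonoidAlgebra.single x₀ 1 ∧
      ∀ γ ∈ MulAction.stabilizer Γ x₀, ρ₂ γ e = e := by
  obtain ⟨e₁, he₁⟩ := hp (MonoidAlgebra.single x₀ 1)
  have hker : ∀ γ : MulAction.stabilizer Γ x₀, p (ρ₂ γ e₁ - e₁) = 0 := by
    intro γ
    rw [map_sub, p.isIntertwining, he₁, Representation.ofMulAction_single,
      MulAction.mem_stabilizer_iff.1 γ.2, sub_self]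
  choose c hc using fun γ => hex _ (hker γ)
  have hcoc : ∀ γ δ : MulAction.stabilizer Γ x₀, c (γ * δ) = ρ₁ γ (c δ) + c γ := by
    intro γ δ
    apply hi
    rw [map_add, i.isIntertwining, hc, hc, hc]
    simp only [Subgroup.coe_mul, map_mul, Module.End.mul_apply, map_sub]
    abel
  obtain ⟨a, ha⟩ := h1 _ c hcoc
  refine ⟨e₁ - i a, ?_, ?_⟩
  · rw [map_sub, hpi, sub_zero, he₁]
  · intro γ hγ
    have h := hc ⟨γ, hγ⟩
    rw [ha ⟨γ, hγ⟩, map_sub, i.isIntertwining] at h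
    have h' : ρ₂ γ (i a) - i a = ρ₂ γ e₁ - e₁ := h
    rw [map_sub]
    calc ρ₂ γ e₁ - ρ₂ γ (i a) = (ρ₂ γ e₁ - e₁) - (ρ₂ γ (i a) - i a) + (e₁ - i a) := by abel
      _ = e₁ - i a := by rw [← h']; abel

theorem exists_section (hi : Function.Injective i) (hp : Function.Surjective p)
    (hpi : ∀ v, p (i v) = 0) (hex : ∀ e, p e = 0 → ∃ v, i v = e) (h1 : H1van ρ₁) :
    ∃ s : IntertwiningMap (Representation.ofMulAction k Γ X) ρ₂, ∀ m, p (s m) = m := by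
  classical
  choose e he1 he2 using exists_fixed_lift ρ₁ ρ₂ i p hi hp hpi hex h1
  let r : X → X := fun x => (Quotient.mk (MulAction.orbitRel Γ X) x).out
  have hr : ∀ x, ∃ g : Γ, g • r x = x := by
    intro x
    have h : r x ∈ MulAction.orbit Γ x :=
      MulAction.orbitRel_apply.1 (Quotient.mk_out (s := MulAction.orbitRel Γ X) x)
    obtain ⟨g, hg⟩ := MulAction.mem_orbit_iff.1 h
    exact ⟨g⁻¹, by rw [← hg, inv_smul_smul]⟩
  choose gx hgx using hr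
  have hrr : ∀ (γ : Γ) (x : X), r (γ • x) = r x := by
    intro γ x
    show (Quotient.mk (MulAction.orbitRel Γ X) (γ • x)).out =
      (Quotient.mk (MulAction.orbitRel Γ X) x).out
    have : Quotient.mk (MulAction.orbitRel Γ X) (γ • x) =
        Quotient.mk (MulAction.orbitRel Γ X) x :=
      Quotient.sound (MulAction.orbitRel_apply.2 (MulAction.mem_orbit x γ))
    rw [this]
  let t : X → V₂ := fun x => ρ₂ (gx x) (e (r x))
  have ht1 : ∀ (γ : Γ) (x : X), t (γ • x) = ρ₂ γ (t x) := by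
    intro γ x
    show ρ₂ (gx (γ • x)) (e (r (γ • x))) = ρ₂ γ (ρ₂ (gx x) (e (r x)))
    have h2 := hgx (γ • x)
    rw [hrr] at h2 ⊢
    generalize gx (γ • x) = g₁ at h2 ⊢
    have hstab : g₁⁻¹ * γ * gx x ∈ MulAction.stabilizer Γ (r x) := by
      rw [MulAction.mem_stabilizer_iff, mul_smul, mul_smul, hgx x, ← h2, inv_smul_smul]
    have e1 : ρ₂ g₁ (ρ₂ (g₁⁻¹ * γ * gx x) (e (r x))) =
        ρ₂ (g₁ * (g₁⁻¹ * γ * gx x)) (e (r x)) := by
      rw [map_mul ρ₂ g₁, Module.End.mul_apply]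
    have e2 : ρ₂ γ (ρ₂ (gx x) (e (r x))) = ρ₂ (γ * gx x) (e (r x)) := by
      rw [map_mul, Module.End.mul_apply]
    have e3 : g₁ * (g₁⁻¹ * γ * gx x) = γ * gx x := by group
    calc ρ₂ g₁ (e (r x)) = ρ₂ g₁ (ρ₂ (g₁⁻¹ * γ * gx x) (e (r x))) := by
          rw [he2 _ _ hstab]
      _ = ρ₂ γ (ρ₂ (gx x) (e (r x))) := by rw [e1, e2, e3]
  have ht2 : ∀ x, p (t x) = MonoidAlgebra.single x 1 := by
    intro x
    show p (ρ₂ (gx x) (e (r x))) = _
    rw [p.isIntertwining, he1, Representation.ofMulAction_single, hgx]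
  let b := MonoidAlgebra.basis X k
  let sl : MonoidAlgebra k X →ₗ[k] V₂ := b.constr k t
  have hsl : ∀ x, sl (MonoidAlgebra.single x 1) = t x := fun x => by
    have := b.constr_basis k t x
    rwa [MonoidAlgebra.basis_apply] at this
  refine ⟨⟨sl, ?_⟩, ?_⟩
  · intro γ
    apply b.ext
    intro x
    rw [MonoidAlgebra.basis_apply]
    simp only [LinearMap.comp_apply]
    rw [Representation.ofMulAction_single, hsl, hsl, ht1]
  · intro m
    have : (p.toLinearMap ∘ₗ sl) = LinearMap.id := by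
      apply b.ext
      intro x
      rw [MonoidAlgebra.basis_apply]
      simp only [LinearMap.comp_apply, LinearMap.id_apply]
      rw [hsl]
      exact ht2 x
    simpa using LinearMap.congr_fun this m

end PartA

section PartB

variable {V : Type} {_ : AddCommGroup V} {_ : Module k V} (ρ : Representation k Γ V)
  (Γ' : Subgroup Γ)
  (c : Γ' → V)

open Classical in
/-- a section of `Γ → Γ ⧸ Γ'` with value `1` at the base point -/
noncomputable def sig (x : Γ ⧸ Γ') : Γ := if x = ((1 : Γ) : Γ ⧸ Γ') then 1 else x.out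

theorem mk_sig (x : Γ ⧸ Γ') : ((sig Γ' x : Γ) : Γ ⧸ Γ') = x := by
  unfold sig
  split_ifs with h
  · exact h.symm
  · exact QuotientGroup.out_eq' x

theorem sig_one : sig Γ' ((1 : Γ) : Γ ⧸ Γ') = 1 := if_pos rfl

theorem hmem (γ : Γ) (x : Γ ⧸ Γ') : (sig Γ' (γ • x))⁻¹ * γ * sig Γ' x ∈ Γ' := by
  rw [mul_assoc, ← QuotientGroup.eq, mk_sig]
  conv_lhs => rw [← mk_sig Γ' x]
  rfl

/-- the `Γ'`-valued cocycle of the coset action -/
noncomputable def hh (γ : Γ) (x : Γ ⧸ Γ') : Γ' := ⟨(sig Γ' (γ • x))⁻¹ * γ * sig Γ' x, hmem Γ' γ x⟩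

theorem hh_one (x : Γ ⧸ Γ') : hh Γ' 1 x = 1 := Subtype.ext (by simp [hh])

theorem hh_mul (γ δ : Γ) (x : Γ ⧸ Γ') : hh Γ' (γ * δ) x = hh Γ' γ (δ • x) * hh Γ' δ x :=
  Subtype.ext (by simp [hh, mul_smul, mul_assoc])

/-- the twisting function -/
noncomputable def ff (γ : Γ) (x : Γ ⧸ Γ') : V := ρ (sig Γ' (γ • x)) (c (hh Γ' γ x))

variable {c}

theorem c_one (hc : ∀ γ δ : Γ', c (γ * δ) = ρ γ (c δ) + c γ) : c 1 = 0 := by
  have := hc 1 1
  simpa using this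

theorem ff_one (hc : ∀ γ δ : Γ', c (γ * δ) = ρ γ (c δ) + c γ) (x : Γ ⧸ Γ') :
    ff ρ Γ' c 1 x = 0 := by
  unfold ff
  rw [hh_one, c_one ρ Γ' hc, map_zero]

theorem ff_mul (hc : ∀ γ δ : Γ', c (γ * δ) = ρ γ (c δ) + c γ) (γ δ : Γ) (x : Γ ⧸ Γ') :
    ff ρ Γ' c (γ * δ) x = ρ γ (ff ρ Γ' c δ x) + ff ρ Γ' c γ (δ • x) := by
  unfold ff
  rw [hh_mul, hc, map_add, mul_smul]
  congr 1
  have e : sig Γ' (γ • δ • x) * ((hh Γ' γ (δ • x) : Γ') : Γ) = γ * sig Γ' (δ • x) := by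
    show sig Γ' (γ • δ • x) * ((sig Γ' (γ • δ • x))⁻¹ * γ * sig Γ' (δ • x)) = _
    group
  rw [← Module.End.mul_apply, ← map_mul, e, map_mul, Module.End.mul_apply]

variable (c)

/-- linear extension of the twisting function -/
noncomputable def FF (γ : Γ) : MonoidAlgebra k (Γ ⧸ Γ') →ₗ[k] V :=
  (MonoidAlgebra.basis (Γ ⧸ Γ') k).constr k (fun x => ff ρ Γ' c γ x)

theorem FF_single (γ : Γ) (x : Γ ⧸ Γ') :
    FF ρ Γ' c γ (MonoidAlgebra.single x 1) = ff ρ Γ' c γ x := by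
  have := (MonoidAlgebra.basis (Γ ⧸ Γ') k).constr_basis k (fun x => ff ρ Γ' c γ x) x
  rwa [MonoidAlgebra.basis_apply] at this

variable {c}

theorem FF_one (hc : ∀ γ δ : Γ', c (γ * δ) = ρ γ (c δ) + c γ) : FF ρ Γ' c 1 = 0 := by
  apply (MonoidAlgebra.basis (Γ ⧸ Γ') k).ext
  intro x
  rw [MonoidAlgebra.basis_apply, FF_single, ff_one ρ Γ' hc]
  rfl

theorem FF_mul (hc : ∀ γ δ : Γ', c (γ * δ) = ρ γ (c δ) + c γ) (γ δ : Γ) :
    FF ρ Γ' c (γ * δ) = ρ γ ∘ₗ FF ρ Γ' c δ +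
      FF ρ Γ' c γ ∘ₗ Representation.ofMulAction k Γ (Γ ⧸ Γ') δ := by
  apply (MonoidAlgebra.basis (Γ ⧸ Γ') k).ext
  intro x
  rw [MonoidAlgebra.basis_apply]
  simp only [LinearMap.add_apply, LinearMap.comp_apply]
  rw [FF_single, FF_single, Representation.ofMulAction_single, FF_single, ff_mul ρ Γ' hc]

/-- the twisted extension of `k[Γ/Γ']` by `V` -/
noncomputable def Rext (hc : ∀ γ δ : Γ', c (γ * δ) = ρ γ (c δ) + c γ) :
    Representation k Γ (V × MonoidAlgebra k (Γ ⧸ Γ')) where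
  toFun γ := LinearMap.prod
    (ρ γ ∘ₗ LinearMap.fst k V _ + FF ρ Γ' c γ ∘ₗ LinearMap.snd k V _)
    (Representation.ofMulAction k Γ (Γ ⧸ Γ') γ ∘ₗ LinearMap.snd k V _)
  map_one' := by
    refine LinearMap.ext fun ⟨v, m⟩ => Prod.ext ?_ ?_
    · simp [FF_one ρ Γ' hc]
    · simp
  map_mul' γ δ := by
    refine LinearMap.ext fun ⟨v, m⟩ => Prod.ext ?_ ?_
    · show ρ (γ * δ) v + FF ρ Γ' c (γ * δ) m = ρ γ (ρ δ v + FF ρ Γ' c δ m) +
        FF ρ Γ' c γ (Representation.ofMulAction k Γ (Γ ⧸ Γ') δ m)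
      rw [FF_mul ρ Γ' hc, map_mul, Module.End.mul_apply, LinearMap.add_apply,
        LinearMap.comp_apply, LinearMap.comp_apply, map_add]
      abel
    · simp

theorem Rext_apply (hc : ∀ γ δ : Γ', c (γ * δ) = ρ γ (c δ) + c γ) (γ : Γ) (v : V)
    (m : MonoidAlgebra k (Γ ⧸ Γ')) :
    Rext ρ Γ' hc γ (v, m) =
      (ρ γ v + FF ρ Γ' c γ m, Representation.ofMulAction k Γ (Γ ⧸ Γ') γ m) := rfl

/-- inclusion of `V` -/
noncomputable def inlI (hc : ∀ γ δ : Γ', c (γ * δ) = ρ γ (c δ) + c γ) :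
    IntertwiningMap ρ (Rext ρ Γ' hc) :=
  ⟨LinearMap.inl k V _, fun γ => LinearMap.ext fun v => by
    simp [Rext_apply]⟩

/-- projection to `k[Γ/Γ']` -/
noncomputable def sndI (hc : ∀ γ δ : Γ', c (γ * δ) = ρ γ (c δ) + c γ) :
    IntertwiningMap (Rext ρ Γ' hc) (Representation.ofMulAction k Γ (Γ ⧸ Γ')) :=
  ⟨LinearMap.snd k V _, fun γ => LinearMap.ext fun ⟨v, m⟩ => rfl⟩

theorem smul_base (γ : Γ') : (γ : Γ) • ((1 : Γ) : Γ ⧸ Γ') = ((1 : Γ) : Γ ⧸ Γ') := by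
  rw [MulAction.Quotient.smul_mk, smul_eq_mul, mul_one, QuotientGroup.eq]
  simpa using Γ'.inv_mem γ.2

theorem ff_base (γ : Γ') : ff ρ Γ' c (γ : Γ) ((1 : Γ) : Γ ⧸ Γ') = c γ := by
  have e1 : hh Γ' (γ : Γ) ((1 : Γ) : Γ ⧸ Γ') = γ := Subtype.ext (by
    show (sig Γ' ((γ : Γ) • ((1 : Γ) : Γ ⧸ Γ')))⁻¹ * γ * sig Γ' ((1 : Γ) : Γ ⧸ Γ') = γ
    rw [smul_base, sig_one]
    simp)
  unfold ff
  rw [e1, smul_base, sig_one, map_one]
  rfl

theorem coboundary_of_section (hc : ∀ γ δ : Γ', c (γ * δ) = ρ γ (c δ) + c γ)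
    (s : IntertwiningMap (Representation.ofMulAction k Γ (Γ ⧸ Γ')) (Rext ρ Γ' hc))
    (hs : ∀ m, (s m).2 = m) : ∃ a : V, ∀ γ : Γ', c γ = ρ γ a - a := by
  refine ⟨-(s (MonoidAlgebra.single ((1 : Γ) : Γ ⧸ Γ') 1)).1, fun γ => ?_⟩
  have hs0 : s (MonoidAlgebra.single ((1 : Γ) : Γ ⧸ Γ') 1) =
      ((s (MonoidAlgebra.single ((1 : Γ) : Γ ⧸ Γ') 1)).1,
        MonoidAlgebra.single ((1 : Γ) : Γ ⧸ Γ') 1) := Prod.ext rfl (hs _)
  have h1 : s (Representation.ofMulAction k Γ (Γ ⧸ Γ') (γ : Γ)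
      (MonoidAlgebra.single ((1 : Γ) : Γ ⧸ Γ') 1)) =
      Rext ρ Γ' hc (γ : Γ) (s (MonoidAlgebra.single ((1 : Γ) : Γ ⧸ Γ') 1)) :=
    LinearMap.congr_fun (s.isIntertwining' (γ : Γ)) _
  rw [Representation.ofMulAction_single, smul_base] at h1
  generalize (s (MonoidAlgebra.single ((1 : Γ) : Γ ⧸ Γ') 1)).1 = μ at hs0 ⊢
  rw [hs0, Rext_apply] at h1
  have h2 := congrArg Prod.fst h1
  simp only at h2
  rw [FF_single, ff_base] at h2
  rw [map_neg, sub_neg_eq_add]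
  -- h2 : μ = ρ γ μ + c γ
  calc c γ = (ρ γ μ + c γ) - ρ γ μ := by abel
    _ = -ρ γ μ + μ := by rw [← h2]; abel

end PartB

end H10GL
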