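import Groth.Agent.Lib.Helper10.GalLat

/-!
# Coflasque lattices, `Rep`-level glue (S17849).  Namespace `H10GL`.
-/

set_option autoImplicit false
open CategoryTheory

namespace H10GL

open Representation

universe u1 v1 w1

theorem rep_exact_iff {k : Type u1} [CommRing k] {G : Type v1} [Monoid G]
    (S : ShortComplex (Rep.{w1} k G)) :
    S.Exact ↔ ∀ x₂ : S.X₂.V, S.g.hom x₂ = 0 → ∃ x₁ : S.X₁.V, S.f.hom x₁ = x₂ := by
  rw [← ShortComplex.exact_map_iff_of_faithful S (forget₂ (Rep.{w1} k G) (ModuleCat.{w1} k)),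
    ShortComplex.moduleCat_exact_iff]
  rfl

section GenK

variable {k : Type} [CommRing k] {Γ : Type} [Group Γ] {V : Type} {_ : AddCommGroup V}
  {_ : Module k V} (ρ : Representation k Γ V) (Γ' : Subgroup Γ) {c : Γ' → V}
  (hc : ∀ γ δ : Γ', c (γ * δ) = ρ γ (c δ) + c γ)

/-- the twisted extension `0 → V → V × k[Γ/Γ'] → k[Γ/Γ'] → 0` as a short complex of `Rep` -/
noncomputable def extSC : ShortComplex (Rep.{0} k Γ) :=
  ShortComplex.mk (X₁ := Rep.of ρ) (X₂ := Rep.of (Rext ρ Γ' hc))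
    (X₃ := Rep.ofMulAction k Γ (Γ ⧸ Γ'))
    (Rep.ofHom (inlI ρ Γ' hc)) (Rep.ofHom (sndI ρ Γ' hc)) (by
      apply Rep.hom_ext
      apply Representation.IntertwiningMap.ext
      apply LinearMap.ext
      intro v
      rfl)

theorem extSC_shortExact : (extSC ρ Γ' hc).ShortExact :=
  { exact := (rep_exact_iff (extSC ρ Γ' hc)).2
      (fun (x : V × MonoidAlgebra k (Γ ⧸ Γ')) hx => ⟨x.1, Prod.ext rfl (Eq.symm hx)⟩)
    mono_f := (Rep.mono_iff_injective _).2 (fun a b hab => congrArg Prod.fst hab)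
    epi_g := (Rep.epi_iff_surjective _).2 (fun m => ⟨((0 : V), m), rfl⟩) }

theorem extSC_section (spl : (extSC ρ Γ' hc).Splitting) : ∃ a : V, ∀ γ : Γ', c γ = ρ γ a - a :=
  coboundary_of_section ρ Γ' hc spl.s.hom (fun m =>
    congrArg (fun f : Rep.ofMulAction k Γ (Γ ⧸ Γ') ⟶ Rep.ofMulAction k Γ (Γ ⧸ Γ') =>
      f.hom m) spl.s_g)

end GenK

variable {Γ : Type} [Group Γ]

theorem h1van_iff (Λ : Rep.{0} ℤ Γ) :
    (∀ Γ' : Subgroup Γ, Limits.IsZero (groupCohomology (Rep.res Γ'.subtype Λ) 1)) ↔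
      H1van Λ.ρ := by
  constructor
  · intro h Γ' c hc
    have hmem : c ∈ groupCohomology.cocycles₁ (Rep.res Γ'.subtype Λ) :=
      (groupCohomology.mem_cocycles₁_iff (A := Rep.res Γ'.subtype Λ) c).2 hc
    have hz : groupCohomology.H1π (Rep.res Γ'.subtype Λ) ⟨c, hmem⟩ = 0 := by
      haveI := ModuleCat.subsingleton_of_isZero (h Γ')
      exact Subsingleton.elim _ _
    obtain ⟨a, ha⟩ := (groupCohomology.H1π_eq_zero_iff _).1 hz
    refine ⟨a, fun γ => ?_⟩
    have h3 := congrFun ha γ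
    rw [groupCohomology.d₀₁_hom_apply] at h3
    exact h3.symm
  · intro h Γ'
    haveI : Subsingleton (groupCohomology (Rep.res Γ'.subtype Λ) 1) :=
      subsingleton_of_forall_eq 0 (fun y => by
        induction y using groupCohomology.H1_induction_on with
        | h x =>
          rw [groupCohomology.H1π_eq_zero_iff]
          obtain ⟨a, ha⟩ := h Γ' x ((groupCohomology.mem_cocycles₁_iff _).1 x.2)
          exact ⟨a, funext fun γ => by
            rw [groupCohomology.d₀₁_hom_apply]; exact (ha γ).symm⟩)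
    exact ModuleCat.isZero_of_subsingleton _

theorem h1van_of_iso {A B : Rep.{0} ℤ Γ} (α : A ≅ B) (h : H1van B.ρ) : H1van A.ρ := by
  intro Γ' c hc
  obtain ⟨a, ha⟩ := h Γ' (fun γ => α.hom.hom (c γ)) (fun γ δ => by
    show α.hom.hom (c (γ * δ)) = B.ρ γ (α.hom.hom (c δ)) + α.hom.hom (c γ)
    rw [hc, map_add, Rep.hom_comm_apply])
  refine ⟨α.inv.hom a, fun γ => ?_⟩
  have h2 := congrArg α.inv.hom (ha γ)
  rw [Rep.inv_hom_apply, map_sub, Rep.hom_comm_apply] at h2
  exact h2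

theorem main [Finite Γ] (Λ : Rep.{0} ℤ Γ) :
    (∀ Γ' : Subgroup Γ, Limits.IsZero (groupCohomology (Rep.res Γ'.subtype Λ) 1)) ↔
      ∀ (X : Type) [MulAction Γ X] [Finite X] (E : ShortComplex (Rep.{0} ℤ Γ)),
        E.ShortExact → Nonempty (E.X₁ ≅ Λ) → Nonempty (E.X₃ ≅ Rep.ofMulAction ℤ Γ X) →
          Nonempty E.Splitting := by
  rw [h1van_iff]
  constructor
  · intro h X _ _ E hE ⟨α⟩ ⟨β⟩
    have h1 : H1van E.X₁.ρ := h1van_of_iso α h
    haveI := hE.mono_f
    haveI := hE.epi_g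
    have hi : Function.Injective E.f.hom := (Rep.mono_iff_injective E.f).1 inferInstance
    have hp : Function.Surjective (E.g ≫ β.hom).hom :=
      (Rep.epi_iff_surjective (E.g ≫ β.hom)).1 inferInstance
    have hpi : ∀ v, (E.g ≫ β.hom).hom (E.f.hom v) = 0 := by
      intro v
      have h00 : E.g.hom (E.f.hom v) = 0 :=
        congrArg (fun f : E.X₁ ⟶ E.X₃ => f.hom v) E.zero
      show β.hom.hom (E.g.hom (E.f.hom v)) = 0
      rw [h00, map_zero]
    have hex : ∀ e, (E.g ≫ β.hom).hom e = 0 → ∃ v, E.f.hom v = e := by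
      intro e he
      have he' : E.g.hom e = 0 := by
        have h5 : β.hom.hom (E.g.hom e) = 0 := he
        have := congrArg (fun z => β.inv.hom z) h5
        dsimp only at this
        rw [Rep.inv_hom_apply, map_zero] at this
        exact this
      exact (rep_exact_iff E).1 hE.exact e he'
    obtain ⟨s, hs⟩ := exists_section E.X₁.ρ E.X₂.ρ E.f.hom (E.g ≫ β.hom).hom hi hp hpi hex h1
    let s' : Rep.ofMulAction ℤ Γ X ⟶ E.X₂ :=
      (Rep.homEquiv (A := Rep.ofMulAction ℤ Γ X) (B := E.X₂)).symm s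
    have h2 : s' ≫ (E.g ≫ β.hom) = 𝟙 _ := by
      apply Rep.hom_ext
      apply Representation.IntertwiningMap.ext
      apply LinearMap.ext
      intro m
      exact hs m
    have hS : (β.hom ≫ s') ≫ E.g = 𝟙 E.X₃ := by
      calc (β.hom ≫ s') ≫ E.g = β.hom ≫ (s' ≫ (E.g ≫ β.hom)) ≫ β.inv := by simp
        _ = 𝟙 _ := by rw [h2]; simp
    exact ⟨ShortComplex.Splitting.ofExactOfSection E hE.exact (β.hom ≫ s') hS hE.mono_f⟩
  · intro h Γ' c hc
    obtain ⟨spl⟩ := h (Γ ⧸ Γ') (extSC Λ.ρ Γ' hc) (extSC_shortExact Λ.ρ Γ' hc) ⟨Iso.refl _⟩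
      ⟨Iso.refl _⟩
    exact extSC_section Λ.ρ Γ' hc spl

end H10GL
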