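import Mathlib

/-!
# Uniqueness of fibre functors of a Galois category

Every functor from a Galois category to finite sets preserving finite limits and finite colimits
is a fibre functor, and any two fibre functors are isomorphic.
-/

set_option autoImplicit false

open CategoryTheory CategoryTheory.Limits CategoryTheory.PreGaloisCategory

universe w v u

namespace H10Gal

variable {C : Type u} [Category.{v} C] [GaloisCategory C]

section Exact

lemma subsingleton_of_isTerminal (T : FintypeCat.{w}) (hT : IsTerminal T) : Subsingleton T := by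
  refine ⟨fun a b => ?_⟩
  have h := hT.hom_ext
    (FintypeCat.homMk (fun _ : PUnit.{w + 1} => a) : FintypeCat.of PUnit.{w + 1} ⟶ T)
    (FintypeCat.homMk (fun _ => b))
  exact ConcreteCategory.congr_hom h PUnit.unit

lemma nonempty_of_isTerminal (T : FintypeCat.{w}) (hT : IsTerminal T) : Nonempty T :=
  ⟨(hT.from (FintypeCat.of PUnit.{w + 1})) PUnit.unit⟩

/-- The fibre of an equalizer. -/
noncomputable def eqEquiv (G : C ⥤ FintypeCat.{w}) [PreservesFiniteLimits G] {X Y : C}
    (f g : X ⟶ Y) : G.obj (equalizer f g) ≃ { x : G.obj X // G.map f x = G.map g x } :=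
  (PreservesEqualizer.iso (G ⋙ FintypeCat.incl) f g ≪≫
    Types.equalizerIso (G.map f).hom (G.map g).hom).toEquiv

lemma eqEquiv_symm_ι_apply (G : C ⥤ FintypeCat.{w}) [PreservesFiniteLimits G] {X Y : C}
    {f g : X ⟶ Y} (x : G.obj X) (h : G.map f x = G.map g x) :
    G.map (equalizer.ι f g) ((eqEquiv G f g).symm ⟨x, h⟩) = x := by
  simp only [eqEquiv, Functor.comp_map]
  change ((Types.equalizerIso _ _).inv ≫ _ ≫ (G ⋙ FintypeCat.incl).map (equalizer.ι f g)) _ = _
  erw [PreservesEqualizer.iso_inv_ι, Types.equalizerIso_inv_comp_ι]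
  rfl

lemma card_eq_add (G : C ⥤ FintypeCat.{w}) [PreservesColimitsOfShape (Discrete WalkingPair) G]
    {X Y Z : C} (i : X ⟶ Y) (u : Z ⟶ Y) (h : IsColimit (BinaryCofan.mk i u)) :
    Nat.card (G.obj Y) = Nat.card (G.obj X) + Nat.card (G.obj Z) := by
  have e1 : Y ≅ X ⨿ Z := h.coconePointUniqueUpToIso (colimit.isColimit (pair X Z))
  rw [card_fiber_eq_of_iso G e1]
  let e : G.obj (X ⨿ Z) ≃ G.obj X ⊕ G.obj Z := Iso.toEquiv
    <| (PreservesColimitPair.iso (G ⋙ FintypeCat.incl) X Z).symm.trans
    <| Types.binaryCoproductIso (FintypeCat.incl.obj (G.obj X)) (FintypeCat.incl.obj (G.obj Z))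
  rw [← Nat.card_sum]
  exact Nat.card_eq_of_bijective e.toFun (Equiv.bijective e)

variable (F : C ⥤ FintypeCat.{w}) [FiberFunctor F] (F' : C ⥤ FintypeCat.{w})
  [PreservesFiniteLimits F'] [PreservesFiniteColimits F']

include F in
lemma nonempty_of_not_initial (X : C) (h : IsInitial X → False) : Nonempty (F'.obj X) := by
  obtain ⟨x⟩ := (not_initial_iff_fiber_nonempty F X).1 h
  haveI : Subsingleton (F.obj (⊤_ C)) :=
    subsingleton_of_isTerminal _ (IsTerminal.isTerminalObj F _ terminalIsTerminal)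
  haveI hepi : Epi (terminal.from X) := by
    apply Functor.epi_of_epi_map F
    exact ConcreteCategory.epi_of_surjective _ (fun t => ⟨x, Subsingleton.elim _ _⟩)
  have hs : Function.Surjective (F'.map (terminal.from X)) :=
    surjective_of_epi (FintypeCat.incl.map (F'.map (terminal.from X)))
  obtain ⟨t⟩ := nonempty_of_isTerminal _ (IsTerminal.isTerminalObj F' _ terminalIsTerminal)
  obtain ⟨x', -⟩ := hs t
  exact ⟨x'⟩

include F in
lemma isIso_of_mono_of_surjective {X Y : C} (i : X ⟶ Y) [Mono i]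
    (hs : Function.Surjective (F'.map i)) : IsIso i := by
  obtain ⟨Z, u, ⟨h⟩⟩ := PreGaloisCategory.monoInducesIsoOnDirectSummand i
  have hinj : Function.Injective (F'.map i) :=
    ConcreteCategory.injective_of_mono_of_preservesPullback (F'.map i)
  have hXY : Nat.card (F'.obj X) = Nat.card (F'.obj Y) :=
    Nat.card_eq_of_bijective _ ⟨hinj, hs⟩
  have hc' := card_eq_add F' i u h
  have hZ0 : Nat.card (F'.obj Z) = 0 := by omega
  have hZe : IsEmpty (F'.obj Z) := Finite.card_eq_zero_iff.mp hZ0
  have hZi : Nonempty (IsInitial Z) := by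
    by_contra hne
    obtain ⟨z⟩ := nonempty_of_not_initial F F' Z (fun hi => hne ⟨hi⟩)
    exact hZe.false z
  haveI : IsEmpty (F.obj Z) := (initial_iff_fiber_empty F Z).1 hZi
  have hFZ : Nat.card (F.obj Z) = 0 := Finite.card_eq_zero_iff.mpr inferInstance
  have hc := card_eq_add F i u h
  exact isIso_of_mono_of_eq_card_fiber F i (by omega)

include F in
lemma reflectsIsomorphisms : F'.ReflectsIsomorphisms where
  reflects {X Y} f hf := by
    have hbij : Function.Bijective (F'.map f) := ConcreteCategory.bijective_of_isIso (F'.map f)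
    haveI : Mono f := ⟨fun {W} g h hgh => by
      haveI : IsIso (equalizer.ι g h) := by
        apply isIso_of_mono_of_surjective F F'
        intro t
        have ht : F'.map g t = F'.map h t := by
          apply hbij.1
          rw [← FintypeCat.comp_apply, ← FintypeCat.comp_apply, ← F'.map_comp, ← F'.map_comp,
            hgh]
        exact ⟨(eqEquiv F' g h).symm ⟨t, ht⟩, eqEquiv_symm_ι_apply F' t ht⟩
      exact eq_of_epi_equalizer⟩
    exact isIso_of_mono_of_surjective F F' f hbij.2

include F in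
/-- An exact functor to finite sets is a fibre functor. -/
theorem fiberFunctorOfExact : FiberFunctor F' where
  preservesQuotientsByFiniteGroups G _ _ := by
    choose G' hg hf he using Finite.exists_type_univ_nonempty_mulEquiv.{v, 0} G
    exact Limits.preservesColimitsOfShape_of_equiv he.some.toSingleObjEquiv.symm F'
  reflectsIsos := reflectsIsomorphisms F F'

end Exact

section Uniq

variable (F F' : C ⥤ FintypeCat.{w}) [FiberFunctor F] [FiberFunctor F']

lemma isCofilteredOrEmpty : IsCofilteredOrEmpty (PointedGaloisObject F) where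
  cone_objs := fun ⟨A, a, _⟩ ⟨B, b, _⟩ ↦ by
    obtain ⟨Z, f, z, hgal, hfz⟩ := exists_hom_from_galois_of_fiber F (A ⨯ B)
      <| (fiberBinaryProductEquiv F A B).symm (a, b)
    refine ⟨⟨Z, z, hgal⟩, ⟨f ≫ prod.fst, ?_⟩, ⟨f ≫ prod.snd, ?_⟩, trivial⟩
    · simp only [F.map_comp, hfz, FintypeCat.comp_apply, fiberBinaryProductEquiv_symm_fst_apply]
    · simp only [F.map_comp, hfz, FintypeCat.comp_apply, fiberBinaryProductEquiv_symm_snd_apply]
  cone_maps := fun ⟨A, a, _⟩ ⟨B, b, _⟩ ⟨f, hf⟩ ⟨g, hg⟩ ↦ by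
    obtain ⟨Z, h, z, hgal, hhz⟩ := exists_hom_from_galois_of_fiber F A a
    refine ⟨⟨Z, z, hgal⟩, ⟨h, hhz⟩, PointedGaloisObject.hom_ext ?_⟩
    apply evaluation_injective_of_isConnected F Z B z
    simp [hhz, hf, hg]

/-- The system of fibres of `F'` over the pointed Galois objects of `F`. -/
def sys : PointedGaloisObject F ⥤ Type w :=
  PointedGaloisObject.incl F ⋙ F' ⋙ FintypeCat.incl

lemma exists_compatible : ∃ s : ∀ j : PointedGaloisObject F, F'.obj j.obj,
    ∀ {j k : PointedGaloisObject F} (u : j ⟶ k), F'.map u.val (s j) = s k := by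
  haveI := isCofilteredOrEmpty F
  haveI : ∀ j, Finite ((sys F F').obj j) := fun j => inferInstanceAs (Finite (F'.obj j.obj))
  haveI : ∀ j, Nonempty ((sys F F').obj j) := fun j => inferInstanceAs (Nonempty (F'.obj j.obj))
  obtain ⟨s, hs⟩ := nonempty_sections_of_finite_cofiltered_system (sys F F')
  exact ⟨s, fun u => hs u⟩

theorem nonempty_iso : Nonempty (F ≅ F') := by
  obtain ⟨s, hs⟩ := exists_compatible F F'
  haveI := isCofilteredOrEmpty F
  have hrep : ∀ (X : C) (x : F.obj X),
      ∃ (j : PointedGaloisObject F) (f : j.obj ⟶ X), F.map f j.pt = x := by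
    intro X x
    obtain ⟨Y, i, y, h1, _, _⟩ := fiber_in_connected_component F X x
    obtain ⟨Z, f, z, hgal, hfz⟩ := exists_hom_from_galois_of_fiber F Y y
    exact ⟨⟨Z, z, hgal⟩, f ≫ i, by
      show F.map (f ≫ i) z = x
      rw [F.map_comp, FintypeCat.comp_apply, hfz, h1]⟩
  have hindep : ∀ {X : C} (j k : PointedGaloisObject F) (f : j.obj ⟶ X) (g : k.obj ⟶ X),
      F.map f j.pt = F.map g k.pt → F'.map f (s j) = F'.map g (s k) := by
    intro X j k f g h
    obtain ⟨l, u, v, -⟩ := IsCofilteredOrEmpty.cone_objs j k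
    have huv : u.val ≫ f = v.val ≫ g := by
      apply evaluation_injective_of_isConnected F l.obj X l.pt
      show F.map (u.val ≫ f) l.pt = F.map (v.val ≫ g) l.pt
      rw [F.map_comp, F.map_comp, FintypeCat.comp_apply, FintypeCat.comp_apply, u.comp, v.comp,
        h]
    calc F'.map f (s j) = F'.map f (F'.map u.val (s l)) := by rw [hs u]
      _ = F'.map (u.val ≫ f) (s l) := by rw [F'.map_comp, FintypeCat.comp_apply]
      _ = F'.map (v.val ≫ g) (s l) := by rw [huv]
      _ = F'.map g (F'.map v.val (s l)) := by rw [F'.map_comp, FintypeCat.comp_apply]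
      _ = F'.map g (s k) := by rw [hs v]
  let θ : ∀ X : C, F.obj X → F'.obj X :=
    fun X x => F'.map (hrep X x).choose_spec.choose (s (hrep X x).choose)
  have hθ : ∀ (X : C) (j : PointedGaloisObject F) (f : j.obj ⟶ X),
      θ X (F.map f j.pt) = F'.map f (s j) := by
    intro X j f
    exact hindep _ _ _ _ (hrep X (F.map f j.pt)).choose_spec.choose_spec
  have hnat : ∀ {X Y : C} (h : X ⟶ Y) (x : F.obj X), θ Y (F.map h x) = F'.map h (θ X x) := by
    intro X Y h x
    obtain ⟨j, f, rfl⟩ := hrep X x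
    have e : F.map h (F.map f j.pt) = F.map (f ≫ h) j.pt := by
      rw [F.map_comp, FintypeCat.comp_apply]
    rw [e, hθ, hθ, F'.map_comp, FintypeCat.comp_apply]
  have hinj : ∀ X, Function.Injective (θ X) := by
    intro X x y hxy
    obtain ⟨j, f, rfl⟩ := hrep X x
    obtain ⟨k, g, rfl⟩ := hrep X y
    rw [hθ, hθ] at hxy
    obtain ⟨l, u, v, -⟩ := IsCofilteredOrEmpty.cone_objs j k
    have huv : u.val ≫ f = v.val ≫ g := by
      apply evaluation_injective_of_isConnected F' l.obj X (s l)
      show F'.map (u.val ≫ f) (s l) = F'.map (v.val ≫ g) (s l)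
      rw [F'.map_comp, F'.map_comp, FintypeCat.comp_apply, FintypeCat.comp_apply, hs u, hs v,
        hxy]
    calc F.map f j.pt = F.map f (F.map u.val l.pt) := by rw [u.comp]
      _ = F.map (u.val ≫ f) l.pt := by rw [F.map_comp, FintypeCat.comp_apply]
      _ = F.map (v.val ≫ g) l.pt := by rw [huv]
      _ = F.map g (F.map v.val l.pt) := by rw [F.map_comp, FintypeCat.comp_apply]
      _ = F.map g k.pt := by rw [v.comp]
  have hsurj : ∀ X, Function.Surjective (θ X) := by
    intro X x'
    obtain ⟨Y, i, y', hy', hY, _⟩ := fiber_in_connected_component F' X x'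
    haveI := hY
    obtain ⟨y⟩ := nonempty_fiber_of_isConnected F Y
    obtain ⟨Z, f, z, hgal, hfz⟩ := exists_hom_from_galois_of_fiber F Y y
    haveI := hgal
    let j : PointedGaloisObject F := ⟨Z, z, hgal⟩
    obtain ⟨t, ht⟩ := surjective_of_nonempty_fiber_of_isConnected F' f y'
    obtain ⟨σ, hσ⟩ := MulAction.exists_smul_eq (Aut Z) (s j) t
    have hσ' : F'.map σ.hom (s j) = t := hσ
    refine ⟨F.map (σ.hom ≫ f ≫ i) j.pt, ?_⟩
    rw [hθ X j (σ.hom ≫ f ≫ i), F'.map_comp, F'.map_comp, FintypeCat.comp_apply,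
      FintypeCat.comp_apply, hσ', ht, hy']
  exact ⟨NatIso.ofComponents
    (fun X => FintypeCat.equivEquivIso (Equiv.ofBijective (θ X) ⟨hinj X, hsurj X⟩))
    (fun {X Y} h => by
      ext x
      exact hnat h x)⟩

end Uniq

theorem nonempty_iso_of_exact (F : C ⥤ FintypeCat.{w}) [FiberFunctor F]
    (F' : C ⥤ FintypeCat.{w}) [PreservesFiniteLimits F'] [PreservesFiniteColimits F'] :
    Nonempty (F' ≅ F) := by
  haveI := fiberFunctorOfExact F F'
  obtain ⟨e⟩ := nonempty_iso F F'
  exact ⟨e.symm⟩

end H10Gal
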