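import Mathlib

/-!
# Exact functors on a Galois category with nonempty values on non-initial objects are fibre functors
-/

set_option autoImplicit false

namespace H10GF

open CategoryTheory CategoryTheory.Limits CategoryTheory.PreGaloisCategory

universe w v u

variable {C : Type u} [Category.{v} C] [GaloisCategory C]

section G

variable (G : C ⥤ FintypeCat.{w})

lemma map_comp_apply {X Y Z : C} (f : X ⟶ Y) (g : Y ⟶ Z) (x : G.obj X) :
    G.map (f ≫ g) x = G.map g (G.map f x) := by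
  rw [G.map_comp]; rfl

lemma map_id_apply (X : C) (x : G.obj X) : G.map (𝟙 X) x = x := by
  rw [G.map_id]; rfl

section Lim

variable [PreservesFiniteLimits G]

/-- fibre of an equalizer -/
noncomputable def eqEquiv {X Y : C} (f g : X ⟶ Y) :
    G.obj (equalizer f g) ≃ { x : G.obj X // G.map f x = G.map g x } :=
  (PreservesEqualizer.iso (G ⋙ FintypeCat.incl) f g ≪≫
    Types.equalizerIso (G.map f).hom (G.map g).hom).toEquiv

/-- fibre of a binary product -/
noncomputable def prodEquiv (X Y : C) : G.obj (X ⨯ Y) ≃ G.obj X × G.obj Y :=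
  (PreservesLimitPair.iso (G ⋙ FintypeCat.incl) X Y ≪≫
  Types.binaryProductIso (G.obj X) (G.obj Y)).toEquiv

lemma prodEquiv_symm_fst_apply {X Y : C} (x : G.obj X) (y : G.obj Y) :
    G.map prod.fst ((prodEquiv G X Y).symm (x, y)) = x := by
  simp only [prodEquiv]
  change ((Types.binaryProductIso _ _).inv ≫ _ ≫ (G ⋙ FintypeCat.incl).map prod.fst) _ = _
  erw [PreservesLimitPair.iso_inv_fst, Types.binaryProductIso_inv_comp_fst]
  rfl

lemma prodEquiv_symm_snd_apply {X Y : C} (x : G.obj X) (y : G.obj Y) :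
    G.map prod.snd ((prodEquiv G X Y).symm (x, y)) = y := by
  simp only [prodEquiv]
  change ((Types.binaryProductIso _ _).inv ≫ _ ≫ (G ⋙ FintypeCat.incl).map prod.snd) _ = _
  erw [PreservesLimitPair.iso_inv_snd, Types.binaryProductIso_inv_comp_snd]
  rfl

lemma prod_ext {X Y : C} (p q : G.obj (X ⨯ Y)) (h₁ : G.map prod.fst p = G.map prod.fst q)
    (h₂ : G.map prod.snd p = G.map prod.snd q) : p = q := by
  apply (prodEquiv G X Y).injective
  have key : ∀ r : G.obj (X ⨯ Y), prodEquiv G X Y r = (G.map prod.fst r, G.map prod.snd r) := by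
    intro r
    obtain ⟨⟨b, c⟩, rfl⟩ := (prodEquiv G X Y).symm.surjective r
    rw [Equiv.apply_symm_apply, prodEquiv_symm_fst_apply, prodEquiv_symm_snd_apply]
  rw [key, key, h₁, h₂]

end Lim

section Coprod

variable [PreservesColimitsOfShape (Discrete WalkingPair) G]

lemma jointly_surjective {X Y Z : C} (v : Y ⟶ X) (u : Z ⟶ X)
    (h : IsColimit (BinaryCofan.mk v u)) (x : G.obj X) :
    (∃ y, G.map v y = x) ∨ (∃ z, G.map u z = x) := by
  classical
  by_contra hne
  rw [not_or] at hne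
  have hc : IsColimit (BinaryCofan.mk (G.map v) (G.map u)) :=
    isColimitMapCoconeBinaryCofanEquiv G v u (isColimitOfPreserves G h)
  obtain ⟨g₁, hg₁⟩ : ∃ g₁ : G.obj X ⟶ FintypeCat.of (ULift.{w} Bool), ∀ t, g₁ t = ⟨false⟩ :=
    ⟨FintypeCat.homMk (fun _ => ⟨false⟩), fun _ => rfl⟩
  obtain ⟨g₂, hg₂⟩ : ∃ g₂ : G.obj X ⟶ FintypeCat.of (ULift.{w} Bool),
      ∀ t, g₂ t = ⟨decide (t = x)⟩ :=
    ⟨FintypeCat.homMk (fun t => ⟨decide (t = x)⟩), fun _ => rfl⟩
  have h12 : g₁ = g₂ := by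
    apply BinaryCofan.IsColimit.hom_ext hc
    · apply FintypeCat.hom_ext
      intro y
      show g₁ (G.map v y) = g₂ (G.map v y)
      rw [hg₁, hg₂, decide_eq_false (fun e => hne.1 ⟨y, e⟩)]
    · apply FintypeCat.hom_ext
      intro z
      show g₁ (G.map u z) = g₂ (G.map u z)
      rw [hg₁, hg₂, decide_eq_false (fun e => hne.2 ⟨z, e⟩)]
  have h3 : g₁ x = g₂ x := by rw [h12]
  rw [hg₁, hg₂, decide_eq_true rfl] at h3
  exact Bool.false_ne_true (congrArg ULift.down h3)

lemma isEmpty_of_isInitial {X : C} (hX : IsInitial X) : IsEmpty (G.obj X) := by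
  rw [← not_nonempty_iff]
  rintro ⟨t⟩
  have h : IsColimit (BinaryCofan.mk (𝟙 X) (𝟙 X)) :=
    BinaryCofan.isColimitMk (fun s => s.inl) (fun s => Category.id_comp _)
      (fun s => hX.hom_ext _ _) (fun s m h₁ _ => by rw [← h₁]; exact (Category.id_comp m).symm)
  have hc : IsColimit (BinaryCofan.mk (G.map (𝟙 X)) (G.map (𝟙 X))) :=
    isColimitMapCoconeBinaryCofanEquiv G (𝟙 X) (𝟙 X) (isColimitOfPreserves G h)
  obtain ⟨g₁, hg₁⟩ : ∃ g₁ : G.obj X ⟶ FintypeCat.of (ULift.{w} Bool), ∀ t, g₁ t = ⟨false⟩ :=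
    ⟨FintypeCat.homMk (fun _ => ⟨false⟩), fun _ => rfl⟩
  obtain ⟨g₂, hg₂⟩ : ∃ g₂ : G.obj X ⟶ FintypeCat.of (ULift.{w} Bool), ∀ t, g₂ t = ⟨true⟩ :=
    ⟨FintypeCat.homMk (fun _ => ⟨true⟩), fun _ => rfl⟩
  obtain ⟨l, hl₁, hl₂⟩ := BinaryCofan.IsColimit.desc' hc g₁ g₂
  have h12 : g₁ = g₂ := hl₁.symm.trans hl₂
  have h3 : g₁ t = g₂ t := by rw [h12]
  rw [hg₁, hg₂] at h3
  exact Bool.false_ne_true (congrArg ULift.down h3)

end Coprod

variable [PreservesFiniteLimits G] [PreservesColimitsOfShape (Discrete WalkingPair) G]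

lemma eval_injective (Z X : C) [IsConnected Z] (z : G.obj Z) (p q : Z ⟶ X)
    (h : G.map p z = G.map q z) : p = q := by
  have : IsIso (equalizer.ι p q) := by
    apply IsConnected.noTrivialComponent _ (equalizer.ι p q)
    intro hi
    exact (isEmpty_of_isInitial G hi).false ((eqEquiv G p q).symm ⟨z, h⟩)
  exact eq_of_epi_equalizer

variable (F : C ⥤ FintypeCat.{w}) [FiberFunctor F]

lemma exists_connected_sub (n : ℕ) : ∀ (X : C), Nat.card (F.obj X) = n → ∀ x : G.obj X,
    ∃ (Y : C) (i : Y ⟶ X) (y : G.obj Y), Mono i ∧ IsConnected Y ∧ G.map i y = x := by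
  induction n using Nat.strongRecOn with | _ n ih
  intro X hn x
  by_cases hconn : IsConnected X
  · exact ⟨X, 𝟙 X, x, inferInstance, hconn, map_id_apply G X x⟩
  by_cases nhi : IsInitial X → False
  · obtain ⟨Y, v, hni, hvmono, hvnoiso⟩ :=
      has_non_trivial_subobject_of_not_isConnected_of_not_initial X hconn nhi
    haveI := hvmono
    obtain ⟨Z, u, ⟨c⟩⟩ := PreGaloisCategory.monoInducesIsoOnDirectSummand v
    have hn1 : Nat.card (F.obj Y) < n := by
      rw [← hn]
      exact lt_card_fiber_of_mono_of_notIso F v hvnoiso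
    have i : X ≅ Y ⨿ Z := (colimit.isoColimitCocone ⟨BinaryCofan.mk v u, c⟩).symm
    have hnn : Nat.card (F.obj X) = Nat.card (F.obj Y) + Nat.card (F.obj Z) := by
      rw [card_fiber_eq_of_iso F i]
      exact card_fiber_coprod_eq_sum F Y Z
    have hn2 : Nat.card (F.obj Z) < n := by
      rw [← hn, hnn, lt_add_iff_pos_left]
      exact Nat.pos_of_ne_zero (non_zero_card_fiber_of_not_initial F Y hni)
    haveI hu : Mono u := MonoCoprod.binaryCofan_inr (BinaryCofan.mk v u) c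
    rcases jointly_surjective G v u c x with ⟨y, hy⟩ | ⟨z, hz⟩
    · obtain ⟨Y', i', y', hm, hc', he⟩ := ih _ hn1 Y rfl y
      haveI := hm
      exact ⟨Y', i' ≫ v, y', mono_comp _ _, hc', by rw [map_comp_apply, he, hy]⟩
    · obtain ⟨Y', i', y', hm, hc', he⟩ := ih _ hn2 Z rfl z
      haveI := hm
      exact ⟨Y', i' ≫ u, y', mono_comp _ _, hc', by rw [map_comp_apply, he, hz]⟩
  · have hX : Nonempty (IsInitial X) := by
      by_contra h
      exact nhi (fun hi => h ⟨hi⟩)
    obtain ⟨hX⟩ := hX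
    exact ((isEmpty_of_isInitial G hX).false x).elim

end G

section Section

variable (F : C ⥤ FintypeCat.{w}) [FiberFunctor F]

lemma isCofilteredOrEmpty : IsCofilteredOrEmpty (PointedGaloisObject F) where
  cone_objs := fun ⟨A, a, _⟩ ⟨B, b, _⟩ ↦ by
    obtain ⟨Z, f, z, hgal, hfz⟩ := exists_hom_from_galois_of_fiber F (A ⨯ B)
      <| (fiberBinaryProductEquiv F A B).symm (a, b)
    refine ⟨⟨Z, z, hgal⟩, ⟨f ≫ prod.fst, ?_⟩, ⟨f ≫ prod.snd, ?_⟩, trivial⟩
    · simp only [F.map_comp, hfz, FintypeCat.comp_apply, fiberBinaryProductEquiv_symm_fst_apply]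
    · simp only [F.map_comp, hfz, FintypeCat.comp_apply, fiberBinaryProductEquiv_symm_snd_apply]
  cone_maps := fun ⟨A, a, _⟩ ⟨B, b, _⟩ ⟨f, hf⟩ ⟨g, hg⟩ ↦ by
    obtain ⟨Z, h, z, hgal, hhz⟩ := exists_hom_from_galois_of_fiber F A a
    refine ⟨⟨Z, z, hgal⟩, ⟨h, hhz⟩, PointedGaloisObject.hom_ext ?_⟩
    apply evaluation_injective_of_isConnected F Z B z
    show F.map (h ≫ f) z = F.map (h ≫ g) z
    rw [map_comp_apply, map_comp_apply, hhz, hf, hg]

variable (G : C ⥤ FintypeCat.{w}) (hG : ∀ X : C, IsEmpty (G.obj X) → Nonempty (IsInitial X))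

include hG in
lemma exists_section : ∃ s : ∀ A : PointedGaloisObject F, G.obj A.obj,
    ∀ {A B : PointedGaloisObject F} (f : A ⟶ B), G.map f.val (s A) = s B := by
  haveI := isCofilteredOrEmpty F
  haveI : ∀ A : PointedGaloisObject F,
      Nonempty ((PointedGaloisObject.incl F ⋙ G ⋙ FintypeCat.incl).obj A) := by
    intro A
    by_contra hne
    rw [not_nonempty_iff] at hne
    obtain ⟨hi⟩ := hG A.obj hne
    exact IsConnected.notInitial hi
  haveI : ∀ A : PointedGaloisObject F,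
      Finite ((PointedGaloisObject.incl F ⋙ G ⋙ FintypeCat.incl).obj A) :=
    fun A => inferInstanceAs (Finite (G.obj A.obj))
  obtain ⟨s, hs⟩ := nonempty_sections_of_finite_cofiltered_system
    (PointedGaloisObject.incl F ⋙ G ⋙ FintypeCat.incl)
  exact ⟨s, fun f => hs f⟩

variable {F G}

variable {s : ∀ A : PointedGaloisObject F, G.obj A.obj}
  (hs : ∀ {A B : PointedGaloisObject F} (f : A ⟶ B), G.map f.val (s A) = s B)

include hs in
lemma key {X : C} (A B : PointedGaloisObject F) (f : A.obj ⟶ X) (g : B.obj ⟶ X)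
    (h : F.map f A.pt = F.map g B.pt) : G.map f (s A) = G.map g (s B) := by
  haveI := isCofilteredOrEmpty F
  obtain ⟨Z, u, v, _⟩ := IsCofilteredOrEmpty.cone_objs A B
  have huv : u.val ≫ f = v.val ≫ g := by
    apply evaluation_injective_of_isConnected F Z.obj X Z.pt
    show F.map (u.val ≫ f) Z.pt = F.map (v.val ≫ g) Z.pt
    rw [map_comp_apply, map_comp_apply, u.comp, v.comp, h]
  rw [← hs u, ← hs v, ← map_comp_apply, ← map_comp_apply, huv]

variable (F) in
lemma exists_rep (X : C) (x : F.obj X) :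
    ∃ (A : PointedGaloisObject F) (f : A.obj ⟶ X), F.map f A.pt = x := by
  obtain ⟨A, f, a, hA, hf⟩ := exists_hom_from_galois_of_fiber F X x
  exact ⟨⟨A, a, hA⟩, f, hf⟩

variable (s) in
/-- the comparison map -/
noncomputable def tauFun (X : C) (x : F.obj X) : G.obj X :=
  G.map (exists_rep F X x).choose_spec.choose (s (exists_rep F X x).choose)

include hs in
lemma tauFun_eq {X : C} (A : PointedGaloisObject F) (f : A.obj ⟶ X) :
    tauFun s X (F.map f A.pt) = G.map f (s A) :=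
  key hs _ _ _ _ (exists_rep F X (F.map f A.pt)).choose_spec.choose_spec

include hs in
lemma tauFun_naturality {X Y : C} (h : X ⟶ Y) (x : F.obj X) :
    tauFun s Y (F.map h x) = G.map h (tauFun s X x) := by
  obtain ⟨A, f, rfl⟩ := exists_rep F X x
  rw [← map_comp_apply F, tauFun_eq hs A (f ≫ h), tauFun_eq hs A f, map_comp_apply]

variable [PreservesFiniteLimits G] [PreservesColimitsOfShape (Discrete WalkingPair) G]

include hs in
lemma tauFun_injective (X : C) : Function.Injective (tauFun s X) := by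
  intro x y hxy
  obtain ⟨A, f, rfl⟩ := exists_rep F X x
  obtain ⟨B, g, rfl⟩ := exists_rep F X y
  rw [tauFun_eq hs A f, tauFun_eq hs B g] at hxy
  haveI := isCofilteredOrEmpty F
  obtain ⟨Z, u, v, _⟩ := IsCofilteredOrEmpty.cone_objs A B
  rw [← hs u, ← hs v, ← map_comp_apply, ← map_comp_apply] at hxy
  have huv : u.val ≫ f = v.val ≫ g := eval_injective G Z.obj X (s Z) _ _ hxy
  rw [← u.comp, ← v.comp, ← map_comp_apply, ← map_comp_apply, huv]

include hs in
lemma tauFun_surjective_of_isConnected (X : C) [IsConnected X] (x' : G.obj X) :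
    ∃ x, tauFun s X x = x' := by
  obtain ⟨A, a, hA, hbij⟩ := exists_galois_representative F X
  haveI := hA
  obtain ⟨AA, hAA⟩ : ∃ AA : PointedGaloisObject F, AA = ⟨A, a, hA⟩ := ⟨_, rfl⟩
  obtain ⟨p, hp⟩ : ∃ p : G.obj (A ⨯ X), p = (prodEquiv G A X).symm (s ⟨A, a, hA⟩, x') := ⟨_, rfl⟩
  have hp1 : G.map prod.fst p = s ⟨A, a, hA⟩ := by rw [hp]; exact prodEquiv_symm_fst_apply G _ _
  have hp2 : G.map prod.snd p = x' := by rw [hp]; exact prodEquiv_symm_snd_apply G _ _
  obtain ⟨Y, i, y', hm, hY, hy'⟩ := exists_connected_sub G F _ (A ⨯ X) rfl p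
  haveI := hm
  haveI := hY
  obtain ⟨y⟩ : Nonempty (F.obj Y) := nonempty_fiber_of_isConnected F Y
  obtain ⟨a₁, ha₁⟩ : ∃ a₁ : F.obj A, a₁ = F.map (i ≫ prod.fst) y := ⟨_, rfl⟩
  obtain ⟨σ, hσ⟩ := evaluation_aut_surjective_of_isGalois F A a a₁
  obtain ⟨g, hg⟩ := hbij.surjective (F.map (i ≫ prod.snd) y)
  have hσ' : F.map σ.hom a = a₁ := hσ
  have hg' : F.map g a = F.map (i ≫ prod.snd) y := hg
  have hf : F.map (σ.inv ≫ g) a₁ = F.map (i ≫ prod.snd) y := by
    rw [← hσ', ← map_comp_apply, Iso.hom_inv_id_assoc, hg']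
  haveI : Mono (prod.lift (𝟙 A) (σ.inv ≫ g)) := mono_of_mono_fac (prod.lift_fst (𝟙 A) (σ.inv ≫ g))
  have hΓ : F.map (prod.lift (𝟙 A) (σ.inv ≫ g)) a₁ = F.map i y := by
    apply prod_ext F
    · rw [← map_comp_apply, prod.lift_fst, map_id_apply, ← map_comp_apply, ha₁]
    · rw [← map_comp_apply, prod.lift_snd, hf, ← map_comp_apply]
  obtain ⟨e, he⟩ := connected_component_unique F a₁ y (prod.lift (𝟙 A) (σ.inv ≫ g)) i hΓ
  have hΓi : prod.lift (𝟙 A) (σ.inv ≫ g) = e.hom ≫ i := by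
    apply evaluation_injective_of_isConnected F A (A ⨯ X) a₁
    show F.map (prod.lift (𝟙 A) (σ.inv ≫ g)) a₁ = F.map (e.hom ≫ i) a₁
    rw [hΓ, map_comp_apply, he]
  have ht : G.map (prod.lift (𝟙 A) (σ.inv ≫ g)) (G.map e.inv y') = p := by
    rw [hΓi, ← map_comp_apply, Iso.inv_hom_id_assoc, hy']
  have ht1 : G.map e.inv y' = s ⟨A, a, hA⟩ := by
    have h1 := congrArg (fun r => G.map prod.fst r) ht
    simp only at h1
    rwa [← map_comp_apply, prod.lift_fst, map_id_apply, hp1] at h1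
  have ht2 : G.map (σ.inv ≫ g) (s ⟨A, a, hA⟩) = x' := by
    have h2 := congrArg (fun r => G.map prod.snd r) ht
    simp only at h2
    rwa [← map_comp_apply, prod.lift_snd, ht1, hp2] at h2
  refine ⟨F.map (σ.inv ≫ g) a, ?_⟩
  have h3 := tauFun_eq hs ⟨A, a, hA⟩ (σ.inv ≫ g)
  exact h3.trans ht2

include hs in
lemma tauFun_surjective (X : C) : Function.Surjective (tauFun s X) := by
  intro x'
  obtain ⟨Y, i, y', hm, hY, hy'⟩ := exists_connected_sub G F _ X rfl x'
  haveI := hY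
  obtain ⟨y, hy⟩ := tauFun_surjective_of_isConnected hs Y y'
  exact ⟨F.map i y, by rw [tauFun_naturality hs, hy, hy']⟩

end Section

theorem main (F : C ⥤ FintypeCat.{w}) [FiberFunctor F] (F' : C ⥤ FintypeCat.{w})
    [PreservesFiniteLimits F'] [PreservesColimitsOfShape (Discrete WalkingPair) F']
    (h : ∀ X : C, IsEmpty (F'.obj X) → Nonempty (IsInitial X)) : Nonempty (F' ≅ F) := by
  obtain ⟨s, hs⟩ := exists_section F F' h
  refine ⟨(NatIso.ofComponents (fun X => FintypeCat.equivEquivIso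
    (Equiv.ofBijective (tauFun s X) ⟨tauFun_injective hs X, tauFun_surjective hs X⟩)) ?_).symm⟩
  intro X Y f
  apply FintypeCat.hom_ext
  intro x
  show tauFun s Y (F.map f x) = F'.map f (tauFun s X x)
  exact tauFun_naturality hs f x

end H10GF
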