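import Mathlib
import Groth.Agent.Lib.Helper27.KosH1Inv
import Groth.Agent.Lib.Helper8.ComplDim
import Groth.Agent.Lib.Helper26.LenBC
import Groth.Agent.Lib.Helper20.KosH1BC

set_option autoImplicit false
universe u
open IsLocalRing Groth.Agent.Lib.Helper27.KosH1

namespace Groth.Agent.Lib.Helper10.GeomDepthInv

open Groth.Agent.Lib.Helper26.LenBC Groth.Agent.Lib.Helper20.KosH1BC

/-- Lemma K: the geometric depth through any generating family of the maximal ideal. -/
theorem lemmaK (R B : Type u) [CommRing R] [IsLocalRing R] [CommRing B] [IsRegularLocalRing B]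
    (f : B →+* R) (hf : Function.Surjective f) (e : ℕ) (he : ringKrullDim B = e)
    (ι : Type u) [Fintype ι] (y : ι → R) (hy : Ideal.span (Set.range y) = maximalIdeal R) :
    (Fintype.card ι : ℕ∞) + ((RingHom.ker f).spanFinrank : ℕ∞) =
      (e : ℕ∞) + Module.length R (H (Fintype.linearCombination R y)) := by
  obtain ⟨κ, _, x, hcard, hx, hK⟩ := exists_koszul_family B he
  have hfx : Ideal.span (Set.range (fun i => f (x i))) = maximalIdeal R := by
    rw [← IsLocalRing.map_maximalIdeal_of_surjective f hf, ← hx, Ideal.map_span]
    congr 1
    ext a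
    simp
  have e1 : ((RingHom.ker f).spanFinrank : ℕ∞) =
      Module.length R (H (Fintype.linearCombination R (fun i => f (x i)))) := by
    letI := f.toAlgebra
    exact spanFinrank_ker_eq_length (A := R) hf x hx hK (le_maximalIdeal (RingHom.ker_ne_top f))
  have key := length_H_lc_add κ ι (fun i => f (x i)) y hfx hy
  rw [← e1, hcard] at key
  exact key

/-- T12: length of the first Koszul homology is invariant under flat local base change with
`𝔪_A C = 𝔪_C`. -/
theorem length_H_baseChange {A C : Type u} [CommRing A] [CommRing C] [IsLocalRing A]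
    [IsLocalRing C] [IsNoetherianRing A] [Algebra A C] [Module.Flat A C]
    (hm : (maximalIdeal A).map (algebraMap A C) = maximalIdeal C)
    {ι : Type u} [Fintype ι] (y : ι → A) (hy : Ideal.span (Set.range y) = maximalIdeal A) :
    Module.length C (H (Fintype.linearCombination C (fun i => algebraMap A C (y i)))) =
      Module.length A (H (Fintype.linearCombination A y)) := by
  obtain ⟨e⟩ := nonempty_baseChange_H_equiv (C := C) y
  rw [← e.length_eq]
  refine length_baseChange_of_flat hm _ ?_
  -- `H` is killed by the maximal ideal
  intro a ha z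
  obtain ⟨z, rfl⟩ := Submodule.Quotient.mk_surjective _ z
  rw [← Submodule.Quotient.mk_smul, Submodule.Quotient.mk_eq_zero]
  have hr : LinearMap.range (Fintype.linearCombination A y) = maximalIdeal A := by
    rw [Fintype.range_linearCombination]; exact hy
  rw [← hr] at ha
  obtain ⟨u, rfl⟩ := ha
  show ((Fintype.linearCombination A y) u • z : ↥(LinearMap.ker (Fintype.linearCombination A y))).1 ∈
    Bd (Fintype.linearCombination A y)
  have hz : (Fintype.linearCombination A y) z.1 = 0 := z.2
  have := gen_mem_Bd (Fintype.linearCombination A y) u z.1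
  rw [hz, zero_smul, sub_zero] at this
  exact this

theorem span_range_map {A C : Type u} [CommRing A] [CommRing C] [IsLocalRing A] [IsLocalRing C]
    [Algebra A C] (hm : (maximalIdeal A).map (algebraMap A C) = maximalIdeal C)
    {ι : Type u} (y : ι → A) (hy : Ideal.span (Set.range y) = maximalIdeal A) :
    Ideal.span (Set.range (fun i => algebraMap A C (y i))) = maximalIdeal C := by
  rw [← hm, ← hy, Ideal.map_span]
  congr 1
  ext a
  simp

end Groth.Agent.Lib.Helper10.GeomDepthInv
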