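import Mathlib
import Groth.Prelude.Def_StGerb2
import Groth.Agent.Lib.Helper10.GerbeLoc

/-!
# Extending a natural transformation `Φ ⟹ 𝟭` from a locally covering sieve-like class of objects

* `exists_extension`: for a stack `𝒳`, an endofunctor `Φ` over the base and a class `Q` of objects
  closed under sources of morphisms and locally covering every object, a family of morphisms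
  `τ z : Φ z ⟶ z` (`z` in `Q`) over identities, natural for all morphisms, extends to a family
  `ρ y : Φ y ⟶ y` for all objects, natural on fibres.
* `exists_fiberwise_iso_id`: the application to gerbes with a global object.
-/

set_option autoImplicit false
set_option linter.style.haveILetI false
set_option backward.isDefEq.respectTransparency false
set_option backward.isDefEq.respectTransparency.types false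

universe v₂ u₂ v u

open CategoryTheory Functor

namespace Groth.Agent.Lib.Helper10.GerbeExt

open Groth.Agent.Lib.Helper10.Fib Groth.Agent.Lib.Helper10.Gerbe Groth.Agent.Lib.Helper10
  Groth.Agent.Lib.Helper10.GerbeLoc

variable {C : Type u} [Category.{v} C] (J : GrothendieckTopology C)
  {𝒳 : BasedCategory.{v₂, u₂} C}

/-- The sieve of arrows along which `y` has a pullback in the class `Q`. -/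
def goodSieve (h𝒳 : FibCat.IsFibGrpd 𝒳.p) (Q : 𝒳.obj → Prop)
    (hQ : ∀ ⦃w z : 𝒳.obj⦄ (_ : w ⟶ z), Q z → Q w) (y : 𝒳.obj) (U : C) : Sieve U where
  arrows V f := ∃ (y₀ : 𝒳.obj) (χ : y₀ ⟶ y), 𝒳.p.IsHomLift f χ ∧ Q y₀
  downward_closed := by
    rintro V W f ⟨y₀, χ, hχ, hq⟩ k
    haveI := hχ
    obtain ⟨y₁, κ, hκ⟩ := IsFibGrpd.exists_lift' h𝒳 (IsHomLift.domain_eq 𝒳.p f χ) k
    haveI := hκ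
    exact ⟨y₁, κ ≫ χ, inferInstance, hQ κ hq⟩

lemma decomp_unique (hX : FibCat.IsFibGrpd 𝒳.p) (Φ : 𝒳 ⥤ᵇ 𝒳) (Q : 𝒳.obj → Prop)
    (hQ : ∀ ⦃w z : 𝒳.obj⦄ (_ : w ⟶ z), Q z → Q w)
    (τ : ∀ z : 𝒳.obj, Q z → (Φ.obj z ⟶ z))
    (hτ2 : ∀ ⦃w z : 𝒳.obj⦄ (κ : w ⟶ z) (hz : Q z), Φ.map κ ≫ τ z hz = τ w (hQ κ hz) ≫ κ)
    {y w : 𝒳.obj} {V U : C} (f : V ⟶ U) (ξ : w ⟶ Φ.obj y) [𝒳.p.IsHomLift f ξ]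
    {z z' : 𝒳.obj} (hz : Q z) (hz' : Q z') (χ : z ⟶ y) (χ' : z' ⟶ y) (θ : w ⟶ Φ.obj z)
    (θ' : w ⟶ Φ.obj z') [𝒳.p.IsHomLift (𝟙 V) θ] [𝒳.p.IsHomLift (𝟙 V) θ']
    (e : θ ≫ Φ.map χ = ξ) (e' : θ' ≫ Φ.map χ' = ξ) :
    θ ≫ τ z hz ≫ χ = θ' ≫ τ z' hz' ≫ χ' := by
  have key : ∀ {z₀ : 𝒳.obj} (χ₀ : z₀ ⟶ y) (θ₀ : w ⟶ Φ.obj z₀) [𝒳.p.IsHomLift (𝟙 V) θ₀],
      θ₀ ≫ Φ.map χ₀ = ξ → 𝒳.p.IsHomLift f χ₀ := by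
    intro z₀ χ₀ θ₀ _ e₀
    haveI : IsIso θ₀ := IsFibGrpd.isIso_of_isHomLift_id hX (U := V) θ₀
    have e1 : Φ.map χ₀ = inv θ₀ ≫ ξ := (IsIso.eq_inv_comp θ₀).2 e₀
    have : 𝒳.p.IsHomLift f (Φ.map χ₀) := by rw [e1]; infer_instance
    exact (BasedFunctor.isHomLift_iff Φ f χ₀).1 this
  haveI := key χ θ e
  haveI := key χ' θ' e'
  obtain ⟨ι, hι, eι⟩ := exists_factor hX f χ χ'
  haveI := hι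
  haveI sc : 𝒳.p.IsStronglyCartesian f (Φ.map χ') := IsFibGrpd.sc hX _ _
  have e2 : θ ≫ Φ.map ι = θ' := by
    apply IsStronglyCartesian.ext 𝒳.p f (Φ.map χ') (𝟙 V)
    rw [Category.assoc, ← CategoryTheory.Functor.map_comp, eι, e, e']
  have nat := hτ2 ι hz'
  rw [← e2, Category.assoc, ← Category.assoc (Φ.map ι), nat, Category.assoc, eι]

theorem exists_extension (h𝒳 : Stk.IsStack J 𝒳) (Φ : 𝒳 ⥤ᵇ 𝒳) (Q : 𝒳.obj → Prop)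
    (hQ : ∀ ⦃w z : 𝒳.obj⦄ (_ : w ⟶ z), Q z → Q w)
    (hloc : ∀ (y : 𝒳.obj) (U : C), 𝒳.p.obj y = U → goodSieve h𝒳.1 Q hQ y U ∈ J U)
    (τ : ∀ z : 𝒳.obj, Q z → (Φ.obj z ⟶ z))
    (hτ1 : ∀ (z : 𝒳.obj) (hz : Q z), 𝒳.p.IsHomLift (𝟙 (𝒳.p.obj z)) (τ z hz))
    (hτ2 : ∀ ⦃w z : 𝒳.obj⦄ (κ : w ⟶ z) (hz : Q z), Φ.map κ ≫ τ z hz = τ w (hQ κ hz) ≫ κ) :
    ∃ ρ : ∀ y : 𝒳.obj, Φ.obj y ⟶ y, (∀ y, 𝒳.p.IsHomLift (𝟙 (𝒳.p.obj y)) (ρ y)) ∧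
      (∀ ⦃z y : 𝒳.obj⦄ (χ : z ⟶ y) (hz : Q z), Φ.map χ ≫ ρ y = τ z hz ≫ χ) ∧
      (∀ ⦃y y' : 𝒳.obj⦄ (f₀ : y ⟶ y'), 𝒳.p.IsHomLift (𝟙 (𝒳.p.obj y)) f₀ →
        Φ.map f₀ ≫ ρ y' = ρ y ≫ f₀) := by
  have hX := h𝒳.1
  have stepA : ∀ y : 𝒳.obj, ∃ ρ : Φ.obj y ⟶ y, 𝒳.p.IsHomLift (𝟙 (𝒳.p.obj y)) ρ ∧
      ∀ ⦃z : 𝒳.obj⦄ (χ : z ⟶ y) (hz : Q z), Φ.map χ ≫ ρ = τ z hz ≫ χ := by
    intro y
    have hR := hloc y _ rfl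
    have hex : ∀ ⦃V : C⦄ (f : V ⟶ 𝒳.p.obj y), (goodSieve hX Q hQ y (𝒳.p.obj y)).arrows f →
        ∀ (w : 𝒳.obj) (ξ : w ⟶ Φ.obj y), 𝒳.p.IsHomLift f ξ →
        ∃ μ : w ⟶ y, 𝒳.p.IsHomLift f μ ∧ ∃ (z : 𝒳.obj) (hz : Q z) (χ : z ⟶ y)
          (θ : w ⟶ Φ.obj z), 𝒳.p.IsHomLift (𝟙 (𝒳.p.obj w)) θ ∧ θ ≫ Φ.map χ = ξ ∧
            μ = θ ≫ τ z hz ≫ χ := by
      rintro V f ⟨y₀, χ, hχ, hq⟩ w ξ hξ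
      haveI := hχ
      haveI := hξ
      obtain ⟨θ, hθ, eθ⟩ := exists_factor hX f ξ (Φ.map χ)
      haveI := hθ
      have hw : 𝒳.p.obj w = V := IsHomLift.domain_eq 𝒳.p f ξ
      have hy₀ : 𝒳.p.obj y₀ = V := IsHomLift.domain_eq 𝒳.p f χ
      have hθ' : 𝒳.p.IsHomLift (𝟙 (𝒳.p.obj w)) θ := isHomLift_id_of_eq 𝒳.p hw.symm θ
      haveI hτV : 𝒳.p.IsHomLift (𝟙 V) (τ y₀ hq) := by
        haveI := hτ1 y₀ hq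
        exact isHomLift_id_of_eq 𝒳.p hy₀ _
      exact ⟨θ ≫ τ y₀ hq ≫ χ, inferInstance, y₀, hq, χ, θ, hθ', eθ, rfl⟩
    have huniq : ∀ ⦃V : C⦄ (f : V ⟶ 𝒳.p.obj y), (goodSieve hX Q hQ y (𝒳.p.obj y)).arrows f →
        ∀ (w : 𝒳.obj) (ξ : w ⟶ Φ.obj y) (μ μ' : w ⟶ y), 𝒳.p.IsHomLift f ξ →
        𝒳.p.IsHomLift f μ → 𝒳.p.IsHomLift f μ' →
        (∃ (z : 𝒳.obj) (hz : Q z) (χ : z ⟶ y) (θ : w ⟶ Φ.obj z),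
          𝒳.p.IsHomLift (𝟙 (𝒳.p.obj w)) θ ∧ θ ≫ Φ.map χ = ξ ∧ μ = θ ≫ τ z hz ≫ χ) →
        (∃ (z : 𝒳.obj) (hz : Q z) (χ : z ⟶ y) (θ : w ⟶ Φ.obj z),
          𝒳.p.IsHomLift (𝟙 (𝒳.p.obj w)) θ ∧ θ ≫ Φ.map χ = ξ ∧ μ' = θ ≫ τ z hz ≫ χ) →
        μ = μ' := by
      rintro V f - w ξ μ μ' hξ - - ⟨z, hz, χ, θ, hθ, e, rfl⟩ ⟨z', hz', χ', θ', hθ', e', rfl⟩
      haveI := hξ
      have hw : 𝒳.p.obj w = V := IsHomLift.domain_eq 𝒳.p f ξ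
      haveI h1 : 𝒳.p.IsHomLift (𝟙 V) θ := by
        haveI := hθ; exact isHomLift_id_of_eq 𝒳.p hw θ
      haveI h2 : 𝒳.p.IsHomLift (𝟙 V) θ' := by
        haveI := hθ'; exact isHomLift_id_of_eq 𝒳.p hw θ'
      exact decomp_unique hX Φ Q hQ τ hτ2 f ξ hz hz' χ χ' θ θ' e e'
    have hcomp : ∀ ⦃w w₁ : 𝒳.obj⦄ (ξ : w ⟶ Φ.obj y) (μ : w ⟶ y) (κ : w₁ ⟶ w),
        (∃ (z : 𝒳.obj) (hz : Q z) (χ : z ⟶ y) (θ : w ⟶ Φ.obj z),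
          𝒳.p.IsHomLift (𝟙 (𝒳.p.obj w)) θ ∧ θ ≫ Φ.map χ = ξ ∧ μ = θ ≫ τ z hz ≫ χ) →
        (∃ (z : 𝒳.obj) (hz : Q z) (χ : z ⟶ y) (θ : w₁ ⟶ Φ.obj z),
          𝒳.p.IsHomLift (𝟙 (𝒳.p.obj w₁)) θ ∧ θ ≫ Φ.map χ = κ ≫ ξ ∧
            κ ≫ μ = θ ≫ τ z hz ≫ χ) := by
      rintro w w₁ ξ μ κ ⟨z, hz, χ, θ, hθ, e, rfl⟩
      haveI := hθ
      obtain ⟨k, hk⟩ : ∃ k : 𝒳.p.obj w₁ ⟶ 𝒳.p.obj w, k = 𝒳.p.map κ := ⟨_, rfl⟩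
      haveI lκ : 𝒳.p.IsHomLift k κ := by rw [hk]; exact IsHomLift.map 𝒳.p κ
      have hzw : 𝒳.p.obj z = 𝒳.p.obj w :=
        (Φ.w_obj z).symm.trans (IsHomLift.codomain_eq 𝒳.p (𝟙 _) θ)
      obtain ⟨z₁, l, hl⟩ := IsFibGrpd.exists_lift' hX hzw k
      haveI := hl
      obtain ⟨θ₁, hθ₁, eθ₁⟩ := exists_factor hX k (κ ≫ θ) (Φ.map l)
      have nat := hτ2 l hz
      refine ⟨z₁, hQ l hz, l ≫ χ, θ₁, hθ₁, ?_, ?_⟩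
      · rw [CategoryTheory.Functor.map_comp, ← Category.assoc, eθ₁, Category.assoc, e]
      · calc κ ≫ θ ≫ τ z hz ≫ χ = (κ ≫ θ) ≫ τ z hz ≫ χ := by rw [Category.assoc]
          _ = (θ₁ ≫ Φ.map l) ≫ τ z hz ≫ χ := by rw [eθ₁]
          _ = θ₁ ≫ (Φ.map l ≫ τ z hz) ≫ χ := by simp only [Category.assoc]
          _ = θ₁ ≫ (τ z₁ (hQ l hz) ≫ l) ≫ χ := by rw [nat]
          _ = θ₁ ≫ τ z₁ (hQ l hz) ≫ l ≫ χ := by simp only [Category.assoc]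
    obtain ⟨n, hn, Hn⟩ := HomSheaf.glue _ hX (HomSheaf.full_of_isStack _ J h𝒳 hR)
      (Φ.w_obj y) rfl
      (fun ⦃w⦄ ξ μ => ∃ (z : 𝒳.obj) (hz : Q z) (χ : z ⟶ y) (θ : w ⟶ Φ.obj z),
        𝒳.p.IsHomLift (𝟙 (𝒳.p.obj w)) θ ∧ θ ≫ Φ.map χ = ξ ∧ μ = θ ≫ τ z hz ≫ χ)
      hex huniq hcomp
    refine ⟨n, hn, ?_⟩
    intro z χ hz
    obtain ⟨f, hf⟩ : ∃ f : 𝒳.p.obj z ⟶ 𝒳.p.obj y, f = 𝒳.p.map χ := ⟨_, rfl⟩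
    haveI lχ : 𝒳.p.IsHomLift f χ := by rw [hf]; exact IsHomLift.map 𝒳.p χ
    have hfR : (goodSieve hX Q hQ y (𝒳.p.obj y)).arrows f := ⟨z, χ, lχ, hz⟩
    obtain ⟨z', hz', χ', θ, hθ, e, e2⟩ := Hn f hfR (Φ.obj z) (Φ.map χ) inferInstance
    haveI h1 : 𝒳.p.IsHomLift (𝟙 (𝒳.p.obj z)) θ := by
      haveI := hθ; exact isHomLift_id_of_eq 𝒳.p (Φ.w_obj z) θ
    haveI h2 : 𝒳.p.IsHomLift (𝟙 (𝒳.p.obj z)) (𝟙 (Φ.obj z)) := IsHomLift.id (Φ.w_obj z)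
    have := decomp_unique hX Φ Q hQ τ hτ2 f (Φ.map χ) hz' hz χ' χ θ (𝟙 (Φ.obj z)) e
      (Category.id_comp _)
    rw [e2, this, Category.id_comp]
  choose ρ hρ1 hρ2 using stepA
  refine ⟨ρ, hρ1, fun z y χ hz => hρ2 y χ hz, ?_⟩
  intro y y' f₀ hf₀
  haveI := hf₀
  have hy' : 𝒳.p.obj y' = 𝒳.p.obj y := IsHomLift.codomain_eq 𝒳.p (𝟙 _) f₀
  haveI := hρ1 y
  haveI hρy' : 𝒳.p.IsHomLift (𝟙 (𝒳.p.obj y)) (ρ y') := by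
    haveI := hρ1 y'; exact isHomLift_id_of_eq 𝒳.p hy' _
  have hR := hloc y _ rfl
  refine HomSheaf.sep _ hX (HomSheaf.faithful_of_isStack _ J h𝒳 hR) (Φ.w_obj y)
    (Φ.map f₀ ≫ ρ y') (ρ y ≫ f₀) inferInstance inferInstance ?_
  rintro V f ⟨y₀, χ, hχ, hq⟩ w ξ hξ
  haveI := hχ
  haveI := hξ
  obtain ⟨θ, hθ, eθ⟩ := exists_factor hX f ξ (Φ.map χ)
  have K1 := hρ2 y χ hq
  have K2 := hρ2 y' (χ ≫ f₀) hq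
  calc ξ ≫ Φ.map f₀ ≫ ρ y' = θ ≫ (Φ.map (χ ≫ f₀) ≫ ρ y') := by
        rw [← eθ, CategoryTheory.Functor.map_comp]; simp only [Category.assoc]
    _ = θ ≫ (Φ.map χ ≫ ρ y) ≫ f₀ := by rw [K2, K1]; simp only [Category.assoc]
    _ = ξ ≫ ρ y ≫ f₀ := by rw [← eθ]; simp only [Category.assoc]

theorem exists_fiberwise_iso_id (h𝒳 : Gerb.IsGerbe J 𝒳) (Φ : 𝒳 ⥤ᵇ 𝒳) (x : 𝒳.obj)
    (hT : ∀ U : C, Nonempty (U ⟶ 𝒳.p.obj x))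
    (hterm : ∀ (U : C) (a b : U ⟶ 𝒳.p.obj x), a = b)
    (g : Φ.obj x ⟶ x) (hg : 𝒳.p.IsHomLift (𝟙 (𝒳.p.obj x)) g)
    (hconj : ∀ (x' : 𝒳.obj) (c : x' ⟶ x) (g' : Φ.obj x' ⟶ x'),
      𝒳.p.IsHomLift (𝟙 (𝒳.p.obj x')) g' → Φ.map c ≫ g = g' ≫ c →
      ∀ α : Gerb.AutO x', Φ.map α.hom.1 ≫ g' = g' ≫ α.hom.1) :
    ∃ ρ : ∀ y : 𝒳.obj, Φ.obj y ⟶ y,
      (∀ y, IsIso (ρ y) ∧ 𝒳.p.IsHomLift (𝟙 (𝒳.p.obj y)) (ρ y)) ∧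
      (∀ ⦃z : 𝒳.obj⦄ (c : z ⟶ x), Φ.map c ≫ g = ρ z ≫ c) ∧
      (∀ ⦃z y : 𝒳.obj⦄ (χ : z ⟶ y), Nonempty (z ⟶ x) → Φ.map χ ≫ ρ y = ρ z ≫ χ) ∧
      (∀ (y y' : 𝒳.obj) (f : y ⟶ y'), 𝒳.p.IsHomLift (𝟙 (𝒳.p.obj y)) f →
        Φ.map f ≫ ρ y' = ρ y ≫ f) := by
  have hX := h𝒳.1.1
  haveI := hg
  have R1 : ∀ z : 𝒳.obj, Nonempty (z ⟶ x) → ∃ γ : Φ.obj z ⟶ z,
      𝒳.p.IsHomLift (𝟙 (𝒳.p.obj z)) γ ∧ ∃ c : z ⟶ x, γ ≫ c = Φ.map c ≫ g := by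
    rintro z ⟨c⟩
    obtain ⟨h, hh⟩ : ∃ h : 𝒳.p.obj z ⟶ 𝒳.p.obj x, h = 𝒳.p.map c := ⟨_, rfl⟩
    haveI lc : 𝒳.p.IsHomLift h c := by rw [hh]; exact IsHomLift.map 𝒳.p c
    obtain ⟨γ, hγ, eγ⟩ := exists_factor hX h (Φ.map c ≫ g) c
    exact ⟨γ, hγ, c, eγ⟩
  have R2 : ∀ (z : 𝒳.obj) (γ : Φ.obj z ⟶ z), 𝒳.p.IsHomLift (𝟙 (𝒳.p.obj z)) γ →
      (∃ c : z ⟶ x, γ ≫ c = Φ.map c ≫ g) → ∀ c' : z ⟶ x, γ ≫ c' = Φ.map c' ≫ g := by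
    rintro z γ hγ ⟨c, e⟩ c'
    obtain ⟨h, hh⟩ : ∃ h : 𝒳.p.obj z ⟶ 𝒳.p.obj x, h = 𝒳.p.map c := ⟨_, rfl⟩
    haveI lc : 𝒳.p.IsHomLift h c := by rw [hh]; exact IsHomLift.map 𝒳.p c
    haveI lc' : 𝒳.p.IsHomLift h c' := by
      rw [hterm _ h (𝒳.p.map c')]; exact IsHomLift.map 𝒳.p c'
    obtain ⟨α, hα, eα⟩ := exists_factor hX h c' c
    have hc' : Φ.map α ≫ γ = γ ≫ α := hconj z c γ hγ e.symm (autOfHom hX α hα)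
    calc γ ≫ c' = (γ ≫ α) ≫ c := by rw [← eα, Category.assoc]
      _ = (Φ.map α ≫ γ) ≫ c := by rw [hc']
      _ = Φ.map α ≫ Φ.map c ≫ g := by rw [Category.assoc, e]
      _ = Φ.map c' ≫ g := by rw [← eα, CategoryTheory.Functor.map_comp, Category.assoc]
  have R3 : ∀ ⦃w z : 𝒳.obj⦄ (κ : w ⟶ z) (γ : Φ.obj z ⟶ z) (γ₁ : Φ.obj w ⟶ w),
      𝒳.p.IsHomLift (𝟙 (𝒳.p.obj z)) γ → (∃ c : z ⟶ x, γ ≫ c = Φ.map c ≫ g) →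
      𝒳.p.IsHomLift (𝟙 (𝒳.p.obj w)) γ₁ → (∃ c : w ⟶ x, γ₁ ≫ c = Φ.map c ≫ g) →
      Φ.map κ ≫ γ = γ₁ ≫ κ := by
    rintro w z κ γ γ₁ hγ ⟨c, e⟩ hγ₁ h₁
    haveI := hγ
    haveI := hγ₁
    have e₁ := R2 w γ₁ hγ₁ h₁ (κ ≫ c)
    obtain ⟨h, hh⟩ : ∃ h : 𝒳.p.obj z ⟶ 𝒳.p.obj x, h = 𝒳.p.map c := ⟨_, rfl⟩
    haveI lc : 𝒳.p.IsHomLift h c := by rw [hh]; exact IsHomLift.map 𝒳.p c
    obtain ⟨k, hk⟩ : ∃ k : 𝒳.p.obj w ⟶ 𝒳.p.obj z, k = 𝒳.p.map κ := ⟨_, rfl⟩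
    haveI lκ : 𝒳.p.IsHomLift k κ := by rw [hk]; exact IsHomLift.map 𝒳.p κ
    haveI sc : 𝒳.p.IsStronglyCartesian h c := IsFibGrpd.sc hX _ _
    apply IsStronglyCartesian.ext 𝒳.p h c k
    rw [Category.assoc, e, Category.assoc, e₁, CategoryTheory.Functor.map_comp, Category.assoc]
  obtain ⟨τ, hτ⟩ : ∃ τ : ∀ z : 𝒳.obj, Nonempty (z ⟶ x) → (Φ.obj z ⟶ z),
      ∀ (z : 𝒳.obj) (hz : Nonempty (z ⟶ x)), 𝒳.p.IsHomLift (𝟙 (𝒳.p.obj z)) (τ z hz) ∧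
        ∃ c : z ⟶ x, τ z hz ≫ c = Φ.map c ≫ g :=
    ⟨fun z hz => Classical.choose (R1 z hz), fun z hz => Classical.choose_spec (R1 z hz)⟩
  have hQ : ∀ ⦃w z : 𝒳.obj⦄ (_ : w ⟶ z), Nonempty (z ⟶ x) → Nonempty (w ⟶ x) :=
    fun w z κ ⟨c⟩ => ⟨κ ≫ c⟩
  have hloc : ∀ (y : 𝒳.obj) (U : C), 𝒳.p.obj y = U →
      goodSieve hX (fun z => Nonempty (z ⟶ x)) hQ y U ∈ J U := fun y U hy =>
    J.superset_covering (fun V f hf => hf) (trivSieve_mem J h𝒳 x hT y U hy)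
  obtain ⟨ρ, h1, h2, h3⟩ := exists_extension J h𝒳.1 Φ (fun z => Nonempty (z ⟶ x)) hQ hloc τ
    (fun z hz => (hτ z hz).1)
    (fun w z κ hz => R3 κ (τ z hz) (τ w (hQ κ hz)) (hτ z hz).1 (hτ z hz).2
      (hτ w (hQ κ hz)).1 (hτ w (hQ κ hz)).2)
  have hρτ : ∀ (z : 𝒳.obj) (hz : Nonempty (z ⟶ x)), ρ z = τ z hz := by
    intro z hz
    have e1 := h2 (𝟙 z) hz
    rw [CategoryTheory.Functor.map_id, Category.id_comp, Category.comp_id] at e1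
    exact e1
  refine ⟨ρ, fun y => ⟨?_, h1 y⟩, ?_, ?_, fun y y' f hf => h3 f hf⟩
  · haveI := h1 y
    exact IsFibGrpd.isIso_of_isHomLift_id hX (U := 𝒳.p.obj y) (ρ y)
  · intro z c
    have hz : Nonempty (z ⟶ x) := ⟨c⟩
    rw [hρτ z hz]
    exact (R2 z (τ z hz) (hτ z hz).1 (hτ z hz).2 c).symm
  · intro z y χ hz
    rw [hρτ z hz]
    exact h2 χ hz

end Groth.Agent.Lib.Helper10.GerbeExt
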