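import Mathlib
import Groth.Prelude.Def_StGerb2
import Groth.Agent.Lib.Helper10.GerbeExt

/-!
# Mutually quasi-inverse functors between gerbes, fibrewise

`exists_fiberwise_iso_id_comp`: for functors `φ : 𝒳 ⟶ 𝒴`, `ψ : 𝒴 ⟶ 𝒳` between gerbes with a global
object `x` of `𝒳` such that `φ` is surjective on automorphism groups along `x` and `ψ ∘ φ` is
compatible with an isomorphism `g : ψ φ x ⟶ x`, the composite `φ ∘ ψ` is isomorphic to the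
identity on every fibre of `𝒴`.
-/

set_option autoImplicit false
set_option linter.style.haveILetI false
set_option backward.isDefEq.respectTransparency false
set_option backward.isDefEq.respectTransparency.types false

universe v₂ u₂ v₃ u₃ v u

open CategoryTheory Functor

namespace Groth.Agent.Lib.Helper10.GerbeExt

open Groth.Agent.Lib.Helper10.Fib Groth.Agent.Lib.Helper10.Gerbe Groth.Agent.Lib.Helper10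
  Groth.Agent.Lib.Helper10.GerbeLoc

variable {C : Type u} [Category.{v} C] (J : GrothendieckTopology C)
  {𝒳 : BasedCategory.{v₂, u₂} C} {𝒴 : BasedCategory.{v₃, u₃} C}

/-- Objects of `𝒴` isomorphic over the identity to the image of a pullback of `x`. -/
def QImg (φ : 𝒳 ⥤ᵇ 𝒴) (x : 𝒳.obj) (z : 𝒴.obj) : Prop :=
  ∃ (x' : 𝒳.obj) (e : φ.obj x' ≅ z), Nonempty (x' ⟶ x) ∧ 𝒴.p.IsHomLift (𝟙 (𝒴.p.obj z)) e.hom

theorem exists_fiberwise_iso_id_comp (h𝒳 : Gerb.IsGerbe J 𝒳) (h𝒴 : Gerb.IsGerbe J 𝒴)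
    (φ : 𝒳 ⥤ᵇ 𝒴) (ψ : 𝒴 ⥤ᵇ 𝒳) (x : 𝒳.obj)
    (hT : ∀ U : C, Nonempty (U ⟶ 𝒳.p.obj x))
    (hterm : ∀ (U : C) (a b : U ⟶ 𝒳.p.obj x), a = b)
    (hφ : ∀ (x' : 𝒳.obj) (_ : x' ⟶ x), Function.Surjective (Gerb.autMap φ x'))
    (g : ψ.obj (φ.obj x) ⟶ x) (hg : 𝒳.p.IsHomLift (𝟙 (𝒳.p.obj x)) g)
    (hconj : ∀ (x' : 𝒳.obj) (c : x' ⟶ x) (g' : ψ.obj (φ.obj x') ⟶ x'),
      𝒳.p.IsHomLift (𝟙 (𝒳.p.obj x')) g' → ψ.map (φ.map c) ≫ g = g' ≫ c →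
      ∀ α : Gerb.AutO x', ψ.map (φ.map α.hom.1) ≫ g' = g' ≫ α.hom.1) :
    ∃ σ : ∀ z : 𝒴.obj, φ.obj (ψ.obj z) ⟶ z,
      (∀ z, IsIso (σ z) ∧ 𝒴.p.IsHomLift (𝟙 (𝒴.p.obj z)) (σ z)) ∧
      (∀ (z z' : 𝒴.obj) (f : z ⟶ z'), 𝒴.p.IsHomLift (𝟙 (𝒴.p.obj z)) f →
        φ.map (ψ.map f) ≫ σ z' = σ z ≫ f) := by
  have hX := h𝒳.1.1
  have hY := h𝒴.1.1
  obtain ⟨ρ, hρ1, -, hρ4, -⟩ :=
    exists_fiberwise_iso_id J h𝒳 (BasedFunctor.comp φ ψ) x hT hterm g hg hconj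
  have lift_of_term : ∀ {z : 𝒳.obj} (c : z ⟶ x) {V : C} (_ : 𝒳.p.obj z = V)
      (k : V ⟶ 𝒳.p.obj x), 𝒳.p.IsHomLift k c := by
    intro z c V hz k
    subst hz
    rw [hterm _ k (𝒳.p.map c)]
    exact IsHomLift.map 𝒳.p c
  have full_triv : ∀ (x₁ x₂ : 𝒳.obj), (x₁ ⟶ x) → (x₂ ⟶ x) → ∀ b : φ.obj x₁ ⟶ φ.obj x₂,
      ∃ a : x₁ ⟶ x₂, φ.map a = b := by
    intro x₁ x₂ c₁ c₂ b
    obtain ⟨h, hh⟩ : ∃ h : 𝒴.p.obj (φ.obj x₁) ⟶ 𝒴.p.obj (φ.obj x₂), h = 𝒴.p.map b := ⟨_, rfl⟩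
    haveI lb : 𝒴.p.IsHomLift h b := by rw [hh]; exact IsHomLift.map 𝒴.p b
    obtain ⟨k₂⟩ := hT (𝒴.p.obj (φ.obj x₂))
    haveI l2 : 𝒳.p.IsHomLift k₂ c₂ := lift_of_term c₂ (φ.w_obj x₂).symm k₂
    haveI l1 : 𝒳.p.IsHomLift (h ≫ k₂) c₁ := lift_of_term c₁ (φ.w_obj x₁).symm (h ≫ k₂)
    haveI sc : 𝒳.p.IsStronglyCartesian k₂ c₂ := IsFibGrpd.sc hX _ _
    obtain ⟨a, ⟨ha, -⟩, -⟩ :=
      IsStronglyCartesian.universal_property 𝒳.p k₂ c₂ h (h ≫ k₂) rfl c₁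
    haveI := ha
    obtain ⟨β, hβ, eβ⟩ := exists_factor hY h b (φ.map a)
    obtain ⟨α, hα, eα⟩ :=
      exists_of_autMap_surjective φ hY (hφ x₁ c₁) (φ.w_obj x₁).symm β hβ
    exact ⟨α ≫ a, by rw [CategoryTheory.Functor.map_comp, eα, eβ]⟩
  have lemN : ∀ (x₁ x₂ : 𝒳.obj), (x₁ ⟶ x) → (x₂ ⟶ x) → ∀ b : φ.obj x₁ ⟶ φ.obj x₂,
      φ.map (ψ.map b) ≫ φ.map (ρ x₂) = φ.map (ρ x₁) ≫ b := by
    intro x₁ x₂ c₁ c₂ b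
    obtain ⟨a, rfl⟩ := full_triv x₁ x₂ c₁ c₂ b
    have e' : ψ.map (φ.map a) ≫ ρ x₂ = ρ x₁ ≫ a := hρ4 a ⟨c₁⟩
    rw [← CategoryTheory.Functor.map_comp, e', CategoryTheory.Functor.map_comp]
  have hQ : ∀ ⦃w z : 𝒴.obj⦄ (_ : w ⟶ z), QImg φ x z → QImg φ x w := by
    rintro w z κ ⟨x', e, ⟨c⟩, he⟩
    haveI := he
    obtain ⟨k, hk⟩ : ∃ k : 𝒴.p.obj w ⟶ 𝒴.p.obj z, k = 𝒴.p.map κ := ⟨_, rfl⟩
    haveI lκ : 𝒴.p.IsHomLift k κ := by rw [hk]; exact IsHomLift.map 𝒴.p κ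
    have hx' : 𝒳.p.obj x' = 𝒴.p.obj z :=
      (φ.w_obj x').symm.trans (IsHomLift.domain_eq 𝒴.p (𝟙 _) e.hom)
    obtain ⟨x'', l, hl⟩ := IsFibGrpd.exists_lift' hX hx' k
    haveI := hl
    obtain ⟨e'', he'', -⟩ := exists_factor_iso hY k (φ.map l ≫ e.hom) κ
    exact ⟨x'', e'', ⟨l ≫ c⟩, he''⟩
  have hloc : ∀ (y : 𝒴.obj) (U : C), 𝒴.p.obj y = U →
      goodSieve hY (QImg φ x) hQ y U ∈ J U := by
    intro y U hy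
    obtain ⟨t⟩ := hT U
    obtain ⟨xU, σ₀, hσ₀⟩ := IsFibGrpd.exists_lift' hX (rfl : 𝒳.p.obj x = _) t
    haveI := hσ₀
    have hxU : 𝒳.p.obj xU = U := IsHomLift.domain_eq 𝒳.p t σ₀
    refine J.superset_covering ?_
      (pairSieve_mem J h𝒴 y (φ.obj xU) U hy ((φ.w_obj xU).trans hxU))
    rintro V f ⟨y₀, a, a', ha, ha'⟩
    haveI := ha
    haveI := ha'
    obtain ⟨xV, l, hl⟩ := IsFibGrpd.exists_lift' hX hxU f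
    haveI := hl
    obtain ⟨θ, hθ, -⟩ := exists_factor_iso hY f (φ.map l) a'
    have hy₀ : 𝒴.p.obj y₀ = V := IsHomLift.domain_eq 𝒴.p f a
    haveI := hθ
    have hθ' : 𝒴.p.IsHomLift (𝟙 (𝒴.p.obj y₀)) θ.hom := isHomLift_id_of_eq 𝒴.p hy₀.symm _
    exact ⟨y₀, a, ha, xV, θ, ⟨l ≫ σ₀⟩, hθ'⟩
  obtain ⟨X', E, hE1, hE2⟩ : ∃ (X' : ∀ z : 𝒴.obj, QImg φ x z → 𝒳.obj)
      (E : ∀ (z : 𝒴.obj) (hz : QImg φ x z), φ.obj (X' z hz) ≅ z),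
      (∀ (z : 𝒴.obj) (hz : QImg φ x z), Nonempty (X' z hz ⟶ x)) ∧
      (∀ (z : 𝒴.obj) (hz : QImg φ x z), 𝒴.p.IsHomLift (𝟙 (𝒴.p.obj z)) (E z hz).hom) :=
    ⟨fun z hz => Exists.choose hz, fun z hz => Exists.choose (Exists.choose_spec hz),
      fun z hz => (Exists.choose_spec (Exists.choose_spec hz)).1,
      fun z hz => (Exists.choose_spec (Exists.choose_spec hz)).2⟩
  have hτ1 : ∀ (z : 𝒴.obj) (hz : QImg φ x z), 𝒴.p.IsHomLift (𝟙 (𝒴.p.obj z))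
      (φ.map (ψ.map (E z hz).inv) ≫ φ.map (ρ (X' z hz)) ≫ (E z hz).hom) := by
    intro z hz
    haveI := hE2 z hz
    have hx' : 𝒳.p.obj (X' z hz) = 𝒴.p.obj z :=
      (φ.w_obj (X' z hz)).symm.trans (IsHomLift.domain_eq 𝒴.p (𝟙 _) (E z hz).hom)
    haveI : 𝒳.p.IsHomLift (𝟙 (𝒴.p.obj z)) (ρ (X' z hz)) := by
      haveI := (hρ1 (X' z hz)).2
      exact isHomLift_id_of_eq 𝒳.p hx' _
    infer_instance
  have hτ2 : ∀ ⦃w z : 𝒴.obj⦄ (κ : w ⟶ z) (hz : QImg φ x z),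
      φ.map (ψ.map κ) ≫ (φ.map (ψ.map (E z hz).inv) ≫ φ.map (ρ (X' z hz)) ≫ (E z hz).hom) =
      (φ.map (ψ.map (E w (hQ κ hz)).inv) ≫ φ.map (ρ (X' w (hQ κ hz))) ≫
        (E w (hQ κ hz)).hom) ≫ κ := by
    intro w z κ hz
    obtain ⟨c₂⟩ := hE1 z hz
    obtain ⟨c₁⟩ := hE1 w (hQ κ hz)
    obtain ⟨b, hb⟩ : ∃ b : φ.obj (X' w (hQ κ hz)) ⟶ φ.obj (X' z hz),
      b = (E w (hQ κ hz)).hom ≫ κ ≫ (E z hz).inv := ⟨_, rfl⟩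
    have N := lemN _ _ c₁ c₂ b
    have key : κ ≫ (E z hz).inv = (E w (hQ κ hz)).inv ≫ b := by
      rw [hb, Iso.inv_hom_id_assoc]
    calc φ.map (ψ.map κ) ≫ (φ.map (ψ.map (E z hz).inv) ≫ φ.map (ρ (X' z hz)) ≫ (E z hz).hom)
        = φ.map (ψ.map (κ ≫ (E z hz).inv)) ≫ φ.map (ρ (X' z hz)) ≫ (E z hz).hom := by
          simp only [CategoryTheory.Functor.map_comp, Category.assoc]
      _ = φ.map (ψ.map ((E w (hQ κ hz)).inv ≫ b)) ≫ φ.map (ρ (X' z hz)) ≫ (E z hz).hom := by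
          rw [key]
      _ = φ.map (ψ.map (E w (hQ κ hz)).inv) ≫ (φ.map (ψ.map b) ≫ φ.map (ρ (X' z hz))) ≫
            (E z hz).hom := by
          simp only [CategoryTheory.Functor.map_comp, Category.assoc]
      _ = φ.map (ψ.map (E w (hQ κ hz)).inv) ≫ (φ.map (ρ (X' w (hQ κ hz))) ≫ b) ≫
            (E z hz).hom := by rw [N]
      _ = (φ.map (ψ.map (E w (hQ κ hz)).inv) ≫ φ.map (ρ (X' w (hQ κ hz))) ≫
            (E w (hQ κ hz)).hom) ≫ κ := by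
          rw [hb]
          simp only [Category.assoc, Iso.inv_hom_id, Category.comp_id]
  obtain ⟨σ, h1, -, h3⟩ := exists_extension J h𝒴.1 (BasedFunctor.comp ψ φ) (QImg φ x) hQ hloc
    (fun z hz => φ.map (ψ.map (E z hz).inv) ≫ φ.map (ρ (X' z hz)) ≫ (E z hz).hom) hτ1 hτ2
  refine ⟨σ, fun z => ⟨?_, h1 z⟩, fun z z' f hf => h3 f hf⟩
  haveI := h1 z
  exact IsFibGrpd.isIso_of_isHomLift_id hY (U := 𝒴.p.obj z) (σ z)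

end Groth.Agent.Lib.Helper10.GerbeExt
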