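import Mathlib
import Groth.Prelude.Def_StGerb
import Groth.Agent.Lib.Helper10.Gerbe
import Groth.Agent.Lib.Helper10.StkElem

/-!
# Gerbes over a stack versus gerbes over the inherited site

If `F : 𝒳 ⟶ 𝒴` is a functor over `C` between categories fibred in groupoids whose underlying
functor is fibred in groupoids and `F` makes `𝒳` a gerbe over `𝒴` (`Gerb.IsGerbeOver J F`), then the
structure functor of `𝒳` viewed as a category over `𝒴` satisfies `Gerb.IsGerbeOver` for the topology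
on `𝒴` inherited from `J`.
-/

set_option autoImplicit false
set_option linter.style.haveILetI false
set_option backward.isDefEq.respectTransparency false
set_option backward.isDefEq.respectTransparency.types false

universe v₂ u₂ v₃ u₃ v u

open CategoryTheory Functor

namespace Groth.Agent.Lib.Helper10.GerbeRestr

open Groth.Agent.Lib.Helper10.Fib Groth.Agent.Lib.Helper10.Gerbe
  Groth.Agent.Lib.Helper10.StkElem

variable {C : Type u} [Category.{v} C] (J : GrothendieckTopology C)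
  {𝒳 : BasedCategory.{v₂, u₂} C} {𝒴 : BasedCategory.{v₃, u₃} C}

theorem locSurjObj_restr (F : 𝒳 ⥤ᵇ 𝒴) (h𝒴 : FibCat.IsFibGrpd 𝒴.p)
    (hF : FibCat.IsFibGrpd F.toFunctor) (h : Gerb.LocSurjObj J F) :
    Gerb.LocSurjObj (𝒴.p.restrictedTopology J)
      (FibCat.toSelf (BasedCategory.ofFunctor F.toFunctor)) := by
  show ∀ y : 𝒴.obj, ∃ R ∈ 𝒴.p.restrictedTopology J y, ∀ ⦃V : 𝒴.obj⦄ (f : V ⟶ y), R f →
    ∃ (x : 𝒳.obj) (g : F.obj x ⟶ y), (𝟭 𝒴.obj).IsHomLift f g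
  intro y
  obtain ⟨R₀, hR₀, H⟩ := h y
  refine ⟨liftSieve (𝒳 := 𝒴) (x := y) rfl R₀, liftSieve_mem J h𝒴 rfl hR₀, ?_⟩
  intro V f hf
  have hf' : R₀ (𝒴.p.map f) := (liftSieve_iff (𝒳 := 𝒴) rfl R₀ f (𝒴.p.map f)).1 hf
  obtain ⟨x, g₀, hg₀⟩ := H (𝒴.p.map f) hf'
  haveI := hg₀
  obtain ⟨θ, hθ, eθ⟩ := exists_factor_iso h𝒴 (𝒴.p.map f) f g₀
  obtain ⟨x', χ, hχ⟩ := IsFibGrpd.exists_lift' hF (rfl : F.toFunctor.obj x = F.obj x) θ.hom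
  haveI := hχ
  have hV : F.obj x' = V := IsHomLift.domain_eq F.toFunctor θ.hom χ
  subst hV
  refine ⟨x', f, ?_⟩
  show (𝟭 𝒴.obj).IsHomLift ((𝟭 𝒴.obj).map f) f
  infer_instance

theorem locSurjHom_restr (F : 𝒳 ⥤ᵇ 𝒴) (h𝒳 : FibCat.IsFibGrpd 𝒳.p) (h𝒴 : FibCat.IsFibGrpd 𝒴.p)
    (hF : FibCat.IsFibGrpd F.toFunctor) (h : Gerb.LocSurjHom J F) :
    Gerb.LocSurjHom (𝒴.p.restrictedTopology J)
      (FibCat.toSelf (BasedCategory.ofFunctor F.toFunctor)) := by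
  show ∀ (x x' : 𝒳.obj) (b : F.obj x ⟶ F.obj x'), (𝟭 𝒴.obj).IsHomLift (𝟙 (F.obj x)) b →
    ∃ R ∈ 𝒴.p.restrictedTopology J (F.obj x), ∀ ⦃V : 𝒴.obj⦄ (f : V ⟶ F.obj x), R f →
      ∃ (x₀ : 𝒳.obj) (φ : x₀ ⟶ x) (ψ : x₀ ⟶ x'),
        F.toFunctor.IsHomLift f φ ∧ F.toFunctor.IsHomLift f ψ ∧ F.map φ ≫ b = F.map ψ
  intro x x' b hb
  haveI := hb
  have hxx' : F.obj x' = F.obj x := IsHomLift.codomain_eq (𝟭 𝒴.obj) (𝟙 (F.obj x)) b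
  have hbe : b = eqToHom hxx'.symm := by
    have := IsHomLift.fac' (𝟭 𝒴.obj) (𝟙 (F.obj x)) b
    simpa using this
  have hb' : 𝒴.p.IsHomLift (𝟙 (𝒴.p.obj (F.obj x))) b := by
    rw [hbe]
    exact IsHomLift.eqToHom_domain_lift_id hxx'.symm rfl
  have hcov := (locSurjHom_iff J F h𝒳 h𝒴).1 h x x' b (𝟙 (𝒴.p.obj (F.obj x))) hb'
  refine ⟨liftSieve (𝒳 := 𝒴) (x := F.obj x) rfl (homSieve F h𝒳 b (𝟙 (𝒴.p.obj (F.obj x)))),
    liftSieve_mem J h𝒴 rfl hcov, ?_⟩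
  intro V f hf
  have hf' : homSieve F h𝒳 b (𝟙 (𝒴.p.obj (F.obj x))) (𝒴.p.map f) :=
    (liftSieve_iff (𝒳 := 𝒴) rfl _ f (𝒴.p.map f)).1 hf
  obtain ⟨x₀, φ₀, ψ₀, hφ₀, -, e⟩ := hf'
  haveI := hφ₀
  haveI : 𝒴.p.IsHomLift (𝒴.p.map f) (F.map φ₀) := inferInstance
  obtain ⟨θ, hθ, eθ⟩ := exists_factor_iso h𝒴 (𝒴.p.map f) f (F.map φ₀)
  obtain ⟨x₁, κ, hκ⟩ := IsFibGrpd.exists_lift' hF (rfl : F.toFunctor.obj x₀ = F.obj x₀) θ.hom
  haveI := hκ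
  have l1 : F.toFunctor.IsHomLift f (κ ≫ φ₀) := by
    have : F.toFunctor.IsHomLift (θ.hom ≫ F.toFunctor.map φ₀) (κ ≫ φ₀) := inferInstance
    rwa [eθ] at this
  refine ⟨x₁, κ ≫ φ₀, κ ≫ ψ₀, l1, ?_, ?_⟩
  · haveI := l1
    apply IsHomLift.of_fac' F.toFunctor f (κ ≫ ψ₀)
      (IsHomLift.domain_eq F.toFunctor f (κ ≫ φ₀)) hxx'
    have h1 := IsHomLift.fac' F.toFunctor f (κ ≫ φ₀)
    have h2 : F.toFunctor.map (κ ≫ ψ₀) = F.toFunctor.map (κ ≫ φ₀) ≫ b := by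
      rw [Functor.map_comp, Functor.map_comp, Category.assoc, e]
    rw [h2, h1, hbe]
    simp
  · rw [Functor.map_comp, Functor.map_comp, Category.assoc, e]

theorem isGerbeOver_restr (F : 𝒳 ⥤ᵇ 𝒴) (h𝒳 : FibCat.IsFibGrpd 𝒳.p) (h𝒴 : FibCat.IsFibGrpd 𝒴.p)
    (hF : FibCat.IsFibGrpd F.toFunctor) (h : Gerb.IsGerbeOver J F) :
    Gerb.IsGerbeOver (𝒴.p.restrictedTopology J)
      (FibCat.toSelf (BasedCategory.ofFunctor F.toFunctor)) :=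
  ⟨locSurjObj_restr J F h𝒴 hF h.1, locSurjHom_restr J F h𝒳 h𝒴 hF h.2⟩

end Groth.Agent.Lib.Helper10.GerbeRestr
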