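import Mathlib
import Groth.Prelude.Def_DerLim

/-!
# Homotopy colimit of a subsequence
-/

set_option autoImplicit false

namespace H10HS

open CategoryTheory CategoryTheory.Limits CategoryTheory.Pretriangulated

universe v u

section Abstract

variable {D : Type u} [Category.{v} D] [Preadditive D] [HasZeroObject D] [HasShift D ℤ]
  [∀ n : ℤ, (shiftFunctor D n).Additive] [Pretriangulated D]

lemma isIso_of_comp_isIso {X Y : D} (c : X ⟶ Y) (d : Y ⟶ X) (h1 : IsIso (c ≫ d))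
    (h2 : IsIso (d ≫ c)) : IsIso c := by
  haveI := h1
  haveI := h2
  have hr : c ≫ (d ≫ inv (c ≫ d)) = 𝟙 _ := by rw [← Category.assoc, IsIso.hom_inv_id]
  have hl : (inv (d ≫ c) ≫ d) ≫ c = 𝟙 _ := by rw [Category.assoc, IsIso.inv_hom_id]
  have e : inv (d ≫ c) ≫ d = d ≫ inv (c ≫ d) := by
    calc inv (d ≫ c) ≫ d = (inv (d ≫ c) ≫ d) ≫ (c ≫ (d ≫ inv (c ≫ d))) := by
          rw [hr, Category.comp_id]
      _ = ((inv (d ≫ c) ≫ d) ≫ c) ≫ (d ≫ inv (c ≫ d)) := (Category.assoc _ _ _).symm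
      _ = d ≫ inv (c ≫ d) := by rw [hl, Category.id_comp]
  exact ⟨⟨d ≫ inv (c ≫ d), hr, by rw [← e, hl]⟩⟩

lemma isIso_of_homotopyEquiv (T T' : Triangle D) (hT : T ∈ distTriang D)
    (hT' : T' ∈ distTriang D)
    (b : T'.obj₁ ⟶ T.obj₁) (a : T'.obj₂ ⟶ T.obj₂) (comm : T'.mor₁ ≫ a = b ≫ T.mor₁)
    (q : T.obj₁ ⟶ T'.obj₁) (p : T.obj₂ ⟶ T'.obj₂) (comm' : T.mor₁ ≫ p = q ≫ T'.mor₁)
    (hbq : b ≫ q = 𝟙 _) (hap : a ≫ p = 𝟙 _)
    (h : T.obj₂ ⟶ T.obj₁) (hh1 : 𝟙 _ - p ≫ a = h ≫ T.mor₁) (hh2 : 𝟙 _ - q ≫ b = T.mor₁ ≫ h) :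
    ∃ c : T'.obj₃ ⟶ T.obj₃, IsIso c ∧ T'.mor₂ ≫ c = a ≫ T.mor₂ := by
  obtain ⟨c, hc1, hc2⟩ := complete_distinguished_triangle_morphism T' T hT' hT b a comm
  obtain ⟨d, hd1, hd2⟩ := complete_distinguished_triangle_morphism T T' hT hT' q p comm'
  refine ⟨c, ?_, hc1⟩
  have h1 : IsIso (c ≫ d) := by
    let φ : T' ⟶ T' :=
      { hom₁ := b ≫ q
        hom₂ := a ≫ p
        hom₃ := c ≫ d
        comm₁ := by
          calc T'.mor₁ ≫ a ≫ p = (T'.mor₁ ≫ a) ≫ p := (Category.assoc _ _ _).symm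
            _ = (b ≫ T.mor₁) ≫ p := by rw [comm]
            _ = b ≫ (T.mor₁ ≫ p) := Category.assoc _ _ _
            _ = b ≫ (q ≫ T'.mor₁) := by rw [comm']
            _ = (b ≫ q) ≫ T'.mor₁ := (Category.assoc _ _ _).symm
        comm₂ := by
          calc T'.mor₂ ≫ c ≫ d = (T'.mor₂ ≫ c) ≫ d := (Category.assoc _ _ _).symm
            _ = (a ≫ T.mor₂) ≫ d := by rw [hc1]
            _ = a ≫ (T.mor₂ ≫ d) := Category.assoc _ _ _
            _ = a ≫ (p ≫ T'.mor₂) := by rw [hd1]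
            _ = (a ≫ p) ≫ T'.mor₂ := (Category.assoc _ _ _).symm
        comm₃ := by
          calc T'.mor₃ ≫ (b ≫ q)⟦(1 : ℤ)⟧' = (T'.mor₃ ≫ b⟦(1 : ℤ)⟧') ≫ q⟦(1 : ℤ)⟧' := by
                rw [Functor.map_comp, Category.assoc]
            _ = (c ≫ T.mor₃) ≫ q⟦(1 : ℤ)⟧' := by rw [hc2]
            _ = c ≫ (T.mor₃ ≫ q⟦(1 : ℤ)⟧') := Category.assoc _ _ _
            _ = c ≫ (d ≫ T'.mor₃) := by rw [hd2]
            _ = (c ≫ d) ≫ T'.mor₃ := (Category.assoc _ _ _).symm }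
    have i1 : IsIso φ.hom₁ := by
      show IsIso (b ≫ q)
      rw [hbq]
      infer_instance
    have i2 : IsIso φ.hom₂ := by
      show IsIso (a ≫ p)
      rw [hap]
      infer_instance
    exact isIso₃_of_isIso₁₂ φ hT' hT' i1 i2
  have h2 : IsIso (d ≫ c) := by
    obtain ⟨x, hx⟩ : ∃ x : T.obj₃ ⟶ T.obj₃, x = 𝟙 _ - d ≫ c := ⟨_, rfl⟩
    have e1 : T.mor₂ ≫ x = 0 := by
      have e0 : T.mor₂ ≫ d ≫ c = (p ≫ a) ≫ T.mor₂ := by
        calc T.mor₂ ≫ d ≫ c = (T.mor₂ ≫ d) ≫ c := (Category.assoc _ _ _).symm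
          _ = (p ≫ T'.mor₂) ≫ c := by rw [hd1]
          _ = p ≫ (T'.mor₂ ≫ c) := Category.assoc _ _ _
          _ = p ≫ (a ≫ T.mor₂) := by rw [hc1]
          _ = (p ≫ a) ≫ T.mor₂ := (Category.assoc _ _ _).symm
      have e : (𝟙 _ - p ≫ a) ≫ T.mor₂ = 0 := by
        rw [hh1, Category.assoc, comp_distTriang_mor_zero₁₂ T hT, comp_zero]
      rw [Preadditive.sub_comp, Category.id_comp] at e
      rw [hx, Preadditive.comp_sub, Category.comp_id, e0]
      exact e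
    have e2 : x ≫ T.mor₃ = 0 := by
      have e0 : (d ≫ c) ≫ T.mor₃ = T.mor₃ ≫ (q ≫ b)⟦(1 : ℤ)⟧' := by
        calc (d ≫ c) ≫ T.mor₃ = d ≫ (c ≫ T.mor₃) := Category.assoc _ _ _
          _ = d ≫ (T'.mor₃ ≫ b⟦(1 : ℤ)⟧') := by rw [hc2]
          _ = (d ≫ T'.mor₃) ≫ b⟦(1 : ℤ)⟧' := (Category.assoc _ _ _).symm
          _ = (T.mor₃ ≫ q⟦(1 : ℤ)⟧') ≫ b⟦(1 : ℤ)⟧' := by rw [hd2]
          _ = T.mor₃ ≫ (q ≫ b)⟦(1 : ℤ)⟧' := by rw [Category.assoc, Functor.map_comp]
      have e : T.mor₃ ≫ (𝟙 _ - q ≫ b)⟦(1 : ℤ)⟧' = 0 := by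
        rw [hh2, Functor.map_comp, ← Category.assoc, comp_distTriang_mor_zero₃₁ T hT, zero_comp]
      rw [Functor.map_sub, CategoryTheory.Functor.map_id, Preadditive.comp_sub, Category.comp_id] at e
      rw [hx, Preadditive.sub_comp, Category.id_comp, e0]
      exact e
    obtain ⟨g, hg⟩ := Triangle.yoneda_exact₃ T hT x e1
    have e3 : x ≫ x = 0 := by
      calc x ≫ x = x ≫ (T.mor₃ ≫ g) := by rw [← hg]
        _ = (x ≫ T.mor₃) ≫ g := (Category.assoc _ _ _).symm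
        _ = 0 := by rw [e2, zero_comp]
    have hdc : d ≫ c = 𝟙 _ - x := by
      rw [hx]
      abel
    rw [hdc]
    refine ⟨⟨𝟙 _ + x, ?_, ?_⟩⟩
    · simp only [Preadditive.sub_comp, Preadditive.comp_add, Category.id_comp, Category.comp_id,
        e3]
      abel
    · simp only [Preadditive.add_comp, Preadditive.comp_sub, Category.id_comp, Category.comp_id,
        e3]
      abel
  exact isIso_of_comp_isIso c d h1 h2

end Abstract

section Concrete

variable {D : Type u} [Category.{v} D] [Preadditive D] (F : ℕ ⥤ D)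

/-- transition maps, zero when undefined -/
noncomputable def φ (m j : ℕ) : F.obj m ⟶ F.obj j :=
  if h : m ≤ j then F.map (homOfLE h) else 0

lemma φ_of_le {m j : ℕ} (h : m ≤ j) : φ F m j = F.map (homOfLE h) := dif_pos h

lemma φ_self (m : ℕ) : φ F m m = 𝟙 _ := by
  rw [φ_of_le F le_rfl, show homOfLE (le_refl m) = 𝟙 m from Subsingleton.elim _ _, F.map_id]

lemma φ_comp {m j k : ℕ} (h1 : m ≤ j) (h2 : j ≤ k) : φ F m j ≫ φ F j k = φ F m k := by
  rw [φ_of_le F h1, φ_of_le F h2, φ_of_le F (h1.trans h2), ← F.map_comp]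
  exact congrArg F.map (Subsingleton.elim _ _)

variable [HasCoproduct (fun m : ℕ => F.obj m)]

/-- the sum -/
noncomputable abbrev S : D := ∐ (fun m : ℕ => F.obj m)

/-- inclusions -/
noncomputable def ιS (m : ℕ) : F.obj m ⟶ S F := Sigma.ι (fun m : ℕ => F.obj m) m

/-- descent -/
noncomputable def descS {X : D} (g : ∀ m, F.obj m ⟶ X) : S F ⟶ X := Sigma.desc g

lemma ιS_descS {X : D} (g : ∀ m, F.obj m ⟶ X) (m : ℕ) : ιS F m ≫ descS F g = g m :=
  Sigma.ι_desc g m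

lemma S_ext {X : D} (g₁ g₂ : S F ⟶ X) (h : ∀ m, ιS F m ≫ g₁ = ιS F m ≫ g₂) : g₁ = g₂ :=
  Sigma.hom_ext _ _ h

/-- `1 - shift` -/
noncomputable def uS : S F ⟶ S F :=
  𝟙 _ - DerLim.shiftMap (fun m : ℕ => F.obj m) (fun m => F.map (homOfLE (Nat.le_succ m)))

lemma ιS_uS (m : ℕ) : ιS F m ≫ uS F = ιS F m - φ F m (m + 1) ≫ ιS F (m + 1) := by
  rw [uS, Preadditive.comp_sub, Category.comp_id, φ_of_le F (Nat.le_succ m)]
  congr 1
  exact Sigma.ι_desc _ m

lemma tele (m k : ℕ) (hmk : m ≤ k) :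
    (∑ j ∈ Finset.Ico m k, φ F m j ≫ ιS F j) ≫ uS F = ιS F m - φ F m k ≫ ιS F k := by
  induction k, hmk using Nat.le_induction with
  | base => rw [Finset.Ico_self, Finset.sum_empty, zero_comp, φ_self, Category.id_comp, sub_self]
  | succ k hmk ih =>
    rw [Finset.sum_Ico_succ_top hmk, Preadditive.add_comp, ih, Category.assoc, ιS_uS,
      Preadditive.comp_sub, ← Category.assoc (φ F m k), φ_comp F hmk (Nat.le_succ k)]
    abel

variable (n : ℕ → ℕ) (hn : StrictMono n) [HasCoproduct (fun i : ℕ => F.obj (n i))]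

/-- the sum over the subsequence -/
noncomputable abbrev S' : D := ∐ (fun i : ℕ => F.obj (n i))

/-- inclusions -/
noncomputable def ιS' (i : ℕ) : F.obj (n i) ⟶ S' F n := Sigma.ι (fun i : ℕ => F.obj (n i)) i

/-- descent -/
noncomputable def descS' {X : D} (g : ∀ i, F.obj (n i) ⟶ X) : S' F n ⟶ X := Sigma.desc g

lemma ιS'_descS' {X : D} (g : ∀ i, F.obj (n i) ⟶ X) (i : ℕ) : ιS' F n i ≫ descS' F n g = g i :=
  Sigma.ι_desc g i

lemma S'_ext {X : D} (g₁ g₂ : S' F n ⟶ X) (h : ∀ i, ιS' F n i ≫ g₁ = ιS' F n i ≫ g₂) :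
    g₁ = g₂ :=
  Sigma.hom_ext _ _ h

/-- `1 - shift` for the subsequence -/
noncomputable def uS' : S' F n ⟶ S' F n :=
  𝟙 _ - DerLim.shiftMap (fun i : ℕ => F.obj (n i))
    (fun i => F.map (homOfLE (hn.monotone (Nat.le_succ i))))

lemma ιS'_uS' (i : ℕ) :
    ιS' F n i ≫ uS' F n hn = ιS' F n i - φ F (n i) (n (i + 1)) ≫ ιS' F n (i + 1) := by
  rw [uS', Preadditive.comp_sub, Category.comp_id, φ_of_le F (hn.monotone (Nat.le_succ i))]
  congr 1
  exact Sigma.ι_desc _ i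

section Idx

omit [HasCoproduct (fun m : ℕ => F.obj m)] [HasCoproduct (fun i : ℕ => F.obj (n i))]

include hn in
lemma exists_idx (m : ℕ) : ∃ i, m ≤ n i := ⟨m, hn.le_apply⟩

/-- the first index of the subsequence beyond `m` -/
noncomputable def idx (m : ℕ) : ℕ := Nat.find (exists_idx n hn m)

lemma le_idx (m : ℕ) : m ≤ n (idx n hn m) := Nat.find_spec (exists_idx n hn m)

lemma idx_le {m i : ℕ} (h : m ≤ n i) : idx n hn m ≤ i := Nat.find_min' _ h

lemma idx_n (i : ℕ) : idx n hn (n i) = i :=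
  le_antisymm (idx_le n hn le_rfl) (hn.le_iff_le.1 (le_idx n hn (n i)))

lemma idx_succ_of_lt {m : ℕ} (h : m < n (idx n hn m)) : idx n hn (m + 1) = idx n hn m :=
  le_antisymm (idx_le n hn h) (idx_le n hn ((Nat.le_succ m).trans (le_idx n hn (m + 1))))

lemma idx_succ_of_eq {m : ℕ} (h : m = n (idx n hn m)) :
    idx n hn (m + 1) = idx n hn m + 1 := by
  apply le_antisymm
  · apply idx_le
    have : n (idx n hn m) < n (idx n hn m + 1) := hn (Nat.lt_succ_self _)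
    omega
  · have h1 : m + 1 ≤ n (idx n hn (m + 1)) := le_idx n hn (m + 1)
    have h2 : n (idx n hn m) < n (idx n hn (m + 1)) := by omega
    exact Nat.succ_le_of_lt (hn.lt_iff_lt.1 h2)

end Idx

/-- inclusion -/
noncomputable def aS : S' F n ⟶ S F := descS' F n (fun i => ιS F (n i))

/-- spread -/
noncomputable def bS : S' F n ⟶ S F :=
  descS' F n (fun i => ∑ j ∈ Finset.Ico (n i) (n (i + 1)), φ F (n i) j ≫ ιS F j)

/-- push forward to the next term of the subsequence -/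
noncomputable def pc (m : ℕ) : F.obj m ⟶ S' F n :=
  φ F m (n (idx n hn m)) ≫ ιS' F n (idx n hn m)

/-- push forward -/
noncomputable def pS : S F ⟶ S' F n := descS F (pc F n hn)

/-- projection -/
noncomputable def qS : S F ⟶ S' F n :=
  descS F (fun m => if m = n (idx n hn m) then pc F n hn m else 0)

/-- homotopy components -/
noncomputable def hc (m : ℕ) : F.obj m ⟶ S F :=
  ∑ j ∈ Finset.Ico m (n (idx n hn m)), φ F m j ≫ ιS F j

/-- homotopy -/
noncomputable def hS : S F ⟶ S F := descS F (hc F n hn)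

lemma ι_a (i : ℕ) : ιS' F n i ≫ aS F n = ιS F (n i) := ιS'_descS' F n _ i

lemma ι_b (i : ℕ) : ιS' F n i ≫ bS F n =
    ∑ j ∈ Finset.Ico (n i) (n (i + 1)), φ F (n i) j ≫ ιS F j := ιS'_descS' F n _ i

lemma ι_p (m : ℕ) : ιS F m ≫ pS F n hn = pc F n hn m := ιS_descS F _ m

lemma ι_q_eq (m : ℕ) (h : m = n (idx n hn m)) : ιS F m ≫ qS F n hn = pc F n hn m := by
  rw [qS, ιS_descS, if_pos h]

lemma ι_q_ne (m : ℕ) (h : m ≠ n (idx n hn m)) : ιS F m ≫ qS F n hn = 0 := by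
  rw [qS, ιS_descS, if_neg h]

lemma ι_h (m : ℕ) : ιS F m ≫ hS F n hn = hc F n hn m := ιS_descS F _ m

omit [HasCoproduct (fun m : ℕ => F.obj m)] in
lemma aux_cast (m i k : ℕ) (hk : k = i) :
    φ F m (n k) ≫ ιS' F n k = φ F m (n i) ≫ ιS' F n i := by
  subst hk
  rfl

omit [HasCoproduct (fun i : ℕ => F.obj (n i))] in
lemma aux_cast' (m k : ℕ) (hk : m = k) : φ F m k ≫ ιS F k = ιS F m := by
  subst hk
  rw [φ_self, Category.id_comp]

omit [HasCoproduct (fun m : ℕ => F.obj m)] in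
lemma pc_n (i : ℕ) : pc F n hn (n i) = ιS' F n i := by
  rw [pc, aux_cast F n (n i) i (idx n hn (n i)) (idx_n n hn i), φ_self, Category.id_comp]

omit [HasCoproduct (fun m : ℕ => F.obj m)] in
lemma pc_succ_of_lt {m : ℕ} (h : m < n (idx n hn m)) :
    φ F m (m + 1) ≫ pc F n hn (m + 1) = pc F n hn m := by
  rw [pc, aux_cast F n (m + 1) (idx n hn m) (idx n hn (m + 1)) (idx_succ_of_lt n hn h),
    ← Category.assoc, φ_comp F (Nat.le_succ m) h, pc]

omit [HasCoproduct (fun m : ℕ => F.obj m)] in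
lemma pc_succ_of_eq {m : ℕ} (h : m = n (idx n hn m)) :
    φ F m (m + 1) ≫ pc F n hn (m + 1) =
      φ F m (n (idx n hn m + 1)) ≫ ιS' F n (idx n hn m + 1) := by
  have h' : m + 1 ≤ n (idx n hn m + 1) := by
    have : n (idx n hn m) < n (idx n hn m + 1) := hn (Nat.lt_succ_self _)
    omega
  rw [pc, aux_cast F n (m + 1) (idx n hn m + 1) (idx n hn (m + 1)) (idx_succ_of_eq n hn h),
    ← Category.assoc, φ_comp F (Nat.le_succ m) h']

lemma a_p : aS F n ≫ pS F n hn = 𝟙 _ := by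
  apply S'_ext
  intro i
  rw [← Category.assoc, ι_a, ι_p, pc_n, Category.comp_id]

lemma comm1 : uS' F n hn ≫ aS F n = bS F n ≫ uS F := by
  apply S'_ext
  intro i
  calc ιS' F n i ≫ uS' F n hn ≫ aS F n = (ιS' F n i ≫ uS' F n hn) ≫ aS F n :=
        (Category.assoc _ _ _).symm
    _ = ιS F (n i) - φ F (n i) (n (i + 1)) ≫ ιS F (n (i + 1)) := by
        rw [ιS'_uS', Preadditive.sub_comp, Category.assoc, ι_a, ι_a]
    _ = (ιS' F n i ≫ bS F n) ≫ uS F := by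
        rw [ι_b, tele F _ _ (hn.monotone (Nat.le_succ i))]
    _ = ιS' F n i ≫ bS F n ≫ uS F := Category.assoc _ _ _

lemma hh1 : 𝟙 _ - pS F n hn ≫ aS F n = hS F n hn ≫ uS F := by
  apply S_ext
  intro m
  calc ιS F m ≫ (𝟙 _ - pS F n hn ≫ aS F n)
      = ιS F m - (ιS F m ≫ pS F n hn) ≫ aS F n := by
        rw [Preadditive.comp_sub, Category.comp_id, Category.assoc]
    _ = ιS F m - φ F m (n (idx n hn m)) ≫ ιS F (n (idx n hn m)) := by
        rw [ι_p, pc, Category.assoc, ι_a]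
    _ = (ιS F m ≫ hS F n hn) ≫ uS F := by
        rw [ι_h, hc, tele F _ _ (le_idx n hn m)]
    _ = ιS F m ≫ hS F n hn ≫ uS F := Category.assoc _ _ _

lemma b_q : bS F n ≫ qS F n hn = 𝟙 _ := by
  apply S'_ext
  intro i
  have hlt : n i < n (i + 1) := hn (Nat.lt_succ_self i)
  calc ιS' F n i ≫ bS F n ≫ qS F n hn = (ιS' F n i ≫ bS F n) ≫ qS F n hn :=
        (Category.assoc _ _ _).symm
    _ = ∑ j ∈ Finset.Ico (n i) (n (i + 1)), φ F (n i) j ≫ (ιS F j ≫ qS F n hn) := by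
        rw [ι_b, Preadditive.sum_comp]
        exact Finset.sum_congr rfl fun j _ => Category.assoc _ _ _
    _ = φ F (n i) (n i) ≫ (ιS F (n i) ≫ qS F n hn) := by
        apply Finset.sum_eq_single (n i)
        · intro j hj hne
          have hj' := Finset.mem_Ico.1 hj
          rw [ι_q_ne F n hn j, comp_zero]
          intro hjj
          apply hne
          have h1 : i ≤ idx n hn j := hn.le_iff_le.1 (by omega)
          have h2 : idx n hn j < i + 1 := hn.lt_iff_lt.1 (by omega)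
          have h3 : idx n hn j = i := by omega
          rw [hjj, h3]
        · intro hni
          exact absurd (Finset.mem_Ico.2 ⟨le_rfl, hlt⟩) hni
    _ = ιS' F n i := by
        rw [φ_self, Category.id_comp, ι_q_eq F n hn (n i) (by rw [idx_n]), pc_n]
    _ = ιS' F n i ≫ 𝟙 _ := (Category.comp_id _).symm

lemma comm2 : uS F ≫ pS F n hn = qS F n hn ≫ uS' F n hn := by
  apply S_ext
  intro m
  have hL : ιS F m ≫ uS F ≫ pS F n hn = pc F n hn m - φ F m (m + 1) ≫ pc F n hn (m + 1) := by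
    rw [← Category.assoc, ιS_uS, Preadditive.sub_comp, Category.assoc, ι_p, ι_p]
  rw [hL, ← Category.assoc]
  by_cases h : m = n (idx n hn m)
  · rw [ι_q_eq F n hn m h, pc_succ_of_eq F n hn h, pc, Category.assoc, ιS'_uS',
      Preadditive.comp_sub, ← Category.assoc (φ F m (n (idx n hn m))),
      φ_comp F (le_idx n hn m) (hn.monotone (Nat.le_succ _))]
  · have hlt : m < n (idx n hn m) := lt_of_le_of_ne (le_idx n hn m) h
    rw [ι_q_ne F n hn m h, zero_comp, pc_succ_of_lt F n hn hlt, sub_self]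

omit [HasCoproduct (fun i : ℕ => F.obj (n i))] in
lemma φ_hc_succ (m : ℕ) : φ F m (m + 1) ≫ hc F n hn (m + 1) =
    ∑ j ∈ Finset.Ico (m + 1) (n (idx n hn (m + 1))), φ F m j ≫ ιS F j := by
  rw [hc, Preadditive.comp_sum]
  refine Finset.sum_congr rfl fun j hj => ?_
  rw [← Category.assoc, φ_comp F (Nat.le_succ m) (Finset.mem_Ico.1 hj).1]

lemma hh2 : 𝟙 _ - qS F n hn ≫ bS F n = uS F ≫ hS F n hn := by
  apply S_ext
  intro m
  have hR : ιS F m ≫ uS F ≫ hS F n hn = hc F n hn m -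
      ∑ j ∈ Finset.Ico (m + 1) (n (idx n hn (m + 1))), φ F m j ≫ ιS F j := by
    rw [← Category.assoc, ιS_uS, Preadditive.sub_comp, Category.assoc, ι_h, ι_h, φ_hc_succ]
  have hL : ιS F m ≫ (𝟙 _ - qS F n hn ≫ bS F n) = ιS F m - (ιS F m ≫ qS F n hn) ≫ bS F n := by
    rw [Preadditive.comp_sub, Category.comp_id, Category.assoc]
  rw [hR, hL]
  by_cases h : m = n (idx n hn m)
  · have hlt : n (idx n hn m) < n (idx n hn m + 1) := hn (Nat.lt_succ_self _)
    have e1 : hc F n hn m = 0 := by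
      rw [hc, Finset.Ico_eq_empty (by omega), Finset.sum_empty]
    have e2 : pc F n hn m ≫ bS F n =
        ∑ j ∈ Finset.Ico (n (idx n hn m)) (n (idx n hn m + 1)), φ F m j ≫ ιS F j := by
      rw [pc, Category.assoc, ι_b, Preadditive.comp_sum]
      refine Finset.sum_congr rfl fun j hj => ?_
      rw [← Category.assoc, φ_comp F (le_idx n hn m) (Finset.mem_Ico.1 hj).1]
    have e3 : Finset.Ico (n (idx n hn m) + 1) (n (idx n hn m + 1)) =
        Finset.Ico (m + 1) (n (idx n hn m + 1)) :=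
      congrArg (fun t => Finset.Ico (t + 1) (n (idx n hn m + 1))) h.symm
    rw [ι_q_eq F n hn m h, e1, e2, idx_succ_of_eq n hn h, Finset.sum_eq_sum_Ico_succ_bot hlt,
      aux_cast' F m _ h, e3]
    abel
  · have hlt : m < n (idx n hn m) := lt_of_le_of_ne (le_idx n hn m) h
    rw [ι_q_ne F n hn m h, zero_comp, sub_zero, idx_succ_of_lt n hn hlt, hc,
      Finset.sum_eq_sum_Ico_succ_bot hlt, φ_self, Category.id_comp]
    abel

end Concrete

section Final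

variable {D : Type u} [Category.{v} D] [Preadditive D] [HasZeroObject D] [HasShift D ℤ]
  [∀ n : ℤ, (shiftFunctor D n).Additive] [Pretriangulated D]

theorem main (F : ℕ ⥤ D) (n : ℕ → ℕ) (hn : StrictMono n)
    [HasCoproduct (fun m : ℕ => F.obj m)] [HasCoproduct (fun i : ℕ => F.obj (n i))]
    (L : D) (ι : ∀ m : ℕ, F.obj m ⟶ L)
    (hL : DerLim.IsHocolim (fun m : ℕ => F.obj m)
      (fun m : ℕ => F.map (homOfLE (Nat.le_succ m))) L ι)
    (L' : D) (ι' : ∀ i : ℕ, F.obj (n i) ⟶ L')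
    (hL' : DerLim.IsHocolim (fun i : ℕ => F.obj (n i))
      (fun i : ℕ => F.map (homOfLE (hn.monotone (Nat.le_succ i)))) L' ι') :
    ∃ e : L' ≅ L, ∀ i : ℕ, ι' i ≫ e.hom = ι (n i) := by
  obtain ⟨cL, hT⟩ := hL
  obtain ⟨cL', hT'⟩ := hL'
  obtain ⟨c, hc, hc'⟩ : ∃ c : L' ⟶ L, IsIso c ∧ descS' F n ι' ≫ c = aS F n ≫ descS F ι :=
    isIso_of_homotopyEquiv _ _ hT hT' (bS F n) (aS F n) (comm1 F n hn)
      (qS F n hn) (pS F n hn) (comm2 F n hn) (b_q F n hn) (a_p F n hn) (hS F n hn)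
      (hh1 F n hn) (hh2 F n hn)
  haveI := hc
  refine ⟨asIso c, fun i => ?_⟩
  have h1 : ιS' F n i ≫ (descS' F n ι' ≫ c) = ιS' F n i ≫ (aS F n ≫ descS F ι) :=
    congrArg (fun g => ιS' F n i ≫ g) hc'
  rw [← Category.assoc, ιS'_descS', ← Category.assoc, ι_a, ιS_descS] at h1
  exact h1

end Final

end H10HS
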