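import Mathlib

/-!
# Elementwise criterion for a morphism of complexes of modules to induce an isomorphism on homology
-/

set_option autoImplicit false
universe v u

open CategoryTheory CategoryTheory.Limits

namespace H10HE

variable {R : Type u} [Ring R]

theorem sc_quasiIso_of_elem {S₁ S₂ : ShortComplex (ModuleCat.{v} R)} (φ : S₁ ⟶ S₂)
    (hsurj : ∀ z' : S₂.X₂, S₂.g.hom z' = 0 → ∃ z : S₁.X₂, S₁.g.hom z = 0 ∧
      ∃ b' : S₂.X₁, z' = φ.τ₂.hom z + S₂.f.hom b')
    (hinj : ∀ z : S₁.X₂, S₁.g.hom z = 0 → (∃ b' : S₂.X₁, φ.τ₂.hom z = S₂.f.hom b') →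
      ∃ b : S₁.X₁, S₁.f.hom b = z) :
    ShortComplex.QuasiIso φ := by
  rw [ShortComplex.quasiIso_iff_isIso_leftHomologyMap' φ S₁.moduleCatLeftHomologyData
    S₂.moduleCatLeftHomologyData, ConcreteCategory.isIso_iff_bijective]
  -- notation
  have hπ := ShortComplex.leftHomologyπ_naturality' φ S₁.moduleCatLeftHomologyData
    S₂.moduleCatLeftHomologyData
  have hi := ShortComplex.cyclesMap'_i φ S₁.moduleCatLeftHomologyData
    S₂.moduleCatLeftHomologyData
  let cm : LinearMap.ker S₁.g.hom → LinearMap.ker S₂.g.hom := fun z =>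
    (ShortComplex.cyclesMap' φ S₁.moduleCatLeftHomologyData S₂.moduleCatLeftHomologyData).hom z
  let γ : (LinearMap.ker S₁.g.hom ⧸ LinearMap.range S₁.moduleCatToCycles) →
      (LinearMap.ker S₂.g.hom ⧸ LinearMap.range S₂.moduleCatToCycles) := fun x =>
    (ShortComplex.leftHomologyMap' φ S₁.moduleCatLeftHomologyData
      S₂.moduleCatLeftHomologyData).hom x
  have hγ0 : γ 0 = 0 := map_zero (ShortComplex.leftHomologyMap' φ S₁.moduleCatLeftHomologyData
      S₂.moduleCatLeftHomologyData).hom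
  have hπ' : ∀ z : LinearMap.ker S₁.g.hom,
      γ ((LinearMap.range S₁.moduleCatToCycles).mkQ z) =
      (LinearMap.range S₂.moduleCatToCycles).mkQ (cm z) :=
    fun z => congrArg (fun g => g.hom z) hπ
  have hi' : ∀ z : LinearMap.ker S₁.g.hom, ((cm z : LinearMap.ker S₂.g.hom) : S₂.X₂) =
        φ.τ₂.hom (z : S₁.X₂) :=
    fun z => congrArg (fun g => g.hom z) hi
  show Function.Bijective γ
  constructor
  · -- injective
    intro x y hxy
    obtain ⟨z, rfl⟩ := Submodule.mkQ_surjective _ x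
    obtain ⟨w, rfl⟩ := Submodule.mkQ_surjective _ y
    rw [hπ', hπ', Submodule.mkQ_apply, Submodule.mkQ_apply, Submodule.Quotient.eq] at hxy
    obtain ⟨b', hb'⟩ := hxy
    have hb'' : S₂.f.hom b' = φ.τ₂.hom ((z - w : LinearMap.ker S₁.g.hom) : S₁.X₂) := by
      have h0 : ((S₂.moduleCatToCycles b' : LinearMap.ker S₂.g.hom) : S₂.X₂) =
          ((cm z - cm w : LinearMap.ker S₂.g.hom) : S₂.X₂) := congrArg Subtype.val hb'
      rw [Submodule.coe_sub, hi', hi'] at h0
      rw [Submodule.coe_sub, map_sub]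
      exact h0
    obtain ⟨b, hb⟩ := hinj ((z - w : LinearMap.ker S₁.g.hom) : S₁.X₂)
      (LinearMap.mem_ker.mp (z - w).2) ⟨b', hb''.symm⟩
    rw [Submodule.mkQ_apply, Submodule.mkQ_apply, Submodule.Quotient.eq]
    exact ⟨b, Subtype.ext hb⟩
  · -- surjective
    intro x'
    obtain ⟨z', rfl⟩ := Submodule.mkQ_surjective _ x'
    obtain ⟨z, hz, b', hb'⟩ := hsurj (z' : S₂.X₂) (LinearMap.mem_ker.mp z'.2)
    refine ⟨(LinearMap.range S₁.moduleCatToCycles).mkQ ⟨z, LinearMap.mem_ker.mpr hz⟩, ?_⟩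
    rw [hπ', Submodule.mkQ_apply, Submodule.mkQ_apply, Submodule.Quotient.eq]
    refine ⟨-b', ?_⟩
    apply Subtype.ext
    have h1 := hi' ⟨z, LinearMap.mem_ker.mpr hz⟩
    show S₂.f.hom (-b') = ((cm ⟨z, LinearMap.mem_ker.mpr hz⟩ - z' : LinearMap.ker S₂.g.hom) : S₂.X₂)
    rw [Submodule.coe_sub, h1, hb', map_neg]
    show -S₂.f.hom b' = φ.τ₂.hom z - (φ.τ₂.hom z + S₂.f.hom b')
    abel

theorem isIso_homologyMap_of_elem {ι : Type*} {c : ComplexShape ι}
    {K L : HomologicalComplex (ModuleCat.{v} R) c} (f : K ⟶ L) (i j k : ι)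
    (hi : c.prev j = i) (hk : c.next j = k)
    (hsurj : ∀ z' : L.X j, (L.d j k).hom z' = 0 → ∃ z : K.X j, (K.d j k).hom z = 0 ∧
      ∃ b' : L.X i, z' = (f.f j).hom z + (L.d i j).hom b')
    (hinj : ∀ z : K.X j, (K.d j k).hom z = 0 →
      (∃ b' : L.X i, (f.f j).hom z = (L.d i j).hom b') → ∃ b : K.X i, (K.d i j).hom b = z) :
    IsIso (HomologicalComplex.homologyMap f j) := by
  rw [← quasiIsoAt_iff_isIso_homologyMap, quasiIsoAt_iff' f i j k hi hk]
  exact sc_quasiIso_of_elem _ hsurj hinj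

end H10HE
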