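import Groth.Agent.Lib.Helper10.SESLift

set_option backward.isDefEq.respectTransparency false
set_option backward.isDefEq.respectTransparency.types false
set_option autoImplicit false

universe v u v' u'

open CategoryTheory CategoryTheory.Limits

noncomputable section

namespace H10SES

variable {C : Type u} [Category.{v} C] [Abelian C]

section Horseshoe

variable {S : ShortComplex C} (hS : S.ShortExact) (I₁ : InjectiveResolution S.X₁)
  (I₃ : InjectiveResolution S.X₃)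

/-- extension of the augmentation of `I₁` to `X₂` -/
def hrho : S.X₂ ⟶ I₁.cocomplex.X 0 :=
  haveI := hS.mono_f
  Injective.factorThru (aug I₁) S.f

@[reassoc]
lemma f_hrho : S.f ≫ hrho hS I₁ = aug I₁ := by
  haveI := hS.mono_f
  exact Injective.comp_factorThru _ _

/-- class map `X₃ ⟶ I₁¹` -/
def ht : S.X₃ ⟶ I₁.cocomplex.X 1 :=
  haveI := hS.epi_g
  hS.exact.desc (-(hrho hS I₁ ≫ I₁.cocomplex.d 0 1)) (by
    rw [Preadditive.comp_neg, ← Category.assoc, f_hrho, aug_d, neg_zero])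

@[reassoc]
lemma g_ht : S.g ≫ ht hS I₁ = -(hrho hS I₁ ≫ I₁.cocomplex.d 0 1) := by
  haveI := hS.epi_g
  exact ShortComplex.Exact.g_desc _ _ _

lemma ht_d : ht hS I₁ ≫ I₁.cocomplex.d 1 2 = 0 := by
  haveI := hS.epi_g
  rw [← cancel_epi S.g, ← Category.assoc, g_ht, Preadditive.neg_comp, Category.assoc,
    HomologicalComplex.d_comp_d, comp_zero, neg_zero, comp_zero]

/-- degree zero twisting map -/
def htau0 : I₃.cocomplex.X 0 ⟶ I₁.cocomplex.X 1 := Injective.factorThru (ht hS I₁) (aug I₃)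

@[reassoc]
lemma aug_htau0 : aug I₃ ≫ htau0 hS I₁ I₃ = ht hS I₁ := Injective.comp_factorThru _ _

lemma exists_tau : ∃ τ : ∀ n, I₃.cocomplex.X n ⟶ I₁.cocomplex.X (n + 1),
    τ 0 = htau0 hS I₁ I₃ ∧
    ∀ n, I₃.cocomplex.d n (n + 1) ≫ τ (n + 1) =
      -(τ n ≫ I₁.cocomplex.d (n + 1) (n + 1 + 1)) := by
  haveI : ∀ n, Injective ((fun n => I₁.cocomplex.X (n + 1)) n) := fun n => I₁.injective (n + 1)
  exact exists_seq I₃ (fun n => I₁.cocomplex.X (n + 1))
    (fun n x => -(x ≫ I₁.cocomplex.d (n + 1) (n + 1 + 1)))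
    (by
      intro n y x hx
      rw [Preadditive.comp_neg, ← Category.assoc, hx, Preadditive.neg_comp, Category.assoc,
        HomologicalComplex.d_comp_d, comp_zero, neg_zero, neg_zero])
    (htau0 hS I₁ I₃)
    (by
      have h := ht_d hS I₁
      have h' := aug_htau0 hS I₁ I₃
      show aug I₃ ≫ (-(htau0 hS I₁ I₃ ≫ I₁.cocomplex.d 1 2)) = 0
      rw [Preadditive.comp_neg, ← Category.assoc, h', h, neg_zero])

variable (τ : ∀ n, I₃.cocomplex.X n ⟶ I₁.cocomplex.X (n + 1))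

/-- differential of the horseshoe complex -/
def hd (n : ℕ) : (I₁.cocomplex.X n ⊞ I₃.cocomplex.X n) ⟶
    (I₁.cocomplex.X (n + 1) ⊞ I₃.cocomplex.X (n + 1)) :=
  biprod.desc (I₁.cocomplex.d n (n + 1) ≫ biprod.inl)
    (τ n ≫ biprod.inl + I₃.cocomplex.d n (n + 1) ≫ biprod.inr)

@[reassoc (attr := simp)]
lemma inl_hd (n : ℕ) : biprod.inl ≫ hd I₁ I₃ τ n = I₁.cocomplex.d n (n + 1) ≫ biprod.inl :=
  biprod.inl_desc _ _

@[reassoc (attr := simp)]
lemma inr_hd (n : ℕ) : biprod.inr ≫ hd I₁ I₃ τ n =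
    τ n ≫ biprod.inl + I₃.cocomplex.d n (n + 1) ≫ biprod.inr :=
  biprod.inr_desc _ _

@[reassoc]
lemma hd_snd (n : ℕ) : hd I₁ I₃ τ n ≫ biprod.snd = biprod.snd ≫ I₃.cocomplex.d n (n + 1) := by
  apply biprod.hom_ext'
  · simp only [inl_hd_assoc, biprod.inl_snd, comp_zero, biprod.inl_snd_assoc, zero_comp]
  · simp only [inr_hd_assoc, Preadditive.add_comp, Category.assoc, biprod.inl_snd, comp_zero,
      biprod.inr_snd, Category.comp_id, zero_add, biprod.inr_snd_assoc]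

@[reassoc]
lemma hd_fst (n : ℕ) : hd I₁ I₃ τ n ≫ biprod.fst =
    biprod.fst ≫ I₁.cocomplex.d n (n + 1) + biprod.snd ≫ τ n := by
  apply biprod.hom_ext'
  · simp only [inl_hd_assoc, biprod.inl_fst, Category.comp_id, Preadditive.comp_add,
      biprod.inl_fst_assoc, biprod.inl_snd_assoc, zero_comp, add_zero]
  · simp only [inr_hd_assoc, Preadditive.add_comp, Category.assoc, biprod.inl_fst,
      Category.comp_id, biprod.inr_fst, comp_zero, add_zero, Preadditive.comp_add,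
      biprod.inr_fst_assoc, zero_comp, biprod.inr_snd_assoc, zero_add]

variable (hτ : ∀ n, I₃.cocomplex.d n (n + 1) ≫ τ (n + 1) =
  -(τ n ≫ I₁.cocomplex.d (n + 1) (n + 1 + 1)))

include hτ in
lemma hd_sq (n : ℕ) : hd I₁ I₃ τ n ≫ hd I₁ I₃ τ (n + 1) = 0 := by
  apply biprod.hom_ext'
  · simp only [inl_hd_assoc, inl_hd, HomologicalComplex.d_comp_d_assoc, zero_comp, comp_zero]
  · simp only [inr_hd_assoc, Preadditive.add_comp, Category.assoc, inl_hd, inr_hd,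
      Preadditive.comp_add, HomologicalComplex.d_comp_d_assoc, zero_comp, add_zero,
      reassoc_of% (hτ n), Preadditive.neg_comp, add_neg_cancel, comp_zero]

/-- the horseshoe complex -/
abbrev hcx : CochainComplex C ℕ :=
  CochainComplex.of (fun n => I₁.cocomplex.X n ⊞ I₃.cocomplex.X n) (hd I₁ I₃ τ)
    (hd_sq I₁ I₃ τ hτ)

lemma hcx_d (n : ℕ) : (hcx I₁ I₃ τ hτ).d n (n + 1) = hd I₁ I₃ τ n :=
  CochainComplex.of_d (fun n => I₁.cocomplex.X n ⊞ I₃.cocomplex.X n) (hd I₁ I₃ τ) n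

/-- inclusion -/
def hf : I₁.cocomplex ⟶ hcx I₁ I₃ τ hτ where
  f n := biprod.inl
  comm' := by
    rintro i j (rfl : i + 1 = j)
    rw [hcx_d, inl_hd]

/-- projection -/
def hg : hcx I₁ I₃ τ hτ ⟶ I₃.cocomplex where
  f n := biprod.snd
  comm' := by
    rintro i j (rfl : i + 1 = j)
    rw [hcx_d, hd_snd]

lemma hzero : hf I₁ I₃ τ hτ ≫ hg I₁ I₃ τ hτ = 0 := by
  ext n
  exact biprod.inl_snd

lemma hshortExact :
    (ShortComplex.mk (hf I₁ I₃ τ hτ) (hg I₁ I₃ τ hτ) (hzero I₁ I₃ τ hτ)).ShortExact := by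
  apply HomologicalComplex.shortExact_of_degreewise_shortExact
  intro n
  exact ShortComplex.Splitting.shortExact
    { r := (biprod.fst : I₁.cocomplex.X n ⊞ I₃.cocomplex.X n ⟶ I₁.cocomplex.X n)
      s := (biprod.inr : I₃.cocomplex.X n ⟶ I₁.cocomplex.X n ⊞ I₃.cocomplex.X n)
      f_r := biprod.inl_fst
      s_g := biprod.inr_snd
      id := biprod.total }

/-- augmentation of the horseshoe complex -/
def heps : S.X₂ ⟶ I₁.cocomplex.X 0 ⊞ I₃.cocomplex.X 0 :=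
  biprod.lift (hrho hS I₁) (S.g ≫ aug I₃)

variable (hτ0 : aug I₃ ≫ τ 0 = ht hS I₁)

include hτ0 in
lemma heps_d : heps hS I₁ I₃ ≫ hd I₁ I₃ τ 0 = 0 := by
  rw [heps, biprod.lift_eq]
  simp only [Preadditive.add_comp, Category.assoc, inl_hd, inr_hd, Preadditive.comp_add,
    reassoc_of% hτ0, g_ht_assoc, Nat.reduceAdd, aug_d_assoc, zero_comp, comp_zero, add_zero,
    Preadditive.neg_comp, add_neg_cancel]

lemma heps_mono : Mono (heps hS I₁ I₃) := by
  haveI := hS.mono_f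
  apply Preadditive.mono_of_cancel_zero
  intro W x hx
  have h1 : x ≫ hrho hS I₁ = 0 := by
    have := congrArg (· ≫ biprod.fst) hx
    simpa only [heps, Category.assoc, biprod.lift_fst, zero_comp] using this
  have h2 : x ≫ S.g = 0 := by
    have := congrArg (· ≫ biprod.snd) hx
    simp only [heps, Category.assoc, biprod.lift_snd, zero_comp] at this
    rw [← cancel_mono (aug I₃), Category.assoc, this, zero_comp]
  have h3 : hS.exact.lift x h2 ≫ S.f = x := hS.exact.lift_f x h2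
  have h4 : hS.exact.lift x h2 = 0 := by
    rw [← cancel_mono (aug I₁), zero_comp, ← f_hrho hS I₁, ← Category.assoc, h3, h1]
  rw [← h3, h4, zero_comp]

include hτ0 in
lemma heps_exact : (ShortComplex.mk (heps hS I₁ I₃) (hd I₁ I₃ τ 0)
    (heps_d hS I₁ I₃ τ hτ0)).Exact := by
  haveI := hS.epi_g
  rw [ShortComplex.exact_iff_exact_up_to_refinements]
  intro A x hx
  change A ⟶ I₁.cocomplex.X 0 ⊞ I₃.cocomplex.X 0 at x
  change x ≫ hd I₁ I₃ τ 0 = 0 at hx
  have hx3 : (x ≫ biprod.snd) ≫ I₃.cocomplex.d 0 1 = 0 := by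
    rw [Category.assoc, ← hd_snd, reassoc_of% hx, zero_comp]
  have hx1 : (x ≫ biprod.fst) ≫ I₁.cocomplex.d 0 1 + (x ≫ biprod.snd) ≫ τ 0 = 0 := by
    have := congrArg (· ≫ biprod.fst) hx
    simpa only [Category.assoc, hd_fst, Preadditive.comp_add, zero_comp] using this
  obtain ⟨A₁, π₁, hπ₁, y₃, hy₃⟩ := (aug_exact I₃).exact_up_to_refinements _ hx3
  change π₁ ≫ x ≫ biprod.snd = y₃ ≫ aug I₃ at hy₃
  obtain ⟨A₂, π₂, hπ₂, y₂, hy₂⟩ := surjective_up_to_refinements_of_epi S.g y₃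
  have hz : (π₂ ≫ π₁ ≫ x ≫ biprod.fst - y₂ ≫ hrho hS I₁) ≫ I₁.cocomplex.d 0 1 = 0 := by
    have e1 : π₂ ≫ π₁ ≫ (x ≫ biprod.fst) ≫ I₁.cocomplex.d 0 1 =
        - (π₂ ≫ π₁ ≫ (x ≫ biprod.snd) ≫ τ 0) := by
      rw [eq_neg_iff_add_eq_zero, ← Preadditive.comp_add, ← Preadditive.comp_add, hx1, comp_zero,
        comp_zero]
    have e2 : π₂ ≫ π₁ ≫ (x ≫ biprod.snd) ≫ τ 0 = - (y₂ ≫ hrho hS I₁ ≫ I₁.cocomplex.d 0 1) := by
      have : π₁ ≫ (x ≫ biprod.snd) ≫ τ 0 = y₃ ≫ ht hS I₁ := by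
        rw [← Category.assoc, hy₃, Category.assoc, hτ0]
      rw [this, reassoc_of% hy₂, g_ht, Preadditive.comp_neg]
    rw [Preadditive.sub_comp, sub_eq_zero]
    simp only [Category.assoc] at e1 e2 ⊢
    rw [e1, e2, neg_neg]
  obtain ⟨A₃, π₃, hπ₃, w, hw⟩ := (aug_exact I₁).exact_up_to_refinements _ hz
  change π₃ ≫ (π₂ ≫ π₁ ≫ x ≫ biprod.fst - y₂ ≫ hrho hS I₁) = w ≫ aug I₁ at hw
  refine ⟨A₃, π₃ ≫ π₂ ≫ π₁, epi_comp _ _, π₃ ≫ y₂ + w ≫ S.f, ?_⟩
  change (π₃ ≫ π₂ ≫ π₁) ≫ x = (π₃ ≫ y₂ + w ≫ S.f) ≫ heps hS I₁ I₃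
  apply biprod.hom_ext
  · simp only [heps, Category.assoc, biprod.lift_fst, Preadditive.add_comp, f_hrho, ← hw,
      Preadditive.comp_sub]
    abel
  · simp only [heps, Category.assoc, biprod.lift_snd, Preadditive.add_comp,
      ShortComplex.zero_assoc, zero_comp, comp_zero, add_zero]
    rw [← reassoc_of% hy₂, ← hy₃]

/-- augmentation as a map of complexes -/
def hι : (CochainComplex.single₀ C).obj S.X₂ ⟶ hcx I₁ I₃ τ hτ :=
  (CochainComplex.fromSingle₀Equiv (hcx I₁ I₃ τ hτ) S.X₂).symm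
    ⟨heps hS I₁ I₃, by rw [hcx_d]; exact heps_d hS I₁ I₃ τ hτ0⟩

lemma hι_f0 : (hι hS I₁ I₃ τ hτ hτ0).f 0 = heps hS I₁ I₃ :=
  CochainComplex.fromSingle₀Equiv_symm_apply_f_zero _ _

lemma hι_f : I₁.ι ≫ hf I₁ I₃ τ hτ =
    (CochainComplex.single₀ C).map S.f ≫ hι hS I₁ I₃ τ hτ hτ0 := by
  apply HomologicalComplex.from_single_hom_ext
  rw [HomologicalComplex.comp_f, HomologicalComplex.comp_f, CochainComplex.single₀_map_f_zero,
    hι_f0]
  change aug I₁ ≫ biprod.inl = S.f ≫ heps hS I₁ I₃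
  simp only [heps, biprod.lift_eq, Preadditive.comp_add, Category.assoc, f_hrho_assoc,
    ShortComplex.zero_assoc, zero_comp, add_zero]

lemma hι_g : hι hS I₁ I₃ τ hτ hτ0 ≫ hg I₁ I₃ τ hτ =
    (CochainComplex.single₀ C).map S.g ≫ I₃.ι := by
  apply HomologicalComplex.from_single_hom_ext
  rw [HomologicalComplex.comp_f, HomologicalComplex.comp_f, CochainComplex.single₀_map_f_zero,
    hι_f0]
  change heps hS I₁ I₃ ≫ biprod.snd = S.g ≫ aug I₃
  simp only [heps, biprod.lift_snd]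

lemma hquasiIso : QuasiIso (hι hS I₁ I₃ τ hτ hτ0) := ⟨fun n => by
  cases n with
  | zero =>
    rw [CochainComplex.quasiIsoAt₀_iff, ShortComplex.quasiIso_iff_of_zeros]
    · refine (ShortComplex.exact_and_mono_f_iff_of_iso ?_).2
        ⟨heps_exact hS I₁ I₃ τ hτ0, heps_mono hS I₁ I₃⟩
      exact ShortComplex.isoMk (Iso.refl _) (Iso.refl _) (Iso.refl _)
        (by simp [hι_f0]) (by simp; exact (CochainComplex.of_d _ (hd I₁ I₃ τ) 0).symm)
    all_goals rfl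
  | succ n =>
    rw [quasiIsoAt_iff_exactAt]
    · exact (hshortExact I₁ I₃ τ hτ).exactAt_X₂ (n + 1) (I₁.cocomplex_exactAt_succ n)
        (I₃.cocomplex_exactAt_succ n)
    · apply CochainComplex.exactAt_succ_single_obj⟩

/-- the horseshoe resolution -/
def hSES : RDer.SESRes S where
  I₁ := I₁
  I₂ :=
    { cocomplex := hcx I₁ I₃ τ hτ
      injective := fun n => (inferInstance : Injective (I₁.cocomplex.X n ⊞ I₃.cocomplex.X n))
      ι := hι hS I₁ I₃ τ hτ hτ0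
      quasiIso := hquasiIso hS I₁ I₃ τ hτ hτ0 }
  I₃ := I₃
  f := hf I₁ I₃ τ hτ
  g := hg I₁ I₃ τ hτ
  zero := hzero I₁ I₃ τ hτ
  ι_f := hι_f hS I₁ I₃ τ hτ hτ0
  ι_g := hι_g hS I₁ I₃ τ hτ hτ0
  shortExact := hshortExact I₁ I₃ τ hτ

end Horseshoe

theorem nonempty_sesRes [HasInjectiveResolutions C] {S : ShortComplex C} (hS : S.ShortExact) :
    Nonempty (RDer.SESRes S) := by
  obtain ⟨τ, hτ0, hτ⟩ := exists_tau hS (injectiveResolution S.X₁) (injectiveResolution S.X₃)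
  exact ⟨hSES hS _ _ τ hτ (by rw [hτ0]; exact aug_htau0 hS _ _)⟩

end H10SES
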