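import Groth.Agent.Lib.Helper10.THeart
import Groth.Agent.S6581

set_option backward.isDefEq.respectTransparency false
set_option backward.isDefEq.respectTransparency.types false
set_option autoImplicit false

universe v u

open CategoryTheory CategoryTheory.Limits CategoryTheory.Pretriangulated CategoryTheory.Triangulated

namespace H10Idem

lemma ring_conj {R : Type*} [Ring R] (p q n : R) (hn : q = p - n) (hp : p * p = p)
    (hq : q * q = q) (h1 : n * n = 0) (h2 : n * p * n = 0) :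
    ∃ u v : R, u * v = 1 ∧ v * u = 1 ∧ u * q = p * u := by
  have hu1 : (p * q + (1 - p) * (1 - q)) * q = p * q := by
    have : (p * q + (1 - p) * (1 - q)) * q = p * (q * q) + (1 - p) * (q - q * q) := by
      noncomm_ring
    rw [this, hq, sub_self, mul_zero, add_zero]
  have hu2 : p * (p * q + (1 - p) * (1 - q)) = p * q := by
    have : p * (p * q + (1 - p) * (1 - q)) = (p * p) * q + (p - p * p) * (1 - q) := by
      noncomm_ring
    rw [this, hp, sub_self, zero_mul, add_zero]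
  have hA : p * q + (1 - p) * (1 - q) = 1 + (1 - p - p) * n := by
    have : p * (p - n) + (1 - p) * (1 - (p - n)) =
        1 + (1 - p - p) * n + ((p * p - p) + (p * p - p)) := by
      noncomm_ring
    rw [hn, this, hp, sub_self, add_zero, add_zero]
  have hB : ((1 - p - p) * n) * ((1 - p - p) * n) = 0 := by
    have : ((1 - p - p) * n) * ((1 - p - p) * n) =
        (1 - p - p) * (n * n - n * p * n - n * p * n) := by
      noncomm_ring
    rw [this, h1, h2, sub_zero, sub_zero, mul_zero]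
  refine ⟨p * q + (1 - p) * (1 - q), 1 - (1 - p - p) * n, ?_, ?_, ?_⟩
  · rw [hA]
    have : (1 + (1 - p - p) * n) * (1 - (1 - p - p) * n) =
        1 - ((1 - p - p) * n) * ((1 - p - p) * n) := by
      noncomm_ring
    rw [this, hB, sub_zero]
  · rw [hA]
    have : (1 - (1 - p - p) * n) * (1 + (1 - p - p) * n) =
        1 - ((1 - p - p) * n) * ((1 - p - p) * n) := by
      noncomm_ring
    rw [this, hB, sub_zero]
  · rw [hu1, hu2]

section Cat

variable {C : Type u} [Category.{v} C]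

/-- the endomorphism `p` splits -/
def Splits {X : C} (p : X ⟶ X) : Prop :=
  ∃ (Y : C) (i : Y ⟶ X) (e : X ⟶ Y), i ≫ e = 𝟙 Y ∧ e ≫ i = p

lemma conj_comm {A B A' B' : C} (m : A ⟶ B) (m' : A' ⟶ B') (a : A' ⟶ A) (a' : A ⟶ A')
    (b : B' ⟶ B) (b' : B ⟶ B') (ha : a' ≫ a = 𝟙 A) (hb : b ≫ b' = 𝟙 B') (hm : m' ≫ b = a ≫ m)
    (π₁ : A' ⟶ A') (π₂ : B' ⟶ B') (hπ : π₁ ≫ m' = m' ≫ π₂) :
    (a' ≫ π₁ ≫ a) ≫ m = m ≫ (b' ≫ π₂ ≫ b) := by
  have h1 : m ≫ b' = a' ≫ m' := by
    calc m ≫ b' = (a' ≫ a) ≫ m ≫ b' := by rw [ha, Category.id_comp]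
      _ = a' ≫ (a ≫ m) ≫ b' := by simp only [Category.assoc]
      _ = a' ≫ (m' ≫ b) ≫ b' := by rw [hm]
      _ = a' ≫ m' := by rw [Category.assoc, hb, Category.comp_id]
  calc (a' ≫ π₁ ≫ a) ≫ m = a' ≫ π₁ ≫ (a ≫ m) := by simp only [Category.assoc]
    _ = a' ≫ π₁ ≫ (m' ≫ b) := by rw [hm]
    _ = a' ≫ (π₁ ≫ m') ≫ b := by simp only [Category.assoc]
    _ = a' ≫ (m' ≫ π₂) ≫ b := by rw [hπ]
    _ = (a' ≫ m') ≫ π₂ ≫ b := by simp only [Category.assoc]
    _ = (m ≫ b') ≫ π₂ ≫ b := by rw [h1]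
    _ = m ≫ (b' ≫ π₂ ≫ b) := by simp only [Category.assoc]

variable [Preadditive C]

lemma splits_of_conj {X : C} (p q n : X ⟶ X) (hn : q = p - n) (hp : p ≫ p = p)
    (hq : q ≫ q = q) (h1 : n ≫ n = 0) (h2 : n ≫ p ≫ n = 0) (hs : Splits q) : Splits p := by
  obtain ⟨u, v, huv, hvu, hc⟩ := ring_conj (R := End X) p q n hn hp hq h1 h2
  exact Idempotents.split_imp_of_iso ⟨u, v, hvu, huv⟩ q p hc hs

variable [HasBinaryBiproducts C]

lemma proj_comm {A B A' B' : C} (f : A ⟶ B) (g : A' ⟶ B') :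
    (biprod.fst ≫ biprod.inl) ≫ biprod.map f g = biprod.map f g ≫ (biprod.fst ≫ biprod.inl) := by
  rw [Category.assoc, biprod.inl_map, biprod.map_fst_assoc]

lemma splits_compl {X Y Y' : C} (p : X ⟶ X) (i : Y ⟶ X) (e : X ⟶ Y)
    (i' : Y' ⟶ X) (e' : X ⟶ Y') (a1 : i ≫ e = 𝟙 Y) (b1 : e ≫ i = p) (a1' : i' ≫ e' = 𝟙 Y')
    (b1' : e' ≫ i' = 𝟙 X - p) :
    biprod.desc i i' ≫ biprod.lift e e' = 𝟙 (Y ⊞ Y') ∧
    biprod.lift e e' ≫ biprod.desc i i' = 𝟙 X ∧
    i ≫ p = i ∧ i' ≫ p = 0 ∧ p ≫ e = e ∧ p ≫ e' = 0 := by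
  have c : i ≫ p = i := by rw [← b1, ← Category.assoc, a1, Category.id_comp]
  have c2 : p ≫ e = e := by rw [← b1, Category.assoc, a1, Category.comp_id]
  have c' : i' ≫ p = 0 := by
    have h : i' ≫ (𝟙 X - p) = i' := by rw [← b1', ← Category.assoc, a1', Category.id_comp]
    rw [Preadditive.comp_sub, Category.comp_id] at h
    exact sub_eq_self.mp h
  have c2' : p ≫ e' = 0 := by
    have h : (𝟙 X - p) ≫ e' = e' := by rw [← b1', Category.assoc, a1', Category.comp_id]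
    rw [Preadditive.sub_comp, Category.id_comp] at h
    exact sub_eq_self.mp h
  have d1 : i ≫ e' = 0 := by rw [← c, Category.assoc, c2', comp_zero]
  have d1' : i' ≫ e = 0 := by rw [← c2, ← Category.assoc, c', zero_comp]
  refine ⟨?_, ?_, c, c', c2, c2'⟩
  · apply biprod.hom_ext'
    · rw [biprod.inl_desc_assoc, Category.comp_id]
      apply biprod.hom_ext
      · rw [Category.assoc, biprod.lift_fst, a1, biprod.inl_fst]
      · rw [Category.assoc, biprod.lift_snd, d1, biprod.inl_snd]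
    · rw [biprod.inr_desc_assoc, Category.comp_id]
      apply biprod.hom_ext
      · rw [Category.assoc, biprod.lift_fst, d1', biprod.inr_fst]
      · rw [Category.assoc, biprod.lift_snd, a1', biprod.inr_snd]
  · rw [biprod.lift_desc, b1, b1']
    abel

end Cat

section Tri

variable {C : Type u} [Category.{v} C] [Preadditive C] [HasZeroObject C] [HasShift C ℤ]
  [∀ n : ℤ, (shiftFunctor C n).Additive] [Pretriangulated C]

lemma splits_middle (T : Triangle C) (hT : T ∈ distTriang C) (φ : T ⟶ T)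
    (hφ : φ.hom₂ ≫ φ.hom₂ = φ.hom₂)
    (s₁ : Splits φ.hom₁) (s₁' : Splits (𝟙 _ - φ.hom₁))
    (s₃ : Splits φ.hom₃) (s₃' : Splits (𝟙 _ - φ.hom₃)) : Splits φ.hom₂ := by
  obtain ⟨Y₁, i₁, e₁, a1, b1⟩ := s₁
  obtain ⟨Y₁', i₁', e₁', a1', b1'⟩ := s₁'
  obtain ⟨Y₃, i₃, e₃, a3, b3⟩ := s₃
  obtain ⟨Y₃', i₃', e₃', a3', b3'⟩ := s₃'
  obtain ⟨k1, k1', -, -, -, -⟩ := splits_compl φ.hom₁ i₁ e₁ i₁' e₁' a1 b1 a1' b1'
  obtain ⟨k3, k3', c3, c3', -, -⟩ := splits_compl φ.hom₃ i₃ e₃ i₃' e₃' a3 b3 a3' b3'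
  obtain ⟨h', hh'⟩ : ∃ h' : Y₃ ⟶ (shiftFunctor C (1 : ℤ)).obj Y₁,
      h' = i₃ ≫ T.mor₃ ≫ (shiftFunctor C (1 : ℤ)).map e₁ := ⟨_, rfl⟩
  obtain ⟨h'', hh''⟩ : ∃ h'' : Y₃' ⟶ (shiftFunctor C (1 : ℤ)).obj Y₁',
      h'' = i₃' ≫ T.mor₃ ≫ (shiftFunctor C (1 : ℤ)).map e₁' := ⟨_, rfl⟩
  obtain ⟨Z', f', g', hT'⟩ := distinguished_cocone_triangle₂ h'
  obtain ⟨Z'', f'', g'', hT''⟩ := distinguished_cocone_triangle₂ h''
  have hB : Groth.Agent.S6581.bT (Triangle.mk f' g' h') (Triangle.mk f'' g'' h'') ∈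
      distTriang C := Groth.Agent.S6581.bT_distinguished _ _ hT' hT''
  have comm : biprod.desc (h' ≫ (shiftFunctor C (1 : ℤ)).map biprod.inl)
      (h'' ≫ (shiftFunctor C (1 : ℤ)).map biprod.inr) ≫
      (shiftFunctor C (1 : ℤ)).map (biprod.desc i₁ i₁') = biprod.desc i₃ i₃' ≫ T.mor₃ := by
    apply biprod.hom_ext'
    · rw [biprod.inl_desc_assoc, biprod.inl_desc_assoc, Category.assoc, ← Functor.map_comp,
        biprod.inl_desc, hh', Category.assoc, Category.assoc, ← Functor.map_comp, b1, φ.comm₃,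
        reassoc_of% c3]
    · rw [biprod.inr_desc_assoc, biprod.inr_desc_assoc, Category.assoc, ← Functor.map_comp,
        biprod.inr_desc, hh'', Category.assoc, Category.assoc, ← Functor.map_comp, b1',
        Functor.map_sub, CategoryTheory.Functor.map_id, Preadditive.comp_sub,
        Preadditive.comp_sub, Category.comp_id, φ.comm₃, reassoc_of% c3', zero_comp, sub_zero]
  obtain ⟨b, hb1, hb2⟩ : ∃ b : Z' ⊞ Z'' ⟶ T.obj₂,
      biprod.map f' f'' ≫ b = biprod.desc i₁ i₁' ≫ T.mor₁ ∧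
      biprod.map g' g'' ≫ biprod.desc i₃ i₃' = b ≫ T.mor₂ :=
    complete_distinguished_triangle_morphism₂ _ _ hB hT (biprod.desc i₁ i₁')
      (biprod.desc i₃ i₃') comm
  have hbiso : IsIso b := by
    let ψ : Groth.Agent.S6581.bT (Triangle.mk f' g' h') (Triangle.mk f'' g'' h'') ⟶ T :=
      { hom₁ := biprod.desc i₁ i₁'
        hom₂ := b
        hom₃ := biprod.desc i₃ i₃'
        comm₁ := hb1
        comm₂ := hb2
        comm₃ := comm }
    exact isIso₂_of_isIso₁₃ ψ hB hT ⟨biprod.lift e₁ e₁', k1, k1'⟩ ⟨biprod.lift e₃ e₃', k3, k3'⟩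
  obtain ⟨b', hbb', hb'b⟩ := hbiso.out
  obtain ⟨q, hq⟩ : ∃ q : T.obj₂ ⟶ T.obj₂, q = b' ≫ (biprod.fst ≫ biprod.inl) ≫ b := ⟨_, rfl⟩
  have sq : Splits q := ⟨Z', biprod.inl ≫ b, b' ≫ biprod.fst, by
    rw [Category.assoc, reassoc_of% hbb', biprod.inl_fst], by
    rw [hq]; simp only [Category.assoc]⟩
  have qq : q ≫ q = q := by
    rw [hq]
    simp only [Category.assoc, reassoc_of% hbb', biprod.inl_fst_assoc]
  have hp1 : biprod.lift e₁ e₁' ≫ (biprod.fst ≫ biprod.inl) ≫ biprod.desc i₁ i₁' = φ.hom₁ := by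
    rw [Category.assoc, biprod.inl_desc, biprod.lift_fst_assoc, b1]
  have hp3 : biprod.lift e₃ e₃' ≫ (biprod.fst ≫ biprod.inl) ≫ biprod.desc i₃ i₃' = φ.hom₃ := by
    rw [Category.assoc, biprod.inl_desc, biprod.lift_fst_assoc, b3]
  have hq1 : φ.hom₁ ≫ T.mor₁ = T.mor₁ ≫ q := by
    have := conj_comm T.mor₁ (biprod.map f' f'') (biprod.desc i₁ i₁') (biprod.lift e₁ e₁') b b'
      k1' hbb' hb1 (biprod.fst ≫ biprod.inl) (biprod.fst ≫ biprod.inl) (proj_comm f' f'')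
    rw [hp1] at this
    rw [hq]
    exact this
  have hq2 : q ≫ T.mor₂ = T.mor₂ ≫ φ.hom₃ := by
    have := conj_comm T.mor₂ (biprod.map g' g'') b b' (biprod.desc i₃ i₃') (biprod.lift e₃ e₃')
      hb'b k3 hb2 (biprod.fst ≫ biprod.inl) (biprod.fst ≫ biprod.inl) (proj_comm g' g'')
    rw [hp3] at this
    rw [hq]
    exact this
  obtain ⟨n, hn⟩ : ∃ n : T.obj₂ ⟶ T.obj₂, n = φ.hom₂ - q := ⟨_, rfl⟩
  have h1n : T.mor₁ ≫ n = 0 := by
    rw [hn, Preadditive.comp_sub, φ.comm₁, hq1, sub_self]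
  have hn2 : n ≫ T.mor₂ = 0 := by
    rw [hn, Preadditive.sub_comp, ← φ.comm₂, hq2, sub_self]
  obtain ⟨m, hm⟩ := Triangle.coyoneda_exact₂ T hT n hn2
  have hnn : n ≫ n = 0 := by
    calc n ≫ n = (m ≫ T.mor₁) ≫ n := by rw [← hm]
      _ = 0 := by rw [Category.assoc, h1n, comp_zero]
  have hnpn : n ≫ φ.hom₂ ≫ n = 0 := by
    calc n ≫ φ.hom₂ ≫ n = (m ≫ T.mor₁) ≫ φ.hom₂ ≫ n := by rw [← hm]
      _ = 0 := by rw [Category.assoc, reassoc_of% φ.comm₁, h1n, comp_zero, comp_zero]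
  exact splits_of_conj φ.hom₂ q n (by rw [hn]; abel) hφ qq hnn hnpn sq

variable [IsTriangulated C]

lemma splits_base (t : TStructure C) (a : ℤ) (X : C) (hle : t.IsLE X a) (hge : t.IsGE X a)
    (p : X ⟶ X) (hp : p ≫ p = p) : Splits p := by
  let P : ObjectProperty C := fun Y => t.IsLE Y a ∧ t.IsGE Y a
  have hs : H10TH.IsSlice t P.ι a :=
    { le := fun Y => (Y.property : t.IsLE Y.obj a ∧ t.IsGE Y.obj a).1
      ge := fun Y => (Y.property : t.IsLE Y.obj a ∧ t.IsGE Y.obj a).2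
      ess := fun Y h1 h2 => ⟨⟨Y, h1, h2⟩, ⟨Iso.refl _⟩⟩ }
  haveI : IsIdempotentComplete P.FullSubcategory := by
    rw [Idempotents.isIdempotentComplete_iff_idempotents_have_kernels]
    intro X' p' _
    exact AbelianSubcategory.hasKernel_of_admissibleMorphism (H10TH.hι hs) p'
      (H10TH.admissible hs p')
  obtain ⟨Y, i, e, h1, h2⟩ := IsIdempotentComplete.idempotents_split
    (⟨X, hle, hge⟩ : P.FullSubcategory) (ObjectProperty.homMk p) (ObjectProperty.hom_ext _ hp)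
  exact ⟨Y.obj, i.hom, e.hom, congrArg InducedCategory.Hom.hom h1,
    congrArg InducedCategory.Hom.hom h2⟩

lemma splits_main (t : TStructure C) : ∀ (n : ℕ) (a : ℤ) (X : C), t.IsGE X a →
    t.IsLE X (a + n) → ∀ (p : X ⟶ X), p ≫ p = p → Splits p := by
  intro n
  induction n with
  | zero =>
    intro a X hge hle p hp
    simp only [Nat.cast_zero, add_zero] at hle
    exact splits_base t a X hle hge p hp
  | succ n ih =>
    intro a X hge hle p hp
    haveI := hge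
    have hle1 : t.IsLE X (a + n + 1) := by
      have h := hle
      rw [Nat.cast_succ, ← add_assoc] at h
      exact h
    haveI := hle1
    have s₁ : Splits ((t.truncLE (a + n)).map p) :=
      ih a ((t.truncLE (a + n)).obj X) inferInstance inferInstance ((t.truncLE (a + n)).map p)
        (by rw [← Functor.map_comp, hp])
    have s₁' : Splits (𝟙 _ - (t.truncLE (a + n)).map p) :=
      ih a ((t.truncLE (a + n)).obj X) inferInstance inferInstance _
        (Idempotents.idem_of_id_sub_idem _ (by rw [← Functor.map_comp, hp]))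
    have s₃ : Splits ((t.truncGE (a + n + 1)).map p) :=
      splits_base t (a + n + 1) ((t.truncGE (a + n + 1)).obj X) inferInstance inferInstance _
        (by rw [← Functor.map_comp, hp])
    have s₃' : Splits (𝟙 _ - (t.truncGE (a + n + 1)).map p) :=
      splits_base t (a + n + 1) ((t.truncGE (a + n + 1)).obj X) inferInstance inferInstance _
        (Idempotents.idem_of_id_sub_idem _ (by rw [← Functor.map_comp, hp]))
    exact splits_middle _ (t.triangleLEGE_distinguished (a + n) (a + n + 1) rfl X)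
      ((t.triangleLEGE (a + n) (a + n + 1) rfl).map p) hp s₁ s₁' s₃ s₃'

theorem idem_complete (t : TStructure C) (hb : ∀ X : C, t.bounded X) :
    IsIdempotentComplete C := by
  refine ⟨fun X p hp => ?_⟩
  have h : t.plus X ∧ t.minus X := hb X
  obtain ⟨⟨a, ha⟩, ⟨b, hb'⟩⟩ := h
  haveI := hb'
  have hle : t.IsLE X (a + ((b - a).toNat : ℤ)) := t.isLE_of_le X b _ (by omega)
  exact splits_main t (b - a).toNat a X ha hle p hp

end Tri

end H10Idem
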