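import Mathlib
import Groth.Agent.Lib.Helper10.ImmQC1

/-!
# Translating the lifting hypotheses to a scheme chart
-/

set_option autoImplicit false
set_option backward.isDefEq.respectTransparency false
set_option backward.isDefEq.respectTransparency.types false

universe u

open CategoryTheory CategoryTheory.Limits AlgebraicGeometry Opposite

namespace H10PT.ImmQC

open Groth.Agent.Lib.Helper10.Fib Groth.Agent.Lib.Helper10.Gerbe Groth.Agent.Lib.Helper10.AlgStRep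
open Groth.Agent.Lib.Helper28.AlgSt.ChartOver Groth.Agent.Lib.Helper28.AlgSt.SpaceCalc
open Groth.Agent.Lib.Helper28.AlgSt.PropInst Groth.Agent.Lib.Helper28.AlgSt.Key
open Groth.Agent.Lib.Helper28.AlgSt.Bridge
open Groth.Agent.Lib.Helper16 Groth.Agent.Lib.Helper16.AlgStDC
open Groth.Agent.Lib.Helper28.AlgSt.Whisker
open H10PT.MonoQC

variable {S : Scheme.{u}} {𝒳 𝒴 : AlgSt.Cat S}

/-- The lifting hypothesis for discrete valuation rings. -/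
def DvrLift (f : 𝒴 ⥤ᵇ 𝒳) : Prop :=
  ∀ (A : Type u) [CommRing A] [IsDomain A] [IsDiscreteValuationRing A] (K : Type u) [Field K] [Algebra A K]
    [IsFractionRing A K] (sA : Spec (CommRingCat.of A) ⟶ S) (a : FibCat.overCat (Over.mk sA) ⥤ᵇ 𝒳),
    (∃ yK : FibCat.overCat (Over.mk (Spec.map (CommRingCat.ofHom (algebraMap A K)) ≫ sA)) ⥤ᵇ 𝒴,
        Nonempty (BasedFunctor.comp yK f ≅ BasedFunctor.comp (AlgSt.overMap (Over.homMk (Spec.map (CommRingCat.ofHom (algebraMap A K))) rfl : Over.mk ((Spec.map (CommRingCat.ofHom (algebraMap A K))) ≫ sA) ⟶ Over.mk sA)) a)) →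
    (∃ yk : FibCat.overCat (Over.mk (Spec.map (CommRingCat.ofHom (IsLocalRing.residue A)) ≫ sA)) ⥤ᵇ 𝒴,
        Nonempty (BasedFunctor.comp yk f ≅ BasedFunctor.comp (AlgSt.overMap (Over.homMk (Spec.map (CommRingCat.ofHom (IsLocalRing.residue A))) rfl : Over.mk ((Spec.map (CommRingCat.ofHom (IsLocalRing.residue A))) ≫ sA) ⟶ Over.mk sA)) a)) →
    ∃ y : FibCat.overCat (Over.mk sA) ⥤ᵇ 𝒴, Nonempty (BasedFunctor.comp y f ≅ a)

variable {W Y : Over S} (w : FibCat.overCat W ⥤ᵇ 𝒳) (f : 𝒴 ⥤ᵇ 𝒳) (fY : Y ⟶ W)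
  (E : FibCat.overCat Y ⥤ᵇ FibCat.fp w f)
  (ψ : BasedFunctor.comp E (FibCat.fpFst w f) ≅ AlgSt.overMap fY)

include ψ in
theorem denseLift_scheme (hE : FibCat.IsEquivOver E) (hc : DenseLift f) :
    ∀ (A : Type u) [CommRing A] [IsDomain A] (s : Spec (CommRingCat.of A) ⟶ W.left)
      (D : Set ↥(Spec (CommRingCat.of A))), Dense D →
      (∀ p ∈ D, ∃ l : Spec ((Spec (CommRingCat.of A)).residueField p) ⟶ Y.left,
          l ≫ fY.left = (Spec (CommRingCat.of A)).fromSpecResidueField p ≫ s) →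
        ∃ U : (Spec (CommRingCat.of A)).Opens, (U : Set ↥(Spec (CommRingCat.of A))).Nonempty ∧
          ∃ l : (U : Scheme.{u}) ⟶ Y.left, l ≫ fY.left = U.ι ≫ s := by
  intro A _ _ s D hD hpt
  obtain ⟨s', hs'⟩ : ∃ s' : Over.mk (s ≫ W.hom) ⟶ W, s' = Over.homMk s rfl := ⟨_, rfl⟩
  obtain ⟨U, hUne, yU, ⟨θ⟩⟩ := hc A (s ≫ W.hom) (BasedFunctor.comp (AlgSt.overMap s') w) D hD (by
    intro p hp
    obtain ⟨l, hl⟩ := hpt p hp
    have hw : l ≫ Y.hom = (Spec (CommRingCat.of A)).fromSpecResidueField p ≫ s ≫ W.hom := by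
      rw [← Over.w fY, ← Category.assoc, hl, Category.assoc]
    obtain ⟨l', hl'⟩ : ∃ l' : Over.mk ((Spec (CommRingCat.of A)).fromSpecResidueField p ≫
        s ≫ W.hom) ⟶ Y, l' = Over.homMk l hw := ⟨_, rfl⟩
    have hfac : l' ≫ fY = (Over.homMk ((Spec (CommRingCat.of A)).fromSpecResidueField p) rfl :
        Over.mk ((Spec (CommRingCat.of A)).fromSpecResidueField p ≫ s ≫ W.hom) ⟶
          Over.mk (s ≫ W.hom)) ≫ s' := by
      apply Over.OverMorphism.ext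
      rw [hl', hs']
      exact hl
    obtain ⟨yp, ⟨θp⟩⟩ := liftable_of_factor w f fY E ψ _ l' hfac
    exact ⟨yp, ⟨θp ≪≫ (wr (overMapCompIso _ s') w).symm⟩⟩)
  refine ⟨U, hUne, ?_⟩
  have hl : Liftable f (BasedFunctor.comp (AlgSt.overMap
      ((Over.homMk U.ι rfl : Over.mk (U.ι ≫ s ≫ W.hom) ⟶ Over.mk (s ≫ W.hom)) ≫ s')) w) :=
    ⟨yU, ⟨θ ≪≫ wr (overMapCompIso _ s') w⟩⟩
  obtain ⟨l, hl'⟩ := exists_factor_of_liftable w f fY E ψ hE _ hl
  refine ⟨l.left, ?_⟩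
  have h2 := congrArg (fun t => t.left) hl'
  rw [hs'] at h2
  exact h2

include ψ in
theorem dvrLift_scheme (hE : FibCat.IsEquivOver E) [Mono fY.left] (hb : DvrLift f) :
    ∀ Sq : ValuativeCommSq fY.left, IsDiscreteValuationRing Sq.R →
      (∃ l₀ : Spec (CommRingCat.of (IsLocalRing.ResidueField Sq.R)) ⟶ Y.left,
          l₀ ≫ fY.left = Spec.map (CommRingCat.ofHom (IsLocalRing.residue Sq.R)) ≫ Sq.i₂) →
        Sq.commSq.HasLift := by
  rintro Sq hdvr ⟨l₀, hl₀⟩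
  haveI := hdvr
  obtain ⟨s', hs'⟩ : ∃ s' : Over.mk (Sq.i₂ ≫ W.hom) ⟶ W, s' = Over.homMk Sq.i₂ rfl := ⟨_, rfl⟩
  obtain ⟨y, ⟨θ⟩⟩ := hb Sq.R Sq.K (Sq.i₂ ≫ W.hom) (BasedFunctor.comp (AlgSt.overMap s') w) (by
    have hw : Sq.i₁ ≫ Y.hom = Spec.map (CommRingCat.ofHom (algebraMap Sq.R Sq.K)) ≫
        Sq.i₂ ≫ W.hom := by
      rw [← Over.w fY, ← Category.assoc, Sq.commSq.w, Category.assoc]
    obtain ⟨l', hl'⟩ : ∃ l' : Over.mk (Spec.map (CommRingCat.ofHom (algebraMap Sq.R Sq.K)) ≫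
        Sq.i₂ ≫ W.hom) ⟶ Y, l' = Over.homMk Sq.i₁ hw := ⟨_, rfl⟩
    have hfac : l' ≫ fY = (Over.homMk (Spec.map (CommRingCat.ofHom (algebraMap Sq.R Sq.K))) rfl :
        Over.mk (Spec.map (CommRingCat.ofHom (algebraMap Sq.R Sq.K)) ≫ Sq.i₂ ≫ W.hom) ⟶
          Over.mk (Sq.i₂ ≫ W.hom)) ≫ s' := by
      apply Over.OverMorphism.ext
      rw [hl', hs']
      exact Sq.commSq.w
    obtain ⟨yp, ⟨θp⟩⟩ := liftable_of_factor w f fY E ψ _ l' hfac
    exact ⟨yp, ⟨θp ≪≫ (wr (overMapCompIso _ s') w).symm⟩⟩) (by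
    have hw : l₀ ≫ Y.hom = Spec.map (CommRingCat.ofHom (IsLocalRing.residue Sq.R)) ≫
        Sq.i₂ ≫ W.hom := by
      rw [← Over.w fY, ← Category.assoc, hl₀, Category.assoc]
    obtain ⟨l', hl'⟩ : ∃ l' : Over.mk (Spec.map (CommRingCat.ofHom (IsLocalRing.residue Sq.R)) ≫
        Sq.i₂ ≫ W.hom) ⟶ Y, l' = Over.homMk l₀ hw := ⟨_, rfl⟩
    have hfac : l' ≫ fY = (Over.homMk (Spec.map (CommRingCat.ofHom (IsLocalRing.residue Sq.R))) rfl :
        Over.mk (Spec.map (CommRingCat.ofHom (IsLocalRing.residue Sq.R)) ≫ Sq.i₂ ≫ W.hom) ⟶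
          Over.mk (Sq.i₂ ≫ W.hom)) ≫ s' := by
      apply Over.OverMorphism.ext
      rw [hl', hs']
      exact hl₀
    obtain ⟨yp, ⟨θp⟩⟩ := liftable_of_factor w f fY E ψ _ l' hfac
    exact ⟨yp, ⟨θp ≪≫ (wr (overMapCompIso _ s') w).symm⟩⟩)
  obtain ⟨l, hl⟩ := exists_factor_of_liftable w f fY E ψ hE s' ⟨y, ⟨θ⟩⟩
  have hl2 : l.left ≫ fY.left = Sq.i₂ := by
    have h2 := congrArg (fun t => t.left) hl
    rw [hs'] at h2
    exact h2
  refine ⟨⟨{ l := l.left, fac_left := ?_, fac_right := hl2 }⟩⟩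
  rw [← cancel_mono fY.left, Category.assoc, hl2, Sq.commSq.w]

end H10PT.ImmQC
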