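import Mathlib
import Groth.Agent.Lib.Helper10.ImmQC2
import Groth.Agent.Lib.Helper16.UnramMono
import Groth.Agent.Lib.Helper16.ZmtSp1
import Groth.Agent.S10538
import Groth.Agent.Lib.Helper28.AlgSt.CompInst
import Groth.Agent.S10259
import Groth.Agent.S15348
import Groth.Agent.S15349

/-!
# Monomorphisms of algebraic stacks with the lifting properties are quasi-compact immersions
-/

set_option autoImplicit false
set_option backward.isDefEq.respectTransparency false
set_option backward.isDefEq.respectTransparency.types false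

universe u

open CategoryTheory CategoryTheory.Limits AlgebraicGeometry Opposite

namespace H10PT.ImmQC

open Groth.Agent.Lib.Helper10.Fib Groth.Agent.Lib.Helper10.Gerbe Groth.Agent.Lib.Helper10.AlgStRep
open Groth.Agent.Lib.Helper28.AlgSt.ChartOver Groth.Agent.Lib.Helper28.AlgSt.SpaceCalc
open Groth.Agent.Lib.Helper28.AlgSt.PropInst Groth.Agent.Lib.Helper28.AlgSt.Key
open Groth.Agent.Lib.Helper28.AlgSt.Bridge Groth.Agent.Lib.Helper28.AlgSt.Descent
open Groth.Agent.Lib.Helper16 Groth.Agent.Lib.Helper16.AlgStDC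
open Groth.Agent.Lib.Helper28.AlgSt.Whisker
open H10PT.MonoQC

variable {S : Scheme.{u}} {𝒳 𝒴 : AlgSt.Cat S}

theorem bc_qcImm : BC (S := S) (AlgSp.RepWith (@IsImmersion ⊓ @QuasiCompact)) :=
  fun _ _ _ _ _ _ _ _ _ _ _ _ sq h =>
    (AlgSp.RepWith (S := S) (@IsImmersion ⊓ @QuasiCompact)).of_isPullback sq h

theorem loc_qcImm :
    AlgSp.IsLocalOnBase AlgSp.IsFppfCover (AlgSp.RepWith (S := S) (@IsImmersion ⊓ @QuasiCompact)) :=
  Groth.Agent.Lib.Helper28.AlgSt.Comp.isLocalOnBase_fppf_of_fpqc (Groth.Agent.S10538.result S)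

theorem repByAlgSpWith_qcImm (h𝒳 : AlgSt.IsAlgStack Scheme.fppfPrecoverage 𝒳)
    (h𝒴 : AlgSt.IsAlgStack Scheme.fppfPrecoverage 𝒴)
    (hnoeth : AlgSt.SmoothLocally (fun X => IsLocallyNoetherian X) 𝒳) (f : 𝒴 ⥤ᵇ 𝒳)
    (hlfp : AlgSt.RepByAlgSpWith (AlgSp.LocP @LocallyOfFinitePresentation) f)
    (ha : AlgSt.IsMono f) (hb : DvrLift f) (hc : DenseLift f) :
    AlgSt.RepByAlgSpWith (AlgSp.RepWith (@IsImmersion ⊓ @QuasiCompact)) f := by
  obtain ⟨W, w, hw1, hw2⟩ := h𝒳.atlas
  haveI : IsLocallyNoetherian W.left := hnoeth W w hw1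
  have hrep : AlgSt.RepByAlgSp1 f := repByAlgSp1_of_with _ _ ha
  obtain ⟨F, e, he, hmono⟩ := ha W w
  obtain ⟨Φ, hΦ⟩ : ∃ Φ : AlgSt.ofSp F.obj ⥤ᵇ FibCat.overCat W,
      Φ = BasedFunctor.comp e (FibCat.fpFst w f) := ⟨_, rfl⟩
  rw [← hΦ] at hmono
  let M : F ⟶ (AlgSp.ofScheme S).obj W := ObjectProperty.homMk (AlgSt.spMapOfOver Φ)
  haveI hMmono : Mono M.hom := hmono
  have hlfp' : AlgSt.RepByAlgSpWith (AlgSp.LocP @LocallyOfFinitePresentation) (FibCat.fpFst w f) :=
    repByAlgSpWith_fpFst _ f w hlfp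
  have hMlfp : AlgSp.LocP @LocallyOfFinitePresentation M.hom := by
    have h1 := (repByAlgSpWith_iff_chart _ good_lfp.bc good_lfp.loc (FibCat.fpFst w f) e he).1 hlfp'
    rw [← hΦ] at h1
    exact h1
  have hsep : AlgSp.IsSeparatedMor M.hom :=
    Groth.Agent.Lib.Helper16.ZmtSp.isSeparatedMor_of_mono M.hom
  have hlft : AlgSp.LocP @LocallyOfFiniteType M.hom :=
    locP_mono (fun X Y g hg => by
      haveI : LocallyOfFinitePresentation g := hg
      exact (inferInstance : LocallyOfFiniteType g)) hMlfp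
  have hunr := Groth.Agent.Lib.Helper16.UnramMono.locP_unramified_of_mono_lft F.property
    (AlgSp.IsAlgSpace.yon_obj W) M.hom hlft
  have hqf : AlgSp.LocP (@LocallyQuasiFinite ⊓ @LocallyOfFiniteType) M.hom :=
    locP_mono (fun X Y g hg => by
      haveI : LocallyOfFiniteType g := hg.1
      haveI : FormallyUnramified g := hg.2
      exact ⟨locallyQuasiFinite_of_unramified g, hg.1⟩) hunr
  have hF : F.obj.obj.IsRepresentable := Groth.Agent.S10259.result W F M hqf hsep
  obtain ⟨Y, i, fY, E, hE, hfY, ⟨ψ⟩⟩ := exists_scheme_chart F hF e he (FibCat.fpFst w f)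
  rw [← hΦ] at hfY
  haveI hmonoY : Mono fY.left := by
    haveI h1 : Mono ((AlgSp.yon S).map fY) := by
      rw [← hfY]
      exact mono_comp i.hom M.hom
    haveI h2 : Mono fY := Functor.mono_of_mono_map (AlgSp.yon S) h1
    infer_instance
  haveI hlfpY : LocallyOfFinitePresentation fY.left :=
    hMlfp i.hom (𝟙 _) fY (MorphismProperty.of_isIso (AlgSp.RepWith @Etale) i.hom)
      (AlgSp.repWith_id @Etale W) (by rw [Category.comp_id]; exact hfY)
  have hbS := dvrLift_scheme w f fY E ψ hE hb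
  have hcS := denseLift_scheme w f fY E ψ hE hc
  have himm : IsImmersion fY.left := Groth.Agent.S15348.result fY.left hbS hcS
  have hqc : QuasiCompact fY.left := Groth.Agent.S15349.result fY.left hcS
  have hP : AlgSp.RepWith (@IsImmersion ⊓ @QuasiCompact) (AlgSt.spMapOfOver Φ) := by
    rw [← MorphismProperty.cancel_left_of_respectsIso
      (AlgSp.RepWith (@IsImmersion ⊓ @QuasiCompact)) i.hom, hfY, AlgSp.repWith_yon_map_iff]
    exact ⟨himm, hqc⟩
  have h' : AlgSt.RepByAlgSpWith (AlgSp.RepWith (@IsImmersion ⊓ @QuasiCompact))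
      (FibCat.fpFst w f) := by
    refine (repByAlgSpWith_iff_chart _ bc_qcImm loc_qcImm (FibCat.fpFst w f) e he).2 ?_
    rw [← hΦ]
    exact hP
  exact repByAlgSpWith_of_fpFst_cover h𝒴.isStack.1 h𝒳.isStack.1 (isFibGrpd_overForget W) _
    bc_qcImm loc_qcImm f hrep w (repFlat_of_smooth w hw1) (repLfp_of_smooth w hw1) hw2 h'

end H10PT.ImmQC
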