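import Groth.Agent.Lib.Helper10.IndCofBase

/-!
# Objects of cofinite type: descending chains of subobjects of cofinite type are stationary

In the abstract setting of `H10Ind.Setting`, assuming moreover that every small object is killed
by a power of `p` (`chain_stabilizes`).
-/

set_option autoImplicit false

open CategoryTheory CategoryTheory.Limits

universe v u

namespace H10Ind

section Art

variable {𝒜 : Type u} [Category.{v} 𝒜] [Abelian 𝒜] {P : ObjectProperty 𝒜}

/-- `p^n U` as a subobject of `A`, for a subobject `U` of `A`. -/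
noncomputable def Dn {A : 𝒜} (U : Subobject A) (p n : ℕ) : Subobject A :=
  imageSubobject (((p ^ n) • 𝟙 (U : 𝒜)) ≫ U.arrow)

lemma Dn_factors_iff {A : 𝒜} (U : Subobject A) (p n : ℕ) {T : 𝒜} (x : T ⟶ A) :
    (Dn U p n).Factors x ↔ ∃ (T' : 𝒜) (π : T' ⟶ T) (_ : Epi π) (s : T' ⟶ (U : 𝒜)),
      π ≫ x = (p ^ n) • (s ≫ U.arrow) := by
  unfold Dn
  rw [imageSubobject_factors_iff]
  have e : ∀ {T' : 𝒜} (s : T' ⟶ (U : 𝒜)),
      s ≫ ((p ^ n) • 𝟙 (U : 𝒜)) ≫ U.arrow = (p ^ n) • (s ≫ U.arrow) := by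
    intro T' s
    rw [Preadditive.nsmul_comp, Category.id_comp, Preadditive.comp_nsmul]
  constructor
  · rintro ⟨T', π, hπ, s, hs⟩
    exact ⟨T', π, hπ, s, by rw [hs, e]⟩
  · rintro ⟨T', π, hπ, s, hs⟩
    exact ⟨T', π, hπ, s, by rw [hs, e]⟩

lemma Dn_nsmul {A : 𝒜} (U : Subobject A) (p n : ℕ) {T : 𝒜} (s : T ⟶ (U : 𝒜)) :
    (Dn U p n).Factors ((p ^ n) • (s ≫ U.arrow)) :=
  (Dn_factors_iff U p n _).2 ⟨T, 𝟙 T, inferInstance, s, Category.id_comp _⟩

lemma Dn_le_of_le {A : 𝒜} {U U' : Subobject A} (h : U' ≤ U) (p n : ℕ) :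
    Dn U' p n ≤ Dn U p n := by
  apply le_of_forall_factors
  intro T x hx
  obtain ⟨T', π, hπ, s, hs⟩ := (Dn_factors_iff U' p n x).1 hx
  apply factors_of_epi_comp π
  rw [hs, ← Subobject.ofLE_arrow h, ← Category.assoc]
  exact Dn_nsmul U p n _

/-- If `N` is a stabilisation index for `(U : 𝒜)`, then `p^N U ≤ p^n U` for all `n`. -/
lemma Dn_stab_le {A : 𝒜} (U : Subobject A) (p N : ℕ)
    (hN : ∀ n, N ≤ n → Im (U : 𝒜) p n = Im (U : 𝒜) p N) (n : ℕ) : Dn U p N ≤ Dn U p n := by
  apply le_of_forall_factors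
  intro T x hx
  obtain ⟨T', π, hπ, s, hs⟩ := (Dn_factors_iff U p N x).1 hx
  obtain ⟨T'', π', hπ', s', hs'⟩ := exists_div_of_stab hN n s
  apply factors_of_epi_comp (π' ≫ π)
  have e : (π' ≫ π) ≫ x = (p ^ n) • (s' ≫ U.arrow) := by
    rw [Category.assoc, hs, ← Preadditive.nsmul_comp, ← Category.assoc, hs',
      Preadditive.nsmul_comp]
  rw [e]
  exact Dn_nsmul U p n s'

lemma hmapU_factors_iff {A : 𝒜} (U : Subobject A) (p k : ℕ) {T : 𝒜} (x : T ⟶ tor A p) :
    (imageSubobject (hmap U.arrow p k)).Factors x ↔ (Dn U p k).Factors (x ≫ torι A p) := by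
  rw [hmap_factors_iff, Dn_factors_iff]

lemma torMapU_factors_iff {A : 𝒜} (U : Subobject A) (n : ℕ) {T : 𝒜} (x : T ⟶ tor A n) :
    (imageSubobject (torMap U.arrow n)).Factors x ↔ U.Factors (x ≫ torι A n) := by
  constructor
  · intro h
    obtain ⟨T', π, hπ, y, hy⟩ := (imageSubobject_factors_iff _ _).1 h
    apply factors_of_epi_comp π
    have e : π ≫ x ≫ torι A n = (y ≫ torι (U : 𝒜) n) ≫ U.arrow := by
      rw [← Category.assoc, hy, Category.assoc, torMap_ι, Category.assoc]
    rw [e]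
    exact Subobject.factors_comp_arrow _
  · intro h
    have h0 : n • U.factorThru _ h = 0 := by
      rw [← cancel_mono U.arrow, zero_comp, Preadditive.nsmul_comp,
        Subobject.factorThru_arrow, nsmul_comp_torι]
    have e : x = torLift n _ h0 ≫ torMap U.arrow n := by
      rw [← cancel_mono (torι A n), Category.assoc, torMap_ι, torLift_ι_assoc,
        Subobject.factorThru_arrow]
    exact (imageSubobject_factors_iff _ _).2
      ⟨T, 𝟙 T, inferInstance, torLift n _ h0, by rw [Category.id_comp]; exact e⟩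

/-- **Descending chains of subobjects of cofinite type are stationary.** -/
theorem chain_stabilizes (hP : Setting P) (p : ℕ)
    (htor : ∀ T : 𝒜, P T → ∃ n : ℕ, (p ^ n) • 𝟙 T = 0)
    (A : 𝒜) (hA : ∀ n, P (tor A (p ^ n))) (S : ℕ → Subobject A) (hS : Antitone S)
    (hcof : ∀ m n, P (tor ((S m : Subobject A) : 𝒜) (p ^ n))) :
    ∃ N, ∀ m, N ≤ m → S m = S N := by
  have hA1 : P (tor A p) := by
    have := hA 1
    rwa [pow_one] at this
  choose Nm hNm using fun m => im_stabilizes hP ((S m : Subobject A) : 𝒜) p (hcof m)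
  have hDle : ∀ m n, Dn (S m) p (Nm m) ≤ Dn (S m) p n := fun m n =>
    Dn_stab_le (S m) p (Nm m) (hNm m) n
  have hDanti : ∀ m m', m ≤ m' → Dn (S m') p (Nm m') ≤ Dn (S m) p (Nm m) := fun m m' h =>
    (hDle m' (Nm m)).trans (Dn_le_of_le (hS h) p (Nm m))
  obtain ⟨M₀, hM₀⟩ := hP.art (tor A p) hA1
    (fun m => imageSubobject (hmap (S m).arrow p (Nm m)))
    (by
      intro m m' h
      show imageSubobject (hmap (S m').arrow p (Nm m')) ≤
        imageSubobject (hmap (S m).arrow p (Nm m))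
      apply le_of_forall_factors
      intro T x hx
      rw [hmapU_factors_iff] at hx ⊢
      exact Subobject.factors_of_le _ (hDanti m m' h) hx)
    (fun m => hP.image _ (hcof m (Nm m + 1)) hA1)
  have key : ∀ m, M₀ ≤ m → ∀ (k : ℕ) {T : 𝒜} (x : T ⟶ A),
      (Dn (S M₀) p (Nm M₀)).Factors x → (p ^ k) • x = 0 →
        (Dn (S m) p (Nm m)).Factors x := by
    intro m hm k
    induction k with
    | zero =>
      intro T x _ h0
      rw [pow_zero, one_nsmul] at h0
      rw [h0]; exact Subobject.factors_zero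
    | succ k ih =>
      intro T x hx h0
      have hx'1 : (Dn (S M₀) p (Nm M₀)).Factors ((p ^ k) • x) := by
        have e : (p ^ k) • x = ((p ^ k) • 𝟙 T) ≫ x := by
          rw [Preadditive.nsmul_comp, Category.id_comp]
        rw [e]; exact Subobject.factors_of_factors_right _ hx
      have hx'2 : p • ((p ^ k) • x) = 0 := by rw [← pow_succ_nsmul]; exact h0
      have h3 : (imageSubobject (hmap (S M₀).arrow p (Nm M₀))).Factors
          (torLift p _ hx'2) := by
        rw [hmapU_factors_iff, torLift_ι]; exact hx'1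
      have h3' : (imageSubobject (hmap (S m).arrow p (Nm m))).Factors
          (torLift p _ hx'2) := by
        have e3 : imageSubobject (hmap (S m).arrow p (Nm m)) =
            imageSubobject (hmap (S M₀).arrow p (Nm M₀)) := hM₀ m hm
        rw [e3]
        exact h3
      rw [hmapU_factors_iff, torLift_ι] at h3'
      have h4 := Subobject.factors_of_le _ (hDle m (Nm m + k)) h3'
      obtain ⟨T', π, hπ, s, hs⟩ := (Dn_factors_iff (S m) p (Nm m + k) _).1 h4
      have hy1 : (Dn (S m) p (Nm m)).Factors ((p ^ (Nm m)) • (s ≫ (S m).arrow)) :=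
        Dn_nsmul _ _ _ s
      have hy2 : (Dn (S M₀) p (Nm M₀)).Factors ((p ^ (Nm m)) • (s ≫ (S m).arrow)) :=
        Subobject.factors_of_le _ (hDanti M₀ m hm) hy1
      have hw1 : (Dn (S M₀) p (Nm M₀)).Factors
          (π ≫ x - (p ^ (Nm m)) • (s ≫ (S m).arrow)) :=
        factors_sub _ _ (Subobject.factors_of_factors_right π hx) hy2
      have hw2 : (p ^ k) • (π ≫ x - (p ^ (Nm m)) • (s ≫ (S m).arrow)) = 0 := by
        rw [nsmul_sub, ← Preadditive.comp_nsmul, hs, ← pow_add_nsmul, add_comm k (Nm m),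
          sub_self]
      have hw3 := ih _ hw1 hw2
      apply factors_of_epi_comp π
      have e : π ≫ x = (π ≫ x - (p ^ (Nm m)) • (s ≫ (S m).arrow)) +
          (p ^ (Nm m)) • (s ≫ (S m).arrow) := (sub_add_cancel _ _).symm
      rw [e]
      exact Subobject.factors_add _ _ hw3 hy1
  have hD : ∀ m, M₀ ≤ m → Dn (S M₀) p (Nm M₀) ≤ Dn (S m) p (Nm m) := by
    intro m hm
    apply le_of_forall_factors_P hP.sep
    intro T hT x hx
    obtain ⟨k, hk⟩ := htor T hT
    apply key m hm k x hx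
    have e : (p ^ k) • x = ((p ^ k) • 𝟙 T) ≫ x := by
      rw [Preadditive.nsmul_comp, Category.id_comp]
    rw [e, hk, zero_comp]
  obtain ⟨M₁, hM₁⟩ := hP.art (tor A (p ^ Nm M₀)) (hA _)
    (fun m => imageSubobject (torMap (S m).arrow (p ^ Nm M₀)))
    (by
      intro m m' h
      show imageSubobject (torMap (S m').arrow (p ^ Nm M₀)) ≤
        imageSubobject (torMap (S m).arrow (p ^ Nm M₀))
      apply le_of_forall_factors
      intro T x hx
      rw [torMapU_factors_iff] at hx ⊢
      exact Subobject.factors_of_le _ (hS h) hx)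
    (fun m => hP.image _ (hcof m (Nm M₀)) (hA _))
  refine ⟨max M₀ M₁, fun m hm => le_antisymm (hS hm) ?_⟩
  have hm0 : M₀ ≤ m := (le_max_left _ _).trans hm
  have hm1 : M₁ ≤ m := (le_max_right _ _).trans hm
  apply le_of_forall_factors
  intro T x hx
  have hx0 : (S M₀).Factors x := Subobject.factors_of_le _ (hS (le_max_left M₀ M₁)) hx
  have h1 : (Dn (S M₀) p (Nm M₀)).Factors ((p ^ Nm M₀) • x) := by
    have e : (p ^ Nm M₀) • x = (p ^ Nm M₀) • ((S M₀).factorThru x hx0 ≫ (S M₀).arrow) := by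
      rw [Subobject.factorThru_arrow]
    rw [e]; exact Dn_nsmul _ _ _ _
  have h2 := Subobject.factors_of_le _ ((hD m hm0).trans (hDle m (Nm M₀))) h1
  obtain ⟨T', π, hπ, s, hs⟩ := (Dn_factors_iff (S m) p (Nm M₀) _).1 h2
  have ht0 : (p ^ Nm M₀) • (π ≫ x - s ≫ (S m).arrow) = 0 := by
    rw [nsmul_sub, ← Preadditive.comp_nsmul, hs, sub_self]
  have ht1 : (S (max M₀ M₁)).Factors (π ≫ x - s ≫ (S m).arrow) :=
    factors_sub _ _ (Subobject.factors_of_factors_right π hx)
      (Subobject.factors_of_le _ (hS hm) (Subobject.factors_comp_arrow s))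
  have ht2 : (imageSubobject (torMap (S (max M₀ M₁)).arrow (p ^ Nm M₀))).Factors
      (torLift _ _ ht0) := by
    rw [torMapU_factors_iff, torLift_ι]; exact ht1
  have ht3 : (imageSubobject (torMap (S m).arrow (p ^ Nm M₀))).Factors
      (torLift _ _ ht0) := by
    have e1 : imageSubobject (torMap (S m).arrow (p ^ Nm M₀)) =
        imageSubobject (torMap (S M₁).arrow (p ^ Nm M₀)) := hM₁ m hm1
    have e2 : imageSubobject (torMap (S (max M₀ M₁)).arrow (p ^ Nm M₀)) =
        imageSubobject (torMap (S M₁).arrow (p ^ Nm M₀)) := hM₁ (max M₀ M₁) (le_max_right _ _)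
    rw [e1, ← e2]; exact ht2
  rw [torMapU_factors_iff, torLift_ι] at ht3
  apply factors_of_epi_comp π
  have e : π ≫ x = (π ≫ x - s ≫ (S m).arrow) + s ≫ (S m).arrow := (sub_add_cancel _ _).symm
  rw [e]
  exact Subobject.factors_add _ _ ht3 (Subobject.factors_comp_arrow s)

end Art

end H10Ind
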