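import Groth.Agent.Lib.Helper10.IndCofBase

/-!
# Objects of cofinite type: cokernels of multiplication, kernels and cokernels of morphisms

In the abstract setting of `H10Ind.Setting`:
* `P_cokernel_nsmul`: if all `A[m^k]` are in `P`, then `A / m A` is in `P`;
* `P_tor_kernel`: `(ker f)[n]` is in `P` if `A[n]` and `B[n]` are;
* `P_tor_cokernel`: `(coker f)[m]` is in `P` if all `A[m^k]`, `B[m^k]` are.
-/

set_option autoImplicit false

open CategoryTheory CategoryTheory.Limits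

universe v u

namespace H10Ind

section Thm1

variable {𝒜 : Type u} [Category.{v} 𝒜] [Abelian 𝒜] {P : ObjectProperty 𝒜}

/-- **`A / m A` is small** if all `A[m^k]` are small. -/
theorem P_cokernel_nsmul (hP : Setting P) (A : 𝒜) (m : ℕ) (hA : ∀ k, P (tor A (m ^ k))) :
    P (cokernel (m • 𝟙 A)) := by
  obtain ⟨N₀, hN₀⟩ := im_stabilizes hP A m hA
  have hN : ∀ n, N₀ + 1 ≤ n → Im A m n = Im A m (N₀ + 1) := fun n hn =>
    (hN₀ n (by omega)).trans (hN₀ (N₀ + 1) (by omega)).symm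
  refine hP.of_exact_epi (powMul A m (N₀ + 1))
    (torι A (m ^ (N₀ + 1)) ≫ cokernel.π (m • 𝟙 A)) (hA (N₀ + 1 + 1)) (hA (N₀ + 1)) ?_ ?_ ?_
  · rw [powMul_ι_assoc, nsmul_comp_cokernel_π]
  · intro T x hx
    obtain ⟨T', π, hπ, y, hy⟩ := exists_of_comp_cokernel_π m (x ≫ torι A (m ^ (N₀ + 1)))
      (by rw [Category.assoc]; exact hx)
    have h0 : (m ^ (N₀ + 1 + 1)) • y = 0 := by
      rw [pow_succ_nsmul', ← hy, ← Preadditive.comp_nsmul, ← Preadditive.comp_nsmul, nsmul_torι,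
        comp_zero, comp_zero]
    refine ⟨T', π, hπ, torLift _ y h0, ?_⟩
    rw [← cancel_mono (torι A (m ^ (N₀ + 1))), Category.assoc, Category.assoc, powMul_ι,
      Preadditive.comp_nsmul, torLift_ι, hy]
  · intro T x
    obtain ⟨T₁, π₁, hπ₁, a, ha⟩ :=
      surjective_up_to_refinements_of_epi (cokernel.π (m • 𝟙 A)) x
    obtain ⟨T₂, π₂, hπ₂, y, hy⟩ := exists_div_of_stab hN (N₀ + 1 + (N₀ + 1)) a
    have h0 : (m ^ (N₀ + 1)) • (π₂ ≫ a - (m ^ (N₀ + 1)) • y) = 0 := by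
      rw [nsmul_sub, ← Preadditive.comp_nsmul, hy, ← pow_add_nsmul, sub_self]
    refine ⟨T₂, π₂ ≫ π₁, epi_comp _ _, torLift _ _ h0, ?_⟩
    rw [torLift_ι_assoc, Preadditive.sub_comp, pow_succ_nsmul, nsmul_comp_cokernel_π, sub_zero,
      Category.assoc, Category.assoc, ha]

/-- `(ker f)[n] ≅ ker (A[n] ⟶ B[n])`. -/
theorem P_tor_kernel (hP : Setting P) {A B : 𝒜} (f : A ⟶ B) (n : ℕ) (hA : P (tor A n))
    (hB : P (tor B n)) : P (tor (kernel f) n) := by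
  have hK : P (kernel (torMap f n)) := hP.ker _ hA hB
  have h1 : (kernel.ι (torMap f n) ≫ torι A n) ≫ f = 0 := by
    rw [Category.assoc, ← torMap_ι, kernel.condition_assoc, zero_comp]
  have h2 : n • kernel.lift f (kernel.ι (torMap f n) ≫ torι A n) h1 = 0 := by
    rw [← cancel_mono (kernel.ι f), zero_comp, Preadditive.nsmul_comp, kernel.lift_ι,
      ← Preadditive.comp_nsmul, nsmul_torι, comp_zero]
  have h3 : n • (torι (kernel f) n ≫ kernel.ι f) = 0 := by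
    rw [← Preadditive.nsmul_comp, nsmul_torι, zero_comp]
  have h4 : torLift n (torι (kernel f) n ≫ kernel.ι f) h3 ≫ torMap f n = 0 := by
    rw [← cancel_mono (torι B n), zero_comp, Category.assoc, torMap_ι, torLift_ι_assoc,
      Category.assoc, kernel.condition, comp_zero]
  have huv : torLift n _ h2 ≫ kernel.lift (torMap f n) _ h4 = 𝟙 _ := by
    rw [← cancel_mono (kernel.ι (torMap f n)), ← cancel_mono (torι A n)]
    simp only [Category.assoc, kernel.lift_ι, kernel.lift_ι_assoc, torLift_ι, torLift_ι_assoc,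
      Category.id_comp]
  have hvu : kernel.lift (torMap f n) _ h4 ≫ torLift n _ h2 = 𝟙 _ := by
    rw [← cancel_mono (torι (kernel f) n), ← cancel_mono (kernel.ι f)]
    simp only [Category.assoc, kernel.lift_ι, kernel.lift_ι_assoc, torLift_ι, torLift_ι_assoc,
      Category.id_comp]
  exact hP.iso ⟨torLift n _ h2, kernel.lift (torMap f n) _ h4, huv, hvu⟩ hK

end Thm1

namespace CokPart

variable {𝒜 : Type u} [Category.{v} 𝒜] [Abelian 𝒜] {A B : 𝒜} (f : A ⟶ B) (m N : ℕ)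

/-- `B[m^(N+1)] ⟶ coker (A[m^N] ⟶ B[m^N])`, `b ↦ [m b]`. -/
noncomputable def θ : tor B (m ^ (N + 1)) ⟶ cokernel (torMap f (m ^ N)) :=
  powMul B m N ≫ cokernel.π (torMap f (m ^ N))

/-- The comparison `coker (A[m^N] ⟶ B[m^N]) ⟶ coker f`. -/
noncomputable def d : cokernel (torMap f (m ^ N)) ⟶ cokernel f :=
  cokernel.desc (torMap f (m ^ N)) (torι B (m ^ N) ≫ cokernel.π f)
    (by rw [torMap_ι_assoc, cokernel.condition, comp_zero])

lemma θ_d : θ f m N ≫ d f m N = (m • torι B (m ^ (N + 1))) ≫ cokernel.π f := by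
  unfold θ d
  rw [Category.assoc, cokernel.π_desc, powMul_ι_assoc]

/-- `B'' = {b ∈ B[m^(N+1)] : m b ∈ f(A[m^N])}`. -/
noncomputable def Bpp : 𝒜 := kernel (θ f m N)

/-- The inclusion of `B''`. -/
noncomputable def β : Bpp f m N ⟶ tor B (m ^ (N + 1)) := kernel.ι (θ f m N)

instance : Mono (β f m N) := inferInstanceAs (Mono (kernel.ι (θ f m N)))

@[reassoc]
lemma β_θ : β f m N ≫ θ f m N = 0 := kernel.condition _

/-- Lifting to `B''`. -/
noncomputable def BppLift {T : 𝒜} (b : T ⟶ tor B (m ^ (N + 1))) (h : b ≫ θ f m N = 0) :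
    T ⟶ Bpp f m N := kernel.lift _ b h

@[reassoc]
lemma BppLift_β {T : 𝒜} (b : T ⟶ tor B (m ^ (N + 1))) (h : b ≫ θ f m N = 0) :
    BppLift f m N b h ≫ β f m N = b := kernel.lift_ι _ _ _

/-- The composite `B'' ⟶ B ⟶ coker f`. -/
noncomputable def ρ₀ : Bpp f m N ⟶ cokernel f :=
  β f m N ≫ torι B (m ^ (N + 1)) ≫ cokernel.π f

lemma nsmul_ρ₀ : m • ρ₀ f m N = 0 := by
  unfold ρ₀
  rw [← Preadditive.comp_nsmul, ← Preadditive.nsmul_comp, ← θ_d, ← Category.assoc, β_θ,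
    zero_comp]

/-- The morphism `B'' ⟶ (coker f)[m]`. -/
noncomputable def ρ : Bpp f m N ⟶ tor (cokernel f) m := torLift m (ρ₀ f m N) (nsmul_ρ₀ f m N)

@[reassoc]
lemma ρ_ι : ρ f m N ≫ torι (cokernel f) m =
    β f m N ≫ torι B (m ^ (N + 1)) ≫ cokernel.π f := torLift_ι _ _ _

/-- `W = {a ∈ A[m^(N+1)] : f a ∈ B''}`. -/
noncomputable def W : 𝒜 := kernel (torMap f (m ^ (N + 1)) ≫ θ f m N)

/-- The inclusion of `W`. -/
noncomputable def ω : W f m N ⟶ tor A (m ^ (N + 1)) := kernel.ι _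

lemma ω_cond : ω f m N ≫ torMap f (m ^ (N + 1)) ≫ θ f m N = 0 := kernel.condition _

/-- Lifting to `W`. -/
noncomputable def WLift {T : 𝒜} (a : T ⟶ tor A (m ^ (N + 1)))
    (h : a ≫ torMap f (m ^ (N + 1)) ≫ θ f m N = 0) : T ⟶ W f m N := kernel.lift _ a h

@[reassoc]
lemma WLift_ω {T : 𝒜} (a : T ⟶ tor A (m ^ (N + 1)))
    (h : a ≫ torMap f (m ^ (N + 1)) ≫ θ f m N = 0) : WLift f m N a h ≫ ω f m N = a :=
  kernel.lift_ι _ _ _

/-- The morphism `W ⟶ B''` induced by `f`. -/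
noncomputable def w : W f m N ⟶ Bpp f m N :=
  kernel.lift (θ f m N) (ω f m N ≫ torMap f (m ^ (N + 1)))
    (by rw [Category.assoc]; exact ω_cond f m N)

@[reassoc]
lemma w_β : w f m N ≫ β f m N = ω f m N ≫ torMap f (m ^ (N + 1)) := kernel.lift_ι _ _ _

lemma w_ρ : w f m N ≫ ρ f m N = 0 := by
  rw [← cancel_mono (torι (cokernel f) m), zero_comp, Category.assoc, ρ_ι,
    ← Category.assoc (w f m N), w_β, Category.assoc, torMap_ι_assoc, cokernel.condition,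
    comp_zero, comp_zero]

lemma exact_w_ρ
    (hK : ∀ ⦃T : 𝒜⦄ (x : T ⟶ kernel f),
      ∃ (T' : 𝒜) (π : T' ⟶ T) (_ : Epi π) (y : T' ⟶ kernel f),
        π ≫ ((m ^ N) • x) = (m ^ (N + 1)) • y)
    ⦃T : 𝒜⦄ (x : T ⟶ Bpp f m N) (hx : x ≫ ρ f m N = 0) :
    ∃ (T' : 𝒜) (π : T' ⟶ T) (_ : Epi π) (y : T' ⟶ W f m N), π ≫ x = y ≫ w f m N := by
  obtain ⟨b, hb⟩ : ∃ b : T ⟶ B, b = x ≫ β f m N ≫ torι B (m ^ (N + 1)) := ⟨_, rfl⟩
  have hbq : b ≫ cokernel.π f = 0 := by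
    rw [hb, Category.assoc, Category.assoc, ← ρ_ι, ← Category.assoc, hx, zero_comp]
  obtain ⟨T₁, π₁, hπ₁, a, ha⟩ := exists_of_comp_cokernel_π' f b hbq
  have hc : (π₁ ≫ x ≫ β f m N ≫ powMul B m N) ≫ cokernel.π (torMap f (m ^ N)) = 0 := by
    have h := β_θ f m N
    unfold θ at h
    simp only [Category.assoc]
    rw [h, comp_zero, comp_zero]
  obtain ⟨T₂, π₂, hπ₂, a₁', ha₁⟩ := exists_of_comp_cokernel_π' (torMap f (m ^ N)) _ hc
  have h5 : m • (π₂ ≫ π₁ ≫ b) = (a₁' ≫ torι A (m ^ N)) ≫ f := by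
    calc m • (π₂ ≫ π₁ ≫ b)
        = π₂ ≫ π₁ ≫ x ≫ β f m N ≫ (m • torι B (m ^ (N + 1))) := by
          rw [hb]; simp only [Preadditive.comp_nsmul]
      _ = (π₂ ≫ π₁ ≫ x ≫ β f m N ≫ powMul B m N) ≫ torι B (m ^ N) := by
          rw [← powMul_ι]; simp only [Category.assoc]
      _ = (a₁' ≫ torι A (m ^ N)) ≫ f := by
          rw [ha₁, Category.assoc, torMap_ι, Category.assoc]
  have h6 : (m • (π₂ ≫ a) - a₁' ≫ torι A (m ^ N)) ≫ f = 0 := by
    rw [Preadditive.sub_comp, Preadditive.nsmul_comp, Category.assoc, ← ha, h5, sub_self]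
  obtain ⟨T₃, π₃, hπ₃, k', hk'⟩ := hK (kernel.lift f _ h6)
  have hk'' : π₃ ≫ ((m ^ N) • (m • (π₂ ≫ a) - a₁' ≫ torι A (m ^ N))) =
      (m ^ (N + 1)) • (k' ≫ kernel.ι f) := by
    calc π₃ ≫ ((m ^ N) • (m • (π₂ ≫ a) - a₁' ≫ torι A (m ^ N)))
        = π₃ ≫ ((m ^ N) • (kernel.lift f _ h6 ≫ kernel.ι f)) := by rw [kernel.lift_ι]
      _ = (π₃ ≫ ((m ^ N) • kernel.lift f _ h6)) ≫ kernel.ι f := by
          rw [Category.assoc, Preadditive.nsmul_comp]
      _ = (m ^ (N + 1)) • (k' ≫ kernel.ι f) := by rw [hk', Preadditive.nsmul_comp]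
  have h8 : (m ^ (N + 1)) • (π₃ ≫ π₂ ≫ a - k' ≫ kernel.ι f) = 0 := by
    have e1 : (m ^ (N + 1)) • (π₃ ≫ π₂ ≫ a) =
        π₃ ≫ ((m ^ N) • (m • (π₂ ≫ a) - a₁' ≫ torι A (m ^ N))) := by
      rw [nsmul_sub, nsmul_comp_torι, sub_zero, ← pow_succ_nsmul', Preadditive.comp_nsmul]
    rw [nsmul_sub, e1, hk'', sub_self]
  have h9 : torLift (m ^ (N + 1)) _ h8 ≫ torMap f (m ^ (N + 1)) =
      π₃ ≫ π₂ ≫ π₁ ≫ x ≫ β f m N := by
    rw [← cancel_mono (torι B (m ^ (N + 1)))]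
    simp only [Category.assoc, torMap_ι, torLift_ι_assoc, Preadditive.sub_comp,
      kernel.condition, comp_zero, sub_zero]
    rw [← ha, hb]
  have h10 : torLift (m ^ (N + 1)) _ h8 ≫ torMap f (m ^ (N + 1)) ≫ θ f m N = 0 := by
    rw [← Category.assoc, h9]
    simp only [Category.assoc, β_θ, comp_zero]
  refine ⟨T₃, π₃ ≫ π₂ ≫ π₁, inferInstance, WLift f m N _ h10, ?_⟩
  rw [← cancel_mono (β f m N)]
  simp only [Category.assoc]
  rw [w_β, WLift_ω_assoc, h9]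

lemma epi_ρ
    (hAst : ∀ ⦃T : 𝒜⦄ (x : T ⟶ A), ∃ (T' : 𝒜) (π : T' ⟶ T) (_ : Epi π) (y : T' ⟶ A),
      π ≫ ((m ^ N) • x) = (m ^ (N + 1)) • y)
    ⦃T : 𝒜⦄ (x : T ⟶ tor (cokernel f) m) :
    ∃ (T' : 𝒜) (π : T' ⟶ T) (_ : Epi π) (y : T' ⟶ Bpp f m N), π ≫ x = y ≫ ρ f m N := by
  obtain ⟨T₁, π₁, hπ₁, b, hb⟩ :=
    surjective_up_to_refinements_of_epi (cokernel.π f) (x ≫ torι (cokernel f) m)
  have h2 : (m • b) ≫ cokernel.π f = 0 := by
    rw [Preadditive.nsmul_comp, ← hb, ← Preadditive.comp_nsmul, nsmul_comp_torι, comp_zero]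
  obtain ⟨T₂, π₂, hπ₂, a, ha⟩ := exists_of_comp_cokernel_π' f (m • b) h2
  obtain ⟨T₃, π₃, hπ₃, a₂, ha₂⟩ := hAst a
  have h5 : (m ^ N) • (π₃ ≫ a - m • a₂) = 0 := by
    rw [nsmul_sub, ← Preadditive.comp_nsmul, ha₂, ← pow_succ_nsmul', sub_self]
  have h6 : m • (π₃ ≫ π₂ ≫ b - a₂ ≫ f) = (π₃ ≫ a - m • a₂) ≫ f := by
    rw [nsmul_sub, Preadditive.sub_comp, Preadditive.nsmul_comp, Category.assoc, ← ha]
    simp only [Preadditive.comp_nsmul]
  have h7 : (m ^ (N + 1)) • (π₃ ≫ π₂ ≫ b - a₂ ≫ f) = 0 := by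
    rw [pow_succ_nsmul', h6, ← Preadditive.nsmul_comp, h5, zero_comp]
  have h8 : torLift (m ^ (N + 1)) _ h7 ≫ powMul B m N =
      torLift (m ^ N) _ h5 ≫ torMap f (m ^ N) := by
    rw [← cancel_mono (torι B (m ^ N))]
    simp only [Category.assoc, powMul_ι, torMap_ι, torLift_ι_assoc, Preadditive.comp_nsmul,
      torLift_ι]
    exact h6
  have h9 : torLift (m ^ (N + 1)) _ h7 ≫ θ f m N = 0 := by
    unfold θ
    rw [← Category.assoc, h8, Category.assoc, cokernel.condition, comp_zero]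
  refine ⟨T₃, π₃ ≫ π₂ ≫ π₁, inferInstance, BppLift f m N _ h9, ?_⟩
  rw [← cancel_mono (torι (cokernel f) m)]
  simp only [Category.assoc, ρ_ι, BppLift_β_assoc, torLift_ι_assoc, Preadditive.sub_comp,
    cokernel.condition, comp_zero, sub_zero]
  rw [hb]

end CokPart

section Thm2

variable {𝒜 : Type u} [Category.{v} 𝒜] [Abelian 𝒜] {P : ObjectProperty 𝒜}

/-- **`(coker f)[m]` is small** if all `A[m^k]`, `B[m^k]` are small. -/
theorem P_tor_cokernel (hP : Setting P) {A B : 𝒜} (f : A ⟶ B) (m : ℕ)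
    (hA : ∀ k, P (tor A (m ^ k))) (hB : ∀ k, P (tor B (m ^ k))) :
    P (tor (cokernel f) m) := by
  have hKc : ∀ k, P (tor (kernel f) (m ^ k)) := fun k => P_tor_kernel hP f _ (hA k) (hB k)
  obtain ⟨NA, hNA⟩ := im_stabilizes hP A m hA
  obtain ⟨NK, hNK⟩ := im_stabilizes hP (kernel f) m hKc
  have hNA' : ∀ n, max NA NK ≤ n → Im A m n = Im A m (max NA NK) := fun n hn =>
    (hNA n ((le_max_left _ _).trans hn)).trans (hNA _ (le_max_left _ _)).symm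
  have hNK' : ∀ n, max NA NK ≤ n → Im (kernel f) m n = Im (kernel f) m (max NA NK) :=
    fun n hn => (hNK n ((le_max_right _ _).trans hn)).trans (hNK _ (le_max_right _ _)).symm
  have hW : P (CokPart.W f m (max NA NK)) := by
    unfold CokPart.W
    exact hP.ker _ (hA _) (hP.coker _ (hA _) (hB _))
  have hBpp : P (CokPart.Bpp f m (max NA NK)) := by
    unfold CokPart.Bpp
    exact hP.ker _ (hB _) (hP.coker _ (hA _) (hB _))
  exact hP.of_exact_epi (CokPart.w f m _) (CokPart.ρ f m _) hW hBpp (CokPart.w_ρ f m _)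
    (CokPart.exact_w_ρ f m _ (fun T x => exists_div_of_stab hNK' _ x))
    (CokPart.epi_ρ f m _ (fun T x => exists_div_of_stab hNA' _ x))

end Thm2

end H10Ind
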