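import Groth.Agent.Lib.Helper10.IndCofCoker

/-!
# Objects of cofinite type: the divisible part
-/

set_option autoImplicit false

open CategoryTheory CategoryTheory.Limits

universe v u

namespace H10Ind

section Div

variable {𝒜 : Type u} [Category.{v} 𝒜] [Abelian 𝒜] {P : ObjectProperty 𝒜}

/-- Isomorphic objects have isomorphic torsion subobjects. -/
noncomputable def torIso {D D' : 𝒜} (e : D ≅ D') (n : ℕ) : tor D n ≅ tor D' n :=
  kernel.mapIso _ _ e e (by
    rw [Preadditive.nsmul_comp, Preadditive.comp_nsmul, Category.id_comp, Category.comp_id])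

/-- Properties of the divisible part `p^N A` (for `N` a stabilisation index). -/
theorem div_part (hP : Setting P) (p : ℕ) (htor : ∀ T : 𝒜, P T → ∃ n : ℕ, (p ^ n) • 𝟙 T = 0)
    (A : 𝒜) (hA : ∀ n, P (tor A (p ^ n))) (N : ℕ)
    (hN : ∀ n, N ≤ n → Im A p n = Im A p N) :
    (∀ n : ℕ, P (tor ((Im A p N : Subobject A) : 𝒜) (p ^ n))) ∧
      Epi (p • 𝟙 ((Im A p N : Subobject A) : 𝒜)) ∧
      (∀ D : Subobject A, Epi (p • 𝟙 (D : 𝒜)) → D ≤ Im A p N) ∧
      (∀ (Q : 𝒜) (q : A ⟶ Q), P Q → (Im A p N).arrow ≫ q = 0) := by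
  refine ⟨?_, ?_, ?_, ?_⟩
  · intro n
    have hQ : P (cokernel ((p ^ N) • 𝟙 A)) :=
      P_cokernel_nsmul hP A (p ^ N) (fun k => by rw [← pow_mul]; exact hA (N * k))
    have hQn : P (tor (cokernel ((p ^ N) • 𝟙 A)) (p ^ n)) := hP.ker _ hQ hQ
    have h1 : P (tor (kernel (cokernel.π ((p ^ N) • 𝟙 A))) (p ^ n)) :=
      P_tor_kernel hP _ _ (hA n) hQn
    exact hP.iso (torIso ((Abelian.imageIsoImage ((p ^ N) • 𝟙 A)).trans
      (imageSubobjectIso ((p ^ N) • 𝟙 A)).symm) (p ^ n)) h1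
  · rw [epi_iff_surjective_up_to_refinements]
    intro T x
    have h1 : (Im A p N).Factors (x ≫ (Im A p N).arrow) := Subobject.factors_comp_arrow x
    have h2 : (Im A p (N + 1)).Factors (x ≫ (Im A p N).arrow) := by
      rw [hN (N + 1) (Nat.le_succ N)]; exact h1
    obtain ⟨T', π, hπ, a, ha⟩ := (Im_factors_iff A p (N + 1) _).1 h2
    refine ⟨T', π, hπ, (Im A p N).factorThru ((p ^ N) • a) (Im_nsmul A p N a), ?_⟩
    rw [← cancel_mono (Im A p N).arrow, Category.assoc, Category.assoc, Preadditive.nsmul_comp,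
      Category.id_comp, Preadditive.comp_nsmul, Subobject.factorThru_arrow, ha, pow_succ_nsmul]
  · intro D hD
    have hpow : ∀ k, Epi ((p ^ k) • 𝟙 (D : 𝒜)) := by
      intro k
      induction k with
      | zero => rw [pow_zero, one_nsmul]; infer_instance
      | succ k ih =>
        have e : (p ^ (k + 1)) • 𝟙 (D : 𝒜) = (p • 𝟙 (D : 𝒜)) ≫ ((p ^ k) • 𝟙 (D : 𝒜)) := by
          rw [Preadditive.nsmul_comp, Category.id_comp, ← pow_succ_nsmul]
        rw [e]; exact epi_comp _ _
    haveI := hpow N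
    apply Subobject.le_of_factors
    obtain ⟨T', π, hπ, y, hy⟩ :=
      surjective_up_to_refinements_of_epi ((p ^ N) • 𝟙 (D : 𝒜)) (𝟙 _)
    apply factors_of_epi_comp π
    have e : π ≫ D.arrow = (p ^ N) • (y ≫ D.arrow) := by
      have h := congrArg (fun t => t ≫ D.arrow) hy
      simp only [Category.assoc, Category.id_comp] at h
      rw [h, Preadditive.nsmul_comp, Category.id_comp, Preadditive.comp_nsmul]
    rw [e]; exact Im_nsmul A p N _
  · intro Q q hQ
    obtain ⟨k, hk⟩ := htor Q hQ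
    have h1 : (Im A p (N + k)).Factors (Im A p N).arrow := by
      rw [hN (N + k) (Nat.le_add_right N k)]; exact Subobject.factors_self _
    obtain ⟨T', π, hπ, a, ha⟩ := (Im_factors_iff A p (N + k) _).1 h1
    rw [← cancel_epi π, comp_zero, ← Category.assoc, ha, pow_add_nsmul, Preadditive.nsmul_comp,
      Preadditive.nsmul_comp]
    have e : (p ^ k) • (a ≫ q) = (a ≫ q) ≫ ((p ^ k) • 𝟙 Q) := by
      rw [Preadditive.comp_nsmul, Category.comp_id]
    rw [e, hk, comp_zero, nsmul_zero]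

end Div

end H10Ind
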