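import Groth.Agent.Lib.Helper10.IndCofCoker
import Groth.Agent.Lib.Helper10.IndCofArt

/-!
# Ind-objects of cofinite type of a small abelian category with artinian objects

We check the axioms of `H10Ind.Setting` for the essential image of `Ind.yoneda : C ⥤ Ind C`,
where `C` is a small abelian category all of whose objects are artinian.
-/

set_option autoImplicit false

open CategoryTheory CategoryTheory.Limits

universe v u

namespace H10Ind

section Fit

variable {D : Type u} [Category.{v} D] [Abelian D]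

/-- Fitting decomposition of an artinian object with respect to multiplication by `m`, in terms
of generalised elements. -/
lemma fit_of_artinian (X : D) [IsArtinianObject X] (m K₀ : ℕ) :
    ∃ K, K₀ ≤ K ∧ ∃ (X' : D) (π t₁ z : X' ⟶ X), Epi π ∧ π = t₁ + (m ^ K) • z ∧
      (m ^ K) • t₁ = 0 := by
  obtain ⟨K₁, hK₁⟩ := antitone_chain_condition_of_isArtinianObject
    ⟨fun k => OrderDual.toDual (Im X m k), fun a b hab => Im_anti X m hab⟩
  have hst : ∀ n, K₁ ≤ n → Im X m n = Im X m K₁ := fun n hn => (hK₁ n hn).symm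
  refine ⟨max K₀ K₁, le_max_left _ _, ?_⟩
  have h1 : (Im X m (max K₀ K₁ + max K₀ K₁)).Factors ((m ^ (max K₀ K₁)) • 𝟙 X) := by
    rw [hst (max K₀ K₁ + max K₀ K₁) ((le_max_right K₀ K₁).trans (Nat.le_add_right _ _)),
      ← hst (max K₀ K₁) (le_max_right _ _)]
    exact Im_nsmul X m (max K₀ K₁) (𝟙 X)
  obtain ⟨X', π, hπ, z, hz⟩ := (Im_factors_iff X m (max K₀ K₁ + max K₀ K₁) _).1 h1
  refine ⟨X', π, π - (m ^ (max K₀ K₁)) • z, z, hπ, (sub_add_cancel _ _).symm, ?_⟩
  rw [nsmul_sub, ← pow_add_nsmul, ← hz, Preadditive.comp_nsmul, Category.comp_id, sub_self]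

end Fit

section Ind

variable {C : Type v} [SmallCategory C] [Abelian C]

instance yoneda_additive : (Ind.yoneda (C := C)).Additive :=
  Functor.additive_of_preserves_binary_products _

lemma art_ind (hart : ∀ X : C, IsArtinianObject X) (Z : Ind C)
    (hZ : (Ind.yoneda (C := C)).essImage Z) (S : ℕ → Subobject Z) (hS : Antitone S)
    (hSP : ∀ k, (Ind.yoneda (C := C)).essImage ((S k : Subobject Z) : Ind C)) :
    ∃ N, ∀ n, N ≤ n → S n = S N := by
  obtain ⟨X, ⟨e⟩⟩ := hZ
  choose Xk hXk using hSP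
  have ek : ∀ k, (Ind.yoneda (C := C)).obj (Xk k) ≅ ((S k : Subobject Z) : Ind C) :=
    fun k => (hXk k).some
  choose r hr using fun k =>
    (Ind.yoneda (C := C)).map_surjective ((ek k).hom ≫ (S k).arrow ≫ e.inv)
  have hr' : ∀ k, (Ind.yoneda (C := C)).map (r k) ≫ e.hom = (ek k).hom ≫ (S k).arrow := by
    intro k
    rw [hr k]
    simp only [Category.assoc, Iso.inv_hom_id, Category.comp_id]
  haveI : ∀ k, Mono (r k) := fun k => by
    haveI : Mono ((Ind.yoneda (C := C)).map (r k)) := by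
      rw [hr k]; infer_instance
    exact (Ind.yoneda (C := C)).mono_of_mono_map inferInstance
  have hR : Antitone (fun k => Subobject.mk (r k)) := by
    intro k k' hkk'
    obtain ⟨u, hu⟩ := (Ind.yoneda (C := C)).map_surjective
      ((ek k').hom ≫ Subobject.ofLE _ _ (hS hkk') ≫ (ek k).inv)
    apply Subobject.mk_le_mk_of_comm u
    apply (Ind.yoneda (C := C)).map_injective
    rw [← cancel_mono e.hom, Functor.map_comp, Category.assoc, hr' k, hr' k', hu]
    simp only [Category.assoc, Iso.inv_hom_id_assoc, Subobject.ofLE_arrow]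
  haveI := hart X
  obtain ⟨N, hN⟩ := antitone_chain_condition_of_isArtinianObject
    ⟨fun k => OrderDual.toDual (Subobject.mk (r k)), fun a b hab => hR hab⟩
  refine ⟨N, fun n hn => le_antisymm (hS hn) ?_⟩
  have heq : Subobject.mk (r N) = Subobject.mk (r n) := hN n hn
  have hle : Subobject.mk (r N) ≤ Subobject.mk (r n) := le_of_eq heq
  have hv : Subobject.ofMkLEMk (r N) (r n) hle ≫ r n = r N := Subobject.ofMkLEMk_comp hle
  have h1 : (Ind.yoneda (C := C)).map (Subobject.ofMkLEMk (r N) (r n) hle) ≫ (ek n).hom ≫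
      (S n).arrow = (ek N).hom ≫ (S N).arrow := by
    rw [← hr' n, ← Category.assoc, ← Functor.map_comp, hv, hr' N]
  apply Subobject.le_of_comm
    ((ek N).inv ≫ (Ind.yoneda (C := C)).map (Subobject.ofMkLEMk (r N) (r n) hle) ≫ (ek n).hom)
  simp only [Category.assoc, h1, Iso.inv_hom_id_assoc]

/-- The essential image of `Ind.yoneda` satisfies the axioms of `Setting`. -/
theorem setting_ind (hart : ∀ X : C, IsArtinianObject X) :
    Setting (Ind.yoneda (C := C)).essImage where
  iso := fun e h => Functor.essImage.ofIso e h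
  ker := by
    intro Z Z' f hZ hZ'
    obtain ⟨X, ⟨e⟩⟩ := hZ
    obtain ⟨X', ⟨e'⟩⟩ := hZ'
    obtain ⟨g, hg⟩ := (Ind.yoneda (C := C)).map_surjective (e.hom ≫ f ≫ e'.inv)
    have i1 : kernel ((Ind.yoneda (C := C)).map g) ≅ kernel f :=
      kernel.mapIso _ _ e e' (by rw [hg]; simp)
    exact ⟨kernel g, ⟨(PreservesKernel.iso (Ind.yoneda (C := C)) g).trans i1⟩⟩
  coker := by
    intro Z Z' f hZ hZ'
    obtain ⟨X, ⟨e⟩⟩ := hZ
    obtain ⟨X', ⟨e'⟩⟩ := hZ'
    obtain ⟨g, hg⟩ := (Ind.yoneda (C := C)).map_surjective (e.hom ≫ f ≫ e'.inv)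
    have i1 : cokernel ((Ind.yoneda (C := C)).map g) ≅ cokernel f :=
      cokernel.mapIso _ _ e e' (by rw [hg]; simp)
    exact ⟨cokernel g, ⟨(PreservesCokernel.iso (Ind.yoneda (C := C)) g).trans i1⟩⟩
  sep := Ind.isSeparating_range_yoneda.of_le (by
    rw [ObjectProperty.ofObj_le_iff]
    intro X
    exact Functor.obj_mem_essImage _ X)
  art := art_ind hart
  fit := by
    intro T hT m K₀
    obtain ⟨X, ⟨e⟩⟩ := hT
    haveI := hart X
    obtain ⟨K, hK, X', π, t₁, z, hπ, hdec, ht⟩ := fit_of_artinian X m K₀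
    haveI := hπ
    refine ⟨K, hK, (Ind.yoneda (C := C)).obj X', (Ind.yoneda (C := C)).map π ≫ e.hom,
      (Ind.yoneda (C := C)).map t₁ ≫ e.hom, (Ind.yoneda (C := C)).map z ≫ e.hom,
      inferInstance, ?_, ?_⟩
    · rw [hdec, Functor.map_add, Functor.map_nsmul, Preadditive.add_comp,
        Preadditive.nsmul_comp]
    · rw [← Preadditive.nsmul_comp, ← Functor.map_nsmul, ht, Functor.map_zero, zero_comp]

/-- Objects of the essential image of `Ind.yoneda` are killed by a power of `p` if all objects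
of `C` are. -/
lemma torsion_ind (p : ℕ) (htor : ∀ X : C, ∃ n : ℕ, (p ^ n) • 𝟙 X = 0) (T : Ind C)
    (hT : (Ind.yoneda (C := C)).essImage T) : ∃ n : ℕ, (p ^ n) • 𝟙 T = 0 := by
  obtain ⟨X, ⟨e⟩⟩ := hT
  obtain ⟨n, hn⟩ := htor X
  refine ⟨n, ?_⟩
  have h0 : (p ^ n) • 𝟙 ((Ind.yoneda (C := C)).obj X) = 0 := by
    rw [← (Ind.yoneda (C := C)).map_id, ← Functor.map_nsmul, hn, Functor.map_zero]
  calc (p ^ n) • 𝟙 T = (p ^ n) • (e.inv ≫ 𝟙 _ ≫ e.hom) := by
        rw [Category.id_comp, e.inv_hom_id]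
    _ = e.inv ≫ ((p ^ n) • 𝟙 _) ≫ e.hom := by
        rw [Preadditive.nsmul_comp, Preadditive.comp_nsmul]
    _ = 0 := by rw [h0, zero_comp, comp_zero]

end Ind

end H10Ind
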