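import Mathlib

/-!
# Left Kan extension on presheaves and ind-objects (helper10)

For `u : C ⥤ C'` between small categories, `u_! = u.op.lan` on presheaves of sets:
* `theta : yoneda ⋙ u_! ≅ u ⋙ yoneda`;
* `coconeL`: `u_!` of an ind-object presented by `Y : I ⥤ C` is presented by `Y ⋙ u`;
* the unit of `u_! ⊣ u^*` at an ind-object is injective when `u` is faithful;
* consequences for faithfulness / fullness / essential surjectivity of `Ind(u)`.
-/

set_option autoImplicit false
set_option backward.isDefEq.respectTransparency false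
set_option backward.isDefEq.respectTransparency.types false

open CategoryTheory CategoryTheory.Limits Opposite

universe u

namespace Groth.Agent.Lib.Helper10.IndLan

variable {C : Type u} [SmallCategory C] {C' : Type u} [SmallCategory C'] (u : C ⥤ C')

/-- `u_!` -/
noncomputable abbrev Lf : (Cᵒᵖ ⥤ Type u) ⥤ (C'ᵒᵖ ⥤ Type u) := u.op.lan

/-- `u^*` -/
abbrev Rf : (C'ᵒᵖ ⥤ Type u) ⥤ (Cᵒᵖ ⥤ Type u) := (Functor.whiskeringLeft _ _ _).obj u.op

/-- `u_! ⊣ u^*` -/
noncomputable abbrev adj : Lf u ⊣ Rf u := u.op.lanAdjunction (Type u)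

/-- the unit on elements -/
noncomputable def eta (G : Cᵒᵖ ⥤ Type u) (X : C) (x : G.obj (op X)) :
    ((Lf u).obj G).obj (op (u.obj X)) :=
  ((adj u).unit.app G).app (op X) x

theorem eta_nat {G G' : Cᵒᵖ ⥤ Type u} (φ : G ⟶ G') (X : C) (x : G.obj (op X)) :
    ((Lf u).map φ).app (op (u.obj X)) (eta u G X x) = eta u G' X (φ.app (op X) x) :=
  (types_congr_hom (congr_app ((adj u).unit.naturality φ) (op X)) x).symm

theorem eta_map (G : Cᵒᵖ ⥤ Type u) {X X₁ : C} (a : X ⟶ X₁) (x : G.obj (op X₁)) :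
    ((Lf u).obj G).map (u.map a).op (eta u G X₁ x) = eta u G X (G.map a.op x) :=
  (NatTrans.naturality_apply ((adj u).unit.app G) a.op x).symm

/-- `a ↦ u a` as a map `y X ⟶ u^* y (u X)`. -/
noncomputable def yu (X : C) : yoneda.obj X ⟶ (Rf u).obj (yoneda.obj (u.obj X)) :=
  (yonedaEquiv (F := (Rf u).obj (yoneda.obj (u.obj X)))).symm (𝟙 (u.obj X))

theorem yu_app (X : C) {Z : C} (a : Z ⟶ X) : (yu u X).app (op Z) a = u.map a := by
  have h := yonedaEquiv_symm_app_apply (F := (Rf u).obj (yoneda.obj (u.obj X)))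
    (𝟙 (u.obj X)) (op Z) a
  refine h.trans ?_
  show u.map a ≫ 𝟙 (u.obj X) = u.map a
  exact Category.comp_id _

noncomputable def thetaHom (X : C) : (Lf u).obj (yoneda.obj X) ⟶ yoneda.obj (u.obj X) :=
  ((adj u).homEquiv _ _).symm (yu u X)

noncomputable def thetaInv (X : C) : yoneda.obj (u.obj X) ⟶ (Lf u).obj (yoneda.obj X) :=
  yonedaEquiv.symm (eta u (yoneda.obj X) X (𝟙 X))

theorem homEquiv_thetaHom (X : C) : (adj u).homEquiv _ _ (thetaHom u X) = yu u X :=
  Equiv.apply_symm_apply _ _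

theorem unit_thetaHom (X : C) :
    (adj u).unit.app (yoneda.obj X) ≫ (Rf u).map (thetaHom u X) = yu u X := by
  have h := homEquiv_thetaHom u X
  rw [Adjunction.homEquiv_unit] at h
  exact h

theorem thetaHom_eta (X : C) {Z : C} (a : Z ⟶ X) :
    (thetaHom u X).app (op (u.obj Z)) (eta u (yoneda.obj X) Z a) = u.map a := by
  have h := types_congr_hom (congr_app (unit_thetaHom u X) (op Z)) a
  exact h.trans (yu_app u X a)

theorem yonedaEquiv_thetaInv (X : C) :
    yonedaEquiv (thetaInv u X) = eta u (yoneda.obj X) X (𝟙 X) :=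
  Equiv.apply_symm_apply _ _

theorem thetaInv_hom (X : C) : thetaInv u X ≫ thetaHom u X = 𝟙 _ := by
  apply yonedaEquiv.injective
  rw [yonedaEquiv_comp, yonedaEquiv_thetaInv, thetaHom_eta, u.map_id]
  rfl

theorem thetaHom_inv (X : C) : thetaHom u X ≫ thetaInv u X = 𝟙 _ := by
  apply ((adj u).homEquiv _ _).injective
  have e1 : (adj u).homEquiv _ _ (thetaHom u X ≫ thetaInv u X) =
      yu u X ≫ (Rf u).map (thetaInv u X) := by
    rw [Adjunction.homEquiv_naturality_right, homEquiv_thetaHom]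
  have e2 : (adj u).homEquiv _ _ (𝟙 ((Lf u).obj (yoneda.obj X))) =
      (adj u).unit.app (yoneda.obj X) := by
    rw [Adjunction.homEquiv_unit, CategoryTheory.Functor.map_id]
    exact Category.comp_id _
  rw [e1, e2]
  apply yonedaEquiv.injective
  rw [yonedaEquiv_comp]
  have h1 : yonedaEquiv (yu u X) = 𝟙 (u.obj X) := Equiv.apply_symm_apply _ _
  rw [h1]
  exact yonedaEquiv_thetaInv u X

theorem thetaHom_nat {X X₁ : C} (a : X ⟶ X₁) :
    (Lf u).map (yoneda.map a) ≫ thetaHom u X₁ = thetaHom u X ≫ yoneda.map (u.map a) := by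
  apply ((adj u).homEquiv _ _).injective
  rw [Adjunction.homEquiv_naturality_left, Adjunction.homEquiv_naturality_right,
    homEquiv_thetaHom, homEquiv_thetaHom]
  apply yonedaEquiv.injective
  rw [yonedaEquiv_comp, yonedaEquiv_comp, yonedaEquiv_yoneda_map, yu_app]
  have h3 : yonedaEquiv (yu u X) = 𝟙 (u.obj X) := Equiv.apply_symm_apply _ _
  rw [h3]
  show u.map a = 𝟙 (u.obj X) ≫ u.map a
  exact (Category.id_comp _).symm

/-- `u_! (y X) ≅ y (u X)`, naturally. -/
noncomputable def theta : yoneda ⋙ Lf u ≅ u ⋙ yoneda :=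
  NatIso.ofComponents
    (fun X => ⟨thetaHom u X, thetaInv u X, thetaHom_inv u X, thetaInv_hom u X⟩)
    (fun a => thetaHom_nat u a)

instance (X : C) : IsIso (thetaHom u X) :=
  ⟨⟨thetaInv u X, thetaHom_inv u X, thetaInv_hom u X⟩⟩

section Presentation

variable {G : Cᵒᵖ ⥤ Type u} (P : IndObjectPresentation G)

noncomputable def alpha : (P.F ⋙ u) ⋙ yoneda ≅ (P.F ⋙ yoneda) ⋙ Lf u :=
  Functor.isoWhiskerLeft P.F (theta u).symm

noncomputable def coconeL : Cocone ((P.F ⋙ u) ⋙ yoneda) :=
  (Cocone.precompose (alpha u P).hom).obj ((Lf u).mapCocone P.cocone)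

noncomputable def isColimitCoconeL : IsColimit (coconeL u P) := by
  haveI : PreservesColimitsOfSize.{u, u} (Lf u) := (adj u).leftAdjoint_preservesColimits
  exact (IsColimit.precomposeHomEquiv (alpha u P) _).symm
    (isColimitOfPreserves (Lf u) P.coconeIsColimit)

theorem coconeL_ι_app (j : P.I) :
    (coconeL u P).ι.app j = thetaInv u (P.F.obj j) ≫ (Lf u).map (P.ι.app j) := rfl

theorem isIndObject_Lf (hG : IsIndObject G) : IsIndObject ((Lf u).obj G) := by
  obtain ⟨⟨P⟩⟩ := hG
  exact IsIndObject.mk (IndObjectPresentation.ofCocone (coconeL u P) (isColimitCoconeL u P))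

theorem thetaInv_app (Y : C) {X : C} (a : X ⟶ Y) :
    (thetaInv u Y).app (op (u.obj X)) (u.map a) = eta u (yoneda.obj Y) X a := by
  have h := yonedaEquiv_symm_app_apply (eta u (yoneda.obj Y) Y (𝟙 Y)) (op (u.obj X)) (u.map a)
  refine h.trans ?_
  refine (eta_map u (yoneda.obj Y) a (𝟙 Y)).trans ?_
  congr 1
  exact Category.comp_id a

theorem eta_ι (j : P.I) {X : C} (a : X ⟶ P.F.obj j) :
    eta u G X ((P.ι.app j).app (op X) a) =
      ((coconeL u P).ι.app j).app (op (u.obj X)) (u.map a) := by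
  have h1 := thetaInv_app u (P.F.obj j) a
  have h2 := eta_nat u (P.ι.app j) X a
  refine h2.symm.trans ?_
  rw [coconeL_ι_app]
  exact congrArg (fun t => ((Lf u).map (P.ι.app j)).app (op (u.obj X)) t) h1.symm

/-- evaluation of the presentation of `G` -/
noncomputable def evG (X : C) :
    IsColimit (((evaluation _ _).obj (op X)).mapCocone P.cocone) :=
  isColimitOfPreserves _ P.coconeIsColimit

/-- evaluation of the presentation of `u_! G` -/
noncomputable def evL (X' : C') :
    IsColimit (((evaluation _ _).obj (op X')).mapCocone (coconeL u P)) :=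
  isColimitOfPreserves _ (isColimitCoconeL u P)

theorem ι_compat {j k : P.I} (f : j ⟶ k) {X : C} (a : X ⟶ P.F.obj j) :
    (P.ι.app k).app (op X) (a ≫ P.F.map f) = (P.ι.app j).app (op X) a :=
  types_congr_hom (congr_app (P.cocone.w f) (op X)) a

end Presentation

theorem eta_injective [u.Faithful] {G : Cᵒᵖ ⥤ Type u} (hG : IsIndObject G) (X : C) :
    Function.Injective (eta u G X) := by
  obtain ⟨⟨P⟩⟩ := hG
  intro x x' h
  obtain ⟨j, a, a', ha, ha'⟩ :=
    Types.FilteredColimit.jointly_surjective_of_isColimit₂ (evG P X) x x'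
  have ha1 : (P.ι.app j).app (op X) a = x := ha
  have ha2 : (P.ι.app j).app (op X) a' = x' := ha'
  rw [← ha1, ← ha2, eta_ι u P j a, eta_ι u P j a'] at h
  obtain ⟨k, f, hk⟩ :=
    (Types.FilteredColimit.isColimit_eq_iff' (evL u P (u.obj X)) (i := j)
      (u.map a) (u.map a')).1 h
  have hk' : u.map a ≫ u.map (P.F.map f) = u.map a' ≫ u.map (P.F.map f) := hk
  rw [← u.map_comp, ← u.map_comp] at hk'
  have hk'' := u.map_injective hk'
  rw [← ha1, ← ha2, ← ι_compat P f a, ← ι_compat P f a', hk'']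

/-- `u` faithful implies `u_!` injective on morphisms into an ind-object. -/
theorem lan_map_injective [u.Faithful] (F G : Cᵒᵖ ⥤ Type u) (hG : IsIndObject G) :
    Function.Injective (fun φ : F ⟶ G => (Lf u).map φ) := by
  intro φ ψ h
  have h' : (Lf u).map φ = (Lf u).map ψ := h
  refine NatTrans.ext (funext fun Y => ConcreteCategory.hom_ext _ _ fun x => ?_)
  obtain ⟨Y⟩ := Y
  apply eta_injective u hG Y
  rw [← eta_nat u φ Y x, ← eta_nat u ψ Y x, h']

/-- injectivity on representables implies `u` faithful -/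
theorem faithful_of_injective
    (h : ∀ X Y : C, Function.Injective
      (fun φ : yoneda.obj X ⟶ yoneda.obj Y => (Lf u).map φ)) : u.Faithful := by
  refine ⟨fun {X Y} a b hab => ?_⟩
  have h1 : (Lf u).map (yoneda.map a) = (Lf u).map (yoneda.map b) := by
    rw [← cancel_mono (thetaHom u Y), thetaHom_nat, thetaHom_nat, hab]
  exact yoneda.map_injective (h X Y h1)

/-- surjectivity on representables implies `u` full -/
theorem full_of_surjective
    (h : ∀ X Y : C, Function.Surjective
      (fun φ : yoneda.obj X ⟶ yoneda.obj Y => (Lf u).map φ)) : u.Full := by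
  refine ⟨fun {X Y} g => ?_⟩
  obtain ⟨φ, hφ⟩ := h X Y (thetaHom u X ≫ yoneda.map g ≫ thetaInv u Y)
  have hφ' : (Lf u).map φ = thetaHom u X ≫ yoneda.map g ≫ thetaInv u Y := hφ
  obtain ⟨a, rfl⟩ := yoneda.map_surjective φ
  refine ⟨a, ?_⟩
  have h1 := thetaHom_nat u a
  rw [hφ', Category.assoc, Category.assoc, thetaInv_hom, Category.comp_id] at h1
  exact yoneda.map_injective ((cancel_epi (thetaHom u X)).1 h1).symm

/-- `u` fully faithful implies `u_!` fully faithful. -/
theorem lan_map_bijective [u.Full] [u.Faithful] (F G : Cᵒᵖ ⥤ Type u) :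
    Function.Bijective (fun φ : F ⟶ G => (Lf u).map φ) := by
  haveI : IsIso (adj u).unit := inferInstance
  exact ((adj u).fullyFaithfulLOfIsIsoUnit).map_bijective F G

/-- retracts -/
theorem exists_retract (X' : C') (F : Cᵒᵖ ⥤ Type u) (hF : IsIndObject F)
    (e : (Lf u).obj F ≅ yoneda.obj X') :
    ∃ (X : C) (i : X' ⟶ u.obj X) (r : u.obj X ⟶ X'), i ≫ r = 𝟙 X' := by
  obtain ⟨⟨P⟩⟩ := hF
  obtain ⟨j, s, hs⟩ := Types.jointly_surjective_of_isColimit (evL u P X') (yonedaEquiv e.inv)
  have hs' : ((coconeL u P).ι.app j).app (op X') s = yonedaEquiv e.inv := hs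
  refine ⟨P.F.obj j, s, yonedaEquiv ((coconeL u P).ι.app j ≫ e.hom), ?_⟩
  have h1 := map_yonedaEquiv ((coconeL u P).ι.app j ≫ e.hom) s
  refine h1.trans ?_
  show e.hom.app (op X') (((coconeL u P).ι.app j).app (op X') s) = 𝟙 X'
  rw [hs']
  have h2 : yonedaEquiv (e.inv ≫ e.hom) = 𝟙 X' := by rw [e.inv_hom_id]; rfl
  rw [yonedaEquiv_comp] at h2
  exact h2

section EssSurj

variable (G' : C'ᵒᵖ ⥤ Type u)

/-- the comparison of categories of elements -/
def elemFunctor : (u.op ⋙ G').Elements ⥤ G'.Elements where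
  obj p := ⟨u.op.obj p.1, p.2⟩
  map f := ⟨u.op.map f.1, f.2⟩

instance [u.Faithful] : (elemFunctor u G').Faithful where
  map_injective {p q} f g h := by
    apply CategoryOfElements.ext
    exact u.op.map_injective (congrArg Subtype.val h)

instance [u.Full] : (elemFunctor u G').Full where
  map_surjective {p q} g := by
    obtain ⟨f, hf⟩ := u.op.map_surjective g.1
    refine ⟨⟨f, ?_⟩, ?_⟩
    · have := g.2
      rw [← hf] at this
      exact this
    · apply CategoryOfElements.ext
      exact hf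

theorem isIndObject_restrict [u.Full] [u.Faithful]
    (hr : ∀ X' : C', ∃ (X : C) (i : X' ⟶ u.obj X) (r : u.obj X ⟶ X'), i ≫ r = 𝟙 X')
    (hG' : IsIndObject G') : IsIndObject (u.op ⋙ G') := by
  haveI := hG'.isFiltered
  haveI : IsFiltered G'.Elementsᵒᵖ :=
    IsFiltered.of_equivalence (CategoryOfElements.costructuredArrowYonedaEquivalence G').symm
  haveI : IsCofiltered G'.Elements := isCofiltered_of_isFiltered_op _
  haveI : IsCofiltered (u.op ⋙ G').Elements :=
    IsCofiltered.of_exists_of_isCofiltered_of_fullyFaithful (elemFunctor u G') (by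
      rintro ⟨⟨X'⟩, x'⟩
      obtain ⟨X, i, r, hir⟩ := hr X'
      refine ⟨⟨op X, G'.map r.op x'⟩, ⟨⟨i.op, ?_⟩⟩⟩
      show G'.map i.op (G'.map r.op x') = x'
      rw [← FunctorToTypes.map_comp_apply, ← op_comp, hir, op_id,
        FunctorToTypes.map_id_apply])
  haveI : IsFiltered (CostructuredArrow yoneda (u.op ⋙ G')) :=
    IsFiltered.of_equivalence
      (CategoryOfElements.costructuredArrowYonedaEquivalence (u.op ⋙ G'))
  haveI : FinallySmall.{u} (CostructuredArrow yoneda (u.op ⋙ G')) := by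
    have := essentiallySmallSelf (CostructuredArrow yoneda (u.op ⋙ G'))
    apply finallySmall_of_essentiallySmall
  exact isIndObject_of_isFiltered_of_finallySmall _

theorem isIso_of_isIso_restrict
    (hr : ∀ X' : C', ∃ (X : C) (i : X' ⟶ u.obj X) (r : u.obj X ⟶ X'), i ≫ r = 𝟙 X')
    {P Q : C'ᵒᵖ ⥤ Type u} (α : P ⟶ Q) (hα : IsIso ((Rf u).map α)) : IsIso α := by
  haveI : ∀ Z, IsIso (α.app Z) := by
    rintro ⟨X'⟩
    obtain ⟨X, i, r, hir⟩ := hr X'
    have hX : IsIso (α.app (op (u.obj X))) :=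
      inferInstanceAs (IsIso (((Rf u).map α).app (op X)))
    rw [isIso_iff_bijective] at hX ⊢
    have hP : ∀ p : P.obj (op X'), P.map i.op (P.map r.op p) = p := fun p => by
      rw [← FunctorToTypes.map_comp_apply, ← op_comp, hir, op_id, FunctorToTypes.map_id_apply]
    have hQ : ∀ q : Q.obj (op X'), Q.map i.op (Q.map r.op q) = q := fun q => by
      rw [← FunctorToTypes.map_comp_apply, ← op_comp, hir, op_id, FunctorToTypes.map_id_apply]
    constructor
    · intro p p' h
      have h1 : α.app (op (u.obj X)) (P.map r.op p) = α.app (op (u.obj X)) (P.map r.op p') := by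
        rw [NatTrans.naturality_apply, NatTrans.naturality_apply, h]
      have h2 := hX.1 h1
      rw [← hP p, ← hP p', h2]
    · intro q
      obtain ⟨p₁, hp₁⟩ := hX.2 (Q.map r.op q)
      refine ⟨P.map i.op p₁, ?_⟩
      rw [NatTrans.naturality_apply, hp₁, hQ]
  exact NatIso.isIso_of_isIso_app α

theorem exists_preimage [u.Full] [u.Faithful]
    (hr : ∀ X' : C', ∃ (X : C) (i : X' ⟶ u.obj X) (r : u.obj X ⟶ X'), i ≫ r = 𝟙 X')
    (hG' : IsIndObject G') :
    ∃ F : Cᵒᵖ ⥤ Type u, IsIndObject F ∧ Nonempty ((Lf u).obj F ≅ G') := by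
  refine ⟨u.op ⋙ G', isIndObject_restrict u G' hr hG', ?_⟩
  haveI : IsIso (adj u).unit := inferInstance
  haveI h1 : IsIso ((adj u).unit.app ((Rf u).obj G')) := inferInstance
  have h2 : IsIso ((Rf u).map ((adj u).counit.app G')) :=
    IsIso.of_isIso_fac_left ((adj u).right_triangle_components G')
  haveI := isIso_of_isIso_restrict u hr _ h2
  exact ⟨asIso ((adj u).counit.app G')⟩

end EssSurj

end Groth.Agent.Lib.Helper10.IndLan
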