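import Mathlib

/-!
# Jordan–Hölder for the lattice of subobjects in an abelian category (helper10)

* `eq_zero_of_sup`: `x` and `y` jointly cover `x ⊔ y`;
* `secondIso`: `x / (x ⊓ y) ≅ (x ⊔ y) / y`;
* `covBy_of_simple`, `simple_of_covBy`: `a ⋖ b` iff `b / a` is simple;
* the `JordanHolderLattice` structure on `Subobject X`.
-/

set_option autoImplicit false
set_option backward.isDefEq.respectTransparency false
set_option backward.isDefEq.respectTransparency.types false

open CategoryTheory CategoryTheory.Limits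

universe v u

namespace Groth.Agent.Lib.Helper10.JHSub

variable {A : Type u} [Category.{v} A] [Abelian A] {X : A}

theorem quo_iso_of_eq {a a' b b' : Subobject X} (ea : a = a') (eb : b = b') (h : a ≤ b)
    (h' : a' ≤ b') :
    Nonempty (cokernel (Subobject.ofLE a b h) ≅ cokernel (Subobject.ofLE a' b' h')) := by
  subst ea eb
  exact ⟨Iso.refl _⟩

theorem eq_zero_of_sup {x y : Subobject X} {Z : A} (s : ((x ⊔ y : Subobject X) : A) ⟶ Z)
    (hx : Subobject.ofLE x (x ⊔ y) le_sup_left ≫ s = 0)
    (hy : Subobject.ofLE y (x ⊔ y) le_sup_right ≫ s = 0) : s = 0 := by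
  have hxK : x ≤ Subobject.mk (kernel.ι s ≫ (x ⊔ y).arrow) :=
    Subobject.le_mk_of_comm (kernel.lift s _ hx) (by
      rw [kernel.lift_ι_assoc, Subobject.ofLE_arrow])
  have hyK : y ≤ Subobject.mk (kernel.ι s ≫ (x ⊔ y).arrow) :=
    Subobject.le_mk_of_comm (kernel.lift s _ hy) (by
      rw [kernel.lift_ι_assoc, Subobject.ofLE_arrow])
  have hK : x ⊔ y ≤ Subobject.mk (kernel.ι s ≫ (x ⊔ y).arrow) := sup_le hxK hyK
  have h1 : Subobject.ofLEMk (x ⊔ y) (kernel.ι s ≫ (x ⊔ y).arrow) hK ≫ kernel.ι s = 𝟙 _ := by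
    rw [← cancel_mono (x ⊔ y).arrow, Category.assoc, Subobject.ofLEMk_comp, Category.id_comp]
  calc s = 𝟙 _ ≫ s := (Category.id_comp s).symm
    _ = 0 := by rw [← h1, Category.assoc, kernel.condition, comp_zero]

/-- Second isomorphism theorem. -/
theorem secondIso (x y : Subobject X) :
    Nonempty (cokernel (Subobject.ofLE (x ⊓ y) x inf_le_left) ≅
      cokernel (Subobject.ofLE y (x ⊔ y) le_sup_right)) := by
  have w : Subobject.ofLE (x ⊓ y) x inf_le_left ≫
      (Subobject.ofLE x (x ⊔ y) le_sup_left ≫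
        cokernel.π (Subobject.ofLE y (x ⊔ y) le_sup_right)) = 0 := by
    have e : Subobject.ofLE (x ⊓ y) x inf_le_left ≫ Subobject.ofLE x (x ⊔ y) le_sup_left =
        Subobject.ofLE (x ⊓ y) y inf_le_right ≫ Subobject.ofLE y (x ⊔ y) le_sup_right := by
      rw [Subobject.ofLE_comp_ofLE, Subobject.ofLE_comp_ofLE]
    rw [← Category.assoc, e, Category.assoc, cokernel.condition, comp_zero]
  haveI hφ : Epi (Subobject.ofLE x (x ⊔ y) le_sup_left ≫
      cokernel.π (Subobject.ofLE y (x ⊔ y) le_sup_right)) := by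
    refine Preadditive.epi_of_cancel_zero _ (fun {Z} t ht => ?_)
    have h0 : cokernel.π (Subobject.ofLE y (x ⊔ y) le_sup_right) ≫ t = 0 := by
      apply eq_zero_of_sup
      · rw [← Category.assoc]; exact ht
      · rw [cokernel.condition_assoc, zero_comp]
    rw [← cancel_epi (cokernel.π (Subobject.ofLE y (x ⊔ y) le_sup_right)), h0, comp_zero]
  have hlim : IsLimit (KernelFork.ofι (Subobject.ofLE (x ⊓ y) x inf_le_left) w) := by
    refine KernelFork.IsLimit.ofι' _ _ (fun {W} g hg => ?_)
    have hg' : (g ≫ Subobject.ofLE x (x ⊔ y) le_sup_left) ≫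
        cokernel.π (Subobject.ofLE y (x ⊔ y) le_sup_right) = 0 := by
      rw [Category.assoc]; exact hg
    have hfac : (x ⊓ y).Factors (g ≫ x.arrow) := by
      rw [Subobject.inf_factors]
      refine ⟨Subobject.factors_comp_arrow g, ?_⟩
      have e : g ≫ x.arrow =
          Abelian.monoLift (Subobject.ofLE y (x ⊔ y) le_sup_right) _ hg' ≫ y.arrow := by
        rw [← Subobject.ofLE_arrow (le_sup_right : y ≤ x ⊔ y), ← Category.assoc,
          Abelian.monoLift_comp, Category.assoc, Subobject.ofLE_arrow]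
      rw [e]
      exact Subobject.factors_comp_arrow _
    refine ⟨(x ⊓ y).factorThru (g ≫ x.arrow) hfac, ?_⟩
    rw [← cancel_mono x.arrow, Category.assoc, Subobject.ofLE_arrow, Subobject.factorThru_arrow]
  exact ⟨(cokernelIsCokernel (Subobject.ofLE (x ⊓ y) x inf_le_left)).coconePointUniqueUpToIso
    (Abelian.epiIsCokernelOfKernel _ hlim)⟩

theorem covBy_of_simple {a b : Subobject X} (h : a ≤ b)
    [Simple (cokernel (Subobject.ofLE a b h))] : a ⋖ b := by
  refine ⟨lt_of_le_of_ne h (fun e => ?_), fun c hac hcb => ?_⟩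
  · subst e
    haveI : IsIso (Subobject.ofLE a a h) := by
      rw [Subobject.ofLE_refl]; infer_instance
    exact Simple.not_isZero _ (isZero_cokernel_of_epi (Subobject.ofLE a a h))
  · by_cases hf : Subobject.ofLE c b hcb.le ≫ cokernel.π (Subobject.ofLE a b h) = 0
    · have hle : c ≤ a := Subobject.le_of_comm
        (Abelian.monoLift (Subobject.ofLE a b h) (Subobject.ofLE c b hcb.le) hf) (by
          rw [← Subobject.ofLE_arrow h, ← Category.assoc, Abelian.monoLift_comp,
            Subobject.ofLE_arrow])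
      exact absurd hac (not_lt_of_ge hle)
    · haveI : Epi (Subobject.ofLE c b hcb.le ≫ cokernel.π (Subobject.ofLE a b h)) :=
        epi_of_nonzero_to_simple hf
      haveI : Epi (Subobject.ofLE c b hcb.le) := by
        refine Preadditive.epi_of_cancel_zero _ (fun {Z} t ht => ?_)
        have h1 : Subobject.ofLE a b h ≫ t = 0 := by
          rw [← Subobject.ofLE_comp_ofLE a c b hac.le hcb.le, Category.assoc, ht, comp_zero]
        have h2 : cokernel.π (Subobject.ofLE a b h) ≫ cokernel.desc _ t h1 = t :=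
          cokernel.π_desc _ _ _
        have h3 : cokernel.desc (Subobject.ofLE a b h) t h1 = 0 := by
          rw [← cancel_epi (Subobject.ofLE c b hcb.le ≫ cokernel.π (Subobject.ofLE a b h)),
            Category.assoc, h2, ht, comp_zero]
        rw [← h2, h3, comp_zero]
      haveI : IsIso (Subobject.ofLE c b hcb.le) := isIso_of_mono_of_epi _
      have hle : b ≤ c := Subobject.le_of_comm (inv (Subobject.ofLE c b hcb.le)) (by
        rw [IsIso.inv_comp_eq, Subobject.ofLE_arrow])
      exact absurd hcb (not_lt_of_ge hle)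

theorem simple_of_covBy {a b : Subobject X} (h : a ⋖ b) :
    Simple (cokernel (Subobject.ofLE a b h.le)) := by
  have hne : ¬ IsZero (cokernel (Subobject.ofLE a b h.le)) := by
    intro hz
    haveI : Epi (Subobject.ofLE a b h.le) :=
      Abelian.epi_of_cokernel_π_eq_zero _ (hz.eq_of_tgt _ _)
    haveI : IsIso (Subobject.ofLE a b h.le) := isIso_of_mono_of_epi _
    have hle : b ≤ a := Subobject.le_of_comm (inv (Subobject.ofLE a b h.le)) (by
      rw [IsIso.inv_comp_eq, Subobject.ofLE_arrow])
    exact absurd h.lt (not_lt_of_ge hle)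
  refine ⟨fun {Y} m _ => ⟨fun hiso hm0 => ?_, fun hm => ?_⟩⟩
  · apply hne
    subst hm0
    haveI := hiso
    rw [IsZero.iff_id_eq_zero, ← IsIso.inv_hom_id (0 : Y ⟶ cokernel (Subobject.ofLE a b h.le)),
      comp_zero]
  · -- the pullback of `m` along the quotient map
    haveI : Mono (pullback.snd m (cokernel.π (Subobject.ofLE a b h.le))) := inferInstance
    have hac : a ≤ Subobject.mk
        (pullback.snd m (cokernel.π (Subobject.ofLE a b h.le)) ≫ b.arrow) :=
      Subobject.le_mk_of_comm
        (pullback.lift (0 : (a : A) ⟶ Y) (Subobject.ofLE a b h.le)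
          (by rw [zero_comp, cokernel.condition])) (by
          rw [pullback.lift_snd_assoc, Subobject.ofLE_arrow])
    have hcb : Subobject.mk
        (pullback.snd m (cokernel.π (Subobject.ofLE a b h.le)) ≫ b.arrow) ≤ b :=
      Subobject.mk_le_of_comm (pullback.snd m (cokernel.π (Subobject.ofLE a b h.le))) rfl
    rcases h.eq_or_eq hac hcb with hc | hc
    · -- c = a : then `m = 0`
      exfalso
      apply hm
      have hca : Subobject.mk
          (pullback.snd m (cokernel.π (Subobject.ofLE a b h.le)) ≫ b.arrow) ≤ a := hc.le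
      have h1 : Subobject.ofMkLE _ a hca ≫ Subobject.ofLE a b h.le =
          pullback.snd m (cokernel.π (Subobject.ofLE a b h.le)) := by
        rw [← cancel_mono b.arrow, Category.assoc, Subobject.ofLE_arrow,
          Subobject.ofMkLE_arrow]
      have h2 : pullback.fst m (cokernel.π (Subobject.ofLE a b h.le)) ≫ m = 0 := by
        rw [pullback.condition, ← h1, Category.assoc, cokernel.condition, comp_zero]
      have h3 : pullback.fst m (cokernel.π (Subobject.ofLE a b h.le)) = 0 := by
        rw [← cancel_mono m, h2, zero_comp]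
      rw [← cancel_epi (pullback.fst m (cokernel.π (Subobject.ofLE a b h.le))), h3, zero_comp,
        zero_comp]
    · -- c = b : then `m` is an epimorphism
      have hbc : b ≤ Subobject.mk
          (pullback.snd m (cokernel.π (Subobject.ofLE a b h.le)) ≫ b.arrow) := hc.ge
      have h1 : Subobject.ofLEMk b _ hbc ≫
          pullback.snd m (cokernel.π (Subobject.ofLE a b h.le)) = 𝟙 _ := by
        rw [← cancel_mono b.arrow, Category.assoc, Subobject.ofLEMk_comp, Category.id_comp]
      have h2 : (Subobject.ofLEMk b _ hbc ≫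
          pullback.fst m (cokernel.π (Subobject.ofLE a b h.le))) ≫ m =
          cokernel.π (Subobject.ofLE a b h.le) := by
        rw [Category.assoc, pullback.condition, ← Category.assoc, h1, Category.id_comp]
      haveI : Epi m := epi_of_epi_fac h2
      exact isIso_of_mono_of_epi m

noncomputable instance jordanHolderLattice : JordanHolderLattice (Subobject X) where
  IsMaximal := (· ⋖ ·)
  lt_of_isMaximal := CovBy.lt
  sup_eq_of_isMaximal hxz hyz := hxz.wcovBy.sup_eq hyz.wcovBy
  isMaximal_inf_left_of_isMaximal_sup := fun {x y} _ hy => by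
    haveI := simple_of_covBy hy
    obtain ⟨e⟩ := secondIso x y
    haveI : Simple (cokernel (Subobject.ofLE (x ⊓ y) x inf_le_left)) := Simple.of_iso e
    exact covBy_of_simple inf_le_left

/-- The relation "isomorphic quotients" on pairs of subobjects. -/
def QRel (p p' : Subobject X × Subobject X) : Prop :=
  Nonempty (cokernel (Subobject.ofLE (p.1 ⊓ p.2) p.2 inf_le_right) ≅
    cokernel (Subobject.ofLE (p'.1 ⊓ p'.2) p'.2 inf_le_right))

theorem qRel_of_iso {p p' : Subobject X × Subobject X}
    (h : JordanHolderLattice.Iso p p') : QRel p p' := by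
  refine JordanHolderLattice.Iso.rel QRel ⟨Iso.refl _⟩ (fun ⟨e⟩ => ⟨e.symm⟩)
    (fun ⟨e⟩ ⟨e'⟩ => ⟨e ≪≫ e'⟩) (fun {x y} _ => ?_) h
  -- (x ⊔ y)/x ≅ y/(x ⊓ y)
  obtain ⟨e1⟩ := secondIso y x
  obtain ⟨e2⟩ := quo_iso_of_eq (a := x ⊓ (x ⊔ y)) (a' := x) (b := x ⊔ y) (b' := y ⊔ x)
    inf_sup_self (sup_comm x y) inf_le_right le_sup_right
  obtain ⟨e3⟩ := quo_iso_of_eq (a := (x ⊓ y) ⊓ y) (a' := y ⊓ x) (b := y) (b' := y)
    (by rw [inf_assoc, inf_idem, inf_comm]) rfl inf_le_right inf_le_left
  exact ⟨e2 ≪≫ e1.symm ≪≫ e3.symm⟩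

theorem iso_of_qRel {a b a' b' : Subobject X} (h : a ≤ b) (h' : a' ≤ b')
    (hq : QRel (a, b) (a', b')) :
    Nonempty (cokernel (Subobject.ofLE a b h) ≅ cokernel (Subobject.ofLE a' b' h')) := by
  obtain ⟨e⟩ := hq
  obtain ⟨e1⟩ := quo_iso_of_eq (a := a) (a' := a ⊓ b) (b := b) (b' := b)
    (inf_eq_left.2 h).symm rfl h inf_le_right
  obtain ⟨e2⟩ := quo_iso_of_eq (a := a' ⊓ b') (a' := a') (b := b') (b' := b')
    (inf_eq_left.2 h') rfl inf_le_right h'
  exact ⟨e1 ≪≫ e ≪≫ e2⟩

end Groth.Agent.Lib.Helper10.JHSub
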