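import Mathlib
import Groth.Prelude.Def_Koszul

/-!
# The Koszul complex of `(x f₁, …, x fₙ)` (helper10)

Termwise linear equivalences `K(x f)^q ≃ K(f)^q` intertwining the differential of `K(x f)` with
`x` times the differential of `K(f)`, built by induction through the mapping cones; consequences
for cohomology when `x` is a non-zero-divisor.
-/

set_option autoImplicit false
universe u

namespace H10KS

open CategoryTheory CategoryTheory.Limits CochainComplex HomComplex
open scoped TensorProduct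

section ConeEl
variable {A : Type u} [CommRing A] {F G : CochainComplex (ModuleCat.{u} A) ℤ} (φ : F ⟶ G)

noncomputable def inlL (q : ℤ) : F.X (q + 1) →ₗ[A] (mappingCone φ).X q :=
  ((mappingCone.inl φ).v (q + 1) q (by omega)).hom

noncomputable def inrL (q : ℤ) : G.X q →ₗ[A] (mappingCone φ).X q :=
  ((mappingCone.inr φ).f q).hom

noncomputable def fstL (q : ℤ) : (mappingCone φ).X q →ₗ[A] F.X (q + 1) :=
  ((mappingCone.fst φ).1.v q (q + 1) rfl).hom

noncomputable def sndL (q : ℤ) : (mappingCone φ).X q →ₗ[A] G.X q :=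
  ((mappingCone.snd φ).v q q (add_zero q)).hom

lemma decompL (q : ℤ) (z : (mappingCone φ).X q) :
    z = inlL φ q (fstL φ q z) + inrL φ q (sndL φ q z) := by
  have h := congrArg (fun ψ => ψ.hom z) (mappingCone.id_X φ q (q + 1) rfl)
  simp only [ModuleCat.hom_add, ModuleCat.hom_comp, LinearMap.add_apply, LinearMap.comp_apply,
    ModuleCat.hom_id, LinearMap.id_apply] at h
  exact h.symm

lemma d_inlL (q : ℤ) (a : F.X (q + 1)) :
    ((mappingCone φ).d q (q + 1)).hom (inlL φ q a) =
      inrL φ (q + 1) ((φ.f (q + 1)).hom a) - inlL φ (q + 1) ((F.d (q + 1) (q + 1 + 1)).hom a) := by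
  have h := congrArg (fun ψ => ψ.hom a)
    (mappingCone.inl_v_d φ (q + 1) q (q + 1 + 1) (by omega) (by omega))
  simp only [ModuleCat.hom_comp, ModuleCat.hom_sub, LinearMap.comp_apply,
    LinearMap.sub_apply] at h
  exact h

lemma d_inrL (q : ℤ) (b : G.X q) :
    ((mappingCone φ).d q (q + 1)).hom (inrL φ q b) = inrL φ (q + 1) ((G.d q (q + 1)).hom b) := by
  have h := congrArg (fun ψ => ψ.hom b) (mappingCone.inr_f_d φ q (q + 1))
  simp only [ModuleCat.hom_comp, LinearMap.comp_apply] at h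
  exact h

lemma fst_inl (q : ℤ) (a : F.X (q + 1)) : fstL φ q (inlL φ q a) = a := by
  have h := congrArg (fun ψ => ψ.hom a) (mappingCone.inl_v_fst_v φ (q + 1) q rfl)
  simp only [ModuleCat.hom_comp, LinearMap.comp_apply, ModuleCat.hom_id,
    LinearMap.id_apply] at h
  exact h

lemma snd_inl (q : ℤ) (a : F.X (q + 1)) : sndL φ q (inlL φ q a) = 0 := by
  have h := congrArg (fun ψ => ψ.hom a) (mappingCone.inl_v_snd_v φ (q + 1) q (by omega))
  simp only [ModuleCat.hom_comp, LinearMap.comp_apply, ModuleCat.hom_zero,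
    LinearMap.zero_apply] at h
  exact h

lemma fst_inr (q : ℤ) (b : G.X q) : fstL φ q (inrL φ q b) = 0 := by
  have h := congrArg (fun ψ => ψ.hom b) (mappingCone.inr_f_fst_v φ q (q + 1) rfl)
  simp only [ModuleCat.hom_comp, LinearMap.comp_apply, ModuleCat.hom_zero,
    LinearMap.zero_apply] at h
  exact h

lemma snd_inr (q : ℤ) (b : G.X q) : sndL φ q (inrL φ q b) = b := by
  have h := congrArg (fun ψ => ψ.hom b) (mappingCone.inr_f_snd_v φ q)
  simp only [ModuleCat.hom_comp, LinearMap.comp_apply, ModuleCat.hom_id,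
    LinearMap.id_apply] at h
  exact h

variable {F' G' : CochainComplex (ModuleCat.{u} A) ℤ} (φ' : F' ⟶ G')

/-- the map on cones induced by termwise linear maps (no compatibility assumed) -/
noncomputable def coneLin (q : ℤ) (a : F'.X (q + 1) →ₗ[A] F.X (q + 1))
    (b : G'.X q →ₗ[A] G.X q) : (mappingCone φ').X q →ₗ[A] (mappingCone φ).X q :=
  inlL φ q ∘ₗ a ∘ₗ fstL φ' q + inrL φ q ∘ₗ b ∘ₗ sndL φ' q

lemma coneLin_apply (q : ℤ) (a : F'.X (q + 1) →ₗ[A] F.X (q + 1)) (b : G'.X q →ₗ[A] G.X q)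
    (z : (mappingCone φ').X q) :
    coneLin φ φ' q a b z = inlL φ q (a (fstL φ' q z)) + inrL φ q (b (sndL φ' q z)) := rfl

lemma coneLin_inl (q : ℤ) (a : F'.X (q + 1) →ₗ[A] F.X (q + 1)) (b : G'.X q →ₗ[A] G.X q)
    (a₀ : F'.X (q + 1)) : coneLin φ φ' q a b (inlL φ' q a₀) = inlL φ q (a a₀) := by
  rw [coneLin_apply, fst_inl, snd_inl, map_zero, map_zero, add_zero]

lemma coneLin_inr (q : ℤ) (a : F'.X (q + 1) →ₗ[A] F.X (q + 1)) (b : G'.X q →ₗ[A] G.X q)
    (b₀ : G'.X q) : coneLin φ φ' q a b (inrL φ' q b₀) = inrL φ q (b b₀) := by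
  rw [coneLin_apply, fst_inr, snd_inr, map_zero, map_zero, zero_add]

lemma fst_coneLin (q : ℤ) (a : F'.X (q + 1) →ₗ[A] F.X (q + 1)) (b : G'.X q →ₗ[A] G.X q)
    (z : (mappingCone φ').X q) : fstL φ q (coneLin φ φ' q a b z) = a (fstL φ' q z) := by
  rw [coneLin_apply, map_add, fst_inl, fst_inr, add_zero]

lemma snd_coneLin (q : ℤ) (a : F'.X (q + 1) →ₗ[A] F.X (q + 1)) (b : G'.X q →ₗ[A] G.X q)
    (z : (mappingCone φ').X q) : sndL φ q (coneLin φ φ' q a b z) = b (sndL φ' q z) := by
  rw [coneLin_apply, map_add, snd_inl, snd_inr, zero_add]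

/-- termwise equivalences induce termwise equivalences of cones -/
noncomputable def coneEquiv (q : ℤ) (a : F'.X (q + 1) ≃ₗ[A] F.X (q + 1))
    (b : G'.X q ≃ₗ[A] G.X q) : (mappingCone φ').X q ≃ₗ[A] (mappingCone φ).X q :=
  LinearEquiv.ofLinear (coneLin φ φ' q a b) (coneLin φ' φ q a.symm b.symm)
    (LinearMap.ext fun w => by
      rw [LinearMap.comp_apply, LinearMap.id_apply, coneLin_apply, fst_coneLin, snd_coneLin]
      simp only [LinearEquiv.coe_coe, LinearEquiv.apply_symm_apply]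
      exact (decompL φ q w).symm)
    (LinearMap.ext fun w => by
      rw [LinearMap.comp_apply, LinearMap.id_apply, coneLin_apply, fst_coneLin, snd_coneLin]
      simp only [LinearEquiv.coe_coe, LinearEquiv.symm_apply_apply]
      exact (decompL φ' q w).symm)

lemma coneEquiv_inl (q : ℤ) (a : F'.X (q + 1) ≃ₗ[A] F.X (q + 1)) (b : G'.X q ≃ₗ[A] G.X q)
    (a₀ : F'.X (q + 1)) : coneEquiv φ φ' q a b (inlL φ' q a₀) = inlL φ q (a a₀) :=
  coneLin_inl φ φ' q a b a₀

lemma coneEquiv_inr (q : ℤ) (a : F'.X (q + 1) ≃ₗ[A] F.X (q + 1)) (b : G'.X q ≃ₗ[A] G.X q)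
    (b₀ : G'.X q) : coneEquiv φ φ' q a b (inrL φ' q b₀) = inrL φ q (b b₀) :=
  coneLin_inr φ φ' q a b b₀

lemma smulId_apply (c : A) (K : CochainComplex (ModuleCat.{u} A) ℤ) (j : ℤ) (w : K.X j) :
    ((c • 𝟙 K : K ⟶ K).f j).hom w = c • w := by
  rw [HomologicalComplex.smul_f_apply, HomologicalComplex.id_f, ModuleCat.hom_smul,
    ModuleCat.hom_id, LinearMap.smul_apply, LinearMap.id_apply]

end ConeEl

variable {A : Type u} [CommRing A]

/-- termwise equivalences intertwining `d` on `K'` with `x • d` on `K` -/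
structure ScaleData (x : A) (K' K : CochainComplex (ModuleCat.{u} A) ℤ) where
  e : ∀ q : ℤ, K'.X q ≃ₗ[A] K.X q
  comm : ∀ (i j : ℤ) (_ : i + 1 = j) (z : K'.X i),
    e j ((K'.d i j).hom z) = x • (K.d i j).hom (e i z)

noncomputable def ScaleData.nil (x : A) :
    ScaleData x (Koszul.koszul A []) (Koszul.koszul A []) where
  e q := LinearEquiv.refl A _
  comm := by
    intro i j _ z
    have h0 : (Koszul.koszul A []).d i j = 0 := by
      show ((CochainComplex.singleFunctor (ModuleCat.{u} A) 0).obj (ModuleCat.of A A)).d i j = 0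
      exact HomologicalComplex.single_obj_d _ _ _ _ _
    rw [h0]
    simp

noncomputable def ScaleData.coneE {x : A} {K' K : CochainComplex (ModuleCat.{u} A) ℤ}
    (D : ScaleData x K' K) (f : A) (q : ℤ) :
    (mappingCone ((x * f) • 𝟙 K')).X q ≃ₗ[A] (mappingCone (f • 𝟙 K)).X q :=
  coneEquiv (f • 𝟙 K) ((x * f) • 𝟙 K') q (D.e (q + 1)) (D.e q)

noncomputable def ScaleData.cone {x : A} {K' K : CochainComplex (ModuleCat.{u} A) ℤ}
    (D : ScaleData x K' K) (f : A) :
    ScaleData x (mappingCone ((x * f) • 𝟙 K')) (mappingCone (f • 𝟙 K)) where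
  e := D.coneE f
  comm := by
    intro i j hij z
    subst hij
    obtain ⟨a₀, b₀, rfl⟩ : ∃ a₀ b₀, z = inlL _ i a₀ + inrL _ i b₀ := ⟨_, _, decompL _ i z⟩
    have e_inl : ∀ (q : ℤ) (c : K'.X (q + 1)),
        D.coneE f q (inlL _ q c) = inlL _ q (D.e (q + 1) c) :=
      fun q c => coneEquiv_inl _ _ q _ _ c
    have e_inr : ∀ (q : ℤ) (c : K'.X q), D.coneE f q (inrL _ q c) = inrL _ q (D.e q c) :=
      fun q c => coneEquiv_inr _ _ q _ _ c
    simp only [map_add, map_sub, map_smul, e_inl, e_inr, d_inlL, d_inrL, smulId_apply,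
      D.comm (i + 1) (i + 1 + 1) rfl, D.comm i (i + 1) rfl, smul_add, smul_sub, smul_smul]

theorem nonempty_scaleData (x : A) (l : List A) :
    Nonempty (ScaleData x (Koszul.koszul A (l.map (fun f => x * f))) (Koszul.koszul A l)) := by
  induction l with
  | nil => exact ⟨ScaleData.nil x⟩
  | cons f l ih =>
    obtain ⟨D⟩ := ih
    exact ⟨D.cone f⟩

theorem reg_single (x : A) (hx : x ∈ nonZeroDivisors A) (q : ℤ)
    (z : ((HomologicalComplex.single (ModuleCat.{u} A) (ComplexShape.up ℤ) 0).obj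
      (ModuleCat.of A A)).X q) (hz : x • z = 0) : z = 0 := by
  by_cases hq : q = 0
  · subst hq
    let ι := HomologicalComplex.singleObjXSelf (ComplexShape.up ℤ) (0 : ℤ) (ModuleCat.of A A)
    have h1 : ι.hom.hom (x • z) = 0 := by rw [hz, map_zero]
    rw [map_smul] at h1
    have h2 : ι.hom.hom z = 0 := (mul_left_mem_nonZeroDivisors_eq_zero_iff hx).1 h1
    have h3 := congrArg ι.inv.hom h2
    rw [map_zero] at h3
    have h4 : ι.inv.hom (ι.hom.hom z) = z := congrArg (fun ψ => ψ.hom z) ι.hom_inv_id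
    rw [← h4, h3]
  · haveI : Subsingleton (((HomologicalComplex.single (ModuleCat.{u} A) (ComplexShape.up ℤ)
        0).obj (ModuleCat.of A A)).X q) :=
      ModuleCat.subsingleton_of_isZero
        (HomologicalComplex.isZero_single_obj_X (ComplexShape.up ℤ) 0 (ModuleCat.of A A) q hq)
    exact Subsingleton.elim _ _

theorem reg_cone (x : A) {F G : CochainComplex (ModuleCat.{u} A) ℤ} (φ : F ⟶ G)
    (hF : ∀ (q : ℤ) (z : F.X q), x • z = 0 → z = 0)
    (hG : ∀ (q : ℤ) (z : G.X q), x • z = 0 → z = 0)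
    (q : ℤ) (z : (mappingCone φ).X q) (hz : x • z = 0) : z = 0 := by
  have h1 : fstL φ q z = 0 := hF (q + 1) _ (by rw [← map_smul, hz, map_zero])
  have h2 : sndL φ q z = 0 := hG q _ (by rw [← map_smul, hz, map_zero])
  have h3 := decompL φ q z
  rw [h1, h2, map_zero, map_zero, add_zero] at h3
  exact h3

theorem smul_regular_X (x : A) (hx : x ∈ nonZeroDivisors A) (l : List A) :
    ∀ (q : ℤ) (z : (Koszul.koszul A l).X q), x • z = 0 → z = 0 := by
  induction l with
  | nil => exact reg_single x hx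
  | cons f l ih => exact reg_cone x (f • 𝟙 (Koszul.koszul A l)) ih ih

theorem homology_iso {x : A} {K' K : CochainComplex (ModuleCat.{u} A) ℤ} (D : ScaleData x K' K)
    (q : ℤ) (hreg : ∀ z : K.X (q + 1), x • z = 0 → z = 0) :
    Nonempty (K'.homology q ≅ ModuleCat.of A (↥(LinearMap.ker (K.d q (q + 1)).hom) ⧸
      Submodule.comap (LinearMap.ker (K.d q (q + 1)).hom).subtype
        (Ideal.span {x} • LinearMap.range (K.d (q - 1) q).hom))) := by
  have i1 : K'.homology q ≅ (K'.sc' (q - 1) q (q + 1)).homology :=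
    ShortComplex.homologyMapIso (K'.isoSc' (q - 1) q (q + 1) (by simp) (by simp))
  have hmap : (LinearMap.ker (K'.d q (q + 1)).hom).map
      ((D.e q : K'.X q ≃ₗ[A] K.X q) : K'.X q →ₗ[A] K.X q) =
      LinearMap.ker (K.d q (q + 1)).hom := by
    ext w
    constructor
    · rintro ⟨z, hz, rfl⟩
      have hz' : (K'.d q (q + 1)).hom z = 0 := hz
      show (K.d q (q + 1)).hom (D.e q z) = 0
      have h := D.comm q (q + 1) rfl z
      rw [hz', map_zero] at h
      exact hreg _ h.symm
    · intro hw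
      have hw' : (K.d q (q + 1)).hom w = 0 := hw
      refine ⟨(D.e q).symm w, ?_, (D.e q).apply_symm_apply w⟩
      show (K'.d q (q + 1)).hom ((D.e q).symm w) = 0
      apply (D.e (q + 1)).injective
      rw [D.comm q (q + 1) rfl, (D.e q).apply_symm_apply, hw', smul_zero, map_zero]
  let E : ↥(LinearMap.ker (K'.d q (q + 1)).hom) ≃ₗ[A] ↥(LinearMap.ker (K.d q (q + 1)).hom) :=
    LinearEquiv.ofSubmodules (D.e q) _ _ hmap
  let tc : K'.X (q - 1) →ₗ[A] ↥(LinearMap.ker (K'.d q (q + 1)).hom) :=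
    (K'.sc' (q - 1) q (q + 1)).moduleCatToCycles
  have i2 : (K'.sc' (q - 1) q (q + 1)).homology ≅
      ModuleCat.of A (↥(LinearMap.ker (K'.d q (q + 1)).hom) ⧸ LinearMap.range tc) :=
    (K'.sc' (q - 1) q (q + 1)).moduleCatHomologyIso
  have htc : ∀ y, ((tc y : ↥(LinearMap.ker (K'.d q (q + 1)).hom)) : K'.X q) =
      (K'.d (q - 1) q).hom y := fun y => rfl
  have hEv : ∀ z, ((E z : ↥(LinearMap.ker (K.d q (q + 1)).hom)) : K.X q) = D.e q z.1 :=
    fun z => rfl
  have hQ : (LinearMap.range tc).map (E : _ →ₗ[A] _) =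
      Submodule.comap (LinearMap.ker (K.d q (q + 1)).hom).subtype
        (Ideal.span {x} • LinearMap.range (K.d (q - 1) q).hom) := by
    ext w
    constructor
    · rintro ⟨_, ⟨y, rfl⟩, rfl⟩
      show ((E (tc y) : ↥(LinearMap.ker (K.d q (q + 1)).hom)) : K.X q) ∈
        Ideal.span {x} • LinearMap.range (K.d (q - 1) q).hom
      rw [hEv, htc, D.comm (q - 1) q (by omega) y]
      exact Submodule.smul_mem_smul (Ideal.mem_span_singleton_self x) ⟨_, rfl⟩
    · intro hw
      have hw' : (w : K.X q) ∈ Ideal.span {x} • LinearMap.range (K.d (q - 1) q).hom := hw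
      rw [Submodule.ideal_span_singleton_smul, Submodule.mem_smul_pointwise_iff_exists] at hw'
      obtain ⟨_, ⟨y', rfl⟩, hy⟩ := hw'
      refine ⟨tc ((D.e (q - 1)).symm y'), ⟨_, rfl⟩, Subtype.ext ?_⟩
      show ((E (tc ((D.e (q - 1)).symm y')) : ↥(LinearMap.ker (K.d q (q + 1)).hom)) : K.X q) =
        w.1
      rw [hEv, htc, D.comm (q - 1) q (by omega), (D.e (q - 1)).apply_symm_apply]
      exact hy
  exact ⟨i1 ≪≫ i2 ≪≫ (Submodule.Quotient.equiv _ _ E hQ).toModuleIso⟩

theorem range_eq_ker_of_isZero_homology (K : CochainComplex (ModuleCat.{u} A) ℤ) (q : ℤ)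
    (hz : IsZero (K.homology q)) :
    LinearMap.range (K.d (q - 1) q).hom = LinearMap.ker (K.d q (q + 1)).hom := by
  have h1 : K.ExactAt q := (HomologicalComplex.exactAt_iff_isZero_homology _ _).2 hz
  rw [HomologicalComplex.exactAt_iff' _ (q - 1) q (q + 1) (by simp) (by simp)] at h1
  exact (ShortComplex.moduleCat_exact_iff_range_eq_ker _).1 h1

theorem homology_iso_tensor {x : A} {K' K : CochainComplex (ModuleCat.{u} A) ℤ}
    (D : ScaleData x K' K) (q : ℤ) (hreg : ∀ z : K.X (q + 1), x • z = 0 → z = 0)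
    (hex : LinearMap.range (K.d (q - 1) q).hom = LinearMap.ker (K.d q (q + 1)).hom) :
    Nonempty (K'.homology q ≅ ModuleCat.of A
      (↥(LinearMap.ker (K.d q (q + 1)).hom) ⊗[A] (A ⧸ Ideal.span {x}))) := by
  obtain ⟨i⟩ := homology_iso D q hreg
  rw [hex] at i
  have h1 : (Ideal.span {x} • (⊤ : Submodule A ↥(LinearMap.ker (K.d q (q + 1)).hom))).map
      (LinearMap.ker (K.d q (q + 1)).hom).subtype =
      Ideal.span {x} • LinearMap.ker (K.d q (q + 1)).hom := by
    rw [Submodule.map_smul'', Submodule.map_top, Submodule.range_subtype]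
  have hcm : Submodule.comap (LinearMap.ker (K.d q (q + 1)).hom).subtype
      (Ideal.span {x} • LinearMap.ker (K.d q (q + 1)).hom) =
      Ideal.span {x} • (⊤ : Submodule A ↥(LinearMap.ker (K.d q (q + 1)).hom)) := by
    rw [← h1, Submodule.comap_map_eq_of_injective (Submodule.injective_subtype _)]
  exact ⟨i ≪≫ (Submodule.quotEquivOfEq _ _ hcm ≪≫ₗ
    (TensorProduct.tensorQuotEquivQuotSMul _ _).symm).toModuleIso⟩

theorem koszul_mul_homology_iso (l : List A) (x : A) (hx : x ∈ nonZeroDivisors A) (q : ℤ) :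
    Nonempty ((Koszul.koszul A (l.map (fun f => x * f))).homology q ≅
      ModuleCat.of A (↥(LinearMap.ker ((Koszul.koszul A l).d q (q + 1)).hom) ⧸
        Submodule.comap (LinearMap.ker ((Koszul.koszul A l).d q (q + 1)).hom).subtype
          (Ideal.span {x} • LinearMap.range ((Koszul.koszul A l).d (q - 1) q).hom))) := by
  obtain ⟨D⟩ := nonempty_scaleData x l
  exact homology_iso D q (smul_regular_X x hx l (q + 1))

theorem koszul_mul_homology_iso_tensor (l : List A) (x : A) (hx : x ∈ nonZeroDivisors A) (q : ℤ)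
    (hz : IsZero ((Koszul.koszul A l).homology q)) :
    Nonempty ((Koszul.koszul A (l.map (fun f => x * f))).homology q ≅
      ModuleCat.of A (↥(LinearMap.ker ((Koszul.koszul A l).d q (q + 1)).hom) ⊗[A]
        (A ⧸ Ideal.span {x}))) := by
  obtain ⟨D⟩ := nonempty_scaleData x l
  exact homology_iso_tensor D q (smul_regular_X x hx l (q + 1))
    (range_eq_ker_of_isZero_homology _ q hz)

end H10KS
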