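import Mathlib
import Groth.Agent.Lib.Helper18.TensorPrimes
import Groth.Agent.Lib.Helper24.RamIdxEquiv
import Groth.Agent.Lib.Helper13.LenSum

/-!
# Length of the local rings of `Ω ⊗[k] κ` is the inseparable degree (helper10)

Sub-lemma (RF-b) for helper22 / S6556: the final combination.
-/

set_option autoImplicit false
universe u

open TensorProduct

namespace Groth.Agent.Lib.Helper10.LenInsep

theorem length_of_forall_ringEquiv (k κ Ω : Type u) [Field k] [Field κ] [Algebra k κ]
    [FiniteDimensional k κ] [Field Ω] [Algebra k Ω] [IsAlgClosed Ω] [Algebra.IsAlgebraic k Ω]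
    (h : ∀ (Q Q' : Ideal (Ω ⊗[k] κ)) [Q.IsPrime] [Q'.IsPrime],
      Nonempty (Localization.AtPrime Q ≃+* Localization.AtPrime Q'))
    (Q : Ideal (Ω ⊗[k] κ)) [Q.IsPrime] :
    Module.length (Localization.AtPrime Q) (Localization.AtPrime Q) =
      (Field.finInsepDegree k κ : ℕ∞) := by
  classical
  haveI : Finite (PrimeSpectrum (Ω ⊗[k] κ)) :=
    Groth.Agent.Lib.Helper18.TensorPrimes.finite_primeSpectrum_tensor k κ Ω
  letI : Fintype (PrimeSpectrum (Ω ⊗[k] κ)) := Fintype.ofFinite _
  haveI : Module.Finite Ω (Ω ⊗[k] κ) := inferInstance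
  have hsum := Groth.Agent.Lib.Helper13.LenSum.sum_length_localization Ω (Ω ⊗[k] κ)
  have heq : ∀ P : PrimeSpectrum (Ω ⊗[k] κ),
      Module.length (Localization.AtPrime P.asIdeal) (Localization.AtPrime P.asIdeal) =
        Module.length (Localization.AtPrime Q) (Localization.AtPrime Q) := by
    intro P
    obtain ⟨e⟩ := h P.asIdeal Q
    exact Groth.Agent.Lib.Helper24.RamIdxEquiv.length_self_eq_of_ringEquiv e
  rw [Finset.sum_congr rfl (fun P _ => heq P), Finset.sum_const, Finset.card_univ,
    nsmul_eq_mul] at hsum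
  have hcard : Fintype.card (PrimeSpectrum (Ω ⊗[k] κ)) = Field.finSepDegree k κ := by
    rw [← Nat.card_eq_fintype_card]
    exact Groth.Agent.Lib.Helper18.TensorPrimes.card_primeSpectrum_tensor k κ Ω
  have hfr : Module.finrank Ω (Ω ⊗[k] κ) = Module.finrank k κ := Module.finrank_baseChange
  have hmul := Field.finSepDegree_mul_finInsepDegree k κ
  rw [hcard, hfr, ← hmul] at hsum
  have hs : Field.finSepDegree k κ ≠ 0 := NeZero.ne _
  generalize Module.length (Localization.AtPrime Q) (Localization.AtPrime Q) = ℓ at hsum ⊢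
  induction ℓ using ENat.recTopCoe with
  | top =>
    exfalso
    rw [ENat.mul_top (by exact_mod_cast hs)] at hsum
    exact ENat.top_ne_coe _ hsum
  | coe n =>
    have h1 : Field.finSepDegree k κ * n =
        Field.finSepDegree k κ * Field.finInsepDegree k κ := by exact_mod_cast hsum
    exact_mod_cast Nat.eq_of_mul_eq_mul_left (Nat.pos_of_ne_zero hs) h1

end Groth.Agent.Lib.Helper10.LenInsep
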