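import Mathlib
import Groth.Prelude.Def_AlgSp3
import Groth.Prelude.Def_AlgSpRep
import Groth.Agent.S9208

/-!
# A morphism of sheaves with etale charts is locally of finite presentation if the colimit
comparison for cofiltered limits of affine schemes is surjective
-/

set_option autoImplicit false
universe u
open CategoryTheory CategoryTheory.Limits AlgebraicGeometry Opposite

namespace H10PT.LfpSurj

open AlgSp

section Restrict

variable {I : Type u} [SmallCategory I] (Ds : I ⥤ Scheme.{u}) (cs : Cone Ds) (i : I)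

/-- Structure maps of the system over `i`. -/
def tOver : (Over.forget i ⋙ Ds) ⟶ (Functor.const (Over i)).obj (Ds.obj i) where
  app k := Ds.map k.hom
  naturality k k' m := by
    dsimp
    rw [Category.comp_id, ← Ds.map_comp, Over.w m]

/-- The restricted cone is still a limit cone. -/
noncomputable def isLimitWhisker [IsCofiltered I] (hcs : IsLimit cs) :
    IsLimit (cs.whisker (Over.forget i)) :=
  (Functor.Initial.isLimitWhiskerEquiv (Over.forget i) cs).symm hcs

end Restrict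

variable {S : Scheme.{u}}

/-- The hypothesis: surjectivity of the relative colimit comparison. -/
def SurjHyp {X Y : Sp S} (f : X ⟶ Y) : Prop :=
  ∀ ⦃I : Type u⦄ [SmallCategory I] [IsCofiltered I] (D : I ⥤ Over S) (c : Cone D),
    IsLimit ((Over.forget S).mapCone c) → (∀ i, IsAffine (D.obj i).left) → IsAffine c.pt.left →
    ∀ (x : (yon S).obj c.pt ⟶ X) (i : I) (y : (yon S).obj (D.obj i) ⟶ Y),
      x ≫ f = (yon S).map (c.π.app i) ≫ y →
      ∃ (i' : I) (φ : i' ⟶ i) (x' : (yon S).obj (D.obj i') ⟶ X),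
        (yon S).map (c.π.app i') ≫ x' = x ∧ x' ≫ f = (yon S).map (D.map φ) ≫ y

theorem core {X Y : Sp S} (f : X ⟶ Y) (h : SurjHyp f) {U V : Over S}
    (a : (yon S).obj U ⟶ X) (b : (yon S).obj V ⟶ Y) (hh : U ⟶ V)
    (ha : RepWith @Etale a) (hb : RepWith @Etale b) (hcomm : a ≫ f = (yon S).map hh ≫ b)
    {I : Type u} [SmallCategory I] [IsCofiltered I] (D : I ⥤ Over S) (c : Cone D)
    (hc : IsLimit ((Over.forget S).mapCone c)) (hD : ∀ i, IsAffine (D.obj i).left)
    (hT : IsAffine c.pt.left)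
    (τ : ∀ i, D.obj i ⟶ V) (hτ : ∀ {i j : I} (φ : i ⟶ j), D.map φ ≫ τ j = τ i)
    (g : c.pt ⟶ U) (i₀ : I) (hg : g ≫ hh = c.π.app i₀ ≫ τ i₀) :
    ∃ (i : I) (gi : D.obj i ⟶ U), gi ≫ hh = τ i ∧ c.π.app i ≫ gi = g := by
  -- Step 1: apply the hypothesis
  have hxy : ((yon S).map g ≫ a) ≫ f = (yon S).map (c.π.app i₀) ≫ (yon S).map (τ i₀) ≫ b := by
    rw [Category.assoc, hcomm, ← Category.assoc, ← Functor.map_comp, hg, Functor.map_comp,
      Category.assoc]
  obtain ⟨i', φ, x', hx'1, hx'2⟩ := h D c hc hD hT ((yon S).map g ≫ a) i₀ ((yon S).map (τ i₀) ≫ b) hxy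
  have hx'3 : x' ≫ f = (yon S).map (τ i') ≫ b := by
    rw [hx'2, ← Category.assoc, ← Functor.map_comp, hτ φ]
  -- Step 2: the etale chart of X pulled back to D i'
  obtain ⟨E, e, fstE, sqE⟩ := ha.rep x'
  have hE : Etale e.left := ha.property _ _ _ sqE
  obtain ⟨ε, hε⟩ := (yon S).map_surjective fstE
  obtain ⟨σ, hσ⟩ := (yon S).map_surjective
    (sqE.lift ((yon S).map g) ((yon S).map (c.π.app i')) hx'1.symm)
  have hσ1 : σ ≫ ε = g := (yon S).map_injective (by
    rw [Functor.map_comp, hσ, hε, sqE.lift_fst])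
  have hσ2 : σ ≫ e = c.π.app i' := (yon S).map_injective (by
    rw [Functor.map_comp, hσ, sqE.lift_snd])
  -- Step 3: descend the section to a finite level
  let Ds : I ⥤ Scheme.{u} := D ⋙ Over.forget S
  let cs : Cone Ds := (Over.forget S).mapCone c
  haveI : ∀ k : Over i', IsAffine ((Over.forget i' ⋙ Ds).obj k) := fun k => hD k.left
  have hElfp : LocallyOfFinitePresentation e.left := inferInstance
  let e₀ : E.left ⟶ Ds.obj i' := e.left
  haveI : LocallyOfFinitePresentation e₀ := hElfp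
  obtain ⟨k, gk, hgk1, hgk2⟩ := Scheme.exists_π_app_comp_eq_of_locallyOfFinitePresentation
    (Over.forget i' ⋙ Ds) (tOver Ds i') e₀ (cs.whisker (Over.forget i'))
    (isLimitWhisker Ds cs i' hc) σ.left (by
      ext k : 2
      show (c.π.app k.left).left ≫ (D.map k.hom).left = σ.left ≫ e.left
      rw [← Over.comp_left, ← Over.comp_left, c.w k.hom, hσ2])
  have hgk1' : (c.π.app k.left).left ≫ gk = σ.left := hgk1
  have hgk2' : gk ≫ e.left = (D.map k.hom).left := hgk2
  let Gk : D.obj k.left ⟶ E := Over.homMk gk (by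
    rw [← Over.w e]
    exact (Category.assoc _ _ _).symm.trans
      ((congrArg (fun t => t ≫ (D.obj i').hom) hgk2').trans (Over.w (D.map k.hom))))
  have hGk_e : Gk ≫ e = D.map k.hom := Over.OverMorphism.ext hgk2'
  have hGk_σ : c.π.app k.left ≫ Gk = σ := Over.OverMorphism.ext hgk1'
  have hG₂ : c.π.app k.left ≫ Gk ≫ ε = g := by
    rw [← Category.assoc, hGk_σ, hσ1]
  -- Step 4: compare the two maps to V over Y
  have key : (yon S).map ((Gk ≫ ε) ≫ hh) ≫ b = (yon S).map (τ k.left) ≫ b := by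
    rw [Functor.map_comp, Category.assoc, ← hcomm, Functor.map_comp, Category.assoc, hε,
      ← Category.assoc fstE, sqE.w, Category.assoc, hx'3, ← Category.assoc, ← Category.assoc,
      ← Functor.map_comp, ← Functor.map_comp, hGk_e, hτ k.hom]
  obtain ⟨P, pr, fstP, sqP⟩ := hb.rep ((yon S).map (τ k.left) ≫ b)
  have hP : Etale pr.left := hb.property _ _ _ sqP
  obtain ⟨ρ, hρ⟩ := (yon S).map_surjective fstP
  obtain ⟨s₁, hs₁⟩ := (yon S).map_surjective
    (sqP.lift ((yon S).map ((Gk ≫ ε) ≫ hh)) (𝟙 _) (by rw [Category.id_comp]; exact key))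
  obtain ⟨s₂, hs₂⟩ := (yon S).map_surjective
    (sqP.lift ((yon S).map (τ k.left)) (𝟙 _) (by rw [Category.id_comp]))
  have hs₁ρ : s₁ ≫ ρ = (Gk ≫ ε) ≫ hh := (yon S).map_injective (by
    rw [Functor.map_comp, hs₁, hρ, sqP.lift_fst])
  have hs₁pr : s₁ ≫ pr = 𝟙 _ := (yon S).map_injective (by
    rw [Functor.map_comp, hs₁, sqP.lift_snd]; exact ((yon S).map_id _).symm)
  have hs₂ρ : s₂ ≫ ρ = τ k.left := (yon S).map_injective (by
    rw [Functor.map_comp, hs₂, hρ, sqP.lift_fst])
  have hs₂pr : s₂ ≫ pr = 𝟙 _ := (yon S).map_injective (by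
    rw [Functor.map_comp, hs₂, sqP.lift_snd]; exact ((yon S).map_id _).symm)
  have hτc : c.π.app k.left ≫ τ k.left = g ≫ hh := by
    have e1 : c.π.app k.left ≫ τ k.left = c.π.app i' ≫ τ i' := by
      rw [← c.w k.hom, Category.assoc, hτ k.hom]
    have e2 : c.π.app i' ≫ τ i' = c.π.app i₀ ≫ τ i₀ := by
      rw [← c.w φ, Category.assoc, hτ φ]
    rw [e1, e2, hg]
  have heq : c.π.app k.left ≫ s₁ = c.π.app k.left ≫ s₂ := by
    apply (yon S).map_injective
    apply sqP.hom_ext
    · rw [← hρ, ← Functor.map_comp, ← Functor.map_comp, Category.assoc, Category.assoc, hs₁ρ,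
        hs₂ρ, hτc, ← Category.assoc, ← Category.assoc, Category.assoc _ Gk ε, hG₂]
    · rw [← Functor.map_comp, ← Functor.map_comp, Category.assoc, Category.assoc, hs₁pr, hs₂pr]
  -- Step 5: the two sections agree at a finite level
  haveI : ∀ l : Over k.left, IsAffine ((Over.forget k.left ⋙ Ds).obj l) := fun l => hD l.left
  have hPlft : LocallyOfFiniteType pr.left := inferInstance
  let pr₀ : P.left ⟶ Ds.obj k.left := pr.left
  haveI : LocallyOfFiniteType pr₀ := hPlft
  obtain ⟨l, hl, hleq⟩ := Scheme.exists_hom_comp_eq_comp_of_locallyOfFiniteType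
    (Over.forget k.left ⋙ Ds) (tOver Ds k.left) pr₀ (cs.whisker (Over.forget k.left))
    (isLimitWhisker Ds cs k.left hc) (i := Over.mk (𝟙 k.left)) s₁.left s₂.left
    (by
      show (D.map (𝟙 k.left)).left = s₁.left ≫ pr.left
      rw [← Over.comp_left, hs₁pr, D.map_id])
    (by
      show (D.map (𝟙 k.left)).left = s₂.left ≫ pr.left
      rw [← Over.comp_left, hs₂pr, D.map_id])
    (by
      show (c.π.app k.left).left ≫ s₁.left = (c.π.app k.left).left ≫ s₂.left
      rw [← Over.comp_left, ← Over.comp_left, heq])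
  have hleq' : (D.map hl.left).left ≫ s₁.left = (D.map hl.left).left ≫ s₂.left := hleq
  have hleq'' : D.map hl.left ≫ s₁ = D.map hl.left ≫ s₂ := Over.OverMorphism.ext hleq'
  refine ⟨l.left, D.map hl.left ≫ Gk ≫ ε, ?_, ?_⟩
  · have e1 : (D.map hl.left ≫ Gk ≫ ε) ≫ hh = D.map hl.left ≫ ((Gk ≫ ε) ≫ hh) := by
      simp only [Category.assoc]
    rw [e1, ← hs₁ρ, ← Category.assoc, hleq'', Category.assoc, hs₂ρ]
    exact hτ hl.left
  · rw [← Category.assoc, c.w hl.left]
    exact hG₂

/-- A morphism of sheaves for which the relative colimit comparison is surjective is locally of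
finite presentation (on etale charts). -/
theorem locP_lfp_of_surj {X Y : Sp S} (f : X ⟶ Y) (h : SurjHyp f) :
    LocP @LocallyOfFinitePresentation f := by
  intro U V a b hh ha hb hcomm
  apply Groth.Agent.S9208.result
  intro J _ _ _ D t c hc hD j₀ g hg
  haveI : ∀ j, IsAffine (D.obj j) := hD
  have key : ∀ {k j : Jᵒᵖ} (φ : k ⟶ j), D.map φ ≫ t.app j = t.app k := fun φ => by
    simpa using t.naturality φ
  have key2 : ∀ {k j : Jᵒᵖ} (_ : k ⟶ j), c.π.app k ≫ t.app k = c.π.app j ≫ t.app j := by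
    intro k j φ
    rw [← key φ, ← Category.assoc, c.w φ]
  have hct : ∀ j, c.π.app j ≫ t.app j = c.π.app j₀ ≫ t.app j₀ := fun j =>
    (key2 (IsCofiltered.minToLeft j j₀)).symm.trans (key2 (IsCofiltered.minToRight j j₀))
  let s : D ⟶ (Functor.const Jᵒᵖ).obj S := t ≫ (Functor.const Jᵒᵖ).map V.hom
  let p : c.pt ⟶ S := c.π.app j₀ ≫ t.app j₀ ≫ V.hom
  have hp : ∀ j, c.π.app j ≫ s.app j = p := fun j => by
    show c.π.app j ≫ t.app j ≫ V.hom = c.π.app j₀ ≫ t.app j₀ ≫ V.hom
    rw [← Category.assoc, hct j, Category.assoc]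
  let D' : Jᵒᵖ ⥤ Over S := Over.lift D s
  let c' : Cone D' := Over.liftCone D s c p hp
  have hc' : IsLimit ((Over.forget S).mapCone c') := hc
  haveI : IsAffineHom (c.π.app j₀) := isAffineHom_π_app D c hc j₀
  have hT : IsAffine c.pt := isAffine_of_isAffineHom (c.π.app j₀)
  let τ : ∀ j, D'.obj j ⟶ V := fun j => Over.homMk (t.app j) rfl
  have hτ : ∀ {k j : Jᵒᵖ} (φ : k ⟶ j), D'.map φ ≫ τ j = τ k := fun φ =>
    Over.OverMorphism.ext (key φ)
  let g' : c'.pt ⟶ U := Over.homMk g (by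
    show g ≫ U.hom = c.π.app j₀ ≫ t.app j₀ ≫ V.hom
    rw [← Over.w hh, ← Category.assoc, hg, Category.assoc])
  obtain ⟨j, gj, h1, h2⟩ := core f h a b hh ha hb hcomm D' c' hc' (fun j => hD j) hT τ hτ g' j₀
    (Over.OverMorphism.ext hg)
  exact ⟨j, gj.left, congrArg (fun m => m.left) h1, congrArg (fun m => m.left) h2⟩

end H10PT.LfpSurj
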