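import Mathlib
import Groth.Prelude.Def_AlgSpRep
import Groth.Agent.Lib.Helper10.ShLimB

/-!
# Relative limit preservation for a map of sheaves with a (non injective) atlas
-/

set_option autoImplicit false
universe u
open CategoryTheory CategoryTheory.Limits AlgebraicGeometry Opposite

namespace H10PT.ShLim

open AlgSp H10PT.LimLoc Groth.Agent.Lib.Helper6.RelLim

variable {S : Scheme.{u}} {F G F' G' : PSp S} (a : F ⟶ G) (a' : F' ⟶ G') (ηF : F ⟶ F')
  (ηG : G ⟶ G')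

/-- Sections of `F` can be adjusted to have a prescribed image in `G` with the same image in
`G'`. -/
def Adj : Prop :=
  ∀ (X : Over S) (t : F.obj (op X)) (u : G.obj (op X)), ηG.app _ (a.app _ t) = ηG.app _ u →
    ∃ t' : F.obj (op X), ηF.app _ t' = ηF.app _ t ∧ a.app _ t' = u

/-- Uniqueness at a finite stage for sections coming from `F`. -/
def InjLift : Prop :=
  ∀ ⦃I : Type u⦄ [SmallCategory I] [IsCofiltered I] (D : I ⥤ Over S) (c : Cone D),
    AffSys D c → ∀ (i : I) (t t' : F.obj (op (D.obj i))), a.app _ t = a.app _ t' →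
      F'.map (c.π.app i).op (ηF.app _ t) = F'.map (c.π.app i).op (ηF.app _ t') →
      ∃ f : Over i, F'.map (D.map f.hom).op (ηF.app _ t) =
        F'.map (D.map f.hom).op (ηF.app _ t')

/-- Existence for all affine systems. -/
def AllSurj : Prop :=
  ∀ ⦃I : Type u⦄ [SmallCategory I] [IsCofiltered I] (D : I ⥤ Over S) (c : Cone D),
    AffSys D c → SurjC a D c

theorem injC'' (comm : ∀ (X : Over S) (t : F.obj (op X)),
      a'.app _ (ηF.app _ t) = ηG.app _ (a.app _ t))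
    (hL : InjLift a ηF) (hAdj : Adj a ηF ηG) (hsF : LocSurj ηF)
    (hF' : Presheaf.IsSheaf (J S) F')
    {I : Type u} [SmallCategory I] [IsCofiltered I] {D : I ⥤ Over S} {c : Cone D}
    (hs : AffSys D c) : InjC a' D c := by
  intro i x x' hax hres
  obtain ⟨W₁, hW₁, h₁⟩ := hsF (D.obj i) x
  obtain ⟨W₂, hW₂, h₂⟩ := hsF (D.obj i) x'
  obtain ⟨C, hC⟩ := exists_cover_fin hs i (W₁ ⊓ W₂) ((J S).intersection_covering hW₁ hW₂)
  obtain ⟨f, hf⟩ := sep_of_pieces hF' i C x x' (fun k => by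
    have h12 : W₁.arrows (C.p k).π₀ ∧ W₂.arrows (C.p k).π₀ := hC k
    obtain ⟨t, ht⟩ := h₁ _ h12.1
    obtain ⟨t', ht'⟩ := h₂ _ h12.2
    have hsk := hs.piece (C.p k) (C.aff k)
    obtain ⟨t'', ht''1, ht''2⟩ := hAdj _ t' (a.app _ t)
      (by rw [← comm, ← comm, ht, ht', nat1 a', nat1 a', hax])
    obtain ⟨f, hf⟩ := hL _ _ hsk (Over.mk (𝟙 i)) t t'' ht''2.symm
      (by rw [ht''1, ht, ht', map_op_sq F' ((C.p k).ck_π₀ c) x,
        map_op_sq F' ((C.p k).ck_π₀ c) x', hres])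
    refine ⟨f.left, f.hom, ?_⟩
    rw [ht''1] at hf
    rw [map_op_comp, map_op_comp, ← ht, ← ht']
    exact hf)
  exact ⟨f.left, f.hom, hf⟩

theorem surj_lift'' (comm : ∀ (X : Over S) (t : F.obj (op X)),
      a'.app _ (ηF.app _ t) = ηG.app _ (a.app _ t))
    (hE : AllSurj a) (hAdj : Adj a ηF ηG) (hsF : LocSurj ηF)
    (hF' : Presheaf.IsSheaf (J S) F') (hG' : Sep G') (hU : AllInj a')
    {I : Type u} [SmallCategory I] [IsCofiltered I] {D : I ⥤ Over S} {c : Cone D}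
    (hs : AffSys D c) (i : I) (x : F'.obj (op c.pt)) (u : G.obj (op (D.obj i)))
    (h : a'.app _ x = G'.map (c.π.app i).op (ηG.app _ u)) :
    ∃ (f : Over i) (x' : F'.obj (op (D.obj f.left))),
      F'.map (c.π.app f.left).op x' = x ∧
      a'.app _ x' = G'.map (D.map f.hom).op (ηG.app _ u) := by
  let W : Sieve c.pt :=
    { arrows := fun Y => {g | ∃ t : F.obj (op Y), ηF.app _ t = F'.map g.op x ∧
        a.app _ t = G.map (g ≫ c.π.app i).op u}
      downward_closed := by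
        rintro Y Z g ⟨t, ht1, ht2⟩ m
        refine ⟨F.map m.op t, ?_, ?_⟩
        · rw [nat1 ηF, ht1, ← map_op_comp]
        · rw [nat1 a, ht2, ← map_op_comp, Category.assoc] }
  have hW : W ∈ J S c.pt := by
    obtain ⟨W₁, hW₁, h₁⟩ := hsF c.pt x
    refine (J S).superset_covering (fun Y g hg => ?_) hW₁
    obtain ⟨t, ht⟩ := h₁ g hg
    have h2 : ηG.app _ (a.app _ t) = ηG.app _ (G.map (g ≫ c.π.app i).op u) := by
      rw [← comm, ht, nat1 a', h, ← map_op_comp, nat1 ηG]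
    obtain ⟨t', ht'1, ht'2⟩ := hAdj _ t _ h2
    exact ⟨t', ht'1.trans ht, ht'2⟩
  obtain ⟨i₁, C, hC⟩ := exists_cover_inf (hs.over i) W hW
  obtain ⟨f, x', hx1, hx2⟩ := glue_pieces a' hF' hG' hU (hs.over i) i₁ C x
    (G'.map (D.map i₁.hom).op (ηG.app _ u)) (fun k => by
      obtain ⟨t, ht1, ht2⟩ := hC k
      have hsk := (hs.over i).piece (C.p k) (C.aff k)
      have hsurj := hE _ _ hsk
      let σ : (C.p k).Dk.obj (Over.mk (𝟙 i₁)) ⟶ D.obj i := (C.p k).π₀ ≫ D.map i₁.hom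
      have hσ : ((C.p k).ck (c.whisker (Over.forget i))).π.app (Over.mk (𝟙 i₁)) ≫ σ =
          (C.p k).πinf (c.whisker (Over.forget i)) ≫ c.π.app i :=
        comp_aux ((C.p k).ck_π₀ (c.whisker (Over.forget i))) (c.w i₁.hom)
      obtain ⟨j, fj, tj, htj1, htj2⟩ := hsurj (Over.mk (𝟙 i₁)) (G.map σ.op u) t
        (ht2.trans ((congrArg (fun m => G.map m.op u) hσ.symm).trans (map_op_comp G _ _ u)))
      refine ⟨j, fj, ηF.app _ tj, ?_, ?_⟩
      · exact (nat1 ηF _ tj).symm.trans ((congrArg _ htj2).trans ht1)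
      · exact (comm _ tj).trans ((congrArg _ htj1).trans ((nat2 ηG _ _ u).symm.trans
          (map_op_sq G' (Category.assoc _ _ _) (ηG.app _ u)).symm)))
  have e : (Over.forget i ⋙ D).map f.hom ≫ D.map i₁.hom = D.map f.left.hom := by
    show D.map f.hom.left ≫ D.map i₁.hom = _
    rw [← D.map_comp, Over.w f.hom]
  exact ⟨f.left, x', hx1, hx2.trans (map_op_tri G' e _)⟩

theorem surjC'' (comm : ∀ (X : Over S) (t : F.obj (op X)),
      a'.app _ (ηF.app _ t) = ηG.app _ (a.app _ t))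
    (hE : AllSurj a) (hAdj : Adj a ηF ηG) (hsF : LocSurj ηF) (hsG : LocSurj ηG)
    (hF' : Presheaf.IsSheaf (J S) F') (hG' : Sep G') (hU : AllInj a')
    {I : Type u} [SmallCategory I] [IsCofiltered I] {D : I ⥤ Over S} {c : Cone D}
    (hs : AffSys D c) : SurjC a' D c := by
  intro i y x hx
  obtain ⟨W, hW, hWs⟩ := hsG (D.obj i) y
  obtain ⟨C, hC⟩ := exists_cover_fin hs i W hW
  obtain ⟨f, x', hx1, hx2⟩ := glue_pieces a' hF' hG' hU hs i C x y (fun k => by
    obtain ⟨u, hu⟩ := hWs _ (hC k)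
    have hsk := hs.piece (C.p k) (C.aff k)
    obtain ⟨f, x', hx'1, hx'2⟩ := surj_lift'' a a' ηF ηG comm hE hAdj hsF hF' hG' hU hsk
      (Over.mk (𝟙 i)) (F'.map ((C.p k).πinf c).op x) u
      (by rw [nat1 a', hx, hu, map_op_sq G' ((C.p k).ck_π₀ c) y])
    refine ⟨f.left, f.hom, x', hx'1, ?_⟩
    rw [hx'2, hu, ← map_op_comp])
  exact ⟨f.left, f.hom, x', hx2, hx1⟩

/-- Relative limit preservation of a map of sheaves from the corresponding properties of an
atlas. -/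
theorem crlp_of_cover (comm : ∀ (X : Over S) (t : F.obj (op X)),
      a'.app _ (ηF.app _ t) = ηG.app _ (a.app _ t))
    (hE : AllSurj a) (hL : InjLift a ηF) (hAdj : Adj a ηF ηG) (hsF : LocSurj ηF)
    (hsG : LocSurj ηG) (hF' : Presheaf.IsSheaf (J S) F') (hG' : Sep G') : CRLP a' := by
  have hU : AllInj a' := fun I _ _ D c hs => injC'' a a' ηF ηG comm hL hAdj hsF hF' hs
  exact fun I _ _ D c hs => ⟨surjC'' a a' ηF ηG comm hE hAdj hsF hsG hF' hG' hU hs, hU D c hs⟩

end H10PT.ShLim
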