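import Mathlib
import Groth.Prelude.Def_AlgSp3
import Groth.Prelude.Def_AlgSpRep
import Groth.Agent.Lib.Helper10.ShLimD
import Groth.Agent.Lib.Helper10.ShLimC
import Groth.Agent.Lib.Helper10.LfpSurj

/-!
# Morphisms locally of finite presentation and limits of affine schemes: scheme level lemmas
-/

set_option autoImplicit false
universe u
open CategoryTheory CategoryTheory.Limits AlgebraicGeometry Opposite

namespace H10PT.LfpRel

open AlgSp H10PT.LimLoc H10PT.ShLim Groth.Agent.Lib.Helper6.RelLim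

variable {S : Scheme.{u}}

section SchemeLevel

variable {I : Type u} [SmallCategory I] [IsCofiltered I] {D : I ⥤ Over S} {c : Cone D}

/-- Existence of lifts at a finite stage along a morphism locally of finite presentation. -/
theorem exists_lift_of_lfp (hs : AffSys D c) {P V : Over S} (p : P ⟶ V)
    (hp : LocallyOfFinitePresentation p.left) (i : I) (y : D.obj i ⟶ V) (x : c.pt ⟶ P)
    (h : x ≫ p = c.π.app i ≫ y) :
    ∃ (j : I) (φ : j ⟶ i) (xj : D.obj j ⟶ P), xj ≫ p = D.map φ ≫ y ∧ c.π.app j ≫ xj = x := by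
  obtain ⟨hc⟩ := hs.lim
  let Ds : I ⥤ Scheme.{u} := D ⋙ Over.forget S
  let cs : Cone Ds := (Over.forget S).mapCone c
  haveI : ∀ k : Over i, IsAffine ((Over.forget i ⋙ Ds).obj k) := fun k => hs.aff k.left
  let tV : (Over.forget i ⋙ Ds) ⟶ (Functor.const (Over i)).obj V.left :=
    LfpSurj.tOver Ds i ≫ (Functor.const (Over i)).map y.left
  let p₀ : P.left ⟶ V.left := p.left
  haveI : LocallyOfFinitePresentation p₀ := hp
  obtain ⟨k, gk, hgk1, hgk2⟩ := Scheme.exists_π_app_comp_eq_of_locallyOfFinitePresentation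
    (Over.forget i ⋙ Ds) tV p₀ (cs.whisker (Over.forget i))
    (LfpSurj.isLimitWhisker Ds cs i hc) x.left (by
      ext k : 2
      show (c.π.app k.left).left ≫ (D.map k.hom).left ≫ y.left = x.left ≫ p.left
      rw [← Over.comp_left, ← Over.comp_left, ← Over.comp_left, h, ← Category.assoc, c.w k.hom])
  have hgk1' : (c.π.app k.left).left ≫ gk = x.left := hgk1
  have hgk2' : gk ≫ p.left = (D.map k.hom).left ≫ y.left := hgk2
  let Gk : D.obj k.left ⟶ P := Over.homMk gk (by
    rw [← Over.w p]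
    exact (Category.assoc _ _ _).symm.trans
      ((congrArg (fun t => t ≫ V.hom) hgk2').trans
        ((Category.assoc _ _ _).trans
          ((congrArg (fun t => (D.map k.hom).left ≫ t) (Over.w y)).trans
            (Over.w (D.map k.hom))))))
  exact ⟨k.left, k.hom, Gk, Over.OverMorphism.ext hgk2', Over.OverMorphism.ext hgk1'⟩

/-- Uniqueness of lifts at a finite stage along a morphism locally of finite type. -/
theorem exists_eq_of_lft (hs : AffSys D c) {P V : Over S} (p : P ⟶ V)
    (hp : LocallyOfFiniteType p.left) (i : I) (s₁ s₂ : D.obj i ⟶ P)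
    (h12 : s₁ ≫ p = s₂ ≫ p) (heq : c.π.app i ≫ s₁ = c.π.app i ≫ s₂) :
    ∃ (j : I) (φ : j ⟶ i), D.map φ ≫ s₁ = D.map φ ≫ s₂ := by
  obtain ⟨hc⟩ := hs.lim
  let Ds : I ⥤ Scheme.{u} := D ⋙ Over.forget S
  let cs : Cone Ds := (Over.forget S).mapCone c
  haveI : ∀ k : Over i, IsAffine ((Over.forget i ⋙ Ds).obj k) := fun k => hs.aff k.left
  let tV : (Over.forget i ⋙ Ds) ⟶ (Functor.const (Over i)).obj V.left :=
    LfpSurj.tOver Ds i ≫ (Functor.const (Over i)).map (s₁ ≫ p).left
  let p₀ : P.left ⟶ V.left := p.left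
  haveI : LocallyOfFiniteType p₀ := hp
  obtain ⟨l, hl, hleq⟩ := Scheme.exists_hom_comp_eq_comp_of_locallyOfFiniteType
    (Over.forget i ⋙ Ds) tV p₀ (cs.whisker (Over.forget i))
    (LfpSurj.isLimitWhisker Ds cs i hc) (i := Over.mk (𝟙 i)) s₁.left s₂.left
    (by
      show (D.map (𝟙 i)).left ≫ (s₁ ≫ p).left = s₁.left ≫ p.left
      rw [D.map_id, Over.id_left, Category.id_comp, Over.comp_left])
    (by
      show (D.map (𝟙 i)).left ≫ (s₁ ≫ p).left = s₂.left ≫ p.left
      rw [D.map_id, Over.id_left, Category.id_comp, h12, Over.comp_left])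
    (by
      show (c.π.app i).left ≫ s₁.left = (c.π.app i).left ≫ s₂.left
      rw [← Over.comp_left, ← Over.comp_left, heq])
  have hleq' : (D.map hl.left).left ≫ s₁.left = (D.map hl.left).left ≫ s₂.left := hleq
  exact ⟨l.left, hl.left, Over.OverMorphism.ext hleq'⟩

end SchemeLevel

section Dict

/-- Evaluation of a map from a representable sheaf on a section. -/
theorem app_eq {P : Over S} {X : Sp S} (α : (yon S).obj P ⟶ X) {T : Over S} (t : T ⟶ P) :
    α.hom.app (op T) ⟨t⟩ = (J S).uliftYonedaEquiv ((yon S).map t ≫ α) := by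
  rw [GrothendieckTopology.uliftYonedaEquiv_comp,
    GrothendieckTopology.uliftYonedaEquiv_uliftYoneda_map]

theorem map_app_eq {P : Over S} {X : Sp S} (α : (yon S).obj P ⟶ X) {T T' : Over S} (t : T ⟶ P)
    (g : T' ⟶ T) :
    X.obj.map g.op (α.hom.app (op T) ⟨t⟩) = (J S).uliftYonedaEquiv ((yon S).map (g ≫ t) ≫ α) := by
  rw [app_eq, GrothendieckTopology.uliftYonedaEquiv_naturality, Functor.map_comp,
    Category.assoc]

theorem yon_map_app {P V : Over S} (p : P ⟶ V) {T : Over S}
    (x : ((yon S).obj P).obj.obj (op T)) :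
    ((yon S).map p).hom.app (op T) x = ⟨x.down ≫ p⟩ := rfl

theorem yon_obj_map {P : Over S} {T T' : Over S} (g : T' ⟶ T)
    (x : ((yon S).obj P).obj.obj (op T)) :
    ((yon S).obj P).obj.map g.op x = ⟨g ≫ x.down⟩ := rfl

end Dict

end H10PT.LfpRel
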