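import Mathlib
import Groth.Prelude.Def_AlgSp3
import Groth.Prelude.Def_AlgSpRep
import Groth.Agent.Lib.Helper10.LfpRelA
import Groth.Agent.Lib.Helper16.LocSurj

/-!
# A morphism of algebraic spaces is locally of finite presentation iff it is relatively limit
preserving
-/

set_option autoImplicit false
universe u
open CategoryTheory CategoryTheory.Limits AlgebraicGeometry Opposite

namespace H10PT.LfpRel

open AlgSp H10PT.LimLoc H10PT.ShLim Groth.Agent.Lib.Helper6.RelLim

variable {S : Scheme.{u}}

/-- The existence part of relative limit preservation gives the surjectivity hypothesis. -/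
theorem surjHyp_of_crlp {X Y : Sp S} (f : X ⟶ Y) (h : CRLP f.hom) : LfpSurj.SurjHyp f := by
  intro I _ _ D c hc hD hT x i y hxy
  obtain ⟨hS, -⟩ := h D c ⟨⟨hc⟩, hD, hT⟩
  obtain ⟨j, φ, xj, h1, h2⟩ := hS i ((J S).uliftYonedaEquiv y) ((J S).uliftYonedaEquiv x) (by
    rw [← GrothendieckTopology.uliftYonedaEquiv_comp, hxy,
      ← GrothendieckTopology.uliftYonedaEquiv_naturality])
  refine ⟨j, φ, (J S).uliftYonedaEquiv.symm xj, ?_, ?_⟩
  · apply (J S).uliftYonedaEquiv.injective
    rw [← GrothendieckTopology.uliftYonedaEquiv_naturality, Equiv.apply_symm_apply]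
    exact h2
  · apply (J S).uliftYonedaEquiv.injective
    rw [GrothendieckTopology.uliftYonedaEquiv_comp, Equiv.apply_symm_apply, h1,
      GrothendieckTopology.uliftYonedaEquiv_naturality]

/-- A representable etale surjective map of sheaves is locally surjective. -/
theorem locSurj_of_etale_surj {F G : Sp S} (a : F ⟶ G) (h1 : RepWith @Etale a)
    (h2 : RepWith @Surjective a) : LocSurj a.hom := by
  have hfl : RepWith @Flat a := MorphismProperty.relative_monotone
    (P := MorphismProperty.inverseImage (@Etale : MorphismProperty Scheme.{u}) (Over.forget S))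
    (P' := MorphismProperty.inverseImage (@Flat : MorphismProperty Scheme.{u}) (Over.forget S))
    (fun _ _ g hg => by
      haveI : Etale g.left := hg
      exact (inferInstance : Flat g.left)) _ h1
  have hfp : RepWith @LocallyOfFinitePresentation a := MorphismProperty.relative_monotone
    (P := MorphismProperty.inverseImage (@Etale : MorphismProperty Scheme.{u}) (Over.forget S))
    (P' := MorphismProperty.inverseImage
      (@LocallyOfFinitePresentation : MorphismProperty Scheme.{u}) (Over.forget S))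
    (fun _ _ g hg => by
      haveI : Etale g.left := hg
      exact (inferInstance : LocallyOfFinitePresentation g.left)) _ h1
  haveI : Presheaf.IsLocallySurjective (J S) a.hom :=
    Groth.Agent.Lib.Helper16.isLocallySurjective_of_repWith_fppf a hfl hfp h2
  exact locSurj_of a.hom

/-- A morphism of algebraic spaces which is locally of finite presentation on etale charts is
relatively limit preserving. -/
theorem crlp_of_locP {X Y : Sp S} (hX : IsAlgSpace X) (hY : IsAlgSpace Y) (f : X ⟶ Y)
    (hf : LocP @LocallyOfFinitePresentation f) : CRLP f.hom := by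
  obtain ⟨V, b, hbE, hbS⟩ := hY.atlas
  obtain ⟨U, a, haE, haS⟩ := hX.atlas
  obtain ⟨P, p₁, fstP, sqP⟩ := hbE.rep (a ≫ f)
  have hp₁E : Etale p₁.left := hbE.property _ _ _ sqP
  have hp₁S : Surjective p₁.left := hbS.property _ _ _ sqP
  obtain ⟨p₂, hp₂⟩ := (yon S).map_surjective fstP
  subst hp₂
  let aP : (yon S).obj P ⟶ X := (yon S).map p₁ ≫ a
  have haPE : RepWith @Etale aP :=
    MorphismProperty.comp_mem _ _ _ ((repWith_yon_map_iff _ _).2 hp₁E) haE
  have haPS : RepWith @Surjective aP :=
    MorphismProperty.comp_mem _ _ _ ((repWith_yon_map_iff _ _).2 hp₁S) haS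
  have hcomm' : (yon S).map p₁ ≫ a ≫ f = (yon S).map p₂ ≫ b := sqP.w.symm
  have hcomm : aP ≫ f = (yon S).map p₂ ≫ b := (Category.assoc _ _ _).trans hcomm'
  have hlfp : LocallyOfFinitePresentation p₂.left := hf aP b p₂ haPE hbE hcomm
  have hlft : LocallyOfFiniteType p₂.left := inferInstance
  -- the relation scheme
  let α : (yon S).obj P ⟶ pullback f b := pullback.lift aP ((yon S).map p₂) hcomm
  have hα_fst : α ≫ pullback.fst f b = aP := pullback.lift_fst _ _ _
  have hα_snd : α ≫ pullback.snd f b = (yon S).map p₂ := pullback.lift_snd _ _ _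
  have hαE : RepWith @Etale α := by
    have sq : IsPullback α ((yon S).map p₁) (pullback.fst f b) a := by
      refine IsPullback.of_right ?_ hα_fst (IsPullback.of_hasPullback f b).flip
      rw [hα_snd]
      exact sqP
    haveI := MorphismProperty.relative_isStableUnderBaseChange (F := yon S)
      (MorphismProperty.inverseImage (@Etale : MorphismProperty Scheme.{u}) (Over.forget S))
    exact MorphismProperty.of_isPullback (P := RepWith @Etale) sq.flip haE
  obtain ⟨R, r₂, fstR, sqR⟩ := hαE.rep α
  have hr₂E : Etale r₂.left := hαE.property _ _ _ sqR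
  obtain ⟨r₁, hr₁⟩ := (yon S).map_surjective fstR
  subst hr₁
  have hr_a : (yon S).map r₁ ≫ aP = (yon S).map r₂ ≫ aP := by
    have h := congrArg (fun m => m ≫ pullback.fst f b) sqR.w
    simpa only [Category.assoc, hα_fst] using h
  have hr_p : r₁ ≫ p₂ = r₂ ≫ p₂ := by
    apply (yon S).map_injective
    have h := congrArg (fun m => m ≫ pullback.snd f b) sqR.w
    simpa only [Category.assoc, hα_snd, ← Functor.map_comp] using h
  have hr_univ : ∀ {T : Over S} (t t'' : T ⟶ P),
      (yon S).map t ≫ aP = (yon S).map t'' ≫ aP → t ≫ p₂ = t'' ≫ p₂ →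
      ∃ r : T ⟶ R, r ≫ r₁ = t ∧ r ≫ r₂ = t'' := by
    intro T t t'' h1 h2
    have hα : (yon S).map t ≫ α = (yon S).map t'' ≫ α := by
      apply pullback.hom_ext
      · rw [Category.assoc, Category.assoc, hα_fst]
        exact h1
      · rw [Category.assoc, Category.assoc, hα_snd, ← Functor.map_comp, ← Functor.map_comp, h2]
    obtain ⟨r, hr⟩ := (yon S).map_surjective (sqR.lift ((yon S).map t) ((yon S).map t'') hα)
    refine ⟨r, (yon S).map_injective ?_, (yon S).map_injective ?_⟩
    · rw [Functor.map_comp, hr, sqR.lift_fst]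
    · rw [Functor.map_comp, hr, sqR.lift_snd]
  have hsF : LocSurj aP.hom := locSurj_of_etale_surj aP haPE haPS
  have hsG : LocSurj b.hom := locSurj_of_etale_surj b hbE hbS
  refine crlp_of_cover ((yon S).map p₂).hom f.hom aP.hom b.hom ?_ ?_ ?_ ?_ hsF hsG X.property
    (Sep.of_isSheaf Y.property)
  · intro T t
    exact congrArg (fun m : (yon S).obj P ⟶ Y => m.hom.app (op T) t) hcomm
  · intro I _ _ D c hs i y x hx
    have hx' : x.down ≫ p₂ = c.π.app i ≫ y.down := congrArg ULift.down hx
    obtain ⟨j, φ, xj, h1, h2⟩ := exists_lift_of_lfp hs p₂ hlfp i y.down x.down hx'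
    exact ⟨j, φ, ⟨xj⟩, congrArg ULift.up h1, congrArg ULift.up h2⟩
  · intro I _ _ D c hs i t t' h1 h2
    rcases t with ⟨t⟩
    rcases t' with ⟨t'⟩
    have h1' : t ≫ p₂ = t' ≫ p₂ := congrArg ULift.down h1
    have h2' : (yon S).map (c.π.app i ≫ t) ≫ aP = (yon S).map (c.π.app i ≫ t') ≫ aP := by
      apply (J S).uliftYonedaEquiv.injective
      rw [← map_app_eq aP t (c.π.app i), ← map_app_eq aP t' (c.π.app i)]
      exact h2
    obtain ⟨r, hr1, hr2⟩ := hr_univ (c.π.app i ≫ t') (c.π.app i ≫ t) h2'.symm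
      (by rw [Category.assoc, Category.assoc, h1'])
    haveI := hr₂E
    obtain ⟨j, φ, rj, hrj1, hrj2⟩ := exists_lift_of_lfp hs r₂ inferInstance i t r hr2
    obtain ⟨l, ψ, hl⟩ := exists_eq_of_lft hs p₂ hlft j (rj ≫ r₁) (D.map φ ≫ t')
      (by rw [Category.assoc, hr_p, ← Category.assoc, hrj1, Category.assoc, Category.assoc, h1'])
      (by rw [← Category.assoc, hrj2, hr1, ← Category.assoc, c.w φ])
    refine ⟨Over.mk (ψ ≫ φ), ?_⟩
    have e2 : (D.map ψ ≫ rj) ≫ r₂ = D.map (ψ ≫ φ) ≫ t := by
      rw [Category.assoc, hrj1, ← Category.assoc, ← D.map_comp]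
    have e1 : (D.map ψ ≫ rj) ≫ r₁ = D.map (ψ ≫ φ) ≫ t' := by
      rw [Category.assoc, hl, ← Category.assoc, ← D.map_comp]
    have key : (yon S).map ((D.map ψ ≫ rj) ≫ r₂) ≫ aP =
        (yon S).map ((D.map ψ ≫ rj) ≫ r₁) ≫ aP := by
      rw [(yon S).map_comp (D.map ψ ≫ rj) r₂, (yon S).map_comp (D.map ψ ≫ rj) r₁,
        Category.assoc, Category.assoc, hr_a]
    rw [e2, e1] at key
    exact (map_app_eq aP t (D.map (ψ ≫ φ))).trans
      ((congrArg (J S).uliftYonedaEquiv key).trans (map_app_eq aP t' (D.map (ψ ≫ φ))).symm)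
  · intro T t u h
    rcases t with ⟨t⟩
    rcases u with ⟨u⟩
    have h' : (yon S).map (t ≫ p₂) ≫ b = (yon S).map u ≫ b := by
      apply (J S).uliftYonedaEquiv.injective
      rw [← app_eq b (t ≫ p₂), ← app_eq b u]
      exact h
    have hw : (yon S).map u ≫ b = (yon S).map (t ≫ p₁) ≫ (a ≫ f) := by
      have e : (yon S).map (t ≫ p₁) ≫ (a ≫ f) = (yon S).map (t ≫ p₂) ≫ b := by
        rw [Functor.map_comp, Functor.map_comp, Category.assoc, Category.assoc, hcomm']
      rw [e, h']
    obtain ⟨t', ht'⟩ := (yon S).map_surjective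
      (sqP.lift ((yon S).map u) ((yon S).map (t ≫ p₁)) hw)
    have ht'1 : t' ≫ p₂ = u := (yon S).map_injective (by
      rw [Functor.map_comp, ht', sqP.lift_fst])
    have ht'2 : t' ≫ p₁ = t ≫ p₁ := (yon S).map_injective (by
      rw [Functor.map_comp, ht', sqP.lift_snd])
    refine ⟨⟨t'⟩, ?_, congrArg ULift.up ht'1⟩
    have e3 : (yon S).map t' ≫ aP = (yon S).map t ≫ aP := by
      show (yon S).map t' ≫ (yon S).map p₁ ≫ a = (yon S).map t ≫ (yon S).map p₁ ≫ a
      rw [← Category.assoc, ← Functor.map_comp, ht'2, Functor.map_comp, Category.assoc]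
    exact (app_eq aP t').trans ((congrArg (J S).uliftYonedaEquiv e3).trans (app_eq aP t).symm)

/-- A morphism of algebraic spaces is locally of finite presentation if and only if it is
relatively limit preserving. -/
theorem main10024 {X Y : AlgSp.Space S} (f : X ⟶ Y) :
    AlgSp.LocP @LocallyOfFinitePresentation f.hom ↔ AlgSp.IsRelLimitPreserving f.hom.hom := by
  rw [← crlp_iff]
  exact ⟨crlp_of_locP X.property Y.property f.hom,
    fun h => LfpSurj.locP_lfp_of_surj f.hom (surjHyp_of_crlp f.hom h)⟩

end H10PT.LfpRel
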