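import Mathlib

/-!
# Lifting idempotent endomorphisms / projective modules along a nil ideal (helper10)

* `eq_top_of_sup_smul_top_of_isNilpotent`: Nakayama for a nilpotent ideal (no finiteness).
* `isNilpotent_end_of_forall_mem_smul`: an endomorphism with image in `J • ⊤`, `J` nilpotent, is
  nilpotent.
* `exists_idempotent_lift`: idempotent endomorphisms of `(R ⧸ I) ⊗ F`, `F` free, lift to `F`
  provided endomorphisms with image in `I F` are nilpotent.
* `bijective_comp_baseChange_subtype`: identification of `(R ⧸ I) ⊗ range e` with a retract.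
-/

set_option autoImplicit false
universe u

namespace Groth.Agent.Lib.Helper10

open TensorProduct

section nilpotent

variable {R : Type u} [CommRing R]

/-- Nakayama's lemma for a nilpotent ideal: no finiteness assumption is needed. -/
theorem eq_top_of_sup_smul_top_of_isNilpotent {M : Type u} [AddCommGroup M] [Module R M]
    (I : Ideal R) (hI : IsNilpotent I) (N : Submodule R M)
    (h : N ⊔ I • (⊤ : Submodule R M) = ⊤) : N = ⊤ := by
  obtain ⟨n, hn⟩ := hI
  have key : ∀ k : ℕ, N ⊔ (I ^ k) • (⊤ : Submodule R M) = ⊤ := by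
    intro k
    induction k with
    | zero => rw [pow_zero, Ideal.one_eq_top, Submodule.top_smul, sup_top_eq]
    | succ k ih =>
      have hle : (I ^ k) • (⊤ : Submodule R M) ≤ N ⊔ (I ^ (k + 1)) • (⊤ : Submodule R M) := by
        calc (I ^ k) • (⊤ : Submodule R M) = (I ^ k) • (N ⊔ I • (⊤ : Submodule R M)) := by rw [h]
          _ = (I ^ k) • N ⊔ (I ^ k) • (I • (⊤ : Submodule R M)) := Submodule.smul_sup _ _ _
          _ ≤ N ⊔ (I ^ (k + 1)) • (⊤ : Submodule R M) := by
              refine sup_le_sup Submodule.smul_le_right ?_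
              rw [← Submodule.mul_smul, ← pow_succ]
      rw [eq_top_iff]
      calc (⊤ : Submodule R M) = N ⊔ (I ^ k) • (⊤ : Submodule R M) := ih.symm
        _ ≤ N ⊔ (I ^ (k + 1)) • (⊤ : Submodule R M) := sup_le le_sup_left hle
  have := key n
  rw [hn, Ideal.zero_eq_bot, Submodule.bot_smul, sup_bot_eq] at this
  exact this

/-- If `M = I M` with `I` nilpotent then `M = 0`. -/
theorem subsingleton_of_le_smul_of_isNilpotent {M : Type u} [AddCommGroup M] [Module R M]
    (I : Ideal R) (hI : IsNilpotent I) (h : (⊤ : Submodule R M) ≤ I • (⊤ : Submodule R M)) :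
    Subsingleton M := by
  have h1 := eq_top_of_sup_smul_top_of_isNilpotent I hI (⊥ : Submodule R M)
    (by rw [bot_sup_eq]; exact top_le_iff.mp h)
  exact (Submodule.subsingleton_iff R).mp (subsingleton_of_bot_eq_top h1)

/-- An endomorphism whose image lies in `J F` with `J` nilpotent is nilpotent. -/
theorem isNilpotent_end_of_forall_mem_smul {F : Type u} [AddCommGroup F] [Module R F]
    (J : Ideal R) (hJ : IsNilpotent J) (φ : Module.End R F)
    (h : ∀ x, φ x ∈ J • (⊤ : Submodule R F)) : IsNilpotent φ := by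
  obtain ⟨n, hn⟩ := hJ
  refine ⟨n, ?_⟩
  have key : ∀ k : ℕ, ∀ x, (φ ^ k) x ∈ (J ^ k) • (⊤ : Submodule R F) := by
    intro k
    induction k with
    | zero =>
      intro x
      rw [pow_zero, Ideal.one_eq_top, Submodule.top_smul]
      exact Submodule.mem_top
    | succ k ih =>
      intro x
      rw [pow_succ' φ k, Module.End.mul_apply]
      have h1 : (φ ^ k) x ∈ (J ^ k) • (⊤ : Submodule R F) := ih x
      have h2 : φ ((φ ^ k) x) ∈ Submodule.map φ ((J ^ k) • (⊤ : Submodule R F)) :=
        Submodule.mem_map_of_mem h1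
      rw [Submodule.map_smul''] at h2
      have h3 : Submodule.map φ ⊤ ≤ J • (⊤ : Submodule R F) := by
        rintro _ ⟨y, -, rfl⟩
        exact h y
      have h4 := Submodule.smul_mono (le_refl (J ^ k)) h3 h2
      rw [← Submodule.mul_smul, ← pow_succ] at h4
      exact h4
  ext x
  have := key n x
  rw [hn, Ideal.zero_eq_bot, Submodule.bot_smul, Submodule.mem_bot] at this
  simpa using this

end nilpotent

section quotient

variable {R : Type u} [CommRing R] (I : Ideal R)

/-- Every element of `(R ⧸ I) ⊗ N` is of the form `1 ⊗ n`. -/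
theorem exists_one_tmul {N : Type u} [AddCommGroup N] [Module R N] (t : (R ⧸ I) ⊗[R] N) :
    ∃ n : N, (1 : R ⧸ I) ⊗ₜ[R] n = t := by
  induction t using TensorProduct.induction_on with
  | zero => exact ⟨0, by simp⟩
  | tmul a n =>
    obtain ⟨r, rfl⟩ := Ideal.Quotient.mk_surjective a
    refine ⟨r • n, ?_⟩
    rw [← TensorProduct.smul_tmul]
    congr 1
    rw [Algebra.smul_def, mul_one]
    rfl
  | add x y hx hy =>
    obtain ⟨a, rfl⟩ := hx
    obtain ⟨b, rfl⟩ := hy
    exact ⟨a + b, by rw [TensorProduct.tmul_add]⟩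

theorem one_tmul_eq_zero_iff {N : Type u} [AddCommGroup N] [Module R N] (n : N) :
    (1 : R ⧸ I) ⊗ₜ[R] n = 0 ↔ n ∈ I • (⊤ : Submodule R N) := by
  rw [← (TensorProduct.quotTensorEquivQuotSMul N I).map_eq_zero_iff,
    TensorProduct.quotTensorEquivQuotSMul_mk_one_tmul, Submodule.Quotient.mk_eq_zero]

/-- Over a free module every endomorphism of the base change is a base change. -/
theorem baseChange_surjective_of_free {F : Type u} [AddCommGroup F] [Module R F] [Module.Free R F]
    (ψ : Module.End (R ⧸ I) ((R ⧸ I) ⊗[R] F)) :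
    ∃ φ : Module.End R F, φ.baseChange (R ⧸ I) = ψ := by
  let b := Module.Free.chooseBasis R F
  choose x hx using fun i => exists_one_tmul I (ψ ((1 : R ⧸ I) ⊗ₜ[R] b i))
  refine ⟨b.constr R x, ?_⟩
  apply (b.baseChange (R ⧸ I)).ext
  intro i
  rw [Module.Basis.baseChange_apply, LinearMap.baseChange_tmul, Module.Basis.constr_basis, hx]

theorem mem_smul_top_of_baseChange_eq_zero {F : Type u} [AddCommGroup F] [Module R F]
    (φ : Module.End R F) (h : φ.baseChange (R ⧸ I) = 0) (x : F) :
    φ x ∈ I • (⊤ : Submodule R F) := by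
  rw [← one_tmul_eq_zero_iff]
  have := LinearMap.congr_fun h ((1 : R ⧸ I) ⊗ₜ[R] x)
  simpa using this

/-- Idempotent endomorphisms of `(R ⧸ I) ⊗ F` lift to `F` (free), if the endomorphisms of `F`
with image in `I F` are nilpotent. -/
theorem exists_idempotent_lift {F : Type u} [AddCommGroup F] [Module R F] [Module.Free R F]
    (hnil : ∀ φ : Module.End R F, (∀ x, φ x ∈ I • (⊤ : Submodule R F)) → IsNilpotent φ)
    (eb : Module.End (R ⧸ I) ((R ⧸ I) ⊗[R] F)) (heb : IsIdempotentElem eb) :
    ∃ e : Module.End R F, IsIdempotentElem e ∧ e.baseChange (R ⧸ I) = eb := by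
  have hker : ∀ φ ∈ RingHom.ker
      (Module.End.baseChangeHom R (R ⧸ I) F).toRingHom,
      IsNilpotent φ := by
    intro φ hφ
    apply hnil
    apply mem_smul_top_of_baseChange_eq_zero I φ
    exact hφ
  obtain ⟨φ, hφ⟩ := baseChange_surjective_of_free I eb
  obtain ⟨e, he, he'⟩ := exists_isIdempotentElem_eq_of_ker_isNilpotent
    (Module.End.baseChangeHom R (R ⧸ I) F).toRingHom
    hker eb ⟨φ, hφ⟩ heb
  exact ⟨e, he, he'⟩

end quotient

section range

variable {R : Type u} [CommRing R]

/-- The range of an idempotent endomorphism of a projective module is projective. -/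
theorem projective_range_of_isIdempotentElem {F : Type u} [AddCommGroup F] [Module R F]
    [Module.Projective R F] (e : Module.End R F) (he : IsIdempotentElem e) :
    Module.Projective R (LinearMap.range e) := by
  refine Module.Projective.of_split (LinearMap.range e).subtype e.rangeRestrict ?_
  ext ⟨_, y, rfl⟩
  show e (e y) = e y
  rw [← Module.End.mul_apply, he.eq]

/-- If `q, j` exhibit `Pb` as a retract of `A ⊗ F` whose idempotent is the base change of the
idempotent `e` of `F`, then `A ⊗ range e → A ⊗ F → Pb` is bijective. -/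
theorem bijective_comp_baseChange_subtype {A : Type u} [CommRing A] [Algebra R A]
    {F : Type u} [AddCommGroup F] [Module R F] (e : Module.End R F) (he : IsIdempotentElem e)
    {Pb : Type u} [AddCommGroup Pb] [Module A Pb]
    (q : A ⊗[R] F →ₗ[A] Pb) (j : Pb →ₗ[A] A ⊗[R] F) (hqj : q ∘ₗ j = LinearMap.id)
    (hjq : j ∘ₗ q = e.baseChange A) :
    Function.Bijective (q ∘ₗ ((LinearMap.range e).subtype.baseChange A)) := by
  have his : (LinearMap.range e).subtype ∘ₗ e.rangeRestrict = e := LinearMap.subtype_comp_codRestrict _ _ _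
  have hsi : e.rangeRestrict ∘ₗ (LinearMap.range e).subtype = LinearMap.id := by
    ext ⟨_, y, rfl⟩
    show e (e y) = e y
    rw [← Module.End.mul_apply, he.eq]
  have h1 : ∀ t, ((LinearMap.range e).subtype.baseChange A) ((e.rangeRestrict.baseChange A) t) =
      (e.baseChange A) t := fun t => by
    rw [← LinearMap.comp_apply, ← LinearMap.baseChange_comp, his]
  have h2 : ∀ t, (e.rangeRestrict.baseChange A) (((LinearMap.range e).subtype.baseChange A) t) = t :=
    fun t => by
      rw [← LinearMap.comp_apply, ← LinearMap.baseChange_comp, hsi, LinearMap.baseChange_id]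
      rfl
  have h3 : ∀ x, q (j x) = x := fun x => LinearMap.congr_fun hqj x
  have h4 : ∀ t, j (q t) = e.baseChange A t := fun t => LinearMap.congr_fun hjq t
  rw [Function.bijective_iff_has_inverse]
  refine ⟨fun x => (e.rangeRestrict.baseChange A) (j x), ?_, ?_⟩
  · intro t
    show (e.rangeRestrict.baseChange A) (j (q (((LinearMap.range e).subtype.baseChange A) t))) = t
    rw [h4, ← h1, h2, h2]
  · intro x
    show q (((LinearMap.range e).subtype.baseChange A) ((e.rangeRestrict.baseChange A) (j x))) = x
    rw [h1, ← h4, h3, h3]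

end range

end Groth.Agent.Lib.Helper10
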