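import Mathlib
import Groth.Prelude.Def_AlgSpRep
import Groth.Agent.Lib.Helper10.LimLocB

/-!
# Limit preservation is fppf local

A sheaf of sets on `Over S` for the fppf topology whose restrictions to the members of an fppf
covering of `S` are limit preserving is limit preserving.
-/

set_option autoImplicit false
universe u
open CategoryTheory CategoryTheory.Limits AlgebraicGeometry Opposite

namespace H10PT.LimLoc

open AlgSp

variable {S : Scheme.{u}} {ι : Type u} (U : ι → Over S)
  {I : Type u} [SmallCategory I] [IsCofiltered I] (D : I ⥤ Over S) (i₀ : I)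

/-- A finite affine fppf refinement of the pull-back of the covering `U` to the affine scheme
`D i₀`. -/
theorem exists_finite_pieces (hfl : ∀ j, Flat (U j).hom)
    (hfp : ∀ j, LocallyOfFinitePresentation (U j).hom)
    (hsurj : ∀ s : ↥S, ∃ (j : ι) (x : ↥(U j).left), (U j).hom.base x = s)
    [IsAffine (D.obj i₀).left] :
    ∃ (K : Type u) (_ : Finite K) (p : K → Piece U D i₀), (∀ k, IsAffine (p k).W) ∧
      (∀ k, Flat (p k).q) ∧ (∀ k, LocallyOfFinitePresentation (p k).q) ∧
      ∀ t : (D.obj i₀).left, ∃ k, t ∈ Set.range (p k).q := by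
  let T₀ : Scheme.{u} := (D.obj i₀).left
  let PB : ι → Scheme.{u} := fun j => pullback (U j).hom (D.obj i₀).hom
  let A := Σ j : ι, (PB j).affineCover.I₀
  let W : A → Scheme.{u} := fun a => (PB a.1).affineCover.X a.2
  let ιa : ∀ a : A, W a ⟶ PB a.1 := fun a => (PB a.1).affineCover.f a.2
  let q : ∀ a : A, W a ⟶ T₀ := fun a => ιa a ≫ pullback.snd (U a.1).hom (D.obj i₀).hom
  let r : ∀ a : A, W a ⟶ (U a.1).left := fun a => ιa a ≫ pullback.fst (U a.1).hom (D.obj i₀).hom
  have hW : ∀ a, IsAffine (W a) := fun a => by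
    dsimp only [W]
    infer_instance
  have hιa : ∀ a, IsOpenImmersion (ιa a) := fun a => by
    dsimp only [ιa]
    infer_instance
  have hq_fl : ∀ a, Flat (q a) := fun a => by
    haveI := hfl a.1
    haveI := hιa a
    dsimp only [q]
    infer_instance
  have hq_fp : ∀ a, LocallyOfFinitePresentation (q a) := fun a => by
    haveI := hfp a.1
    haveI := hιa a
    dsimp only [q]
    infer_instance
  have hq_open : ∀ a, IsOpen (Set.range (q a)) := fun a => by
    haveI := hq_fl a
    haveI := hq_fp a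
    exact (q a).isOpenMap.isOpen_range
  have hq_cov : ∀ t : T₀, ∃ a, t ∈ Set.range (q a) := by
    intro t
    obtain ⟨j, x, hx⟩ := hsurj ((D.obj i₀).hom t)
    obtain ⟨z, _, hz2⟩ := Scheme.Pullback.exists_preimage_pullback
      (f := (U j).hom) (g := (D.obj i₀).hom) x t hx
    obtain ⟨y, hy⟩ := (PB j).affineCover.covers z
    refine ⟨⟨j, (PB j).affineCover.idx z⟩, y, ?_⟩
    show (ιa ⟨j, (PB j).affineCover.idx z⟩ ≫ pullback.snd (U j).hom (D.obj i₀).hom) y = t
    rw [Scheme.Hom.comp_apply]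
    exact (congrArg (pullback.snd (U j).hom (D.obj i₀).hom) hy).trans hz2
  obtain ⟨t, ht⟩ := isCompact_univ.elim_finite_subcover (fun a => Set.range (q a)) hq_open
    (fun x _ => Set.mem_iUnion.2 (hq_cov x))
  refine ⟨↥t, inferInstance, fun k => ⟨W k.1, q k.1, k.1.1, r k.1, ?_⟩, fun k => hW k.1,
    fun k => hq_fl k.1, fun k => hq_fp k.1, fun x => ?_⟩
  · dsimp only [q, r]
    rw [Category.assoc, Category.assoc, pullback.condition]
  · obtain ⟨a, hat, hxa⟩ := Set.mem_iUnion₂.1 (ht (Set.mem_univ x))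
    exact ⟨⟨a, hat⟩, hxa⟩

/-- Limit preservation is fppf local on the base. -/
theorem isLimitPreserving_of_fppfLocally (F : AlgSp.PSp S)
    (hF : Presheaf.IsSheaf (AlgSp.J S) F)
    (hfl : ∀ j, Flat (U j).hom) (hfp : ∀ j, LocallyOfFinitePresentation (U j).hom)
    (hsurj : ∀ s : ↥S, ∃ (j : ι) (x : ↥(U j).left), (U j).hom.base x = s)
    (hloc : ∀ j, AlgSp.IsLimitPreserving (S := (U j).left) ((Over.map (U j).hom).op ⋙ F)) :
    AlgSp.IsLimitPreserving F := by
  intro I _ _ D c hc hD hT
  let i₀ : I := (IsCofiltered.nonempty (C := I)).some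
  haveI := hD i₀
  obtain ⟨K, hK, p, hpaff, hpfl, hpfp, hpsurj⟩ := exists_finite_pieces U D i₀ hfl hfp hsurj
  haveI := hK
  haveI : ∀ k, IsAffine (p k).W := hpaff
  haveI : ∀ k l, IsAffine ((p k).inter (p l)).W := fun k l => Piece.isAffine_inter (p k) (p l)
  obtain ⟨hs, hi⟩ := surj_inj_of_pieces F hF (Over.forget i₀ ⋙ D) (c.whisker (Over.forget i₀))
    (fun k => (p k).Dk) (fun k => (p k).ck c) (fun k => (p k).πk) (fun k => (p k).πinf c)
    (fun k f => (p k).hπ c f) (fun f => cover_mem p hpfl hpfp hpsurj f)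
    (cover_mem_inf c p hpfl hpfp hpsurj)
    (fun k l => ((p k).inter (p l)).Dk) (fun k l => ((p k).inter (p l)).ck c)
    (fun k l => Piece.pm (Piece.interFst (p k) (p l)))
    (fun k l => Piece.pm (Piece.interSnd (p k) (p l)))
    (fun k l => Piece.pminf c (Piece.interFst (p k) (p l)))
    (fun k l => Piece.pminf c (Piece.interSnd (p k) (p l)))
    (fun k l f => Piece.hpm c (Piece.interFst (p k) (p l)) f)
    (fun k l f => Piece.hpm c (Piece.interSnd (p k) (p l)) f)
    (fun k l => by rw [Piece.pminf_πinf, Piece.pminf_πinf])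
    (fun k l f Z g₁ g₂ hg => Piece.wpb (p k) (p l) f Z g₁ g₂ hg)
    (fun k => ((p k).surj_inj c F (hloc _) hc hD hT).1)
    (fun k => ((p k).surj_inj c F (hloc _) hc hD hT).2)
    (fun k l => (((p k).inter (p l)).surj_inj c F (hloc _) hc hD hT).2)
  refine ⟨Types.FilteredColimit.isColimitOf' _ _ ?_ ?_⟩
  · intro z
    obtain ⟨f, z', hz'⟩ := hs z
    exact ⟨op f.left, z', hz'.symm⟩
  · intro i x y hxy
    let i' := IsCofiltered.min i.unop i₀
    let a : i' ⟶ i.unop := IsCofiltered.minToLeft _ _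
    let b : i' ⟶ i₀ := IsCofiltered.minToRight _ _
    have hxy' : F.map (c.π.app i.unop).op x = F.map (c.π.app i.unop).op y := hxy
    obtain ⟨f', g, hg⟩ := hi (Over.mk b) (F.map (D.map a).op x) (F.map (D.map a).op y) (by
      show F.map (c.π.app i').op (F.map (D.map a).op x) =
        F.map (c.π.app i').op (F.map (D.map a).op y)
      rw [map_op_tri F (c.w a) x, map_op_tri F (c.w a) y]
      exact hxy')
    refine ⟨op f'.left, (g.left ≫ a).op, ?_⟩
    show F.map (D.map (g.left ≫ a)).op x = F.map (D.map (g.left ≫ a)).op y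
    rw [D.map_comp, map_op_comp, map_op_comp]
    exact hg

end H10PT.LimLoc
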