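import Mathlib

/-!
# Localization of an abelian category with respect to a two-sided calculus of fractions

If `W` has a left and a right calculus of fractions in the abelian category `C` and
`L : C ⥤ D` is a localization functor for `W`, then `D` is abelian and `L` is exact.
The proof follows closely the case of Serre quotients in
`Mathlib/CategoryTheory/Abelian/SerreClass/Localization.lean`.
-/

set_option autoImplicit false

open CategoryTheory CategoryTheory.Limits

universe v' v u' u

namespace H10Loc

variable {C : Type u} [Category.{v} C] [Abelian C]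
  {D : Type u'} [Category.{v'} D]
  (L : C ⥤ D) (W : MorphismProperty C) [W.HasLeftCalculusOfFractions]
  [W.HasRightCalculusOfFractions] [L.IsLocalization W] [Preadditive D] [L.Additive]

include L W

lemma map_eq_zero_iff_precomp {X Y : C} (f : X ⟶ Y) :
    L.map f = 0 ↔ ∃ (X' : C) (s : X' ⟶ X) (_ : W s), s ≫ f = 0 := by
  rw [← L.map_zero, MorphismProperty.map_eq_iff_precomp L W]
  simp only [comp_zero]

lemma map_eq_zero_iff_postcomp {X Y : C} (f : X ⟶ Y) :
    L.map f = 0 ↔ ∃ (Y' : C) (s : Y ⟶ Y') (_ : W s), f ≫ s = 0 := by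
  rw [← L.map_zero, MorphismProperty.map_eq_iff_postcomp L W]
  simp only [zero_comp]

lemma preservesMonomorphisms : L.PreservesMonomorphisms where
  preserves {X Y} f _ := by
    have := Localization.essSurj L W
    rw [Preadditive.mono_iff_cancel_zero]
    intro T z hz
    obtain ⟨φ, hφ⟩ := Localization.exists_rightFraction L W ((L.objObjPreimageIso T).hom ≫ z)
    have h0 : L.map φ.s ≫ (L.objObjPreimageIso T).hom ≫ z = L.map φ.f := by
      rw [hφ, MorphismProperty.RightFraction.map_s_comp_map]
    rw [← cancel_epi (L.objObjPreimageIso T).hom, comp_zero, ← cancel_epi (L.map φ.s),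
      comp_zero, h0]
    have h1 : L.map (φ.f ≫ f) = 0 := by
      rw [L.map_comp, ← h0, Category.assoc, Category.assoc, hz, comp_zero, comp_zero]
    obtain ⟨X', t, ht, fac⟩ := (map_eq_zero_iff_precomp L W _).1 h1
    rw [← Category.assoc] at fac
    have h2 : t ≫ φ.f = 0 := by rw [← cancel_mono f, zero_comp]; exact fac
    have := Localization.inverts L W t ht
    rw [← cancel_epi (L.map t), comp_zero, ← L.map_comp, h2, L.map_zero]

lemma preservesEpimorphisms : L.PreservesEpimorphisms where
  preserves {X Y} f _ := by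
    have := Localization.essSurj L W
    rw [Preadditive.epi_iff_cancel_zero]
    intro T z hz
    obtain ⟨φ, hφ⟩ := Localization.exists_leftFraction L W (z ≫ (L.objObjPreimageIso T).inv)
    have h0 : (z ≫ (L.objObjPreimageIso T).inv) ≫ L.map φ.s = L.map φ.f := by
      rw [hφ, MorphismProperty.LeftFraction.map_comp_map_s]
    rw [← cancel_mono (L.objObjPreimageIso T).inv, zero_comp, ← cancel_mono (L.map φ.s),
      zero_comp, h0]
    have h1 : L.map (f ≫ φ.f) = 0 := by
      rw [L.map_comp, ← h0, ← Category.assoc, ← Category.assoc, hz, zero_comp, zero_comp]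
    obtain ⟨Y', t, ht, fac⟩ := (map_eq_zero_iff_postcomp L W _).1 h1
    rw [Category.assoc] at fac
    have h2 : φ.f ≫ t = 0 := by rw [← cancel_epi f, comp_zero]; exact fac
    have := Localization.inverts L W t ht
    rw [← cancel_mono (L.map t), zero_comp, ← L.map_comp, h2, L.map_zero]

set_option backward.isDefEq.respectTransparency false in
lemma preservesKernel {X Y : C} (f : X ⟶ Y) :
    PreservesLimit (parallelPair f 0) L := by
  have := preservesMonomorphisms L W
  have := Localization.essSurj L W
  suffices ∀ (T : D) (z : T ⟶ L.obj X) (hz : z ≫ L.map f = 0),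
      ∃ (l : T ⟶ L.obj (kernel f)), l ≫ L.map (kernel.ι f) = z from
    preservesLimit_of_preserves_limit_cone (kernelIsKernel f)
      ((KernelFork.isLimitMapConeEquiv _ L).2
        (Fork.IsLimit.ofExistsUnique
          (fun s ↦ existsUnique_of_exists_of_unique
            (this _ _ (KernelFork.condition s))
            (fun _ _ h₁ h₂ ↦ by simpa [cancel_mono] using h₁.trans h₂.symm))))
  intro T w hw
  wlog hw' : ∃ (Z : C) (hZ : T = L.obj Z) (z : Z ⟶ X), w = eqToHom hZ ≫ L.map z
      generalizing T
  · obtain ⟨φ, hφ⟩ := Localization.exists_rightFraction L W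
      ((L.objObjPreimageIso T).hom ≫ w)
    rw [← cancel_epi (L.map φ.s),
      MorphismProperty.RightFraction.map_s_comp_map] at hφ
    obtain ⟨l, hl⟩ := this _ (L.map φ.f) (by
      rw [← hφ, Category.assoc, Category.assoc, hw, comp_zero, comp_zero]) ⟨_, rfl, by simp⟩
    exact ⟨(L.objObjPreimageIso T).inv ≫ inv (L.map φ.s) ≫ l, by simp [hl, ← hφ]⟩
  obtain ⟨Z, rfl, z, rfl⟩ := hw'
  simp only [eqToHom_refl, Category.id_comp, ← L.map_comp] at hw
  obtain ⟨Z', t, ht, fac⟩ := (map_eq_zero_iff_precomp L W _).1 hw
  have := Localization.inverts L W t ht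
  rw [← Category.assoc] at fac
  exact ⟨inv (L.map t) ≫ L.map (kernel.lift _ _ fac), by simp [← Functor.map_comp]⟩

set_option backward.isDefEq.respectTransparency false in
lemma preservesCokernel {X Y : C} (f : X ⟶ Y) :
    PreservesColimit (parallelPair f 0) L := by
  have := preservesEpimorphisms L W
  have := Localization.essSurj L W
  suffices ∀ (T : D) (z : L.obj Y ⟶ T) (hz : L.map f ≫ z = 0),
      ∃ (l : L.obj (cokernel f) ⟶ T), L.map (cokernel.π f) ≫ l = z from
    preservesColimit_of_preserves_colimit_cocone (cokernelIsCokernel f)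
      ((CokernelCofork.isColimitMapCoconeEquiv _ L).2
        (Cofork.IsColimit.ofExistsUnique
          (fun s ↦ existsUnique_of_exists_of_unique
            (this _ _ (CokernelCofork.condition s))
            (fun _ _ h₁ h₂ ↦ by simpa [cancel_epi] using h₁.trans h₂.symm))))
  intro T w hw
  wlog hw' : ∃ (Z : C) (hZ : L.obj Z = T) (z : Y ⟶ Z), w = L.map z ≫ eqToHom hZ
      generalizing T
  · obtain ⟨φ, hφ⟩ := Localization.exists_leftFraction L W
      (w ≫ (L.objObjPreimageIso T).inv)
    rw [← cancel_mono (L.map φ.s), Category.assoc,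
      MorphismProperty.LeftFraction.map_comp_map_s] at hφ
    obtain ⟨l, hl⟩ := this _ (L.map φ.f) (by rw [← hφ, reassoc_of% hw, zero_comp]) ⟨_, rfl, by simp⟩
    exact ⟨l ≫ inv (L.map φ.s) ≫ (L.objObjPreimageIso T).hom, by simp [reassoc_of% hl, ← hφ]⟩
  obtain ⟨Z, rfl, z, rfl⟩ := hw'
  simp only [eqToHom_refl, Category.comp_id, ← L.map_comp] at hw
  obtain ⟨Z', t, ht, fac⟩ := (map_eq_zero_iff_postcomp L W _).1 hw
  rw [Category.assoc] at fac
  have := Localization.inverts L W t ht
  exact ⟨L.map (cokernel.desc _ _ fac) ≫ inv (L.map t), by simp [← L.map_comp_assoc]⟩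

set_option backward.isDefEq.respectTransparency false in
lemma hasKernels : HasKernels D where
  has_limit f := by
    obtain ⟨g, ⟨e⟩⟩ :=
      (Localization.essSurj_mapArrow L W).mem_essImage (Arrow.mk f)
    have := preservesKernel L W g.hom
    have : HasLimit (parallelPair (L.map g.hom) 0) :=
      ⟨_, (KernelFork.isLimitMapConeEquiv _ L).1
        (isLimitOfPreserves L (kernelIsKernel g.hom))⟩
    exact hasLimit_of_iso (show parallelPair (L.map g.hom) 0 ≅ _ from
      parallelPair.ext (Arrow.leftFunc.mapIso e) (Arrow.rightFunc.mapIso e))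

set_option backward.isDefEq.respectTransparency false in
lemma hasCokernels : HasCokernels D where
  has_colimit f := by
    obtain ⟨g, ⟨e⟩⟩ :=
      (Localization.essSurj_mapArrow L W).mem_essImage (Arrow.mk f)
    have := preservesCokernel L W g.hom
    have : HasColimit (parallelPair (L.map g.hom) 0) :=
      ⟨_, (CokernelCofork.isColimitMapCoconeEquiv _ L).1
        (isColimitOfPreserves L (cokernelIsCokernel g.hom))⟩
    exact hasColimit_of_iso (show _ ≅ parallelPair (L.map g.hom) 0 from
      parallelPair.ext (Arrow.leftFunc.mapIso e.symm) (Arrow.rightFunc.mapIso e.symm))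

lemma hasFiniteProducts : HasFiniteProducts D :=
  have := Localization.essSurj L W
  L.hasFiniteProducts_of_additive_of_essSurj

/-- If `e` is an epimorphism such that `L.map e` is a monomorphism, then `L.map e` is an
isomorphism. -/
lemma isIso_map_of_epi_of_mono_map {X Y : C} (e : X ⟶ Y) [Epi e] [Mono (L.map e)] :
    IsIso (L.map e) := by
  have := preservesCokernel L W (kernel.ι e)
  have := preservesEpimorphisms L W
  have h0 : L.map (kernel.ι e) = 0 := by
    rw [← cancel_mono (L.map e), zero_comp, ← L.map_comp, kernel.condition, L.map_zero]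
  have hcolim : IsColimit (CokernelCofork.ofπ e (kernel.condition e)) :=
    Abelian.epiIsCokernelOfKernel (Fork.ofι (kernel.ι e) _) (kernelIsKernel e)
  have hcolim' := (CokernelCofork.isColimitMapCoconeEquiv _ L).1 (isColimitOfPreserves L hcolim)
  have h1 : L.map (kernel.ι e) ≫ 𝟙 (L.obj X) = 0 := by rw [h0, zero_comp]
  let l := CokernelCofork.IsColimit.desc' hcolim' (𝟙 (L.obj X)) h1
  obtain ⟨r, hr'⟩ : ∃ r : L.obj Y ⟶ L.obj X, L.map e ≫ r = 𝟙 _ := ⟨l.1, l.2⟩
  refine ⟨r, hr', ?_⟩
  rw [← cancel_epi (L.map e), ← Category.assoc, hr', Category.id_comp, Category.comp_id]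

/-- If `m` is a monomorphism such that `L.map m` is an epimorphism, then `L.map m` is an
isomorphism. -/
lemma isIso_map_of_mono_of_epi_map {X Y : C} (m : X ⟶ Y) [Mono m] [Epi (L.map m)] :
    IsIso (L.map m) := by
  have := preservesKernel L W (cokernel.π m)
  have := preservesMonomorphisms L W
  have h0 : L.map (cokernel.π m) = 0 := by
    rw [← cancel_epi (L.map m), comp_zero, ← L.map_comp, cokernel.condition, L.map_zero]
  have hlim : IsLimit (KernelFork.ofι m (cokernel.condition m)) :=
    Abelian.monoIsKernelOfCokernel (Cofork.ofπ (cokernel.π m) _) (cokernelIsCokernel m)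
  have hlim' := (KernelFork.isLimitMapConeEquiv _ L).1 (isLimitOfPreserves L hlim)
  have h1 : 𝟙 (L.obj Y) ≫ L.map (cokernel.π m) = 0 := by rw [h0, comp_zero]
  let l := KernelFork.IsLimit.lift' hlim' (𝟙 (L.obj Y)) h1
  obtain ⟨r, hr'⟩ : ∃ r : L.obj Y ⟶ L.obj X, r ≫ L.map m = 𝟙 _ := ⟨l.1, l.2⟩
  refine ⟨r, ?_, hr'⟩
  rw [← cancel_mono (L.map m), Category.assoc, hr', Category.id_comp, Category.comp_id]

set_option backward.isDefEq.respectTransparency false in
lemma exists_mono_of_mono {X Y : D} (f : X ⟶ Y) [Mono f] :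
    ∃ (X' Y' : C) (f' : X' ⟶ Y') (_ : Mono f'),
      Nonempty (Arrow.mk (L.map f') ≅ Arrow.mk f) := by
  have := preservesMonomorphisms L W
  have := Localization.essSurj_mapArrow L W
  suffices ∀ ⦃X Y : C⦄ (f : X ⟶ Y) (_ : Mono (L.map f)),
    ∃ (X' Y' : C) (f' : X' ⟶ Y') (_ : Mono f'),
        Nonempty (Arrow.mk (L.map f') ≅ Arrow.mk (L.map f)) by
      let e := L.mapArrow.objObjPreimageIso (Arrow.mk f)
      obtain ⟨X', Y', f', _, ⟨e'⟩⟩ := this _
        (((MorphismProperty.monomorphisms D).arrow_iso_iff e).2 (.infer_property f))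
      exact ⟨_, _, f', inferInstance, ⟨e' ≪≫ e⟩⟩
  intro X Y f hf
  haveI : Mono (L.map (Abelian.factorThruImage f)) := by
    haveI : Mono (L.map (Abelian.factorThruImage f) ≫ L.map (Abelian.image.ι f)) := by
      rw [← L.map_comp, Abelian.image.fac]; exact hf
    exact mono_of_mono _ (L.map (Abelian.image.ι f))
  have := isIso_map_of_epi_of_mono_map L W (Abelian.factorThruImage f)
  refine ⟨_, _, Abelian.image.ι f, inferInstance, ⟨Iso.symm ?_⟩⟩
  exact Arrow.isoMk (asIso (L.map (Abelian.factorThruImage f))) (Iso.refl _)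
    (by simp [← L.map_comp])

set_option backward.isDefEq.respectTransparency false in
lemma exists_epi_of_epi {X Y : D} (f : X ⟶ Y) [Epi f] :
    ∃ (X' Y' : C) (f' : X' ⟶ Y') (_ : Epi f'),
      Nonempty (Arrow.mk (L.map f') ≅ Arrow.mk f) := by
  have := preservesEpimorphisms L W
  have := Localization.essSurj_mapArrow L W
  suffices ∀ ⦃X Y : C⦄ (f : X ⟶ Y) (_ : Epi (L.map f)),
    ∃ (X' Y' : C) (f' : X' ⟶ Y') (_ : Epi f'),
        Nonempty (Arrow.mk (L.map f') ≅ Arrow.mk (L.map f)) by
      let e := L.mapArrow.objObjPreimageIso (Arrow.mk f)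
      obtain ⟨X', Y', f', _, ⟨e'⟩⟩ := this _
        (((MorphismProperty.epimorphisms D).arrow_iso_iff e).2 (.infer_property f))
      exact ⟨_, _, f', inferInstance, ⟨e' ≪≫ e⟩⟩
  intro X Y f hf
  haveI : Epi (L.map (Abelian.image.ι f)) := by
    haveI : Epi (L.map (Abelian.factorThruImage f) ≫ L.map (Abelian.image.ι f)) := by
      rw [← L.map_comp, Abelian.image.fac]; exact hf
    exact epi_of_epi (L.map (Abelian.factorThruImage f)) _
  have := isIso_map_of_mono_of_epi_map L W (Abelian.image.ι f)
  refine ⟨_, _, Abelian.factorThruImage f, inferInstance, ⟨?_⟩⟩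
  exact Arrow.isoMk (Iso.refl _) (asIso (L.map (Abelian.image.ι f))) (by simp [← L.map_comp])

lemma isNormalMonoCategory : IsNormalMonoCategory D where
  normalMonoOfMono f hf := by
    obtain ⟨X', Y', f', _, ⟨e⟩⟩ := exists_mono_of_mono L W f
    let hf' := normalMonoOfMono f'
    have := preservesKernel L W hf'.g
    refine ⟨NormalMono.ofArrowIso ?_ e⟩
    exact {
      Z := L.obj hf'.Z
      g := L.map hf'.g
      w := by rw [← L.map_comp]; simp [hf'.w]
      isLimit :=
        (KernelFork.isLimitMapConeEquiv _ L).1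
          (isLimitOfPreserves L hf'.isLimit) }

lemma isNormalEpiCategory : IsNormalEpiCategory D where
  normalEpiOfEpi f hf := by
    obtain ⟨X', Y', f', _, ⟨e⟩⟩ := exists_epi_of_epi L W f
    let hf' := normalEpiOfEpi f'
    have := preservesCokernel L W hf'.g
    refine ⟨NormalEpi.ofArrowIso ?_ e⟩
    exact {
      W := L.obj hf'.W
      g := L.map hf'.g
      w := by rw [← L.map_comp]; simp [hf'.w]
      isColimit :=
        (CokernelCofork.isColimitMapCoconeEquiv _ L).1
          (isColimitOfPreserves L hf'.isColimit) }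

/-- The localized category is abelian. -/
@[instance_reducible]
noncomputable def abelian : Abelian D := by
  have := hasFiniteProducts L W
  have := hasKernels L W
  have := hasCokernels L W
  have := isNormalMonoCategory L W
  have := isNormalEpiCategory L W
  constructor

lemma preservesFiniteLimits : PreservesFiniteLimits L := by
  let := abelian L W
  rw [((Functor.preservesFiniteLimits_tfae L).out 3 2 :)]
  intro _ _ f
  exact preservesKernel L W f

lemma preservesFiniteColimits : PreservesFiniteColimits L := by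
  let := abelian L W
  rw [((Functor.preservesFiniteColimits_tfae L).out 3 2 :)]
  intro _ _ f
  exact preservesCokernel L W f

end H10Loc
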