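import Mathlib
import Groth.Prelude.Def_AlgSpRep
import Groth.Agent.Lib.Helper10.SpBaseChange

/-!
# The functor `j_!` on fppf sheaves, explicitly

For `g : S ⟶ S'` and a presheaf `F` on `Over S` we define the presheaf `Lpre g F` on `Over S'` whose sections
over `T'` are pairs `(φ, x)` of a morphism `φ : T' ⟶ S` over `S'` and a section `x` of `F` over `T'`
viewed over `S` through `φ`; it is a sheaf if `F` is.
-/

set_option autoImplicit false
universe u
open CategoryTheory CategoryTheory.Limits AlgebraicGeometry Opposite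

namespace H10PT.Shriek

open AlgSp

section General

variable {C : Type*} [Category C]

theorem overEquiv_left_iff {X : C} {Y : Over X} (R : Sieve Y) {Z : Over X} (f : Z ⟶ Y) :
    Sieve.overEquiv Y R f.left ↔ R f := by
  rw [Sieve.overEquiv_iff]
  constructor
  · intro h
    have h2 := R.downward_closed h
      (Over.homMk (𝟙 Z.left) (by simp) : Z ⟶ Over.mk (f.left ≫ Y.hom))
    have e : (Over.homMk (𝟙 Z.left) (by simp) : Z ⟶ Over.mk (f.left ≫ Y.hom)) ≫
        (Over.homMk f.left : Over.mk (f.left ≫ Y.hom) ⟶ Y) = f := by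
      ext; simp
    rwa [e] at h2
  · intro h
    have h2 := R.downward_closed h
      (Over.homMk (𝟙 Z.left) (by simp) : Over.mk (f.left ≫ Y.hom) ⟶ Z)
    have e : (Over.homMk (𝟙 Z.left) (by simp) : Over.mk (f.left ≫ Y.hom) ⟶ Z) ≫ f =
        (Over.homMk f.left : Over.mk (f.left ≫ Y.hom) ⟶ Y) := by
      ext; simp
    rwa [e] at h2

theorem fam_congr {P : Cᵒᵖ ⥤ Type*} {X : C} {R : Presieve X} (x : Presieve.FamilyOfElements P R)
    {Y : C} {f f' : Y ⟶ X} (h : f = f') (hf : R f) (hf' : R f') : x f hf = x f' hf' := by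
  subst h; rfl

end General

variable {S S' : Scheme.{u}} (g : S ⟶ S')

/-- `T'` viewed over `S` through `φ`. -/
abbrev ovr {T' : Over S'} (φ : T' ⟶ Over.mk g) : Over S := Over.mk φ.left

/-- The morphism over `S` underlying a morphism over `S'` compatible with the maps to `S`. -/
def ovrMap {T'' T' : Over S'} (s : T'' ⟶ T') {φ'' : T'' ⟶ Over.mk g} {φ' : T' ⟶ Over.mk g}
    (h : s ≫ φ' = φ'') : ovr g φ'' ⟶ ovr g φ' :=
  Over.homMk s.left (by
    have := congrArg CommaMorphism.left h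
    simpa using this)

@[simp]
theorem ovrMap_left {T'' T' : Over S'} (s : T'' ⟶ T') {φ'' : T'' ⟶ Over.mk g}
    {φ' : T' ⟶ Over.mk g} (h : s ≫ φ' = φ'') : (ovrMap g s h).left = s.left := rfl

/-- A morphism to `T'` viewed over `S`, as a morphism over `S'`. -/
def toS' {T' : Over S'} (φ : T' ⟶ Over.mk g) {T : Over S} (s : T ⟶ ovr g φ) :
    (Over.map g).obj T ⟶ T' :=
  Over.homMk s.left (by
    have h1 : φ.left ≫ g = T'.hom := Over.w φ
    have h2 : s.left ≫ φ.left = T.hom := Over.w s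
    show s.left ≫ T'.hom = T.hom ≫ g
    rw [← h1, ← h2, Category.assoc])

@[simp]
theorem toS'_left {T' : Over S'} (φ : T' ⟶ Over.mk g) {T : Over S} (s : T ⟶ ovr g φ) :
    (toS' g φ s).left = s.left := rfl

/-- The canonical morphism `gT ⟶ S` over `S'`. -/
def can (T : Over S) : (Over.map g).obj T ⟶ Over.mk g := Over.homMk T.hom rfl

@[simp]
theorem can_left (T : Over S) : (can g T).left = T.hom := rfl

theorem toS'_comp_phi {T' : Over S'} (φ : T' ⟶ Over.mk g) {T : Over S} (s : T ⟶ ovr g φ) :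
    toS' g φ s ≫ φ = can g T := by
  refine Over.OverMorphism.ext ?_
  exact Over.w s

/-- Sections of `j_! F` over `T'`. -/
structure LObj (F : PSp S) (T' : Over S') where
  /-- the structure map to `S` -/
  φ : T' ⟶ Over.mk g
  /-- the section -/
  x : F.obj (op (ovr g φ))

variable {g}
variable {F : PSp S}

theorem LObj.ext' {T' : Over S'} {a b : LObj g F T'} (h : a.φ = b.φ)
    (hx : F.map (ovrMap g (𝟙 T') (by rw [Category.id_comp, h]) : ovr g b.φ ⟶ ovr g a.φ).op a.x = b.x) :
    a = b := by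
  obtain ⟨φ, x⟩ := a
  obtain ⟨ψ, y⟩ := b
  dsimp only at h
  subst h
  have e : (ovrMap g (𝟙 T') (Category.id_comp φ) : ovr g φ ⟶ ovr g φ) = 𝟙 _ :=
    Over.OverMorphism.ext rfl
  have hx' : F.map (ovrMap g (𝟙 T') (Category.id_comp φ) : ovr g φ ⟶ ovr g φ).op x = y := hx
  rw [e, op_id, CategoryTheory.Functor.map_id] at hx'
  have : x = y := hx'
  rw [this]

/-- Restriction of sections of `j_! F`. -/
def LObj.restrict {T'' T' : Over S'} (t : T'' ⟶ T') (a : LObj g F T') : LObj g F T'' where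
  φ := t ≫ a.φ
  x := F.map (ovrMap g t rfl).op a.x

theorem LObj.restrict_eq_mk {T'' T' : Over S'} (t : T'' ⟶ T') (a : LObj g F T')
    (ψ : T'' ⟶ Over.mk g) (y : F.obj (op (ovr g ψ)))
    (h : t ≫ a.φ = ψ) (hx : F.map (ovrMap g t h).op a.x = y) : a.restrict t = ⟨ψ, y⟩ := by
  subst h
  subst hx
  rfl

theorem LObj.restrict_eq {T'' T' : Over S'} (t : T'' ⟶ T') (a : LObj g F T') (b : LObj g F T'')
    (h : t ≫ a.φ = b.φ) (hx : F.map (ovrMap g t h).op a.x = b.x) : a.restrict t = b := by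
  obtain ⟨ψ, y⟩ := b
  exact LObj.restrict_eq_mk t a ψ y h hx

/-- The value of a section of `j_! F` at a scheme over `S` mapping to its source. -/
def LObj.at {T' : Over S'} (a : LObj g F T') {T : Over S} (e : T ⟶ ovr g a.φ) : F.obj (op T) :=
  F.map e.op a.x

theorem LObj.at_congr {T' : Over S'} {a b : LObj g F T'} (h : a = b) {T : Over S}
    (e : T ⟶ ovr g a.φ) (e' : T ⟶ ovr g b.φ) (he : e.left = e'.left) : a.at e = b.at e' := by
  subst h
  have : e = e' := Over.OverMorphism.ext he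
  rw [this]

theorem LObj.restrict_at {T'' T' : Over S'} (t : T'' ⟶ T') (a : LObj g F T') {T : Over S}
    (e : T ⟶ ovr g (a.restrict t).φ) :
    (a.restrict t).at e = a.at (e ≫ ovrMap g t rfl) := by
  show F.map e.op (F.map (ovrMap g t rfl).op a.x) = F.map (e ≫ ovrMap g t rfl).op a.x
  exact (Functor.map_comp_apply F (ovrMap g t rfl).op e.op a.x).symm

theorem LObj.map_at {T' : Over S'} (a : LObj g F T') {T T₂ : Over S} (e : T ⟶ ovr g a.φ)
    (r : T₂ ⟶ T) : F.map r.op (a.at e) = a.at (r ≫ e) := by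
  show F.map r.op (F.map e.op a.x) = F.map (r ≫ e).op a.x
  exact (Functor.map_comp_apply F e.op r.op a.x).symm

theorem LObj.at_id {T' : Over S'} (a : LObj g F T') (e : ovr g a.φ ⟶ ovr g a.φ)
    (he : e.left = 𝟙 _) : a.at e = a.x := by
  have : e = 𝟙 _ := Over.OverMorphism.ext he
  rw [this]
  show F.map (𝟙 _).op a.x = a.x
  rw [op_id, CategoryTheory.Functor.map_id]
  rfl

variable (g) (F)

/-- The presheaf `j_! F`. -/
def Lpre : PSp S' where
  obj T' := LObj g F T'.unop
  map t := ↾(LObj.restrict t.unop)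
  map_id T' := by
    ext a
    refine LObj.restrict_eq _ _ _ (Category.id_comp _) ?_
    exact a.at_id _ rfl
  map_comp t₁ t₂ := by
    ext a
    refine LObj.restrict_eq _ _ _ (Category.assoc _ _ _) ?_
    show _ = F.map (ovrMap g t₂.unop rfl).op (F.map (ovrMap g t₁.unop rfl).op a.x)
    rw [← Functor.map_comp_apply, ← op_comp]
    exact congrArg (fun m => F.map (Quiver.Hom.op m) a.x) (Over.OverMorphism.ext rfl)

/-- The projection `j_! F ⟶ h_S`. -/
def Lproj : Lpre g F ⟶ (pyon S').obj (Over.mk g) where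
  app T' := ↾fun a => ULift.up a.φ
  naturality := by
    intro T₁ T₂ t
    ext a
    rfl

/-- The identity-on-underlying-schemes comparison `T ⟶ (gT viewed over S)`. -/
def idTo {T : Over S} {ψ : (Over.map g).obj T ⟶ Over.mk g} (h : ψ = can g T) : T ⟶ ovr g ψ :=
  Over.homMk (𝟙 T.left) (by subst h; exact Category.id_comp _)

@[simp]
theorem idTo_left {T : Over S} {ψ : (Over.map g).obj T ⟶ Over.mk g} (h : ψ = can g T) :
    (idTo g h).left = 𝟙 T.left := rfl

/-- The sieve on `T'` viewed over `S` induced by a sieve on `T'`. -/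
def sieveOvr {T' : Over S'} (R : Sieve T') (φ : T' ⟶ Over.mk g) : Sieve (ovr g φ) :=
  (Sieve.overEquiv (ovr g φ)).symm (Sieve.overEquiv T' R)

theorem sieveOvr_iff {T' : Over S'} (R : Sieve T') (φ : T' ⟶ Over.mk g) {T : Over S}
    (s : T ⟶ ovr g φ) : sieveOvr g R φ s ↔ R (toS' g φ s) :=
  overEquiv_left_iff R (toS' g φ s)

theorem sieveOvr_ovrMap_iff {T' Y : Over S'} (R : Sieve T') (φ : T' ⟶ Over.mk g)
    {ψ : Y ⟶ Over.mk g} (t : Y ⟶ T') (h : t ≫ φ = ψ) : sieveOvr g R φ (ovrMap g t h) ↔ R t :=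
  overEquiv_left_iff R t

theorem sieveOvr_mem {T' : Over S'} (R : Sieve T') (hR : R ∈ J S' T') (φ : T' ⟶ Over.mk g) :
    sieveOvr g R φ ∈ J S (ovr g φ) :=
  Scheme.fppfTopology.overEquiv_symm_mem_over (ovr g φ) (Sieve.overEquiv T' R) hR

variable {F} in
theorem isSheaf_Lpre_aux (hF : Presieve.IsSheaf (J S) F)
    (h₀ : Presieve.IsSheaf (J S') ((pyon S').obj (Over.mk g))) :
    Presieve.IsSheaf (J S') (Lpre g F) := by
  intro T' R hR fam hfam
  have hsc : ∀ ⦃Y Z : Over S'⦄ (t : Y ⟶ T') (r : Z ⟶ Y) (ht : R t),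
      fam (r ≫ t) (R.downward_closed ht r) = (fam t ht).restrict r :=
    (Presieve.compatible_iff_sieveCompatible fam).1 hfam
  obtain ⟨φ₀, hφ₀, hφ₀u⟩ := h₀ R hR (fam.map (Lproj g F)) (hfam.map _)
  obtain ⟨φ⟩ := φ₀
  have hφ : ∀ ⦃Y : Over S'⦄ (t : Y ⟶ T') (ht : R t), t ≫ φ = (fam t ht).φ :=
    fun Y t ht => congrArg ULift.down (hφ₀ t ht)
  have hmem : ∀ {T : Over S} (s : T ⟶ ovr g φ), sieveOvr g R φ s → R (toS' g φ s) :=
    fun s hs => (sieveOvr_iff g R φ s).1 hs
  have hfamφ : ∀ {T : Over S} (s : T ⟶ ovr g φ) (hs : sieveOvr g R φ s),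
      (fam (toS' g φ s) (hmem s hs)).φ = can g T := by
    intro T s hs
    rw [← hφ, toS'_comp_phi]
  let famφ : Presieve.FamilyOfElements F (sieveOvr g R φ).arrows :=
    fun T s hs => (fam (toS' g φ s) (hmem s hs)).at (idTo g (hfamφ s hs))
  have hcomp : famφ.Compatible := by
    rw [Presieve.compatible_iff_sieveCompatible]
    intro T T₂ s r hs
    have h1 : fam (toS' g φ (r ≫ s)) (hmem _ (Sieve.downward_closed _ hs r)) =
        (fam (toS' g φ s) (hmem s hs)).restrict ((Over.map g).map r) := by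
      rw [← hsc]
      exact fam_congr fam (Over.OverMorphism.ext rfl) _ _
    have hb : ((fam (toS' g φ s) (hmem s hs)).restrict ((Over.map g).map r)).φ = can g T₂ := by
      show (Over.map g).map r ≫ (fam (toS' g φ s) (hmem s hs)).φ = can g T₂
      rw [hfamφ s hs]
      refine Over.OverMorphism.ext ?_
      exact Over.w r
    calc famφ (r ≫ s) (Sieve.downward_closed _ hs r)
        = ((fam (toS' g φ s) (hmem s hs)).restrict ((Over.map g).map r)).at (idTo g hb) :=
          LObj.at_congr h1 _ (idTo g hb) rfl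
      _ = (fam (toS' g φ s) (hmem s hs)).at (idTo g hb ≫ ovrMap g ((Over.map g).map r) rfl) :=
          LObj.restrict_at _ _ _
      _ = (fam (toS' g φ s) (hmem s hs)).at (r ≫ idTo g (hfamφ s hs)) :=
          LObj.at_congr rfl _ _ ((Category.id_comp _).trans (Category.comp_id _).symm)
      _ = F.map r.op (famφ s hs) := (LObj.map_at _ _ _).symm
  obtain ⟨x, hx, hxu⟩ := hF (sieveOvr g R φ) (sieveOvr_mem g R hR φ) famφ hcomp
  refine ⟨⟨φ, x⟩, ?_, ?_⟩
  · intro Y t ht
    show LObj.restrict t ⟨φ, x⟩ = fam t ht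
    refine LObj.restrict_eq _ _ _ (hφ t ht) ?_
    have hs : sieveOvr g R φ (ovrMap g t (hφ t ht)) := (sieveOvr_ovrMap_iff g R φ t _).2 ht
    refine (hx (ovrMap g t (hφ t ht)) hs).trans ?_
    have h3 : fam (toS' g φ (ovrMap g t (hφ t ht))) (hmem _ hs) =
        (fam t ht).restrict (toS' g (fam t ht).φ (𝟙 _)) := by
      rw [← hsc]
      exact fam_congr fam (Over.OverMorphism.ext (Category.id_comp _).symm) _ _
    have hb : ((fam t ht).restrict (toS' g (fam t ht).φ (𝟙 _))).φ = can g _ :=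
      toS'_comp_phi g (fam t ht).φ (𝟙 _)
    calc famφ (ovrMap g t (hφ t ht)) hs
        = ((fam t ht).restrict (toS' g (fam t ht).φ (𝟙 _))).at (idTo g hb) :=
          LObj.at_congr h3 _ (idTo g hb) rfl
      _ = (fam t ht).at (idTo g hb ≫ ovrMap g _ rfl) := LObj.restrict_at _ _ _
      _ = (fam t ht).x := LObj.at_id _ _ (Category.id_comp _)
  · intro b hb
    have hb' : ∀ ⦃Y : Over S'⦄ (t : Y ⟶ T') (ht : R t), b.restrict t = fam t ht :=
      fun Y t ht => hb t ht
    have hψ : b.φ = φ := by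
      have h5 := hφ₀u (ULift.up b.φ) (fun Y t ht => by
        show ULift.up (t ≫ b.φ) = ULift.up (fam t ht).φ
        rw [← hb' t ht]
        rfl)
      exact congrArg ULift.down h5
    refine LObj.ext' hψ ?_
    refine hxu _ ?_
    intro T s hs
    have h4 : fam (toS' g φ s) (hmem s hs) = b.restrict (toS' g φ s) := (hb' _ _).symm
    have hb2 : (b.restrict (toS' g φ s)).φ = can g T := by
      show toS' g φ s ≫ b.φ = can g T
      rw [hψ, toS'_comp_phi]
    have h6 : F.map s.op (F.map (ovrMap g (𝟙 T') (by rw [Category.id_comp, hψ]) :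
        ovr g φ ⟶ ovr g b.φ).op b.x) = b.at (s ≫ ovrMap g (𝟙 T') (by rw [Category.id_comp, hψ])) :=
      LObj.map_at b _ s
    refine h6.trans ?_
    symm
    calc famφ s hs
        = (b.restrict (toS' g φ s)).at (idTo g hb2) := LObj.at_congr h4 _ (idTo g hb2) rfl
      _ = b.at (idTo g hb2 ≫ ovrMap g (toS' g φ s) rfl) := LObj.restrict_at _ _ _
      _ = b.at (s ≫ ovrMap g (𝟙 T') (by rw [Category.id_comp, hψ])) :=
          LObj.at_congr rfl _ _ ((Category.id_comp _).trans (Category.comp_id _).symm)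

theorem isSheaf_Lpre (F : Sp S) : Presheaf.IsSheaf (J S') (Lpre g F.obj) := by
  rw [isSheaf_iff_isSheaf_of_type]
  exact isSheaf_Lpre_aux g ((isSheaf_iff_isSheaf_of_type _ _).1 F.property)
    ((isSheaf_iff_isSheaf_of_type _ _).1 ((yon S').obj (Over.mk g)).property)

end H10PT.Shriek
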