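import Mathlib
import Groth.Prelude.Def_AlgSpRep
import Groth.Agent.Lib.Helper10.SpShriek1

/-!
# The functor `j_!` on fppf sheaves, explicitly: functoriality and the adjunction with restriction
-/

set_option autoImplicit false
universe u
open CategoryTheory CategoryTheory.Limits AlgebraicGeometry Opposite

namespace H10PT.Shriek

open AlgSp H10PT.SpBC

variable {S S' : Scheme.{u}} (g : S ⟶ S')

variable {g} in
/-- Functoriality of sections of `j_! F` in `F`. -/
def LObj.mapF {F G : PSp S} (α : F ⟶ G) {T' : Over S'} (a : LObj g F T') : LObj g G T' :=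
  ⟨a.φ, α.app _ a.x⟩

/-- Functoriality of `j_!` on presheaves. -/
def LpreMap {F G : PSp S} (α : F ⟶ G) : Lpre g F ⟶ Lpre g G where
  app T' := ↾(LObj.mapF α)
  naturality := by
    intro T₁ T₂ t
    ext a
    show LObj.mapF α (a.restrict t.unop) = (LObj.mapF α a).restrict t.unop
    exact congrArg (LObj.mk (t.unop ≫ a.φ)) (NatTrans.naturality_apply α _ a.x)

/-- The functor `j_!`, explicitly. -/
noncomputable def L : Sp S ⥤ Sp S' where
  obj F := ⟨Lpre g F.obj, isSheaf_Lpre g F⟩
  map α := ObjectProperty.homMk (LpreMap g α.hom)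
  map_id F := by
    apply Sheaf.hom_ext
    ext T' a
    rfl
  map_comp α β := by
    apply Sheaf.hom_ext
    ext T' a
    rfl

theorem L_map_app {F G : Sp S} (α : F ⟶ G) {T' : Over S'} (a : LObj g F.obj T') :
    ((L g).map α).hom.app (op T') a = LObj.mapF α.hom a := rfl

/-- The identity-on-underlying-schemes comparison `T' ⟶ g(T' viewed over S)`. -/
def fromS' {T' : Over S'} (ψ : T' ⟶ Over.mk g) : T' ⟶ (Over.map g).obj (ovr g ψ) :=
  Over.homMk (𝟙 T'.left) (by
    have h1 : ψ.left ≫ g = T'.hom := Over.w ψ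
    show 𝟙 T'.left ≫ ψ.left ≫ g = T'.hom
    rw [Category.id_comp, h1])

@[simp]
theorem fromS'_left {T' : Over S'} (ψ : T' ⟶ Over.mk g) : (fromS' g ψ).left = 𝟙 T'.left := rfl

theorem fromS'_comp_can {T' : Over S'} (ψ : T' ⟶ Over.mk g) :
    fromS' g ψ ≫ can g (ovr g ψ) = ψ :=
  Over.OverMorphism.ext (Category.id_comp _)

/-- One direction of the adjunction bijection. -/
noncomputable def fwd {F : Sp S} {G' : Sp S'} (β : (L g).obj F ⟶ G') : F ⟶ (res g).obj G' :=
  ObjectProperty.homMk
    { app := fun T => ↾fun x => β.hom.app (op ((Over.map g).obj T.unop)) (⟨can g T.unop, x⟩ : LObj g F.obj _)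
      naturality := by
        intro T₁ T₂ r
        ext x
        show β.hom.app (op ((Over.map g).obj T₂.unop)) (⟨can g T₂.unop, F.obj.map r x⟩ : LObj g F.obj _) =
          G'.obj.map ((Over.map g).map r.unop).op
            (β.hom.app (op ((Over.map g).obj T₁.unop)) (⟨can g T₁.unop, x⟩ : LObj g F.obj _))
        have h := NatTrans.naturality_apply β.hom ((Over.map g).map r.unop).op
          (⟨can g T₁.unop, x⟩ : LObj g F.obj _)
        refine Eq.trans ?_ h
        refine congrArg (β.hom.app (op ((Over.map g).obj T₂.unop))) ?_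
        symm
        refine LObj.restrict_eq_mk _ _ _ _ (Over.OverMorphism.ext (Over.w r.unop)) ?_
        exact congrArg (fun m => F.obj.map (Quiver.Hom.op m) x) (Over.OverMorphism.ext rfl) }

/-- The other direction of the adjunction bijection. -/
noncomputable def bwd {F : Sp S} {G' : Sp S'} (γ : F ⟶ (res g).obj G') : (L g).obj F ⟶ G' :=
  ObjectProperty.homMk
    { app := fun T' => ↾fun (a : LObj g F.obj T'.unop) =>
        G'.obj.map (fromS' g a.φ).op (γ.hom.app (op (ovr g a.φ)) a.x)
      naturality := by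
        intro T₁ T₂ t
        ext a
        show G'.obj.map (fromS' g (t.unop ≫ a.φ)).op
            (γ.hom.app (op (ovr g (t.unop ≫ a.φ))) (F.obj.map (ovrMap g t.unop rfl).op a.x)) =
          G'.obj.map t (G'.obj.map (fromS' g a.φ).op (γ.hom.app (op (ovr g a.φ)) a.x))
        have h := NatTrans.naturality_apply γ.hom (ovrMap g t.unop rfl).op a.x
        rw [h]
        show G'.obj.map (fromS' g (t.unop ≫ a.φ)).op
            (G'.obj.map ((Over.map g).map (ovrMap g t.unop rfl)).op (γ.hom.app (op (ovr g a.φ)) a.x)) = _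
        refine ((Functor.map_comp_apply G'.obj _ _ _).symm.trans ?_).trans
          (Functor.map_comp_apply G'.obj _ _ _)
        have hm : ((Over.map g).map (ovrMap g t.unop rfl)).op ≫ (fromS' g (t.unop ≫ a.φ)).op =
            (fromS' g a.φ).op ≫ t := by
          refine Quiver.Hom.unop_inj ?_
          show fromS' g (t.unop ≫ a.φ) ≫ (Over.map g).map (ovrMap g t.unop rfl) =
            t.unop ≫ fromS' g a.φ
          refine Over.OverMorphism.ext ?_
          show 𝟙 _ ≫ t.unop.left = t.unop.left ≫ 𝟙 _
          rw [Category.id_comp, Category.comp_id]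
        exact congrArg (fun m => G'.obj.map m (γ.hom.app (op (ovr g a.φ)) a.x)) hm }

theorem map_op_of_eq_id {C : Type*} [Category C] (P : Cᵒᵖ ⥤ Type*) {A : C} (m : A ⟶ A)
    (h : m = 𝟙 A) (y : P.obj (op A)) : P.map m.op y = y := by
  subst h
  rw [op_id, CategoryTheory.Functor.map_id]
  rfl

theorem bwd_fwd {F : Sp S} {G' : Sp S'} (β : (L g).obj F ⟶ G') : bwd g (fwd g β) = β := by
  apply Sheaf.hom_ext
  ext T' a
  obtain ⟨T'⟩ := T'
  have a' : LObj g F.obj T' := a
  show G'.obj.map (fromS' g (LObj.φ a)).op (β.hom.app (op ((Over.map g).obj (ovr g (LObj.φ a))))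
    (⟨can g (ovr g (LObj.φ a)), LObj.x a⟩ : LObj g F.obj _)) = β.hom.app (op T') a
  have h := NatTrans.naturality_apply β.hom (fromS' g (LObj.φ a)).op
    (⟨can g (ovr g (LObj.φ a)), LObj.x a⟩ : LObj g F.obj _)
  refine h.symm.trans ?_
  refine congrArg (β.hom.app (op T')) ?_
  refine LObj.restrict_eq _ _ _ (fromS'_comp_can g (LObj.φ a)) ?_
  exact LObj.at_id a _ rfl

theorem fwd_bwd {F : Sp S} {G' : Sp S'} (γ : F ⟶ (res g).obj G') : fwd g (bwd g γ) = γ := by
  apply Sheaf.hom_ext
  ext T x
  obtain ⟨T⟩ := T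
  show G'.obj.map (fromS' g (can g T)).op (γ.hom.app (op (ovr g (can g T))) x) = γ.hom.app (op T) x
  exact map_op_of_eq_id G'.obj (fromS' g (can g T)) (Over.OverMorphism.ext rfl) _

/-- The adjunction between the explicit `j_!` and restriction. -/
noncomputable def adjL : L g ⊣ res g :=
  Adjunction.mkOfHomEquiv
    { homEquiv := fun F G' => ⟨fwd g, bwd g, bwd_fwd g, fwd_bwd g⟩
      homEquiv_naturality_left_symm := by
        intro F₁ F G' f γ
        apply Sheaf.hom_ext
        ext T' a
        rfl
      homEquiv_naturality_right := by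
        intro F G' G'' β h
        apply Sheaf.hom_ext
        ext T x
        rfl }

/-- Mathlib's `j_!` is the explicit one. -/
noncomputable def shriekIso : (Over.map g).sheafPullback (Type (u + 1)) (J S) (J S') ≅ L g :=
  (resAdj g).leftAdjointUniq (adjL g)

end H10PT.Shriek
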