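import Mathlib
import Groth.Prelude.Def_AlgSpRep
import Groth.Agent.Lib.Helper10.SpShriek2
import Groth.Agent.Lib.Helper16.SheafRep

/-!
# The functor `j_!` on fppf sheaves: pullbacks, representable sheaves, algebraic spaces
-/

set_option autoImplicit false
universe u
open CategoryTheory CategoryTheory.Limits AlgebraicGeometry Opposite

namespace H10PT.Shriek

open AlgSp H10PT.SpBC Groth.Agent.Lib.Helper16

variable {S S' : Scheme.{u}} (g : S ⟶ S')

theorem mapF_mk_inj {F G : PSp S} (α : F ⟶ G) {T' : Over S'} (φ : T' ⟶ Over.mk g)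
    {x y : F.obj (op (ovr g φ))}
    (h : LObj.mapF α (⟨φ, x⟩ : LObj g F T') = LObj.mapF α (⟨φ, y⟩ : LObj g F T')) :
    α.app _ x = α.app _ y := by
  simp only [LObj.mapF, LObj.mk.injEq, heq_eq_eq, true_and] at h
  exact h

theorem mapF_mk_inj₂ {F H G : PSp S} (α : F ⟶ G) (β : H ⟶ G) {T' : Over S'} (φ : T' ⟶ Over.mk g)
    {x : F.obj (op (ovr g φ))} {y : H.obj (op (ovr g φ))}
    (h : LObj.mapF α (⟨φ, x⟩ : LObj g F T') = LObj.mapF β (⟨φ, y⟩ : LObj g H T')) :
    α.app _ x = β.app _ y := by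
  simp only [LObj.mapF, LObj.mk.injEq, heq_eq_eq, true_and] at h
  exact h

/-- `j_!` preserves fibre products. -/
theorem isPullback_L {F' F G H : Sp S} {fst : F' ⟶ F} {snd : F' ⟶ H} {a : F ⟶ G} {ξ : H ⟶ G}
    (sq : IsPullback fst snd a ξ) :
    IsPullback ((L g).map fst) ((L g).map snd) ((L g).map a) ((L g).map ξ) := by
  refine isPullback_of_pointwise ?_ ?_ ?_
  · rw [← Functor.map_comp, ← Functor.map_comp, sq.w]
  · intro T' x y hxy
    obtain ⟨T'⟩ := T'
    have hxy' : LObj.mapF a.hom (x : LObj g F.obj T') = LObj.mapF ξ.hom (y : LObj g H.obj T') := hxy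
    obtain ⟨φ, x₀⟩ := x
    obtain ⟨ψ, y₀⟩ := y
    have hφ : φ = ψ := congrArg LObj.φ hxy'
    subst hφ
    have h0 : a.hom.app _ x₀ = ξ.hom.app _ y₀ := mapF_mk_inj₂ g a.hom ξ.hom φ hxy'
    have sqT := isPullback_eval (sq.map (sheafToPresheaf (J S) (Type (u + 1)))) (op (ovr g φ))
    obtain ⟨z₀, hz1, hz2⟩ := Types.exists_of_isPullback sqT x₀ y₀ h0
    exact ⟨(⟨φ, z₀⟩ : LObj g F'.obj T'), congrArg (LObj.mk φ) hz1, congrArg (LObj.mk φ) hz2⟩
  · intro T' z z' h1 h2
    obtain ⟨T'⟩ := T'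
    have h1' : LObj.mapF fst.hom (z : LObj g F'.obj T') = LObj.mapF fst.hom (z' : LObj g F'.obj T') := h1
    have h2' : LObj.mapF snd.hom (z : LObj g F'.obj T') = LObj.mapF snd.hom (z' : LObj g F'.obj T') := h2
    obtain ⟨φ, z₀⟩ := z
    obtain ⟨φ', z₀'⟩ := z'
    have hφ : φ = φ' := congrArg LObj.φ h1'
    subst hφ
    have sqT := isPullback_eval (sq.map (sheafToPresheaf (J S) (Type (u + 1)))) (op (ovr g φ))
    exact congrArg (LObj.mk φ) (Types.ext_of_isPullback sqT (mapF_mk_inj g fst.hom φ h1')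
      (mapF_mk_inj g snd.hom φ h2'))

/-- The tautological section of `j_! h_{T'}` over `T'`. -/
def kel {T' : Over S'} (φ : T' ⟶ Over.mk g) : LObj g ((yon S).obj (ovr g φ)).obj T' :=
  ⟨φ, ULift.up (𝟙 (ovr g φ))⟩

/-- The canonical map `h_{T'} ⟶ j_! h_{T'}` (on the right `T'` is viewed over `S`). -/
noncomputable def kap {T' : Over S'} (φ : T' ⟶ Over.mk g) :
    (yon S').obj T' ⟶ (L g).obj ((yon S).obj (ovr g φ)) :=
  (J S').uliftYonedaEquiv.symm (kel g φ)

theorem kap_app {T' T'' : Over S'} (φ : T' ⟶ Over.mk g) (t : T'' ⟶ T') :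
    (kap g φ).hom.app (op T'') (ULift.up t) = (kel g φ).restrict t := rfl

/-- The morphism over `S'` given by a section of `j_! h_{T'}`. -/
def kapInvFun {T' T'' : Over S'} (φ : T' ⟶ Over.mk g)
    (a : LObj g ((yon S).obj (ovr g φ)).obj T'') : T'' ⟶ T' :=
  fromS' g a.φ ≫ toS' g φ (ULift.down a.x)

theorem kapInvFun_left {T' T'' : Over S'} (φ : T' ⟶ Over.mk g)
    (a : LObj g ((yon S).obj (ovr g φ)).obj T'') :
    (kapInvFun g φ a).left = 𝟙 _ ≫ (ULift.down a.x).left := rfl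

/-- The inverse of `kap`. -/
noncomputable def kapInv {T' : Over S'} (φ : T' ⟶ Over.mk g) :
    (L g).obj ((yon S).obj (ovr g φ)) ⟶ (yon S').obj T' :=
  ObjectProperty.homMk
    { app := fun T'' => ↾fun (a : LObj g ((yon S).obj (ovr g φ)).obj T''.unop) =>
        ULift.up (kapInvFun g φ a)
      naturality := by
        intro T₁ T₂ t
        ext a
        apply ULift.ext
        show kapInvFun g φ (LObj.restrict t.unop a) = t.unop ≫ kapInvFun g φ a
        refine Over.OverMorphism.ext ?_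
        show 𝟙 _ ≫ (t.unop.left ≫ (ULift.down (LObj.x a)).left) =
          t.unop.left ≫ 𝟙 _ ≫ (ULift.down (LObj.x a)).left
        rw [Category.id_comp, Category.id_comp] }

theorem kap_kapInv {T' : Over S'} (φ : T' ⟶ Over.mk g) : kap g φ ≫ kapInv g φ = 𝟙 _ := by
  apply (J S').uliftYonedaEquiv.injective
  rw [GrothendieckTopology.uliftYonedaEquiv_comp, GrothendieckTopology.uliftYonedaEquiv_apply,
    GrothendieckTopology.uliftYonedaEquiv_apply]
  show ULift.up (kapInvFun g φ ((kel g φ).restrict (𝟙 T'))) = ULift.up (𝟙 T')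
  apply ULift.ext
  refine Over.OverMorphism.ext ?_
  show 𝟙 _ ≫ (𝟙 _ ≫ 𝟙 _) = 𝟙 _
  rw [Category.id_comp, Category.id_comp]

theorem kapInv_kap {T' : Over S'} (φ : T' ⟶ Over.mk g) : kapInv g φ ≫ kap g φ = 𝟙 _ := by
  apply Sheaf.hom_ext
  ext T'' a
  obtain ⟨T''⟩ := T''
  show (kel g φ).restrict (kapInvFun g φ a) = a
  have hφ : kapInvFun g φ a ≫ φ = LObj.φ a := by
    refine Over.OverMorphism.ext ?_
    show (𝟙 _ ≫ (ULift.down (LObj.x a)).left) ≫ φ.left = (LObj.φ a).left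
    rw [Category.id_comp]
    exact Over.w (ULift.down (LObj.x a))
  refine LObj.restrict_eq _ _ _ hφ ?_
  show ULift.up (ovrMap g (kapInvFun g φ a) hφ ≫ 𝟙 _) = LObj.x a
  apply ULift.ext
  refine Over.OverMorphism.ext ?_
  show (𝟙 _ ≫ (ULift.down (LObj.x a)).left) ≫ 𝟙 _ = (ULift.down (LObj.x a)).left
  rw [Category.id_comp, Category.comp_id]

instance kap_isIso {T' : Over S'} (φ : T' ⟶ Over.mk g) : IsIso (kap g φ) :=
  ⟨⟨kapInv g φ, kap_kapInv g φ, kapInv_kap g φ⟩⟩

/-- `h_{T'} ≅ j_! h_{T'}`. -/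
noncomputable def kapIso {T' : Over S'} (φ : T' ⟶ Over.mk g) :
    (yon S').obj T' ≅ (L g).obj ((yon S).obj (ovr g φ)) :=
  ⟨kap g φ, kapInv g φ, kap_kapInv g φ, kapInv_kap g φ⟩

/-- Every section of `j_! F` over `T'` factors through `h_{T'} ≅ j_! h_{T'}`. -/
theorem kap_comp_L_map {F : Sp S} {T' : Over S'} (a : LObj g F.obj T') :
    kap g a.φ ≫ (L g).map ((J S).uliftYonedaEquiv.symm a.x) = (J S').uliftYonedaEquiv.symm a := by
  unfold kap
  rw [GrothendieckTopology.uliftYonedaEquiv_symm_naturality_right]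
  refine congrArg _ ?_
  obtain ⟨φ, x⟩ := a
  show (⟨φ, F.obj.map (𝟙 (ovr g φ)).op x⟩ : LObj g F.obj T') = ⟨φ, x⟩
  refine congrArg (LObj.mk φ) ?_
  exact map_op_of_eq_id F.obj (𝟙 (ovr g φ)) rfl x

/-- Compatibility of `kap` with morphisms. -/
theorem kap_naturality {T' : Over S'} (φ : T' ⟶ Over.mk g) {W : Over S} (w : W ⟶ ovr g φ) :
    kap g (can g W) ≫ (L g).map ((yon S).map w) = (yon S').map (toS' g φ w) ≫ kap g φ := by
  apply (J S').uliftYonedaEquiv.injective
  rw [GrothendieckTopology.uliftYonedaEquiv_comp, GrothendieckTopology.uliftYonedaEquiv_comp,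
    GrothendieckTopology.uliftYonedaEquiv_uliftYoneda_map]
  show LObj.mapF ((yon S).map w).hom (kel g (can g W)) = (kel g φ).restrict (toS' g φ w)
  symm
  refine LObj.restrict_eq _ _ _ (toS'_comp_phi g φ w) ?_
  show ULift.up (ovrMap g (toS' g φ w) (toS'_comp_phi g φ w) ≫ 𝟙 _) = ULift.up (𝟙 _ ≫ w)
  apply ULift.ext
  refine Over.OverMorphism.ext ?_
  show w.left ≫ 𝟙 _ = 𝟙 _ ≫ w.left
  rw [Category.id_comp, Category.comp_id]

/-- The base change of `j_! f` along a section of `j_! B`, computed from a base change of `f`. -/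
theorem isPullback_L_chart {A B : Sp S} (f : A ⟶ B) {T' : Over S'} (b : LObj g B.obj T')
    {W : Over S} (w : W ⟶ ovr g b.φ) (fst : (yon S).obj W ⟶ A)
    (sq : IsPullback fst ((yon S).map w) f ((J S).uliftYonedaEquiv.symm b.x)) :
    IsPullback (kap g (can g W) ≫ (L g).map fst) ((yon S').map (toS' g b.φ w)) ((L g).map f)
      ((J S').uliftYonedaEquiv.symm b) := by
  have h1 := isPullback_L g sq
  have h2 : IsPullback (kap g (can g W)) ((yon S').map (toS' g b.φ w))
      ((L g).map ((yon S).map w)) (kap g b.φ) :=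
    IsPullback.of_horiz_isIso ⟨kap_naturality g b.φ w⟩
  have h3 := h2.paste_horiz h1
  rwa [kap_comp_L_map] at h3

theorem representable_L_map {A B : Sp S} (f : A ⟶ B) (hf : Representable f) :
    Representable ((L g).map f) := by
  intro T' ξ
  obtain ⟨b, rfl⟩ := (J S').uliftYonedaEquiv.symm.surjective ξ
  obtain ⟨W, w, fst, sq⟩ := hf ((J S).uliftYonedaEquiv.symm (LObj.x b))
  exact ⟨(Over.map g).obj W, toS' g (LObj.φ b) w, _, isPullback_L_chart g f b w fst sq⟩

theorem repWith_L_map (P : MorphismProperty Scheme.{u}) [P.IsStableUnderBaseChange] {A B : Sp S}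
    (f : A ⟶ B) (hf : RepWith P f) : RepWith P ((L g).map f) := by
  apply MorphismProperty.relative.of_exists
  intro T' ξ
  obtain ⟨b, rfl⟩ := (J S').uliftYonedaEquiv.symm.surjective ξ
  obtain ⟨W, w, fst, sq⟩ := hf.rep ((J S).uliftYonedaEquiv.symm (LObj.x b))
  refine ⟨(Over.map g).obj W, _, toS' g (LObj.φ b) w, isPullback_L_chart g f b w fst sq, ?_⟩
  exact ((repWith_iff P f).1 hf).2 _ _ _ sq

theorem repWith_of_L_map (P : MorphismProperty Scheme.{u}) [P.IsStableUnderBaseChange] {A B : Sp S}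
    (f : A ⟶ B) (hf : Representable f) (h : RepWith P ((L g).map f)) : RepWith P f := by
  apply MorphismProperty.relative.of_exists
  intro U x
  obtain ⟨x₀, rfl⟩ := (J S).uliftYonedaEquiv.symm.surjective x
  obtain ⟨W, w, fst, sq⟩ := hf ((J S).uliftYonedaEquiv.symm x₀)
  refine ⟨W, _, w, sq, ?_⟩
  let b : LObj g B.obj ((Over.map g).obj U) := ⟨can g U, x₀⟩
  have sq' : IsPullback fst ((yon S).map w) f ((J S).uliftYonedaEquiv.symm (LObj.x b)) := sq
  exact ((repWith_iff P _).1 h).2 _ _ _ (isPullback_L_chart g f b w fst sq')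

theorem representable_from_yon_L {F : Sp S} (hF : IsAlgSpace F) {T' : Over S'}
    (ξ : (yon S').obj T' ⟶ (L g).obj F) : Representable ξ := by
  obtain ⟨b, rfl⟩ := (J S').uliftYonedaEquiv.symm.surjective ξ
  rw [← kap_comp_L_map]
  exact MorphismProperty.RespectsIso.precomp _ _ _
    (representable_L_map g _ (hF.representable_from_yon _))

/-- `j_!` preserves algebraic spaces. -/
theorem isAlgSpace_L {F : Sp S} (hF : IsAlgSpace F) : IsAlgSpace ((L g).obj F) where
  diag := Functor.relativelyRepresentable.diag_of_map_from_obj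
    (fun _ ξ => representable_from_yon_L g hF ξ)
  atlas := by
    obtain ⟨U, p, h1, h2⟩ := hF.atlas
    refine ⟨(Over.map g).obj U, kap g (can g U) ≫ (L g).map p, ?_, ?_⟩
    · exact MorphismProperty.RespectsIso.precomp _ _ _ (repWith_L_map g _ p h1)
    · exact MorphismProperty.RespectsIso.precomp _ _ _ (repWith_L_map g _ p h2)

end H10PT.Shriek
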