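import Mathlib
import Groth.Prelude.Def_AlgSpRep
import Groth.Agent.Lib.Helper10.SpShriek3

/-!
# The functor `j_!` on fppf sheaves: unit, counit, `j_! j⁻¹ F' ≅ h_S × F'`
-/

set_option autoImplicit false
universe u
open CategoryTheory CategoryTheory.Limits AlgebraicGeometry Opposite

namespace H10PT.Shriek

open AlgSp H10PT.SpBC Groth.Agent.Lib.Helper16

theorem map_op_map_op {C : Type*} [Category C] (P : Cᵒᵖ ⥤ Type*) {A B : C} (m : A ⟶ B)
    (n : B ⟶ A) (h : m ≫ n = 𝟙 A) (y : P.obj (op A)) : P.map m.op (P.map n.op y) = y :=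
  (Functor.map_comp_apply P n.op m.op y).symm.trans (map_op_of_eq_id P (m ≫ n) h y)

variable {S S' : Scheme.{u}} (g : S ⟶ S')

theorem fromS'_toS' {T' : Over S'} (φ : T' ⟶ Over.mk g) :
    fromS' g φ ≫ toS' g φ (𝟙 (ovr g φ)) = 𝟙 T' :=
  Over.OverMorphism.ext (Category.id_comp _)

theorem toS'_fromS' {T' : Over S'} (φ : T' ⟶ Over.mk g) :
    toS' g φ (𝟙 (ovr g φ)) ≫ fromS' g φ = 𝟙 _ :=
  Over.OverMorphism.ext (Category.id_comp _)

/-- The projection `j_! F ⟶ h_S` as a morphism of sheaves. -/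
noncomputable def Lπ (F : Sp S) : (L g).obj F ⟶ (yon S').obj (Over.mk g) :=
  ObjectProperty.homMk (Lproj g F.obj)

theorem Lπ_app (F : Sp S) {T' : Over S'} (a : LObj g F.obj T') :
    (Lπ g F).hom.app (op T') a = ULift.up a.φ := rfl

theorem L_map_Lπ {F G : Sp S} (α : F ⟶ G) : (L g).map α ≫ Lπ g G = Lπ g F := by
  apply Sheaf.hom_ext
  ext T' a
  rfl

/-- The counit `j_! j⁻¹ F' ⟶ F'`. -/
noncomputable def Leps (F' : Sp S') : (L g).obj ((res g).obj F') ⟶ F' := bwd g (𝟙 _)

theorem Leps_app (F' : Sp S') {T' : Over S'} (a : LObj g ((res g).obj F').obj T') :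
    (Leps g F').hom.app (op T') a = F'.obj.map (fromS' g a.φ).op a.x := rfl

/-- The unit `F ⟶ j⁻¹ j_! F`. -/
noncomputable def Leta (F : Sp S) : F ⟶ (res g).obj ((L g).obj F) := fwd g (𝟙 _)

theorem Leta_app (F : Sp S) {T : Over S} (x : F.obj.obj (op T)) :
    (Leta g F).hom.app (op T) x = (⟨can g T, x⟩ : LObj g F.obj ((Over.map g).obj T)) := rfl

/-- `j_! j⁻¹ F'` is the product of `h_S` and `F'`. -/
theorem isPullback_L_res (F' : Sp S') :
    IsPullback (Lπ g ((res g).obj F')) (Leps g F') (terminal.from _) (terminal.from _) := by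
  refine isPullback_of_pointwise (terminal.hom_ext _ _) ?_ ?_
  · intro T' x y _
    obtain ⟨T'⟩ := T'
    obtain ⟨φ⟩ := x
    refine ⟨(⟨φ, F'.obj.map (toS' g φ (𝟙 (ovr g φ))).op y⟩ : LObj g ((res g).obj F').obj T'),
      rfl, ?_⟩
    show F'.obj.map (fromS' g φ).op (F'.obj.map (toS' g φ (𝟙 (ovr g φ))).op y) = y
    exact map_op_map_op F'.obj _ _ (fromS'_toS' g φ) y
  · intro T' z z' h1 h2
    obtain ⟨T'⟩ := T'
    have hφ : LObj.φ z = LObj.φ z' := congrArg ULift.down h1
    obtain ⟨φ, x⟩ := z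
    obtain ⟨φ', x'⟩ := z'
    dsimp only at hφ
    subst hφ
    have h2' : F'.obj.map (fromS' g φ).op x = F'.obj.map (fromS' g φ).op x' := h2
    refine congrArg (LObj.mk φ) ?_
    have e1 := map_op_map_op F'.obj _ _ (toS'_fromS' g φ) x
    have e2 := map_op_map_op F'.obj _ _ (toS'_fromS' g φ) x'
    rw [← e1, ← e2, h2']

/-- `j_! j⁻¹ F' ≅ h_S × F'`. -/
noncomputable def LresIso (F' : Sp S') :
    (L g).obj ((res g).obj F') ≅ (yon S').obj (Over.mk g) ⨯ F' :=
  (isPullback_L_res g F').isoIsPullback _ _ (IsPullback.of_hasBinaryProduct' _ _)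

/-- The canonical section of `j⁻¹ h_S` over `S`. -/
noncomputable def cSec : (yon S).obj (Over.mk (𝟙 S)) ⟶ (res g).obj ((yon S').obj (Over.mk g)) :=
  (J S).uliftYonedaEquiv.symm (ULift.up (can g (Over.mk (𝟙 S))))

theorem cSec_app {T : Over S} (u : T ⟶ Over.mk (𝟙 S)) :
    (cSec g).hom.app (op T) (ULift.up u) = ULift.up (can g T) := by
  show ULift.up ((Over.map g).map u ≫ can g (Over.mk (𝟙 S))) = ULift.up (can g T)
  refine congrArg ULift.up ?_
  refine Over.OverMorphism.ext ?_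
  exact Over.w u

/-- The map to the terminal sheaf `h_S` over `S`. -/
noncomputable def toT (G : Sp S) : G ⟶ (yon S).obj (Over.mk (𝟙 S)) :=
  ObjectProperty.homMk
    { app := fun T => ↾fun _ => ULift.up (Over.mkIdTerminal.from T.unop)
      naturality := by
        intro T₁ T₂ r
        ext x
        apply ULift.ext
        exact Over.mkIdTerminal.hom_ext _ _ }

theorem isPullback_Leta (G : Sp S) :
    IsPullback (Leta g G) (toT G) ((res g).map (Lπ g G)) (cSec g) := by
  refine isPullback_of_pointwise ?_ ?_ ?_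
  · apply Sheaf.hom_ext
    ext T x
    obtain ⟨T⟩ := T
    show ULift.up (can g T) = (cSec g).hom.app (op T) (ULift.up (Over.mkIdTerminal.from T))
    rw [cSec_app]
  · intro T z u hzu
    obtain ⟨T⟩ := T
    obtain ⟨u⟩ := u
    have hz : ULift.up (LObj.φ z) = (cSec g).hom.app (op T) (ULift.up u) := hzu
    rw [cSec_app] at hz
    have hφ : LObj.φ z = can g T := congrArg ULift.down hz
    obtain ⟨ψ, x⟩ := z
    dsimp only at hφ
    subst hφ
    exact ⟨x, rfl, congrArg ULift.up (Over.mkIdTerminal.hom_ext _ _)⟩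
  · intro T x x' h1 _
    obtain ⟨T⟩ := T
    have h : (⟨can g T, x⟩ : LObj g G.obj ((Over.map g).obj T)) = ⟨can g T, x'⟩ := h1
    simp only [LObj.mk.injEq, heq_eq_eq, true_and] at h
    exact h

/-- If `j_! G` is an algebraic space over `S'` then `G` is an algebraic space over `S`. -/
theorem isAlgSpace_of_L {G : Sp S} (h : IsAlgSpace ((L g).obj G)) : IsAlgSpace G :=
  isAlgSpace_of_isPullback (isAlgSpace_res g h)
    (isAlgSpace_res g (IsAlgSpace.yon_obj (Over.mk g))).diag (IsAlgSpace.yon_obj _)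
    (isPullback_Leta g G)

theorem isAlgSpace_L_iff {G : Sp S} : IsAlgSpace ((L g).obj G) ↔ IsAlgSpace G :=
  ⟨isAlgSpace_of_L g, isAlgSpace_L g⟩

end H10PT.Shriek
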