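import Mathlib
import Groth.Prelude.Def_AlgSpRep
import Groth.Agent.Lib.Helper10.SpShriek4

/-!
# Algebraic spaces over `S` are algebraic spaces over `S'` with a map to `h_S`
-/

set_option autoImplicit false
universe u
open CategoryTheory CategoryTheory.Limits AlgebraicGeometry Opposite

namespace H10PT.Shriek

open AlgSp H10PT.SpBC Groth.Agent.Lib.Helper16

variable {S S' : Scheme.{u}} (g : S ⟶ S')

theorem isIso_of_bijective {A B : Sp S'} (f : A ⟶ B)
    (h : ∀ T, Function.Bijective (f.hom.app T)) : IsIso f := by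
  have h1 : ∀ T, IsIso (f.hom.app T) := fun T => (isIso_iff_bijective _).2 (h T)
  have h2 : IsIso f.hom := NatIso.isIso_of_isIso_app _
  exact (ObjectProperty.isIso_hom_iff f).1 h2

/-- `j_! F` as an algebraic space. -/
noncomputable def LSpace (F : Space S) : Space S' := ⟨(L g).obj F.obj, isAlgSpace_L g F.property⟩

/-- The functor from algebraic spaces over `S` to algebraic spaces over `S'` over `h_S`. -/
noncomputable def Phi : Space S ⥤ Over ((ofScheme S').obj (Over.mk g)) where
  obj F := Over.mk (ObjectProperty.homMk (Lπ g F.obj) : LSpace g F ⟶ (ofScheme S').obj (Over.mk g))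
  map {F G} α := Over.homMk (ObjectProperty.homMk ((L g).map α.hom) : LSpace g F ⟶ LSpace g G) (by
    apply ObjectProperty.hom_ext
    exact L_map_Lπ g α.hom)
  map_id F := by
    refine Over.OverMorphism.ext ?_
    apply ObjectProperty.hom_ext
    exact (L g).map_id F.obj
  map_comp α β := by
    refine Over.OverMorphism.ext ?_
    apply ObjectProperty.hom_ext
    exact (L g).map_comp α.hom β.hom

theorem L_map_injective {F G : Sp S} {α β : F ⟶ G} (h : (L g).map α = (L g).map β) : α = β := by
  apply Sheaf.hom_ext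
  ext T x
  obtain ⟨T⟩ := T
  have h1 : LObj.mapF α.hom (⟨can g T, x⟩ : LObj g F.obj ((Over.map g).obj T)) =
      LObj.mapF β.hom (⟨can g T, x⟩ : LObj g F.obj ((Over.map g).obj T)) :=
    congrArg (fun m => m.hom.app (op ((Over.map g).obj T))
      (⟨can g T, x⟩ : LObj g F.obj ((Over.map g).obj T))) h
  exact mapF_mk_inj₂ g α.hom β.hom (can g T) h1

theorem exists_L_map_eq {F G : Sp S} (h : (L g).obj F ⟶ (L g).obj G)
    (hh : h ≫ Lπ g G = Lπ g F) : ∃ α : F ⟶ G, (L g).map α = h := by
  have hc : fwd g h ≫ (res g).map (Lπ g G) = toT F ≫ cSec g := by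
    apply Sheaf.hom_ext
    ext T x
    obtain ⟨T⟩ := T
    show (Lπ g G).hom.app (op ((Over.map g).obj T))
        (h.hom.app (op ((Over.map g).obj T)) (⟨can g T, x⟩ : LObj g F.obj ((Over.map g).obj T))) =
      (cSec g).hom.app (op T) (ULift.up (Over.mkIdTerminal.from T))
    rw [cSec_app]
    exact congrArg (fun m => m.hom.app (op ((Over.map g).obj T))
      (⟨can g T, x⟩ : LObj g F.obj ((Over.map g).obj T))) hh
  refine ⟨(isPullback_Leta g G).lift (fwd g h) (toT F) hc, ?_⟩
  have h1 : (isPullback_Leta g G).lift (fwd g h) (toT F) hc ≫ Leta g G = fwd g h :=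
    IsPullback.lift_fst _ _ _ _
  have h2 : fwd g ((L g).map ((isPullback_Leta g G).lift (fwd g h) (toT F) hc)) =
      (isPullback_Leta g G).lift (fwd g h) (toT F) hc ≫ Leta g G := by
    apply Sheaf.hom_ext
    ext T x
    rfl
  have h3 := congrArg (bwd g) (h2.trans h1)
  rwa [bwd_fwd, bwd_fwd] at h3

instance Phi_faithful : (Phi g).Faithful where
  map_injective {F G α β} h := by
    apply ObjectProperty.hom_ext
    apply L_map_injective g
    exact congrArg (fun m : (Phi g).obj F ⟶ (Phi g).obj G => m.left.hom) h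

instance Phi_full : (Phi g).Full where
  map_surjective {F G} h := by
    have hw : h.left.hom ≫ Lπ g G.obj = Lπ g F.obj :=
      congrArg (fun m => InducedCategory.Hom.hom m) (Over.w h)
    obtain ⟨α, hα⟩ := exists_L_map_eq g h.left.hom hw
    refine ⟨ObjectProperty.homMk α, ?_⟩
    refine Over.OverMorphism.ext ?_
    apply ObjectProperty.hom_ext
    exact hα

section EssSurj

variable {g}
variable (X : Over ((ofScheme S').obj (Over.mk g)))

/-- The algebraic space over `S` attached to an algebraic space over `S'` with a map to `h_S`. -/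
noncomputable def PsiSp : Sp S := pullback ((res g).map X.hom.hom) (cSec g)

theorem isAlgSpace_PsiSp : IsAlgSpace (PsiSp X) :=
  isAlgSpace_of_isPullback (isAlgSpace_res g X.left.property)
    (isAlgSpace_res g (IsAlgSpace.yon_obj (Over.mk g))).diag (IsAlgSpace.yon_obj _)
    (IsPullback.of_hasPullback ((res g).map X.hom.hom) (cSec g))

/-- first projection -/
noncomputable def psiFst : PsiSp X ⟶ (res g).obj X.left.obj :=
  pullback.fst ((res g).map X.hom.hom) (cSec g)

/-- second projection -/
noncomputable def psiSnd : PsiSp X ⟶ (yon S).obj (Over.mk (𝟙 S)) :=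
  pullback.snd ((res g).map X.hom.hom) (cSec g)

theorem psi_sq : IsPullback (psiFst X) (psiSnd X) ((res g).map X.hom.hom) (cSec g) :=
  IsPullback.of_hasPullback _ _

theorem psi_sq_eval (T : Over S) :
    IsPullback ((psiFst X).hom.app (op T)) ((psiSnd X).hom.app (op T))
      (((res g).map X.hom.hom).hom.app (op T)) ((cSec g).hom.app (op T)) :=
  isPullback_eval ((psi_sq X).map (sheafToPresheaf (J S) (Type (u + 1)))) (op T)

theorem psi_key {T : Over S} (x : (PsiSp X).obj.obj (op T)) :
    X.hom.hom.hom.app (op ((Over.map g).obj T)) ((psiFst X).hom.app (op T) x) =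
      ULift.up (can g T) := by
  have h := congrArg (fun m => m.hom.app (op T) x) (psi_sq X).w
  have h' : X.hom.hom.hom.app (op ((Over.map g).obj T)) ((psiFst X).hom.app (op T) x) =
      (cSec g).hom.app (op T) ((psiSnd X).hom.app (op T) x) := h
  rw [h']
  obtain ⟨u⟩ := (psiSnd X).hom.app (op T) x
  exact cSec_app g u

/-- The comparison `j_! Ψ(X) ⟶ X`. -/
noncomputable def psiC : (L g).obj (PsiSp X) ⟶ X.left.obj := bwd g (psiFst X)

theorem psiC_app {T' : Over S'} (a : LObj g (PsiSp X).obj T') :
    (psiC X).hom.app (op T') a =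
      X.left.obj.obj.map (fromS' g a.φ).op ((psiFst X).hom.app (op (ovr g a.φ)) a.x) := rfl

theorem psiC_proj {T' : Over S'} (a : LObj g (PsiSp X).obj T') :
    X.hom.hom.hom.app (op T') ((psiC X).hom.app (op T') a) = ULift.up a.φ := by
  rw [psiC_app]
  have h := NatTrans.naturality_apply X.hom.hom.hom (fromS' g a.φ).op
    ((psiFst X).hom.app (op (ovr g a.φ)) a.x)
  refine h.trans ?_
  rw [psi_key]
  show ULift.up (fromS' g a.φ ≫ can g (ovr g a.φ)) = ULift.up a.φ
  rw [fromS'_comp_can]

theorem psiC_comp : psiC X ≫ X.hom.hom = Lπ g (PsiSp X) := by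
  apply Sheaf.hom_ext
  ext T' a
  obtain ⟨T'⟩ := T'
  exact psiC_proj X a

theorem psiC_bijective (T' : (Over S')ᵒᵖ) : Function.Bijective ((psiC X).hom.app T') := by
  obtain ⟨T'⟩ := T'
  constructor
  · intro a a' haa
    have hφ : LObj.φ a = LObj.φ a' := by
      have h1 := psiC_proj X a
      have h2 := psiC_proj X a'
      have haa' : (psiC X).hom.app (op T') a = (psiC X).hom.app (op T') a' := haa
      rw [haa'] at h1
      exact congrArg ULift.down (h1.symm.trans h2)
    have haa' : (psiC X).hom.app (op T') a = (psiC X).hom.app (op T') a' := haa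
    obtain ⟨φ, x⟩ := a
    obtain ⟨φ', x'⟩ := a'
    dsimp only at hφ
    subst hφ
    rw [psiC_app, psiC_app] at haa'
    have e1 := map_op_map_op X.left.obj.obj _ _ (toS'_fromS' g φ)
      ((psiFst X).hom.app (op (ovr g φ)) x)
    have e2 := map_op_map_op X.left.obj.obj _ _ (toS'_fromS' g φ)
      ((psiFst X).hom.app (op (ovr g φ)) x')
    have h1 : (psiFst X).hom.app (op (ovr g φ)) x = (psiFst X).hom.app (op (ovr g φ)) x' := by
      rw [← e1, ← e2]
      exact congrArg _ haa'
    have h2 : (psiSnd X).hom.app (op (ovr g φ)) x = (psiSnd X).hom.app (op (ovr g φ)) x' :=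
      ULift.ext _ _ (Over.mkIdTerminal.hom_ext _ _)
    exact congrArg (LObj.mk φ) (Types.ext_of_isPullback (psi_sq_eval X (ovr g φ)) h1 h2)
  · intro y
    have y' : X.left.obj.obj.obj (op T') := y
    let φ : T' ⟶ Over.mk g := ULift.down (X.hom.hom.hom.app (op T') y)
    have hc : ((res g).map X.hom.hom).hom.app (op (ovr g φ))
        (X.left.obj.obj.map (toS' g φ (𝟙 (ovr g φ))).op y) =
        (cSec g).hom.app (op (ovr g φ)) (ULift.up (Over.mkIdTerminal.from (ovr g φ))) := by
      rw [cSec_app]
      have h := NatTrans.naturality_apply X.hom.hom.hom (toS' g φ (𝟙 (ovr g φ))).op y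
      refine h.trans ?_
      show ULift.up (toS' g φ (𝟙 (ovr g φ)) ≫ φ) = ULift.up (can g (ovr g φ))
      rw [toS'_comp_phi]
    obtain ⟨x, hx1, hx2⟩ := Types.exists_of_isPullback (psi_sq_eval X (ovr g φ)) _ _ hc
    refine ⟨(⟨φ, x⟩ : LObj g (PsiSp X).obj T'), ?_⟩
    show X.left.obj.obj.map (fromS' g φ).op ((psiFst X).hom.app (op (ovr g φ)) x) = y
    rw [hx1]
    exact map_op_map_op X.left.obj.obj _ _ (fromS'_toS' g φ) y

instance psiC_isIso : IsIso (psiC X) := isIso_of_bijective _ (psiC_bijective X)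

/-- `Ψ(X)` as an algebraic space. -/
noncomputable def PsiSpace : Space S := ⟨PsiSp X, isAlgSpace_PsiSp X⟩

/-- `Φ(Ψ(X)) ≅ X`. -/
noncomputable def phiPsiIso : (Phi g).obj (PsiSpace X) ≅ X :=
  Over.isoMk (ObjectProperty.isoMk _ (@asIso _ _ _ _ (psiC X) (psiC_isIso X))) (by
    apply ObjectProperty.hom_ext
    exact psiC_comp X)

end EssSurj

instance Phi_essSurj : (Phi g).EssSurj where
  mem_essImage X := ⟨PsiSpace X, ⟨phiPsiIso X⟩⟩

instance Phi_isEquivalence : (Phi g).IsEquivalence where

/-- Algebraic spaces over `S` are algebraic spaces over `S'` with a map to `h_S`, compatibly with `j_!`. -/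
theorem exists_equivalence :
    ∃ E : Space S ≌ Over ((ofScheme S').obj (Over.mk g)),
      Nonempty (E.functor ⋙ Over.forget _ ⋙ ObjectProperty.ι (IsAlgSpace (S := S')) ≅
        ObjectProperty.ι (IsAlgSpace (S := S)) ⋙
          ((Over.map g).sheafPullback (Type (u + 1)) (J S) (J S'))) := by
  refine ⟨(Phi g).asEquivalence, ⟨?_⟩⟩
  exact NatIso.ofComponents (fun F => ((shriekIso g).app F.obj).symm) (by
    intro F G α
    exact (shriekIso g).inv.naturality α.hom)

end H10PT.Shriek
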