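import Mathlib
import Groth.Prelude.Def_AlgSpRep
import Groth.Agent.Lib.Helper10.SpShriek5
import Groth.Agent.Lib.Helper16.SchLocus
import Groth.Agent.Lib.Helper16.AffRep

/-!
# Transfer of properties along restriction `Sp S' ⥤ Sp S` for a monomorphism `g : S ⟶ S'`

* `hom_yon_mono_ext`: `h_S` is subterminal in `Sp S'` when `g` is a monomorphism;
* `isIso_Leps`: the counit `j_! j⁻¹ F' ⟶ F'` is an isomorphism for `F'` over `h_S`;
* `isRepresentable_of_res`, `isRepresentable_res`;
* `isQuasiSeparatedSp_res`, `isQuasiCompactSp_res`, `isAffineMor_res`.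
-/

set_option autoImplicit false
universe u
open CategoryTheory CategoryTheory.Limits AlgebraicGeometry Opposite

namespace H10PT.ResT

open AlgSp Groth.Agent.Lib.Helper16 H10PT.SpBC H10PT.Shriek

variable {S S' : Scheme.{u}} (g : S ⟶ S')

noncomputable instance preservesLimitsOfSize_res : PreservesLimitsOfSize.{u, u} (res g) :=
  (resAdj g).rightAdjoint_preservesLimits

/-- Two morphisms to `h_S` agree when `S ⟶ S'` is a monomorphism. -/
theorem hom_yon_mono_ext [Mono g] {G : Sp S'} (a b : G ⟶ (yon S').obj (Over.mk g)) : a = b := by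
  apply Sheaf.hom_ext
  ext T x
  apply ULift.ext
  apply Over.OverMorphism.ext
  refine (cancel_mono g).1 ?_
  exact (Over.w (a.hom.app T x).down).trans (Over.w (b.hom.app T x).down).symm

/-- The counit `j_! j⁻¹ F' ⟶ F'` is an isomorphism if `F'` maps to `h_S` and `S ⟶ S'` is a monomorphism. -/
theorem isIso_Leps [Mono g] {F' : Sp S'} (p : F' ⟶ (yon S').obj (Over.mk g)) : IsIso (Leps g F') := by
  have hm : Mono (terminal.from ((yon S').obj (Over.mk g))) := ⟨fun a b _ => hom_yon_mono_ext g a b⟩
  have sq1 : IsPullback (𝟙 F') p p (𝟙 _) := IsPullback.id_horiz p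
  have sq2 : IsPullback (𝟙 _) (𝟙 _) (terminal.from ((yon S').obj (Over.mk g)))
      (terminal.from ((yon S').obj (Over.mk g))) := IsKernelPair.id_of_mono _
  have sq3 := (sq1.paste_vert sq2).flip
  have e1 : p ≫ terminal.from ((yon S').obj (Over.mk g)) = terminal.from F' := terminal.hom_ext _ _
  rw [e1] at sq3
  have h2 := isPullback_L_res g F'
  have h3 : (h2.isoIsPullback _ _ sq3).hom ≫ 𝟙 F' = Leps g F' := h2.isoIsPullback_hom_snd _ _ sq3
  rw [← h3]
  infer_instance

/-- If the restriction of `F'` (over `h_S`) is representable, so is `F'`. -/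
theorem isRepresentable_of_res [Mono g] {F' : Sp S'} (p : F' ⟶ (yon S').obj (Over.mk g))
    (h : ((res g).obj F').obj.IsRepresentable) : F'.obj.IsRepresentable := by
  obtain ⟨T, ⟨e⟩⟩ := SchLocus.exists_iso_yon_of_isRepresentable h
  have := isIso_Leps g p
  have i1 : F' ≅ (L g).obj ((res g).obj F') := (asIso (Leps g F')).symm
  have i2 : (L g).obj ((res g).obj F') ≅ (L g).obj ((yon S).obj T) := (L g).mapIso e.symm
  have i3 : (L g).obj ((yon S).obj T) ≅ (yon S').obj ((Over.map g).obj T) := (kapIso g (can g T)).symm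
  exact SchLocus.isRepresentable_of_iso (i1 ≪≫ i2 ≪≫ i3)

/-- The restriction of a representable sheaf is representable. -/
theorem isRepresentable_res {F' : Sp S'} (h : F'.obj.IsRepresentable) :
    ((res g).obj F').obj.IsRepresentable := by
  obtain ⟨M, ⟨e⟩⟩ := SchLocus.exists_iso_yon_of_isRepresentable h
  exact SchLocus.isRepresentable_of_iso ((isoRes g M ≪≫ (res g).mapIso e).symm)

/-- Restriction preserves quasi-separatedness. -/
theorem isQuasiSeparatedSp_res {F' : Sp S'} (h : IsQuasiSeparatedSp F') :
    IsQuasiSeparatedSp ((res g).obj F') := by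
  have h1 : RepWith @QuasiCompact ((res g).map (Limits.diag F')) := repWith_res g _ _ h
  have h2 : (res g).map (Limits.diag F') ≫ prodComparison (res g) F' F' =
      Limits.diag ((res g).obj F') := by
    apply Limits.prod.hom_ext
    · rw [Category.assoc, prodComparison_fst, ← Functor.map_comp, prod.lift_fst, prod.lift_fst,
        CategoryTheory.Functor.map_id]
    · rw [Category.assoc, prodComparison_snd, ← Functor.map_comp, prod.lift_snd, prod.lift_snd,
        CategoryTheory.Functor.map_id]
  show RepWith @QuasiCompact (Limits.diag ((res g).obj F'))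
  rw [← h2]
  exact MorphismProperty.RespectsIso.postcomp _ _ _ h1

/-- Restriction preserves quasi-compactness of sheaves over `h_S`. -/
theorem isQuasiCompactSp_res [Mono g] {F' : Sp S'} (p : F' ⟶ (yon S').obj (Over.mk g))
    (h : IsQuasiCompactSp F') : IsQuasiCompactSp ((res g).obj F') := by
  obtain ⟨W, a, he, hs, hc⟩ := h
  refine ⟨Over.mk (pullback.snd W.hom g), (isoRes g W).hom ≫ (res g).map a, ?_, ?_, ?_⟩
  · exact MorphismProperty.RespectsIso.precomp _ _ _ (repWith_res g _ a he)
  · exact MorphismProperty.RespectsIso.precomp _ _ _ (repWith_res g _ a hs)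
  · obtain ⟨φ, -⟩ := (yon S').map_surjective (a ≫ p)
    have hw : φ.left ≫ g = W.hom := Over.w φ
    have key : ∀ (f : W.left ⟶ S') (k : W.left ⟶ S), k ≫ g = f → IsIso (pullback.fst f g) := by
      intro f k hk
      subst hk
      infer_instance
    have hiso : IsIso (pullback.fst W.hom g) := key _ _ hw
    have : CompactSpace ↥W.left := hc
    exact (Scheme.homeoOfIso (asIso (pullback.fst W.hom g))).symm.compactSpace

/-- Restriction preserves affine morphisms of algebraic spaces. -/
theorem isAffineMor_res_of_repWith {A B : Sp S'} (f : A ⟶ B) (hf : RepWith @IsAffineHom f) :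
    IsAffineMor ((res g).map f) :=
  isAffineMor_of_repWith_le_isAffineHom le_rfl _ (repWith_res g @IsAffineHom f hf)

end H10PT.ResT
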