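import Mathlib

/-!
# The spectrum of a local ring of a scheme as a limit of basic open neighbourhoods

For an affine open `U` of a scheme `S` and a point `s ∈ U`, the basic opens `D(f) ⊆ U` containing `s`
form a cofiltered system of schemes over `S` with limit `Spec 𝒪_{S,s}`.
-/

set_option autoImplicit false
universe u
open CategoryTheory CategoryTheory.Limits AlgebraicGeometry Opposite

namespace H10PT.StalkLim

variable {S : Scheme.{u}} (U : S.Opens) (s : S)

/-- Sections over `U` whose basic open contains `s`. -/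
structure Idx where
  /-- the section -/
  f : Γ(S, U)
  /-- the point lies in the basic open -/
  mem : s ∈ S.basicOpen f

instance : Preorder (Idx U s) where
  le a b := S.basicOpen a.f ≤ S.basicOpen b.f
  le_refl _ := le_rfl
  le_trans _ _ _ h1 h2 := le_trans h1 h2

variable {U s}

/-- The section `1`. -/
def Idx.one (hs : s ∈ U) : Idx U s :=
  ⟨1, by rw [Scheme.basicOpen_of_isUnit _ isUnit_one]; exact hs⟩

/-- The product of two sections. -/
def Idx.mul (a b : Idx U s) : Idx U s :=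
  ⟨a.f * b.f, by rw [Scheme.basicOpen_mul]; exact ⟨a.mem, b.mem⟩⟩

theorem Idx.mul_le_left (a b : Idx U s) : a.mul b ≤ a := by
  show S.basicOpen (a.f * b.f) ≤ S.basicOpen a.f
  rw [Scheme.basicOpen_mul]
  exact inf_le_left

theorem Idx.mul_le_right (a b : Idx U s) : a.mul b ≤ b := by
  show S.basicOpen (a.f * b.f) ≤ S.basicOpen b.f
  rw [Scheme.basicOpen_mul]
  exact inf_le_right

theorem isCofiltered (hs : s ∈ U) : IsCofiltered (Idx U s) := by
  have : Nonempty (Idx U s) := ⟨Idx.one hs⟩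
  have : IsDirected (Idx U s) (· ≥ ·) := ⟨fun a b => ⟨a.mul b, a.mul_le_left b, a.mul_le_right b⟩⟩
  infer_instance

variable (U s)

/-- The system of basic opens, over `S`. -/
noncomputable def E : Idx U s ⥤ Over S where
  obj a := Over.mk (S.basicOpen a.f).ι
  map {a b} h := Over.homMk (S.homOfLE (leOfHom h)) (S.homOfLE_ι _)
  map_id a := by
    apply Over.OverMorphism.ext
    refine (cancel_mono (S.basicOpen a.f).ι).1 ?_
    simp
  map_comp {a b c} h k := by
    apply Over.OverMorphism.ext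
    refine (cancel_mono (S.basicOpen c.f).ι).1 ?_
    simp

/-- The cone with vertex `Spec 𝒪_{S,s}`. -/
noncomputable def cE : Cone (E U s) where
  pt := Over.mk (S.fromSpecStalk s)
  π :=
    { app := fun a => Over.homMk ((S.basicOpen a.f).fromSpecStalkOfMem s a.mem)
        (Scheme.Opens.fromSpecStalkOfMem_ι _ _ _)
      naturality := by
        intro a b h
        apply Over.OverMorphism.ext
        refine (cancel_mono (S.basicOpen b.f).ι).1 ?_
        simp [E] }

variable {U s}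

/-- A morphism to `S` factoring through all basic opens around `s` factors through `Spec 𝒪_{S,s}`. -/
theorem exists_lift (hU : IsAffineOpen U) (hs : s ∈ U) {T : Scheme.{u}} (g : T ⟶ S)
    (hg : ∀ a : Idx U s, ∃ t : T ⟶ (S.basicOpen a.f), t ≫ (S.basicOpen a.f).ι = g) :
    ∃ m : T ⟶ Spec (S.presheaf.stalk s), m ≫ S.fromSpecStalk s = g := by
  have hmem : ∀ (a : Idx U s) (x : T), g x ∈ S.basicOpen a.f := by
    intro a x
    obtain ⟨t, ht⟩ := hg a
    rw [← ht]
    exact (t x).2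
  have e : (⊤ : T.Opens) ≤ g ⁻¹ᵁ U := fun x _ => S.basicOpen_le _ (hmem (Idx.one hs) x)
  obtain ⟨ψ, hψ⟩ : ∃ ψ : Γ(S, U) ⟶ Γ(T, ⊤), ψ = g.appLE U ⊤ e := ⟨_, rfl⟩
  have hunit : ∀ f : Γ(S, U), s ∈ S.basicOpen f → IsUnit (ψ f) := by
    intro f hf
    apply RingedSpace.isUnit_of_isUnit_germ
    intro x hx
    have h1 : x ∈ T.basicOpen (ψ f) := by
      rw [hψ, Scheme.basicOpen_appLE]
      exact ⟨trivial, hmem ⟨f, hf⟩ x⟩
    exact (Scheme.mem_basicOpen T (ψ f) x hx).1 h1
  let alg : Algebra Γ(S, U) (S.presheaf.stalk s) := TopCat.Presheaf.algebra_section_stalk S.presheaf ⟨s, hs⟩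
  have hloc : IsLocalization.AtPrime (S.presheaf.stalk s) (hU.primeIdealOf ⟨s, hs⟩).asIdeal :=
    hU.isLocalization_stalk ⟨s, hs⟩
  have hunit' : ∀ y : (hU.primeIdealOf ⟨s, hs⟩).asIdeal.primeCompl, IsUnit (ψ.hom y.1) := by
    intro y
    apply hunit
    have h1 : IsUnit (algebraMap Γ(S, U) (S.presheaf.stalk s) y.1) :=
      (IsLocalization.AtPrime.isUnit_to_map_iff (S.presheaf.stalk s)
        (hU.primeIdealOf ⟨s, hs⟩).asIdeal y.1).2 y.2
    exact (Scheme.mem_basicOpen S y.1 s hs).2 h1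
  obtain ⟨lam, hlam⟩ : ∃ lam : S.presheaf.stalk s ⟶ Γ(T, ⊤), S.presheaf.germ U s hs ≫ lam = ψ := by
    let lam0 : (S.presheaf.stalk s) →+* Γ(T, ⊤) :=
      IsLocalization.lift (M := (hU.primeIdealOf ⟨s, hs⟩).asIdeal.primeCompl) hunit'
    refine ⟨CommRingCat.ofHom lam0, ?_⟩
    ext y
    exact IsLocalization.lift_eq hunit' y
  refine ⟨T.toSpecΓ ≫ Spec.map lam, ?_⟩
  rw [← hU.fromSpecStalk_eq_fromSpecStalk hs, IsAffineOpen.fromSpecStalk, Category.assoc,
    ← Spec.map_comp_assoc, hlam, hψ]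
  have h1 := Scheme.Opens.toSpecΓ_SpecMap_appLE g U ⊤ e
  rw [Scheme.Opens.toSpecΓ_top, Category.assoc] at h1
  have : IsIso (⊤ : T.Opens).ι := (inferInstance : IsIso (Scheme.topIso T).hom)
  rw [← cancel_epi (⊤ : T.Opens).ι, reassoc_of% h1, hU.toSpecΓ_fromSpec, Scheme.Hom.resLE_comp_ι]

/-- `Spec 𝒪_{S,s}` is the limit of the basic opens of `U` containing `s`. -/
theorem isLimit_cE (hU : IsAffineOpen U) (hs : s ∈ U) : Nonempty (IsLimit (cE U s)) := by
  refine ⟨IsLimit.ofExistsUnique fun t => ?_⟩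
  obtain ⟨m, hm⟩ := exists_lift hU hs t.pt.hom (fun a => ⟨(t.π.app a).left, Over.w (t.π.app a)⟩)
  refine ⟨Over.homMk m hm, ?_, ?_⟩
  · intro a
    apply Over.OverMorphism.ext
    refine (cancel_mono (S.basicOpen a.f).ι).1 ?_
    have h1 : (t.π.app a).left ≫ (S.basicOpen a.f).ι = t.pt.hom := Over.w (t.π.app a)
    have h2 : (Over.homMk m hm ≫ (cE U s).π.app a).left =
        m ≫ (S.basicOpen a.f).fromSpecStalkOfMem s a.mem := rfl
    exact ((congrArg (· ≫ (S.basicOpen a.f).ι) h2).trans ((Category.assoc _ _ _).trans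
      ((congrArg (m ≫ ·) (Scheme.Opens.fromSpecStalkOfMem_ι _ s a.mem)).trans hm))).trans h1.symm
  · intro m' _
    apply Over.OverMorphism.ext
    refine (cancel_mono (S.fromSpecStalk s)).1 ?_
    have h1 : m'.left ≫ S.fromSpecStalk s = t.pt.hom := Over.w m'
    show m'.left ≫ _ = m ≫ _
    rw [h1, hm]

end H10PT.StalkLim
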