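import Mathlib
import Groth.Prelude.Def_AlgSpRep
import Groth.Agent.Lib.Helper10.StalkLimit
import Groth.Agent.Lib.Helper10.SpResTransfer
import Groth.Agent.Lib.Helper6.LimSp21
import Groth.Agent.Lib.Helper6.LimSp15
import Groth.Agent.Lib.Helper16.SpCoprod
import Groth.Agent.Lib.Helper16.FibreProduct
import Groth.Agent.Lib.Helper16.QuasiCompactMor

/-!
# A quasi-compact quasi-separated algebraic space which is a scheme over every local ring of the base is a scheme

`mem_schLocus_of_local`: if `X ×_S Spec 𝒪_{S,s}` is a scheme then the points of `X` over `s` lie in the schematic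
locus.  The base is restricted to an affine open neighbourhood of `s` through the restriction functor of
`SpBaseChange`, and the limit theorem `main10007` of helper6 is applied to the system of basic open neighbourhoods.
-/

set_option autoImplicit false
universe u
open CategoryTheory CategoryTheory.Limits AlgebraicGeometry Opposite

namespace H10PT.LocBC

open AlgSp Groth.Agent.Lib.Helper16 Groth.Agent.Lib.Helper6.LimSp H10PT.SpBC H10PT.Shriek H10PT.ResT
  H10PT.StalkLim

/-- The functor `X ⨯ -` preserves connected limits (universe-generic form). -/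
theorem isLimit_prod_mapCone {C : Type*} [Category C] [HasBinaryProducts C] {J : Type*} [Category J]
    [IsConnected J] (X : C) {K : J ⥤ C} {c : Cone K} (l : IsLimit c) :
    Nonempty (IsLimit ((prod.functor.obj X).mapCone c)) := by
  obtain ⟨j₀⟩ := (inferInstance : Nonempty J)
  refine ⟨IsLimit.ofExistsUnique fun s => ?_⟩
  obtain ⟨σ, hσ⟩ : ∃ σ : ∀ j, s.pt ⟶ X ⨯ K.obj j, ∀ j, σ j = s.π.app j :=
    ⟨fun j => s.π.app j, fun _ => rfl⟩
  have hw : ∀ {j₁ j₂ : J} (f : j₁ ⟶ j₂), σ j₁ ≫ prod.map (𝟙 X) (K.map f) = σ j₂ := by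
    intro j₁ j₂ f
    rw [hσ, hσ]
    exact s.w f
  have hconst : ∀ j j', σ j ≫ prod.fst = σ j' ≫ prod.fst := by
    intro j j'
    refine constant_of_preserves_morphisms (fun j => σ j ≫ prod.fst) ?_ j j'
    intro j₁ j₂ f
    show σ j₁ ≫ prod.fst = σ j₂ ≫ prod.fst
    rw [← hw f, Category.assoc, prod.map_fst, Category.comp_id]
  let t : Cone K := ⟨s.pt, ⟨fun j => σ j ≫ prod.snd, by
    intro j₁ j₂ f
    show 𝟙 _ ≫ σ j₂ ≫ prod.snd = (σ j₁ ≫ prod.snd) ≫ K.map f
    rw [Category.id_comp, ← hw f, Category.assoc, Category.assoc, prod.map_snd]⟩⟩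
  have ht : ∀ j, t.π.app j = σ j ≫ prod.snd := fun _ => rfl
  refine ⟨prod.lift (σ j₀ ≫ prod.fst) (l.lift t), ?_, ?_⟩
  · intro j
    rw [← hσ]
    show prod.lift (σ j₀ ≫ prod.fst) (l.lift t) ≫ prod.map (𝟙 X) (c.π.app j) = σ j
    apply Limits.prod.hom_ext
    · rw [Category.assoc, prod.map_fst, Category.comp_id, prod.lift_fst]
      exact hconst j₀ j
    · rw [Category.assoc, prod.map_snd, prod.lift_snd_assoc, l.fac, ht]
  · intro m hm
    change s.pt ⟶ X ⨯ c.pt at m
    have hm' : ∀ j, m ≫ prod.map (𝟙 X) (c.π.app j) = σ j := by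
      intro j
      rw [hσ]
      exact hm j
    apply Limits.prod.hom_ext
    · rw [prod.lift_fst, ← hm' j₀, Category.assoc, prod.map_fst, Category.comp_id]
    · rw [prod.lift_snd]
      apply l.uniq t
      intro j
      rw [ht, ← hm' j, Category.assoc, Category.assoc, prod.map_snd]

variable {S : Scheme.{u}}

/-- The product with `X` is the pullback along any morphism to the terminal sheaf `h_S`. -/
theorem isPullback_prod (X Z : Sp S) (q : X ⟶ (yon S).obj (Over.mk (𝟙 S)))
    (m : Z ⟶ (yon S).obj (Over.mk (𝟙 S))) :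
    IsPullback (prod.fst : X ⨯ Z ⟶ X) prod.snd q m := by
  have t : IsTerminal ((yon S).obj (Over.mk (𝟙 S))) := SpCoprod.isTerminalOne S
  have h := IsPullback.of_is_product' (prodIsProd X Z) t
  rwa [t.hom_ext (t.from X) q, t.hom_ext (t.from Z) m] at h

/-- `X ⨯ A ⟶ X ⨯ B` is a base change of `A ⟶ B`. -/
theorem isPullback_prod_map (X : Sp S) {A B : Sp S} (e : A ⟶ B) :
    IsPullback (prod.map (𝟙 X) e) (prod.snd : X ⨯ A ⟶ A) (prod.snd : X ⨯ B ⟶ B) e := by
  have right : IsPullback (prod.fst : X ⨯ B ⟶ X) prod.snd (terminal.from X) (terminal.from B) :=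
    IsPullback.of_hasBinaryProduct' X B
  have big : IsPullback (prod.map (𝟙 X) e ≫ prod.fst) (prod.snd : X ⨯ A ⟶ A) (terminal.from X)
      (e ≫ terminal.from B) := by
    rw [prod.map_fst, Category.comp_id, terminal.comp_from]
    exact IsPullback.of_hasBinaryProduct' X A
  exact IsPullback.of_right big (prod.map_snd _ _) right

theorem mem_schLocus_of_local {X : Sp S} (hX : IsAlgSpace X) (q : X ⟶ (yon S).obj (Over.mk (𝟙 S)))
    (hqc : IsQuasiCompactMor q) (hqs : IsQuasiSeparatedMor q) (x : Points X) (s : S)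
    (hs : Points.map q x = Points.schemeHomeo (Over.mk (𝟙 S)) s)
    (hrep : (X ⨯ (yon S).obj (Over.mk (S.fromSpecStalk s))).obj.IsRepresentable) :
    x ∈ SchLocus.schLocus X := by
  obtain ⟨_, ⟨(U : S.Opens), hU, rfl⟩, hsU, -⟩ :=
    S.isBasis_affineOpens.exists_subset_of_mem_open (Set.mem_univ s) isOpen_univ
  have hU : IsAffineOpen U := hU
  have hsU : s ∈ U := hsU
  have hUaff : IsAffine (U : Scheme) := hU
  obtain ⟨g, hg⟩ : ∃ g : (U : Scheme) ⟶ S, g = U.ι := ⟨_, rfl⟩
  have hgm : Mono g := by rw [hg]; infer_instance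
  have hcof : IsCofiltered (Idx U s) := isCofiltered hsU
  have hconn : IsConnected (Idx U s) := IsCofiltered.isConnected _
  obtain ⟨hlim⟩ := isLimit_cE hU hsU
  have hc1 : IsLimit ((yon S).mapCone (cE U s)) := isLimitOfPreserves (yon S) hlim
  obtain ⟨hc2⟩ := isLimit_prod_mapCone X hc1
  have hc : IsLimit ((res g).mapCone ((prod.functor.obj X).mapCone ((yon S).mapCone (cE U s)))) :=
    isLimitOfPreserves (res g) hc2
  -- the stages over `S`
  have sq : ∀ a : Idx U s, IsPullback (prod.fst : X ⨯ (yon S).obj ((E U s).obj a) ⟶ X) prod.snd q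
      ((yon S).map (Over.homMk (S.basicOpen a.f).ι : (E U s).obj a ⟶ Over.mk (𝟙 S))) :=
    fun a => isPullback_prod _ _ _ _
  have hYalg : ∀ a : Idx U s, IsAlgSpace (X ⨯ (yon S).obj ((E U s).obj a)) := fun a =>
    isAlgSpace_of_isPullback hX (IsAlgSpace.yon_obj _).diag (IsAlgSpace.yon_obj _) (sq a)
  have hfst : ∀ a : Idx U s,
      RepWith @IsOpenImmersion (prod.fst : X ⨯ (yon S).obj ((E U s).obj a) ⟶ X) := fun a =>
    (RepWith @IsOpenImmersion).of_isPullback (sq a).flip ((repWith_yon_map_iff _ _).2 (by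
      show IsOpenImmersion (S.basicOpen a.f).ι
      infer_instance))
  have hcomp : ∀ a : Idx U s, CompactSpace ↥((E U s).obj a).left := fun a =>
    isCompact_iff_compactSpace.mp (hU.basicOpen a.f).isCompact
  have hYqc : ∀ a : Idx U s, IsQuasiCompactSp (X ⨯ (yon S).obj ((E U s).obj a)) := fun a => by
    have := hcomp a
    exact hqc (IsAlgSpace.yon_obj _) (isQuasiCompactSp_yon_of_compactSpace _) _ prod.fst prod.snd (sq a)
  have hXqs : IsQuasiSeparatedSp X :=
    isQuasiSeparatedSp_of_isQuasiSeparatedMor q hqs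
      ((repWith_diag_yon_iff @QuasiCompact _).2 (by
        show QuasiCompact (pullback.diagonal (𝟙 S))
        exact (quasiSeparated_iff _).1 inferInstance))
  have hYqs : ∀ a : Idx U s, IsQuasiSeparatedSp (X ⨯ (yon S).obj ((E U s).obj a)) := fun a =>
    isQuasiSeparatedSp_of_openImm prod.fst (hfst a) hXqs
  have p : ∀ a : Idx U s, X ⨯ (yon S).obj ((E U s).obj a) ⟶ (yon S).obj (Over.mk g) := fun a =>
    prod.snd ≫ (yon S).map (Over.homMk (S.homOfLE (S.basicOpen_le a.f)) (by
      subst hg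
      exact S.homOfLE_ι _))
  -- the hypotheses of the limit theorem
  have hD : ∀ a, IsAlgSpace ((((E U s ⋙ yon S) ⋙ prod.functor.obj X) ⋙ res g).obj a) := fun a =>
    isAlgSpace_res g (hYalg a)
  have hDa : ∀ (a b : Idx U s) (φ : a ⟶ b),
      IsAffineMor ((((E U s ⋙ yon S) ⋙ prod.functor.obj X) ⋙ res g).map φ) := by
    intro a b φ
    have h1 : IsAffine ((E U s).obj a).left := hU.basicOpen a.f
    have h2 : IsAffine ((E U s).obj b).left := hU.basicOpen b.f
    have haff : IsAffineHom ((E U s).map φ).left := inferInstance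
    exact isAffineMor_res_of_repWith g _ ((RepWith @IsAffineHom).of_isPullback
      (isPullback_prod_map X ((yon S).map ((E U s).map φ))).flip ((repWith_yon_map_iff _ _).2 haff))
  have hqc' : ∀ a, IsQuasiCompactSp ((((E U s ⋙ yon S) ⋙ prod.functor.obj X) ⋙ res g).obj a) := fun a =>
    isQuasiCompactSp_res g (p a) (hYqc a)
  have hqs' : ∀ a, IsQuasiSeparatedSp ((((E U s ⋙ yon S) ⋙ prod.functor.obj X) ⋙ res g).obj a) := fun a =>
    isQuasiSeparatedSp_res g (hYqs a)
  have hX' : ((res g).mapCone ((prod.functor.obj X).mapCone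
      ((yon S).mapCone (cE U s)))).pt.obj.IsRepresentable :=
    isRepresentable_res g hrep
  obtain ⟨a, ha⟩ := main10007 (U : Scheme) (((E U s ⋙ yon S) ⋙ prod.functor.obj X) ⋙ res g) hD hDa hqc' hqs'
    _ hc hX'
  have hYrep : (X ⨯ (yon S).obj ((E U s).obj a)).obj.IsRepresentable := isRepresentable_of_res g (p a) ha
  apply SchLocus.range_map_subset_schLocus prod.fst (hfst a) hYrep
  obtain ⟨z, hz1, -⟩ := exists_point_of_isPullback (sq a) x (Points.schemeHomeo ((E U s).obj a) ⟨s, a.mem⟩) (by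
    rw [hs, Points.map_yon_map_apply]
    rfl)
  exact ⟨z, hz1⟩

end H10PT.LocBC
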