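import Mathlib

/-!
# Localization functors for a left calculus of fractions preserve finite colimits
-/

set_option autoImplicit false

open CategoryTheory CategoryTheory.Limits

universe v' v u' u

namespace H10Loc

section Fin

variable {C : Type u} [Category.{v} C] {D : Type u'} [Category.{v'} D]
  (L : C ⥤ D) (W : MorphismProperty C) [W.HasLeftCalculusOfFractions] [L.IsLocalization W]

include W in
/-- Finitely many parallel pairs identified by `L` are equalized by a single morphism in `W`. -/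
lemma exists_common_equalizing {ι : Type*} [Finite ι] {Y : C} (A : ι → C)
    (a b : ∀ i, A i ⟶ Y) (h : ∀ i, L.map (a i) = L.map (b i)) :
    ∃ (Y' : C) (s : Y ⟶ Y') (_ : W s), ∀ i, a i ≫ s = b i ≫ s := by
  classical
  haveI := Fintype.ofFinite ι
  suffices ∀ S : Finset ι, ∃ (Y' : C) (s : Y ⟶ Y') (_ : W s), ∀ i ∈ S, a i ≫ s = b i ≫ s by
    obtain ⟨Y', s, hs, h'⟩ := this Finset.univ
    exact ⟨Y', s, hs, fun i => h' i (Finset.mem_univ i)⟩
  intro S
  induction S using Finset.induction_on with
  | empty => exact ⟨Y, 𝟙 Y, W.id_mem Y, fun i hi => absurd hi (Finset.notMem_empty i)⟩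
  | insert i₀ S _ ih =>
    obtain ⟨Y', s, hs, h'⟩ := ih
    have h1 : L.map (a i₀ ≫ s) = L.map (b i₀ ≫ s) := by rw [L.map_comp, L.map_comp, h i₀]
    obtain ⟨Y'', s', hs', h2⟩ := (MorphismProperty.map_eq_iff_postcomp L W _ _).1 h1
    refine ⟨Y'', s ≫ s', W.comp_mem _ _ hs hs', fun i hi => ?_⟩
    rcases Finset.mem_insert.1 hi with hi | hi
    · subst hi
      simpa only [Category.assoc] using h2
    · rw [← Category.assoc, h' i hi, Category.assoc]

include W in
/-- Finitely many morphisms `L.obj (A i) ⟶ L.obj Y` have a common denominator. -/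
lemma exists_common_denominator {ι : Type*} [Finite ι] {Y : C} (A : ι → C)
    (t : ∀ i, L.obj (A i) ⟶ L.obj Y) :
    ∃ (Y' : C) (s : Y ⟶ Y') (_ : W s), ∀ i, ∃ g : A i ⟶ Y', t i ≫ L.map s = L.map g := by
  classical
  haveI := Fintype.ofFinite ι
  suffices ∀ S : Finset ι, ∃ (Y' : C) (s : Y ⟶ Y') (_ : W s),
      ∀ i ∈ S, ∃ g : A i ⟶ Y', t i ≫ L.map s = L.map g by
    obtain ⟨Y', s, hs, h'⟩ := this Finset.univ
    exact ⟨Y', s, hs, fun i => h' i (Finset.mem_univ i)⟩
  intro S
  induction S using Finset.induction_on with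
  | empty => exact ⟨Y, 𝟙 Y, W.id_mem Y, fun i hi => absurd hi (Finset.notMem_empty i)⟩
  | insert i₀ S _ ih =>
    obtain ⟨Y', s, hs, h'⟩ := ih
    obtain ⟨φ, hφ⟩ := Localization.exists_leftFraction L W (t i₀ ≫ L.map s)
    refine ⟨φ.Y', s ≫ φ.s, W.comp_mem _ _ hs φ.hs, fun i hi => ?_⟩
    rcases Finset.mem_insert.1 hi with hi | hi
    · subst hi
      refine ⟨φ.f, ?_⟩
      rw [L.map_comp, ← Category.assoc, hφ, MorphismProperty.LeftFraction.map_comp_map_s]
    · obtain ⟨g, hg⟩ := h' i hi
      exact ⟨g ≫ φ.s, by rw [L.map_comp, ← Category.assoc, hg, L.map_comp]⟩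

include W in
/-- A localization functor for a class of morphisms with a left calculus of fractions
preserves finite colimits. -/
theorem preservesFiniteColimits_of_left : PreservesFiniteColimits L := by
  have hess := Localization.essSurj L W
  refine ⟨fun J _ _ => ⟨fun {K} => ⟨fun {c} hc => ⟨?_⟩⟩⟩⟩
  apply IsColimit.ofExistsUnique
  intro s
  obtain ⟨Y, ⟨e⟩⟩ : ∃ Y : C, Nonempty (L.obj Y ≅ s.pt) := ⟨_, ⟨L.objObjPreimageIso s.pt⟩⟩
  -- uniqueness
  have huniq : ∀ a b : L.obj c.pt ⟶ L.obj Y,
      (∀ j, L.map (c.ι.app j) ≫ a = L.map (c.ι.app j) ≫ b) → a = b := by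
    intro a b hab
    obtain ⟨Y', σ, hσ, hg⟩ := exists_common_denominator L W (fun _ : Bool => c.pt)
      (fun i => if i then a else b)
    obtain ⟨fa, hfa⟩ := hg true
    obtain ⟨fb, hfb⟩ := hg false
    simp only [if_true] at hfa
    simp only [Bool.false_eq_true, if_false] at hfb
    haveI : IsIso (L.map σ) := Localization.inverts L W σ hσ
    obtain ⟨Y'', σ', hσ', heq⟩ := exists_common_equalizing L W (fun j : J => K.obj j)
      (fun j => c.ι.app j ≫ fa) (fun j => c.ι.app j ≫ fb) (by
        intro j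
        rw [L.map_comp, L.map_comp, ← hfa, ← hfb, ← Category.assoc, ← Category.assoc, hab j])
    haveI : IsIso (L.map σ') := Localization.inverts L W σ' hσ'
    have h1 : fa ≫ σ' = fb ≫ σ' := by
      apply hc.hom_ext
      intro j
      rw [← Category.assoc, ← Category.assoc]
      exact heq j
    have h2 : L.map fa = L.map fb := by
      rw [← cancel_mono (L.map σ'), ← L.map_comp, ← L.map_comp, h1]
    rw [← cancel_mono (L.map σ), hfa, hfb, h2]
  -- existence
  obtain ⟨Y', σ, hσ, hg⟩ := exists_common_denominator L W (fun j : J => K.obj j)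
    (fun j => s.ι.app j ≫ e.inv)
  choose g hg using hg
  obtain ⟨Y'', σ', hσ', hnat⟩ := exists_common_equalizing L W
    (ι := Σ (p : J × J), (p.1 ⟶ p.2)) (fun x => K.obj x.1.1)
    (fun x => K.map x.2 ≫ g x.1.2) (fun x => g x.1.1)
    (by
      rintro ⟨⟨j, j'⟩, u⟩
      have hw : L.map (K.map u) ≫ s.ι.app j' = s.ι.app j := s.w u
      show L.map (K.map u ≫ g j') = L.map (g j)
      rw [L.map_comp, ← hg j', ← hg j, ← hw]
      simp only [Category.assoc])
  let c' : Cocone K :=
    { pt := Y''
      ι :=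
        { app := fun j => g j ≫ σ'
          naturality := by
            intro j j' u
            have := hnat ⟨⟨j, j'⟩, u⟩
            simp only [Category.assoc] at this
            simpa using this } }
  haveI : IsIso (L.map (σ ≫ σ')) := Localization.inverts L W _ (W.comp_mem _ _ hσ hσ')
  have hfac : ∀ j, L.map (c.ι.app j) ≫ L.map (hc.desc c') ≫ inv (L.map (σ ≫ σ')) =
      s.ι.app j ≫ e.inv := by
    intro j
    have h1 : c.ι.app j ≫ hc.desc c' = g j ≫ σ' := hc.fac c' j
    rw [← Category.assoc, ← L.map_comp, h1, IsIso.comp_inv_eq, L.map_comp, ← hg j, L.map_comp]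
    simp only [Category.assoc]
  refine ⟨L.map (hc.desc c') ≫ inv (L.map (σ ≫ σ')) ≫ e.hom, ?_, ?_⟩
  · intro j
    show L.map (c.ι.app j) ≫ L.map (hc.desc c') ≫ inv (L.map (σ ≫ σ')) ≫ e.hom = s.ι.app j
    have := congrArg (fun t => t ≫ e.hom) (hfac j)
    simpa only [Category.assoc, Iso.inv_hom_id, Category.comp_id] using this
  · intro d' hd'
    have h3 : d' ≫ e.inv = L.map (hc.desc c') ≫ inv (L.map (σ ≫ σ')) := by
      apply huniq
      intro j
      rw [hfac j, ← Category.assoc]
      have : L.map (c.ι.app j) ≫ d' = s.ι.app j := hd' j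
      rw [this]
    rw [← Category.assoc, ← h3, Category.assoc, e.inv_hom_id, Category.comp_id]

end Fin

end H10Loc
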