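/-
Helper10 library: a variant of the local criterion of flatness with a "Tor map is zero" hypothesis.

* `lemmaA`: for `R → R'`, `I ⊆ R`, `𝔟 ⊇ I R'` and `M` with `M/IM` flat over `R/I`, the kernel of
  `𝔟 ⊗[R] M → R' ⊗[R] M` is spanned by the images of `ker (I ⊗ M → M)` under the maps
  `i ⊗ m ↦ (l i) ⊗ m`, `l ∈ R'`;
* `lemmaB`: injectivity of `J ⊗ Y → Y` for a localization `Y` of `X`;
* `lemmaC`: transfer of `lemmaA` to a base change `X` of `M` along `R → R'`;
* `rInj_abstract`, `rInj_main`: the assembled statements.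
-/
import Mathlib
import Groth.Agent.Lib.Helper8.LocalCriterion3

set_option autoImplicit false
universe u
open TensorProduct

namespace H10LF

section Chase

variable {R : Type u} [CommRing R] {R' : Type u} [CommRing R'] [Algebra R R']
  {P : Type u} [AddCommGroup P] [Module R P]

/-- preimage of `𝔟` under `π`. -/
def Gsub (π : P →ₗ[R] R') (𝔟 : Ideal R') : Submodule R P := (𝔟.restrictScalars R).comap π

lemma mem_Gsub (π : P →ₗ[R] R') (𝔟 : Ideal R') (p : P) : p ∈ Gsub π 𝔟 ↔ π p ∈ 𝔟 := Iff.rfl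

/-- the induced map `G → 𝔟`. -/
def piG (π : P →ₗ[R] R') (𝔟 : Ideal R') : ↥(Gsub π 𝔟) →ₗ[R] ↥𝔟 where
  toFun g := ⟨π g.1, g.2⟩
  map_add' x y := Subtype.ext (map_add π x.1 y.1)
  map_smul' r x := Subtype.ext (map_smul π r x.1)

lemma piG_surjective (π : P →ₗ[R] R') (hπ : Function.Surjective π) (𝔟 : Ideal R') :
    Function.Surjective (piG π 𝔟) := by
  intro b
  obtain ⟨p, hp⟩ := hπ b.1
  exact ⟨⟨p, by rw [mem_Gsub, hp]; exact b.2⟩, Subtype.ext hp⟩

theorem chase (I : Ideal R) (𝔟 : Ideal R') (M : Type u) [AddCommGroup M] [Module R M]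
    [Module.Flat (R ⧸ I) ((R ⧸ I) ⊗[R] M)]
    {E Pbar : Type u} [AddCommGroup E] [Module R E]
    [AddCommGroup Pbar] [Module R Pbar] [Module (R ⧸ I) Pbar] [IsScalarTower R (R ⧸ I) Pbar]
    (π : P →ₗ[R] R') (hπ : Function.Surjective π)
    (β : E →ₗ[R] P) (q : P →ₗ[R] Pbar) (hβq : Function.Exact β q)
    (ρ : E →ₗ[R] ↥𝔟) (hρ : ∀ e, (ρ e : R') = π (β e))
    (z : ↥𝔟 ⊗[R] M) (hz : (𝔟.subtype.restrictScalars R).rTensor M z = 0) :
    ∃ e : E ⊗[R] M, β.rTensor M e = 0 ∧ ρ.rTensor M e = z := by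
  have hβG : ∀ e, β e ∈ Gsub π 𝔟 := fun e => by
    rw [mem_Gsub, ← hρ]
    exact (ρ e).2
  have hρα : ρ = piG π 𝔟 ∘ₗ β.codRestrict (Gsub π 𝔟) hβG :=
    LinearMap.ext fun e => Subtype.ext (hρ e)
  have hβα : β = (Gsub π 𝔟).subtype ∘ₗ β.codRestrict (Gsub π 𝔟) hβG :=
    LinearMap.ext fun e => rfl
  -- Step 1
  obtain ⟨g, rfl⟩ := LinearMap.rTensor_surjective M (piG_surjective π hπ 𝔟) z
  have hc1 : π ∘ₗ (Gsub π 𝔟).subtype = (𝔟.subtype.restrictScalars R) ∘ₗ piG π 𝔟 :=
    LinearMap.ext fun x => rfl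
  have h1 : π.rTensor M ((Gsub π 𝔟).subtype.rTensor M g) = 0 := by
    rw [← LinearMap.comp_apply, ← LinearMap.rTensor_comp, hc1, LinearMap.rTensor_comp,
      LinearMap.comp_apply]
    exact hz
  obtain ⟨g₀, hg₀⟩ := (rTensor_exact (M := ↥(LinearMap.ker π)) M
    (LinearMap.exact_subtype_ker_map π) hπ _).mp h1
  have hle : LinearMap.ker π ≤ Gsub π 𝔟 := by
    intro p hp
    rw [mem_Gsub, LinearMap.mem_ker.mp hp]
    exact zero_mem _
  have hc2 : piG π 𝔟 ∘ₗ Submodule.inclusion hle = 0 :=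
    LinearMap.ext fun x => Subtype.ext (LinearMap.mem_ker.mp x.2)
  have hg'1 : (Gsub π 𝔟).subtype.rTensor M
      (g - (Submodule.inclusion hle).rTensor M g₀) = 0 := by
    rw [map_sub, ← LinearMap.comp_apply, ← LinearMap.rTensor_comp,
      Submodule.subtype_comp_inclusion, hg₀, sub_self]
  have hg'2 : (piG π 𝔟).rTensor M (g - (Submodule.inclusion hle).rTensor M g₀) =
      (piG π 𝔟).rTensor M g := by
    rw [map_sub, ← LinearMap.comp_apply (f := (piG π 𝔟).rTensor M), ← LinearMap.rTensor_comp, hc2,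
      LinearMap.rTensor_zero, LinearMap.zero_apply, sub_zero]
  -- Step 2
  have hex : Function.Exact (β.codRestrict (Gsub π 𝔟) hβG) (q.submoduleMap (Gsub π 𝔟)) := by
    intro x
    constructor
    · intro hx
      have h1 : q x.1 = 0 := congrArg Subtype.val hx
      obtain ⟨e, he⟩ := (hβq x.1).mp h1
      exact ⟨e, Subtype.ext he⟩
    · rintro ⟨e, rfl⟩
      apply Subtype.ext
      show q (β e) = 0
      exact (hβq (β e)).mpr ⟨e, rfl⟩
  have hT : Module.IsTorsionBySet R ↥((Gsub π 𝔟).map q) (I : Set R) := by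
    rintro x ⟨a, ha⟩
    apply Subtype.ext
    show a • x.1 = 0
    rw [← algebraMap_smul (R ⧸ I) a x.1, Ideal.Quotient.algebraMap_eq,
      Ideal.Quotient.eq_zero_iff_mem.mpr ha, zero_smul]
  letI := Module.IsTorsionBySet.module (R := R) (M := ↥((Gsub π 𝔟).map q)) (I := I) hT
  haveI : IsScalarTower R (R ⧸ I) ↥((Gsub π 𝔟).map q) :=
    Module.IsTorsionBySet.isScalarTower hT
  have hinj : Function.Injective (((Gsub π 𝔟).map q).subtype.rTensor M) :=
    Groth.Agent.Lib.Helper8.rTensor_injective_of_flat_baseChange (R := R) (S := R ⧸ I) M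
      Ideal.Quotient.mk_surjective _ (Submodule.subtype_injective _)
  have hcomm : q ∘ₗ (Gsub π 𝔟).subtype =
      ((Gsub π 𝔟).map q).subtype ∘ₗ q.submoduleMap (Gsub π 𝔟) :=
    LinearMap.ext fun x => rfl
  have h2 : ((Gsub π 𝔟).map q).subtype.rTensor M
      ((q.submoduleMap (Gsub π 𝔟)).rTensor M (g - (Submodule.inclusion hle).rTensor M g₀)) = 0 := by
    rw [← LinearMap.comp_apply, ← LinearMap.rTensor_comp, ← hcomm, LinearMap.rTensor_comp,
      LinearMap.comp_apply, hg'1, map_zero]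
  have h3 := hinj (h2.trans (map_zero _).symm)
  obtain ⟨e, he⟩ := ((rTensor_exact M hex (LinearMap.submoduleMap_surjective _ _)) _).mp h3
  refine ⟨e, ?_, ?_⟩
  · rw [hβα, LinearMap.rTensor_comp, LinearMap.comp_apply, he]
    exact hg'1
  · rw [hρα, LinearMap.rTensor_comp, LinearMap.comp_apply, he]
    exact hg'2

end Chase

section LemmaA

variable {R : Type u} [CommRing R] {R' : Type u} [CommRing R'] [Algebra R R']

/-- multiplication by `l`, from `I` to `𝔟 ⊇ I R'`. -/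
def nu (I : Ideal R) (𝔟 : Ideal R') (h𝔟 : I.map (algebraMap R R') ≤ 𝔟) (l : R') : ↥I →ₗ[R] ↥𝔟 where
  toFun i := ⟨algebraMap R R' i.1 * l, 𝔟.mul_mem_right l (h𝔟 (Ideal.mem_map_of_mem _ i.2))⟩
  map_add' x y := Subtype.ext (by
    show algebraMap R R' (x.1 + y.1) * l = algebraMap R R' x.1 * l + algebraMap R R' y.1 * l
    rw [map_add, add_mul])
  map_smul' r x := Subtype.ext (by
    show algebraMap R R' (r • x.1) * l = r • (algebraMap R R' x.1 * l)
    rw [smul_eq_mul, map_mul, mul_assoc, Algebra.smul_def])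

variable (R R') in
/-- the free presentation `(R' →₀ R) → R'`. -/
noncomputable def pres : (R' →₀ R) →ₗ[R] R' := Finsupp.linearCombination R (id : R' → R')

lemma pres_single (l : R') (r : R) : pres R R' (Finsupp.single l r) = r • l := by
  unfold pres
  rw [Finsupp.linearCombination_single]
  rfl

lemma pres_surjective : Function.Surjective (pres R R') :=
  Finsupp.linearCombination_surjective _ Function.surjective_id

/-- the inclusion `(R' →₀ I) → (R' →₀ R)`. -/
noncomputable def beta (I : Ideal R) : (R' →₀ ↥I) →ₗ[R] (R' →₀ R) :=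
  Finsupp.mapRange.linearMap I.subtype

lemma beta_single (I : Ideal R) (l : R') (i : ↥I) :
    beta (R' := R') I (Finsupp.single l i) = Finsupp.single l i.1 := by
  unfold beta
  rw [Finsupp.mapRange.linearMap_apply, Finsupp.mapRange_single]
  rfl

lemma beta_apply (I : Ideal R) (e : R' →₀ ↥I) (l : R') : (beta I e) l = (e l).1 := by
  unfold beta
  rw [Finsupp.mapRange.linearMap_apply, Finsupp.mapRange_apply]
  rfl

/-- reduction mod `I` of the free module. -/
noncomputable def qmap (I : Ideal R) : (R' →₀ R) →ₗ[R] (R' →₀ R ⧸ I) :=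
  Finsupp.mapRange.linearMap I.mkQ

lemma qmap_apply (I : Ideal R) (p : R' →₀ R) (l : R') :
    (qmap I p) l = Ideal.Quotient.mk I (p l) := by
  unfold qmap
  rw [Finsupp.mapRange.linearMap_apply, Finsupp.mapRange_apply]
  rfl

lemma qmap_eq_zero_iff (I : Ideal R) (p : R' →₀ R) :
    qmap (R' := R') I p = 0 ↔ ∀ l, p l ∈ I := by
  rw [Finsupp.ext_iff]
  constructor
  · intro h l
    have h1 := h l
    rw [qmap_apply, Finsupp.zero_apply] at h1
    exact Ideal.Quotient.eq_zero_iff_mem.mp h1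
  · intro h l
    rw [qmap_apply, Finsupp.zero_apply]
    exact Ideal.Quotient.eq_zero_iff_mem.mpr (h l)

lemma mem_range_beta (I : Ideal R) (p : R' →₀ R) :
    p ∈ LinearMap.range (beta (R' := R') I) ↔ ∀ l, p l ∈ I := by
  unfold beta
  rw [Finsupp.range_mapRange_linearMap _ (Submodule.ker_subtype I), Finsupp.mem_submodule_iff]
  simp only [Submodule.range_subtype]

lemma exact_beta_qmap (I : Ideal R) : Function.Exact (beta (R' := R') I) (qmap I) := by
  intro p
  rw [qmap_eq_zero_iff, ← mem_range_beta]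
  rfl

/-- the map `(R' →₀ I) → 𝔟`, `single l i ↦ i l`. -/
noncomputable def rho (I : Ideal R) (𝔟 : Ideal R') (h𝔟 : I.map (algebraMap R R') ≤ 𝔟) :
    (R' →₀ ↥I) →ₗ[R] ↥𝔟 :=
  Finsupp.lsum R (fun l => nu I 𝔟 h𝔟 l)

lemma rho_coe (I : Ideal R) (𝔟 : Ideal R') (h𝔟 : I.map (algebraMap R R') ≤ 𝔟) (e : R' →₀ ↥I) :
    (rho I 𝔟 h𝔟 e : R') = pres R R' (beta I e) := by
  induction e using Finsupp.induction_linear with
  | zero => rw [map_zero, map_zero, map_zero]; rfl
  | add x y hx hy => rw [map_add, map_add, map_add, ← hx, ← hy]; rfl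
  | single l i =>
    unfold rho
    rw [Finsupp.lsum_single, beta_single, pres_single, Algebra.smul_def]
    rfl

lemma step3 (I : Ideal R) (M : Type u) [AddCommGroup M] [Module R M]
    (e : (R' →₀ ↥I) ⊗[R] M) (he : (beta (R' := R') I).rTensor M e = 0) :
    e ∈ Submodule.span R {y | ∃ (l : R') (k : ↥I ⊗[R] M),
      I.subtype.rTensor M k = 0 ∧ y = (Finsupp.lsingle l).rTensor M k} := by
  classical
  obtain ⟨Fe, rfl⟩ : ∃ Fe, (finsuppLeft R R ↥I M R').symm Fe = e :=
    ⟨finsuppLeft R R ↥I M R' e, LinearEquiv.symm_apply_apply _ _⟩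
  have hk : ∀ l, I.subtype.rTensor M (Fe l) = 0 := by
    intro l
    have h0 : Fe l = (Finsupp.lapply l : (R' →₀ ↥I) →ₗ[R] ↥I).rTensor M
        ((finsuppLeft R R ↥I M R').symm Fe) := by
      rw [← finsuppLeft_apply (S := R), LinearEquiv.apply_symm_apply]
    have hc : I.subtype ∘ₗ (Finsupp.lapply l : (R' →₀ ↥I) →ₗ[R] ↥I) =
        (Finsupp.lapply l : (R' →₀ R) →ₗ[R] R) ∘ₗ beta (R' := R') I := by
      apply LinearMap.ext
      intro x
      rw [LinearMap.comp_apply, LinearMap.comp_apply, Finsupp.lapply_apply, Finsupp.lapply_apply,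
        beta_apply]
      rfl
    rw [h0, ← LinearMap.comp_apply, ← LinearMap.rTensor_comp, hc, LinearMap.rTensor_comp,
      LinearMap.comp_apply, he, map_zero]
  have hsym : ∀ (l : R') (y : ↥I ⊗[R] M),
      (finsuppLeft R R ↥I M R').symm (Finsupp.single l y) = (Finsupp.lsingle l).rTensor M y := by
    intro l y
    induction y using TensorProduct.induction_on with
    | zero => rw [Finsupp.single_zero, map_zero, map_zero]
    | tmul i m => rw [finsuppLeft_symm_apply_single]; rfl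
    | add a b ha hb => rw [Finsupp.single_add, map_add, map_add, ha, hb]
  rw [← Finsupp.sum_single Fe, Finsupp.sum, map_sum]
  refine Submodule.sum_mem _ fun l _ => ?_
  rw [hsym]
  exact Submodule.subset_span ⟨l, Fe l, hk l, rfl⟩

theorem lemmaA (I : Ideal R) (𝔟 : Ideal R') (h𝔟 : I.map (algebraMap R R') ≤ 𝔟)
    (M : Type u) [AddCommGroup M] [Module R M] [Module.Flat (R ⧸ I) ((R ⧸ I) ⊗[R] M)]
    (z : ↥𝔟 ⊗[R] M) (hz : (𝔟.subtype.restrictScalars R).rTensor M z = 0) :
    z ∈ Submodule.span R {y | ∃ (l : R') (k : ↥I ⊗[R] M),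
      I.subtype.rTensor M k = 0 ∧ y = (nu I 𝔟 h𝔟 l).rTensor M k} := by
  obtain ⟨e, he0, rfl⟩ := chase I 𝔟 M (pres R R') pres_surjective (beta I) (qmap I)
    (exact_beta_qmap I) (rho I 𝔟 h𝔟) (rho_coe I 𝔟 h𝔟) z hz
  have hmem := step3 I M e he0
  have hle2 : Submodule.span R {y | ∃ (l : R') (k : ↥I ⊗[R] M),
      I.subtype.rTensor M k = 0 ∧ y = (Finsupp.lsingle l).rTensor M k} ≤
      (Submodule.span R {y | ∃ (l : R') (k : ↥I ⊗[R] M),
        I.subtype.rTensor M k = 0 ∧ y = (nu I 𝔟 h𝔟 l).rTensor M k}).comap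
        ((rho I 𝔟 h𝔟).rTensor M) := by
    rw [Submodule.span_le]
    rintro _ ⟨l, k, hk, rfl⟩
    refine Submodule.mem_comap.mpr (Submodule.subset_span ⟨l, k, hk, ?_⟩)
    have hl : rho I 𝔟 h𝔟 ∘ₗ Finsupp.lsingle l = nu I 𝔟 h𝔟 l := by
      unfold rho
      exact Finsupp.lsum_comp_lsingle _ _ _
    rw [← LinearMap.comp_apply, ← LinearMap.rTensor_comp, hl]
  exact hle2 hmem

end LemmaA

section LemmaB

variable {A : Type*} [CommRing A]

/-- the multiplication map `J ⊗ Z → Z`. -/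
noncomputable def mu (J : Ideal A) (Z : Type*) [AddCommGroup Z] [Module A Z] : ↥J ⊗[A] Z →ₗ[A] Z :=
  (TensorProduct.lid A Z).toLinearMap ∘ₗ J.subtype.rTensor Z

lemma mu_tmul (J : Ideal A) (Z : Type*) [AddCommGroup Z] [Module A Z] (j : ↥J) (z : Z) :
    mu J Z (j ⊗ₜ z) = (j : A) • z := by
  unfold mu
  rw [LinearMap.comp_apply, LinearMap.rTensor_tmul, LinearEquiv.coe_coe, TensorProduct.lid_tmul]
  rfl

lemma mu_eq_zero_iff (J : Ideal A) (Z : Type*) [AddCommGroup Z] [Module A Z] (x : ↥J ⊗[A] Z) :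
    mu J Z x = 0 ↔ J.subtype.rTensor Z x = 0 := by
  unfold mu
  rw [LinearMap.comp_apply, LinearEquiv.coe_coe]
  exact LinearEquiv.map_eq_zero_iff _

lemma mu_natural (J : Ideal A) {Z Z' : Type*} [AddCommGroup Z] [Module A Z] [AddCommGroup Z']
    [Module A Z'] (g : Z →ₗ[A] Z') (x : ↥J ⊗[A] Z) : mu J Z' (g.lTensor ↥J x) = g (mu J Z x) := by
  induction x using TensorProduct.induction_on with
  | zero => rw [map_zero, map_zero, map_zero, map_zero]
  | tmul j z => rw [LinearMap.lTensor_tmul, mu_tmul, mu_tmul, map_smul]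
  | add a b ha hb => rw [map_add, map_add, map_add, map_add, ha, hb]

variable {T : Type*} [CommRing T]

lemma mulT_mul (Z : Type*) [AddCommGroup Z] [Module A Z] [Module T Z] [SMulCommClass T A Z]
    (t t' : T) : DistribSMul.toLinearMap A Z (t * t') =
      DistribSMul.toLinearMap A Z t ∘ₗ DistribSMul.toLinearMap A Z t' := by
  apply LinearMap.ext
  intro z
  rw [LinearMap.comp_apply, DistribSMul.toLinearMap_apply, DistribSMul.toLinearMap_apply,
    DistribSMul.toLinearMap_apply, mul_smul]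

variable (W : Submonoid T)
  {X Y : Type*} [AddCommGroup X] [AddCommGroup Y] [Module A X] [Module A Y] [Module T X]
  [Module T Y] [SMulCommClass T A X] [SMulCommClass T A Y]

lemma lTensor_mulT_injective (h0 : X →ₗ[T] Y) [IsLocalizedModule W h0] (J : Ideal A) (w : W) :
    Function.Injective ((DistribSMul.toLinearMap A Y (w : T)).lTensor ↥J) := by
  have hb0 := (Module.End.isUnit_iff _).mp (IsLocalizedModule.map_units h0 w)
  have hb : Function.Bijective (DistribSMul.toLinearMap A Y (w : T)) :=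
    ⟨fun a b hab => hb0.1 hab, fun y => hb0.2 y⟩
  have h1 : ((LinearEquiv.ofBijective _ hb : Y ≃ₗ[A] Y) : Y →ₗ[A] Y) =
      DistribSMul.toLinearMap A Y (w : T) := LinearMap.ext fun y => rfl
  rw [← h1, ← LinearEquiv.coe_lTensor]
  exact (LinearEquiv.lTensor ↥J (LinearEquiv.ofBijective _ hb)).injective

theorem lemmaB (h0 : X →ₗ[T] Y) [IsLocalizedModule W h0] (h0A : X →ₗ[A] Y)
    (hh : ∀ x, h0A x = h0 x) (J : Ideal A)
    (H : ∀ z : ↥J ⊗[A] X, J.subtype.rTensor X z = 0 → h0A.lTensor ↥J z = 0) :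
    Function.Injective (J.subtype.rTensor Y) := by
  have comm1 : ∀ t : T, h0A ∘ₗ DistribSMul.toLinearMap A X t =
      DistribSMul.toLinearMap A Y t ∘ₗ h0A := by
    intro t
    apply LinearMap.ext
    intro x
    rw [LinearMap.comp_apply, LinearMap.comp_apply, DistribSMul.toLinearMap_apply,
      DistribSMul.toLinearMap_apply, hh, hh, map_smul]
  have key : ∀ x : ↥J ⊗[A] Y, ∃ (w : W) (z : ↥J ⊗[A] X),
      h0A.lTensor ↥J z = (DistribSMul.toLinearMap A Y (w : T)).lTensor ↥J x := by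
    intro x
    induction x using TensorProduct.induction_on with
    | zero => exact ⟨1, 0, by rw [map_zero, map_zero]⟩
    | tmul j y =>
      obtain ⟨⟨x₀, w⟩, hxw⟩ := IsLocalizedModule.surj W h0 y
      refine ⟨w, j ⊗ₜ x₀, ?_⟩
      rw [LinearMap.lTensor_tmul, LinearMap.lTensor_tmul, hh, ← hxw]
      rfl
    | add x₁ x₂ h₁ h₂ =>
      obtain ⟨w₁, z₁, e₁⟩ := h₁
      obtain ⟨w₂, z₂, e₂⟩ := h₂
      refine ⟨w₁ * w₂, (DistribSMul.toLinearMap A X (w₂ : T)).lTensor ↥J z₁ +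
        (DistribSMul.toLinearMap A X (w₁ : T)).lTensor ↥J z₂, ?_⟩
      rw [map_add, map_add]
      congr 1
      · rw [← LinearMap.comp_apply, ← LinearMap.lTensor_comp, comm1, LinearMap.lTensor_comp,
          LinearMap.comp_apply, e₁, ← LinearMap.comp_apply, ← LinearMap.lTensor_comp, ← mulT_mul,
          Submonoid.coe_mul, mul_comm (w₂ : T) (w₁ : T)]
      · rw [← LinearMap.comp_apply, ← LinearMap.lTensor_comp, comm1, LinearMap.lTensor_comp,
          LinearMap.comp_apply, e₂, ← LinearMap.comp_apply, ← LinearMap.lTensor_comp, ← mulT_mul,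
          Submonoid.coe_mul]
  rw [injective_iff_map_eq_zero]
  intro x hx
  obtain ⟨w, z, hz⟩ := key x
  have hmx : mu J Y x = 0 := (mu_eq_zero_iff J Y x).mpr hx
  have h1 : h0 (mu J X z) = 0 := by
    rw [← hh, ← mu_natural, hz, mu_natural, hmx, map_zero]
  obtain ⟨w', hw'⟩ := (IsLocalizedModule.eq_zero_iff W h0).mp h1
  have h2 : mu J X ((DistribSMul.toLinearMap A X (w' : T)).lTensor ↥J z) = 0 := by
    rw [mu_natural]
    exact hw'
  have h3 := H _ ((mu_eq_zero_iff J X _).mp h2)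
  have h4 : (DistribSMul.toLinearMap A Y ((w' * w : W) : T)).lTensor ↥J x = 0 := by
    rw [Submonoid.coe_mul, mulT_mul, LinearMap.lTensor_comp, LinearMap.comp_apply, ← hz,
      ← LinearMap.comp_apply, ← LinearMap.lTensor_comp, ← comm1, LinearMap.lTensor_comp,
      LinearMap.comp_apply]
    exact h3
  exact lTensor_mulT_injective W h0 J (w' * w) (h4.trans (map_zero _).symm)

end LemmaB

section LemmaC

variable {R : Type u} [CommRing R] {R' : Type u} [CommRing R'] [Algebra R R']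

theorem lemmaC (I : Ideal R) (𝔟 : Ideal R') (h𝔟 : I.map (algebraMap R R') ≤ 𝔟)
    (M : Type u) [AddCommGroup M] [Module R M] [Module.Flat (R ⧸ I) ((R ⧸ I) ⊗[R] M)]
    (X : Type u) [AddCommGroup X] [Module R X] [Module R' X] [IsScalarTower R R' X]
    (φ : M →ₗ[R] X) (hφ : IsBaseChange R' φ)
    (Y : Type u) [AddCommGroup Y] [Module R Y] [Module R' Y] [IsScalarTower R R' Y]
    (ψ : X →ₗ[R'] Y)
    (h3 : ∀ k : ↥I ⊗[R] M, I.subtype.rTensor M k = 0 →
      (TensorProduct.mapOfCompatibleSMul R' R R ↥(I.map (algebraMap R R')) Y)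
        ((TensorProduct.map (Algebra.idealMap R' I) ((ψ.restrictScalars R) ∘ₗ φ)) k) = 0)
    (z : ↥𝔟 ⊗[R'] X) (hz : 𝔟.subtype.rTensor X z = 0) : ψ.lTensor ↥𝔟 z = 0 := by
  have key : ∀ x : X, ∀ b : ↥𝔟, ∃ a : ↥𝔟 ⊗[R] M,
      (TensorProduct.mapOfCompatibleSMul R' R R ↥𝔟 X) (φ.lTensor ↥𝔟 a) = b ⊗ₜ[R'] x := by
    intro x
    refine hφ.inductionOn x (fun x => ∀ b : ↥𝔟, ∃ a : ↥𝔟 ⊗[R] M,
      (TensorProduct.mapOfCompatibleSMul R' R R ↥𝔟 X) (φ.lTensor ↥𝔟 a) = b ⊗ₜ[R'] x) ?_ ?_ ?_ ?_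
    · intro b
      exact ⟨0, by rw [map_zero, map_zero, tmul_zero]⟩
    · intro m b
      exact ⟨b ⊗ₜ m, rfl⟩
    · intro r x hx b
      obtain ⟨a, ha⟩ := hx (r • b)
      exact ⟨a, by rw [ha, TensorProduct.smul_tmul]⟩
    · intro x y hx hy b
      obtain ⟨a, ha⟩ := hx b
      obtain ⟨a', ha'⟩ := hy b
      exact ⟨a + a', by rw [map_add, map_add, ha, ha', tmul_add]⟩
  have θ_surj : ∀ z : ↥𝔟 ⊗[R'] X, ∃ a : ↥𝔟 ⊗[R] M,
      (TensorProduct.mapOfCompatibleSMul R' R R ↥𝔟 X) (φ.lTensor ↥𝔟 a) = z := by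
    intro z
    induction z using TensorProduct.induction_on with
    | zero => exact ⟨0, by rw [map_zero, map_zero]⟩
    | tmul b x => exact key x b
    | add x y hx hy =>
      obtain ⟨a, ha⟩ := hx
      obtain ⟨a', ha'⟩ := hy
      exact ⟨a + a', by rw [map_add, map_add, ha, ha']⟩
  obtain ⟨z₀, rfl⟩ := θ_surj z
  have compat1 : ∀ z₀ : ↥𝔟 ⊗[R] M, TensorProduct.lid R' X (𝔟.subtype.rTensor X
      ((TensorProduct.mapOfCompatibleSMul R' R R ↥𝔟 X) (φ.lTensor ↥𝔟 z₀))) =
      hφ.equiv ((𝔟.subtype.restrictScalars R).rTensor M z₀) := by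
    intro z₀
    induction z₀ using TensorProduct.induction_on with
    | zero => simp only [map_zero]
    | tmul b m =>
      show TensorProduct.lid R' X (𝔟.subtype.rTensor X (b ⊗ₜ[R'] φ m)) =
        hφ.equiv ((b : R') ⊗ₜ[R] m)
      rw [LinearMap.rTensor_tmul, TensorProduct.lid_tmul, IsBaseChange.equiv_tmul]
      rfl
    | add a b ha hb => simp only [map_add, ha, hb]
  have hz₀ : (𝔟.subtype.restrictScalars R).rTensor M z₀ = 0 := by
    have h := compat1 z₀
    rw [hz, map_zero] at h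
    exact (LinearEquiv.map_eq_zero_iff _).mp h.symm
  have hmem := lemmaA I 𝔟 h𝔟 M z₀ hz₀
  have compat2 : ∀ z₀ : ↥𝔟 ⊗[R] M, ψ.lTensor ↥𝔟
      ((TensorProduct.mapOfCompatibleSMul R' R R ↥𝔟 X) (φ.lTensor ↥𝔟 z₀)) =
      (TensorProduct.mapOfCompatibleSMul R' R R ↥𝔟 Y)
        (((ψ.restrictScalars R) ∘ₗ φ).lTensor ↥𝔟 z₀) := by
    intro z₀
    induction z₀ using TensorProduct.induction_on with
    | zero => simp only [map_zero]
    | tmul b m => rfl
    | add a b ha hb => simp only [map_add, ha, hb]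
  have compat3 : ∀ (l : R') (k : ↥I ⊗[R] M),
      (TensorProduct.mapOfCompatibleSMul R' R R ↥𝔟 Y)
        (((ψ.restrictScalars R) ∘ₗ φ).lTensor ↥𝔟 ((nu I 𝔟 h𝔟 l).rTensor M k)) =
      l • (Submodule.inclusion h𝔟).rTensor Y
        ((TensorProduct.mapOfCompatibleSMul R' R R ↥(I.map (algebraMap R R')) Y)
          ((TensorProduct.map (Algebra.idealMap R' I) ((ψ.restrictScalars R) ∘ₗ φ)) k)) := by
    intro l k
    induction k using TensorProduct.induction_on with
    | zero => simp only [map_zero, smul_zero]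
    | tmul i m =>
      show (nu I 𝔟 h𝔟 l i) ⊗ₜ[R'] (ψ (φ m)) =
        l • ((Submodule.inclusion h𝔟 (Algebra.idealMap R' I i)) ⊗ₜ[R'] (ψ (φ m)))
      rw [TensorProduct.smul_tmul']
      congr 1
      apply Subtype.ext
      show algebraMap R R' i.1 * l = l * algebraMap R R' i.1
      exact mul_comm _ _
    | add a b ha hb => simp only [map_add, smul_add, ha, hb]
  rw [compat2]
  have hker : Submodule.span R {y | ∃ (l : R') (k : ↥I ⊗[R] M),
      I.subtype.rTensor M k = 0 ∧ y = (nu I 𝔟 h𝔟 l).rTensor M k} ≤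
      LinearMap.ker ((TensorProduct.mapOfCompatibleSMul R' R R ↥𝔟 Y) ∘ₗ
        (((ψ.restrictScalars R) ∘ₗ φ).lTensor ↥𝔟)) := by
    rw [Submodule.span_le]
    rintro _ ⟨l, k, hk, rfl⟩
    refine LinearMap.mem_ker.mpr ?_
    rw [LinearMap.comp_apply, compat3, h3 k hk, map_zero, smul_zero]
  exact LinearMap.mem_ker.mp (hker hmem)

end LemmaC

end H10LF
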