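/-
Helper10 library: assembly of the local flatness criterion variant (see `LocalFlat.lean`).
-/
import Groth.Agent.Lib.Helper10.LocalFlat

set_option autoImplicit false
universe u
open TensorProduct

namespace H10LF

section Abstract

theorem rInj_abstract (R S R' S' T : Type u) [CommRing R] [CommRing S] [CommRing R'] [CommRing S']
    [CommRing T] [Algebra R S] [Algebra R R'] [Algebra S S'] [Algebra R' S'] [Algebra R S']
    [IsScalarTower R S S'] [IsScalarTower R R' S']
    [Algebra R T] [Algebra S T] [Algebra R' T] [IsScalarTower R S T] [IsScalarTower R R' T]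
    [Algebra.IsPushout R R' S T]
    [Algebra T S'] [IsScalarTower S T S'] [IsScalarTower R' T S']
    (W : Submonoid T) [IsLocalization W S']
    (I : Ideal R) (M : Type u) [AddCommGroup M] [Module S M] [Module R M] [IsScalarTower R S M]
    (M' : Type u) [AddCommGroup M'] [Module S' M'] [Module R' M'] [IsScalarTower R' S' M']
    [Module S M'] [IsScalarTower S S' M'] [Module R M'] [IsScalarTower R R' M']
    [IsScalarTower R S M']
    (f : M →ₗ[S] M') (hf : IsBaseChange S' f)
    (h2 : Module.Flat (R ⧸ I) ((R ⧸ I) ⊗[R] M))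
    (h3 : ∀ x : ↥I ⊗[R] M, (Submodule.subtype I).rTensor M x = 0 →
      (TensorProduct.mapOfCompatibleSMul R' R R ↥(I.map (algebraMap R R')) M')
        ((TensorProduct.map (Algebra.idealMap R' I) (f.restrictScalars R)) x) = 0)
    (𝔟 : Ideal R') (h𝔟 : I.map (algebraMap R R') ≤ 𝔟) :
    Function.Injective (𝔟.subtype.rTensor M') := by
  letI modT : Module T M' := Module.compHom M' (algebraMap T S')
  haveI t1 : IsScalarTower T S' M' := IsScalarTower.of_algebraMap_smul (fun _ _ => rfl)
  haveI t2 : IsScalarTower S T M' := ⟨fun s t m => by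
    show algebraMap T S' (s • t) • m = s • (algebraMap T S' t • m)
    rw [Algebra.smul_def, map_mul, ← IsScalarTower.algebraMap_apply S T S', mul_smul,
      algebraMap_smul]⟩
  haveI t3 : IsScalarTower R' T M' := ⟨fun r t m => by
    show algebraMap T S' (r • t) • m = r • (algebraMap T S' t • m)
    rw [Algebra.smul_def, map_mul, ← IsScalarTower.algebraMap_apply R' T S', mul_smul,
      algebraMap_smul]⟩
  have hbc : IsBaseChange S' ((TensorProduct.isBaseChange S M T).lift f) :=
    IsBaseChange.of_comp (TensorProduct.isBaseChange S M T)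
      (by rw [IsBaseChange.lift_comp]; exact hf)
  haveI : IsLocalizedModule W ((TensorProduct.isBaseChange S M T).lift f) :=
    (isLocalizedModule_iff_isBaseChange W S' _).mpr hbc
  have hφ : IsBaseChange R' ((TensorProduct.mk S T M 1).restrictScalars R) := by
    refine IsBaseChange.of_equiv (Algebra.IsPushout.cancelBaseChange R R' S T M).symm (fun m => ?_)
    rw [Algebra.IsPushout.cancelBaseChange_symm_tmul, map_one]
    rfl
  haveI := h2
  refine lemmaB W ((TensorProduct.isBaseChange S M T).lift f)
    (((TensorProduct.isBaseChange S M T).lift f).restrictScalars R') (fun x => rfl) 𝔟 ?_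
  intro z hz
  refine lemmaC I 𝔟 h𝔟 M (T ⊗[S] M) ((TensorProduct.mk S T M 1).restrictScalars R) hφ M' _ ?_ z hz
  intro k hk
  have hψφ : ((((TensorProduct.isBaseChange S M T).lift f).restrictScalars R').restrictScalars R) ∘ₗ
      ((TensorProduct.mk S T M 1).restrictScalars R) = f.restrictScalars R :=
    by
      apply LinearMap.ext
      intro m
      rw [LinearMap.comp_apply, LinearMap.restrictScalars_apply, LinearMap.restrictScalars_apply,
        LinearMap.restrictScalars_apply, LinearMap.restrictScalars_apply]
      exact IsBaseChange.lift_eq (TensorProduct.isBaseChange S M T) f m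
  rw [hψφ]
  exact h3 k hk

end Abstract

section Main

theorem rInj_main (R S R' S' : Type u) [CommRing R] [CommRing S] [CommRing R'] [CommRing S']
    [Algebra R S] [Algebra R R'] [Algebra S S'] [Algebra R' S'] [Algebra R S']
    [IsScalarTower R S S'] [IsScalarTower R R' S']
    (W : Submonoid (S ⊗[R] R'))
    (hW : letI : Algebra (S ⊗[R] R') S' :=
        (Algebra.TensorProduct.lift (IsScalarTower.toAlgHom R S S') (IsScalarTower.toAlgHom R R' S')
          (fun s r => Commute.all _ _)).toRingHom.toAlgebra;
      IsLocalization W S')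
    (I : Ideal R) (M : Type u) [AddCommGroup M] [Module S M] [Module R M] [IsScalarTower R S M]
    (M' : Type u) [AddCommGroup M'] [Module S' M'] [Module R' M'] [IsScalarTower R' S' M']
    [Module S M'] [IsScalarTower S S' M'] [Module R M'] [IsScalarTower R R' M']
    [IsScalarTower R S M']
    (f : M →ₗ[S] M') (hf : IsBaseChange S' f)
    (h2 : Module.Flat (R ⧸ I) ((R ⧸ I) ⊗[R] M))
    (h3 : ∀ x : ↥I ⊗[R] M, (Submodule.subtype I).rTensor M x = 0 →
      (TensorProduct.mapOfCompatibleSMul R' R R ↥(I.map (algebraMap R R')) M')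
        ((TensorProduct.map (Algebra.idealMap R' I) (f.restrictScalars R)) x) = 0)
    (𝔟 : Ideal R') (h𝔟 : I.map (algebraMap R R') ≤ 𝔟) :
    Function.Injective (𝔟.subtype.rTensor M') := by
  letI algR'T : Algebra R' (S ⊗[R] R') := Algebra.TensorProduct.rightAlgebra
  letI algTS' : Algebra (S ⊗[R] R') S' :=
    (Algebra.TensorProduct.lift (IsScalarTower.toAlgHom R S S') (IsScalarTower.toAlgHom R R' S')
      (fun s r => Commute.all _ _)).toRingHom.toAlgebra
  haveI : IsLocalization W S' := hW
  haveI : IsScalarTower S (S ⊗[R] R') S' := IsScalarTower.of_algebraMap_eq (fun s => by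
    show algebraMap S S' s = (Algebra.TensorProduct.lift (IsScalarTower.toAlgHom R S S')
      (IsScalarTower.toAlgHom R R' S') (fun s r => Commute.all _ _))
        (algebraMap S (S ⊗[R] R') s)
    rw [Algebra.TensorProduct.algebraMap_apply, Algebra.TensorProduct.lift_tmul, map_one, mul_one]
    rfl)
  haveI : IsScalarTower R' (S ⊗[R] R') S' := IsScalarTower.of_algebraMap_eq (fun r => by
    show algebraMap R' S' r = (Algebra.TensorProduct.lift (IsScalarTower.toAlgHom R S S')
      (IsScalarTower.toAlgHom R R' S') (fun s r => Commute.all _ _)) ((1 : S) ⊗ₜ[R] r)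
    rw [Algebra.TensorProduct.lift_tmul, map_one, one_mul]
    rfl)
  haveI : Algebra.IsPushout R R' S (S ⊗[R] R') := TensorProduct.isPushout'
  exact rInj_abstract R S R' S' (S ⊗[R] R') W I M M' f hf h2 h3 𝔟 h𝔟

end Main

end H10LF
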