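import Mathlib
import Groth.Agent.Lib.Helper16.QuasiFiniteDescent

/-!
# A morphism locally of finite type whose base change along itself is locally quasi-finite
is locally quasi-finite

Fibrewise, `U_t ×_{κ(t)} κ(u) ⟶ Spec κ(u)` is the fibre of `U ×_T U ⟶ U` over `u`, and local
quasi-finiteness descends along the field extension `κ(t) ⟶ κ(u)`.
-/

set_option autoImplicit false

universe u

open CategoryTheory CategoryTheory.Limits AlgebraicGeometry

namespace Groth.Agent.Lib.Helper10.LqfSelf

theorem locallyQuasiFinite_of_self_baseChange {U T W : Scheme.{u}} (h : U ⟶ T)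
    (p₁ p₂ : W ⟶ U) (sq : IsPullback p₁ p₂ h h) [LocallyQuasiFinite p₂]
    [LocallyOfFiniteType h] : LocallyQuasiFinite h := by
  apply LocallyQuasiFinite.of_fiberToSpecResidueField
  intro t
  by_cases hne : ∃ u : U, h u = t
  · obtain ⟨u, rfl⟩ := hne
    have key := (isPullback_fiberToSpecResidueField_of_isPullback sq u).flip
    have hP : LocallyQuasiFinite (p₂.fiberToSpecResidueField u) := by
      delta Scheme.Hom.fiberToSpecResidueField
      exact MorphismProperty.pullback_snd (P := @LocallyQuasiFinite) _ _ inferInstance
    have hflat : Flat (Spec.map (h.residueFieldMap u)) := by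
      rw [Flat.SpecMap_iff]
      letI := (h.residueFieldMap u).hom.toAlgebra
      show Module.Flat _ _
      infer_instance
    have hsurj : Surjective (Spec.map (h.residueFieldMap u)) := by
      constructor
      intro y
      refine ⟨IsLocalRing.closedPoint _, Subsingleton.elim (α := PrimeSpectrum _) _ _⟩
    have hqc : QuasiCompact (Spec.map (h.residueFieldMap u)) := inferInstance
    exact MorphismProperty.of_isPullback_of_descendsAlong (P := @LocallyQuasiFinite)
      (Q := (@Surjective ⊓ @Flat ⊓ @QuasiCompact : MorphismProperty Scheme.{u})) key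
      ⟨⟨hsurj, hflat⟩, hqc⟩ hP
  · have hemp : IsEmpty (h.fiber t) := by
      constructor
      intro x
      apply hne
      have hx : (h.fiberι t) x ∈ Set.range (h.fiberι t) := ⟨x, rfl⟩
      rw [h.range_fiberι t] at hx
      exact ⟨_, hx⟩
    haveI : LocallyOfFiniteType (h.fiberToSpecResidueField t) := by
      delta Scheme.Hom.fiberToSpecResidueField
      exact MorphismProperty.pullback_snd (P := @LocallyOfFiniteType) _ _ inferInstance
    exact LocallyQuasiFinite.of_injective (fun a => (hemp.false a).elim)

end Groth.Agent.Lib.Helper10.LqfSelf
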