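import Mathlib
import Groth.Agent.Lib.Helper10.LqfSelf
import Groth.Agent.Lib.Helper16.LocPGen
import Groth.Agent.Lib.Helper16.FibreProduct

/-!
# A morphism from an algebraic space to a scheme, locally of finite type, whose base change along
itself is locally quasi-finite, is locally quasi-finite
-/

set_option autoImplicit false

universe u

open CategoryTheory CategoryTheory.Limits AlgebraicGeometry

namespace Groth.Agent.Lib.Helper10.LqfSelf

open AlgSp Groth.Agent.Lib.Helper16

variable {S : Scheme.{u}}

theorem locP_lqf_of_self_baseChange {A : Sp S} (hA : IsAlgSpace A) {T : Over S}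
    (a : A ⟶ (yon S).obj T) (hlft : LocP @LocallyOfFiniteType a)
    (h2 : LocP (@LocallyQuasiFinite ⊓ @LocallyOfFiniteType) (pullback.snd a a)) :
    LocP (@LocallyQuasiFinite ⊓ @LocallyOfFiniteType) a := by
  have hP := etLocalST_locallyQuasiFinite
  obtain ⟨U₁, c, hce, hcs⟩ := hA.atlas
  obtain ⟨h, hh⟩ := (yon S).map_surjective (c ≫ a)
  obtain ⟨W, i, p₀, sqW⟩ := (representable_yon_map h) ((yon S).map h)
  obtain ⟨p, rfl⟩ := (yon S).map_surjective p₀
  have hAA : IsAlgSpace (pullback a a) :=
    isAlgSpace_of_isPullback hA (IsAlgSpace.yon_obj T).diag hA (IsPullback.of_hasPullback a a)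
  -- the base change of the second projection along the chart
  have sq1 : IsPullback
      (pullback.lift (pullback.fst a (c ≫ a)) (pullback.snd a (c ≫ a) ≫ c)
        (by rw [Category.assoc]; exact pullback.condition))
      (pullback.snd a (c ≫ a)) (pullback.snd a a) c := by
    refine IsPullback.of_right ?_ ?_ (IsPullback.of_hasPullback a a)
    · rw [pullback.lift_fst]
      exact IsPullback.of_hasPullback a (c ≫ a)
    · rw [pullback.lift_snd]
  have h3 : LocP (@LocallyQuasiFinite ⊓ @LocallyOfFiniteType) (pullback.snd a (c ≫ a)) :=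
    locP_of_isPullback hP hAA hA sq1 h2
  -- an etale chart of `A ×_T U₁`
  have hw : ((yon S).map p ≫ c) ≫ a = (yon S).map i ≫ c ≫ a := by
    rw [Category.assoc, ← hh]
    exact sqW.w
  have sq2 : IsPullback ((yon S).map p) (pullback.lift ((yon S).map p ≫ c) ((yon S).map i) hw) c
      (pullback.fst a (c ≫ a)) := by
    refine IsPullback.of_bot ?_ ?_ (IsPullback.of_hasPullback a (c ≫ a))
    · rw [pullback.lift_snd, ← hh]
      exact sqW
    · rw [pullback.lift_fst]
  have hm : RepWith @Etale (pullback.lift ((yon S).map p ≫ c) ((yon S).map i) hw) :=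
    (RepWith (S := S) @Etale).of_isPullback sq2 hce
  have hi : (@LocallyQuasiFinite ⊓ @LocallyOfFiniteType : MorphismProperty Scheme.{u}) i.left :=
    h3 _ (𝟙 _) i hm (repWith_id _ U₁) (by rw [pullback.lift_snd, Category.comp_id])
  -- back to schemes
  have sqO : IsPullback p i h h := IsPullback.of_map (yon S) ((yon S).map_injective (by
    rw [Functor.map_comp, Functor.map_comp]; exact sqW.w)) sqW
  have sqS : IsPullback p.left i.left h.left h.left := sqO.map (Over.forget S)
  have hhlft : LocallyOfFiniteType h.left :=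
    hlft c (𝟙 _) h hce (repWith_id _ T) (by rw [Category.comp_id, hh])
  haveI := hi.1
  have hlqf : LocallyQuasiFinite h.left :=
    locallyQuasiFinite_of_self_baseChange h.left p.left i.left sqS
  exact locP_of_chart hP a c (𝟙 _) h hce hcs (repWith_id _ T)
    (by rw [Category.comp_id, hh]) ⟨hlqf, hhlft⟩

end Groth.Agent.Lib.Helper10.LqfSelf
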