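import Mathlib
import Groth.Prelude.Def_Desc

set_option autoImplicit false
universe u
open CategoryTheory CategoryTheory.Limits Opposite Bicategory TensorProduct ModuleCat
open ChangeOfRings

namespace H10PT.MD

open Pseudofunctor LocallyDiscreteOpToCat

/-- shorthand: the morphism of `CommRingCatᵒᵖ` attached to a ring hom -/
abbrev mo {A B : CommRingCat.{u}} (g : A ⟶ B) : op B ⟶ op A := g.op

set_option backward.isDefEq.respectTransparency false in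
lemma mapComp_hom_one_tmul {A B C : CommRingCat.{u}} (a : A ⟶ B) (b : B ⟶ C)
    (M : ModuleCat.{u} A) (m : M) :
    ((Desc.ringModPF.{u}.mapComp (mo a).op.toLoc (mo b).op.toLoc).hom.toNatTrans.app M).hom
      ((1 : C) ⊗ₜ[A, (a ≫ b).hom] m) = (1 : C) ⊗ₜ[B, b.hom] ((1 : B) ⊗ₜ[A, a.hom] m) := by
  have h := extendScalarsComp_hom_app_one_tmul a.hom b.hom M m
  refine Eq.trans ?_ h
  rfl

lemma toLoc_comp_eq {A B C : CommRingCat.{u}} (a : A ⟶ B) (b : B ⟶ C) (c : A ⟶ C)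
    (h : a ≫ b = c) : (mo a).op.toLoc ≫ (mo b).op.toLoc = (mo c).op.toLoc := by
  subst h; rfl

set_option backward.isDefEq.respectTransparency false in
lemma mapComp'_hom_one_tmul {A B C : CommRingCat.{u}} (a : A ⟶ B) (b : B ⟶ C) (c : A ⟶ C)
    (h : a ≫ b = c) (M : ModuleCat.{u} A) (m : M) :
    ((Desc.ringModPF.{u}.mapComp' (mo a).op.toLoc (mo b).op.toLoc (mo c).op.toLoc
        (toLoc_comp_eq a b c h)).hom.toNatTrans.app M).hom
      ((1 : C) ⊗ₜ[A, c.hom] m) = (1 : C) ⊗ₜ[B, b.hom] ((1 : B) ⊗ₜ[A, a.hom] m) := by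
  subst h
  show ((Desc.ringModPF.{u}.mapComp' (mo a).op.toLoc (mo b).op.toLoc
    ((mo a).op.toLoc ≫ (mo b).op.toLoc) rfl).hom.toNatTrans.app M).hom _ = _
  rw [Pseudofunctor.mapComp'_eq_mapComp]
  exact mapComp_hom_one_tmul a b M m

set_option backward.isDefEq.respectTransparency false in
lemma mapComp'_inv_one_tmul {A B C : CommRingCat.{u}} (a : A ⟶ B) (b : B ⟶ C) (c : A ⟶ C)
    (h : a ≫ b = c) (M : ModuleCat.{u} A) (m : M) :
    ((Desc.ringModPF.{u}.mapComp' (mo a).op.toLoc (mo b).op.toLoc (mo c).op.toLoc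
        (toLoc_comp_eq a b c h)).inv.toNatTrans.app M).hom
      ((1 : C) ⊗ₜ[B, b.hom] ((1 : B) ⊗ₜ[A, a.hom] m)) = (1 : C) ⊗ₜ[A, c.hom] m := by
  rw [← mapComp'_hom_one_tmul a b c h M m]
  have := Cat.Hom.hom_inv_id_toNatTrans_app (Desc.ringModPF.{u}.mapComp' (mo a).op.toLoc
    (mo b).op.toLoc (mo c).op.toLoc (toLoc_comp_eq a b c h)) M
  exact congrArg (fun k => k.hom ((1 : C) ⊗ₜ[A, c.hom] m)) this

section DD

variable (R S : Type u) [CommRing R] [CommRing S] [Algebra R S]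

/-- the structure map as a morphism of `CommRingCat` -/
abbrev fR : CommRingCat.of R ⟶ CommRingCat.of S := CommRingCat.ofHom (algebraMap R S)

/-- descent data for modules relative to `R → S` -/
abbrev DD := Desc.ringModPF.{u}.DescentData (fun _ : PUnit.{u + 1} => (fR R S).op)

variable {R S} (D : DD R S)

/-- the underlying `S`-module -/
def NN : ModuleCat.{u} S := D.obj PUnit.unit

/-- the gluing map attached to two ring maps `S → T` agreeing on `R` -/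
noncomputable def θ {T : CommRingCat.{u}} (q : CommRingCat.of R ⟶ T) (a₁ a₂ : CommRingCat.of S ⟶ T)
    (h₁ : fR R S ≫ a₁ = q) (h₂ : fR R S ≫ a₂ = q) :
    (extendScalars a₁.hom).obj (NN D) ⟶ (extendScalars a₂.hom).obj (NN D) :=
  D.hom (Y := op T) q.op a₁.op a₂.op (by rw [← op_comp, h₁]) (by rw [← op_comp, h₂])

lemma θ_self {T : CommRingCat.{u}} (q : CommRingCat.of R ⟶ T) (a : CommRingCat.of S ⟶ T)
    (h : fR R S ≫ a = q) : θ D q a a h h = 𝟙 _ :=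
  D.hom_self (Y := op T) q.op a.op (by rw [← op_comp, h])

lemma θ_comp {T : CommRingCat.{u}} (q : CommRingCat.of R ⟶ T) (a₁ a₂ a₃ : CommRingCat.of S ⟶ T)
    (h₁ : fR R S ≫ a₁ = q) (h₂ : fR R S ≫ a₂ = q) (h₃ : fR R S ≫ a₃ = q) :
    θ D q a₁ a₂ h₁ h₂ ≫ θ D q a₂ a₃ h₂ h₃ = θ D q a₁ a₃ h₁ h₃ :=
  D.hom_comp (Y := op T) q.op a₁.op a₂.op a₃.op (by rw [← op_comp, h₁]) (by rw [← op_comp, h₂])
    (by rw [← op_comp, h₃])

set_option backward.isDefEq.respectTransparency false in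
lemma θ_pull {T T' : CommRingCat.{u}} (g : T ⟶ T') (q : CommRingCat.of R ⟶ T)
    (a₁ a₂ : CommRingCat.of S ⟶ T) (h₁ : fR R S ≫ a₁ = q) (h₂ : fR R S ≫ a₂ = q)
    (q' : CommRingCat.of R ⟶ T') (a₁' a₂' : CommRingCat.of S ⟶ T')
    (hq : q ≫ g = q') (e₁ : a₁ ≫ g = a₁') (e₂ : a₂ ≫ g = a₂')
    (h₁' : fR R S ≫ a₁' = q') (h₂' : fR R S ≫ a₂' = q') (n : NN D) :
    (θ D q' a₁' a₂' h₁' h₂').hom ((1 : T') ⊗ₜ[S, a₁'.hom] n) =
      ((Desc.ringModPF.{u}.mapComp' (mo a₂).op.toLoc (mo g).op.toLoc (mo a₂').op.toLoc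
        (toLoc_comp_eq a₂ g a₂' e₂)).inv.toNatTrans.app (D.obj PUnit.unit)).hom
        ((1 : T') ⊗ₜ[T, g.hom] ((θ D q a₁ a₂ h₁ h₂).hom ((1 : T) ⊗ₜ[S, a₁.hom] n))) := by
  have hP := D.pullHom_hom (Y' := op T') (Y := op T) (i₁ := PUnit.unit) (i₂ := PUnit.unit) g.op q.op q'.op (by rw [← op_comp, hq])
    a₁.op a₂.op (by rw [← op_comp, h₁]) (by rw [← op_comp, h₂]) a₁'.op a₂'.op
    (by rw [← op_comp, e₁]) (by rw [← op_comp, e₂])
  unfold θ
  rw [← hP]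
  unfold pullHom
  have h3 := mapComp'_hom_one_tmul a₁ g a₁' e₁ (NN D) n
  show ((Desc.ringModPF.{u}.mapComp' (mo a₂).op.toLoc (mo g).op.toLoc (mo a₂').op.toLoc
        (toLoc_comp_eq a₂ g a₂' e₂)).inv.toNatTrans.app (D.obj PUnit.unit)).hom
      (((extendScalars g.hom).map (D.hom (Y := op T) q.op a₁.op a₂.op _ _)).hom
        (((Desc.ringModPF.{u}.mapComp' (mo a₁).op.toLoc (mo g).op.toLoc (mo a₁').op.toLoc
          (toLoc_comp_eq a₁ g a₁' e₁)).hom.toNatTrans.app (D.obj PUnit.unit)).hom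
            ((1 : T') ⊗ₜ[S, a₁'.hom] n))) = _
  erw [h3]
  rfl

end DD

end H10PT.MD
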