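import Mathlib
import Groth.Agent.Lib.Helper10.MD1

set_option autoImplicit false
universe u
open CategoryTheory CategoryTheory.Limits Opposite Bicategory TensorProduct ModuleCat
open ChangeOfRings

namespace H10PT.MD

section liftES

variable {S T : Type u} [CommRing S] [CommRing T] (a : S →+* T) (N : ModuleCat.{u} S)
  {P : Type*} [AddCommGroup P]

set_option backward.isDefEq.respectTransparency false in
/-- additive maps out of an extension of scalars -/
noncomputable def liftES (F : T →+ N →+ P)
    (hF : ∀ (s : S) (t : T) (n : N), F (a s * t) n = F t (s • n)) :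
    ((extendScalars a).obj N) →+ P :=
  TensorProduct.liftAddHom (R := S) (M := (restrictScalars a).obj (ModuleCat.of T T)) (N := N) F
    (fun s t n => hF s t n)

set_option backward.isDefEq.respectTransparency false in
lemma liftES_tmul (F : T →+ N →+ P)
    (hF : ∀ (s : S) (t : T) (n : N), F (a s * t) n = F t (s • n)) (t : T) (n : N) :
    liftES a N F hF (t ⊗ₜ[S, a] n) = F t n := rfl

set_option backward.isDefEq.respectTransparency false in
/-- induction principle for extension of scalars -/
lemma es_induction {motive : ((extendScalars a).obj N) → Prop}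
    (h0 : motive 0) (ht : ∀ (t : T) (n : N), motive (t ⊗ₜ[S, a] n))
    (ha : ∀ x y, motive x → motive y → motive (x + y)) (x : (extendScalars a).obj N) : motive x :=
  TensorProduct.induction_on x h0 ht ha

/-- two additive maps out of an extension of scalars agreeing on pure tensors agree -/
lemma es_addHom_ext {φ φ' : ((extendScalars a).obj N) →+ P}
    (h : ∀ (t : T) (n : N), φ (t ⊗ₜ[S, a] n) = φ' (t ⊗ₜ[S, a] n)) : φ = φ' := by
  ext x
  induction x using es_induction with
  | h0 => simp
  | ht t n => exact h t n
  | ha x y hx hy => rw [map_add, map_add, hx, hy]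

end liftES

section univ

variable (R S : Type u) [CommRing R] [CommRing S] [Algebra R S]

/-- the universal test ring `S ⊗[R] S` -/
abbrev T0 : CommRingCat.{u} := CommRingCat.of (S ⊗[R] S)

/-- left inclusion -/
noncomputable abbrev i1 : CommRingCat.of S ⟶ T0 R S :=
  CommRingCat.ofHom (Algebra.TensorProduct.includeLeftRingHom)

/-- right inclusion -/
noncomputable abbrev i2 : CommRingCat.of S ⟶ T0 R S :=
  CommRingCat.ofHom (Algebra.TensorProduct.includeRight (R := R) (A := S) (B := S)).toRingHom

lemma i1_i2 : fR R S ≫ i1 R S = fR R S ≫ i2 R S := by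
  ext r
  show (algebraMap R S r) ⊗ₜ[R] (1 : S) = (1 : S) ⊗ₜ[R] (algebraMap R S r)
  rw [Algebra.algebraMap_eq_smul_one, TensorProduct.smul_tmul]

variable {R S}
variable (N : ModuleCat.{u} S)

/-- `L U N` -/
noncomputable abbrev LU : ModuleCat.{u} S :=
  (extendScalars (algebraMap R S)).obj ((restrictScalars (algebraMap R S)).obj N)

set_option backward.isDefEq.respectTransparency false in
/-- `x ⊗ y ↦ x ⊗ (y • n)` -/
noncomputable def ιn (n : N) : (S ⊗[R] S) →+ (LU (R := R) N) :=
  TensorProduct.liftAddHom
    (AddMonoidHom.mk' (fun x : S => AddMonoidHom.mk'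
      (fun y : S => (x ⊗ₜ[R, algebraMap R S] ((y • n : N)) : LU (R := R) N))
      (fun y y' => by rw [add_smul]; exact TensorProduct.tmul_add _ _ _))
      (fun x x' => by
        ext y
        exact TensorProduct.add_tmul _ _ _))
    (fun r x y => by
      show ((r • x) ⊗ₜ[R, algebraMap R S] ((y • n : N)) : LU (R := R) N) =
        (x ⊗ₜ[R, algebraMap R S] (((r • y) • n : N)) : LU (R := R) N)
      rw [Algebra.smul_def, Algebra.smul_def, mul_smul]
      exact TensorProduct.smul_tmul (R := R) (R' := R)
        (M := (restrictScalars (algebraMap R S)).obj (ModuleCat.of S S))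
        (N := (restrictScalars (algebraMap R S)).obj N) r x (y • n))

set_option backward.isDefEq.respectTransparency false in
lemma ιn_tmul (n : N) (x y : S) :
    ιn (R := R) N n (x ⊗ₜ[R] y) = (x ⊗ₜ[R, algebraMap R S] ((y • n : N)) : LU (R := R) N) := rfl

set_option backward.isDefEq.respectTransparency false in
lemma ιn_add (n n' : N) (t : S ⊗[R] S) :
    ιn (R := R) N (n + n') t = ιn (R := R) N n t + ιn (R := R) N n' t := by
  induction t using TensorProduct.induction_on with
  | zero => simp
  | tmul x y =>
    rw [ιn_tmul, ιn_tmul, ιn_tmul, smul_add]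
    exact TensorProduct.tmul_add _ _ _
  | add t t' h h' => rw [map_add, map_add, map_add, h, h']; abel

set_option backward.isDefEq.respectTransparency false in
lemma ιn_bal (s : S) (n : N) (t : S ⊗[R] S) :
    ιn (R := R) N n ((i2 R S).hom s * t) = ιn (R := R) N (s • n) t := by
  induction t using TensorProduct.induction_on with
  | zero => simp
  | tmul x y =>
    show ιn (R := R) N n (((1 : S) ⊗ₜ[R] s) * (x ⊗ₜ[R] y)) = _
    rw [Algebra.TensorProduct.tmul_mul_tmul, ιn_tmul, ιn_tmul, one_mul, mul_comm, mul_smul]
  | add t t' h h' => rw [mul_add, map_add, map_add, h, h']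

set_option backward.isDefEq.respectTransparency false in
/-- the inverse base change map `(S ⊗[R] S) ⊗_{S, i₂} N → S ⊗[R] N` -/
noncomputable def α2 : ((extendScalars (i2 R S).hom).obj N) →+ (LU (R := R) N) :=
  liftES (i2 R S).hom N
    (AddMonoidHom.mk' (fun t : S ⊗[R] S => AddMonoidHom.mk' (fun n : N => ιn (R := R) N n t)
      (fun n n' => ιn_add N n n' t))
      (fun t t' => by ext n; exact map_add (ιn (R := R) N n) t t'))
    (fun s t n => ιn_bal N s n t)

set_option backward.isDefEq.respectTransparency false in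
lemma α2_tmul (x y : S) (n : N) :
    α2 (R := R) N ((x ⊗ₜ[R] y) ⊗ₜ[S, (i2 R S).hom] n) =
      (x ⊗ₜ[R, algebraMap R S] ((y • n : N)) : LU (R := R) N) := rfl

set_option backward.isDefEq.respectTransparency false in
/-- induction principle for `(S ⊗[R] S) ⊗_{S, i₂} N` -/
lemma T0_induction {motive : ((extendScalars (i2 R S).hom).obj N) → Prop}
    (h0 : motive 0) (ht : ∀ (x y : S) (n : N), motive ((x ⊗ₜ[R] y) ⊗ₜ[S, (i2 R S).hom] n))
    (ha : ∀ w w', motive w → motive w' → motive (w + w'))
    (w : (extendScalars (i2 R S).hom).obj N) : motive w := by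
  induction w using es_induction with
  | h0 => exact h0
  | ht t n =>
    induction t using TensorProduct.induction_on with
    | zero =>
      have : ((0 : S ⊗[R] S) ⊗ₜ[S, (i2 R S).hom] n : (extendScalars (i2 R S).hom).obj N) = 0 :=
        TensorProduct.zero_tmul _ _
      rw [this]; exact h0
    | tmul x y => exact ht x y n
    | add t t' h h' =>
      have : ((t + t') ⊗ₜ[S, (i2 R S).hom] n : (extendScalars (i2 R S).hom).obj N) =
          t ⊗ₜ[S, (i2 R S).hom] n + t' ⊗ₜ[S, (i2 R S).hom] n := TensorProduct.add_tmul _ _ _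
      rw [this]; exact ha _ _ h h'
  | ha x y hx hy => exact ha x y hx hy

lemma T0_addHom_ext {P : Type*} [AddCommGroup P]
    {φ φ' : ((extendScalars (i2 R S).hom).obj N) →+ P}
    (h : ∀ (x y : S) (n : N), φ ((x ⊗ₜ[R] y) ⊗ₜ[S, (i2 R S).hom] n) =
      φ' ((x ⊗ₜ[R] y) ⊗ₜ[S, (i2 R S).hom] n)) : φ = φ' := by
  ext w
  induction w using T0_induction with
  | h0 => rw [map_zero, map_zero]
  | ht x y n => exact h x y n
  | ha w w' hw hw' => rw [map_add, map_add, hw, hw']

set_option backward.isDefEq.respectTransparency false in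
lemma α2_smul (s : S) (w : (extendScalars (i2 R S).hom).obj N) :
    α2 (R := R) N ((i1 R S).hom s • w) = s • α2 (R := R) N w := by
  induction w using T0_induction with
  | h0 => rw [smul_zero, map_zero, smul_zero]
  | ht x y n =>
    rw [ExtendScalars.smul_tmul]
    show α2 (R := R) N (((s ⊗ₜ[R] (1 : S)) * (x ⊗ₜ[R] y)) ⊗ₜ[S, (i2 R S).hom] n) = _
    rw [Algebra.TensorProduct.tmul_mul_tmul, α2_tmul, α2_tmul, one_mul]
    rfl
  | ha w w' hw hw' => rw [smul_add, map_add, map_add, hw, hw', smul_add]

end univ

end H10PT.MD
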