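import Mathlib
import Groth.Agent.Lib.Helper10.MD2

set_option autoImplicit false
universe u
open CategoryTheory CategoryTheory.Limits Opposite Bicategory TensorProduct ModuleCat
open ChangeOfRings

namespace H10PT.MD

open Pseudofunctor LocallyDiscreteOpToCat

section

variable {R S : Type u} [CommRing R] [CommRing S] [Algebra R S] (D : DD R S)

/-- the universal gluing map -/
noncomputable def ψ : (extendScalars (i1 R S).hom).obj (NN D) ⟶ (extendScalars (i2 R S).hom).obj (NN D) :=
  θ D (fR R S ≫ i1 R S) (i1 R S) (i2 R S) rfl (i1_i2 R S).symm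

set_option backward.isDefEq.respectTransparency false in
/-- the coaction, as a function -/
noncomputable def aFun (n : NN D) : LU (R := R) (NN D) :=
  α2 (R := R) (NN D) ((ψ D).hom ((1 : S ⊗[R] S) ⊗ₜ[S, (i1 R S).hom] n))

set_option backward.isDefEq.respectTransparency false in
lemma aFun_add (n n' : NN D) : aFun D (n + n') = aFun D n + aFun D n' := by
  unfold aFun
  have : ((1 : S ⊗[R] S) ⊗ₜ[S, (i1 R S).hom] (n + n') : (extendScalars (i1 R S).hom).obj (NN D)) =
      (1 : S ⊗[R] S) ⊗ₜ[S, (i1 R S).hom] n + (1 : S ⊗[R] S) ⊗ₜ[S, (i1 R S).hom] n' :=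
    TensorProduct.tmul_add _ _ _
  rw [this, map_add, map_add]

set_option backward.isDefEq.respectTransparency false in
lemma one_tmul_smul {T : Type u} [CommRing T] (a : S →+* T) (N : ModuleCat.{u} S) (s : S) (n : N) :
    ((1 : T) ⊗ₜ[S, a] (s • n) : (extendScalars a).obj N) = a s • ((1 : T) ⊗ₜ[S, a] n) := by
  rw [ExtendScalars.smul_tmul, mul_one]
  have := TensorProduct.smul_tmul (R := S) (R' := S)
    (M := (restrictScalars a).obj (ModuleCat.of T T)) (N := N) s (1 : T) n
  rw [← this]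
  congr 1
  show a s * 1 = a s
  rw [mul_one]

set_option backward.isDefEq.respectTransparency false in
lemma aFun_smul (s : S) (n : NN D) : aFun D (s • n) = s • aFun D n := by
  unfold aFun
  rw [one_tmul_smul, map_smul, α2_smul]

/-- the coaction as a morphism of `S`-modules -/
noncomputable def aLin : (NN D) →ₗ[S] (LU (R := R) (NN D)) :=
  { toFun := aFun D
    map_add' := aFun_add D
    map_smul' := fun s n => aFun_smul D s n }

/-- the coaction as a morphism of `S`-modules -/
noncomputable def aHom : NN D ⟶ LU (R := R) (NN D) :=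
  ModuleCat.ofHom (R := S) (X := NN D) (Y := LU (R := R) (NN D)) (aLin D)

lemma aHom_apply (n : NN D) : (aHom D).hom n = aFun D n := rfl

end

section Lam

variable {R S : Type u} [CommRing R] [CommRing S] [Algebra R S] (N : ModuleCat.{u} S)
  {T : CommRingCat.{u}} (a₁ a₂ : CommRingCat.of S ⟶ T) (h : fR R S ≫ a₁ = fR R S ≫ a₂)

include h in
lemma a_agree (r : R) : a₁.hom (algebraMap R S r) = a₂.hom (algebraMap R S r) := by
  have := congrArg (fun k => k.hom r) h
  exact this

set_option backward.isDefEq.respectTransparency false in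
/-- `s ⊗ n ↦ a₁ s ⊗ n` -/
noncomputable def Λ : (LU (R := R) N) →+ ((extendScalars a₂.hom).obj N) :=
  liftES (algebraMap R S) ((restrictScalars (algebraMap R S)).obj N)
    (AddMonoidHom.mk' (fun s : S => AddMonoidHom.mk'
      (fun n : (restrictScalars (algebraMap R S)).obj N =>
        ((a₁.hom s) ⊗ₜ[S, a₂.hom] (show N from n) : (extendScalars a₂.hom).obj N))
      (fun n n' => TensorProduct.tmul_add _ _ _))
      (fun s s' => by
        ext n
        show ((a₁.hom (s + s')) ⊗ₜ[S, a₂.hom] (show N from n) : (extendScalars a₂.hom).obj N) = _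
        rw [map_add]
        exact TensorProduct.add_tmul _ _ _))
    (fun r s n => by
      show ((a₁.hom (algebraMap R S r * s)) ⊗ₜ[S, a₂.hom] (show N from n) :
        (extendScalars a₂.hom).obj N) =
        ((a₁.hom s) ⊗ₜ[S, a₂.hom] ((algebraMap R S r) • (show N from n)) :
          (extendScalars a₂.hom).obj N)
      have := TensorProduct.smul_tmul (R := S) (R' := S)
        (M := (restrictScalars a₂.hom).obj (ModuleCat.of T T)) (N := N) (algebraMap R S r)
        (a₁.hom s) (show N from n)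
      rw [← this, map_mul, a_agree a₁ a₂ h r]
      rfl)

set_option backward.isDefEq.respectTransparency false in
lemma Λ_tmul (s : S) (n : N) :
    Λ N a₁ a₂ h ((s ⊗ₜ[R, algebraMap R S] n : LU (R := R) N)) =
      ((a₁.hom s) ⊗ₜ[S, a₂.hom] n : (extendScalars a₂.hom).obj N) := rfl

end Lam

section bc

variable {S : Type u} [CommRing S] (N : ModuleCat.{u} S)
  {A B : CommRingCat.{u}} (g : A ⟶ B) (a : CommRingCat.of S ⟶ A) (a' : CommRingCat.of S ⟶ B)
  (e : a ≫ g = a')

set_option backward.isDefEq.respectTransparency false in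
/-- base change of elements along `g` -/
noncomputable def bc : ((extendScalars a.hom).obj N) →+ ((extendScalars a'.hom).obj N) :=
  AddMonoidHom.mk' (fun w =>
    ((Desc.ringModPF.{u}.mapComp' (mo a).op.toLoc (mo g).op.toLoc (mo a').op.toLoc
        (toLoc_comp_eq a g a' e)).inv.toNatTrans.app N).hom ((1 : B) ⊗ₜ[A, g.hom] w))
    (fun w w' => by
      have : ((1 : B) ⊗ₜ[A, g.hom] (w + w') :
          (extendScalars g.hom).obj ((extendScalars a.hom).obj N)) =
          (1 : B) ⊗ₜ[A, g.hom] w + (1 : B) ⊗ₜ[A, g.hom] w' := TensorProduct.tmul_add _ _ _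
      rw [this, map_add])

set_option backward.isDefEq.respectTransparency false in
lemma bc_tmul (t : A) (n : N) :
    bc N g a a' e (t ⊗ₜ[S, a.hom] n) = ((g.hom t) ⊗ₜ[S, a'.hom] n : (extendScalars a'.hom).obj N) := by
  have h1 : (t ⊗ₜ[S, a.hom] n : (extendScalars a.hom).obj N) = t • ((1 : A) ⊗ₜ[S, a.hom] n) := by
    rw [ExtendScalars.smul_tmul, mul_one]
  have h2 := one_tmul_smul g.hom ((extendScalars a.hom).obj N) t ((1 : A) ⊗ₜ[S, a.hom] n)
  have h3 := mapComp'_inv_one_tmul a g a' e N n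
  let I := ((Desc.ringModPF.{u}.mapComp' (mo a).op.toLoc (mo g).op.toLoc (mo a').op.toLoc
        (toLoc_comp_eq a g a' e)).inv.toNatTrans.app N).hom
  show I ((1 : B) ⊗ₜ[A, g.hom] (t ⊗ₜ[S, a.hom] n)) = _
  have e1 : I ((1 : B) ⊗ₜ[A, g.hom] (t ⊗ₜ[S, a.hom] n)) =
      I (g.hom t • ((1 : B) ⊗ₜ[A, g.hom] ((1 : A) ⊗ₜ[S, a.hom] n))) := by
    rw [← h2, ← h1]
  have e2 : I (g.hom t • ((1 : B) ⊗ₜ[A, g.hom] ((1 : A) ⊗ₜ[S, a.hom] n))) =
      g.hom t • I ((1 : B) ⊗ₜ[A, g.hom] ((1 : A) ⊗ₜ[S, a.hom] n)) := map_smul I _ _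
  have e3 : g.hom t • I ((1 : B) ⊗ₜ[A, g.hom] ((1 : A) ⊗ₜ[S, a.hom] n)) =
      g.hom t • ((1 : B) ⊗ₜ[S, a'.hom] n : (extendScalars a'.hom).obj N) := congrArg _ h3
  rw [e1, e2, e3, ExtendScalars.smul_tmul, mul_one]

end bc

end H10PT.MD
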