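import Mathlib
import Groth.Agent.Lib.Helper10.MD3

set_option autoImplicit false
universe u
open CategoryTheory CategoryTheory.Limits Opposite Bicategory TensorProduct ModuleCat
open ChangeOfRings

namespace H10PT.MD

open Pseudofunctor LocallyDiscreteOpToCat

section

variable {R S : Type u} [CommRing R] [CommRing S] [Algebra R S]

lemma exists_g {T : CommRingCat.{u}} (q : CommRingCat.of R ⟶ T) (a₁ a₂ : CommRingCat.of S ⟶ T)
    (h₁ : fR R S ≫ a₁ = q) (h₂ : fR R S ≫ a₂ = q) :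
    ∃ g : T0 R S ⟶ T, i1 R S ≫ g = a₁ ∧ i2 R S ≫ g = a₂ ∧
      ∀ x y : S, g.hom (x ⊗ₜ[R] y) = a₁.hom x * a₂.hom y := by
  letI : Algebra R T := q.hom.toAlgebra
  let a₁' : S →ₐ[R] T :=
    { a₁.hom with commutes' := fun r => (congrArg (fun k => k.hom r) h₁) }
  let a₂' : S →ₐ[R] T :=
    { a₂.hom with commutes' := fun r => (congrArg (fun k => k.hom r) h₂) }
  refine ⟨CommRingCat.ofHom (Algebra.TensorProduct.productMap a₁' a₂').toRingHom, ?_, ?_, ?_⟩
  · ext s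
    show Algebra.TensorProduct.productMap a₁' a₂' (s ⊗ₜ[R] (1 : S)) = a₁.hom s
    rw [Algebra.TensorProduct.productMap_apply_tmul, map_one, mul_one]
    rfl
  · ext s
    show Algebra.TensorProduct.productMap a₁' a₂' ((1 : S) ⊗ₜ[R] s) = a₂.hom s
    rw [Algebra.TensorProduct.productMap_apply_tmul, map_one, one_mul]
    rfl
  · intro x y
    show Algebra.TensorProduct.productMap a₁' a₂' (x ⊗ₜ[R] y) = _
    rw [Algebra.TensorProduct.productMap_apply_tmul]
    rfl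

variable (D : DD R S)

set_option backward.isDefEq.respectTransparency false in
lemma tmul_bal {T : Type u} [CommRing T] (a : S →+* T) (N : ModuleCat.{u} S) (t : T) (s : S)
    (n : N) : ((t * a s) ⊗ₜ[S, a] n : (extendScalars a).obj N) = t ⊗ₜ[S, a] (s • n) := by
  have := TensorProduct.smul_tmul (R := S) (R' := S)
    (M := (restrictScalars a).obj (ModuleCat.of T T)) (N := N) s t n
  rw [← this]
  congr 1
  show t * a s = a s * t
  rw [mul_comm]

set_option backward.isDefEq.respectTransparency false in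
lemma bc_eq_Λ_α2 {T : CommRingCat.{u}} (q : CommRingCat.of R ⟶ T) (a₁ a₂ : CommRingCat.of S ⟶ T)
    (h₁ : fR R S ≫ a₁ = q) (h₂ : fR R S ≫ a₂ = q) (g : T0 R S ⟶ T) (e₂ : i2 R S ≫ g = a₂)
    (hg : ∀ x y : S, g.hom (x ⊗ₜ[R] y) = a₁.hom x * a₂.hom y) (N : ModuleCat.{u} S)
    (w : (extendScalars (i2 R S).hom).obj N) :
    bc N g (i2 R S) a₂ e₂ w = Λ N a₁ a₂ (h₁.trans h₂.symm) (α2 (R := R) N w) := by
  have key : bc N g (i2 R S) a₂ e₂ = (Λ N a₁ a₂ (h₁.trans h₂.symm)).comp (α2 (R := R) N) :=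
    T0_addHom_ext N (fun x y n => by
      rw [bc_tmul, AddMonoidHom.comp_apply, α2_tmul, Λ_tmul, hg, tmul_bal])
  exact DFunLike.congr_fun key w

set_option backward.isDefEq.respectTransparency false in
/-- the gluing maps are all determined by the coaction -/
lemma star {T : CommRingCat.{u}} (q : CommRingCat.of R ⟶ T) (a₁ a₂ : CommRingCat.of S ⟶ T)
    (h₁ : fR R S ≫ a₁ = q) (h₂ : fR R S ≫ a₂ = q) (n : NN D) :
    (θ D q a₁ a₂ h₁ h₂).hom ((1 : T) ⊗ₜ[S, a₁.hom] n) =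
      Λ (NN D) a₁ a₂ (h₁.trans h₂.symm) (aFun D n) := by
  obtain ⟨g, e₁, e₂, hg⟩ := exists_g q a₁ a₂ h₁ h₂
  have hp := θ_pull D g (fR R S ≫ i1 R S) (i1 R S) (i2 R S) rfl (i1_i2 R S).symm q a₁ a₂
    (by rw [Category.assoc, e₁, h₁]) e₁ e₂ h₁ h₂ n
  rw [hp]
  exact bc_eq_Λ_α2 q a₁ a₂ h₁ h₂ g e₂ hg (NN D) _

end

end H10PT.MD
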