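import Mathlib
import Groth.Agent.Lib.Helper10.MD4

set_option autoImplicit false
universe u
open CategoryTheory CategoryTheory.Limits Opposite Bicategory TensorProduct ModuleCat
open ChangeOfRings

namespace H10PT.MD

open Pseudofunctor LocallyDiscreteOpToCat

section counit

variable {R S : Type u} [CommRing R] [CommRing S] [Algebra R S]

/-- the identity of `S` in `CommRingCat` -/
abbrev idS (S : Type u) [CommRing S] : CommRingCat.of S ⟶ CommRingCat.of S := 𝟙 _

set_option backward.isDefEq.respectTransparency false in
/-- `t ⊗ n ↦ t • n` on `S ⊗_{S, id} N` -/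
noncomputable def μ (N : ModuleCat.{u} S) :
    ((extendScalars (idS S).hom).obj N) →+ N :=
  liftES (idS S).hom N
    (AddMonoidHom.mk' (fun t : S => AddMonoidHom.mk' (fun n : N => t • n) (fun n n' => smul_add _ _ _))
      (fun t t' => by ext n; exact add_smul _ _ _))
    (fun s t n => by
      show ((idS S).hom s * t) • n = t • (s • n)
      rw [mul_comm, mul_smul]
      rfl)

set_option backward.isDefEq.respectTransparency false in
lemma μ_tmul (N : ModuleCat.{u} S) (t : S) (n : N) :
    μ N (t ⊗ₜ[S, (idS S).hom] n) = t • n := rfl

variable (D : DD R S)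

set_option backward.isDefEq.respectTransparency false in
lemma counit_eq (N : ModuleCat.{u} S) (w : LU (R := R) N) :
    ((extendRestrictScalarsAdj (algebraMap R S)).counit.app N).hom w =
      μ N (Λ N (idS S) (idS S) rfl w) := by
  induction w using es_induction with
  | h0 => rw [map_zero, map_zero, map_zero]
  | ht s n =>
    rw [Λ_tmul, μ_tmul]
    rfl
  | ha x y hx hy => rw [map_add, map_add, map_add, hx, hy]

set_option backward.isDefEq.respectTransparency false in
lemma counit_aFun (n : NN D) :
    ((extendRestrictScalarsAdj (algebraMap R S)).counit.app (NN D)).hom (aFun D n) = n := by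
  rw [counit_eq]
  have h := star D (fR R S) (idS S) (idS S) (Category.comp_id _) (Category.comp_id _) n
  rw [θ_self] at h
  rw [← h]
  show μ (NN D) ((1 : S) ⊗ₜ[S, (idS S).hom] n) = n
  rw [μ_tmul, one_smul]

end counit

end H10PT.MD
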