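import Mathlib
import Groth.Agent.Lib.Helper10.MD5

set_option autoImplicit false
universe u
open CategoryTheory CategoryTheory.Limits Opposite Bicategory TensorProduct ModuleCat
open ChangeOfRings

namespace H10PT.MD

open Pseudofunctor LocallyDiscreteOpToCat

section T3

variable (R S : Type u) [CommRing R] [CommRing S] [Algebra R S]

/-- the triple test ring `S ⊗[R] (S ⊗[R] S)` -/
abbrev T3 : CommRingCat.{u} := CommRingCat.of (S ⊗[R] (S ⊗[R] S))

/-- inclusion of the last two factors -/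
noncomputable abbrev k3 : T0 R S ⟶ T3 R S :=
  CommRingCat.ofHom (Algebra.TensorProduct.includeRight (R := R) (A := S) (B := S ⊗[R] S)).toRingHom

/-- first factor -/
noncomputable abbrev j1 : CommRingCat.of S ⟶ T3 R S :=
  CommRingCat.ofHom (Algebra.TensorProduct.includeLeftRingHom)

/-- second factor -/
noncomputable abbrev j2 : CommRingCat.of S ⟶ T3 R S := i1 R S ≫ k3 R S

/-- third factor -/
noncomputable abbrev j3 : CommRingCat.of S ⟶ T3 R S := i2 R S ≫ k3 R S

lemma j1_apply (s : S) : (j1 R S).hom s = s ⊗ₜ[R] ((1 : S) ⊗ₜ[R] (1 : S)) := rfl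
lemma j2_apply (s : S) : (j2 R S).hom s = (1 : S) ⊗ₜ[R] (s ⊗ₜ[R] (1 : S)) := rfl
lemma j3_apply (s : S) : (j3 R S).hom s = (1 : S) ⊗ₜ[R] ((1 : S) ⊗ₜ[R] s) := rfl

lemma j12 : fR R S ≫ j2 R S = fR R S ≫ j1 R S := by
  ext r
  show (1 : S) ⊗ₜ[R] ((algebraMap R S r) ⊗ₜ[R] (1 : S)) =
    (algebraMap R S r) ⊗ₜ[R] ((1 : S) ⊗ₜ[R] (1 : S))
  rw [Algebra.algebraMap_eq_smul_one, ← TensorProduct.smul_tmul' r (1 : S) (1 : S),
    TensorProduct.tmul_smul, TensorProduct.smul_tmul']

lemma j13 : fR R S ≫ j3 R S = fR R S ≫ j1 R S := by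
  ext r
  show (1 : S) ⊗ₜ[R] ((1 : S) ⊗ₜ[R] (algebraMap R S r)) =
    (algebraMap R S r) ⊗ₜ[R] ((1 : S) ⊗ₜ[R] (1 : S))
  rw [Algebra.algebraMap_eq_smul_one, TensorProduct.tmul_smul, TensorProduct.tmul_smul,
    TensorProduct.smul_tmul']

end T3

section alpha3

variable {R S : Type u} [CommRing R] [CommRing S] [Algebra R S] (N : ModuleCat.{u} S)

set_option backward.isDefEq.respectTransparency false in
lemma α2_smulR (r : R) (t : S ⊗[R] S) (n : N) :
    α2 (R := R) N ((r • t) ⊗ₜ[S, (i2 R S).hom] n) =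
      (algebraMap R S r) • α2 (R := R) N (t ⊗ₜ[S, (i2 R S).hom] n) := by
  rw [← α2_smul, ExtendScalars.smul_tmul]
  congr 2
  rw [Algebra.smul_def]
  rfl

set_option backward.isDefEq.respectTransparency false in
/-- `x ⊗ t ↦ x ⊗ α₂ (t ⊗ n)` -/
noncomputable def κn (n : N) : (S ⊗[R] (S ⊗[R] S)) →+ (LU (R := R) (LU (R := R) N)) :=
  TensorProduct.liftAddHom
    (AddMonoidHom.mk' (fun x : S => AddMonoidHom.mk'
      (fun t : S ⊗[R] S => (x ⊗ₜ[R, algebraMap R S]
        (α2 (R := R) N (t ⊗ₜ[S, (i2 R S).hom] n)) : LU (R := R) (LU (R := R) N)))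
      (fun t t' => by
        have : ((t + t') ⊗ₜ[S, (i2 R S).hom] n : (extendScalars (i2 R S).hom).obj N) =
          t ⊗ₜ[S, (i2 R S).hom] n + t' ⊗ₜ[S, (i2 R S).hom] n := TensorProduct.add_tmul _ _ _
        rw [this, map_add]
        exact TensorProduct.tmul_add _ _ _))
      (fun x x' => by
        ext t
        exact TensorProduct.add_tmul _ _ _))
    (fun r x t => by
      show ((r • x) ⊗ₜ[R, algebraMap R S] (α2 (R := R) N (t ⊗ₜ[S, (i2 R S).hom] n)) :
          LU (R := R) (LU (R := R) N)) =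
        (x ⊗ₜ[R, algebraMap R S] (α2 (R := R) N ((r • t) ⊗ₜ[S, (i2 R S).hom] n)) :
          LU (R := R) (LU (R := R) N))
      rw [α2_smulR, Algebra.smul_def]
      exact TensorProduct.smul_tmul (R := R) (R' := R)
        (M := (restrictScalars (algebraMap R S)).obj (ModuleCat.of S S))
        (N := (restrictScalars (algebraMap R S)).obj (LU (R := R) N)) r x _)

set_option backward.isDefEq.respectTransparency false in
lemma κn_tmul (n : N) (x : S) (t : S ⊗[R] S) :
    κn (R := R) N n (x ⊗ₜ[R] t) = (x ⊗ₜ[R, algebraMap R S]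
      (α2 (R := R) N (t ⊗ₜ[S, (i2 R S).hom] n)) : LU (R := R) (LU (R := R) N)) := rfl

set_option backward.isDefEq.respectTransparency false in
lemma κn_add (n n' : N) (τ : S ⊗[R] (S ⊗[R] S)) :
    κn (R := R) N (n + n') τ = κn (R := R) N n τ + κn (R := R) N n' τ := by
  induction τ using TensorProduct.induction_on with
  | zero => simp
  | tmul x t =>
    rw [κn_tmul, κn_tmul, κn_tmul]
    have : (t ⊗ₜ[S, (i2 R S).hom] (n + n') : (extendScalars (i2 R S).hom).obj N) =
        t ⊗ₜ[S, (i2 R S).hom] n + t ⊗ₜ[S, (i2 R S).hom] n' := TensorProduct.tmul_add _ _ _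
    rw [this, map_add]
    exact TensorProduct.tmul_add _ _ _
  | add t t' h h' => rw [map_add, map_add, map_add, h, h']; abel

set_option backward.isDefEq.respectTransparency false in
lemma κn_bal (s : S) (n : N) (τ : S ⊗[R] (S ⊗[R] S)) :
    κn (R := R) N n ((j3 R S).hom s * τ) = κn (R := R) N (s • n) τ := by
  induction τ using TensorProduct.induction_on with
  | zero => simp
  | tmul x t =>
    rw [j3_apply, Algebra.TensorProduct.tmul_mul_tmul, κn_tmul, κn_tmul, one_mul]
    congr 2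
    have := tmul_bal (i2 R S).hom N t s n
    rw [← this, mul_comm]
    rfl
  | add t t' h h' => rw [mul_add, map_add, map_add, h, h']

set_option backward.isDefEq.respectTransparency false in
/-- `(x ⊗ t) ⊗ n ↦ x ⊗ α₂ (t ⊗ n)` -/
noncomputable def α3 : ((extendScalars (j3 R S).hom).obj N) →+ (LU (R := R) (LU (R := R) N)) :=
  liftES (j3 R S).hom N
    (AddMonoidHom.mk' (fun τ : S ⊗[R] (S ⊗[R] S) => AddMonoidHom.mk'
      (fun n : N => κn (R := R) N n τ) (fun n n' => κn_add N n n' τ))
      (fun τ τ' => by ext n; exact map_add (κn (R := R) N n) τ τ'))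
    (fun s τ n => κn_bal N s n τ)

set_option backward.isDefEq.respectTransparency false in
lemma α3_tmul (x : S) (t : S ⊗[R] S) (n : N) :
    α3 (R := R) N ((x ⊗ₜ[R] t) ⊗ₜ[S, (j3 R S).hom] n) =
      (x ⊗ₜ[R, algebraMap R S] (α2 (R := R) N (t ⊗ₜ[S, (i2 R S).hom] n)) :
        LU (R := R) (LU (R := R) N)) := rfl

set_option backward.isDefEq.respectTransparency false in
lemma claimA' (s : S) (w' : LU (R := R) N) :
    α3 (R := R) N ((j1 R S).hom s • Λ N (j2 R S) (j3 R S) ((j12 R S).trans (j13 R S).symm) w') =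
      (s ⊗ₜ[R, algebraMap R S] w' : LU (R := R) (LU (R := R) N)) := by
  induction w' using es_induction with
  | h0 =>
    rw [map_zero, smul_zero, map_zero]
    exact (TensorProduct.tmul_zero _ _).symm
  | ht s' n' =>
    have hmul : (j1 R S).hom s * (j2 R S).hom s' = s ⊗ₜ[R] (s' ⊗ₜ[R] (1 : S)) := by
      rw [j1_apply, j2_apply]
      simp only [Algebra.TensorProduct.tmul_mul_tmul, mul_one, one_mul]
    rw [Λ_tmul, ExtendScalars.smul_tmul, hmul, α3_tmul, α2_tmul, one_smul]
  | ha x y hx hy =>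
    rw [map_add, smul_add, map_add, hx, hy]
    exact (TensorProduct.tmul_add _ _ _).symm

set_option backward.isDefEq.respectTransparency false in
lemma claimB (w : LU (R := R) N) :
    α3 (R := R) N (Λ N (j1 R S) (j3 R S) (j13 R S).symm w) =
      ((extendScalars (algebraMap R S)).map
        ((extendRestrictScalarsAdj (algebraMap R S)).unit.app
          ((restrictScalars (algebraMap R S)).obj N))).hom w := by
  induction w using es_induction with
  | h0 => rw [map_zero, map_zero, map_zero]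
  | ht s n =>
    rw [Λ_tmul, j1_apply, α3_tmul, α2_tmul, one_smul]
    rfl
  | ha x y hx hy => rw [map_add, map_add, map_add, hx, hy]

end alpha3

end H10PT.MD
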