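import Mathlib
import Groth.Agent.Lib.Helper10.MD6

set_option autoImplicit false
universe u
open CategoryTheory CategoryTheory.Limits Opposite Bicategory TensorProduct ModuleCat
open ChangeOfRings

namespace H10PT.MD

open Pseudofunctor LocallyDiscreteOpToCat

section

variable {R S : Type u} [CommRing R] [CommRing S] [Algebra R S] (D : DD R S)

/-- the gluing map between the second and third factor -/
noncomputable def θ23 :
    (extendScalars (j2 R S).hom).obj (NN D) ⟶ (extendScalars (j3 R S).hom).obj (NN D) :=
  θ D (fR R S ≫ j1 R S) (j2 R S) (j3 R S) (j12 R S) (j13 R S)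

set_option backward.isDefEq.respectTransparency false in
lemma claimA (w : LU (R := R) (NN D)) :
    α3 (R := R) (NN D) ((θ23 D).hom (Λ (NN D) (j1 R S) (j2 R S) (j12 R S).symm w)) =
      ((extendScalars (algebraMap R S)).map
        ((restrictScalars (algebraMap R S)).map (aHom D))).hom w := by
  induction w using es_induction with
  | h0 => rw [map_zero, map_zero, map_zero, map_zero]
  | ht s n =>
    rw [Λ_tmul]
    have e1 : (((j1 R S).hom s) ⊗ₜ[S, (j2 R S).hom] (show NN D from n) :
        (extendScalars (j2 R S).hom).obj (NN D)) =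
        (j1 R S).hom s • ((1 : S ⊗[R] (S ⊗[R] S)) ⊗ₜ[S, (j2 R S).hom] (show NN D from n)) := by
      rw [ExtendScalars.smul_tmul, mul_one]
    rw [e1, map_smul]
    have e2 := star D (fR R S ≫ j1 R S) (j2 R S) (j3 R S) (j12 R S) (j13 R S) (show NN D from n)
    unfold θ23
    rw [e2, claimA']
    rfl
  | ha x y hx hy => rw [map_add, map_add, map_add, map_add, hx, hy]

set_option backward.isDefEq.respectTransparency false in
lemma coassoc_aFun (n : NN D) :
    ((extendScalars (algebraMap R S)).map
        ((restrictScalars (algebraMap R S)).map (aHom D))).hom (aFun D n) =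
      ((extendScalars (algebraMap R S)).map
        ((extendRestrictScalarsAdj (algebraMap R S)).unit.app
          ((restrictScalars (algebraMap R S)).obj (NN D)))).hom (aFun D n) := by
  rw [← claimA, ← claimB]
  congr 1
  rw [← star D (fR R S ≫ j1 R S) (j1 R S) (j2 R S) rfl (j12 R S) n,
    ← star D (fR R S ≫ j1 R S) (j1 R S) (j3 R S) rfl (j13 R S) n]
  have := θ_comp D (fR R S ≫ j1 R S) (j1 R S) (j2 R S) (j3 R S) rfl (j12 R S) (j13 R S)
  exact congrArg (fun k => k.hom ((1 : S ⊗[R] (S ⊗[R] S)) ⊗ₜ[S, (j1 R S).hom] n)) this

set_option backward.isDefEq.respectTransparency false in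
/-- the Eilenberg–Moore coalgebra attached to a descent datum -/
noncomputable def coalg : (extendRestrictScalarsAdj (algebraMap R S)).toComonad.Coalgebra where
  A := NN D
  a := aHom D
  counit := by
    apply ModuleCat.hom_ext
    apply LinearMap.ext
    intro n
    exact counit_aFun D n
  coassoc := by
    apply ModuleCat.hom_ext
    apply LinearMap.ext
    intro n
    exact (coassoc_aFun D n).symm

end

end H10PT.MD
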