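import Mathlib
import Groth.Agent.Lib.Helper10.MD7

set_option autoImplicit false
universe u
open CategoryTheory CategoryTheory.Limits Opposite Bicategory TensorProduct ModuleCat
open ChangeOfRings

namespace H10PT.MD

open Pseudofunctor LocallyDiscreteOpToCat

section

variable {R S : Type u} [CommRing R] [CommRing S] [Algebra R S] (D : DD R S)

set_option backward.isDefEq.respectTransparency false in
lemma comm_aux (M : ModuleCat.{u} R) (E : (extendScalars (algebraMap R S)).obj M ⟶ NN D)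
    (hE : ∀ m : M, aFun D (E.hom ((1 : S) ⊗ₜ[R, algebraMap R S] m)) =
      ((1 : S) ⊗ₜ[R, algebraMap R S] (E.hom ((1 : S) ⊗ₜ[R, algebraMap R S] m)) :
        LU (R := R) (NN D)))
    {T : CommRingCat.{u}} (q : CommRingCat.of R ⟶ T) (a₁ a₂ : CommRingCat.of S ⟶ T)
    (h₁ : fR R S ≫ a₁ = q) (h₂ : fR R S ≫ a₂ = q) (m : M) :
    (θ D q a₁ a₂ h₁ h₂).hom (((extendScalars a₁.hom).map E).hom
      (((Desc.ringModPF.{u}.mapComp' (mo (fR R S)).op.toLoc (mo a₁).op.toLoc (mo q).op.toLoc
        (toLoc_comp_eq (fR R S) a₁ q h₁)).hom.toNatTrans.app M).hom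
          ((1 : T) ⊗ₜ[R, q.hom] m))) =
    ((extendScalars a₂.hom).map E).hom
      (((Desc.ringModPF.{u}.mapComp' (mo (fR R S)).op.toLoc (mo a₂).op.toLoc (mo q).op.toLoc
        (toLoc_comp_eq (fR R S) a₂ q h₂)).hom.toNatTrans.app M).hom
          ((1 : T) ⊗ₜ[R, q.hom] m)) := by
  rw [mapComp'_hom_one_tmul (fR R S) a₁ q h₁ M m, mapComp'_hom_one_tmul (fR R S) a₂ q h₂ M m]
  rw [ExtendScalars.map_tmul, ExtendScalars.map_tmul]
  rw [star, hE, Λ_tmul, map_one]

set_option backward.isDefEq.respectTransparency false in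
lemma exists_coalg_iso [Module.FaithfullyFlat R S] :
    ∃ (M : ModuleCat.{u} R),
      Nonempty ((Comonad.comparison (extendRestrictScalarsAdj (algebraMap R S))).obj M ≅ coalg D) := by
  have hf : (algebraMap R S).FaithfullyFlat := (RingHom.faithfullyFlat_algebraMap_iff).mpr inferInstance
  haveI := preservesFiniteLimits_extendScalars_of_flat hf.flat
  haveI := reflectsIsomorphisms_extendScalars_of_faithfullyFlat hf
  haveI : Comonad.HasEqualizerOfIsCosplitPair (extendScalars.{u, u, u} (algebraMap R S)) :=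
    ⟨inferInstance⟩
  haveI : Comonad.PreservesLimitOfIsCosplitPair (extendScalars.{u, u, u} (algebraMap R S)) :=
    ⟨inferInstance⟩
  let h := Comonad.comonadicOfHasPreservesFSplitEqualizersOfReflectsIsomorphisms
    (extendRestrictScalarsAdj.{u, u, u} (algebraMap R S))
  haveI heq : (Comonad.comparison (extendRestrictScalarsAdj.{u, u, u} (algebraMap R S))).IsEquivalence :=
    h.eqv
  exact ⟨_, ⟨(Comonad.comparison (extendRestrictScalarsAdj (algebraMap R S))).objObjPreimageIso
    (coalg D)⟩⟩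

set_option backward.isDefEq.respectTransparency false in
/-- effectivity of descent data for modules along a faithfully flat ring map -/
theorem effective [Module.FaithfullyFlat R S] :
    ∃ M : ModuleCat.{u} R, Nonempty ((Desc.ringModPF.{u}.toDescentData
      (fun _ : PUnit.{u + 1} => (fR R S).op)).obj M ≅ D) := by
  obtain ⟨M, ⟨e⟩⟩ := exists_coalg_iso D
  let E : (extendScalars (algebraMap R S)).obj M ≅ NN D :=
    (Comonad.forget (extendRestrictScalarsAdj (algebraMap R S)).toComonad).mapIso e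
  have hE : ∀ m : M, aFun D (E.hom.hom ((1 : S) ⊗ₜ[R, algebraMap R S] m)) =
      ((1 : S) ⊗ₜ[R, algebraMap R S] (E.hom.hom ((1 : S) ⊗ₜ[R, algebraMap R S] m)) :
        LU (R := R) (NN D)) := by
    intro m
    have := e.hom.h
    exact (congrArg (fun k => k.hom ((1 : S) ⊗ₜ[R, algebraMap R S] m)) this).symm
  refine ⟨M, ⟨DescentData.isoMk (fun _ => E) ?_⟩⟩
  intro Y q i₁ i₂ f₁ f₂ hf₁ hf₂
  induction Y using Opposite.rec with
  | op T =>
    have h₁ : fR R S ≫ f₁.unop = q.unop := congrArg Quiver.Hom.unop hf₁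
    have h₂ : fR R S ≫ f₂.unop = q.unop := congrArg Quiver.Hom.unop hf₂
    let α := (Cat.Hom.toNatIso (Desc.ringModPF.{u}.mapComp' (mo (fR R S)).op.toLoc
      (mo f₁.unop).op.toLoc (mo q.unop).op.toLoc (toLoc_comp_eq (fR R S) f₁.unop q.unop h₁))).app M
    show (extendScalars f₁.unop.hom).map E.hom ≫ θ D q.unop f₁.unop f₂.unop h₁ h₂ =
      (α.inv ≫ (Desc.ringModPF.{u}.mapComp' (mo (fR R S)).op.toLoc
      (mo f₂.unop).op.toLoc (mo q.unop).op.toLoc
        (toLoc_comp_eq (fR R S) f₂.unop q.unop h₂)).hom.toNatTrans.app M) ≫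
        (extendScalars f₂.unop.hom).map E.hom
    rw [Category.assoc]
    refine (Iso.eq_inv_comp α).mpr ?_
    apply ExtendScalars.hom_ext
    intro m
    exact comm_aux D M E.hom hE q.unop f₁.unop f₂.unop h₁ h₂ m

end

end H10PT.MD
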