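import Mathlib
import Groth.Agent.Lib.Helper10.MD8

/-!
# Helper library (helper10): the descent-data functor for modules vs. the comparison functor to coalgebras
-/

set_option autoImplicit false
universe u
open CategoryTheory CategoryTheory.Limits Opposite Bicategory TensorProduct ModuleCat
open ChangeOfRings

namespace H10PT.MD

open Pseudofunctor LocallyDiscreteOpToCat

section

variable {R S : Type u} [CommRing R] [CommRing S] [Algebra R S]

set_option backward.isDefEq.respectTransparency false in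
lemma comm_of_hom (M : ModuleCat.{u} R) (D : DD R S)
    (φ : (Desc.ringModPF.{u}.toDescentData (fun _ : PUnit.{u + 1} => (fR R S).op)).obj M ⟶ D)
    {T : CommRingCat.{u}} (q : CommRingCat.of R ⟶ T) (a₁ a₂ : CommRingCat.of S ⟶ T)
    (h₁ : fR R S ≫ a₁ = q) (h₂ : fR R S ≫ a₂ = q) :
    (extendScalars a₁.hom).map (show (extendScalars (algebraMap R S)).obj M ⟶ NN D from
      φ.hom PUnit.unit) ≫ θ D q a₁ a₂ h₁ h₂ =
      ((Desc.ringModPF.{u}.mapComp' (mo (fR R S)).op.toLoc (mo a₁).op.toLoc (mo q).op.toLoc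
          (toLoc_comp_eq (fR R S) a₁ q h₁)).inv.toNatTrans.app M ≫
       (Desc.ringModPF.{u}.mapComp' (mo (fR R S)).op.toLoc (mo a₂).op.toLoc (mo q).op.toLoc
          (toLoc_comp_eq (fR R S) a₂ q h₂)).hom.toNatTrans.app M) ≫
        (extendScalars a₂.hom).map (show (extendScalars (algebraMap R S)).obj M ⟶ NN D from
          φ.hom PUnit.unit) :=
  φ.comm (Y := op T) (i₁ := PUnit.unit) (i₂ := PUnit.unit) q.op a₁.op a₂.op
    (by rw [← op_comp, h₁]) (by rw [← op_comp, h₂])

set_option backward.isDefEq.respectTransparency false in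
lemma comm_of_hom_apply (M : ModuleCat.{u} R) (D : DD R S)
    (φ : (Desc.ringModPF.{u}.toDescentData (fun _ : PUnit.{u + 1} => (fR R S).op)).obj M ⟶ D)
    {T : CommRingCat.{u}} (q : CommRingCat.of R ⟶ T) (a₁ a₂ : CommRingCat.of S ⟶ T)
    (h₁ : fR R S ≫ a₁ = q) (h₂ : fR R S ≫ a₂ = q) (m : M) :
    (θ D q a₁ a₂ h₁ h₂).hom ((1 : T) ⊗ₜ[S, a₁.hom]
      ((show (extendScalars (algebraMap R S)).obj M ⟶ NN D from φ.hom PUnit.unit).hom
        ((1 : S) ⊗ₜ[R, algebraMap R S] m))) =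
      ((1 : T) ⊗ₜ[S, a₂.hom]
      ((show (extendScalars (algebraMap R S)).obj M ⟶ NN D from φ.hom PUnit.unit).hom
        ((1 : S) ⊗ₜ[R, algebraMap R S] m)) : (extendScalars a₂.hom).obj (NN D)) := by
  have hx := congrArg (fun k => k.hom ((1 : T) ⊗ₜ[S, a₁.hom]
    ((1 : S) ⊗ₜ[R, algebraMap R S] m))) (comm_of_hom M D φ q a₁ a₂ h₁ h₂)
  let E : (extendScalars (algebraMap R S)).obj M ⟶ NN D := φ.hom PUnit.unit
  have hx' : (θ D q a₁ a₂ h₁ h₂).hom
      ((1 : T) ⊗ₜ[S, a₁.hom] (E.hom ((1 : S) ⊗ₜ[R, algebraMap R S] m))) =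
      ((extendScalars a₂.hom).map E).hom
        (((Desc.ringModPF.{u}.mapComp' (mo (fR R S)).op.toLoc (mo a₂).op.toLoc (mo q).op.toLoc
          (toLoc_comp_eq (fR R S) a₂ q h₂)).hom.toNatTrans.app M).hom
          (((Desc.ringModPF.{u}.mapComp' (mo (fR R S)).op.toLoc (mo a₁).op.toLoc (mo q).op.toLoc
          (toLoc_comp_eq (fR R S) a₁ q h₁)).inv.toNatTrans.app M).hom
            ((1 : T) ⊗ₜ[S, a₁.hom] ((1 : S) ⊗ₜ[R, algebraMap R S] m)))) := hx
  rw [mapComp'_inv_one_tmul (fR R S) a₁ q h₁ M m,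
    mapComp'_hom_one_tmul (fR R S) a₂ q h₂ M m, ExtendScalars.map_tmul] at hx'
  exact hx'

set_option backward.isDefEq.respectTransparency false in
/-- a morphism of descent data out of a canonical descent datum is compatible with the coactions -/
lemma hE_of_hom (M : ModuleCat.{u} R) (D : DD R S)
    (φ : (Desc.ringModPF.{u}.toDescentData (fun _ : PUnit.{u + 1} => (fR R S).op)).obj M ⟶ D)
    (m : M) :
    aFun D ((show (extendScalars (algebraMap R S)).obj M ⟶ NN D from φ.hom PUnit.unit).hom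
        ((1 : S) ⊗ₜ[R, algebraMap R S] m)) =
      ((1 : S) ⊗ₜ[R, algebraMap R S]
        ((show (extendScalars (algebraMap R S)).obj M ⟶ NN D from φ.hom PUnit.unit).hom
          ((1 : S) ⊗ₜ[R, algebraMap R S] m)) : LU (R := R) (NN D)) := by
  have h := comm_of_hom_apply M D φ (fR R S ≫ i1 R S) (i1 R S) (i2 R S) rfl (i1_i2 R S).symm m
  unfold aFun ψ
  rw [h, Algebra.TensorProduct.one_def, α2_tmul, one_smul]

end

end H10PT.MD
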