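import Mathlib
import Groth.Agent.Lib.Helper10.MD9

/-!
# Helper library (helper10): the descent-data functor for modules is an equivalence when the comparison
functor to coalgebras is
-/

set_option autoImplicit false
universe u
open CategoryTheory CategoryTheory.Limits Opposite Bicategory TensorProduct ModuleCat
open ChangeOfRings

namespace H10PT.MD

open Pseudofunctor LocallyDiscreteOpToCat

section

variable {R S : Type u} [CommRing R] [CommRing S] [Algebra R S]

set_option backward.isDefEq.respectTransparency false in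
/-- effectivity of descent data, given that the coalgebra is in the image of the comparison functor -/
theorem effective' (D : DD R S)
    (h : ∃ (M : ModuleCat.{u} R),
      Nonempty ((Comonad.comparison (extendRestrictScalarsAdj (algebraMap R S))).obj M ≅ coalg D)) :
    ∃ M : ModuleCat.{u} R, Nonempty ((Desc.ringModPF.{u}.toDescentData
      (fun _ : PUnit.{u + 1} => (fR R S).op)).obj M ≅ D) := by
  obtain ⟨M, ⟨e⟩⟩ := h
  let E : (extendScalars (algebraMap R S)).obj M ≅ NN D :=
    (Comonad.forget (extendRestrictScalarsAdj (algebraMap R S)).toComonad).mapIso e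
  have hE : ∀ m : M, aFun D (E.hom.hom ((1 : S) ⊗ₜ[R, algebraMap R S] m)) =
      ((1 : S) ⊗ₜ[R, algebraMap R S] (E.hom.hom ((1 : S) ⊗ₜ[R, algebraMap R S] m)) :
        LU (R := R) (NN D)) := by
    intro m
    have := e.hom.h
    exact (congrArg (fun k => k.hom ((1 : S) ⊗ₜ[R, algebraMap R S] m)) this).symm
  refine ⟨M, ⟨DescentData.isoMk (fun _ => E) ?_⟩⟩
  intro Y q i₁ i₂ f₁ f₂ hf₁ hf₂
  induction Y using Opposite.rec with
  | op T =>
    have h₁ : fR R S ≫ f₁.unop = q.unop := congrArg Quiver.Hom.unop hf₁
    have h₂ : fR R S ≫ f₂.unop = q.unop := congrArg Quiver.Hom.unop hf₂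
    let α := (Cat.Hom.toNatIso (Desc.ringModPF.{u}.mapComp' (mo (fR R S)).op.toLoc
      (mo f₁.unop).op.toLoc (mo q.unop).op.toLoc (toLoc_comp_eq (fR R S) f₁.unop q.unop h₁))).app M
    show (extendScalars f₁.unop.hom).map E.hom ≫ θ D q.unop f₁.unop f₂.unop h₁ h₂ =
      (α.inv ≫ (Desc.ringModPF.{u}.mapComp' (mo (fR R S)).op.toLoc
      (mo f₂.unop).op.toLoc (mo q.unop).op.toLoc
        (toLoc_comp_eq (fR R S) f₂.unop q.unop h₂)).hom.toNatTrans.app M) ≫
        (extendScalars f₂.unop.hom).map E.hom
    rw [Category.assoc]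
    refine (Iso.eq_inv_comp α).mpr ?_
    apply ExtendScalars.hom_ext
    intro m
    exact comm_aux D M E.hom hE q.unop f₁.unop f₂.unop h₁ h₂ m

end

end H10PT.MD
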