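import Mathlib
import Groth.Agent.Lib.Helper10.MD9

/-!
# Helper library (helper10): the descent-data functor for modules is an equivalence when the comparison
functor to coalgebras is
-/

set_option autoImplicit false
universe u
open CategoryTheory CategoryTheory.Limits Opposite Bicategory TensorProduct ModuleCat
open ChangeOfRings

namespace H10PT.MD

open Pseudofunctor LocallyDiscreteOpToCat

section

variable {R S : Type u} [CommRing R] [CommRing S] [Algebra R S]

set_option backward.isDefEq.respectTransparency false in
/-- the coaction of a canonical descent datum is `L η` -/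
lemma aFun_toDD (M : ModuleCat.{u} R)
    (z : (extendScalars (algebraMap R S)).obj M) :
    aFun ((Desc.ringModPF.{u}.toDescentData (fun _ : PUnit.{u + 1} => (fR R S).op)).obj M) z =
      ((extendScalars (algebraMap R S)).map
        ((extendRestrictScalarsAdj (algebraMap R S)).unit.app M)).hom z := by
  induction z using es_induction with
  | h0 =>
    rw [map_zero]
    exact map_zero (aLin ((Desc.ringModPF.{u}.toDescentData
      (fun _ : PUnit.{u + 1} => (fR R S).op)).obj M))
  | ht s m =>
    have e1 : (s ⊗ₜ[R, algebraMap R S] m : (extendScalars (algebraMap R S)).obj M) =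
        s • ((1 : S) ⊗ₜ[R, algebraMap R S] m) := by
      rw [ExtendScalars.smul_tmul, mul_one]
    rw [e1, map_smul]
    have h1 := hE_of_hom M _ (𝟙 ((Desc.ringModPF.{u}.toDescentData
      (fun _ : PUnit.{u + 1} => (fR R S).op)).obj M)) m
    have h2 := aFun_smul ((Desc.ringModPF.{u}.toDescentData
      (fun _ : PUnit.{u + 1} => (fR R S).op)).obj M) s ((1 : S) ⊗ₜ[R, algebraMap R S] m)
    refine h2.trans ?_
    congr 1
  | ha x y hx hy =>
    rw [map_add, ← hx, ← hy]
    exact aFun_add ((Desc.ringModPF.{u}.toDescentData
      (fun _ : PUnit.{u + 1} => (fR R S).op)).obj M) x y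

end

end H10PT.MD
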