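import Mathlib
import Groth.Agent.Lib.Helper10.MD10
import Groth.Agent.Lib.Helper10.MD11

/-!
# Helper library (helper10): the descent-data functor for modules is an equivalence when the comparison
functor to coalgebras is
-/

set_option autoImplicit false
universe u
open CategoryTheory CategoryTheory.Limits Opposite Bicategory TensorProduct ModuleCat
open ChangeOfRings

namespace H10PT.MD

open Pseudofunctor LocallyDiscreteOpToCat

section

variable {R S : Type u} [CommRing R] [CommRing S] [Algebra R S]

set_option backward.isDefEq.respectTransparency false in
lemma toDD_faithful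
    (hK : (Comonad.comparison (extendRestrictScalarsAdj.{u, u, u} (algebraMap R S))).Faithful) :
    (Desc.ringModPF.{u}.toDescentData (fun _ : PUnit.{u + 1} => (fR R S).op)).Faithful := by
  constructor
  intro (M : ModuleCat.{u} R) (M' : ModuleCat.{u} R) g g' hgg'
  have h1 : (extendScalars (algebraMap R S)).map g = (extendScalars (algebraMap R S)).map g' :=
    congrArg (fun k => DescentData.Hom.hom k PUnit.unit) hgg'
  apply (Comonad.comparison (extendRestrictScalarsAdj.{u, u, u} (algebraMap R S))).map_injective
  apply Comonad.Coalgebra.Hom.ext
  exact h1

set_option backward.isDefEq.respectTransparency false in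
lemma toDD_full
    (hK : (Comonad.comparison (extendRestrictScalarsAdj.{u, u, u} (algebraMap R S))).Full) :
    (Desc.ringModPF.{u}.toDescentData (fun _ : PUnit.{u + 1} => (fR R S).op)).Full := by
  constructor
  intro (M : ModuleCat.{u} R) (M' : ModuleCat.{u} R) φ
  let E : (extendScalars (algebraMap R S)).obj M ⟶ (extendScalars (algebraMap R S)).obj M' :=
    φ.hom PUnit.unit
  let ψ' : (Comonad.comparison (extendRestrictScalarsAdj.{u, u, u} (algebraMap R S))).obj M ⟶
      (Comonad.comparison (extendRestrictScalarsAdj.{u, u, u} (algebraMap R S))).obj M' :=
    { f := E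
      h := by
        apply ExtendScalars.hom_ext
        intro m
        have h1 := hE_of_hom M _ φ m
        have h2 := aFun_toDD M' (E.hom ((1 : S) ⊗ₜ[R, algebraMap R S] m))
        refine Eq.trans ?_ (h1.symm.trans h2)
        rfl }
  obtain ⟨g, hg⟩ := (Comonad.comparison
    (extendRestrictScalarsAdj.{u, u, u} (algebraMap R S))).map_surjective ψ'
  refine ⟨g, ?_⟩
  apply DescentData.hom_ext
  intro i
  have := congrArg (fun k => k.f) hg
  exact this

set_option backward.isDefEq.respectTransparency false in
lemma toDD_essSurj
    (hK : (Comonad.comparison (extendRestrictScalarsAdj.{u, u, u} (algebraMap R S))).EssSurj) :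
    (Desc.ringModPF.{u}.toDescentData (fun _ : PUnit.{u + 1} => (fR R S).op)).EssSurj := by
  constructor
  intro D
  exact effective' D ⟨_, ⟨(Comonad.comparison
    (extendRestrictScalarsAdj.{u, u, u} (algebraMap R S))).objObjPreimageIso (coalg D)⟩⟩

set_option backward.isDefEq.respectTransparency false in
theorem toDD_isEquivalence
    (hK : (Comonad.comparison (extendRestrictScalarsAdj.{u, u, u} (algebraMap R S))).IsEquivalence) :
    (Desc.ringModPF.{u}.toDescentData (fun _ : PUnit.{u + 1} => (fR R S).op)).IsEquivalence :=
  { faithful := toDD_faithful inferInstance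
    full := toDD_full inferInstance
    essSurj := toDD_essSurj inferInstance }

end

end H10PT.MD
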