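import Mathlib
import Groth.Agent.Lib.Helper10.MD12

/-!
# Helper library (helper10): faithfulness of the descent-data functor for modules implies universal injectivity
-/

set_option autoImplicit false
universe u
open CategoryTheory CategoryTheory.Limits Opposite Bicategory TensorProduct ModuleCat
open ChangeOfRings

namespace H10PT.MD

open Pseudofunctor LocallyDiscreteOpToCat

section

variable {R S : Type u} [CommRing R] [CommRing S] [Algebra R S]

set_option backward.isDefEq.respectTransparency false in
lemma one_tmul_eq_zero_of_faithful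
    (hT : (Desc.ringModPF.{u}.toDescentData (fun _ : PUnit.{u + 1} => (fR R S).op)).Faithful)
    (P : ModuleCat.{u} R) (p : P)
    (h : ((1 : S) ⊗ₜ[R, algebraMap R S] p : (extendScalars (algebraMap R S)).obj P) = 0) : p = 0 := by
  let gp : ModuleCat.of R R ⟶ P := ModuleCat.ofHom (LinearMap.toSpanSingleton R P p)
  have hL : (extendScalars (algebraMap R S)).map gp = (extendScalars (algebraMap R S)).map 0 := by
    apply ExtendScalars.hom_ext
    intro r
    show ((1 : S) ⊗ₜ[R, algebraMap R S] ((show R from r) • p) : (extendScalars (algebraMap R S)).obj P) =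
      ((1 : S) ⊗ₜ[R, algebraMap R S] (0 : P) : (extendScalars (algebraMap R S)).obj P)
    rw [one_tmul_smul (algebraMap R S) P (show R from r) p, h, smul_zero]
    refine Eq.symm ?_
    exact TensorProduct.tmul_zero _ _
  have hT' : (Desc.ringModPF.{u}.toDescentData (fun _ : PUnit.{u + 1} => (fR R S).op)).map gp =
      (Desc.ringModPF.{u}.toDescentData (fun _ : PUnit.{u + 1} => (fR R S).op)).map
        (show ModuleCat.of R R ⟶ P from 0) := by
    apply DescentData.hom_ext
    intro i
    exact hL
  have h0 : gp = 0 := hT.map_injective hT'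
  have := congrArg (fun k => k.hom (1 : R)) h0
  have h1 : (1 : R) • p = 0 := this
  rwa [one_smul] at h1

/-- `p ⊗ s ↦ s ⊗ p` -/
noncomputable def swapP (P : Type u) [AddCommGroup P] [Module R P] :
    (P ⊗[R] S) →+ ((extendScalars (algebraMap R S)).obj (ModuleCat.of R P)) :=
  TensorProduct.liftAddHom
    (AddMonoidHom.mk' (fun p : P => AddMonoidHom.mk'
      (fun s : S => (s ⊗ₜ[R, algebraMap R S] (show (ModuleCat.of R P) from p) :
        (extendScalars (algebraMap R S)).obj (ModuleCat.of R P)))
      (fun s s' => TensorProduct.add_tmul _ _ _))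
      (fun p p' => by
        ext s
        exact TensorProduct.tmul_add _ _ _))
    (fun r p s => by
      show ((s ⊗ₜ[R, algebraMap R S] (show (ModuleCat.of R P) from (r • p)) :
        (extendScalars (algebraMap R S)).obj (ModuleCat.of R P))) =
        (((r • s) ⊗ₜ[R, algebraMap R S] (show (ModuleCat.of R P) from p) :
        (extendScalars (algebraMap R S)).obj (ModuleCat.of R P)))
      rw [Algebra.smul_def]
      exact (TensorProduct.smul_tmul (R := R) (R' := R)
        (M := (restrictScalars (algebraMap R S)).obj (ModuleCat.of S S))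
        (N := ModuleCat.of R P) r s p).symm)

lemma swapP_tmul (P : Type u) [AddCommGroup P] [Module R P] (p : P) (s : S) :
    swapP (R := R) (S := S) P (p ⊗ₜ[R] s) =
      (s ⊗ₜ[R, algebraMap R S] (show (ModuleCat.of R P) from p) :
        (extendScalars (algebraMap R S)).obj (ModuleCat.of R P)) := rfl

set_option backward.isDefEq.respectTransparency false in
theorem univInjective_of_faithful
    (hT : (Desc.ringModPF.{u}.toDescentData (fun _ : PUnit.{u + 1} => (fR R S).op)).Faithful)
    (P : Type u) [AddCommGroup P] [Module R P] :
    Function.Injective (LinearMap.lTensor P (Algebra.linearMap R S)) := by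
  rw [injective_iff_map_eq_zero]
  intro x hx
  obtain ⟨p, rfl⟩ : ∃ p : P, x = p ⊗ₜ[R] (1 : R) := by
    refine ⟨TensorProduct.rid R P x, ?_⟩
    rw [← TensorProduct.rid_symm_apply, LinearEquiv.symm_apply_apply]
  rw [LinearMap.lTensor_tmul] at hx
  have h1 : swapP (R := R) (S := S) P (p ⊗ₜ[R] (1 : S)) = 0 := by
    have : (Algebra.linearMap R S) (1 : R) = (1 : S) := by
      rw [Algebra.linearMap_apply, map_one]
    rw [← this, hx, map_zero]
  rw [swapP_tmul] at h1
  have := one_tmul_eq_zero_of_faithful hT (ModuleCat.of R P) p h1
  rw [this, TensorProduct.zero_tmul]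

end

end H10PT.MD
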