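import Mathlib
import Groth.Prelude.Def_CohDer
import Groth.Agent.S16407
import Groth.Agent.S16408
import Groth.Agent.Lib.Helper2.CompactEnv

/-!
# Compactness is local for Mayer–Vietoris squares of triangulated categories
-/

set_option autoImplicit false

namespace H10MC

open CategoryTheory CategoryTheory.Limits CategoryTheory.Pretriangulated CohDer
open Groth.Agent.Lib.Helper2.CompactEnv

universe v u

section FinSupp

variable {S T : Type u} [Category.{v} S] [Category.{v} T] [Preadditive S] [Preadditive T]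
  [HasCoproducts.{v} S] [HasCoproducts.{v} T]

/-- maps from a compact object into `G (∐ X)`, `G` preserving coproducts, have finite support -/
lemma exists_finset_comp_map_compl (G : S ⥤ T) [G.Additive] {κ : Type v} (X : κ → S)
    [PreservesColimit (Discrete.functor X) G] {K : T} (hK : IsCompactObject K)
    (ψ : K ⟶ G.obj (∐ X)) :
    ∃ F : Finset κ, ∀ F' : Finset κ, F ⊆ F' → ψ ≫ G.map (compl X F') = 0 := by
  obtain ⟨ψ', rfl⟩ : ∃ ψ' : K ⟶ ∐ (fun k => G.obj (X k)), ψ = ψ' ≫ sigmaComparison G X :=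
    ⟨ψ ≫ inv (sigmaComparison G X), by simp⟩
  obtain ⟨F, hF⟩ := (isFin_of_isCompactObject hK (fun k => G.obj (X k)) ψ').exists_finset
  refine ⟨F, fun F' hFF' => ?_⟩
  have h1 := eq_sum_of_comp_compl_eq_zero (fun k => G.obj (X k)) hF
  have h2 : ∀ k ∈ F, Sigma.ι (fun k => G.obj (X k)) k ≫ sigmaComparison G X ≫
      G.map (compl X F') = 0 := by
    intro k hk
    rw [← Category.assoc, ι_comp_sigmaComparison, ← G.map_comp, ι_compl X (hFF' hk), G.map_zero]
  rw [Category.assoc, h1, Preadditive.sum_comp]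
  exact Finset.sum_eq_zero (fun k hk => by rw [Category.assoc, h2 k hk, comp_zero])

end FinSupp

section MV

variable {S S' R R' : Type u} [Category.{v} S] [Category.{v} S'] [Category.{v} R] [Category.{v} R']
  (q : W4c3perfectstacks.MVSq S S' R R')

lemma bc2App_naturality {P P' : R} (p : P ⟶ P') :
    q.fst.map (q.jls.map p) ≫ q.bc2App P' = q.bc2App P ≫ q.jpls.map (q.gst.map p) := by
  unfold W4c3perfectstacks.MVSq.bc2App
  have h2 : q.jpst.map (q.fst.map (q.jls.map p)) ≫ q.e.inv.app (q.jls.obj P') =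
      q.e.inv.app (q.jls.obj P) ≫ q.gst.map (q.jst.map (q.jls.map p)) :=
    q.e.inv.naturality (q.jls.map p)
  have h3 : q.jst.map (q.jls.map p) ≫ q.adjJ.counit.app P' = q.adjJ.counit.app P ≫ p :=
    q.adjJ.counit.naturality p
  rw [← q.adjJp.unit_naturality_assoc, ← q.jpls.map_comp, ← q.jpls.map_comp,
    ← Category.assoc (q.jpst.map _), h2, Category.assoc, ← q.gst.map_comp, h3]
  simp only [Functor.map_comp, Category.assoc]

variable [Preadditive S] [Preadditive S'] [Preadditive R] [Preadditive R']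
  [HasCoproducts.{v} S] [HasCoproducts.{v} R']
  [q.fst.Additive] [q.jpst.Additive] [q.jst.Additive] [q.gst.Additive]

lemma exists_finset_comp_C_compl (hq : q.IsMV) {K : S}
    (hK : IsCompactObject (q.gst.obj (q.jst.obj K)))
    {κ : Type v} (X : κ → S) (θ : K ⟶ q.fls.obj (q.fst.obj (q.jls.obj (q.jst.obj (∐ X))))) :
    ∃ F : Finset κ, ∀ F' : Finset κ, F ⊆ F' →
      θ ≫ q.fls.map (q.fst.map (q.jls.map (q.jst.map (compl X F')))) = 0 := by
  haveI : PreservesColimitsOfSize.{v, v} (q.jst ⋙ q.gst) :=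
    (q.adjJ.comp q.adjG).leftAdjoint_preservesColimits
  haveI := hq.isIso_bc2App (q.jst.obj (∐ X))
  have hK' : IsCompactObject (q.jpst.obj (q.fst.obj K)) :=
    isCompactObject_of_iso (q.e.symm.app K) hK
  obtain ⟨F, hF⟩ := exists_finset_comp_map_compl (q.jst ⋙ q.gst) X hK'
    (((q.adjF.comp q.adjJp).homEquiv K _).symm (θ ≫ q.fls.map (q.bc2App (q.jst.obj (∐ X)))))
  refine ⟨F, fun F' hFF' => ?_⟩
  rw [← cancel_mono (q.fls.map (q.bc2App (q.jst.obj (∐ X)))), zero_comp, Category.assoc,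
    ← q.fls.map_comp, bc2App_naturality, q.fls.map_comp, ← Category.assoc]
  apply ((q.adjF.comp q.adjJp).homEquiv K _).symm.injective
  have hF' : ((q.adjF.comp q.adjJp).homEquiv K (q.gst.obj (q.jst.obj (∐ X)))).symm
      (θ ≫ q.fls.map (q.bc2App (q.jst.obj (∐ X)))) ≫ (q.jst ⋙ q.gst).map (compl X F') = 0 :=
    hF F' hFF'
  rw [show q.fls.map (q.jpls.map (q.gst.map (q.jst.map (compl X F')))) =
      (q.jpls ⋙ q.fls).map ((q.jst ⋙ q.gst).map (compl X F')) from rfl,
    (q.adjF.comp q.adjJp).homEquiv_naturality_right_symm, hF',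
    (q.adjF.comp q.adjJp).homEquiv_counit, Functor.map_zero, zero_comp]

end MV

theorem main
    (S S' R R' : Type u) [Category.{v} S] [Category.{v} S'] [Category.{v} R] [Category.{v} R']
    [Preadditive S] [Preadditive S'] [Preadditive R] [Preadditive R']
    [HasZeroObject S] [HasZeroObject S'] [HasZeroObject R] [HasZeroObject R']
    [HasShift S ℤ] [HasShift S' ℤ] [HasShift R ℤ] [HasShift R' ℤ]
    [∀ n : ℤ, (shiftFunctor S n).Additive] [∀ n : ℤ, (shiftFunctor S' n).Additive]
    [∀ n : ℤ, (shiftFunctor R n).Additive] [∀ n : ℤ, (shiftFunctor R' n).Additive]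
    [Pretriangulated S] [Pretriangulated S'] [Pretriangulated R] [Pretriangulated R']
    [IsTriangulated S] [IsTriangulated S'] [IsTriangulated R] [IsTriangulated R']
    (q : W4c3perfectstacks.MVSq S S' R R')
    [q.jst.CommShift ℤ] [q.fst.CommShift ℤ] [q.jpst.CommShift ℤ] [q.gst.CommShift ℤ]
    [q.jst.IsTriangulated] [q.fst.IsTriangulated] [q.jpst.IsTriangulated] [q.gst.IsTriangulated]
    (hq : q.IsMV)
    [HasCoproducts.{v} S] [HasCoproducts.{v} S'] [HasCoproducts.{v} R] [HasCoproducts.{v} R']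
    (N : S) (hU : CohDer.IsCompactObject (q.jst.obj N)) (hX' : CohDer.IsCompactObject (q.fst.obj N))
    (hU' : CohDer.IsCompactObject (q.gst.obj (q.jst.obj N))) :
    CohDer.IsCompactObject N := by
  classical
  haveI : q.jls.Additive := q.adjJ.right_adjoint_additive
  haveI : q.fls.Additive := q.adjF.right_adjoint_additive
  haveI : PreservesColimitsOfSize.{v, v} q.jst := q.adjJ.leftAdjoint_preservesColimits
  haveI : PreservesColimitsOfSize.{v, v} q.fst := q.adjF.leftAdjoint_preservesColimits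
  apply isCompactObject_of_isFin
  intro κ X φ
  obtain ⟨F₁, hF₁⟩ := exists_finset_comp_map_compl q.jst X hU (q.jst.map φ)
  obtain ⟨F₂, hF₂⟩ := exists_finset_comp_map_compl q.fst X hX' (q.fst.map φ)
  apply isFin_of_comp_compl_isFin (F := F₁ ∪ F₂)
  obtain ⟨ψ, hψ⟩ : ∃ ψ : N ⟶ ∐ X, ψ = φ ≫ compl X (F₁ ∪ F₂) := ⟨_, rfl⟩
  rw [← hψ]
  have hjψ : q.jst.map ψ = 0 := by
    rw [hψ, Functor.map_comp]
    exact hF₁ _ Finset.subset_union_left
  have hfψ : q.fst.map ψ = 0 := by
    rw [hψ, Functor.map_comp]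
    exact hF₂ _ Finset.subset_union_right
  obtain ⟨d, hd⟩ := (Groth.Agent.S16407.result S S' R R' q hq (∐ X)).exists
  have hu : ψ ≫ biprod.lift (q.adjJ.unit.app (∐ X)) (q.adjF.unit.app (∐ X)) = 0 := by
    apply biprod.hom_ext
    · rw [Category.assoc, biprod.lift_fst, zero_comp]
      have h := q.adjJ.unit.naturality ψ
      simp only [Functor.id_obj, Functor.id_map, Functor.comp_map] at h
      rw [h, hjψ, Functor.map_zero, comp_zero]
    · rw [Category.assoc, biprod.lift_snd, zero_comp]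
      have h := q.adjF.unit.naturality ψ
      simp only [Functor.id_obj, Functor.id_map, Functor.comp_map] at h
      rw [h, hfψ, Functor.map_zero, comp_zero]
  obtain ⟨θ, hθ'⟩ : ∃ θ : (shiftFunctor S (1 : ℤ)).obj N ⟶
      q.fls.obj (q.fst.obj (q.jls.obj (q.jst.obj (∐ X)))),
      (shiftFunctor S (1 : ℤ)).map ψ = θ ≫ d :=
    Triangle.coyoneda_exact₁ _ hd ((shiftFunctor S (1 : ℤ)).map ψ) (by
    show (shiftFunctor S (1 : ℤ)).map ψ ≫ (shiftFunctor S (1 : ℤ)).map
      (biprod.lift (q.adjJ.unit.app (∐ X)) (q.adjF.unit.app (∐ X))) = 0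
    rw [← Functor.map_comp, hu, Functor.map_zero])
  have hK : IsCompactObject (q.gst.obj (q.jst.obj ((shiftFunctor S (1 : ℤ)).obj N))) :=
    isCompactObject_of_iso (((q.jst ⋙ q.gst).commShiftIso (1 : ℤ)).app N)
      (isCompactObject_shift hU' 1)
  obtain ⟨F₃, hF₃⟩ := exists_finset_comp_C_compl q hq hK X θ
  have hnat := Groth.Agent.S16408.result S S' R R' q hq (∐ X) (∐ X) (compl X F₃) d d hd hd
  have h4 : ψ ≫ compl X F₃ = 0 := by
    apply (shiftFunctor S (1 : ℤ)).map_injective
    rw [Functor.map_comp, hθ', Category.assoc, hnat, ← Category.assoc,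
      hF₃ F₃ (Finset.Subset.refl _), zero_comp, Functor.map_zero]
  exact isFin_of_comp_compl h4

end H10MC
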