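import Mathlib

/-!
# Norm and base change (helper10)

`Algebra.norm` of a finite free algebra commutes with base change, in the unbundled (`Algebra.IsPushout`)
and bundled (`CategoryTheory.IsPushout` in `CommRingCat`) forms.
-/

set_option autoImplicit false
universe u
open CategoryTheory CategoryTheory.Limits
open scoped TensorProduct

namespace H10NE

theorem norm_algIsPushout (R S R' S' : Type*) [CommRing R] [CommRing S] [CommRing R'] [CommRing S']
    [Algebra R S] [Algebra R R'] [Algebra S S'] [Algebra R' S'] [Algebra R S']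
    [IsScalarTower R R' S'] [IsScalarTower R S S'] [Algebra.IsPushout R S R' S']
    [Module.Free R S] [Module.Finite R S] :
    Module.Free R' S' ∧ Module.Finite R' S' ∧
      ∀ s : S, Algebra.norm R' (algebraMap S S' s) = algebraMap R R' (Algebra.norm R s) := by
  have : Algebra.IsPushout R R' S S' := Algebra.IsPushout.symm inferInstance
  let e : R' ⊗[R] S ≃ₐ[R'] S' := Algebra.IsPushout.equiv R R' S S'
  refine ⟨Module.Free.of_equiv e.toLinearEquiv, Module.Finite.equiv e.toLinearEquiv, fun s => ?_⟩
  have h1 : e (1 ⊗ₜ s) = algebraMap S S' s := by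
    simp [e, Algebra.IsPushout.equiv_tmul]
  rw [← h1, Algebra.norm_eq_of_algEquiv, Algebra.norm_apply, ← Algebra.baseChange_lmul,
    LinearMap.det_baseChange, Algebra.norm_apply]

theorem norm_isPushout {R S R' S' : CommRingCat.{u}} {a : R ⟶ S} {b : R ⟶ R'} {a' : S ⟶ S'}
    {b' : R' ⟶ S'} (h : IsPushout a b a' b') :
    letI := a.hom.toAlgebra
    letI := b'.hom.toAlgebra
    Module.Free R S → Module.Finite R S →
      (Module.Free R' S' ∧ Module.Finite R' S' ∧
        ∀ s : S, Algebra.norm R' (a' s) = b (Algebra.norm R s)) := by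
  algebraize [a.hom, b.hom, a'.hom, b'.hom, a'.hom.comp a.hom]
  intro hfree hfin
  have : IsScalarTower R R' S' := .of_algebraMap_eq' <| congr($(h.1.1).hom)
  have : Algebra.IsPushout R S R' S' := CommRingCat.isPushout_iff_isPushout.mp h
  exact norm_algIsPushout R S R' S'

end H10NE
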