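import Mathlib
import Groth.Agent.Lib.Helper10.NE1
import Groth.Agent.Lib.Helper16.Norm.FreeNorm

/-!
# The glued norm commutes with base change (helper10)
-/

set_option autoImplicit false
universe u
open CategoryTheory CategoryTheory.Limits AlgebraicGeometry TopologicalSpace Opposite

namespace H10NE

variable {P Y P₁ Y₁ : Scheme.{u}} {π : P ⟶ Y} {π₁ : P₁ ⟶ Y₁} {g : P₁ ⟶ P} {j : Y₁ ⟶ Y}
  (H : IsPullback g π₁ π j)

include H in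
theorem le_preimage {V : Y.Opens} {W : Y₁.Opens} (hWV : W ≤ j ⁻¹ᵁ V) :
    π₁ ⁻¹ᵁ W ≤ g ⁻¹ᵁ (π ⁻¹ᵁ V) := by
  intro x hx
  have h1 : j (π₁ x) ∈ V := hWV hx
  have h2 : π (g x) = j (π₁ x) := by
    rw [← Scheme.Hom.comp_apply, ← Scheme.Hom.comp_apply, H.w]
  change π (g x) ∈ V
  rw [h2]
  exact h1

include H in
theorem isPushout_sections [IsAffineHom π] {V : Y.Opens} {W : Y₁.Opens} (hV : IsAffineOpen V)
    (hW : IsAffineOpen W) (hWV : W ≤ j ⁻¹ᵁ V) :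
    IsPushout (π.app V) (j.appLE V W hWV) (g.appLE (π ⁻¹ᵁ V) (π₁ ⁻¹ᵁ W) (le_preimage H hWV))
      (π₁.app W) := by
  have hUY : π₁ ⁻¹ᵁ W = g ⁻¹ᵁ (π ⁻¹ᵁ V) ⊓ π₁ ⁻¹ᵁ W :=
    (inf_eq_right.mpr (le_preimage H hWV)).symm
  have h1 := isIso_pushoutSection_of_isAffineOpen H hWV (le_refl (π ⁻¹ᵁ V)) hUY hV hW (hV.preimage π)
  have h2 := (isIso_pushoutSection_iff H hWV (le_refl (π ⁻¹ᵁ V)) hUY).mp h1
  rw [Scheme.Hom.appLE_eq_app] at h2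
  have h3 : π₁.appLE W (π₁ ⁻¹ᵁ W) le_rfl = π₁.app W := Scheme.Hom.appLE_eq_app π₁
  rw [← h3]
  exact h2

include H in
theorem good_baseChange [IsAffineHom π] {V : Y.Opens} {W : Y₁.Opens} (hV : H16FNorm.Good π V)
    (hW : IsAffineOpen W) (hWV : W ≤ j ⁻¹ᵁ V) :
    H16FNorm.Good π₁ W ∧ ∀ a : Γ(P, π ⁻¹ᵁ V),
      H16FNorm.nrm π₁ W (g.appLE (π ⁻¹ᵁ V) (π₁ ⁻¹ᵁ W) (le_preimage H hWV) a) =
        j.appLE V W hWV (H16FNorm.nrm π V a) := by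
  obtain ⟨h1, h2, h3⟩ := norm_isPushout (isPushout_sections H hV.affine hW hWV) hV.free hV.finite
  exact ⟨⟨hW, h1, h2⟩, h3⟩

end H10NE
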