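import Mathlib
import Groth.Agent.Lib.Helper10.NE2

/-!
# The glued norm commutes with base change, II (helper10)
-/

set_option autoImplicit false
universe u
open CategoryTheory CategoryTheory.Limits AlgebraicGeometry TopologicalSpace Opposite

namespace H10NE

variable {P Y P₁ Y₁ : Scheme.{u}} {π : P ⟶ Y} {π₁ : P₁ ⟶ Y₁} {g : P₁ ⟶ P} {j : Y₁ ⟶ Y}
  (H : IsPullback g π₁ π j)
  [IsFinite π] [Flat π] [LocallyOfFinitePresentation π]
  [IsFinite π₁] [Flat π₁] [LocallyOfFinitePresentation π₁]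

include H in
theorem glued_baseChange {U : Y.Opens} {U₁ : Y₁.Opens} (e : U₁ ≤ j ⁻¹ᵁ U) (s : Γ(P, π ⁻¹ᵁ U)) :
    j.appLE U U₁ e (H16FNorm.glued π U s) =
      H16FNorm.glued π₁ U₁ (g.appLE (π ⁻¹ᵁ U) (π₁ ⁻¹ᵁ U₁) (le_preimage H e) s) := by
  let Fam := {W : Y₁.Opens // IsAffineOpen W ∧ W ≤ U₁ ∧
    ∃ V : Y.Opens, H16FNorm.Good π V ∧ V ≤ U ∧ W ≤ j ⁻¹ᵁ V}
  refine TopCat.Sheaf.eq_of_locally_eq' Y₁.sheaf (fun W : Fam => W.1) U₁
    (fun W => homOfLE W.2.2.1) (fun y hy => ?_) _ _ (fun W => ?_)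
  · obtain ⟨V, hV, hyV, hVU⟩ := H16FNorm.exists_good π (U := U) (y := j y) (e hy)
    obtain ⟨_, ⟨W, hW : IsAffineOpen W, rfl⟩, hyW, hWsub⟩ :=
      Y₁.isBasis_affineOpens.exists_subset_of_mem_open
        (show y ∈ (j ⁻¹ᵁ V ⊓ U₁ : Y₁.Opens) from ⟨hyV, hy⟩) (j ⁻¹ᵁ V ⊓ U₁).isOpen
    exact Opens.mem_iSup.mpr
      ⟨⟨W, hW, fun x hx => (hWsub hx).2, V, hV, hVU, fun x hx => (hWsub hx).1⟩, hyW⟩
  · obtain ⟨W, hW, hWU, V, hV, hVU, hWV⟩ := W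
    obtain ⟨hgood, hn⟩ := good_baseChange H hV hW hWV
    have L1 : Y₁.presheaf.map (homOfLE hWU).op (j.appLE U U₁ e (H16FNorm.glued π U s)) =
        j.appLE V W hWV (Y.presheaf.map (homOfLE hVU).op (H16FNorm.glued π U s)) := by
      rw [← CommRingCat.comp_apply, ← CommRingCat.comp_apply, Scheme.Hom.appLE_map,
        Scheme.Hom.map_appLE]
    have R1 : P₁.presheaf.map ((Opens.map π₁.base).map (homOfLE hWU)).op
        (g.appLE (π ⁻¹ᵁ U) (π₁ ⁻¹ᵁ U₁) (le_preimage H e) s) =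
        g.appLE (π ⁻¹ᵁ V) (π₁ ⁻¹ᵁ W) (le_preimage H hWV)
          (P.presheaf.map ((Opens.map π.base).map (homOfLE hVU)).op s) := by
      rw [← CommRingCat.comp_apply, ← CommRingCat.comp_apply, Scheme.Hom.appLE_map,
        Scheme.Hom.map_appLE]
    change Y₁.presheaf.map (homOfLE hWU).op (j.appLE U U₁ e (H16FNorm.glued π U s)) =
      Y₁.presheaf.map (homOfLE hWU).op (H16FNorm.glued π₁ U₁ _)
    rw [L1, H16FNorm.glued_spec π U s V hV (homOfLE hVU), ← hn, ← R1,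
      ← H16FNorm.glued_spec π₁ U₁ _ W hgood (homOfLE hWU)]

end H10NE
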