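import Mathlib
import Groth.Prelude.Def_CGrpSh3
import Groth.Agent.Lib.Helper10.NE3
import Groth.Agent.Lib.Helper13.GaGm

/-!
# Construction of the norm map on points (helper10)
-/

set_option autoImplicit false
universe u
open CategoryTheory CategoryTheory.Limits AlgebraicGeometry TopologicalSpace Opposite

namespace H10NE

open Groth.Agent.Lib.Helper13

variable {X X' : Scheme.{u}} (f : X' ⟶ X) [IsFinite f] [Flat f] [LocallyOfFinitePresentation f]

/-- The base change of a morphism of test schemes. -/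
noncomputable abbrev gOf {T₁ T : Over X} (j : T₁ ⟶ T) : pullback T₁.hom f ⟶ pullback T.hom f :=
  ((Over.pullback f).map j).left

theorem gOf_fst {T₁ T : Over X} (j : T₁ ⟶ T) :
    gOf f j ≫ pullback.fst T.hom f = pullback.fst T₁.hom f ≫ j.left := pullback.lift_fst _ _ _

theorem gOf_snd {T₁ T : Over X} (j : T₁ ⟶ T) :
    gOf f j ≫ pullback.snd T.hom f = pullback.snd T₁.hom f := pullback.lift_snd _ _ _

theorem isPullback_gOf {T₁ T : Over X} (j : T₁ ⟶ T) :
    IsPullback (gOf f j) (pullback.fst T₁.hom f) (pullback.fst T.hom f) j.left := by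
  have big : IsPullback (gOf f j ≫ pullback.snd T.hom f) (pullback.fst T₁.hom f) f
      (j.left ≫ T.hom) := by
    rw [gOf_snd, Over.w j]
    exact (IsPullback.of_hasPullback T₁.hom f).flip
  exact IsPullback.of_right big (gOf_fst f j) (IsPullback.of_hasPullback T.hom f).flip

/-- The glued norm of a global function on `T ×_X X'`. -/
noncomputable def normFn (T : Over X) (s : Γ(pullback T.hom f, ⊤)) : Γ(T.left, ⊤) :=
  H16FNorm.glued (pullback.fst T.hom f) ⊤ s

theorem normFn_mul (T : Over X) (s s' : Γ(pullback T.hom f, ⊤)) :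
    normFn f T (s * s') = normFn f T s * normFn f T s' :=
  (H16FNorm.gluedHom (pullback.fst T.hom f) ⊤).map_mul s s'

theorem normFn_one (T : Over X) : normFn f T 1 = 1 :=
  (H16FNorm.gluedHom (pullback.fst T.hom f) ⊤).map_one

theorem isUnit_normFn (T : Over X) (s : Γ(pullback T.hom f, ⊤)) (hs : IsUnit s) :
    IsUnit (normFn f T s) :=
  hs.map (H16FNorm.gluedHom (pullback.fst T.hom f) ⊤)

theorem normFn_natural {T₁ T : Over X} (j : T₁ ⟶ T) (s : Γ(pullback T.hom f, ⊤)) :
    j.left.appTop (normFn f T s) = normFn f T₁ ((gOf f j).appTop s) := by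
  have h := glued_baseChange (isPullback_gOf f j) (U := ⊤) (U₁ := ⊤) le_top s
  have e1 : j.left.appLE ⊤ ⊤ le_top = j.left.appTop := (Scheme.Hom.app_eq_appLE j.left).symm
  have e2 : (gOf f j).appLE (pullback.fst T.hom f ⁻¹ᵁ ⊤) (pullback.fst T₁.hom f ⁻¹ᵁ ⊤)
      (le_preimage (isPullback_gOf f j) le_top) = (gOf f j).appTop :=
    (Scheme.Hom.app_eq_appLE (gOf f j)).symm
  rw [e1, e2] at h
  exact h

end H10NE
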