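import Mathlib
import Groth.Agent.Lib.Helper10.NE4

/-!
# Construction of the norm map as a morphism of sheaves (helper10)
-/

set_option autoImplicit false
universe u
open CategoryTheory CategoryTheory.Limits AlgebraicGeometry TopologicalSpace Opposite
open MonoidalCategory CartesianMonoidalCategory MonObj GrpObj

namespace H10NE

open Groth.Agent.Lib.Helper13

variable {X X' : Scheme.{u}} (f : X' ⟶ X) [IsFinite f] [Flat f] [LocallyOfFinitePresentation f]

theorem exists_normPt (T : Over X) (t' : (Over.pullback f).obj T ⟶ Red.Gm X') :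
    ∃ t : T ⟶ Red.Gm X, Red.gmFn t = normFn f T (Red.gmFn t') :=
  exists_gmFn_eq _ (isUnit_normFn f T _ (isUnit_gmFn t'))

/-- The norm of a point. -/
noncomputable def normPtOf (T : Over X) (t' : (Over.pullback f).obj T ⟶ Red.Gm X') :
    T ⟶ Red.Gm X := (exists_normPt f T t').choose

theorem gmFn_normPtOf (T : Over X) (t' : (Over.pullback f).obj T ⟶ Red.Gm X') :
    Red.gmFn (normPtOf f T t') = normFn f T (Red.gmFn t') := (exists_normPt f T t').choose_spec

theorem normPtOf_mul (T : Over X) (a b : (Over.pullback f).obj T ⟶ Red.Gm X') :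
    normPtOf f T (a * b) = normPtOf f T a * normPtOf f T b := by
  apply gmFn_injective
  rw [gmFn_mul, gmFn_normPtOf, gmFn_normPtOf, gmFn_normPtOf, gmFn_mul]
  exact normFn_mul f T _ _

theorem normPtOf_one (T : Over X) : normPtOf f T 1 = 1 := by
  apply gmFn_injective
  rw [gmFn_normPtOf, gmFn_one, gmFn_one]
  exact normFn_one f T

theorem normPtOf_natural {T₁ T : Over X} (j : T₁ ⟶ T) (t' : (Over.pullback f).obj T ⟶ Red.Gm X') :
    j ≫ normPtOf f T t' = normPtOf f T₁ ((Over.pullback f).map j ≫ t') := by
  apply gmFn_injective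
  rw [gmFn_comp, gmFn_normPtOf, gmFn_normPtOf, gmFn_comp]
  exact normFn_natural f j _

variable (K : Precoverage Scheme.{u})
  [(QuotSh.J K X).Subcanonical] [(QuotSh.J K X').Subcanonical]

/-- The norm map as a morphism of sheaves. -/
noncomputable def normSh : CGrpSh3.pushGm K f ⟶ CGrpSh2.Gm K X :=
  ⟨{ app := fun T => AddCommGrpCat.ofHom
      { toFun := fun x => ULift.up (Additive.ofMul (normPtOf f (unop T) x.down.toMul))
        map_zero' := ULift.ext _ _ (congrArg Additive.ofMul (normPtOf_one f (unop T)))
        map_add' := fun x y =>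
          ULift.ext _ _ (congrArg Additive.ofMul (normPtOf_mul f (unop T) x.down.toMul y.down.toMul)) }
     naturality := fun T T₁ j => by
       refine AddCommGrpCat.ext fun x => ?_
       exact ULift.ext _ _ (congrArg Additive.ofMul (normPtOf_natural f j.unop x.down.toMul).symm) }⟩

theorem normPt_normSh (T : Over X) (t' : (Over.pullback f).obj T ⟶ Red.Gm X') :
    CGrpSh3.normPt K f (normSh f K) T t' = normPtOf f T t' := rfl

end H10NE
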