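import Mathlib
import Groth.Agent.Lib.Helper10.NE5

/-!
# The constructed morphism of sheaves is a norm map (helper10)
-/

set_option autoImplicit false
universe u
open CategoryTheory CategoryTheory.Limits AlgebraicGeometry TopologicalSpace Opposite
open MonoidalCategory CartesianMonoidalCategory MonObj GrpObj

namespace H10NE

open Groth.Agent.Lib.Helper13

variable {X X' : Scheme.{u}} (f : X' ⟶ X) [IsFinite f] [Flat f] [LocallyOfFinitePresentation f]

theorem normFn_eq_norm (T : Over X) [IsAffine T.left]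
    (inst : Algebra Γ(T.left, ⊤) Γ(pullback T.hom f, ⊤))
    (hfin : Module.Finite Γ(T.left, ⊤) Γ(pullback T.hom f, ⊤))
    (hfree : Module.Free Γ(T.left, ⊤) Γ(pullback T.hom f, ⊤))
    (halg : ∀ a : Γ(T.left, ⊤),
      algebraMap Γ(T.left, ⊤) Γ(pullback T.hom f, ⊤) a = (pullback.fst T.hom f).appTop a)
    (s : Γ(pullback T.hom f, ⊤)) :
    normFn f T s = Algebra.norm Γ(T.left, ⊤) s := by
  obtain rfl : inst = (pullback.fst T.hom f).appTop.hom.toAlgebra :=
    Algebra.algebra_ext _ _ halg
  have hgood : H16FNorm.Good (pullback.fst T.hom f) ⊤ := ⟨isAffineOpen_top _, hfree, hfin⟩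
  have h := H16FNorm.glued_spec (pullback.fst T.hom f) ⊤ s ⊤ hgood (𝟙 _)
  have e1 : T.left.presheaf.map (𝟙 (⊤ : T.left.Opens)).op = 𝟙 _ := T.left.presheaf.map_id _
  have e2 : (pullback T.hom f).presheaf.map
      ((Opens.map (pullback.fst T.hom f).base).map (𝟙 (⊤ : T.left.Opens))).op = 𝟙 _ :=
    (pullback T.hom f).presheaf.map_id _
  rw [e1, e2] at h
  exact h

variable (K : Precoverage Scheme.{u})
  [(QuotSh.J K X).Subcanonical] [(QuotSh.J K X').Subcanonical]

theorem isNormMap_normSh : CGrpSh3.IsNormMap K f (normSh f K) := by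
  intro T _ inst hfin hfree halg t'
  rw [normPt_normSh, gmFn_normPtOf]
  exact normFn_eq_norm f T inst hfin hfree halg (Red.gmFn t')

end H10NE
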