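import Mathlib
import Groth.Prelude.Def_CGrpSh3

/-!
# Norm maps: reduction to points (helper10)
-/

set_option autoImplicit false
universe u
open CategoryTheory CategoryTheory.Limits AlgebraicGeometry Opposite

namespace H10NM

variable (K : Precoverage Scheme.{u}) {X X' : Scheme.{u}} (f : X' ⟶ X)
  [(QuotSh.J K X).Subcanonical] [(QuotSh.J K X').Subcanonical]

theorem normPt_natural (N : CGrpSh3.pushGm K f ⟶ CGrpSh2.Gm K X) {T T₁ : Over X} (j : T₁ ⟶ T)
    (t' : (Over.pullback f).obj T ⟶ Red.Gm X') :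
    j ≫ CGrpSh3.normPt K f N T t' = CGrpSh3.normPt K f N T₁ ((Over.pullback f).map j ≫ t') := by
  have h := congrArg (fun φ => (φ (ULift.up (Additive.ofMul t'))).down.toMul)
    (congrArg (fun φ => (ConcreteCategory.hom φ : _ → _)) (N.hom.naturality j.op))
  exact h.symm

theorem hom_ext_normPt (N N' : CGrpSh3.pushGm K f ⟶ CGrpSh2.Gm K X)
    (h : ∀ (T : Over X) (t' : (Over.pullback f).obj T ⟶ Red.Gm X'),
      CGrpSh3.normPt K f N T t' = CGrpSh3.normPt K f N' T t') : N = N' := by
  refine Sheaf.hom_ext (NatTrans.ext (funext fun T => AddCommGrpCat.ext fun x => ?_))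
  have h1 := h (unop T) x.down.toMul
  rw [CGrpSh3.normPt_def, CGrpSh3.normPt_def] at h1
  exact ULift.ext _ _ (Additive.toMul.injective h1)

end H10NM
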