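import Mathlib
import Groth.Prelude.Def_CGrpSh3

/-!
# Norm maps: restriction of the base change to an open of the test scheme (helper10)
-/

set_option autoImplicit false
universe u
open CategoryTheory CategoryTheory.Limits AlgebraicGeometry Opposite

namespace H10NM

section Alg

attribute [local instance] RingHomInvPair.of_ringEquiv in
theorem free_of_equiv_equiv {A₁ B₁ A₂ B₂ : Type*} [CommRing A₁] [CommRing B₁] [CommRing A₂]
    [CommRing B₂] [Algebra A₁ B₁] [Algebra A₂ B₂] (e₁ : A₁ ≃+* A₂) (e₂ : B₁ ≃+* B₂)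
    (he : ∀ a, algebraMap A₂ B₂ (e₁ a) = e₂ (algebraMap A₁ B₁ a)) [Module.Free A₁ B₁] :
    Module.Free A₂ B₂ := by
  refine (Module.Free.iff_of_equiv (M := B₁) (σ := (e₁ : A₁ →+* A₂))
    (σ' := (e₁.symm : A₂ →+* A₁)) ?_).mp inferInstance
  exact { __ := e₂.toAddEquiv, map_smul' := fun a b => by simp [Algebra.smul_def, he] }

end Alg

variable {X X' : Scheme.{u}} (f : X' ⟶ X) (T : Over X) (V : T.left.Opens)

/-- The open `V` of `T` as an `X`-scheme. -/
noncomputable abbrev TV : Over X := Over.mk (V.ι ≫ T.hom)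

/-- The inclusion of `V` into `T` over `X`. -/
noncomputable abbrev jV : TV T V ⟶ T := Over.homMk V.ι rfl

/-- The base change of the inclusion. -/
noncomputable abbrev gV : pullback (V.ι ≫ T.hom) f ⟶ pullback T.hom f :=
  ((Over.pullback f).map (jV T V)).left

/-- The projection of the base change of `V`. -/
noncomputable abbrev prV : pullback (V.ι ≫ T.hom) f ⟶ V.toScheme := pullback.fst (V.ι ≫ T.hom) f

theorem gV_fst : gV f T V ≫ pullback.fst T.hom f = prV f T V ≫ V.ι := pullback.lift_fst _ _ _

theorem gV_snd : gV f T V ≫ pullback.snd T.hom f = pullback.snd (V.ι ≫ T.hom) f :=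
  pullback.lift_snd _ _ _

theorem isPullback_gV : IsPullback (prV f T V) (gV f T V) V.ι (pullback.fst T.hom f) := by
  have big : IsPullback (gV f T V ≫ pullback.snd T.hom f) (prV f T V) f (V.ι ≫ T.hom) := by
    rw [gV_snd]
    exact (IsPullback.of_hasPullback (V.ι ≫ T.hom) f).flip
  exact (IsPullback.of_right big (gV_fst f T V) (IsPullback.of_hasPullback T.hom f).flip).flip

instance : IsOpenImmersion (gV f T V) :=
  MorphismProperty.of_isPullback (isPullback_gV f T V) (inferInstance : IsOpenImmersion V.ι)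

theorem gV_image_top : gV f T V ''ᵁ ⊤ = pullback.fst T.hom f ⁻¹ᵁ V := by
  apply TopologicalSpace.Opens.ext
  have h := Scheme.image_preimage_eq_of_isPullback (isPullback_gV f T V) Set.univ
  rw [Set.preimage_univ, Set.image_univ, Set.image_univ, Scheme.Opens.range_ι] at h
  simpa using h

end H10NM
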