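import Mathlib
import Groth.Agent.Lib.Helper10.NM2
import Groth.Agent.Lib.Helper16.Norm.FreeNorm

/-!
# Norm maps: good opens give test objects (helper10)
-/

set_option autoImplicit false
universe u
open CategoryTheory CategoryTheory.Limits AlgebraicGeometry Opposite

namespace H10NM

theorem isIso_appLE_of_image_top {Y Z : Scheme.{u}} (g : Y ⟶ Z) [IsOpenImmersion g] (W : Z.Opens)
    (h : g ''ᵁ ⊤ = W) (e : (⊤ : Y.Opens) ≤ g ⁻¹ᵁ W) : IsIso (g.appLE W ⊤ e) := by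
  subst h
  rw [← Scheme.Hom.appIso_hom']
  infer_instance

theorem appLE_congr_hom {Y Z : Scheme.{u}} (a b : Y ⟶ Z) (h : a = b) (U : Z.Opens) (W : Y.Opens)
    (e : W ≤ a ⁻¹ᵁ U) (e' : W ≤ b ⁻¹ᵁ U) : a.appLE U W e = b.appLE U W e' := by
  subst h
  rfl

variable {X X' : Scheme.{u}} (f : X' ⟶ X) (T : Over X) (V : T.left.Opens)

theorem le_ι : (⊤ : V.toScheme.Opens) ≤ V.ι ⁻¹ᵁ V := by
  intro x _
  exact x.2

theorem le_gV : (⊤ : (pullback (V.ι ≫ T.hom) f).Opens) ≤ gV f T V ⁻¹ᵁ (pullback.fst T.hom f ⁻¹ᵁ V) := by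
  rw [← gV_image_top]
  intro x _
  exact ⟨x, trivial, rfl⟩

/-- Restriction of functions to `V`. -/
noncomputable def psi : Γ(T.left, V) ⟶ Γ(V.toScheme, ⊤) := V.ι.appLE V ⊤ (le_ι T V)

/-- Restriction of functions to the base change of `V`. -/
noncomputable def phi : Γ(pullback T.hom f, pullback.fst T.hom f ⁻¹ᵁ V) ⟶ Γ(pullback (V.ι ≫ T.hom) f, ⊤) :=
  (gV f T V).appLE (pullback.fst T.hom f ⁻¹ᵁ V) ⊤ (le_gV f T V)

instance : IsIso (psi T V) := isIso_appLE_of_image_top V.ι V V.ι_image_top _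

instance : IsIso (phi f T V) := isIso_appLE_of_image_top (gV f T V) _ (gV_image_top f T V) _

theorem comm_sq : psi T V ≫ (prV f T V).appTop = (pullback.fst T.hom f).app V ≫ phi f T V := by
  have h1 : (prV f T V).appTop = (prV f T V).appLE ⊤ ⊤ le_top := by
    simp [Scheme.Hom.appLE]
  rw [h1, psi, phi, Scheme.Hom.app_eq_appLE, Scheme.Hom.appLE_comp_appLE,
    Scheme.Hom.appLE_comp_appLE]
  exact appLE_congr_hom _ _ (gV_fst f T V).symm _ _ _ _

theorem transport (hV : H16FNorm.Good (pullback.fst T.hom f) V) :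
    letI := (prV f T V).appTop.hom.toAlgebra
    Module.Free Γ(V.toScheme, ⊤) Γ(pullback (V.ι ≫ T.hom) f, ⊤) ∧
      Module.Finite Γ(V.toScheme, ⊤) Γ(pullback (V.ι ≫ T.hom) f, ⊤) := by
  letI := H16FNorm.alg (pullback.fst T.hom f) V
  letI := (prV f T V).appTop.hom.toAlgebra
  haveI := hV.free
  haveI := hV.finite
  let e₁ : Γ(T.left, V) ≃+* Γ(V.toScheme, ⊤) := (asIso (psi T V)).commRingCatIsoToRingEquiv
  let e₂ : Γ(pullback T.hom f, pullback.fst T.hom f ⁻¹ᵁ V) ≃+* Γ(pullback (V.ι ≫ T.hom) f, ⊤) :=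
    (asIso (phi f T V)).commRingCatIsoToRingEquiv
  have hcomm : ∀ a, algebraMap Γ(V.toScheme, ⊤) Γ(pullback (V.ι ≫ T.hom) f, ⊤) (e₁ a) =
      e₂ (algebraMap Γ(T.left, V) Γ(pullback T.hom f, pullback.fst T.hom f ⁻¹ᵁ V) a) := by
    intro a
    exact congrArg (fun φ => φ.hom a) (comm_sq f T V)
  exact ⟨free_of_equiv_equiv e₁ e₂ hcomm, Module.Finite.of_equiv_equiv e₁ e₂ (RingHom.ext hcomm)⟩

end H10NM
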