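import Mathlib
import Groth.Agent.Lib.Helper10.NM1
import Groth.Agent.Lib.Helper10.NM3
import Groth.Agent.Lib.Helper13.GaGm

/-!
# Norm maps: uniqueness (helper10)
-/

set_option autoImplicit false
universe u
open CategoryTheory CategoryTheory.Limits AlgebraicGeometry Opposite

namespace H10NM

variable {X X' : Scheme.{u}} (f : X' ⟶ X) (T : Over X) (V : T.left.Opens)

theorem appTop_eq_appLE {Y Z : Scheme.{u}} (g : Y ⟶ Z) : g.appTop = g.appLE ⊤ ⊤ le_top :=
  Scheme.Hom.app_eq_appLE g

theorem map_psi (i : V ⟶ (⊤ : T.left.Opens)) :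
    T.left.presheaf.map i.op ≫ psi T V = V.ι.appTop := by
  rw [appTop_eq_appLE, psi, Scheme.Hom.map_appLE]

theorem eq_of_appTop_eq (i : V ⟶ (⊤ : T.left.Opens)) (s s' : Γ(T.left, ⊤))
    (h : V.ι.appTop s = V.ι.appTop s') :
    T.left.presheaf.map i.op s = T.left.presheaf.map i.op s' := by
  rw [← map_psi T V i] at h
  have hinj : Function.Injective (psi T V) :=
    ((ConcreteCategory.isIso_iff_bijective (psi T V)).mp inferInstance).1
  exact hinj h

variable (K : Precoverage Scheme.{u})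
  [(QuotSh.J K X).Subcanonical] [(QuotSh.J K X').Subcanonical]

theorem gmFn_normPt_restrict (N N' : CGrpSh3.pushGm K f ⟶ CGrpSh2.Gm K X)
    (hN : CGrpSh3.IsNormMap K f N) (hN' : CGrpSh3.IsNormMap K f N')
    (hV : H16FNorm.Good (pullback.fst T.hom f) V)
    (t' : (Over.pullback f).obj T ⟶ Red.Gm X') :
    V.ι.appTop (Red.gmFn (CGrpSh3.normPt K f N T t')) =
      V.ι.appTop (Red.gmFn (CGrpSh3.normPt K f N' T t')) := by
  letI alg : Algebra Γ((TV T V).left, ⊤) Γ(((Over.pullback f).obj (TV T V)).left, ⊤) :=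
    (prV f T V).appTop.hom.toAlgebra
  have hfree : Module.Free Γ((TV T V).left, ⊤) Γ(((Over.pullback f).obj (TV T V)).left, ⊤) :=
    (transport f T V hV).1
  have hfin : Module.Finite Γ((TV T V).left, ⊤) Γ(((Over.pullback f).obj (TV T V)).left, ⊤) :=
    (transport f T V hV).2
  have h1 := @hN (TV T V) hV.affine alg hfin hfree (fun a => rfl)
    ((Over.pullback f).map (jV T V) ≫ t')
  have h2 := @hN' (TV T V) hV.affine alg hfin hfree (fun a => rfl)
    ((Over.pullback f).map (jV T V) ≫ t')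
  rw [← normPt_natural, Groth.Agent.Lib.Helper13.gmFn_comp] at h1 h2
  exact h1.trans h2.symm

end H10NM
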