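import Groth.Agent.Lib.Helper2.CompactEnv
import Mathlib.CategoryTheory.Triangulated.Functor
import Mathlib.CategoryTheory.Adjunction.Additive

/-!
# A right adjoint of a coproduct-preserving triangulated functor preserves coproducts iff the left
adjoint preserves compactness of the generators (Neeman)
-/

set_option autoImplicit false

namespace H10NA

open CategoryTheory CategoryTheory.Limits CategoryTheory.Pretriangulated CohDer
open Groth.Agent.Lib.Helper2.CompactEnv

universe v u u'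

section Adj

variable {D : Type u} [Category.{v} D] [Preadditive D] [HasCoproducts.{v} D]
  {E : Type u'} [Category.{v} E] [Preadditive E] [HasCoproducts.{v} E]
  {F : D ⥤ E} {G : E ⥤ D} (adj : F ⊣ G) [F.Additive] [G.Additive]

lemma he_zero (X : D) (Y : E) : adj.homEquiv X Y 0 = 0 := by
  rw [Adjunction.homEquiv_unit, G.map_zero, comp_zero]

lemma he_add (X : D) (Y : E) (a b : F.obj X ⟶ Y) :
    adj.homEquiv X Y (a + b) = adj.homEquiv X Y a + adj.homEquiv X Y b := by
  simp only [Adjunction.homEquiv_unit, G.map_add, Preadditive.comp_add]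

lemma he_neg (X : D) (Y : E) (a : F.obj X ⟶ Y) :
    adj.homEquiv X Y (-a) = -adj.homEquiv X Y a := by
  simp only [Adjunction.homEquiv_unit, G.map_neg, Preadditive.comp_neg]

lemma hes_zero (X : D) (Y : E) : (adj.homEquiv X Y).symm 0 = 0 := by
  rw [Adjunction.homEquiv_counit, F.map_zero, zero_comp]

lemma hes_add (X : D) (Y : E) (a b : X ⟶ G.obj Y) :
    (adj.homEquiv X Y).symm (a + b) = (adj.homEquiv X Y).symm a + (adj.homEquiv X Y).symm b := by
  simp only [Adjunction.homEquiv_counit, F.map_add, Preadditive.add_comp]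

lemma hes_neg (X : D) (Y : E) (a : X ⟶ G.obj Y) :
    (adj.homEquiv X Y).symm (-a) = -(adj.homEquiv X Y).symm a := by
  simp only [Adjunction.homEquiv_counit, F.map_neg, Preadditive.neg_comp]

lemma isFin_homEquiv_symm {κ : Type v} (Y : κ → E) {T : D}
    (ψ : T ⟶ ∐ (fun k => G.obj (Y k))) (hψ : IsFin (fun k => G.obj (Y k)) ψ) :
    IsFin Y ((adj.homEquiv T (∐ Y)).symm (ψ ≫ sigmaComparison G Y)) := by
  unfold IsFin at hψ
  induction hψ using AddSubgroup.closure_induction with
  | mem ψ hψ =>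
    obtain ⟨k, g, rfl⟩ := hψ
    rw [Category.assoc, ι_comp_sigmaComparison, Adjunction.homEquiv_naturality_right_symm]
    exact isFin_comp_ι k _
  | zero =>
    rw [zero_comp, hes_zero]
    exact zero_mem _
  | add x y _ _ hx hy =>
    rw [Preadditive.add_comp, hes_add]
    exact add_mem hx hy
  | neg x _ hx =>
    rw [Preadditive.neg_comp, hes_neg]
    exact neg_mem hx

omit [HasCoproducts.{v} D] [F.Additive] in
lemma sigmaπ_eq {κ : Type v} (Y : κ → E) [HasCoproduct (fun k => G.obj (Y k))] (j : κ) :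
    sigmaπ (fun k => G.obj (Y k)) j = sigmaComparison G Y ≫ G.map (sigmaπ Y j) := by
  classical
  apply Sigma.hom_ext
  intro k
  rw [← Category.assoc, ι_comp_sigmaComparison, ← G.map_comp]
  by_cases h : k = j
  · subst h
    rw [ι_sigmaπ_self, ι_sigmaπ_self, G.map_id]
  · rw [ι_sigmaπ_of_ne _ h, ι_sigmaπ_of_ne _ h, G.map_zero]

omit [F.Additive] in
lemma comp_sigmaComparison_injective {κ : Type v} (Y : κ → E) {T : D} (hT : IsCompactObject T)
    (α : T ⟶ ∐ (fun k => G.obj (Y k))) (h : α ≫ sigmaComparison G Y = 0) : α = 0 := by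
  obtain ⟨Fs, hFs⟩ := (isFin_of_isCompactObject hT (fun k => G.obj (Y k)) α).exists_finset
  rw [eq_sum_of_comp_compl_eq_zero _ hFs]
  apply Finset.sum_eq_zero
  intro k _
  rw [sigmaπ_eq, ← Category.assoc α, h, zero_comp, zero_comp]

include adj in
lemma exists_comp_sigmaComparison {κ : Type v} (Y : κ → E) {T : D}
    (hT : IsCompactObject (F.obj T)) (a : T ⟶ G.obj (∐ Y)) :
    ∃ α : T ⟶ ∐ (fun k => G.obj (Y k)), α ≫ sigmaComparison G Y = a := by
  have key : ∀ φ : F.obj T ⟶ ∐ Y, IsFin Y φ →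
      ∃ α : T ⟶ ∐ (fun k => G.obj (Y k)),
        α ≫ sigmaComparison G Y = adj.homEquiv T (∐ Y) φ := by
    intro φ hφ
    unfold IsFin at hφ
    induction hφ using AddSubgroup.closure_induction with
    | mem ψ hψ =>
      obtain ⟨k, g, rfl⟩ := hψ
      refine ⟨adj.homEquiv T (Y k) g ≫ Sigma.ι (fun k => G.obj (Y k)) k, ?_⟩
      rw [Category.assoc, ι_comp_sigmaComparison, Adjunction.homEquiv_naturality_right]
    | zero => exact ⟨0, by rw [zero_comp, he_zero]⟩
    | add x y _ _ hx hy =>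
      obtain ⟨α, hα⟩ := hx
      obtain ⟨β, hβ⟩ := hy
      exact ⟨α + β, by rw [Preadditive.add_comp, hα, hβ, he_add]⟩
    | neg x _ hx =>
      obtain ⟨α, hα⟩ := hx
      exact ⟨-α, by rw [Preadditive.neg_comp, hα, he_neg]⟩
  obtain ⟨α, hα⟩ := key _ (isFin_of_isCompactObject hT Y ((adj.homEquiv T (∐ Y)).symm a))
  exact ⟨α, by rw [hα, Equiv.apply_symm_apply]⟩

include adj in
theorem forward {ι : Type*} (S : ι → D) (hSc : ∀ i, IsCompactObject (S i))
    (hG : ∀ (κ : Type v), PreservesColimitsOfShape (Discrete κ) G) (i : ι) :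
    IsCompactObject (F.obj (S i)) := by
  apply isCompactObject_of_isFin
  intro κ Y φ
  haveI := hG κ
  have h1 := isFin_of_isCompactObject (hSc i) (fun k => G.obj (Y k))
    (adj.homEquiv _ _ φ ≫ inv (sigmaComparison G Y))
  have h2 := isFin_homEquiv_symm adj Y _ h1
  rwa [Category.assoc, IsIso.inv_hom_id, Category.comp_id, Equiv.symm_apply_apply] at h2

end Adj

section Tri

variable {D : Type u} [Category.{v} D] [Preadditive D] [HasZeroObject D] [HasShift D ℤ]
    [∀ n : ℤ, (shiftFunctor D n).Additive] [Pretriangulated D]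

omit [HasZeroObject D] [Pretriangulated D] in
lemma eq_zero_of_comp_shift {T X₁ X₂ : D} (c : X₁ ⟶ X₂)
    (hinj : ∀ β : (shiftFunctor D (-1 : ℤ)).obj T ⟶ X₁, β ≫ c = 0 → β = 0)
    (α : T ⟶ (shiftFunctor D (1 : ℤ)).obj X₁)
    (h : α ≫ (shiftFunctor D (1 : ℤ)).map c = 0) : α = 0 := by
  have e := shiftFunctorCompIsoId D (1 : ℤ) (-1) (by norm_num)
  have h1 : ((shiftFunctor D (-1 : ℤ)).map α ≫ e.hom.app X₁) ≫ c = 0 := by
    have nat := e.hom.naturality c
    rw [Category.assoc]
    have h0 : e.hom.app X₁ ≫ c =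
        (shiftFunctor D (-1 : ℤ)).map ((shiftFunctor D (1 : ℤ)).map c) ≫ e.hom.app X₂ :=
      nat.symm
    rw [h0, ← Category.assoc, ← Functor.map_comp, h, Functor.map_zero, zero_comp]
  have h2 := hinj _ h1
  have h3 : (shiftFunctor D (-1 : ℤ)).map α = 0 := by
    have h4 : (shiftFunctor D (-1 : ℤ)).map α =
        ((shiftFunctor D (-1 : ℤ)).map α ≫ e.hom.app X₁) ≫ e.inv.app X₁ := by
      rw [Category.assoc, Iso.hom_inv_id_app]
      exact (Category.comp_id _).symm
    rw [h4, h2, zero_comp]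
  apply (shiftFunctor D (-1 : ℤ)).map_injective
  rw [h3, Functor.map_zero]

lemma eq_zero_of_triangle (Tr : Triangle D) (hTr : Tr ∈ distTriang D) {T : D}
    (hinj : ∀ β : (shiftFunctor D (-1 : ℤ)).obj T ⟶ Tr.obj₁, β ≫ Tr.mor₁ = 0 → β = 0)
    (hsurj : ∀ a : T ⟶ Tr.obj₂, ∃ α : T ⟶ Tr.obj₁, α ≫ Tr.mor₁ = a)
    (u : T ⟶ Tr.obj₃) : u = 0 := by
  have h1 : u ≫ Tr.mor₃ = 0 := by
    apply eq_zero_of_comp_shift Tr.mor₁ hinj
    rw [Category.assoc, comp_distTriang_mor_zero₃₁ Tr hTr, comp_zero]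
  obtain ⟨a, ha⟩ := Triangle.coyoneda_exact₃ Tr hTr u h1
  obtain ⟨α, hα⟩ := hsurj a
  rw [ha, ← hα, Category.assoc, comp_distTriang_mor_zero₁₂ Tr hTr, comp_zero]

lemma isIso_of_generates {ι : Type*} (S : ι → D) (hSg : Generates S) {X₁ X₂ : D} (c : X₁ ⟶ X₂)
    (hinj : ∀ (i : ι) (n : ℤ)
      (β : (shiftFunctor D (-1 : ℤ)).obj ((shiftFunctor D n).obj (S i)) ⟶ X₁), β ≫ c = 0 → β = 0)
    (hsurj : ∀ (i : ι) (n : ℤ) (a : (shiftFunctor D n).obj (S i) ⟶ X₂),
      ∃ α : (shiftFunctor D n).obj (S i) ⟶ X₁, α ≫ c = a) : IsIso c := by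
  obtain ⟨C, g, h, hTr⟩ := distinguished_cocone_triangle c
  have hz : IsZero C := by
    apply hSg
    intro i n f
    have e := shiftFunctorCompIsoId D n (-n) (add_neg_cancel n)
    have hu : (shiftFunctor D (-n)).map f ≫ e.hom.app C = 0 :=
      eq_zero_of_triangle (Triangle.mk c g h) hTr (hinj i (-n)) (hsurj i (-n)) _
    have h3 : (shiftFunctor D (-n)).map f = 0 := by
      have h4 : (shiftFunctor D (-n)).map f =
          ((shiftFunctor D (-n)).map f ≫ e.hom.app C) ≫ e.inv.app C := by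
        rw [Category.assoc, Iso.hom_inv_id_app]
        exact (Category.comp_id _).symm
      rw [h4, hu, zero_comp]
    apply (shiftFunctor D (-n)).map_injective
    rw [h3, Functor.map_zero]
  exact (Triangle.isZero₃_iff_isIso₁ (Triangle.mk c g h) hTr).1 hz

end Tri

section Main

variable {D : Type u} [Category.{v} D] [Preadditive D] [HasZeroObject D] [HasShift D ℤ]
    [∀ n : ℤ, (shiftFunctor D n).Additive] [Pretriangulated D] [HasCoproducts.{v} D]
    {E : Type u'} [Category.{v} E] [Preadditive E] [HasZeroObject E] [HasShift E ℤ]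
    [∀ n : ℤ, (shiftFunctor E n).Additive] [Pretriangulated E] [HasCoproducts.{v} E]

theorem backward {ι : Type*} (S : ι → D) (hSc : ∀ i, IsCompactObject (S i)) (hSg : Generates S)
    (F : D ⥤ E) [F.CommShift ℤ] [F.Additive] (G : E ⥤ D) [G.Additive] (adj : F ⊣ G)
    (hF : ∀ i, IsCompactObject (F.obj (S i))) (κ : Type v) :
    PreservesColimitsOfShape (Discrete κ) G := by
  have hiso : ∀ Y : κ → E, IsIso (sigmaComparison G Y) := by
    intro Y
    apply isIso_of_generates S hSg
    · intro i n β hβ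
      exact comp_sigmaComparison_injective Y
        (isCompactObject_shift (isCompactObject_shift (hSc i) n) (-1)) β hβ
    · intro i n a
      apply exists_comp_sigmaComparison adj Y _ a
      exact isCompactObject_of_iso ((F.commShiftIso n).app (S i))
        (isCompactObject_shift (hF i) n)
  haveI : ∀ Y : κ → E, PreservesColimit (Discrete.functor Y) G := fun Y => by
    haveI := hiso Y
    exact PreservesCoproduct.of_iso_comparison G Y
  exact preservesColimitsOfShape_of_discrete G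

end Main

end H10NA
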