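import Mathlib
import Groth.Prelude.Def_CurvBase
import Groth.Agent.Lib.Helper23.NodeAlgA

/-!
# First-order structure of an ordinary double point

`node_facts`: if the Noetherian local `K`-algebra `B` is an ordinary double point over `K`
(`Curv2.IsOrdDoublePt K B`), there are `u, v` in the maximal ideal `𝔪` with `u v ∈ 𝔪³`, whose
classes form a `K`-basis of `𝔪/𝔪²`.  (Sub-lemma (N) requested by helper22 for S7892; the structure
of `K[[x,y]]/(xy)` is read off from helper23's embedding into `K[[t]] × K[[t]]`.)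
-/

set_option autoImplicit false
universe u

open IsLocalRing
open Groth.Agent.Lib.Helper23.NodeAlg

noncomputable section

namespace Groth.Agent.Lib.Helper10.NodeFacts

section General

variable {R : Type*} [CommRing R] (I : Ideal R)

/-- The kernel of the evaluation `AdicCompletion I R → R ⧸ Iⁿ`, for `I` finitely generated. -/
lemma evalₐ_eq_zero_iff (fg : I.FG) (n : ℕ) (x : AdicCompletion I R) :
    AdicCompletion.evalₐ I n x = 0 ↔ x ∈ (I ^ n).map (algebraMap R (AdicCompletion I R)) := by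
  have h1 : AdicCompletion.evalₐ I n x = 0 ↔ AdicCompletion.eval I R n x = 0 := by
    constructor
    · intro h
      rw [← AdicCompletion.factor_evalₐ_eq_eval I x (le_of_eq (Ideal.mul_top _).symm), h, map_zero]
    · intro h
      rw [← AdicCompletion.factor_eval_eq_evalₐ I x (le_of_eq (Ideal.mul_top _)), h, map_zero]
  rw [h1, ← LinearMap.mem_ker, ← AdicCompletion.pow_smul_top_eq_ker_eval fg,
    Ideal.smul_top_eq_map]
  rfl

end General

section Node

variable (K : Type u) [Field K]

/-- The node algebra `K[[x,y]]/(xy)`. -/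
abbrev Nd : Type u := MvPowerSeries (Fin 2) K ⧸
  Ideal.span {(MvPowerSeries.X 0 * MvPowerSeries.X 1 : MvPowerSeries (Fin 2) K)}

/-- The two branches `K[[x,y]]/(xy) → K[[t]]`. -/
def br (s : Fin 2) : Nd K →+* PowerSeries K :=
  Ideal.Quotient.lift _ (face K s) (by
    intro a ha
    rw [← ker_toProd, RingHom.mem_ker, toProd_apply, Prod.mk_eq_zero] at ha
    fin_cases s
    · exact ha.1
    · exact ha.2)

/-- The classes of the coordinates. -/
def x0 : Nd K := Ideal.Quotient.mk _ (MvPowerSeries.X 0)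

/-- The classes of the coordinates. -/
def x1 : Nd K := Ideal.Quotient.mk _ (MvPowerSeries.X 1)

variable {K}

/-- The class of a constant. -/
def cc (α : K) : Nd K := Ideal.Quotient.mk _ (MvPowerSeries.C α)

lemma br_mk (s : Fin 2) (F : MvPowerSeries (Fin 2) K) :
    br K s (Ideal.Quotient.mk _ F) = face K s F := Ideal.Quotient.lift_mk _ _ _

lemma br_injective (f g : Nd K) (h0 : br K 0 f = br K 0 g) (h1 : br K 1 f = br K 1 g) :
    f = g := by
  obtain ⟨F, rfl⟩ := Ideal.Quotient.mk_surjective f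
  obtain ⟨G, rfl⟩ := Ideal.Quotient.mk_surjective g
  rw [br_mk, br_mk] at h0 h1
  rw [Ideal.Quotient.eq, ← ker_toProd, RingHom.mem_ker, map_sub, toProd_apply, toProd_apply,
    h0, h1, sub_self]

lemma br0_x0 : br K 0 (x0 K) = PowerSeries.X := by
  rw [x0, br_mk, face_X_self]

lemma br1_x0 : br K 1 (x0 K) = 0 := by
  rw [x0, br_mk, face_X_ne (show (1 : Fin 2) ≠ 0 by decide)]

lemma br0_x1 : br K 0 (x1 K) = 0 := by
  rw [x1, br_mk, face_X_ne (show (0 : Fin 2) ≠ 1 by decide)]

lemma br1_x1 : br K 1 (x1 K) = PowerSeries.X := by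
  rw [x1, br_mk, face_X_self]

lemma br_cc (s : Fin 2) (α : K) : br K s (cc α) = PowerSeries.C α := by
  rw [cc, br_mk, face_C]

lemma x0_mul_x1 : x0 K * x1 K = 0 := by
  rw [x0, x1, ← map_mul]
  exact Ideal.Quotient.eq_zero_iff_mem.mpr (Ideal.subset_span (Set.mem_singleton _))

variable (K)

/-- The augmentation `K[[x,y]]/(xy) → K`. -/
def aug : Nd K →+* K := (PowerSeries.constantCoeff (R := K)).comp (br K 0)

/-- The augmentation ideal (the maximal ideal). -/
def MN : Ideal (Nd K) := RingHom.ker (aug K)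

variable {K}

lemma constantCoeff_br (s : Fin 2) (f : Nd K) :
    PowerSeries.constantCoeff (br K s f) = aug K f := by
  obtain ⟨F, rfl⟩ := Ideal.Quotient.mk_surjective f
  have haug : aug K (Ideal.Quotient.mk _ F) =
      PowerSeries.constantCoeff (br K 0 (Ideal.Quotient.mk _ F)) := rfl
  rw [haug, br_mk, br_mk]
  have h : ∀ t : Fin 2, PowerSeries.constantCoeff (face K t F) = MvPowerSeries.coeff 0 F := by
    intro t
    rw [← PowerSeries.coeff_zero_eq_constantCoeff_apply, coeff_face, Finsupp.single_zero]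
  rw [h, h]

lemma aug_cc (α : K) : aug K (cc α) = α := by
  rw [← constantCoeff_br 0, br_cc, PowerSeries.constantCoeff_C]

lemma mem_MN_iff (f : Nd K) : f ∈ MN K ↔ aug K f = 0 := Iff.rfl

lemma x0_mem : x0 K ∈ MN K := by
  rw [mem_MN_iff, ← constantCoeff_br 0, br0_x0, PowerSeries.constantCoeff_X]

lemma x1_mem : x1 K ∈ MN K := by
  rw [mem_MN_iff, ← constantCoeff_br 1, br1_x1, PowerSeries.constantCoeff_X]

lemma map_MN_le (s : Fin 2) :
    (MN K).map (br K s) ≤ Ideal.span {(PowerSeries.X : PowerSeries K)} := by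
  rw [Ideal.map_le_iff_le_comap]
  intro f hf
  rw [Ideal.mem_comap, Ideal.mem_span_singleton, PowerSeries.X_dvd_iff, constantCoeff_br]
  exact hf

lemma X_sq_dvd_of_mem_sq (s : Fin 2) (f : Nd K) (hf : f ∈ MN K ^ 2) :
    (PowerSeries.X : PowerSeries K) ^ 2 ∣ br K s f := by
  have h1 : br K s f ∈ (MN K ^ 2).map (br K s) := Ideal.mem_map_of_mem _ hf
  rw [Ideal.map_pow] at h1
  have h2 := Ideal.pow_right_mono (map_MN_le s) 2 h1
  rwa [Ideal.span_singleton_pow, Ideal.mem_span_singleton] at h2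

/-- The classes of `x0, x1` are linearly independent modulo the square of the maximal ideal. -/
lemma indep (α β : K) (h : cc α * x0 K + cc β * x1 K ∈ MN K ^ 2) : α = 0 ∧ β = 0 := by
  constructor
  · have h1 := X_sq_dvd_of_mem_sq 0 _ h
    rw [map_add, map_mul, map_mul, br_cc, br_cc, br0_x0, br0_x1, mul_zero, add_zero,
      PowerSeries.X_pow_dvd_iff] at h1
    have h2 := h1 1 (by norm_num)
    rwa [PowerSeries.coeff_C_mul, PowerSeries.coeff_one_X, mul_one] at h2
  · have h1 := X_sq_dvd_of_mem_sq 1 _ h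
    rw [map_add, map_mul, map_mul, br_cc, br_cc, br1_x0, br1_x1, mul_zero, zero_add,
      PowerSeries.X_pow_dvd_iff] at h1
    have h2 := h1 1 (by norm_num)
    rwa [PowerSeries.coeff_C_mul, PowerSeries.coeff_one_X, mul_one] at h2

/-- An element with both branches divisible by `t²` lies in the square of the maximal ideal. -/
lemma mem_sq_of_dvd (g : Nd K) (h0 : (PowerSeries.X : PowerSeries K) ^ 2 ∣ br K 0 g)
    (h1 : (PowerSeries.X : PowerSeries K) ^ 2 ∣ br K 1 g) : g ∈ MN K ^ 2 := by
  obtain ⟨p, hp⟩ := h0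
  obtain ⟨q, hq⟩ := h1
  obtain ⟨P, hP⟩ := (mem_range_toProd p (PowerSeries.C (PowerSeries.constantCoeff p))).2
    (by rw [PowerSeries.constantCoeff_C])
  obtain ⟨Q, hQ⟩ := (mem_range_toProd (PowerSeries.C (PowerSeries.constantCoeff q)) q).2
    (by rw [PowerSeries.constantCoeff_C])
  rw [toProd_apply, Prod.mk.injEq] at hP hQ
  have hg : g = x0 K ^ 2 * Ideal.Quotient.mk _ P + x1 K ^ 2 * Ideal.Quotient.mk _ Q := by
    apply br_injective
    · rw [map_add, map_mul, map_mul, map_pow, map_pow, br0_x0, br0_x1, br_mk, br_mk, hP.1, hp]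
      ring
    · rw [map_add, map_mul, map_mul, map_pow, map_pow, br1_x0, br1_x1, br_mk, br_mk, hQ.2, hq]
      ring
  rw [hg]
  exact add_mem (Ideal.mul_mem_right _ _ (Ideal.pow_mem_pow x0_mem 2))
    (Ideal.mul_mem_right _ _ (Ideal.pow_mem_pow x1_mem 2))

/-- The classes of `x0, x1` span the maximal ideal modulo its square. -/
lemma span (f : Nd K) (hf : f ∈ MN K) :
    ∃ α β : K, f - (cc α * x0 K + cc β * x1 K) ∈ MN K ^ 2 := by
  refine ⟨PowerSeries.coeff 1 (br K 0 f), PowerSeries.coeff 1 (br K 1 f), ?_⟩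
  apply mem_sq_of_dvd
  · rw [map_sub, map_add, map_mul, map_mul, br_cc, br_cc, br0_x0, br0_x1, mul_zero, add_zero,
      PowerSeries.X_pow_dvd_iff]
    intro m hm
    have hm' : m = 0 ∨ m = 1 := by omega
    rcases hm' with rfl | rfl
    · rw [map_sub, PowerSeries.coeff_C_mul, PowerSeries.coeff_zero_X, mul_zero, sub_zero,
        PowerSeries.coeff_zero_eq_constantCoeff_apply, constantCoeff_br]
      exact hf
    · rw [map_sub, PowerSeries.coeff_C_mul, PowerSeries.coeff_one_X, mul_one, sub_self]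
  · rw [map_sub, map_add, map_mul, map_mul, br_cc, br_cc, br1_x0, br1_x1, mul_zero, zero_add,
      PowerSeries.X_pow_dvd_iff]
    intro m hm
    have hm' : m = 0 ∨ m = 1 := by omega
    rcases hm' with rfl | rfl
    · rw [map_sub, PowerSeries.coeff_C_mul, PowerSeries.coeff_zero_X, mul_zero, sub_zero,
        PowerSeries.coeff_zero_eq_constantCoeff_apply, constantCoeff_br]
      exact hf
    · rw [map_sub, PowerSeries.coeff_C_mul, PowerSeries.coeff_one_X, mul_one, sub_self]

end Node

section Main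

open Groth.Agent.Lib.Helper10.NodeFacts

/-- **First-order structure of an ordinary double point.** -/
theorem node_facts (K B : Type u) [Field K] [CommRing B] [Algebra K B] [IsLocalRing B]
    [IsNoetherianRing B] (h : Curv2.IsOrdDoublePt K B) :
    ∃ u v : B, u ∈ maximalIdeal B ∧ v ∈ maximalIdeal B ∧ u * v ∈ maximalIdeal B ^ 3 ∧
      (∀ α β : K, algebraMap K B α * u + algebraMap K B β * v ∈ maximalIdeal B ^ 2 →
        α = 0 ∧ β = 0) ∧
      (∀ x ∈ maximalIdeal B, ∃ α β : K,
        x - (algebraMap K B α * u + algebraMap K B β * v) ∈ maximalIdeal B ^ 2) := by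
  obtain ⟨e, he⟩ := h
  have fg : (maximalIdeal B).FG := (maximalIdeal B).fg_of_isNoetherianRing
  have he' : ∀ c : K, e (algebraMap B (AdicCompletion (maximalIdeal B) B) (algebraMap K B c)) =
      cc c := he
  -- the kernel of the augmentation corresponds to the maximal ideal of the completion
  have hsurj : Function.Surjective ((aug K).comp (e : AdicCompletion (maximalIdeal B) B →+* Nd K)) := by
    intro c
    refine ⟨algebraMap B (AdicCompletion (maximalIdeal B) B) (algebraMap K B c), ?_⟩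
    show aug K (e _) = c
    rw [he', aug_cc]
  have hcomap : (MN K).comap e = maximalIdeal (AdicCompletion (maximalIdeal B) B) := by
    apply IsLocalRing.eq_maximalIdeal
    have h1 : (MN K).comap e =
        RingHom.ker ((aug K).comp (e : AdicCompletion (maximalIdeal B) B →+* Nd K)) := by
      ext x
      exact Iff.rfl
    rw [h1]
    exact RingHom.ker_isMaximal_of_surjective _ hsurj
  have hpow : ∀ n : ℕ, (MN K ^ n).comap e =
      maximalIdeal (AdicCompletion (maximalIdeal B) B) ^ n := by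
    intro n
    rw [← Ideal.map_symm, Ideal.map_pow, Ideal.map_symm, hcomap]
  have hev : ∀ (n : ℕ) (x : AdicCompletion (maximalIdeal B) B),
      e x ∈ MN K ^ n ↔ AdicCompletion.evalₐ (maximalIdeal B) n x = 0 := by
    intro n x
    rw [← Ideal.mem_comap, hpow, AdicCompletion.maximalIdeal_eq_map, ← Ideal.map_pow,
      evalₐ_eq_zero_iff _ fg]
  have key : ∀ (n : ℕ) (b : B),
      e (algebraMap B (AdicCompletion (maximalIdeal B) B) b) ∈ MN K ^ n ↔
        b ∈ maximalIdeal B ^ n := by
    intro n b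
    have h1 : AdicCompletion.evalₐ (maximalIdeal B) n
        (algebraMap B (AdicCompletion (maximalIdeal B) B) b) = Ideal.Quotient.mk _ b :=
      AdicCompletion.evalₐ_of _ n _
    rw [hev, h1, Ideal.Quotient.eq_zero_iff_mem]
  have lift : ∀ (n : ℕ) (y : Nd K), ∃ b : B,
      e (algebraMap B (AdicCompletion (maximalIdeal B) B) b) - y ∈ MN K ^ n := by
    intro n y
    obtain ⟨b, hb⟩ := Ideal.Quotient.mk_surjective
      (AdicCompletion.evalₐ (maximalIdeal B) n (e.symm y))
    refine ⟨b, ?_⟩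
    have h1 : AdicCompletion.evalₐ (maximalIdeal B) n
        (algebraMap B (AdicCompletion (maximalIdeal B) B) b) = Ideal.Quotient.mk _ b :=
      AdicCompletion.evalₐ_of _ n _
    have h2 : e (algebraMap B (AdicCompletion (maximalIdeal B) B) b - e.symm y) ∈ MN K ^ n := by
      rw [hev, map_sub, h1, hb, sub_self]
    rwa [map_sub, RingEquiv.apply_symm_apply] at h2
  -- notation
  obtain ⟨θ, hθ⟩ : ∃ θ : B →+* Nd K,
      ∀ b, θ b = e (algebraMap B (AdicCompletion (maximalIdeal B) B) b) :=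
    ⟨(e : AdicCompletion (maximalIdeal B) B →+* Nd K).comp
      (algebraMap B (AdicCompletion (maximalIdeal B) B)), fun _ => rfl⟩
  have hθK : ∀ c : K, θ (algebraMap K B c) = cc c := fun c => by rw [hθ, he']
  have keyθ : ∀ (n : ℕ) (b : B), θ b ∈ MN K ^ n ↔ b ∈ maximalIdeal B ^ n := fun n b => by
    rw [hθ]; exact key n b
  obtain ⟨u, hu⟩ := lift 2 (x0 K)
  obtain ⟨v, hv⟩ := lift 2 (x1 K)
  rw [← hθ] at hu hv
  have hle : MN K ^ 2 ≤ MN K := Ideal.pow_le_self (by norm_num)
  have hθu : θ u ∈ MN K := by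
    have h1 : θ u = x0 K + (θ u - x0 K) := by ring
    rw [h1]
    exact add_mem x0_mem (hle hu)
  have hθv : θ v ∈ MN K := by
    have h1 : θ v = x1 K + (θ v - x1 K) := by ring
    rw [h1]
    exact add_mem x1_mem (hle hv)
  have mem1 : ∀ b : B, θ b ∈ MN K ↔ b ∈ maximalIdeal B := fun b => by
    have h1 := keyθ 1 b
    have e0 : MN K ^ 1 = MN K := pow_one _
    have e0' : maximalIdeal B ^ 1 = maximalIdeal B := pow_one _
    rwa [e0, e0'] at h1
  refine ⟨u, v, (mem1 u).1 hθu, (mem1 v).1 hθv, ?_, ?_, ?_⟩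
  · rw [← keyθ, map_mul]
    have h1 : θ u * θ v = x0 K * x1 K + x0 K * (θ v - x1 K) + (θ u - x0 K) * x1 K +
        (θ u - x0 K) * (θ v - x1 K) := by ring
    rw [h1, x0_mul_x1, zero_add]
    have e1 : MN K * MN K ^ 2 = MN K ^ 3 := (pow_succ' (MN K) 2).symm
    have e2 : MN K ^ 2 * MN K = MN K ^ 3 := (pow_succ (MN K) 2).symm
    refine add_mem (add_mem ?_ ?_) ?_
    · rw [← e1]; exact Ideal.mul_mem_mul x0_mem hv
    · rw [← e2]; exact Ideal.mul_mem_mul hu x1_mem
    · rw [← e1]; exact Ideal.mul_mem_mul (hle hu) hv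
  · intro α β hαβ
    rw [← keyθ, map_add, map_mul, map_mul, hθK, hθK] at hαβ
    apply indep
    have h1 : cc α * x0 K + cc β * x1 K = (cc α * θ u + cc β * θ v) -
        cc α * (θ u - x0 K) - cc β * (θ v - x1 K) := by ring
    rw [h1]
    exact sub_mem (sub_mem hαβ (Ideal.mul_mem_left _ _ hu)) (Ideal.mul_mem_left _ _ hv)
  · intro x hx
    obtain ⟨α, β, hαβ⟩ := span (θ x) ((mem1 x).2 hx)
    refine ⟨α, β, ?_⟩
    rw [← keyθ, map_sub, map_add, map_mul, map_mul, hθK, hθK]
    have h1 : θ x - (cc α * θ u + cc β * θ v) = (θ x - (cc α * x0 K + cc β * x1 K)) -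
        cc α * (θ u - x0 K) - cc β * (θ v - x1 K) := by ring
    rw [h1]
    exact sub_mem (sub_mem hαβ (Ideal.mul_mem_left _ _ hu)) (Ideal.mul_mem_left _ _ hv)

end Main

end Groth.Agent.Lib.Helper10.NodeFacts
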