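import Mathlib

/-!
# Helper library (helper10): pure base change preserves cosplit equalizers, core module lemma

`Q` is an `R`-module with a distinguished element `e` such that `r ↦ r • e` is universally injective, in the
form of an `R`-linear section `σ` of the dual map on character modules.  For `u v : A → B` and an `R`-linear map
`t : Q ⊗ B → Q ⊗ A` with `t ∘ (Q ⊗ v) = id` and `(Q ⊗ u) ∘ t ∘ (Q ⊗ u) = (Q ⊗ v) ∘ t ∘ (Q ⊗ u)`, the functor
`Q ⊗ -` preserves the equalizer of `u` and `v`.
-/

set_option autoImplicit false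
universe u
open TensorProduct

namespace H10PT.PC

section core

variable {R : Type u} [CommRing R] {Q : Type u} [AddCommGroup Q] [Module R Q] (e : Q)
  (σ : CharacterModule R →ₗ[R] CharacterModule Q)

section defs

variable {M : Type u} [AddCommGroup M] [Module R M]

lemma char_ext_tmul {c c' : CharacterModule (Q ⊗[R] M)}
    (h : ∀ (x : Q) (m : M), c (x ⊗ₜ[R] m) = c' (x ⊗ₜ[R] m)) : c = c' := by
  ext z
  induction z using TensorProduct.induction_on with
  | zero => rw [map_zero, map_zero]
  | tmul x m => exact h x m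
  | add a b ha hb => rw [map_add, map_add, ha, hb]

/-- `r ↦ χ (r • m)` -/
def chi (R : Type u) [CommRing R] [Module R M] (χ : CharacterModule M) (m : M) : CharacterModule R :=
  CharacterModule.dual (LinearMap.toSpanSingleton R M m) χ

lemma chi_apply (χ : CharacterModule M) (m : M) (r : R) : chi R χ m r = χ (r • m) := rfl

/-- `m ↦ (r ↦ χ (r • m))` as a linear map -/
def chiL (R : Type u) [CommRing R] [Module R M] (χ : CharacterModule M) :
    M →ₗ[R] CharacterModule R where
  toFun m := chi R χ m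
  map_add' m m' := by
    ext r
    show χ (r • (m + m')) = χ (r • m) + χ (r • m')
    rw [smul_add, map_add]
  map_smul' r' m := by
    ext r
    show χ (r • r' • m) = χ ((r' • r) • m)
    rw [smul_eq_mul, mul_comm, mul_smul]

lemma chiL_apply (χ : CharacterModule M) (m : M) : chiL R χ m = chi R χ m := rfl

/-- the section of the dual of `m ↦ e ⊗ m` -/
noncomputable def s (χ : CharacterModule M) : CharacterModule (Q ⊗[R] M) :=
  CharacterModule.dual (TensorProduct.comm R Q M).toLinearMap
    (CharacterModule.uncurry (σ ∘ₗ chiL R χ))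

lemma s_tmul (χ : CharacterModule M) (x : Q) (m : M) :
    s σ χ (x ⊗ₜ[R] m) = σ (chi R χ m) x := rfl

/-- `s` as a linear map -/
noncomputable def sL : CharacterModule M →ₗ[R] CharacterModule (Q ⊗[R] M) where
  toFun := s σ
  map_add' χ χ' := char_ext_tmul (fun x m => by
    show s σ (χ + χ') (x ⊗ₜ[R] m) = s σ χ (x ⊗ₜ[R] m) + s σ χ' (x ⊗ₜ[R] m)
    rw [s_tmul, s_tmul, s_tmul]
    have : chi R (χ + χ') m = chi R χ m + chi R χ' m := by
      ext r; rfl
    rw [this, map_add]; rfl)
  map_smul' r χ := char_ext_tmul (fun x m => by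
    show s σ (r • χ) (x ⊗ₜ[R] m) = s σ χ (r • (x ⊗ₜ[R] m))
    rw [TensorProduct.smul_tmul', s_tmul, s_tmul]
    have : chi R (r • χ) m = r • chi R χ m := by
      ext r'
      show χ (r • r' • m) = χ ((r • r') • m)
      rw [smul_eq_mul, mul_smul]
    rw [this, map_smul]; rfl)

lemma sL_apply (χ : CharacterModule M) : sL σ χ = s σ χ := rfl

variable (hσ : ∀ χ : CharacterModule R, σ χ e = χ 1)

include hσ in
lemma s_e_tmul (χ : CharacterModule M) (m : M) : s σ χ (e ⊗ₜ[R] m) = χ m := by
  rw [s_tmul, hσ, chi_apply, one_smul]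

lemma s_nat {M' : Type u} [AddCommGroup M'] [Module R M'] (g : M →ₗ[R] M')
    (χ' : CharacterModule M') (z : Q ⊗[R] M) :
    s σ χ' (g.lTensor Q z) = s σ (CharacterModule.dual g χ') z := by
  have : CharacterModule.dual (g.lTensor Q) (s σ χ') = s σ (CharacterModule.dual g χ') :=
    char_ext_tmul (fun x m => by
      show s σ χ' (g.lTensor Q (x ⊗ₜ[R] m)) = _
      rw [LinearMap.lTensor_tmul, s_tmul, s_tmul]
      congr 2
      ext r
      show χ' (r • g m) = χ' (g (r • m))
      rw [LinearMap.map_smul])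
  exact congrArg (fun c => c z) this

end defs

section main

variable {A B : Type u} [AddCommGroup A] [Module R A] [AddCommGroup B] [Module R B]
  (u v : A →ₗ[R] B) (t : Q ⊗[R] B →ₗ[R] Q ⊗[R] A)

/-- the contracting homotopy on character modules -/
noncomputable def τ : CharacterModule A →ₗ[R] CharacterModule B :=
  (CharacterModule.dual (TensorProduct.mk R Q B e)) ∘ₗ (CharacterModule.dual t) ∘ₗ (sL σ (M := A))

lemma τ_apply (a' : CharacterModule A) (b : B) : τ e σ t a' b = s σ a' (t (e ⊗ₜ[R] b)) := rfl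

variable (hσ : ∀ χ : CharacterModule R, σ χ e = χ 1)
  (ht1 : ∀ z : Q ⊗[R] A, t (v.lTensor Q z) = z)
  (ht2 : ∀ z : Q ⊗[R] A, u.lTensor Q (t (u.lTensor Q z)) = v.lTensor Q (t (u.lTensor Q z)))

include hσ ht1 in
lemma K1 (a' : CharacterModule A) (a : A) : τ e σ t a' (v a) = a' a := by
  rw [τ_apply]
  have : e ⊗ₜ[R] v a = v.lTensor Q (e ⊗ₜ[R] a) := (LinearMap.lTensor_tmul _ _ _ _).symm
  rw [this, ht1, s_e_tmul e σ hσ]

include ht2 in
lemma K2 (b' : CharacterModule B) (a : A) :
    τ e σ t (CharacterModule.dual u b') (u a) = τ e σ t (CharacterModule.dual v b') (u a) := by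
  rw [τ_apply, τ_apply]
  have : e ⊗ₜ[R] u a = u.lTensor Q (e ⊗ₜ[R] a) := (LinearMap.lTensor_tmul _ _ _ _).symm
  rw [this, ← s_nat, ← s_nat, ht2]

include ht2 in
lemma he (a' : CharacterModule A) (hv : ∀ a : A, u a = v a → a' a = 0) (a : A) :
    τ e σ t a' (u a) = 0 := by
  -- a' factors through `u - v`
  set d : A →ₗ[R] B := u - v with hd
  have hker : ∀ a : A, a ∈ LinearMap.ker d → a' a = 0 := by
    intro a ha
    apply hv
    have : d a = 0 := ha
    rw [hd, LinearMap.sub_apply, sub_eq_zero] at this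
    exact this
  let dbar : (A ⧸ LinearMap.ker d) →ₗ[R] B := (LinearMap.ker d).liftQ d le_rfl
  have hinj : Function.Injective dbar := by
    rw [← LinearMap.ker_eq_bot]
    exact Submodule.ker_liftQ_eq_bot _ _ _ le_rfl
  let abar : CharacterModule (A ⧸ LinearMap.ker d) :=
    QuotientAddGroup.lift (LinearMap.ker d).toAddSubgroup a' (fun x hx => hker x hx)
  obtain ⟨b', hb'⟩ := CharacterModule.dual_surjective_of_injective dbar hinj abar
  have hb : ∀ a : A, b' (d a) = a' a := by
    intro a
    have := congrArg (fun c => c (Submodule.Quotient.mk a)) hb'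
    exact this
  have e1 : a' = CharacterModule.dual u b' - CharacterModule.dual v b' := by
    ext a
    show a' a = b' (u a) - b' (v a)
    rw [← hb a, hd, LinearMap.sub_apply, map_sub]
  rw [e1, map_sub]
  show τ e σ t (CharacterModule.dual u b') (u a) - τ e σ t (CharacterModule.dual v b') (u a) = 0
  rw [K2 e σ u v t ht2, sub_self]

include hσ ht1 ht2 in
/-- exactness in the middle -/
theorem mem_range_of_eq (x : Q ⊗[R] A) (hx : u.lTensor Q x = v.lTensor Q x) :
    x ∈ LinearMap.range ((LinearMap.ker (u - v)).subtype.lTensor Q) := by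
  by_contra hnot
  set Z := LinearMap.range ((LinearMap.ker (u - v)).subtype.lTensor Q) with hZ
  have hne : (Z.mkQ x) ≠ 0 := by
    intro h0
    exact hnot ((Submodule.Quotient.mk_eq_zero Z).mp h0)
  obtain ⟨c, hc⟩ := CharacterModule.exists_character_apply_ne_zero_of_ne_zero hne
  set χ' : CharacterModule (Q ⊗[R] A) := CharacterModule.dual Z.mkQ c with hχ'
  have hχx : χ' x ≠ 0 := hc
  have hvan : ∀ (x₀ : Q) (a : A), u a = v a → χ' (x₀ ⊗ₜ[R] a) = 0 := by
    intro x₀ a ha
    have hmem : x₀ ⊗ₜ[R] a ∈ Z := by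
      refine ⟨x₀ ⊗ₜ[R] (⟨a, ?_⟩ : LinearMap.ker (u - v)), ?_⟩
      · show (u - v) a = 0
        rw [LinearMap.sub_apply, ha, sub_self]
      · rw [LinearMap.lTensor_tmul]; rfl
    show c (Z.mkQ (x₀ ⊗ₜ[R] a)) = 0
    have h0 : Z.mkQ (x₀ ⊗ₜ[R] a) = 0 := (Submodule.Quotient.mk_eq_zero Z).mpr hmem
    rw [h0, map_zero]
  set φ : Q →ₗ[R] CharacterModule A := CharacterModule.curry χ' with hφ
  have hφa : ∀ (x₀ : Q) (a : A), φ x₀ a = χ' (x₀ ⊗ₜ[R] a) := fun x₀ a => rfl
  set ξ : CharacterModule (Q ⊗[R] B) := CharacterModule.uncurry (τ e σ t ∘ₗ φ) with hξ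
  have hξb : ∀ (x₀ : Q) (b : B), ξ (x₀ ⊗ₜ[R] b) = τ e σ t (φ x₀) b := fun x₀ b => rfl
  have c1 : χ' = CharacterModule.dual (v.lTensor Q) ξ := char_ext_tmul (fun x₀ a => by
    show χ' (x₀ ⊗ₜ[R] a) = ξ (v.lTensor Q (x₀ ⊗ₜ[R] a))
    rw [LinearMap.lTensor_tmul, hξb, K1 e σ v t hσ ht1, hφa])
  have c2 : CharacterModule.dual (u.lTensor Q) ξ = 0 := char_ext_tmul (fun x₀ a => by
    show ξ (u.lTensor Q (x₀ ⊗ₜ[R] a)) = 0
    rw [LinearMap.lTensor_tmul, hξb]
    exact he e σ u v t ht2 (φ x₀) (fun a' ha' => by rw [hφa]; exact hvan x₀ a' ha') a)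
  apply hχx
  have h1 : χ' x = ξ (v.lTensor Q x) := congrArg (fun c => c x) c1
  have h2 : ξ (u.lTensor Q x) = 0 := congrArg (fun c => c x) c2
  rw [h1, ← hx, h2]

include hσ ht1 ht2 in
/-- injectivity on the left -/
theorem lTensor_subtype_injective :
    Function.Injective ((LinearMap.ker (u - v)).subtype.lTensor Q) := by
  set ι : LinearMap.ker (u - v) →ₗ[R] A := (LinearMap.ker (u - v)).subtype with hι
  rw [← CharacterModule.dual_surjective_iff_injective]
  have hsurj : Function.Surjective (CharacterModule.dual ι) :=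
    CharacterModule.dual_surjective_of_injective ι (Submodule.injective_subtype _)
  have huv : ∀ ε : LinearMap.ker (u - v), u (ι ε) = v (ι ε) := by
    intro ε
    have : (u - v) (ε : A) = 0 := ε.2
    rw [LinearMap.sub_apply, sub_eq_zero] at this
    exact this
  -- the idempotent
  set e' : CharacterModule A →ₗ[R] CharacterModule A := (CharacterModule.dual u) ∘ₗ (τ e σ t) with he'
  have he'a : ∀ (a' : CharacterModule A) (a : A), e' a' a = τ e σ t a' (u a) := fun a' a => rfl
  have hkill : ∀ a' : CharacterModule A, CharacterModule.dual ι a' = 0 → e' a' = 0 := by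
    intro a' ha'
    ext a
    rw [he'a]
    refine he e σ u v t ht2 a' (fun a₀ ha₀ => ?_) a
    have hmem : a₀ ∈ LinearMap.ker (u - v) := by
      show (u - v) a₀ = 0
      rw [LinearMap.sub_apply, ha₀, sub_self]
    have := congrArg (fun c => c (⟨a₀, hmem⟩ : LinearMap.ker (u - v))) ha'
    exact this
  -- the section of `dual ι`
  let ebar : CharacterModule (LinearMap.ker (u - v)) →ₗ[R] CharacterModule A :=
    { toFun := fun ε' => e' (Function.surjInv hsurj ε')
      map_add' := fun x y => by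
        rw [← map_add, ← sub_eq_zero, ← map_sub]
        apply hkill
        rw [map_sub, map_add, Function.surjInv_eq hsurj, Function.surjInv_eq hsurj,
          Function.surjInv_eq hsurj, sub_self]
      map_smul' := fun r x => by
        rw [RingHom.id_apply, ← map_smul, ← sub_eq_zero, ← map_sub]
        apply hkill
        rw [map_sub, map_smul, Function.surjInv_eq hsurj, Function.surjInv_eq hsurj, sub_self] }
  have hebar : ∀ (ε' : CharacterModule (LinearMap.ker (u - v))) (ε : LinearMap.ker (u - v)),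
      ebar ε' (ι ε) = ε' ε := by
    intro ε' ε
    show e' (Function.surjInv hsurj ε') (ι ε) = ε' ε
    rw [he'a, huv, K1 e σ v t hσ ht1]
    have := congrArg (fun c => c ε) (Function.surjInv_eq hsurj ε')
    exact this
  intro ζ
  refine ⟨CharacterModule.uncurry (ebar ∘ₗ CharacterModule.curry ζ), ?_⟩
  refine char_ext_tmul (fun x₀ ε => ?_)
  show CharacterModule.uncurry (ebar ∘ₗ CharacterModule.curry ζ) (ι.lTensor Q (x₀ ⊗ₜ[R] ε)) = _
  rw [LinearMap.lTensor_tmul]
  show ebar (CharacterModule.curry ζ x₀) (ι ε) = ζ (x₀ ⊗ₜ[R] ε)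
  rw [hebar]
  rfl

end main

end core

end H10PT.PC
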