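import Mathlib
import Groth.Agent.Lib.Helper10.PC1

set_option autoImplicit false
universe u
open CategoryTheory CategoryTheory.Limits TensorProduct ModuleCat

namespace H10PT.PC

section fork

variable {S : Type u} [Ring S] {E X Y : ModuleCat.{u} S} (j : E ⟶ X) (p q : X ⟶ Y)
  (w : j ≫ p = j ≫ q) (hinj : Function.Injective j.hom)
  (hex : ∀ x : X, p.hom x = q.hom x → x ∈ LinearMap.range j.hom)

include hinj hex in
/-- a fork of modules which is exact is a limit fork -/
noncomputable def isLimitForkOfExact : IsLimit (Fork.ofι j w) := by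
  let eqv : E ≃ₗ[S] LinearMap.range j.hom := LinearEquiv.ofInjective j.hom hinj
  refine Fork.IsLimit.mk _ (fun s => ModuleCat.ofHom (eqv.symm.toLinearMap ∘ₗ
    (LinearMap.codRestrict (LinearMap.range j.hom) s.ι.hom (fun x => hex _ (by
      have := congrArg (fun k => k.hom x) s.condition
      exact this))))) ?_ ?_
  · intro s
    apply ModuleCat.hom_ext
    apply LinearMap.ext
    intro x
    show j.hom (eqv.symm ⟨s.ι.hom x, _⟩) = s.ι.hom x
    have := eqv.apply_symm_apply ⟨s.ι.hom x, hex _ (by
      have := congrArg (fun k => k.hom x) s.condition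
      exact this)⟩
    exact congrArg Subtype.val this
  · intro s m hm
    apply ModuleCat.hom_ext
    apply LinearMap.ext
    intro x
    apply hinj
    have h1 := congrArg (fun k => k.hom x) hm
    refine Eq.trans h1 ?_
    show s.ι.hom x = j.hom (eqv.symm ⟨s.ι.hom x, _⟩)
    have := eqv.apply_symm_apply ⟨s.ι.hom x, hex _ (by
      have := congrArg (fun k => k.hom x) s.condition
      exact this)⟩
    exact (congrArg Subtype.val this).symm

end fork

end H10PT.PC
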