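import Mathlib
import Groth.Agent.Lib.Helper10.PC2

/-!
# Helper library (helper10): extension of scalars along a universally injective ring map is comonadic
-/

set_option autoImplicit false
universe u
open CategoryTheory CategoryTheory.Limits TensorProduct ModuleCat
open ChangeOfRings

namespace H10PT.PC

section

variable (R S : Type u) [CommRing R] [CommRing S] [Algebra R S]

/-- `S` viewed as an `R`-module in the `ModuleCat` way -/
noncomputable abbrev SR : ModuleCat.{u} R :=
  (restrictScalars (algebraMap R S)).obj (ModuleCat.of S S)

/-- the distinguished element -/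
noncomputable abbrev oneSR : SR R S := (1 : S)

variable {R S}

lemma SR_smul (r : R) (x : SR R S) : r • x = (algebraMap R S r * (show S from x) : S) := rfl

/-- from universal injectivity to a section on character modules -/
lemma exists_section
    (h : ∀ (P : Type u) [AddCommGroup P] [Module R P],
      Function.Injective (LinearMap.lTensor P (Algebra.linearMap R S))) :
    ∃ σ : CharacterModule R →ₗ[R] CharacterModule (SR R S),
      ∀ χ : CharacterModule R, σ χ (oneSR R S) = χ 1 := by
  have hinj := h (CharacterModule R)
  have hsurj := (CharacterModule.dual_surjective_iff_injective).mpr hinj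
  obtain ⟨c', hc'⟩ := hsurj (CharacterModule.uncurry
    (LinearMap.id : CharacterModule R →ₗ[R] CharacterModule R))
  let g : CharacterModule R →ₗ[R] CharacterModule S := CharacterModule.curry c'
  have hg : ∀ (χ : CharacterModule R) (r : R), g χ (algebraMap R S r) = χ r := by
    intro χ r
    have := congrArg (fun c => c (χ ⊗ₜ[R] r)) hc'
    exact this
  refine ⟨{ toFun := fun χ => (g χ : S →+ AddCircle (1 : ℚ))
            map_add' := fun χ χ' => by rw [map_add]; rfl
            map_smul' := fun r χ => ?_ }, ?_⟩
  · rw [map_smul]
    ext x
    show g χ (r • (show S from x)) = g χ (algebraMap R S r * (show S from x))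
    rw [Algebra.smul_def]
  · intro χ
    have := hg χ 1
    rw [map_one] at this
    exact this

end

section pure

variable {R S : Type u} [CommRing R] [CommRing S] [Algebra R S]
  (σ : CharacterModule R →ₗ[R] CharacterModule (SR R S))
  (hσ : ∀ χ : CharacterModule R, σ χ (oneSR R S) = χ 1)

include hσ in
set_option backward.isDefEq.respectTransparency false in
lemma pure_one_tmul (M : ModuleCat.{u} R) (m : M)
    (h : ((1 : S) ⊗ₜ[R, algebraMap R S] m : (extendScalars (algebraMap R S)).obj M) = 0) : m = 0 := by
  apply CharacterModule.eq_zero_of_character_apply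
  intro χ
  have := s_e_tmul (oneSR R S) σ hσ χ m
  rw [← this]
  have h' : (oneSR R S) ⊗ₜ[R] m = (0 : SR R S ⊗[R] M) := h
  rw [h', map_zero]

set_option backward.isDefEq.respectTransparency false in
lemma map_eq_lTensor {A B : ModuleCat.{u} R} (k : A ⟶ B)
    (z : (extendScalars (algebraMap R S)).obj A) :
    ((extendScalars (algebraMap R S)).map k).hom z = k.hom.lTensor (SR R S) (show SR R S ⊗[R] A from z) := by
  induction z using TensorProduct.induction_on with
  | zero => rw [map_zero]; exact (map_zero _).symm
  | tmul x a => rfl
  | add z z' hz hz' =>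
    rw [map_add, hz, hz']
    exact (map_add (k.hom.lTensor (SR R S)) _ _).symm

set_option backward.isDefEq.respectTransparency false in
lemma r_smul_eq (M : ModuleCat.{u} R) (r : R) (z : (extendScalars (algebraMap R S)).obj M) :
    (r • (show SR R S ⊗[R] M from z) : SR R S ⊗[R] M) = ((algebraMap R S r) • z :
      (extendScalars (algebraMap R S)).obj M) := by
  induction z using TensorProduct.induction_on with
  | zero => rw [smul_zero]; exact (smul_zero _).symm
  | tmul x a =>
    show (r • x) ⊗ₜ[R] a = _
    rw [ExtendScalars.smul_tmul]
    rfl
  | add z z' hz hz' =>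
    rw [smul_add, hz, hz']
    exact (smul_add _ _ _).symm

/-- an `S`-linear map between extensions of scalars as an `R`-linear map -/
noncomputable def toR {A B : ModuleCat.{u} R}
    (k : (extendScalars (algebraMap R S)).obj B ⟶ (extendScalars (algebraMap R S)).obj A) :
    (SR R S ⊗[R] B) →ₗ[R] (SR R S ⊗[R] A) where
  toFun z := k.hom z
  map_add' z z' := map_add k.hom z z'
  map_smul' r z := by
    have e1 : (r • z : SR R S ⊗[R] B) = ((algebraMap R S r) •
        (show (extendScalars (algebraMap R S)).obj B from z)) := r_smul_eq B r z
    have e2 := r_smul_eq A r (k.hom z)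
    refine Eq.trans ?_ e2.symm
    refine Eq.trans (congrArg k.hom e1) ?_
    exact map_smul k.hom _ _

lemma toR_apply {A B : ModuleCat.{u} R}
    (k : (extendScalars (algebraMap R S)).obj B ⟶ (extendScalars (algebraMap R S)).obj A)
    (z : SR R S ⊗[R] B) : toR k z = k.hom z := rfl

end pure

end H10PT.PC
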