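import Mathlib
import Groth.Agent.Lib.Helper10.PC3

/-!
# Helper library (helper10): extension of scalars along a universally injective ring map is comonadic, II
-/

set_option autoImplicit false
universe u
open CategoryTheory CategoryTheory.Limits TensorProduct ModuleCat
open ChangeOfRings

namespace H10PT.PC

section

variable {R S : Type u} [CommRing R] [CommRing S] [Algebra R S]
  (σ : CharacterModule R →ₗ[R] CharacterModule (SR R S))
  (hσ : ∀ χ : CharacterModule R, σ χ (oneSR R S) = χ 1)

include hσ in
set_option backward.isDefEq.respectTransparency false in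
lemma reflectsIso : (extendScalars.{u, u, u} (algebraMap R S)).ReflectsIsomorphisms := by
  constructor
  intro M M' g hg
  have hbij : Function.Bijective ((extendScalars.{u, u, u} (algebraMap R S)).map g).hom :=
    (ConcreteCategory.isIso_iff_bijective _).mp hg
  have hinj : Function.Injective g.hom := by
    rw [injective_iff_map_eq_zero]
    intro m hm
    apply pure_one_tmul σ hσ M m
    apply hbij.1
    rw [map_zero]
    show ((1 : S) ⊗ₜ[R, algebraMap R S] (g.hom m) : (extendScalars (algebraMap R S)).obj M') = 0
    rw [hm]
    exact TensorProduct.tmul_zero _ _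
  have hsurj : Function.Surjective g.hom := by
    intro m'
    let C : ModuleCat.{u} R := ModuleCat.of R (M' ⧸ LinearMap.range g.hom)
    let π : M' ⟶ C := ModuleCat.ofHom (LinearMap.range g.hom).mkQ
    have hπg : g ≫ π = 0 := by
      apply ModuleCat.hom_ext
      apply LinearMap.ext
      intro m
      show (LinearMap.range g.hom).mkQ (g.hom m) = 0
      exact (Submodule.Quotient.mk_eq_zero _).mpr ⟨m, rfl⟩
    have hLπ : (extendScalars.{u, u, u} (algebraMap R S)).map π = 0 := by
      have h1 : (extendScalars.{u, u, u} (algebraMap R S)).map g ≫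
          (extendScalars.{u, u, u} (algebraMap R S)).map π = 0 := by
        rw [← Functor.map_comp, hπg, Functor.map_zero]
      have := (cancel_epi ((extendScalars.{u, u, u} (algebraMap R S)).map g)).mp
        (h1.trans comp_zero.symm)
      exact this
    have h0 : π.hom m' = 0 := by
      apply pure_one_tmul σ hσ C (π.hom m')
      have := congrArg (fun k => k.hom ((1 : S) ⊗ₜ[R, algebraMap R S] m')) hLπ
      exact this
    have : m' ∈ LinearMap.range g.hom := (Submodule.Quotient.mk_eq_zero _).mp h0
    exact this
  exact (ConcreteCategory.isIso_iff_bijective g).mpr ⟨hinj, hsurj⟩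

include hσ in
set_option backward.isDefEq.respectTransparency false in
lemma preservesCosplit :
    Nonempty (Comonad.PreservesLimitOfIsCosplitPair (extendScalars.{u, u, u} (algebraMap R S))) := by
  refine ⟨⟨?_⟩⟩
  intro A B f g hfg
  obtain ⟨W, h, ⟨sp⟩⟩ := hfg.splittable
  let t : (SR R S ⊗[R] B) →ₗ[R] (SR R S ⊗[R] A) := toR sp.rightRetraction
  have ht1 : ∀ z : SR R S ⊗[R] A, t (g.hom.lTensor (SR R S) z) = z := by
    intro z
    rw [← map_eq_lTensor, toR_apply]
    have := congrArg (fun k => k.hom z) sp.bottom_rightRetraction
    exact this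
  have ht2 : ∀ z : SR R S ⊗[R] A, f.hom.lTensor (SR R S) (t (f.hom.lTensor (SR R S) z)) =
      g.hom.lTensor (SR R S) (t (f.hom.lTensor (SR R S) z)) := by
    intro z
    rw [← map_eq_lTensor, toR_apply, ← map_eq_lTensor, ← map_eq_lTensor]
    have e1 := congrArg (fun k => k.hom z) sp.top_rightRetraction
    have e1' : sp.rightRetraction.hom (((extendScalars.{u, u, u} (algebraMap R S)).map f).hom z) =
        h.hom (sp.leftRetraction.hom z) := e1
    rw [e1']
    have e2 := congrArg (fun k => k.hom (sp.leftRetraction.hom z)) sp.condition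
    exact e2
  -- the kernel fork
  let E : ModuleCat.{u} R := ModuleCat.of R (LinearMap.ker (f.hom - g.hom))
  let j : E ⟶ A := ModuleCat.ofHom (LinearMap.ker (f.hom - g.hom)).subtype
  have w : j ≫ f = j ≫ g := by
    apply ModuleCat.hom_ext
    apply LinearMap.ext
    intro x
    have : (f.hom - g.hom) (x : A) = 0 := x.2
    rw [LinearMap.sub_apply, sub_eq_zero] at this
    exact this
  have hlim : IsLimit (Fork.ofι j w) := by
    refine isLimitForkOfExact j f g w (Submodule.injective_subtype _) ?_
    intro x hx
    refine ⟨⟨x, ?_⟩, rfl⟩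
    show (f.hom - g.hom) x = 0
    rw [LinearMap.sub_apply, hx, sub_self]
  refine preservesLimit_of_preserves_limit_cone hlim ?_
  refine (isLimitMapConeForkEquiv (extendScalars.{u, u, u} (algebraMap R S)) w).symm ?_
  refine isLimitForkOfExact _ _ _ _ ?_ ?_
  · intro z z' hz
    rw [map_eq_lTensor, map_eq_lTensor] at hz
    exact lTensor_subtype_injective (oneSR R S) σ f.hom g.hom t hσ ht1 ht2 hz
  · intro x hx
    rw [map_eq_lTensor, map_eq_lTensor] at hx
    obtain ⟨y, hy⟩ := mem_range_of_eq (oneSR R S) σ f.hom g.hom t hσ ht1 ht2 x hx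
    refine ⟨y, ?_⟩
    rw [map_eq_lTensor]
    exact hy

include hσ in
set_option backward.isDefEq.respectTransparency false in
/-- the comparison functor to Eilenberg–Moore coalgebras is an equivalence -/
lemma comparison_isEquivalence :
    (Comonad.comparison (extendRestrictScalarsAdj.{u, u, u} (algebraMap R S))).IsEquivalence := by
  haveI := reflectsIso σ hσ
  haveI : Comonad.HasEqualizerOfIsCosplitPair (extendScalars.{u, u, u} (algebraMap R S)) :=
    ⟨inferInstance⟩
  obtain ⟨hp⟩ := preservesCosplit σ hσ
  haveI := hp
  let h := Comonad.comonadicOfHasPreservesFSplitEqualizersOfReflectsIsomorphisms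
    (extendRestrictScalarsAdj.{u, u, u} (algebraMap R S))
  exact h.eqv

end

end H10PT.PC
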