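import Mathlib
import Groth.Agent.Lib.Helper10.ExtDeriv

/-!
# Algebraic Poincaré lemma for polynomial rings in characteristic zero (helper10)

Homotopy `L = d ∘ c + c ∘ d` with `c` the contraction against the Euler vector field; `L` is a
derivation acting by the positive integer `weight` on weight-homogeneous forms; eigenspace
independence replaces any explicit basis of the exterior powers.
-/

set_option autoImplicit false
universe u

namespace H10PC

open MvPolynomial

variable (k : Type u) [Field k] [CharZero k] (n : ℕ)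

local notation "PP" => MvPolynomial (Fin n) k
local notation "ΩP" => KaehlerDifferential k (MvPolynomial (Fin n) k)
local notation "EP" =>
  ExteriorAlgebra (MvPolynomial (Fin n) k) (KaehlerDifferential k (MvPolynomial (Fin n) k))
local notation "ιP" =>
  ExteriorAlgebra.ι (MvPolynomial (Fin n) k) (M := KaehlerDifferential k (MvPolynomial (Fin n) k))
local notation "DP" => KaehlerDifferential.D k (MvPolynomial (Fin n) k)
local notation "gI" => H10ED.gi k (MvPolynomial (Fin n) k)

/-- the exterior power, as a submodule of the exterior algebra -/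
noncomputable abbrev Gr (q : ℕ) : Submodule PP EP :=
  ExteriorAlgebra.exteriorPower (MvPolynomial (Fin n) k) q
    (KaehlerDifferential k (MvPolynomial (Fin n) k))

theorem const_of_D_eq_zero (a : PP) (h : DP a = 0) : ∃ c : k, a = C c := by
  have hp : ∀ i, pderiv i a = 0 := fun i => by
    have h1 := KaehlerDifferential.mvPolynomialBasis_repr_apply k (Fin n) a i
    rw [h, map_zero, Finsupp.zero_apply] at h1
    exact h1.symm
  refine ⟨coeff 0 a, ?_⟩
  ext s
  rw [coeff_C]
  by_cases hs : (0 : Fin n →₀ ℕ) = s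
  · rw [if_pos hs, hs]
  · rw [if_neg hs]
    have hex : ∃ i, s i ≠ 0 := by
      by_contra hcon
      push Not at hcon
      exact hs (Finsupp.ext fun i => (hcon i).symm)
    obtain ⟨i, hi⟩ := hex
    have h1 := coeff_pderiv (i := i) a (s - Finsupp.single i 1)
    rw [hp i, coeff_zero] at h1
    have h2 : s - Finsupp.single i 1 + Finsupp.single i 1 = s := by
      ext j
      simp only [Finsupp.coe_add, Finsupp.coe_tsub, Pi.add_apply, Pi.sub_apply,
        Finsupp.single_apply]
      split_ifs with hj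
      · subst hj; omega
      · omega
    rw [h2] at h1
    have h3 : (((s - Finsupp.single i 1 : Fin n →₀ ℕ) i : ℕ) : k) + 1 ≠ 0 := Nat.cast_add_one_ne_zero _
    exact (mul_eq_zero.1 h1.symm).resolve_right h3

theorem mem0 (a : PP) : algebraMap PP EP a ∈ Gr k n 0 := by
  show _ ∈ LinearMap.range ιP ^ 0
  rw [pow_zero]; exact Submodule.algebraMap_mem a

theorem mem1 (v : ΩP) : ιP v ∈ Gr k n 1 := by
  show _ ∈ LinearMap.range ιP ^ 1
  rw [pow_one]; exact ⟨v, rfl⟩

/-- the hypotheses on the abstract differential -/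
structure Hyp (d : EP →ₗ[k] EP) : Prop where
  h0 : ∀ a : PP, d (algebraMap PP EP a) = ιP (DP a)
  hdeg : ∀ (p : ℕ) (ω : EP), ω ∈ Gr k n p → d ω ∈ Gr k n (p + 1)
  hder : ∀ (p : ℕ) (ω η : EP), ω ∈ Gr k n p → d (ω * η) = d ω * η + (-1) ^ p * ω * d η
  hdd : ∀ ω, d (d ω) = 0

variable (d : ExteriorAlgebra (MvPolynomial (Fin n) k) (KaehlerDifferential k (MvPolynomial (Fin n) k)) →ₗ[k]
  ExteriorAlgebra (MvPolynomial (Fin n) k) (KaehlerDifferential k (MvPolynomial (Fin n) k)))

theorem neg_one_pow_mul (p : ℕ) (ω : EP) (hω : ω ∈ Gr k n p) : (-1 : EP) ^ p * ω = gI ω := by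
  rw [H10ED.gi_of_mem k PP p ω hω, zsmul_eq_mul, Int.cast_pow, Int.cast_neg, Int.cast_one]

theorem d_mul (H : Hyp k n d) (ω η : EP) : d (ω * η) = d ω * η + gI ω * d η := by
  refine DirectSum.Decomposition.inductionOn (fun i : ℕ => Gr k n i)
    (motive := fun ω => d (ω * η) = d ω * η + gI ω * d η) ?_ ?_ ?_ ω
  · simp only [zero_mul, map_zero, add_zero]
  · intro i m
    show d (↑m * η) = d ↑m * η + gI ↑m * d η
    rw [H.hder i m η m.2, neg_one_pow_mul k n i m m.2]
  · intro m m' h h'
    show d ((m + m') * η) = d (m + m') * η + gI (m + m') * d η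
    rw [add_mul, map_add, h, h', map_add, add_mul, map_add, add_mul]
    abel

theorem d_gi (H : Hyp k n d) (ω : EP) : d (gI ω) = -gI (d ω) := by
  refine DirectSum.Decomposition.inductionOn (fun i : ℕ => Gr k n i)
    (motive := fun ω => d (gI ω) = -gI (d ω)) ?_ ?_ ?_ ω
  · simp only [map_zero, neg_zero]
  · intro i m
    show d (gI ↑m) = -gI (d ↑m)
    rw [H10ED.gi_of_mem k PP i m m.2, map_zsmul,
      H10ED.gi_of_mem k PP (i + 1) (d m) (H.hdeg i m m.2), pow_succ, mul_neg_one, neg_smul,
      neg_neg]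
  · intro m m' h h'
    show d (gI (m + m')) = -gI (d (m + m'))
    rw [map_add gI, map_add d, h, h', map_add d, map_add gI, neg_add]

/-- the Euler vector field as a linear form on differentials -/
noncomputable def eb : ΩP →ₗ[PP] PP :=
  (mkDerivation k (fun i : Fin n => (X i : PP))).liftKaehlerDifferential

theorem eb_D (a : PP) : eb k n (DP a) = mkDerivation k (fun i : Fin n => (X i : PP)) a :=
  Derivation.liftKaehlerDifferential_comp_D _ a

/-- contraction with the Euler vector field -/
noncomputable def ct : EP →ₗ[PP] EP := CliffordAlgebra.contractLeft (eb k n)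

theorem ct_algebraMap (a : PP) : ct k n (algebraMap PP EP a) = 0 :=
  CliffordAlgebra.contractLeft_algebraMap _ (eb k n) a

theorem ct_ι (v : ΩP) : ct k n (ιP v) = algebraMap PP EP (eb k n v) :=
  CliffordAlgebra.contractLeft_ι _ (eb k n) v

theorem ct_ι_mul (v : ΩP) (x : EP) : ct k n (ιP v * x) = eb k n v • x - ιP v * ct k n x :=
  CliffordAlgebra.contractLeft_ι_mul (eb k n) v x

theorem ct_algebraMap_mul (a : PP) (x : EP) :
    ct k n (algebraMap PP EP a * x) = algebraMap PP EP a * ct k n x :=
  CliffordAlgebra.contractLeft_algebraMap_mul (eb k n) a x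

theorem ct_mul (ω η : EP) : ct k n (ω * η) = ct k n ω * η + gI ω * ct k n η := by
  induction ω using ExteriorAlgebra.induction generalizing η with
  | algebraMap a =>
    rw [ct_algebraMap_mul, ct_algebraMap, zero_mul, zero_add, H10ED.gi_algebraMap]
  | ι v => rw [ct_ι_mul, ct_ι, H10ED.gi_ι, Algebra.smul_def, neg_mul, sub_eq_add_neg]
  | mul a b ha hb =>
    rw [mul_assoc, ha (b * η), hb η, ha b, map_mul gI a b]
    simp only [mul_add, add_mul, mul_assoc, add_assoc]
  | add a b ha hb =>
    simp only [add_mul, map_add, ha, hb]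
    abel

theorem ct_gi (ω : EP) : ct k n (gI ω) = -gI (ct k n ω) := by
  induction ω using ExteriorAlgebra.induction with
  | algebraMap a => rw [H10ED.gi_algebraMap, ct_algebraMap, map_zero, neg_zero]
  | ι v => rw [H10ED.gi_ι, map_neg, ct_ι, H10ED.gi_algebraMap]
  | mul a b ha hb =>
    rw [map_mul gI a b, ct_mul, ha, hb, ct_mul, map_add gI, map_mul gI, map_mul gI, neg_mul,
      mul_neg, neg_add]
  | add a b ha hb =>
    rw [map_add gI a b, map_add (ct k n), ha, hb, map_add (ct k n) a b, map_add gI, neg_add]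

theorem ct_mem (p : ℕ) (x : EP) (hx : x ∈ Gr k n (p + 1)) : ct k n x ∈ Gr k n p := by
  suffices h : ∀ (q : ℕ) (x : EP), x ∈ Gr k n q → ∀ p, q = p + 1 → ct k n x ∈ Gr k n p from
    h _ x hx p rfl
  intro q x hx
  induction hx using Submodule.pow_induction_on_left' with
  | algebraMap r => intro p hp; omega
  | add x y i hx hy ihx ihy =>
    intro p hp
    rw [map_add]
    exact Submodule.add_mem _ (ihx p hp) (ihy p hp)
  | mem_mul m hm i x hx ih =>
    intro p hp
    obtain ⟨v, rfl⟩ := hm
    have hpi : i = p := by omega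
    subst hpi
    rw [ct_ι_mul]
    refine Submodule.sub_mem _ (Submodule.smul_mem _ _ hx) ?_
    cases i with
    | zero =>
      have hx0 : x ∈ (1 : Submodule PP EP) := by rwa [pow_zero] at hx
      obtain ⟨r, rfl⟩ := Submodule.mem_one.1 hx0
      rw [ct_algebraMap, mul_zero]; exact Submodule.zero_mem _
    | succ j =>
      have h1 := ih j rfl
      show ιP v * ct k n x ∈ LinearMap.range ιP ^ (j + 1)
      rw [pow_succ']
      exact Submodule.mul_mem_mul ⟨v, rfl⟩ h1

/-- the Lie derivative along the Euler vector field -/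
noncomputable def L : EP →ₗ[k] EP :=
  d ∘ₗ (ct k n).restrictScalars k + (ct k n).restrictScalars k ∘ₗ d

theorem L_apply (x : EP) : L k n d x = d (ct k n x) + ct k n (d x) := rfl

theorem L_mul (H : Hyp k n d) (ω η : EP) :
    L k n d (ω * η) = L k n d ω * η + ω * L k n d η := by
  have e1 : d (ct k n (ω * η)) = d (ct k n ω) * η + gI (ct k n ω) * d η +
      (-gI (d ω) * ct k n η + ω * d (ct k n η)) := by
    rw [ct_mul, map_add d, d_mul k n d H, d_mul k n d H, d_gi k n d H, H10ED.gi_gi]
  have e2 : ct k n (d (ω * η)) = ct k n (d ω) * η + gI (d ω) * ct k n η +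
      (-gI (ct k n ω) * d η + ω * ct k n (d η)) := by
    rw [d_mul k n d H, map_add (ct k n), ct_mul, ct_mul, ct_gi, H10ED.gi_gi]
  rw [L_apply, L_apply, L_apply, e1, e2, add_mul, mul_add, neg_mul, neg_mul]
  abel

theorem L_d (H : Hyp k n d) (x : EP) : L k n d (d x) = d (L k n d x) := by
  rw [L_apply, L_apply, H.hdd, map_zero, add_zero, map_add d, H.hdd, zero_add]

theorem L_algebraMap (H : Hyp k n d) (a : PP) :
    L k n d (algebraMap PP EP a) =
      algebraMap PP EP (mkDerivation k (fun i : Fin n => (X i : PP)) a) := by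
  rw [L_apply, ct_algebraMap, map_zero, zero_add, H.h0, ct_ι, eb_D]

theorem L_ι_D (H : Hyp k n d) (a : PP) :
    L k n d (ιP (DP a)) = ιP (DP (mkDerivation k (fun i : Fin n => (X i : PP)) a)) := by
  rw [L_apply, ct_ι, eb_D, H.h0, ← H.h0 a, H.hdd, map_zero, add_zero]

/-- forms of degree `q` and polynomial degree `e` (total weight `e + q`) -/
noncomputable def U (e q : ℕ) : Submodule k EP :=
  (Gr k n q).restrictScalars k ⊓ Module.End.eigenspace (L k n d) ((e + q : ℕ) : k)

theorem mem_U {e q : ℕ} {x : EP} :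
    x ∈ U k n d e q ↔ x ∈ Gr k n q ∧ L k n d x = ((e + q : ℕ) : k) • x := by
  rw [U, Submodule.mem_inf, Submodule.restrictScalars_mem, Module.End.mem_eigenspace_iff]

/-- sums of weight-homogeneous forms of degree `q` -/
noncomputable def W (q : ℕ) : Submodule k EP := ⨆ e, U k n d e q

theorem mul_mem_U (H : Hyp k n d) {e q e' q' : ℕ} {x y : EP} (hx : x ∈ U k n d e q)
    (hy : y ∈ U k n d e' q') : x * y ∈ U k n d (e + e') (q + q') := by
  rw [mem_U] at hx hy ⊢
  refine ⟨?_, ?_⟩
  · show x * y ∈ LinearMap.range ιP ^ (q + q')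
    rw [pow_add]; exact Submodule.mul_mem_mul hx.1 hy.1
  · rw [L_mul k n d H, hx.2, hy.2, smul_mul_assoc, mul_smul_comm, ← add_smul]
    congr 1
    push_cast; ring

theorem mul_mem_W (H : Hyp k n d) {q q' r : ℕ} (hr : q + q' = r) {x y : EP}
    (hx : x ∈ W k n d q) (hy : y ∈ W k n d q') : x * y ∈ W k n d r := by
  subst hr
  refine Submodule.iSup_induction (fun e => U k n d e q)
    (motive := fun x => x * y ∈ W k n d (q + q')) hx ?_ ?_ ?_
  · intro e x hx
    refine Submodule.iSup_induction (fun e' => U k n d e' q')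
      (motive := fun y => x * y ∈ W k n d (q + q')) hy ?_ ?_ ?_
    · intro e' y hy
      show x * y ∈ ⨆ e'', U k n d e'' (q + q')
      exact Submodule.mem_iSup_of_mem (e + e') (mul_mem_U k n d H hx hy)
    · show x * 0 ∈ _
      rw [mul_zero]; exact Submodule.zero_mem _
    · intro y y' h h'
      show x * (y + y') ∈ _
      rw [mul_add]; exact Submodule.add_mem _ h h'
  · show 0 * y ∈ _
    rw [zero_mul]; exact Submodule.zero_mem _
  · intro x x' h h'
    show (x + x') * y ∈ _
    rw [add_mul]; exact Submodule.add_mem _ h h'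

theorem C_mem_U (H : Hyp k n d) (r : k) : algebraMap PP EP (C r) ∈ U k n d 0 0 := by
  rw [mem_U]
  refine ⟨mem0 k n _, ?_⟩
  rw [L_algebraMap k n d H, derivation_C, map_zero, Nat.add_zero, Nat.cast_zero, zero_smul]

theorem X_mem_U (H : Hyp k n d) (i : Fin n) : algebraMap PP EP (X i) ∈ U k n d 1 0 := by
  rw [mem_U]
  refine ⟨mem0 k n _, ?_⟩
  rw [L_algebraMap k n d H, mkDerivation_X, Nat.add_zero, Nat.cast_one, one_smul]

theorem ιDX_mem_U (H : Hyp k n d) (i : Fin n) : ιP (DP (X i)) ∈ U k n d 0 1 := by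
  rw [mem_U]
  refine ⟨mem1 k n _, ?_⟩
  rw [L_ι_D k n d H, mkDerivation_X, Nat.zero_add, Nat.cast_one, one_smul]

theorem algebraMap_mem_W (H : Hyp k n d) (a : PP) : algebraMap PP EP a ∈ W k n d 0 := by
  induction a using MvPolynomial.induction_on with
  | C r =>
    show _ ∈ ⨆ e, U k n d e 0
    exact Submodule.mem_iSup_of_mem 0 (C_mem_U k n d H r)
  | add p q hp hq => rw [map_add]; exact Submodule.add_mem _ hp hq
  | mul_X p i hp =>
    rw [map_mul]
    refine mul_mem_W k n d H (rfl : 0 + 0 = 0) hp ?_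
    show _ ∈ ⨆ e, U k n d e 0
    exact Submodule.mem_iSup_of_mem 1 (X_mem_U k n d H i)

theorem ι_mem_W (H : Hyp k n d) (v : ΩP) : ιP v ∈ W k n d 1 := by
  have hv : v ∈ Submodule.span PP (Set.range (KaehlerDifferential.mvPolynomialBasis k (Fin n))) :=
    Module.Basis.mem_span _ v
  induction hv using Submodule.span_induction with
  | mem x hx =>
    obtain ⟨i, rfl⟩ := hx
    rw [KaehlerDifferential.mvPolynomialBasis_apply]
    show _ ∈ ⨆ e, U k n d e 1
    exact Submodule.mem_iSup_of_mem 0 (ιDX_mem_U k n d H i)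
  | zero => rw [map_zero]; exact Submodule.zero_mem _
  | add x y _ _ hx hy => rw [map_add]; exact Submodule.add_mem _ hx hy
  | smul a x _ hx =>
    rw [LinearMap.map_smul, Algebra.smul_def]
    exact mul_mem_W k n d H (rfl : 0 + 1 = 1) (algebraMap_mem_W k n d H a) hx

theorem mem_W_of_mem (H : Hyp k n d) (q : ℕ) (x : EP) (hx : x ∈ Gr k n q) : x ∈ W k n d q := by
  induction hx using Submodule.pow_induction_on_left' with
  | algebraMap r => exact algebraMap_mem_W k n d H r
  | add x y i hx hy ihx ihy => exact Submodule.add_mem _ ihx ihy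
  | mem_mul m hm i x hx ih =>
    obtain ⟨v, rfl⟩ := hm
    exact mul_mem_W k n d H (Nat.add_comm 1 i) (ι_mem_W k n d H v) ih

theorem main (H : Hyp k n d) (p : ℕ) (ω : EP) (hω : ω ∈ Gr k n (p + 1)) (hd : d ω = 0) :
    ∃ θ ∈ Gr k n p, d θ = ω := by
  classical
  have hW : ω ∈ ⨆ e, U k n d e (p + 1) := mem_W_of_mem k n d H (p + 1) ω hω
  obtain ⟨f, hf, hsum⟩ := (Submodule.mem_iSup_iff_exists_finsupp _ _).1 hW
  have hs : ∑ e ∈ f.support, f e = ω := hsum
  let μ : ℕ → k := fun e => ((e + (p + 1) : ℕ) : k)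
  have hμinj : Function.Injective μ := fun a b hab => by
    have := Nat.cast_injective (R := k) hab
    omega
  have hμne : ∀ e, μ e ≠ 0 := fun e => Nat.cast_ne_zero.2 (by omega)
  have hfe : ∀ e, f e ∈ Gr k n (p + 1) ∧ L k n d (f e) = μ e • f e :=
    fun e => (mem_U k n d).1 (hf e)
  have hdf : ∀ e ∈ f.support, d (f e) = 0 := by
    have hind := (Module.End.eigenspaces_iSupIndep (L k n d)).comp hμinj
    refine (iSupIndep_iff_finsetSum_eq_zero_imp_eq_zero _).1 hind f.support
      (fun e => d (f e)) ?_ ?_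
    · intro e _
      show d (f e) ∈ Module.End.eigenspace (L k n d) (μ e)
      rw [Module.End.mem_eigenspace_iff, L_d k n d H, (hfe e).2, map_smul]
    · have h1 : d (∑ e ∈ f.support, f e) = ∑ e ∈ f.support, d (f e) := map_sum d _ _
      rw [← h1, hs, hd]
  refine ⟨∑ e ∈ f.support, (μ e)⁻¹ • ct k n (f e), ?_, ?_⟩
  · refine Submodule.sum_mem _ fun e _ => ?_
    rw [← algebraMap_smul PP ((μ e)⁻¹) (ct k n (f e))]
    exact Submodule.smul_mem _ _ (ct_mem k n p _ (hfe e).1)
  · rw [map_sum, ← hs]
    refine Finset.sum_congr rfl fun e he => ?_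
    have h1 : d (ct k n (f e)) = μ e • f e := by
      have h2 := (hfe e).2
      rw [L_apply, hdf e he, map_zero, add_zero] at h2
      exact h2
    rw [map_smul, h1, inv_smul_smul₀ (hμne e)]

end H10PC
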