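import Mathlib
import Groth.Agent.Lib.Helper10.Cartan
import Groth.Agent.S15293
import Groth.Agent.S15294

/-!
# Homotopy invariance of algebraic de Rham cohomology: `A → A[t]` over a `ℚ`-algebra (helper10)

The Lie derivative `L` along the Euler field `t ∂/∂t` is a derivation of `⋀ Ω[A[t]/R]` acting by the
`t`-weight on weight-homogeneous forms; weight zero forms are the forms coming from `A`.  Cartan's
formula `L = d ∘ ct + ct ∘ d` then kills the classes of positive weight.
-/

set_option autoImplicit false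
universe u

namespace H10PH

open Polynomial

variable (R A : Type u) [CommRing R] [CommRing A] [Algebra R A]

local notation "ΩB" => KaehlerDifferential R (Polynomial A)
local notation "EB" => ExteriorAlgebra (Polynomial A) (KaehlerDifferential R (Polynomial A))
local notation "ιB" => ExteriorAlgebra.ι (Polynomial A) (M := KaehlerDifferential R (Polynomial A))
local notation "DB" => KaehlerDifferential.D R (Polynomial A)
local notation "dd" => H10ED.d R (Polynomial A)
local notation "GrB" => H10CC.Gr R (Polynomial A)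

/-- the Euler derivation `t d/dt` -/
noncomputable def euler : Derivation R (Polynomial A) (Polynomial A) :=
  Derivation.mk'
    ((LinearMap.mulLeft R (X : Polynomial A)) ∘ₗ
      ((Polynomial.derivative (R := A)).restrictScalars R))
    (by
      intro a b
      show X * derivative (a * b) = a • (X * derivative b) + b • (X * derivative a)
      rw [derivative_mul, smul_eq_mul, smul_eq_mul]; ring)

theorem euler_apply (b : Polynomial A) : euler R A b = X * derivative b := rfl

theorem euler_monomial (n : ℕ) (a : A) : euler R A (monomial n a) = n • monomial n a := by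
  rw [euler_apply]
  cases n with
  | zero => rw [derivative_monomial, Nat.cast_zero, mul_zero, map_zero, mul_zero, zero_smul]
  | succ n =>
    rw [derivative_monomial_succ, X_mul_monomial, ← map_nsmul]
    congr 1
    rw [nsmul_eq_mul, Nat.cast_succ, mul_comm]

theorem euler_C (a : A) : euler R A (C a) = 0 := by
  rw [euler_apply, derivative_C, mul_zero]

local notation "ctE" => H10CC.ct R (Polynomial A) (euler R A)
local notation "LL" => H10CC.L R (Polynomial A) (euler R A)

theorem L_monomial (n : ℕ) (a : A) :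
    LL (algebraMap (Polynomial A) EB (monomial n a)) =
      n • algebraMap (Polynomial A) EB (monomial n a) := by
  rw [H10CC.L_algebraMap, euler_monomial, map_nsmul]

theorem L_ι_monomial (n : ℕ) (a : A) :
    LL (ιB (DB (monomial n a))) = n • ιB (DB (monomial n a)) := by
  rw [H10CC.L_ι_D, euler_monomial, map_nsmul, map_nsmul]

/-- forms of degree `q` and `t`-weight `e` -/
noncomputable def U (e q : ℕ) : Submodule ℤ EB :=
  (GrB q).restrictScalars ℤ ⊓ Module.End.eigenspace (LL).toIntLinearMap (e : ℤ)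

theorem mem_U {e q : ℕ} {x : EB} : x ∈ U R A e q ↔ x ∈ GrB q ∧ LL x = e • x := by
  rw [U, Submodule.mem_inf, Submodule.restrictScalars_mem, Module.End.mem_eigenspace_iff,
    AddMonoidHom.coe_toIntLinearMap, Nat.cast_smul_eq_nsmul]

/-- forms of degree `q` with constant coefficients -/
noncomputable def KK (q : ℕ) : Submodule ℤ EB :=
  Submodule.span ℤ {c | ∃ (a₀ : A) (a : Fin q → A),
    c = algebraMap (Polynomial A) EB (C a₀) * (List.ofFn fun i => ιB (DB (C (a i)))).prod}

theorem L_const_prod : ∀ (q : ℕ) (a : Fin q → A),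
    LL ((List.ofFn fun i => ιB (DB (C (a i)))).prod) = 0 := by
  intro q
  induction q with
  | zero =>
    intro a
    rw [List.ofFn_zero, List.prod_nil]
    exact H10CC.L_one R (Polynomial A) (euler R A)
  | succ q ih =>
    intro a
    rw [List.ofFn_succ, List.prod_cons, H10CC.L_mul, ih (fun i => a i.succ), mul_zero, add_zero,
      H10CC.L_ι_D, euler_C, map_zero, map_zero, zero_mul]

theorem prod_mem (q : ℕ) (v : Fin q → ΩB) : (List.ofFn fun i => ιB (v i)).prod ∈ GrB q :=
  (exteriorPower.ιMulti (Polynomial A) q v).2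

theorem KK_le (q : ℕ) : KK R A q ≤ U R A 0 q := by
  refine Submodule.span_le.2 ?_
  rintro c ⟨a₀, a, rfl⟩
  show _ ∈ U R A 0 q
  refine (mem_U R A).2 ⟨?_, ?_⟩
  · rw [← Algebra.smul_def]
    exact Submodule.smul_mem _ _ (prod_mem R A q _)
  · rw [H10CC.L_mul, H10CC.L_algebraMap, euler_C, map_zero, zero_mul, zero_add, L_const_prod,
      mul_zero, zero_smul]

/-- weight pieces: constant forms in weight zero, eigenforms in positive weight -/
noncomputable def V (e q : ℕ) : Submodule ℤ EB := if e = 0 then KK R A q else U R A e q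

theorem V_zero (q : ℕ) : V R A 0 q = KK R A q := if_pos rfl

theorem V_pos {e : ℕ} (he : e ≠ 0) (q : ℕ) : V R A e q = U R A e q := if_neg he

theorem V_le_U (e q : ℕ) : V R A e q ≤ U R A e q := by
  by_cases he : e = 0
  · subst he; rw [V_zero]; exact KK_le R A q
  · rw [V_pos R A he]

noncomputable def T (q : ℕ) : Submodule ℤ EB := ⨆ e, V R A e q

theorem comm_aux (b b' : Polynomial A) (v : ΩB) (P : EB) :
    algebraMap (Polynomial A) EB b * ιB v * (algebraMap (Polynomial A) EB b' * P) =
      algebraMap (Polynomial A) EB (b * b') * (ιB v * P) := by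
  rw [map_mul, mul_assoc, mul_assoc, ← mul_assoc (ιB v), ← Algebra.commutes b' (ιB v), mul_assoc]

theorem gamma (n₀ n₁ e q : ℕ) (a₀ a₁ : A) (z : EB) (hz : z ∈ V R A e q) :
    algebraMap (Polynomial A) EB (monomial n₀ a₀) * ιB (DB (monomial n₁ a₁)) * z ∈
      V R A (n₀ + n₁ + e) (q + 1) := by
  by_cases h : n₀ + n₁ + e = 0
  · have h0 : n₀ = 0 := by omega
    have h1 : n₁ = 0 := by omega
    have h2 : e = 0 := by omega
    subst h0 h1 h2
    show _ ∈ V R A 0 (q + 1)
    rw [V_zero] at hz ⊢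
    rw [monomial_zero_left, monomial_zero_left]
    have key : KK R A q ≤ (KK R A (q + 1)).comap
        (AddMonoidHom.mulLeft
          (algebraMap (Polynomial A) EB (C a₀) * ιB (DB (C a₁)))).toIntLinearMap := by
      refine Submodule.span_le.2 ?_
      rintro c ⟨a₀', a, rfl⟩
      show _ ∈ (KK R A (q + 1)).comap _
      rw [Submodule.mem_comap]
      show algebraMap (Polynomial A) EB (C a₀) * ιB (DB (C a₁)) *
        (algebraMap (Polynomial A) EB (C a₀') * (List.ofFn fun i => ιB (DB (C (a i)))).prod) ∈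
          KK R A (q + 1)
      refine Submodule.subset_span ⟨a₀ * a₀', Fin.cons a₁ a, ?_⟩
      rw [List.ofFn_succ, List.prod_cons]
      simp only [Fin.cons_zero, Fin.cons_succ]
      rw [C_mul]
      exact comm_aux R A (C a₀) (C a₀') _ _
    exact key hz
  · rw [V_pos R A h]
    have hz' := (mem_U R A).1 (V_le_U R A e q hz)
    refine (mem_U R A).2 ⟨?_, ?_⟩
    · rw [mul_assoc, ← Algebra.smul_def]
      refine Submodule.smul_mem _ _ ?_
      show ιB _ * z ∈ LinearMap.range ιB ^ (q + 1)
      rw [pow_succ']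
      exact Submodule.mul_mem_mul ⟨_, rfl⟩ hz'.1
    · rw [H10CC.L_mul, H10CC.L_mul, L_monomial, L_ι_monomial, hz'.2]
      simp only [smul_mul_assoc, mul_smul_comm, add_mul, add_smul]

theorem aux1 (q n₀ n₁ : ℕ) (a₀ a₁ : A) (x : EB) (hx : x ∈ T R A q) :
    algebraMap (Polynomial A) EB (monomial n₀ a₀) * ιB (DB (monomial n₁ a₁)) * x ∈
      T R A (q + 1) := by
  refine Submodule.iSup_induction (fun e => V R A e q)
    (motive := fun x =>
      algebraMap (Polynomial A) EB (monomial n₀ a₀) * ιB (DB (monomial n₁ a₁)) * x ∈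
        T R A (q + 1)) hx ?_ ?_ ?_
  · intro e z hz
    show _ ∈ ⨆ e', V R A e' (q + 1)
    exact Submodule.mem_iSup_of_mem (n₀ + n₁ + e) (gamma R A n₀ n₁ e q a₀ a₁ z hz)
  · show _ * 0 ∈ _
    rw [mul_zero]; exact Submodule.zero_mem _
  · intro y y' h h'
    show _ * (y + y') ∈ _
    rw [mul_add]; exact Submodule.add_mem _ h h'

theorem aux2 (q n₀ : ℕ) (a₀ : A) (b : Polynomial A) (x : EB) (hx : x ∈ T R A q) :
    algebraMap (Polynomial A) EB (monomial n₀ a₀) * ιB (DB b) * x ∈ T R A (q + 1) := by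
  induction b using Polynomial.induction_on' with
  | add p r hp hr =>
    rw [map_add, map_add, mul_add, add_mul]
    exact Submodule.add_mem _ hp hr
  | monomial n₁ a₁ => exact aux1 R A q n₀ n₁ a₀ a₁ x hx

theorem aux3 (q : ℕ) (b₀ b : Polynomial A) (x : EB) (hx : x ∈ T R A q) :
    algebraMap (Polynomial A) EB b₀ * ιB (DB b) * x ∈ T R A (q + 1) := by
  induction b₀ using Polynomial.induction_on' with
  | add p r hp hr =>
    rw [map_add, add_mul, add_mul]
    exact Submodule.add_mem _ hp hr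
  | monomial n₀ a₀ => exact aux2 R A q n₀ a₀ b x hx

theorem step (q : ℕ) (v : ΩB) : ∀ (b₀ : Polynomial A) (x : EB), x ∈ T R A q →
    algebraMap (Polynomial A) EB b₀ * ιB v * x ∈ T R A (q + 1) := by
  induction H10ED.mem_span R (Polynomial A) v using Submodule.span_induction with
  | mem w hw =>
    obtain ⟨b, rfl⟩ := hw
    intro b₀ x hx
    exact aux3 R A q b₀ b x hx
  | zero =>
    intro b₀ x hx
    rw [map_zero, mul_zero, zero_mul]; exact Submodule.zero_mem _
  | add w w' _ _ hw hw' =>
    intro b₀ x hx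
    rw [map_add, mul_add, add_mul]
    exact Submodule.add_mem _ (hw b₀ x hx) (hw' b₀ x hx)
  | smul b w _ hw =>
    intro b₀ x hx
    rw [LinearMap.map_smul, Algebra.smul_def, ← mul_assoc, ← map_mul]
    exact hw (b₀ * b) x hx

theorem algebraMap_mem_T (b : Polynomial A) : algebraMap (Polynomial A) EB b ∈ T R A 0 := by
  induction b using Polynomial.induction_on' with
  | add p r hp hr => rw [map_add]; exact Submodule.add_mem _ hp hr
  | monomial n a =>
    show _ ∈ ⨆ e, V R A e 0
    refine Submodule.mem_iSup_of_mem n ?_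
    by_cases hn : n = 0
    · subst hn
      rw [V_zero, monomial_zero_left]
      refine Submodule.subset_span ⟨a, Fin.elim0, ?_⟩
      rw [List.ofFn_zero, List.prod_nil, mul_one]
    · rw [V_pos R A hn]
      exact (mem_U R A).2 ⟨H10CC.mem0 R (Polynomial A) _, L_monomial R A n a⟩

theorem decomp (q : ℕ) (x : EB) (hx : x ∈ GrB q) : x ∈ T R A q := by
  induction hx using Submodule.pow_induction_on_left' with
  | algebraMap r => exact algebraMap_mem_T R A r
  | add x y i hx hy ihx ihy => exact Submodule.add_mem _ ihx ihy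
  | mem_mul m hm i x hx ih =>
    obtain ⟨v, rfl⟩ := hm
    have h := step R A i v 1 x ih
    rw [map_one, one_mul] at h
    exact h

theorem inv_smul [Algebra ℚ R] (e : ℕ) (he : e ≠ 0) (z : EB) :
    (algebraMap ℚ R ((e : ℚ)⁻¹)) • (e • z) = z := by
  rw [← Nat.cast_smul_eq_nsmul R e z, smul_smul, ← map_natCast (algebraMap ℚ R) e, ← map_mul,
    inv_mul_cancel₀ (Nat.cast_ne_zero.2 he), map_one, one_smul]

theorem addTorsionFree [Algebra ℚ R] : IsAddTorsionFree EB where
  nsmul_right_injective := by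
    intro n hn x y hxy
    have hxy' : n • x = n • y := hxy
    rw [← inv_smul R A n hn x, hxy', inv_smul R A n hn y]

theorem main [Algebra ℚ R] (q : ℕ) (y : EB) (hy : y ∈ GrB q) (hdy : dd y = 0) :
    ∃ c ∈ KK R A q, dd c = 0 ∧ (q = 0 → y = c) ∧
      (∀ j, q = j + 1 → ∃ θ ∈ GrB j, y - c = dd θ) := by
  classical
  haveI : IsAddTorsionFree EB := addTorsionFree R A
  obtain ⟨f, hf, hsum⟩ := (Submodule.mem_iSup_iff_exists_finsupp _ _).1 (decomp R A q y hy)
  have hs : ∑ e ∈ f.support, f e = y := hsum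
  have hfe : ∀ e, f e ∈ GrB q ∧ LL (f e) = e • f e := fun e =>
    (mem_U R A).1 (V_le_U R A e q (hf e))
  have hdf : ∀ e ∈ f.support, dd (f e) = 0 := by
    have hind := (Module.End.eigenspaces_iSupIndep (LL).toIntLinearMap).comp
      (Nat.cast_injective (R := ℤ))
    refine (iSupIndep_iff_finsetSum_eq_zero_imp_eq_zero _).1 hind f.support
      (fun e => dd (f e)) ?_ ?_
    · intro e _
      show dd (f e) ∈ Module.End.eigenspace (LL).toIntLinearMap ((e : ℕ) : ℤ)
      rw [Module.End.mem_eigenspace_iff, AddMonoidHom.coe_toIntLinearMap, H10CC.L_d, (hfe e).2,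
        map_nsmul, Nat.cast_smul_eq_nsmul]
    · have h1 : dd (∑ e ∈ f.support, f e) = ∑ e ∈ f.support, dd (f e) := map_sum dd _ _
      rw [← h1, hs, hdy]
  have hd0 : dd (f 0) = 0 := by
    by_cases h0 : 0 ∈ f.support
    · exact hdf 0 h0
    · rw [Finsupp.notMem_support_iff.1 h0, map_zero]
  have key : y - f 0 = ∑ e ∈ f.support.erase 0, f e := by
    by_cases h0 : 0 ∈ f.support
    · rw [← hs, ← Finset.add_sum_erase _ _ h0, add_sub_cancel_left]
    · rw [Finsupp.notMem_support_iff.1 h0, sub_zero, Finset.erase_eq_of_notMem h0, hs]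
  have hcart : ∀ e ∈ f.support.erase 0, e • f e = dd (ctE (f e)) := by
    intro e he
    have he' := (Finset.mem_erase.1 he).2
    have h2 := (hfe e).2
    rw [H10CC.L_apply, hdf e he', map_zero, add_zero] at h2
    exact h2.symm
  have hc : f 0 ∈ KK R A q := by
    have := hf 0
    rwa [V_zero] at this
  refine ⟨f 0, hc, hd0, ?_, ?_⟩
  · intro hq
    subst hq
    have hz : ∀ e ∈ f.support.erase 0, f e = 0 := by
      intro e he
      have hne := (Finset.mem_erase.1 he).1
      have hg : f e ∈ (1 : Submodule (Polynomial A) EB) := by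
        have := (hfe e).1
        rwa [show GrB 0 = 1 from pow_zero _] at this
      obtain ⟨r, hr⟩ := Submodule.mem_one.1 hg
      have h3 := hcart e he
      rw [← hr, H10CC.ct_algebraMap, map_zero] at h3
      rw [← hr, ← inv_smul R A e hne (algebraMap (Polynomial A) EB r), h3, smul_zero]
    rw [← sub_eq_zero, key]
    exact Finset.sum_eq_zero hz
  · intro j hq
    subst hq
    refine ⟨∑ e ∈ f.support.erase 0, (algebraMap ℚ R ((e : ℚ)⁻¹)) • ctE (f e), ?_, ?_⟩
    · refine Submodule.sum_mem _ fun e _ => ?_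
      exact Submodule.smul_of_tower_mem _ _
        (H10CC.ct_mem R (Polynomial A) (euler R A) j _ (hfe e).1)
    · rw [key, map_sum]
      refine Finset.sum_congr rfl fun e he => ?_
      rw [H10CC.d_smul, ← hcart e he, inv_smul R A e (Finset.mem_erase.1 he).1]

theorem KK_to_psi
    (ψ : ∀ p : ℕ, ↥(ExteriorAlgebra.exteriorPower A p (KaehlerDifferential R A)) →+
      ↥(ExteriorAlgebra.exteriorPower (Polynomial A) p (KaehlerDifferential R (Polynomial A))))
    (hψ : DeRham.IsCxMap (KaehlerDifferential.D R A) (KaehlerDifferential.D R (Polynomial A))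
      (algebraMap A (Polynomial A)) ψ) (q : ℕ) (c : EB) (hc : c ∈ KK R A q) :
    ∃ x' : ↥(ExteriorAlgebra.exteriorPower A q (KaehlerDifferential R A)),
      ((ψ q x' : ↥(ExteriorAlgebra.exteriorPower (Polynomial A) q
        (KaehlerDifferential R (Polynomial A)))) : EB) = c := by
  let IM : AddSubgroup EB := AddMonoidHom.range
    ((GrB q).subtype.toAddMonoidHom.comp (ψ q))
  have hle : KK R A q ≤ AddSubgroup.toIntSubmodule IM := by
    refine Submodule.span_le.2 ?_
    rintro c ⟨a₀, a, rfl⟩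
    show _ ∈ IM
    refine ⟨DeRham.gen (KaehlerDifferential.D R A) q a₀ a, ?_⟩
    show ((ψ q (DeRham.gen (KaehlerDifferential.D R A) q a₀ a) :
      ↥(ExteriorAlgebra.exteriorPower (Polynomial A) q
        (KaehlerDifferential R (Polynomial A)))) : EB) = _
    rw [hψ q a₀ a, H10CC.coe_gen]
    simp only [← Polynomial.C_eq_algebraMap]
  have hmem : c ∈ IM := hle hc
  obtain ⟨x', hx'⟩ := hmem
  exact ⟨x', hx'⟩

open exteriorPower in
/-- homotopy invariance of de Rham cohomology for `A → A[t]` over a `ℚ`-algebra -/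
theorem final [Algebra ℚ R]
    (d : ∀ p : ℕ, ↥(⋀[A]^p (Ω[A⁄R])) →ₗ[R] ↥(⋀[A]^(p + 1) (Ω[A⁄R])))
    (hd : DeRham.IsDiff (KaehlerDifferential.D R A) d)
    (d' : ∀ p : ℕ, ↥(⋀[A[X]]^p (Ω[A[X]⁄R])) →ₗ[R] ↥(⋀[A[X]]^(p + 1) (Ω[A[X]⁄R])))
    (hd' : DeRham.IsDiff (KaehlerDifferential.D R A[X]) d')
    (ψ : ∀ p : ℕ, ↥(⋀[A]^p (Ω[A⁄R])) →+ ↥(⋀[A[X]]^p (Ω[A[X]⁄R])))
    (hψ : DeRham.IsCxMap (KaehlerDifferential.D R A) (KaehlerDifferential.D R A[X])
      (algebraMap A A[X]) ψ)
    (hcomm : ∀ (p : ℕ) (x : ↥(⋀[A]^p (Ω[A⁄R]))), ψ (p + 1) (d p x) = d' p (ψ p x)) (i : ℕ) :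
    (∀ y ∈ DeRham.cocycles d' i, ∃ x ∈ DeRham.cocycles d i,
        y - ψ i x ∈ DeRham.coboundaries d' i) ∧
      (∀ x ∈ DeRham.cocycles d i, ψ i x ∈ DeRham.coboundaries d' i →
        x ∈ DeRham.coboundaries d i) := by
  classical
  letI algBA : Algebra (Polynomial A) A := (Polynomial.evalRingHom (0 : A)).toAlgebra
  haveI tower : IsScalarTower R (Polynomial A) A := IsScalarTower.of_algebraMap_eq (fun r => by
    show algebraMap R A r = Polynomial.eval 0 (algebraMap R (Polynomial A) r)
    rw [Polynomial.algebraMap_apply, Polynomial.eval_C])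
  obtain ⟨ρ, hρ⟩ := Groth.Agent.S15293.result R R (Polynomial A) A
  have hρd : ∀ (p : ℕ) (x : ↥(⋀[A[X]]^p (Ω[A[X]⁄R]))), ρ (p + 1) (d' p x) = d p (ρ p x) :=
    fun p x => Groth.Agent.S15294.result R R (Polynomial A) A d' hd' d hd ρ hρ p x
  have hρψ : ∀ (p : ℕ) (x : ↥(⋀[A]^p (Ω[A⁄R]))), ρ p (ψ p x) = x := by
    intro p x
    refine Groth.Agent.Lib.Helper23.DeRhamAux.gen_induction (KaehlerDifferential.D R A)
      (KaehlerDifferential.span_range_derivation R A) p (fun x => ρ p (ψ p x) = x) ?_ ?_ ?_ x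
    · rw [map_zero, map_zero]
    · intro x y hx hy
      rw [map_add, map_add, hx, hy]
    · intro b₀ b
      rw [hψ p b₀ b, hρ p]
      have e : ∀ a : A, algebraMap (Polynomial A) A (algebraMap A (Polynomial A) a) = a :=
        fun a => by
          show Polynomial.eval 0 (algebraMap A (Polynomial A) a) = a
          rw [← Polynomial.C_eq_algebraMap, Polynomial.eval_C]
      simp only [e]
  -- the common part of the first claim
  have common : ∀ y : ↥(⋀[A[X]]^i (Ω[A[X]⁄R])), d' i y = 0 →
      ∃ x' : ↥(⋀[A]^i (Ω[A⁄R])), d i x' = 0 ∧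
        (i = 0 → (y : EB) = ((ψ i x' : ↥(⋀[A[X]]^i (Ω[A[X]⁄R]))) : EB)) ∧
        (∀ j, i = j + 1 → ∃ θ ∈ GrB j,
          (y : EB) - ((ψ i x' : ↥(⋀[A[X]]^i (Ω[A[X]⁄R]))) : EB) = dd θ) := by
    intro y hy'
    have hdy : dd (y : EB) = 0 := by
      rw [← H10CC.coe_d R (Polynomial A) d' hd'.1 i y, hy', ZeroMemClass.coe_zero]
    obtain ⟨c, hc, hdc, h0, hsucc⟩ := main R A i (y : EB) y.2 hdy
    obtain ⟨x', hx'⟩ := KK_to_psi R A ψ hψ i c hc
    have hclosed' : d' i (ψ i x') = 0 := Subtype.ext (by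
      rw [H10CC.coe_d R (Polynomial A) d' hd'.1, hx', hdc, ZeroMemClass.coe_zero])
    have hx'closed : d i x' = 0 := by
      have h1 := hρψ (i + 1) (d i x')
      rw [hcomm, hclosed', map_zero] at h1
      exact h1.symm
    refine ⟨x', hx'closed, ?_, ?_⟩
    · intro hi; rw [hx']; exact h0 hi
    · intro j hj; rw [hx']; exact hsucc j hj
  cases i with
  | zero =>
    refine ⟨fun y hy => ?_, fun x _ hψx => ?_⟩
    · obtain ⟨x', hx'c, h0, _⟩ := common y hy
      refine ⟨x', hx'c, ?_⟩
      have h2 : y - ψ 0 x' = 0 := Subtype.ext (by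
        rw [AddSubgroupClass.coe_sub, h0 rfl, sub_self, ZeroMemClass.coe_zero])
      rw [h2]
      exact Submodule.zero_mem _
    · have h1 : ψ 0 x = 0 := (Submodule.mem_bot R).1 hψx
      have h2 := hρψ 0 x
      rw [h1, map_zero] at h2
      rw [← h2]
      exact Submodule.zero_mem _
  | succ j =>
    refine ⟨fun y hy => ?_, fun x _ hψx => ?_⟩
    · obtain ⟨x', hx'c, _, hs⟩ := common y hy
      refine ⟨x', hx'c, ?_⟩
      obtain ⟨θ, hθ, hyc⟩ := hs j rfl
      show y - ψ (j + 1) x' ∈ LinearMap.range (d' j)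
      refine ⟨⟨θ, hθ⟩, Subtype.ext ?_⟩
      rw [H10CC.coe_d R (Polynomial A) d' hd'.1 j ⟨θ, hθ⟩, AddSubgroupClass.coe_sub, hyc]
    · obtain ⟨z, hz⟩ : ψ (j + 1) x ∈ LinearMap.range (d' j) := hψx
      show x ∈ LinearMap.range (d j)
      refine ⟨ρ j z, ?_⟩
      rw [← hρd, hz, hρψ]

end H10PH
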