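import Mathlib

/-!
# Strict pro-representability of left exact functors on artinian categories (FGA)

Let `C` be a small category with finite limits all of whose objects are artinian, and
`F : C ⥤ Type u` a functor preserving finite limits.  The category `MinEl F` of *minimal*
elements `(X, ξ)` of `F` (those where `ξ` does not come from a proper subobject of `X`)
is cofiltered, its transition morphisms are epimorphisms, and `F` is the colimit of the
corepresentable functors `Hom(X, -)` over `(MinEl F)ᵒᵖ`.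
-/

set_option autoImplicit false

open CategoryTheory CategoryTheory.Limits Opposite

universe u

namespace H10Pro

variable {C : Type u} [SmallCategory C] [HasFiniteLimits C] (F : C ⥤ Type u)

/-- `ξ : F X` is minimal if it does not come from a proper subobject of `X`. -/
def IsMinimal {X : C} (ξ : F.obj X) : Prop :=
  ∀ (X' : C) (i : X' ⟶ X), Mono i → ∀ ξ' : F.obj X', F.map i ξ' = ξ → IsIso i

/-- Minimal elements of `F`. -/
structure MinEl where
  /-- the underlying object -/
  X : C
  /-- the element -/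
  ξ : F.obj X
  min : IsMinimal F ξ

instance : Category (MinEl F) where
  Hom p q := { f : p.X ⟶ q.X // F.map f p.ξ = q.ξ }
  id p := ⟨𝟙 _, by simp⟩
  comp f g := ⟨f.1 ≫ g.1, by rw [FunctorToTypes.map_comp_apply, f.2, g.2]⟩
  id_comp f := Subtype.ext (Category.id_comp _)
  comp_id f := Subtype.ext (Category.comp_id _)
  assoc f g h := Subtype.ext (Category.assoc _ _ _)

/-- The forgetful functor from minimal elements to `C`. -/
def D : MinEl F ⥤ C where
  obj p := p.X
  map f := f.1

variable [PreservesFiniteLimits F]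

lemma exists_of_map_eq {X Y : C} (u v : X ⟶ Y) (ξ : F.obj X) (h : F.map u ξ = F.map v ξ) :
    ∃ ξ' : F.obj (equalizer u v), F.map (equalizer.ι u v) ξ' = ξ := by
  have hl := isLimitForkMapOfIsLimit F (equalizer.condition u v) (equalizerIsEqualizer u v)
  obtain ⟨l, hl⟩ := Fork.IsLimit.lift' hl (↾fun _ : PUnit.{u + 1} => ξ) (by
    ext x
    simpa using h)
  refine ⟨l PUnit.unit, ?_⟩
  have := ConcreteCategory.congr_hom hl PUnit.unit
  simpa using this

lemma exists_prod (X Y : C) (ξ : F.obj X) (η : F.obj Y) :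
    ∃ ζ : F.obj (X ⨯ Y), F.map prod.fst ζ = ξ ∧ F.map prod.snd ζ = η := by
  have hl := mapIsLimitOfPreservesOfIsLimit F (prod.fst : X ⨯ Y ⟶ X) prod.snd (prodIsProd X Y)
  obtain ⟨l, hl1, hl2⟩ := BinaryFan.IsLimit.lift' hl (↾fun _ : PUnit.{u + 1} => ξ)
    (↾fun _ : PUnit.{u + 1} => η)
  refine ⟨l PUnit.unit, ?_, ?_⟩
  · have := ConcreteCategory.congr_hom hl1 PUnit.unit
    rw [BinaryFan.mk_fst] at this
    exact this
  · have := ConcreteCategory.congr_hom hl2 PUnit.unit
    rw [BinaryFan.mk_snd] at this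
    exact this

lemma nonempty_terminal : Nonempty (F.obj (⊤_ C)) :=
  ⟨(IsTerminal.isTerminalObj F (⊤_ C) terminalIsTerminal).from PUnit.{u + 1} PUnit.unit⟩

/-- Parallel morphisms out of a minimal element which agree on the element are equal. -/
lemma eq_of_map_eq (p : MinEl F) {Y : C} (u v : p.X ⟶ Y) (h : F.map u p.ξ = F.map v p.ξ) :
    u = v := by
  obtain ⟨ξ', hξ'⟩ := exists_of_map_eq F u v p.ξ h
  haveI := p.min _ (equalizer.ι u v) inferInstance ξ' hξ'
  exact eq_of_epi_equalizer

/-- A morphism hitting a minimal element is an epimorphism. -/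
lemma epi_of_map_eq (q : MinEl F) {X : C} (a : X ⟶ q.X) (ξ : F.obj X) (h : F.map a ξ = q.ξ) :
    Epi a := by
  constructor
  intro Z g k hgk
  have h1 : F.map (equalizer.ι g k) (F.map (equalizer.lift a hgk) ξ) = q.ξ := by
    rw [← FunctorToTypes.map_comp_apply, equalizer.lift_ι, h]
  haveI := q.min _ (equalizer.ι g k) inferInstance _ h1
  exact eq_of_epi_equalizer

variable (hart : ∀ X : C, IsArtinianObject X)

include hart in
/-- Every element is the image of a minimal element under a monomorphism. -/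
lemma exists_minEl {X : C} (ξ : F.obj X) :
    ∃ (p : MinEl F) (f : p.X ⟶ X), F.map f p.ξ = ξ := by
  haveI := hart X
  let S : Set (Subobject X) := {Z | ∃ ξ' : F.obj (Z : C), F.map Z.arrow ξ' = ξ}
  have hne : S.Nonempty := by
    refine ⟨⊤, F.map (inv (⊤ : Subobject X).arrow) ξ, ?_⟩
    rw [← FunctorToTypes.map_comp_apply, IsIso.inv_hom_id, FunctorToTypes.map_id_apply]
  obtain ⟨Z, ⟨ξ₀, hξ₀⟩, hmin⟩ := (wellFounded_lt (α := Subobject X)).has_min S hne
  refine ⟨⟨(Z : C), ξ₀, ?_⟩, Z.arrow, hξ₀⟩
  intro X' i hi ξ' hξ'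
  haveI := hi
  have hmem : Subobject.mk (i ≫ Z.arrow) ∈ S := by
    refine ⟨F.map (Subobject.underlyingIso (i ≫ Z.arrow)).inv ξ', ?_⟩
    rw [← FunctorToTypes.map_comp_apply, Subobject.underlyingIso_arrow,
      FunctorToTypes.map_comp_apply, hξ', hξ₀]
  have hle : Subobject.mk (i ≫ Z.arrow) ≤ Z := Subobject.mk_le_of_comm i rfl
  have heq : Subobject.mk (i ≫ Z.arrow) = Z := eq_of_le_of_not_lt hle (hmin _ hmem)
  have hr : (Subobject.ofLE Z _ (le_of_eq heq.symm) ≫
      (Subobject.underlyingIso (i ≫ Z.arrow)).hom) ≫ i = 𝟙 _ := by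
    rw [← cancel_mono Z.arrow]
    simp only [Category.assoc, Category.id_comp]
    rw [Subobject.underlyingIso_hom_comp_eq_mk, Subobject.ofLE_arrow]
  refine ⟨Subobject.ofLE Z _ (le_of_eq heq.symm) ≫
      (Subobject.underlyingIso (i ≫ Z.arrow)).hom, ?_, hr⟩
  rw [← cancel_mono i, Category.assoc, hr, Category.id_comp, Category.comp_id]

include hart in
lemma isCofiltered_minEl : IsCofiltered (MinEl F) := by
  haveI : Nonempty (MinEl F) := by
    obtain ⟨t⟩ := nonempty_terminal F
    obtain ⟨p, _, _⟩ := exists_minEl F hart t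
    exact ⟨p⟩
  haveI : IsCofilteredOrEmpty (MinEl F) :=
    { cone_objs := by
        intro p q
        obtain ⟨ζ, h1, h2⟩ := exists_prod F p.X q.X p.ξ q.ξ
        obtain ⟨r, f, hf⟩ := exists_minEl F hart ζ
        refine ⟨r, ⟨f ≫ prod.fst, ?_⟩, ⟨f ≫ prod.snd, ?_⟩, trivial⟩
        · rw [FunctorToTypes.map_comp_apply, hf, h1]
        · rw [FunctorToTypes.map_comp_apply, hf, h2]
      cone_maps := by
        intro p q f g
        have : f = g := Subtype.ext (eq_of_map_eq F p f.1 g.1 (f.2.trans g.2.symm))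
        exact ⟨p, 𝟙 p, by rw [this]⟩ }
  exact {}

lemma epi_D_map {p q : MinEl F} (a : p ⟶ q) : Epi ((D F).map a) :=
  epi_of_map_eq F q a.1 p.ξ a.2

/-- The canonical cocone exhibiting `F` as a colimit of corepresentable functors. -/
def cocone : Cocone ((D F).op ⋙ coyoneda) where
  pt := F
  ι :=
    { app := fun j => coyonedaEquiv.symm j.unop.ξ
      naturality := by
        intro j j' a
        ext Z (v : j.unop.X ⟶ Z)
        show F.map (a.unop.1 ≫ v) j'.unop.ξ = F.map v j.unop.ξ
        rw [FunctorToTypes.map_comp_apply, a.unop.2] }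

include hart in
/-- `F` is the colimit of the corepresentable functors attached to its minimal elements. -/
lemma nonempty_isColimit_cocone : Nonempty (IsColimit (cocone F)) := by
  haveI := isCofiltered_minEl F hart
  refine ⟨evaluationJointlyReflectsColimits _ (fun Z => ?_)⟩
  apply Types.FilteredColimit.isColimitOf
  · intro (ζ : F.obj Z)
    obtain ⟨p, f, hf⟩ := exists_minEl F hart ζ
    exact ⟨op p, f, hf.symm⟩
  · intro i j (xi : i.unop.X ⟶ Z) (xj : j.unop.X ⟶ Z) (h : F.map xi i.unop.ξ = F.map xj j.unop.ξ)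
    obtain ⟨r, a, b, -⟩ := IsCofilteredOrEmpty.cone_objs i.unop j.unop
    refine ⟨op r, a.op, b.op, ?_⟩
    show a.1 ≫ xi = b.1 ≫ xj
    apply eq_of_map_eq F r
    rw [FunctorToTypes.map_comp_apply, FunctorToTypes.map_comp_apply, a.2, b.2, h]

include hart in
theorem strict_proRepresentable :
    ∃ (J : Type u) (_ : SmallCategory J) (_ : IsCofiltered J) (D : J ⥤ C),
      (∀ ⦃j j' : J⦄ (a : j ⟶ j'), Epi (D.map a)) ∧ Nonempty (F ≅ colimit (D.op ⋙ coyoneda)) := by
  obtain ⟨hc⟩ := nonempty_isColimit_cocone F hart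
  exact ⟨MinEl F, inferInstance, isCofiltered_minEl F hart, D F, fun _ _ a => epi_D_map F a,
    ⟨IsColimit.coconePointUniqueUpToIso hc (colimit.isColimit _)⟩⟩

end H10Pro
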