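import Mathlib
import Groth.Prelude.Def_AlgSt6
import Groth.Prelude.Def_AlgSt5

/-!
# Helper library (helper10): comparing scheme torsors with sheaf torsors, I

The functor `Y : Over S ⥤ Over h_S`, `T ↦ (h_T ⟶ h_S)`, is fully faithful, preserves finite limits, and hence is
monoidal for the cartesian structures.
-/

set_option autoImplicit false
set_option backward.isDefEq.respectTransparency false
set_option backward.isDefEq.respectTransparency.types false
universe u
open CategoryTheory CategoryTheory.Limits MonoidalCategory CartesianMonoidalCategory MonObj GrpObj AlgebraicGeometry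

namespace H10PT.QSC

variable (S : Scheme.{u})

/-- the Yoneda functor into fppf sheaves preserves finite limits -/
noncomputable instance yonPFL : PreservesFiniteLimits (AlgSp.yon S) := ⟨fun _ _ _ => inferInstance⟩

/-- the terminal object of `Over S` -/
abbrev tS : Over S := Over.mk (𝟙 S)

/-- it is terminal -/
noncomputable def tSIsTerminal : IsTerminal (tS S) := Over.mkIdTerminal

/-- the base sheaf `h_S` -/
abbrev B₀ : AlgSp.Sp S := (AlgSp.yon S).obj (tS S)

/-- `h_S` is the terminal sheaf -/
noncomputable def B₀IsTerminal : IsTerminal (B₀ S) :=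
  IsTerminal.isTerminalObj (AlgSp.yon S) _ (tSIsTerminal S)

/-- `T ↦ (h_T ⟶ h_S)` -/
noncomputable def Y : Over S ⥤ Over (B₀ S) :=
  (Over.equivalenceOfIsTerminal (tSIsTerminal S)).inverse ⋙ Over.post (AlgSp.yon S)

instance : (Y S).Full := by unfold Y; infer_instance
instance : (Y S).Faithful := by unfold Y; infer_instance
noncomputable instance : PreservesFiniteLimits (Y S) := by unfold Y; infer_instance
noncomputable instance : PreservesFiniteProducts (Y S) := inferInstance
noncomputable instance instYMonoidal : (Y S).Monoidal := Functor.Monoidal.ofChosenFiniteProducts _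

variable {S}

@[simp] theorem Y_obj_left (T : Over S) : ((Y S).obj T).left = (AlgSp.yon S).obj T := rfl

@[simp] theorem Y_map_left {T T' : Over S} (f : T ⟶ T') : ((Y S).map f).left = (AlgSp.yon S).map f := rfl

/-- every morphism of sheaves between objects over the terminal sheaf is a morphism over it -/
noncomputable def ovHom {P Q : Over (B₀ S)} (m : P.left ⟶ Q.left) : P ⟶ Q :=
  Over.homMk m ((B₀IsTerminal S).hom_ext _ _)

@[simp] theorem ovHom_left {P Q : Over (B₀ S)} (m : P.left ⟶ Q.left) : (ovHom m).left = m := rfl

theorem ovHom_of_left {P Q : Over (B₀ S)} (m : P ⟶ Q) : ovHom m.left = m := Over.OverMorphism.ext rfl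

theorem Y_map_eq {T T' : Over S} (f : T ⟶ T') : (Y S).map f = ovHom ((AlgSp.yon S).map f) :=
  Over.OverMorphism.ext rfl

/-- morphisms `Y T ⟶ Y T'` are the images of morphisms `T ⟶ T'` -/
theorem exists_Y_map {T T' : Over S} (m : (Y S).obj T ⟶ (Y S).obj T') : ∃ f : T ⟶ T', (Y S).map f = m :=
  ⟨(Y S).preimage m, (Y S).map_preimage m⟩

/-- an object of `Over h_S` whose underlying sheaf is `h_W` is isomorphic to `Y W` -/
noncomputable def isoY {P : Over (B₀ S)} {W : Over S} (κ : (AlgSp.yon S).obj W ≅ P.left) : (Y S).obj W ≅ P :=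
  Over.isoMk κ ((B₀IsTerminal S).hom_ext _ _)

@[simp] theorem isoY_hom_left {P : Over (B₀ S)} {W : Over S} (κ : (AlgSp.yon S).obj W ≅ P.left) :
    (isoY κ).hom.left = κ.hom := rfl

end H10PT.QSC
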