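import Groth.Agent.Lib.Helper10.QSC1

/-!
# Helper library (helper10): comparing scheme torsors with sheaf torsors, II

Actions of a group scheme on schemes correspond to actions of the represented group sheaf on the represented
sheaves.
-/

set_option autoImplicit false
set_option backward.isDefEq.respectTransparency false
set_option backward.isDefEq.respectTransparency.types false
universe u v w
open CategoryTheory CategoryTheory.Limits MonoidalCategory CartesianMonoidalCategory MonObj GrpObj AlgebraicGeometry

namespace H10PT.QSC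

section Gen

variable {C : Type w} [Category.{v} C] [CartesianMonoidalCategory C] {G P : C} [MonObj G] (act : G ⊗ P ⟶ P)

theorem one_act_iff : (η[G] ▷ P) ≫ act = (λ_ P).hom ↔
    ∀ (T : C) (p : T ⟶ P), lift (1 : T ⟶ G) p ≫ act = p := by
  constructor
  · intro h T p
    have e : lift (1 : T ⟶ G) p = lift (toUnit T) p ≫ (η[G] ▷ P) := by
      rw [lift_whiskerRight, Hom.one_def]
    rw [e, Category.assoc, h, leftUnitor_hom, lift_snd]
  · intro h
    have e : (η[G] ▷ P) = lift (1 : 𝟙_ C ⊗ P ⟶ G) (snd _ _) := by
      apply CartesianMonoidalCategory.hom_ext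
      · rw [whiskerRight_fst, lift_fst, Hom.one_def, toUnit_unique (fst _ _) (toUnit _)]
      · rw [whiskerRight_snd, lift_snd]
    rw [e, h, leftUnitor_hom]

theorem mul_act_iff : (μ[G] ▷ P) ≫ act = (α_ G G P).hom ≫ (G ◁ act) ≫ act ↔
    ∀ (T : C) (g h : T ⟶ G) (p : T ⟶ P),
      lift (g * h) p ≫ act = lift g (lift h p ≫ act) ≫ act := by
  constructor
  · intro hm T g h p
    have e : lift (g * h) p = lift (lift g h) p ≫ (μ[G] ▷ P) := by
      rw [lift_whiskerRight, Hom.mul_def]
    have e2 : lift (lift g h) p ≫ (α_ G G P).hom = lift g (lift h p) := by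
      apply CartesianMonoidalCategory.hom_ext
      · simp
      · apply CartesianMonoidalCategory.hom_ext <;> simp
    rw [e, Category.assoc, hm, reassoc_of% e2, lift_whiskerLeft_assoc]
  · intro hm
    have h1 := hm ((G ⊗ G) ⊗ P) (fst _ _ ≫ fst _ _) (fst _ _ ≫ snd _ _) (snd _ _)
    have e : (μ[G] ▷ P) = lift ((fst (G ⊗ G) P ≫ fst G G) * (fst (G ⊗ G) P ≫ snd G G)) (snd _ _) := by
      apply CartesianMonoidalCategory.hom_ext
      · rw [whiskerRight_fst, lift_fst, Hom.mul_def, ← comp_lift, lift_fst_snd, Category.comp_id]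
      · rw [whiskerRight_snd, lift_snd]
    have e2 : (α_ G G P).hom = lift (fst (G ⊗ G) P ≫ fst G G) (lift (fst (G ⊗ G) P ≫ snd G G) (snd _ _)) := by
      apply CartesianMonoidalCategory.hom_ext
      · simp
      · apply CartesianMonoidalCategory.hom_ext <;> simp
    rw [e, h1, e2, lift_whiskerLeft_assoc]

end Gen

open scoped Obj

variable {S : Scheme.{u}} (G : Over S) [GrpObj G]

/-- the action of `h_G` on `h_P` induced by an action of `G` on `P` -/
noncomputable def pushAct {P : Over S} (a : AlgGrp.Action G P) :
    AlgSp.GAction ((Y S).obj G) ((Y S).obj P) where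
  act := Functor.LaxMonoidal.μ (Y S) G P ≫ (Y S).map a.act
  one_act := by
    rw [Functor.obj.η_def, comp_whiskerRight, Category.assoc,
      Functor.LaxMonoidal.μ_natural_left_assoc, ← Functor.map_comp, a.one_act]
    exact (Functor.LaxMonoidal.left_unitality (Y S) P).symm
  mul_act := by
    rw [Functor.obj.μ_def, comp_whiskerRight, Category.assoc,
      Functor.LaxMonoidal.μ_natural_left_assoc, ← Functor.map_comp, a.mul_act, Functor.map_comp,
      Functor.map_comp, Functor.LaxMonoidal.associativity_assoc, MonoidalCategory.whiskerLeft_comp,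
      Category.assoc, Functor.LaxMonoidal.μ_natural_right_assoc]

theorem pushAct_act {P : Over S} (a : AlgGrp.Action G P) :
    (pushAct G a).act = Functor.LaxMonoidal.μ (Y S) G P ≫ (Y S).map a.act := rfl

/-- the action on points -/
theorem lift_pushAct {P T : Over S} (a : AlgGrp.Action G P) (g : T ⟶ G) (p : T ⟶ P) :
    lift ((Y S).map g) ((Y S).map p) ≫ (pushAct G a).act = (Y S).map (lift g p ≫ a.act) := by
  rw [pushAct_act, Functor.Monoidal.lift_μ_assoc, Functor.map_comp]

/-- equivariance can be tested on the represented sheaves -/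
theorem pushAct_eqv_iff {P P' : Over S} (a : AlgGrp.Action G P) (a' : AlgGrp.Action G P') (f : P ⟶ P') :
    (pushAct G a).act ≫ (Y S).map f = ((Y S).obj G ◁ (Y S).map f) ≫ (pushAct G a').act ↔
      a.act ≫ f = (G ◁ f) ≫ a'.act := by
  rw [pushAct_act, pushAct_act, Category.assoc, Functor.LaxMonoidal.μ_natural_right_assoc,
    ← Functor.map_comp, ← Functor.map_comp, cancel_epi]
  exact ⟨fun h => (Y S).map_injective h, fun h => congrArg _ h⟩

/-- an action of `h_G` on `h_P` comes from an action of `G` on `P` -/
noncomputable def reflAct {P : Over S} (a' : AlgSp.GAction ((Y S).obj G) ((Y S).obj P)) :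
    AlgGrp.Action G P where
  act := (Y S).preimage (Functor.OplaxMonoidal.δ (Y S) G P ≫ a'.act)
  one_act := by
    rw [one_act_iff]
    intro T p
    apply (Y S).map_injective
    rw [Functor.map_comp, Functor.map_preimage, Functor.OplaxMonoidal.lift_δ_assoc, Functor.map_one]
    exact (one_act_iff a'.act).mp a'.one_act _ _
  mul_act := by
    rw [mul_act_iff]
    intro T g h p
    apply (Y S).map_injective
    rw [Functor.map_comp, Functor.map_preimage, Functor.OplaxMonoidal.lift_δ_assoc, Functor.map_mul,
      Functor.map_comp, Functor.map_preimage, Functor.OplaxMonoidal.lift_δ_assoc, Functor.map_comp,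
      Functor.map_preimage, Functor.OplaxMonoidal.lift_δ_assoc]
    exact (mul_act_iff a'.act).mp a'.mul_act _ _ _ _

theorem pushAct_reflAct {P : Over S} (a' : AlgSp.GAction ((Y S).obj G) ((Y S).obj P)) :
    (pushAct G (reflAct G a')).act = a'.act := by
  rw [pushAct_act]
  show _ ≫ (Y S).map ((Y S).preimage _) = _
  rw [Functor.map_preimage, Functor.Monoidal.μ_δ_assoc]

end H10PT.QSC
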