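import Groth.Agent.Lib.Helper10.QSC2

/-!
# Helper library (helper10): comparing scheme torsors with sheaf torsors, III

The comparison functor from the quotient stack with scheme torsors to the quotient stack with sheaf torsors;
it is fully faithful.
-/

set_option autoImplicit false
set_option backward.isDefEq.respectTransparency false
set_option backward.isDefEq.respectTransparency.types false
universe u
open CategoryTheory CategoryTheory.Limits MonoidalCategory CartesianMonoidalCategory MonObj GrpObj AlgebraicGeometry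

namespace H10PT.QSC

open scoped Obj
open AlgSt

variable {S : Scheme.{u}} (K : Precoverage Scheme.{u})

theorem hasSecLoc_of_loc {base P : Over S} (π : P ⟶ base)
    (h : NonAbH1.IsLocallyTrivialFor K (Over.mk π.left : Over base.left)) :
    HasSecLoc K ((AlgSp.yon S).map π) := by
  obtain ⟨R, hR, hsec⟩ := h
  refine ⟨R, hR, fun T' f hf => ?_⟩
  obtain ⟨s, hs⟩ := hsec f hf
  have hs' : s ≫ π.left = f := hs
  have hw : s ≫ P.hom = f ≫ base.hom := by rw [← Over.w π, ← Category.assoc, hs']
  refine ⟨(AlgSp.yon S).map (Over.homMk s hw : Over.mk (f ≫ base.hom) ⟶ P), ?_⟩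
  rw [← Functor.map_comp]
  congr 1
  exact Over.OverMorphism.ext hs'

theorem loc_of_hasSecLoc {base P : Over S} (π : P ⟶ base) (h : HasSecLoc K ((AlgSp.yon S).map π)) :
    NonAbH1.IsLocallyTrivialFor K (Over.mk π.left : Over base.left) := by
  obtain ⟨R, hR, hsec⟩ := h
  refine ⟨R, hR, fun T' f hf => ?_⟩
  obtain ⟨s, hs⟩ := hsec f hf
  obtain ⟨s₀, rfl⟩ := (AlgSp.yon S).map_surjective s
  rw [← Functor.map_comp] at hs
  have hs' := (AlgSp.yon S).map_injective hs
  exact ⟨s₀.left, congrArg (fun k => k.left) hs'⟩

variable (G : Over S) [GrpObj G] {X : Over S} (aX : AlgGrp.Action G X)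

/-- the comparison functor on objects -/
noncomputable def ΦObj (A : QuotObj K G aX) : SpQuotObj K ((Y S).obj G) (pushAct G aX) where
  base := A.base
  b := ((Y S).obj A.base).hom
  P := (Y S).obj A.P
  act := pushAct G A.act
  π := (Y S).map A.π
  cart := by
    have h := A.cart.map (Y S)
    refine h.of_iso (Functor.Monoidal.μIso (Y S) G A.P).symm (Iso.refl _) (Iso.refl _) (Iso.refl _)
      ?_ ?_ ?_ ?_
    · rw [Iso.refl_hom, Category.comp_id, Iso.symm_hom, Functor.Monoidal.μIso_inv, pushAct_act,
        Functor.Monoidal.δ_μ_assoc]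
    · rw [Iso.refl_hom, Category.comp_id, Iso.symm_hom, Functor.Monoidal.μIso_inv,
        Functor.OplaxMonoidal.δ_snd]
    · exact (Category.comp_id _).trans (Category.id_comp _).symm
    · exact (Category.comp_id _).trans (Category.id_comp _).symm
  loc := hasSecLoc_of_loc K A.π A.loc
  φ := (Y S).map A.φ
  eqv := (pushAct_eqv_iff G A.act aX A.φ).mpr A.eqv

/-- the comparison functor on morphisms -/
noncomputable def ΦMap {A A' : QuotObj K G aX} (f : A ⟶ A') : ΦObj K G aX A ⟶ ΦObj K G aX A' where
  base := f.base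
  wb := Over.w ((Y S).map f.base)
  top := (Y S).map f.top
  eqv := (pushAct_eqv_iff G A.act A'.act f.top).mpr f.eqv
  cart := f.cart.map (Y S)
  wφ := by
    show (Y S).map f.top ≫ (Y S).map A'.φ = (Y S).map A.φ
    rw [← Functor.map_comp, f.wφ]

/-- the comparison functor -/
noncomputable def Φ : QuotSt K G aX ⥤ᵇ SpQuotSt K ((Y S).obj G) (pushAct G aX) where
  toFunctor :=
    { obj := ΦObj K G aX
      map := ΦMap K G aX
      map_id := fun A => SpQuotObj.hom_ext rfl ((Y S).map_id _)
      map_comp := fun f g => SpQuotObj.hom_ext rfl ((Y S).map_comp _ _) }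
  w := rfl

theorem Φ_full : (Φ K G aX).toFunctor.Full := by
  constructor
  intro A A' h
  obtain ⟨t, ht⟩ := exists_Y_map h.top
  have hc : IsPullback ((Y S).map t) ((Y S).map A.π) ((Y S).map A'.π) ((Y S).map h.base) := by
    rw [ht]
    exact h.cart
  have hcomm : t ≫ A'.π = A.π ≫ h.base := by
    apply (Y S).map_injective
    rw [Functor.map_comp, Functor.map_comp]
    exact hc.w
  refine ⟨⟨h.base, t, ?_, ?_, ?_⟩, SpQuotObj.hom_ext rfl ht⟩
  · refine (pushAct_eqv_iff G A.act A'.act t).mp ?_
    rw [ht]
    exact h.eqv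
  · exact IsPullback.of_map (Y S) hcomm hc
  · apply (Y S).map_injective
    rw [Functor.map_comp, ht]
    exact h.wφ

theorem Φ_faithful : (Φ K G aX).toFunctor.Faithful := by
  constructor
  intro A A' f g h
  exact QuotObj.hom_ext (congrArg (fun k => k.base) h)
    ((Y S).map_injective (congrArg (fun k => k.top) h))

end H10PT.QSC
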