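import Groth.Agent.Lib.Helper10.QSC3
import Groth.Agent.Lib.Helper10.FD2
import Groth.Agent.Lib.Helper28.EffDesc.FppfAff
import Groth.Agent.Lib.Helper28.EffDesc.SheafDesc

/-!
# Helper library (helper10): comparing scheme torsors with sheaf torsors, IV

An fppf sheaf torsor under (the sheaf of) a group scheme affine over the base is representable by a scheme.
-/

set_option autoImplicit false
set_option backward.isDefEq.respectTransparency false
set_option backward.isDefEq.respectTransparency.types false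
universe u
open CategoryTheory CategoryTheory.Limits MonoidalCategory CartesianMonoidalCategory MonObj GrpObj AlgebraicGeometry

namespace H10PT.QSC

open scoped Obj
open AlgSt AlgSp Groth.Agent.Lib.Helper16
open _root_.Desc Groth.Agent.Lib.Helper28.SheafDesc Groth.Agent.Lib.Helper28.EffDesc

variable {S : Scheme.{u}}

/-- an fppf sheaf torsor has a section over a single fppf cover of its base -/
theorem exists_fppf_section {B : Sp S} {G' : Over B} [GrpObj G'] {X' : Over B} (a' : AlgSp.GAction G' X')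
    (A : SpQuotObj Scheme.fppfPrecoverage G' a') :
    ∃ (U₀ : Over S) (π₀ : U₀ ⟶ A.base) (s₀ : (yon S).obj U₀ ⟶ A.P.left),
      Flat π₀.left ∧ LocallyOfFinitePresentation π₀.left ∧ Surjective π₀.left ∧
      s₀ ≫ A.π.left = (yon S).map π₀ := by
  classical
  obtain ⟨R, hR, hsec⟩ := A.loc
  have hR' : R ∈ Scheme.precoverage (@Flat ⊓ @LocallyOfFinitePresentation) A.base.left := hR
  obtain ⟨h1, h2⟩ := hR'
  rw [Presieve.mem_comap_jointlySurjectivePrecoverage_iff] at h1
  have key : ∀ x : A.base.left, ∃ (Ux : Over S) (kx : Ux ⟶ A.base) (sx : (yon S).obj Ux ⟶ A.P.left),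
      Flat kx.left ∧ LocallyOfFinitePresentation kx.left ∧ x ∈ Set.range kx.left ∧
        sx ≫ A.π.left = (yon S).map kx := by
    intro x
    obtain ⟨V, f, hf, v, hv⟩ := h1 x
    obtain ⟨s, hs⟩ := hsec f hf
    exact ⟨Over.mk (f ≫ A.base.hom), Over.homMk f, s, (h2 hf).1, (h2 hf).2, ⟨v, hv⟩, hs⟩
  choose U k s hfl hfp hsurj hs using key
  obtain ⟨hc⟩ := SpCoprod.isColimit_sig U
  have hfac : ∀ i, (yon S).map (SpCoprod.sigι U i) ≫ Cofan.IsColimit.desc hc s = s i :=
    fun i => Cofan.IsColimit.fac hc _ i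
  refine ⟨SpCoprod.sig U, SpCoprod.sigDesc U k, Cofan.IsColimit.desc hc s,
    SpCoprod.sigDesc_prop U k hfl, SpCoprod.sigDesc_prop U k hfp,
    SpCoprod.sigDesc_surjective U k (fun x => ⟨x, hsurj x⟩), ?_⟩
  refine Cofan.IsColimit.hom_ext hc _ _ (fun i => ?_)
  show (yon S).map (SpCoprod.sigι U i) ≫ _ = (yon S).map (SpCoprod.sigι U i) ≫ _
  rw [← Category.assoc, hfac, hs, ← Functor.map_comp, SpCoprod.sigι_desc]

variable (G : Over S) [GrpObj G]

/-- **Sheaf torsors under an affine group scheme are schemes.** -/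
theorem exists_rep [IsAffineHom G.hom] {X' : Over (B₀ S)} (a' : AlgSp.GAction ((Y S).obj G) X')
    (A : SpQuotObj Scheme.fppfPrecoverage ((Y S).obj G) a') :
    ∃ (W : Over S) (w : W ⟶ A.base) (κ : (yon S).obj W ≅ A.P.left),
      κ.hom ≫ A.π.left = (yon S).map w := by
  obtain ⟨U₀, π₀, s₀, i1, i2, i3, hs₀⟩ := exists_fppf_section a' A
  obtain ⟨pt, hpt⟩ : ∃ pt : (Y S).obj U₀ ⟶ A.P, pt.left = s₀ := ⟨ovHom s₀, rfl⟩
  have sqD := (isPullback_whiskerLeft' (G := (Y S).obj G) pt).paste_horiz A.cart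
  have sqD' : IsPullback (Functor.OplaxMonoidal.δ (Y S) G U₀ ≫ ((Y S).obj G ◁ pt) ≫ A.act.act)
      ((Y S).map (snd G U₀)) A.π (pt ≫ A.π) := by
    refine sqD.of_iso (Functor.Monoidal.μIso (Y S) G U₀) (Iso.refl _) (Iso.refl _) (Iso.refl _)
      ?_ ?_ ?_ ?_
    · rw [Iso.refl_hom, Category.comp_id, Functor.Monoidal.μIso_hom, Functor.Monoidal.μ_δ_assoc]
    · rw [Iso.refl_hom, Category.comp_id, Functor.Monoidal.μIso_hom, Functor.Monoidal.μ_snd]
    · exact (Category.comp_id _).trans (Category.id_comp _).symm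
    · exact (Category.comp_id _).trans (Category.id_comp _).symm
  obtain ⟨fP, hfP⟩ : ∃ fP : (yon S).obj (G ⊗ U₀) ⟶ A.P.left,
      fP = (Functor.OplaxMonoidal.δ (Y S) G U₀ ≫ ((Y S).obj G ◁ pt) ≫ A.act.act).left := ⟨_, rfl⟩
  have sq : IsPullback fP ((yon S).map (snd G U₀)) A.π.left ((yon S).map π₀) := by
    have h := sqD'.map (Over.forget (B₀ S))
    have e : (Over.forget (B₀ S)).map (pt ≫ A.π) = (yon S).map π₀ := by
      rw [← hs₀, ← hpt]
      rfl
    rw [e] at h
    rw [hfP]
    exact h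
  have : Flat π₀.left := i1
  have : LocallyOfFinitePresentation π₀.left := i2
  have : Surjective π₀.left := i3
  have haff : IsAffineHom (snd G U₀).left := by
    show IsAffineHom (pullback.snd G.hom U₀.hom)
    exact MorphismProperty.pullback_snd (P := @IsAffineHom) _ _ inferInstance
  have haff' : IsAffineHom (sheafDD π₀ (snd G U₀) A.π.left fP sq).obj.hom := haff
  obtain ⟨W₀, ⟨e⟩⟩ := schDD_effective_of_affineHom_fppf (sheafDD π₀ (snd G U₀) A.π.left fP sq)
  obtain ⟨W, w, q, κ, h1, h2, h3⟩ := exists_rep_of_effective π₀ (snd G U₀) A.π.left fP sq W₀ e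
  exact ⟨W, w, κ, h1⟩

end H10PT.QSC
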