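import Groth.Agent.Lib.Helper10.QSC4
import Groth.Agent.Lib.Helper10.TQ1

/-!
# Helper library (helper10): comparing scheme torsors with sheaf torsors, V

A sheaf torsor with representable total space comes from a scheme torsor.
-/

set_option autoImplicit false
set_option backward.isDefEq.respectTransparency false
set_option backward.isDefEq.respectTransparency.types false
universe u v w
open CategoryTheory CategoryTheory.Limits MonoidalCategory CartesianMonoidalCategory MonObj GrpObj AlgebraicGeometry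

namespace H10PT.QSC

section Transport

variable {C : Type w} [Category.{v} C] [CartesianMonoidalCategory C] {G P Q : C} [MonObj G]

theorem transport_one_act (act : G ⊗ P ⟶ P) (e : Q ≅ P) (h : (η[G] ▷ P) ≫ act = (λ_ P).hom) :
    (η[G] ▷ Q) ≫ ((G ◁ e.hom) ≫ act ≫ e.inv) = (λ_ Q).hom := by
  rw [one_act_iff] at h ⊢
  intro T p
  have := h T (p ≫ e.hom)
  simp only [lift_whiskerLeft_assoc]
  rw [reassoc_of% this, Iso.hom_inv_id, Category.comp_id]

theorem transport_mul_act (act : G ⊗ P ⟶ P) (e : Q ≅ P)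
    (h : (μ[G] ▷ P) ≫ act = (α_ G G P).hom ≫ (G ◁ act) ≫ act) :
    (μ[G] ▷ Q) ≫ ((G ◁ e.hom) ≫ act ≫ e.inv) =
      (α_ G G Q).hom ≫ (G ◁ ((G ◁ e.hom) ≫ act ≫ e.inv)) ≫ ((G ◁ e.hom) ≫ act ≫ e.inv) := by
  rw [mul_act_iff] at h ⊢
  intro T g k p
  have := h T g k (p ≫ e.hom)
  simp only [lift_whiskerLeft_assoc, Category.assoc, Iso.inv_hom_id, Category.comp_id]
  rw [reassoc_of% this]

end Transport

open scoped Obj
open AlgSt AlgSp

variable {S : Scheme.{u}}

/-- transport of an action along an isomorphism -/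
noncomputable def transAct {G' P Q : Over (B₀ S)} [GrpObj G'] (a : GAction G' P) (e : Q ≅ P) :
    GAction G' Q where
  act := (G' ◁ e.hom) ≫ a.act ≫ e.inv
  one_act := transport_one_act a.act e a.one_act
  mul_act := transport_mul_act a.act e a.mul_act

variable (G : Over S) [GrpObj G]

theorem map_reflAct_act {P : Over S} (a' : GAction ((Y S).obj G) ((Y S).obj P)) :
    (Y S).map (reflAct G a').act = Functor.OplaxMonoidal.δ (Y S) G P ≫ a'.act :=
  (Y S).map_preimage _

variable {X : Over S} (aX : AlgGrp.Action G X) (K : Precoverage Scheme.{u})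
  (A : SpQuotObj K ((Y S).obj G) (pushAct G aX)) {W : Over S} (w : W ⟶ A.base)
  (κ : (yon S).obj W ≅ A.P.left)

/-- the action on the representing scheme -/
noncomputable def act₀ : AlgGrp.Action G W := reflAct G (transAct A.act (isoY κ))

theorem push_act₀ : (pushAct G (act₀ G aX K A κ)).act =
    ((Y S).obj G ◁ (isoY κ).hom) ≫ A.act.act ≫ (isoY κ).inv :=
  pushAct_reflAct G _

theorem map_act₀ : (Y S).map (act₀ G aX K A κ).act =
    Functor.OplaxMonoidal.δ (Y S) G W ≫ ((Y S).obj G ◁ (isoY κ).hom) ≫ A.act.act ≫ (isoY κ).inv :=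
  map_reflAct_act G _

/-- the equivariant map on the representing scheme -/
noncomputable def φ₀ : W ⟶ X := (Y S).preimage ((isoY κ).hom ≫ A.φ)

theorem map_φ₀ : (Y S).map (φ₀ G aX K A κ) = (isoY κ).hom ≫ A.φ := (Y S).map_preimage _

theorem eqv₀ : (act₀ G aX K A κ).act ≫ φ₀ G aX K A κ = (G ◁ φ₀ G aX K A κ) ≫ aX.act := by
  refine (pushAct_eqv_iff G _ aX _).mp ?_
  rw [push_act₀, map_φ₀, Category.assoc, Category.assoc, Iso.inv_hom_id_assoc, A.eqv,
    ← MonoidalCategory.whiskerLeft_comp_assoc]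

variable (hκ : κ.hom ≫ A.π.left = (yon S).map w)

include hκ in
theorem cart₀ : IsPullback (act₀ G aX K A κ).act (snd G W) w w := by
  have hL := A.cart.map (Over.forget (B₀ S))
  obtain ⟨e1, he1⟩ : ∃ e1 : ((Y S).obj G ⊗ A.P) ≅ (Y S).obj (G ⊗ W),
      e1.hom = ((Y S).obj G ◁ (isoY κ).inv) ≫ Functor.LaxMonoidal.μ (Y S) G W :=
    ⟨whiskerLeftIso ((Y S).obj G) (isoY κ).symm ≪≫ Functor.Monoidal.μIso (Y S) G W, rfl⟩
  have c1 : A.act.act ≫ (isoY κ).inv = e1.hom ≫ (Y S).map (act₀ G aX K A κ).act := by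
    rw [he1, map_act₀, Category.assoc, Functor.Monoidal.μ_δ_assoc,
      ← MonoidalCategory.whiskerLeft_comp_assoc, Iso.inv_hom_id, MonoidalCategory.whiskerLeft_id,
      Category.id_comp]
  have c2 : snd ((Y S).obj G) A.P ≫ (isoY κ).inv = e1.hom ≫ (Y S).map (snd G W) := by
    rw [he1, Category.assoc, Functor.Monoidal.μ_snd, whiskerLeft_snd]
  have hY : IsPullback ((yon S).map (act₀ G aX K A κ).act) ((yon S).map (snd G W))
      ((yon S).map w) ((yon S).map w) := by
    refine hL.of_iso ((Over.forget _).mapIso e1) κ.symm κ.symm (Iso.refl _) ?_ ?_ ?_ ?_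
    · exact congrArg (fun k => k.left) c1
    · exact congrArg (fun k => k.left) c2
    · rw [Iso.refl_hom, Category.comp_id, Iso.symm_hom, Iso.eq_inv_comp]
      exact hκ
    · rw [Iso.refl_hom, Category.comp_id, Iso.symm_hom, Iso.eq_inv_comp]
      exact hκ
  refine IsPullback.of_map (yon S) ?_ hY
  apply (yon S).map_injective
  rw [Functor.map_comp, Functor.map_comp]
  exact hY.w

include hκ in
theorem loc₀ : NonAbH1.IsLocallyTrivialFor K (Over.mk w.left : Over A.base.left) := by
  apply loc_of_hasSecLoc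
  obtain ⟨R, hR, hsec⟩ := A.loc
  refine ⟨R, hR, fun T' f hf => ?_⟩
  obtain ⟨s, hs⟩ := hsec f hf
  exact ⟨s ≫ κ.inv, by rw [Category.assoc, ← hκ, Iso.inv_hom_id_assoc, hs]⟩

/-- the scheme torsor attached to a sheaf torsor with representable total space -/
noncomputable def objOf : QuotObj K G aX where
  base := A.base
  P := W
  act := act₀ G aX K A κ
  π := w
  cart := cart₀ G aX K A w κ hκ
  loc := loc₀ G aX K A w κ hκ
  φ := φ₀ G aX K A κ
  eqv := eqv₀ G aX K A κ

/-- the comparison morphism -/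
noncomputable def homOf : ΦObj K G aX (objOf G aX K A w κ hκ) ⟶ A where
  base := 𝟙 A.base
  wb := (B₀IsTerminal S).hom_ext _ _
  top := (isoY κ).hom
  eqv := by
    show (pushAct G (act₀ G aX K A κ)).act ≫ (isoY κ).hom = _
    rw [push_act₀, Category.assoc, Category.assoc, Iso.inv_hom_id, Category.comp_id]
  cart := by
    haveI hid : IsIso (𝟙 A.base) := IsIso.id _
    haveI := TQ.isIso_bHom (B := B₀ S) (𝟙 A.base) (b := ((Y S).obj A.base).hom) (b' := A.b)
      ((B₀IsTerminal S).hom_ext _ _)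
    refine IsPullback.of_horiz_isIso ⟨Over.OverMorphism.ext ?_⟩
    show κ.hom ≫ A.π.left = (yon S).map w ≫ (yon S).map (𝟙 A.base)
    rw [(yon S).map_id, Category.comp_id]
    exact hκ
  wφ := (map_φ₀ G aX K A κ).symm

theorem homOf_base : (homOf G aX K A w κ hκ).base = 𝟙 A.base := rfl

end H10PT.QSC
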