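import Groth.Agent.Lib.Helper10.QSD5
import Groth.Agent.Lib.Helper10.Fib4
import Groth.Agent.Lib.Helper10.StkPost
import Groth.Agent.Lib.Helper10.TQ6

/-!
# Helper library (helper10): comparing scheme torsors with sheaf torsors, VI (copy with lighter imports)

For a group scheme affine over the base, the quotient stack with scheme torsors is equivalent to the quotient
stack with sheaf torsors; hence it is a stack for the fppf topology.
-/

set_option autoImplicit false
set_option backward.isDefEq.respectTransparency false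
set_option backward.isDefEq.respectTransparency.types false
universe u
open CategoryTheory CategoryTheory.Limits MonoidalCategory CartesianMonoidalCategory MonObj GrpObj AlgebraicGeometry

namespace H10PT.QSD

open H10PT.QSC

open scoped Obj
open AlgSt AlgSp

variable {S : Scheme.{u}} (G : Over S) [GrpObj G] {X : Over S} (aX : AlgGrp.Action G X)

theorem ess [IsAffineHom G.hom]
    (A : SpQuotObj Scheme.fppfPrecoverage ((Y S).obj G) (pushAct G aX)) :
    ∃ (A₀ : QuotObj Scheme.fppfPrecoverage G aX)
      (e : (Φ Scheme.fppfPrecoverage G aX).obj A₀ ≅ A),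
      (SpQuotSt Scheme.fppfPrecoverage ((Y S).obj G) (pushAct G aX)).p.IsHomLift
        (𝟙 ((SpQuotSt Scheme.fppfPrecoverage ((Y S).obj G) (pushAct G aX)).p.obj A)) e.hom := by
  obtain ⟨W, w, κ, hκ⟩ := exists_rep G (pushAct G aX) A
  haveI : IsIso (homOf G aX Scheme.fppfPrecoverage A w κ hκ).base :=
    (show IsIso (𝟙 A.base) from IsIso.id _)
  haveI := TQ.isIso_of_isIso_base (homOf G aX Scheme.fppfPrecoverage A w κ hκ)
  refine ⟨objOf G aX Scheme.fppfPrecoverage A w κ hκ,
    asIso (homOf G aX Scheme.fppfPrecoverage A w κ hκ), ?_⟩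
  show (SpQuotSt Scheme.fppfPrecoverage ((Y S).obj G) (pushAct G aX)).p.IsHomLift
    ((SpQuotSt Scheme.fppfPrecoverage ((Y S).obj G) (pushAct G aX)).p.map
      (homOf G aX Scheme.fppfPrecoverage A w κ hκ)) (homOf G aX Scheme.fppfPrecoverage A w κ hκ)
  infer_instance

theorem isEquivOver_Φ [IsAffineHom G.hom] : FibCat.IsEquivOver (Φ Scheme.fppfPrecoverage G aX) := by
  haveI := Φ_full Scheme.fppfPrecoverage G aX
  haveI := Φ_faithful Scheme.fppfPrecoverage G aX
  exact Groth.Agent.Lib.Helper10.Fib.isEquivOver_of_ff _ (ess G aX)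

/-- **The quotient stack by an affine group scheme, with scheme torsors, is a stack for the fppf topology.** -/
theorem isStack_quotSt [IsAffineHom G.hom] :
    Stk.IsStack (J S) (QuotSt Scheme.fppfPrecoverage G aX) :=
  (Groth.Agent.Lib.Helper10.StkPost.isStack_iff_of_isEquivOver (J S) (Φ Scheme.fppfPrecoverage G aX)
    (isEquivOver_Φ G aX)).mpr (TQ.isStack Scheme.fppfPrecoverage _ _ rfl)

end H10PT.QSD
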