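import Groth.Agent.Lib.Helper10.QSD6
import Groth.Agent.Lib.Helper10.Boot3
import Groth.Agent.Lib.Helper10.EtQuotA
import Groth.Agent.Lib.Helper28.QuotSt.RepProps
import Groth.Agent.Lib.Helper16.GenFinSp2
import Groth.Agent.S0082

/-!
# Helper library (helper10): comparing scheme torsors with sheaf torsors, VII

For a smooth affine group scheme, the quotient stack with etale-locally trivial scheme torsors is equivalent to
the one with fppf-locally trivial scheme torsors; it is an algebraic stack.
-/

set_option autoImplicit false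
set_option backward.isDefEq.respectTransparency false
set_option backward.isDefEq.respectTransparency.types false
universe u
open CategoryTheory CategoryTheory.Limits MonoidalCategory CartesianMonoidalCategory MonObj GrpObj AlgebraicGeometry

namespace H10PT.QSD

open H10PT.QSC

open AlgSt AlgSp

variable {S : Scheme.{u}} (G : Over S) [GrpObj G] {X : Over S} (aX : AlgGrp.Action G X)

variable {K K' : Precoverage Scheme.{u}} (hK : K ≤ K')

/-- coarsening the topology of local triviality, on objects -/
def ΨObj (A : QuotObj K G aX) : QuotObj K' G aX where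
  base := A.base
  P := A.P
  act := A.act
  π := A.π
  cart := A.cart
  loc := by
    obtain ⟨R, hR, h⟩ := A.loc
    exact ⟨R, hK _ hR, h⟩
  φ := A.φ
  eqv := A.eqv

/-- coarsening the topology of local triviality -/
def Ψ : QuotSt K G aX ⥤ᵇ QuotSt K' G aX where
  toFunctor :=
    { obj := ΨObj G aX hK
      map := fun {A A'} f => ⟨f.base, f.top, f.eqv, f.cart, f.wφ⟩
      map_id := fun A => rfl
      map_comp := fun f g => rfl }
  w := rfl

theorem Ψ_full : (Ψ G aX hK).toFunctor.Full :=
  ⟨fun {A A'} h => ⟨⟨h.base, h.top, h.eqv, h.cart, h.wφ⟩, rfl⟩⟩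

theorem Ψ_faithful : (Ψ G aX hK).toFunctor.Faithful :=
  ⟨fun {A A'} f g h => QuotObj.hom_ext (congrArg (fun k => k.base) h) (congrArg (fun k => k.top) h)⟩

theorem isEquivOver_Ψ (hess : ∀ A' : QuotObj K' G aX,
    NonAbH1.IsLocallyTrivialFor K (Over.mk A'.π.left : Over A'.base.left)) :
    FibCat.IsEquivOver (Ψ G aX hK) := by
  haveI := Ψ_full G aX hK
  haveI := Ψ_faithful G aX hK
  refine Groth.Agent.Lib.Helper10.Fib.isEquivOver_of_ff _ (fun A' => ?_)
  refine ⟨⟨A'.base, A'.P, A'.act, A'.π, A'.cart, hess A', A'.φ, A'.eqv⟩, Iso.refl _, ?_⟩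
  exact IsHomLift.id rfl

end H10PT.QSD
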