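import Groth.Agent.Lib.Helper10.QSD7

/-!
# Helper library (helper10): comparing scheme torsors with sheaf torsors, VIII

The quotient stack of a scheme by a smooth affine group scheme, with etale-locally trivial scheme torsors, is an
algebraic stack, and its canonical chart is smooth, surjective and affine.
-/

set_option autoImplicit false
set_option backward.isDefEq.respectTransparency false
set_option backward.isDefEq.respectTransparency.types false
universe u
open CategoryTheory CategoryTheory.Limits MonoidalCategory CartesianMonoidalCategory MonObj GrpObj AlgebraicGeometry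

namespace H10PT.QSD

open H10PT.QSC H10PT.EtQuot H10PT.EtSh
open AlgSt AlgSp
open Groth.Agent.Lib.Helper28.QuotSt.Rep Groth.Agent.Lib.Helper28.QuotSt.RepProps

variable {S : Scheme.{u}} (G : Over S) [GrpObj G] {X : Over S} (aX : AlgGrp.Action G X)

/-- fppf torsors under a smooth group scheme are etale locally trivial -/
theorem loc_etale [Smooth G.hom] (A' : QuotObj Scheme.fppfPrecoverage G aX) :
    NonAbH1.IsLocallyTrivialFor Scheme.etalePrecoverage (Over.mk A'.π.left : Over A'.base.left) := by
  haveI : Smooth A'.π.left := π_prop @Smooth A' inferInstance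
  haveI : Surjective A'.π.left :=
    π_prop @Surjective A' (Groth.Agent.Lib.Helper29.TorsorDesc.surjective_of_grp G)
  obtain ⟨Y', c, h, hc1, hc2, hc3⟩ :=
    H10PT.Boot.exists_etale_cover_section A'.π.left
  refine ⟨Presieve.singleton c, ?_, ?_⟩
  · rw [Scheme.etalePrecoverage, Scheme.singleton_mem_precoverage_iff]
    exact ⟨c.surjective, hc1⟩
  · rintro T' f ⟨⟩
    exact ⟨h, hc3⟩

theorem isEquivOver_Ψ_etale [Smooth G.hom] :
    FibCat.IsEquivOver (Ψ G aX (K := Scheme.etalePrecoverage) (K' := Scheme.fppfPrecoverage) etale_le_fppf) :=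
  isEquivOver_Ψ G aX etale_le_fppf (loc_etale G aX)

theorem isStack_quotSt_etale_fppf [Smooth G.hom] [IsAffineHom G.hom] :
    Stk.IsStack (J S) (QuotSt Scheme.etalePrecoverage G aX) :=
  (Groth.Agent.Lib.Helper10.StkPost.isStack_iff_of_isEquivOver (J S) _ (isEquivOver_Ψ_etale G aX)).mpr
    (isStack_quotSt G aX)

theorem isStack_quotSt_etale [Smooth G.hom] [IsAffineHom G.hom] :
    Stk.IsStack (Jet S) (QuotSt Scheme.etalePrecoverage G aX) :=
  ⟨(isStack_quotSt_etale_fppf G aX).1,
    fun _ R hR => (isStack_quotSt_etale_fppf G aX).2 R (jet_le _ hR)⟩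

theorem π_prop_et (P : MorphismProperty Scheme.{u}) [P.IsStableUnderBaseChange] [IsZariskiLocalAtTarget P]
    [P.DescendsAlong (@Surjective ⊓ @Flat ⊓ @QuasiCompact : MorphismProperty Scheme.{u})]
    (A : QuotObj Scheme.etalePrecoverage G aX) (hG : P G.hom) (U : Over S) (h : A.base = U) :
    P (A.π ≫ eqToHom h).left :=
  π_prop' P (ΨObj G aX etale_le_fppf A) hG U h

theorem qm_smooth [Smooth G.hom] :
    RepByAlgSpWith (LocP @Smooth) (qm Scheme.etalePrecoverage aX) :=
  repByAlgSpWith_qm _ (fun A U h =>
    Groth.Agent.Lib.Helper16.AlgStDC.locP_yon_of Groth.Agent.Lib.Helper16.etLocalST_smooth _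
      (π_prop_et G aX @Smooth A inferInstance U h))

theorem qm_surjective :
    RepByAlgSpWith IsSurjectiveMor (qm Scheme.etalePrecoverage aX) :=
  repByAlgSpWith_qm _ (fun A U h =>
    isSurjectiveMor_yon_map _
      (π_prop_et G aX @Surjective A (Groth.Agent.Lib.Helper29.TorsorDesc.surjective_of_grp G) U h))

theorem qm_affine [IsAffineHom G.hom] :
    RepByAlgSpWith IsAffineMor (qm Scheme.etalePrecoverage aX) := by
  haveI : MorphismProperty.DescendsAlong @IsAffineHom
      (@Surjective ⊓ @Flat ⊓ @QuasiCompact : MorphismProperty Scheme.{u}) := Groth.Agent.S0082.result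
  refine repByAlgSpWith_qm _ (fun A U h => ?_)
  intro Z hZ z
  obtain ⟨W', i, φ, sqW, hW', -⟩ := Groth.Agent.Lib.Helper16.GenFinSp.affWith_yon_map (P := @IsAffineHom) le_rfl _
    (π_prop_et G aX @IsAffineHom A inferInstance U h) hZ z
  exact ⟨W', i, φ, sqW, hW'⟩

theorem isAlgStack_quotSt_etale [Smooth G.hom] [IsAffineHom G.hom] :
    IsAlgStack Scheme.etalePrecoverage (QuotSt Scheme.etalePrecoverage G aX) := by
  have h := H10PT.Boot.isAlgStack_of_smooth_cover (isStack_quotSt_etale_fppf G aX)
    (Groth.Agent.Lib.Helper28.AlgSt.DiagRep.repByAlgSp_overCat X) (qm Scheme.etalePrecoverage aX)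
    (qm_smooth G aX) (qm_surjective G aX)
  exact ⟨isStack_quotSt_etale G aX, h.diag, h.atlas⟩

end H10PT.QSD
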