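import Mathlib
import Groth.Agent.Lib.Helper16.AlgSt.DiagToSelf
import Groth.Agent.Lib.Helper16.AlgSt.GoodAffine

/-!
# Helper library (helper10): the diagonal of a stack has a good property `P` as soon as a cover has `P` and the
diagonal of the cover over the base has `P` (variant of helper16's `repByAlgSpWith_diag_toSelf_of_cover`).
-/

set_option autoImplicit false
set_option backward.isDefEq.respectTransparency false
set_option backward.isDefEq.respectTransparency.types false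

universe u

open CategoryTheory CategoryTheory.Limits AlgebraicGeometry Opposite

namespace H10PT.QSE

open Groth.Agent.Lib.Helper16.AlgStDC
open Groth.Agent.Lib.Helper10.Fib Groth.Agent.Lib.Helper10.AlgStRep
open Groth.Agent.Lib.Helper28.AlgSt.PropInst Groth.Agent.Lib.Helper28.AlgSt.Descent
open Groth.Agent.Lib.Helper28.AlgSt.FpStack Groth.Agent.Lib.Helper28.AlgSt.DiagComp
open Groth.Agent.Lib.Helper28.AlgSt.DiagRep Groth.Agent.Lib.Helper28.AlgSt.Basic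
open Groth.Agent.Lib.Helper28.AlgSt.Key

variable {S : Scheme.{u}} {𝒳 𝒲 : AlgSt.Cat S}

/-- If `w : 𝒲 ⟶ 𝒳` is an fppf cover from (the category of) an algebraic space which has the good
property `P`, and the diagonal of `𝒲` over the base has `P`, then the diagonal of `𝒳`
over the base has `P`. -/
theorem repByAlgSpWith_diag_toSelf_of_cover' {P : MorphismProperty (AlgSp.Sp S)} (hP : Good P)
    (h𝒳 : FibCat.IsFibGrpd 𝒳.p) (hΔ : AlgSt.RepByAlgSp1 (FibCat.diag (FibCat.toSelf 𝒳)))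
    (h𝒲 : AlgSt.RepByAlgSp 𝒲) (w : 𝒲 ⥤ᵇ 𝒳)
    (hw₁ : AlgSt.RepByAlgSpWith (AlgSp.LocP @Flat) w)
    (hw₂ : AlgSt.RepByAlgSpWith (AlgSp.LocP @LocallyOfFinitePresentation) w)
    (hw₃ : AlgSt.RepByAlgSpWith AlgSp.IsSurjectiveMor w)
    (hw₄ : AlgSt.RepByAlgSpWith P w)
    (hΔ𝒲 : AlgSt.RepByAlgSpWith P (FibCat.diag (BasedFunctor.comp w (FibCat.toSelf 𝒳)))) :
    AlgSt.RepByAlgSpWith P (FibCat.diag (FibCat.toSelf 𝒳)) := by
  have hS := isFibGrpd_selfOver (Over S)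
  have f𝒲 := isFibGrpd_of_repByAlgSp h𝒲
  have hWW : FibCat.IsFibGrpd (FibCat.fp (BasedFunctor.comp w (FibCat.toSelf 𝒳))
      (BasedFunctor.comp w (FibCat.toSelf 𝒳))).p := isFibGrpd_fp _ _ f𝒲 f𝒲 hS
  have hww : FibCat.IsFibGrpd (FibCat.fp w w).p := isFibGrpd_fp _ _ f𝒲 f𝒲 h𝒳
  have hΔpr : AlgSt.RepByAlgSpWith P (FibCat.diag (FibCat.fpFst
      (BasedFunctor.comp w (FibCat.toSelf 𝒳)) (BasedFunctor.comp w (FibCat.toSelf 𝒳)))) :=
    repByAlgSpWith_diag_fpFst P f𝒲 hS f𝒲 _ _ hΔ𝒲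
  have hi : AlgSt.RepByAlgSpWith P (FibCat.fpLift (FibCat.fpFst w w) (FibCat.fpSnd w w)
      (compE w (FibCat.toSelf 𝒳))) := by
    refine repByAlgSpWith_of_comp hP hww hWW f𝒲 _ (FibCat.fpFst _ _) ?_ hΔpr
    exact repByAlgSpWith_iso P (Iso.refl _) (repByAlgSpWith_fpFst P w w hw₄)
  have H2 : AlgSt.RepByAlgSpWith P (FibCat.fpFst (magN w w (FibCat.toSelf 𝒳))
      (FibCat.diag (FibCat.toSelf 𝒳))) :=
    repByAlgSpWith_of_square P _ (FibCat.fpLift (FibCat.fpFst w w) (FibCat.fpSnd w w)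
      (compE w (FibCat.toSelf 𝒳))) (magLam w w (FibCat.toSelf 𝒳) (compE w (FibCat.toSelf 𝒳))
      (fun _ => rfl)) (BasedFunctor.id _)
      (isEquivOver_magLam w w (FibCat.toSelf 𝒳) (compE w (FibCat.toSelf 𝒳)) (fun _ => rfl)
        f𝒲 f𝒲 h𝒳 hS) (isEquivOver_id _) (Iso.refl _) hi
  exact repByAlgSpWith_of_fpFst_cover h𝒳 (isFibGrpd_fp _ _ h𝒳 h𝒳 hS) hWW P hP.bc hP.loc
    (FibCat.diag (FibCat.toSelf 𝒳)) hΔ (magN w w (FibCat.toSelf 𝒳))
    (repByAlgSpWith_magN good_flat f𝒲 f𝒲 h𝒳 hS w w _ hw₁ hw₁)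
    (repByAlgSpWith_magN good_lfp f𝒲 f𝒲 h𝒳 hS w w _ hw₂ hw₂)
    (repByAlgSpWith_magN good_surjective f𝒲 f𝒲 h𝒳 hS w w _ hw₃ hw₃) H2

end H10PT.QSE
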