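import Groth.Agent.Lib.Helper10.QSE1
import Groth.Agent.Lib.Helper28.QuotSt.Rep
import Groth.Agent.Lib.Helper16.AffRep

/-!
# Helper library (helper10): the diagonal over the base of the chart `X ⟶ [X/G]`.
-/

set_option autoImplicit false
set_option backward.isDefEq.respectTransparency false
set_option backward.isDefEq.respectTransparency.types false

universe u

open CategoryTheory CategoryTheory.Limits AlgebraicGeometry Opposite MonoidalCategory

namespace H10PT.QSE

open Groth.Agent.Lib.Helper16.AlgStDC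
open Groth.Agent.Lib.Helper10.Fib Groth.Agent.Lib.Helper10.AlgStRep
open Groth.Agent.Lib.Helper28.AlgSt.PropInst Groth.Agent.Lib.Helper28.AlgSt.Descent
open Groth.Agent.Lib.Helper28.AlgSt.DiagRep Groth.Agent.Lib.Helper28.AlgSt.Basic
open Groth.Agent.Lib.Helper28.AlgSt.Key Groth.Agent.Lib.Helper28.AlgSt.SpaceCalc
open Groth.Agent.Lib.Helper28.AlgSt.Bridge
open Groth.Agent.Lib.Helper28.QuotSt.Rep

variable {S : Scheme.{u}}

theorem isAffineMor_diagonal_yon {X : Over S} (hX : IsAffineHom (pullback.diagonal X.hom))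
    (t : X ⟶ Over.mk (𝟙 S)) :
    AlgSp.IsAffineMor (pullback.diagonal ((AlgSp.yon S).map t)) := by
  apply Groth.Agent.Lib.Helper16.isAffineMor_of_repWith_le_isAffineHom le_rfl
  rw [AlgSp.repWith_diagonal_yon_map_iff]
  have ht : t = Over.homMk X.hom := Over.mkIdTerminal.hom_ext _ _
  subst ht
  exact hX

variable (K : Precoverage Scheme.{u}) [K.HasIsos] (G : Over S) [GrpObj G] {X : Over S}
  (aX : AlgGrp.Action G X)

/-- The diagonal over the base of the chart `(Sch/X) ⟶ [X/G]` is the diagonal of `X` over `S`. -/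
theorem repByAlgSpWith_diag_qm_toSelf (P : MorphismProperty (AlgSp.Sp S)) (hPb : BC P)
    (h : P (pullback.diagonal ((AlgSp.yon S).map (Over.homMk X.hom : X ⟶ Over.mk (𝟙 S))))) :
    AlgSt.RepByAlgSpWith P
      (FibCat.diag (BasedFunctor.comp (qm K aX) (FibCat.toSelf (AlgSt.QuotSt K G aX)))) := by
  refine repByAlgSpWith_diag_of_diagonal P hPb (A := (AlgSp.ofScheme S).obj X)
    (B := (AlgSp.ofScheme S).obj (Over.mk (𝟙 S)))
    (AlgSt.toOverCat X) (FibCat.toSelf (AlgSt.ofSch (Over.mk (𝟙 S)))) (isEquivOver_toOverCat X)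
    isEquivOver_toSelf_ofSch_terminal _
    (ObjectProperty.homMk ((AlgSp.yon S).map (Over.homMk X.hom : X ⟶ Over.mk (𝟙 S)))) ?_ h
  refine BasedNatIso.mkNatIso (NatIso.ofComponents (fun a => Iso.refl _) ?_) ?_
  · intro a b f
    rfl
  · intro a
    exact IsHomLift.id rfl

end H10PT.QSE
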