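import Groth.Agent.Lib.Helper10.QSD8
import Groth.Agent.Lib.Helper10.QSE2

/-!
# Helper library (helper10): the quotient stack of a scheme with affine diagonal by a smooth affine group scheme has
affine diagonal.
-/

set_option autoImplicit false
set_option backward.isDefEq.respectTransparency false
set_option backward.isDefEq.respectTransparency.types false

universe u

open CategoryTheory CategoryTheory.Limits AlgebraicGeometry Opposite MonoidalCategory

namespace H10PT.QSE

open H10PT.QSC H10PT.QSD
open AlgSt AlgSp
open Groth.Agent.Lib.Helper28.QuotSt.Rep Groth.Agent.Lib.Helper28.QuotSt.RepProps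

variable {S : Scheme.{u}} (G : Over S) [GrpObj G] {X : Over S} (aX : AlgGrp.Action G X)

theorem qm_flat_et [Flat G.hom] :
    RepByAlgSpWith (LocP @Flat) (qm Scheme.etalePrecoverage aX) :=
  repByAlgSpWith_qm _ (fun A U h =>
    Groth.Agent.Lib.Helper16.AlgStDC.locP_yon_of Groth.Agent.Lib.Helper16.etLocalST_flat _
      (π_prop_et G aX @Flat A inferInstance U h))

theorem qm_lfp_et [LocallyOfFinitePresentation G.hom] :
    RepByAlgSpWith (LocP @LocallyOfFinitePresentation) (qm Scheme.etalePrecoverage aX) :=
  repByAlgSpWith_qm _ (fun A U h =>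
    Groth.Agent.Lib.Helper16.AlgStDC.locP_yon_of
      Groth.Agent.Lib.Helper16.etLocalST_locallyOfFinitePresentation _
      (π_prop_et G aX @LocallyOfFinitePresentation A inferInstance U h))

/-- **Affine diagonal of `[X/G]` for `G` smooth affine and `X` with affine diagonal.** -/
theorem repByAlgSpWith_isAffineMor_diag_quotSt_etale [Smooth G.hom] [IsAffineHom G.hom]
    (hX : IsAffineHom (pullback.diagonal X.hom)) :
    RepByAlgSpWith IsAffineMor
      (FibCat.diag (FibCat.toSelf (QuotSt Scheme.etalePrecoverage G aX))) :=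
  repByAlgSpWith_diag_toSelf_of_cover' Groth.Agent.Lib.Helper16.AlgStDC.good_affine
    (isStack_quotSt_etale_fppf G aX).1 (isAlgStack_quotSt_etale G aX).diag
    (Groth.Agent.Lib.Helper28.AlgSt.DiagRep.repByAlgSp_overCat X) (qm Scheme.etalePrecoverage aX)
    (qm_flat_et G aX) (qm_lfp_et G aX) (qm_surjective G aX) (qm_affine G aX)
    (repByAlgSpWith_diag_qm_toSelf Scheme.etalePrecoverage G aX IsAffineMor
      Groth.Agent.Lib.Helper16.AlgStDC.good_affine.bc (isAffineMor_diagonal_yon hX _))

end H10PT.QSE
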