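import Groth.Agent.Lib.Helper10.BootF3
import Groth.Agent.Lib.Helper10.QSC6
import Groth.Agent.Lib.Helper10.QSE2
import Groth.Agent.Lib.Helper28.QuotSt.RepProps
import Groth.Agent.Lib.Helper17.AlgSpAffSep
import Groth.Agent.Lib.Helper16.AffRep
import Groth.Agent.Lib.Helper16.GenFinSp
import Groth.Agent.S0082

/-!
# Helper library (helper10): the diagonal of the fppf quotient stack `[X/G]` for `G` affine, flat and locally of
finite presentation.

* `repByAlgSp1_diag_quotSt_fppf`: the diagonal is representable by algebraic spaces (fppf bootstrap);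
* `qm_affine_fppf`: the chart `X ⟶ [X/G]` is affine;
* `repByAlgSpWith_isAffineMor_diag_of_isAffineMor`: the diagonal of an affine representable functor is affine;
* `repByAlgSpWith_isAffineMor_diag_quotSt_fppf_iff`: `[X/G]` has affine diagonal iff `X` has.
-/

set_option autoImplicit false
set_option backward.isDefEq.respectTransparency false
set_option backward.isDefEq.respectTransparency.types false

universe u

open CategoryTheory CategoryTheory.Limits AlgebraicGeometry Opposite MonoidalCategory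

namespace H10PT.QSF

open H10PT.QSC H10PT.QSE
open AlgSt AlgSp
open Groth.Agent.Lib.Helper28.QuotSt.Rep Groth.Agent.Lib.Helper28.QuotSt.RepProps
open Groth.Agent.Lib.Helper16.AlgStDC
open Groth.Agent.Lib.Helper10.Fib Groth.Agent.Lib.Helper10.AlgStRep
open Groth.Agent.Lib.Helper28.AlgSt.PropInst Groth.Agent.Lib.Helper28.AlgSt.Descent
open Groth.Agent.Lib.Helper28.AlgSt.DiagRep Groth.Agent.Lib.Helper28.AlgSt.Basic
open Groth.Agent.Lib.Helper28.AlgSt.Key Groth.Agent.Lib.Helper28.AlgSt.SpaceCalc
open Groth.Agent.Lib.Helper28.AlgSt.Bridge Groth.Agent.Lib.Helper28.AlgSt.DiagComp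

variable {S : Scheme.{u}}

/-- The diagonal of a functor representable by algebraic spaces and affine is affine. -/
theorem repByAlgSpWith_isAffineMor_diag_of_isAffineMor {𝒲 𝒳 : AlgSt.Cat S}
    (h𝒲 : FibCat.IsFibGrpd 𝒲.p) (h𝒳 : FibCat.IsFibGrpd 𝒳.p) (w : 𝒲 ⥤ᵇ 𝒳)
    (hw : RepByAlgSpWith IsAffineMor w) : RepByAlgSpWith IsAffineMor (FibCat.diag w) := by
  rw [repByAlgSpWith_diag_iff_forall h𝒲 h𝒳 IsAffineMor good_affine.bc good_affine.loc w
    (repByAlgSp1_of_with _ _ hw)]
  intro T y A e he
  have h1 : IsAffineMor (AlgSt.spMapOfOver (BasedFunctor.comp e (FibCat.fpFst y w))) :=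
    (repByAlgSpWith_iff_chart _ good_affine.bc good_affine.loc (FibCat.fpFst y w) e he).1
      (repByAlgSpWith_fpFst _ w y hw)
  have h2 := Groth.Agent.Lib.Helper17.isSeparatedMor_of_isAffineMor A.property.diag h1
  exact Groth.Agent.Lib.Helper16.isAffineMor_of_repWith_le_isAffineHom
    (fun _ _ f (hf : IsClosedImmersion f) => (inferInstance : IsAffineHom f)) _ h2

variable (G : Over S) [GrpObj G] {X : Over S} (aX : AlgGrp.Action G X)

theorem qm_affine_fppf [IsAffineHom G.hom] :
    RepByAlgSpWith IsAffineMor (qm Scheme.fppfPrecoverage aX) := by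
  haveI : MorphismProperty.DescendsAlong @IsAffineHom
      (@Surjective ⊓ @Flat ⊓ @QuasiCompact : MorphismProperty Scheme.{u}) := Groth.Agent.S0082.result
  refine repByAlgSpWith_qm _ (fun A U h => ?_)
  intro Z hZ z
  obtain ⟨W', i, φ, sqW, hW', -⟩ :=
    Groth.Agent.Lib.Helper16.GenFinSp.affWith_yon_map (P := @IsAffineHom) le_rfl _
      (π_prop' @IsAffineHom A inferInstance U h) hZ z
  exact ⟨W', i, φ, sqW, hW'⟩

/-- fppf bootstrap: the diagonal of `[X/G]` is representable by algebraic spaces. -/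
theorem repByAlgSp1_diag_quotSt_fppf [IsAffineHom G.hom] [Flat G.hom]
    [LocallyOfFinitePresentation G.hom] :
    RepByAlgSp1 (FibCat.diag (FibCat.toSelf (QuotSt Scheme.fppfPrecoverage G aX))) :=
  H10PT.BootF.repByAlgSp1_diag_of_fppf_cover (isStack_quotSt G aX) (repByAlgSp_overCat X)
    (qm Scheme.fppfPrecoverage aX) (repByAlgSpWith_qm_flat aX) (repByAlgSpWith_qm_lfp aX)
    (repByAlgSpWith_qm_surjective aX)

/-- A good property of the chart `X ⟶ [X/G]` and of the diagonal of `X` passes to the diagonal of `[X/G]`. -/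
theorem repByAlgSpWith_diag_quotSt_fppf_of_good [IsAffineHom G.hom] [Flat G.hom]
    [LocallyOfFinitePresentation G.hom] {P : MorphismProperty (AlgSp.Sp S)} (hP : Good P)
    (hq : RepByAlgSpWith P (qm Scheme.fppfPrecoverage aX))
    (hX : P (pullback.diagonal ((AlgSp.yon S).map (Over.homMk X.hom : X ⟶ Over.mk (𝟙 S))))) :
    RepByAlgSpWith P (FibCat.diag (FibCat.toSelf (QuotSt Scheme.fppfPrecoverage G aX))) :=
  repByAlgSpWith_diag_toSelf_of_cover' hP
    (isStack_quotSt G aX).1 (repByAlgSp1_diag_quotSt_fppf G aX)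
    (repByAlgSp_overCat X) (qm Scheme.fppfPrecoverage aX)
    (repByAlgSpWith_qm_flat aX) (repByAlgSpWith_qm_lfp aX) (repByAlgSpWith_qm_surjective aX) hq
    (repByAlgSpWith_diag_qm_toSelf Scheme.fppfPrecoverage G aX P hP.bc hX)

theorem repByAlgSpWith_isAffineMor_diag_quotSt_fppf [IsAffineHom G.hom] [Flat G.hom]
    [LocallyOfFinitePresentation G.hom] (hX : IsAffineHom (pullback.diagonal X.hom)) :
    RepByAlgSpWith IsAffineMor
      (FibCat.diag (FibCat.toSelf (QuotSt Scheme.fppfPrecoverage G aX))) :=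
  repByAlgSpWith_diag_quotSt_fppf_of_good G aX good_affine (qm_affine_fppf G aX)
    (isAffineMor_diagonal_yon hX _)

end H10PT.QSF
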