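import Groth.Agent.Lib.Helper10.QSF1
import Groth.Agent.Lib.Helper10.Fib7

/-!
# Helper library (helper10): affine diagonal of the fppf quotient stack `[X/G]` forces affine diagonal of `X`.
-/

set_option autoImplicit false
set_option backward.isDefEq.respectTransparency false
set_option backward.isDefEq.respectTransparency.types false

universe u

open CategoryTheory CategoryTheory.Limits AlgebraicGeometry Opposite MonoidalCategory

namespace H10PT.QSF

open H10PT.QSC H10PT.QSE
open AlgSt AlgSp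
open Groth.Agent.Lib.Helper28.QuotSt.Rep Groth.Agent.Lib.Helper28.QuotSt.RepProps
open Groth.Agent.Lib.Helper16.AlgStDC
open Groth.Agent.Lib.Helper10.Fib Groth.Agent.Lib.Helper10.AlgStRep
open Groth.Agent.Lib.Helper28.AlgSt.PropInst Groth.Agent.Lib.Helper28.AlgSt.Descent
open Groth.Agent.Lib.Helper28.AlgSt.DiagRep Groth.Agent.Lib.Helper28.AlgSt.Basic
open Groth.Agent.Lib.Helper28.AlgSt.Key Groth.Agent.Lib.Helper28.AlgSt.SpaceCalc
open Groth.Agent.Lib.Helper28.AlgSt.Bridge Groth.Agent.Lib.Helper28.AlgSt.DiagComp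

variable {S : Scheme.{u}}

variable (K : Precoverage Scheme.{u}) [K.HasIsos] (G : Over S) [GrpObj G] {X : Over S}
  (aX : AlgGrp.Action G X)

/-- The diagonal over the base of the chart `(Sch/X) ⟶ [X/G]` is the diagonal of `X` over `S`; converse
direction, for a property local on the base. -/
theorem prop_diagonal_of_diag_qm_toSelf (P : MorphismProperty (AlgSp.Sp S)) (hPb : BC P)
    (hP : AlgSp.IsLocalOnBase AlgSp.IsFppfCover P)
    (h : AlgSt.RepByAlgSpWith P
      (FibCat.diag (BasedFunctor.comp (qm K aX) (FibCat.toSelf (AlgSt.QuotSt K G aX))))) :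
    P (pullback.diagonal ((AlgSp.yon S).map (Over.homMk X.hom : X ⟶ Over.mk (𝟙 S)))) := by
  refine (repByAlgSpWith_diag_iff P hPb hP (A := (AlgSp.ofScheme S).obj X)
    (B := (AlgSp.ofScheme S).obj (Over.mk (𝟙 S)))
    (AlgSt.toOverCat X) (FibCat.toSelf (AlgSt.ofSch (Over.mk (𝟙 S)))) (isEquivOver_toOverCat X)
    isEquivOver_toSelf_ofSch_terminal _
    (ObjectProperty.homMk ((AlgSp.yon S).map (Over.homMk X.hom : X ⟶ Over.mk (𝟙 S)))) ?_).1 h
  refine BasedNatIso.mkNatIso (NatIso.ofComponents (fun a => Iso.refl _) ?_) ?_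
  · intro a b f
    rfl
  · intro a
    exact IsHomLift.id rfl

theorem isAffineHom_diagonal_of_isAffineMor {X : Over S} (t : X ⟶ Over.mk (𝟙 S))
    (h : AlgSp.IsAffineMor (pullback.diagonal ((AlgSp.yon S).map t))) :
    IsAffineHom (pullback.diagonal X.hom) := by
  have hY : AlgSp.IsAlgSpace (pullback ((AlgSp.yon S).map t) ((AlgSp.yon S).map t)) :=
    (AlgSp.IsAlgSpace.yon_obj (pullback t t)).of_iso (PreservesPullback.iso (AlgSp.yon S) t t)
  have h1 := Groth.Agent.Lib.Helper16.repWith_isAffineHom_of_isAffineMor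
    (AlgSp.IsAlgSpace.yon_obj X) hY _ h
  rw [AlgSp.repWith_diagonal_yon_map_iff] at h1
  have ht : t = Over.homMk X.hom := Over.mkIdTerminal.hom_ext _ _
  subst ht
  exact h1

/-- If `[X/G]` (fppf, `G` affine) has affine diagonal then so has `X`. -/
theorem isAffineHom_diagonal_of_diag_quotSt_fppf [IsAffineHom G.hom]
    (h : RepByAlgSpWith IsAffineMor
      (FibCat.diag (FibCat.toSelf (QuotSt Scheme.fppfPrecoverage G aX)))) :
    IsAffineHom (pullback.diagonal X.hom) := by
  have f𝒳 := (isStack_quotSt G aX).1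
  have fX := isFibGrpd_overForget X
  have h1 : RepByAlgSpWith IsAffineMor (FibCat.diag (qm Scheme.fppfPrecoverage aX)) :=
    repByAlgSpWith_isAffineMor_diag_of_isAffineMor fX f𝒳 _ (qm_affine_fppf G aX)
  have h2 := repByAlgSpWith_diag_comp good_affine fX f𝒳 (isFibGrpd_selfOver (Over S))
    (qm Scheme.fppfPrecoverage aX) (FibCat.toSelf (QuotSt Scheme.fppfPrecoverage G aX)) h1 h
  exact isAffineHom_diagonal_of_isAffineMor _
    (prop_diagonal_of_diag_qm_toSelf Scheme.fppfPrecoverage G aX IsAffineMor good_affine.bc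
      good_affine.loc h2)

/-- **Affine diagonal of `[X/G]` (fppf) iff affine diagonal of `X`.** -/
theorem repByAlgSpWith_isAffineMor_diag_quotSt_fppf_iff [IsAffineHom G.hom] [Flat G.hom]
    [LocallyOfFinitePresentation G.hom] :
    RepByAlgSpWith IsAffineMor
        (FibCat.diag (FibCat.toSelf (QuotSt Scheme.fppfPrecoverage G aX))) ↔
      IsAffineHom (pullback.diagonal X.hom) :=
  ⟨isAffineHom_diagonal_of_diag_quotSt_fppf G aX,
    repByAlgSpWith_isAffineMor_diag_quotSt_fppf G aX⟩

end H10PT.QSF
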