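import Groth.Agent.Lib.Helper10.QSF2
import Groth.Agent.Lib.Helper16.QAffLocal

/-!
# Helper library (helper10): mixed composition of representable functors, quasi-affine morphisms, and the
quasi-affine diagonal of the fppf quotient stack `[X/G]` for `G` affine, flat, locally finitely presented and
`X` quasi-separated.
-/

set_option autoImplicit false
set_option backward.isDefEq.respectTransparency false
set_option backward.isDefEq.respectTransparency.types false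

universe u

open CategoryTheory CategoryTheory.Limits AlgebraicGeometry Opposite MonoidalCategory

namespace H10PT.QSG

open H10PT.QSC H10PT.QSE H10PT.QSF
open AlgSt AlgSp
open Groth.Agent.Lib.Helper28.QuotSt.Rep Groth.Agent.Lib.Helper28.QuotSt.RepProps
open Groth.Agent.Lib.Helper16.AlgStDC
open Groth.Agent.Lib.Helper10.Fib Groth.Agent.Lib.Helper10.StkPsh Groth.Agent.Lib.Helper10.AlgStRep
open Groth.Agent.Lib.Helper28.AlgSt.PropInst Groth.Agent.Lib.Helper28.AlgSt.Descent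
open Groth.Agent.Lib.Helper28.AlgSt.DiagRep Groth.Agent.Lib.Helper28.AlgSt.Basic
open Groth.Agent.Lib.Helper28.AlgSt.Key Groth.Agent.Lib.Helper28.AlgSt.SpaceCalc
open Groth.Agent.Lib.Helper28.AlgSt.Bridge Groth.Agent.Lib.Helper28.AlgSt.DiagComp
open Groth.Agent.Lib.Helper28.AlgSt.PshFun Groth.Agent.Lib.Helper28.AlgSt.PshPull
open Groth.Agent.Lib.Helper28.AlgSt.ClsPsh Groth.Agent.Lib.Helper28.AlgSt.Comp
open Groth.Agent.Lib.Helper28.AlgSt.FpStack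

variable {S : Scheme.{u}} {𝒳 𝒴 𝒵 : AlgSt.Cat S}

/-- Mixed composition: `f` with `P`, `g` with `Q`, and `P` followed by `Q` gives `R`. -/
theorem repByAlgSpWith_comp_mixed (h𝒳 : FibCat.IsFibGrpd 𝒳.p) (h𝒴 : FibCat.IsFibGrpd 𝒴.p)
    (P Q R : MorphismProperty (AlgSp.Sp S)) (hPb : BC P)
    (hP : AlgSp.IsLocalOnBase AlgSp.IsFppfCover P)
    (hc : ∀ ⦃X Y Z : AlgSp.Sp S⦄, AlgSp.IsAlgSpace X → AlgSp.IsAlgSpace Y → AlgSp.IsAlgSpace Z →
      ∀ (a : X ⟶ Y) (b : Y ⟶ Z), P a → Q b → R (a ≫ b))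
    (f : 𝒳 ⥤ᵇ 𝒴) (g : 𝒴 ⥤ᵇ 𝒵) (hf : AlgSt.RepByAlgSpWith P f)
    (hg : AlgSt.RepByAlgSpWith Q g) : AlgSt.RepByAlgSpWith R (BasedFunctor.comp f g) := by
  intro U y
  obtain ⟨Fg, eg, heg, hPg⟩ := hg U y
  obtain ⟨V, a, e, he, hiso⟩ := exists_space_fp h𝒳 h𝒴 f (repByAlgSp1_of_with P f hf) Fg
    (BasedFunctor.comp eg (FibCat.fpSnd y g))
  have hPa : P a.hom := prop_of_repByAlgSpWith h𝒳 h𝒴 P hPb hP f hf Fg _ V a e he hiso
  obtain ⟨iso⟩ := hiso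
  refine ⟨V, BasedFunctor.comp e (BasedFunctor.comp (fpPre eg (FibCat.fpSnd y g) f)
    (paste2 y g f)), isEquivOver_comp _ _ he (isEquivOver_comp _ _
      (isEquivOver_fpPre eg heg _ f) (isEquivOver_paste2 y g f)), ?_⟩
  have key : AlgSt.spMapOfOver (BasedFunctor.comp (BasedFunctor.comp e (BasedFunctor.comp
      (fpPre eg (FibCat.fpSnd y g) f) (paste2 y g f))) (FibCat.fpFst y (BasedFunctor.comp f g))) =
      a.hom ≫ AlgSt.spMapOfOver (BasedFunctor.comp eg (FibCat.fpFst y g)) := by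
    apply ObjectProperty.hom_ext
    have h1 : (AlgSt.spMapOfOver (BasedFunctor.comp (BasedFunctor.comp e (BasedFunctor.comp
        (fpPre eg (FibCat.fpSnd y g) f) (paste2 y g f)))
          (FibCat.fpFst y (BasedFunctor.comp f g)))).hom =
        (AlgSt.spMapOfOver (BasedFunctor.comp (BasedFunctor.comp e
          (FibCat.fpFst (BasedFunctor.comp eg (FibCat.fpSnd y g)) f))
          (BasedFunctor.comp eg (FibCat.fpFst y g)))).hom := by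
      rw [spMapOfOver_hom, spMapOfOver_hom]
      exact pshMapOf_congr_obj _ _ (fun v => rfl)
    rw [h1, spMapOfOver_comp, pshMapOf_congr iso.hom, pshMapOf_ofPshMap]
    rfl
  rw [key]
  exact hc V.property Fg.property (AlgSp.IsAlgSpace.yon_obj U) _ _ hPa hPg

/-- Mixed cancellation: if `a ⋙ b` has `Q` and the diagonal of `b` has `P`, and `P` followed by `Q` is `P`,
then `a` has `P`. -/
theorem repByAlgSpWith_of_comp_mixed {P Q : MorphismProperty (AlgSp.Sp S)} (hPb : BC P)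
    (hP : AlgSp.IsLocalOnBase AlgSp.IsFppfCover P)
    (hc : ∀ ⦃X Y Z : AlgSp.Sp S⦄, AlgSp.IsAlgSpace X → AlgSp.IsAlgSpace Y → AlgSp.IsAlgSpace Z →
      ∀ (a : X ⟶ Y) (b : Y ⟶ Z), P a → Q b → P (a ≫ b))
    (h𝒳 : FibCat.IsFibGrpd 𝒳.p) (h𝒴 : FibCat.IsFibGrpd 𝒴.p) (h𝒵 : FibCat.IsFibGrpd 𝒵.p)
    (a : 𝒳 ⥤ᵇ 𝒴) (b : 𝒴 ⥤ᵇ 𝒵) (hab : AlgSt.RepByAlgSpWith Q (BasedFunctor.comp a b))
    (hΔ : AlgSt.RepByAlgSpWith P (FibCat.diag b)) : AlgSt.RepByAlgSpWith P a := by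
  let e : BasedFunctor.comp (BasedFunctor.id 𝒳) (BasedFunctor.comp a b) ≅
      BasedFunctor.comp a b := Iso.refl _
  have hΓ := repByAlgSpWith_graph P h𝒳 h𝒴 h𝒵 (BasedFunctor.comp a b) b a e hΔ
  have hs := repByAlgSpWith_fpSnd Q (BasedFunctor.comp a b) b hab
  have hc := repByAlgSpWith_comp_mixed h𝒳 (isFibGrpd_fp _ _ h𝒳 h𝒴 h𝒵) P Q P hPb hP hc _ _ hΓ hs
  exact repByAlgSpWith_iso P (Iso.refl _) hc

variable {𝒲 : AlgSt.Cat S}

/-- Mixed version of `repByAlgSpWith_diag_toSelf_of_cover'`: the cover has `Q`, the diagonal of the cover over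
the base has `P`, and `P` followed by `Q` is `P`. -/
theorem repByAlgSpWith_diag_toSelf_of_cover_mixed {P Q : MorphismProperty (AlgSp.Sp S)} (hPb : BC P)
    (hP : AlgSp.IsLocalOnBase AlgSp.IsFppfCover P)
    (hc : ∀ ⦃X Y Z : AlgSp.Sp S⦄, AlgSp.IsAlgSpace X → AlgSp.IsAlgSpace Y → AlgSp.IsAlgSpace Z →
      ∀ (a : X ⟶ Y) (b : Y ⟶ Z), P a → Q b → P (a ≫ b))
    (h𝒳 : FibCat.IsFibGrpd 𝒳.p) (hΔ : AlgSt.RepByAlgSp1 (FibCat.diag (FibCat.toSelf 𝒳)))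
    (h𝒲 : AlgSt.RepByAlgSp 𝒲) (w : 𝒲 ⥤ᵇ 𝒳)
    (hw₁ : AlgSt.RepByAlgSpWith (AlgSp.LocP @Flat) w)
    (hw₂ : AlgSt.RepByAlgSpWith (AlgSp.LocP @LocallyOfFinitePresentation) w)
    (hw₃ : AlgSt.RepByAlgSpWith AlgSp.IsSurjectiveMor w)
    (hw₄ : AlgSt.RepByAlgSpWith Q w)
    (hΔ𝒲 : AlgSt.RepByAlgSpWith P (FibCat.diag (BasedFunctor.comp w (FibCat.toSelf 𝒳)))) :
    AlgSt.RepByAlgSpWith P (FibCat.diag (FibCat.toSelf 𝒳)) := by
  have hS := isFibGrpd_selfOver (Over S)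
  have f𝒲 := isFibGrpd_of_repByAlgSp h𝒲
  have hWW : FibCat.IsFibGrpd (FibCat.fp (BasedFunctor.comp w (FibCat.toSelf 𝒳))
      (BasedFunctor.comp w (FibCat.toSelf 𝒳))).p := isFibGrpd_fp _ _ f𝒲 f𝒲 hS
  have hww : FibCat.IsFibGrpd (FibCat.fp w w).p := isFibGrpd_fp _ _ f𝒲 f𝒲 h𝒳
  have hΔpr : AlgSt.RepByAlgSpWith P (FibCat.diag (FibCat.fpFst
      (BasedFunctor.comp w (FibCat.toSelf 𝒳)) (BasedFunctor.comp w (FibCat.toSelf 𝒳)))) :=
    repByAlgSpWith_diag_fpFst P f𝒲 hS f𝒲 _ _ hΔ𝒲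
  have hi : AlgSt.RepByAlgSpWith P (FibCat.fpLift (FibCat.fpFst w w) (FibCat.fpSnd w w)
      (compE w (FibCat.toSelf 𝒳))) := by
    refine repByAlgSpWith_of_comp_mixed hPb hP hc hww hWW f𝒲 _ (FibCat.fpFst _ _) ?_ hΔpr
    exact repByAlgSpWith_iso Q (Iso.refl _) (repByAlgSpWith_fpFst Q w w hw₄)
  have H2 : AlgSt.RepByAlgSpWith P (FibCat.fpFst (magN w w (FibCat.toSelf 𝒳))
      (FibCat.diag (FibCat.toSelf 𝒳))) :=
    repByAlgSpWith_of_square P _ (FibCat.fpLift (FibCat.fpFst w w) (FibCat.fpSnd w w)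
      (compE w (FibCat.toSelf 𝒳))) (magLam w w (FibCat.toSelf 𝒳) (compE w (FibCat.toSelf 𝒳))
      (fun _ => rfl)) (BasedFunctor.id _)
      (isEquivOver_magLam w w (FibCat.toSelf 𝒳) (compE w (FibCat.toSelf 𝒳)) (fun _ => rfl)
        f𝒲 f𝒲 h𝒳 hS) (isEquivOver_id _) (Iso.refl _) hi
  exact repByAlgSpWith_of_fpFst_cover h𝒳 (isFibGrpd_fp _ _ h𝒳 h𝒳 hS) hWW P hPb hP
    (FibCat.diag (FibCat.toSelf 𝒳)) hΔ (magN w w (FibCat.toSelf 𝒳))
    (repByAlgSpWith_magN good_flat f𝒲 f𝒲 h𝒳 hS w w _ hw₁ hw₁)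
    (repByAlgSpWith_magN good_lfp f𝒲 f𝒲 h𝒳 hS w w _ hw₂ hw₂)
    (repByAlgSpWith_magN good_surjective f𝒲 f𝒲 h𝒳 hS w w _ hw₃ hw₃) H2

end H10PT.QSG
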