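import Groth.Agent.Lib.Helper10.QSG1

/-!
# Helper library (helper10): the quasi-affine diagonal of the fppf quotient stack `[X/G]` for `G` affine, flat,
locally finitely presented and `X` quasi-separated.
-/

set_option autoImplicit false
set_option backward.isDefEq.respectTransparency false
set_option backward.isDefEq.respectTransparency.types false

universe u

open CategoryTheory CategoryTheory.Limits AlgebraicGeometry Opposite MonoidalCategory

namespace H10PT.QSG

open H10PT.QSC H10PT.QSE H10PT.QSF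
open AlgSt AlgSp
open Groth.Agent.Lib.Helper28.QuotSt.Rep Groth.Agent.Lib.Helper28.QuotSt.RepProps
open Groth.Agent.Lib.Helper16.AlgStDC Groth.Agent.Lib.Helper16
open Groth.Agent.Lib.Helper28.AlgSt.PropInst Groth.Agent.Lib.Helper28.AlgSt.DiagRep
open Groth.Agent.Lib.Helper28.AlgSt.Comp

variable {S : Scheme.{u}}

theorem bc_isQuasiAffineMor : BC (IsQuasiAffineMor (S := S)) :=
  fun _ _ _ _ _ _ _ _ _ _ _ _ sq h => isQuasiAffineMor_of_isPullback sq h

theorem loc_isQuasiAffineMor : AlgSp.IsLocalOnBase AlgSp.IsFppfCover (IsQuasiAffineMor (S := S)) :=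
  isLocalOnBase_fppf_of_fpqc isLocalOnBase_fpqc_isQuasiAffineMor

/-- A quasi-affine morphism followed by an affine morphism is quasi-affine. -/
theorem isQuasiAffineMor_comp_isAffineMor {F G H : Sp S} (a : F ⟶ G) (b : G ⟶ H)
    (ha : IsQuasiAffineMor a) (hb : IsAffineMor b) : IsQuasiAffineMor (a ≫ b) := by
  intro Z hZ z
  obtain ⟨W, i, φ, sqW, hW⟩ := hb hZ z
  obtain ⟨W', i', φ', sqW', hW'⟩ := ha hW φ
  refine ⟨W', i' ≫ i, φ', ?_, hW'⟩
  rw [Functor.map_comp]
  exact sqW'.paste_vert sqW

/-- Morphisms representable by quasi-compact immersions are quasi-affine. -/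
theorem isQuasiAffineMor_of_repWith_immersion {F G : Sp S} (f : F ⟶ G)
    (hf : RepWith (@IsImmersion ⊓ @QuasiCompact) f) : IsQuasiAffineMor f := by
  intro Z hZ z
  obtain ⟨W, i, φ, sqW⟩ := hf.rep z
  have hi := hf.property _ _ _ sqW
  haveI : IsImmersion i.left := hi.1
  haveI : QuasiCompact i.left := hi.2
  haveI : IsAffine Z.left := hZ
  haveI : CompactSpace ↥W.left := QuasiCompact.compactSpace_of_compactSpace i.left
  exact ⟨W, i, φ, sqW, Scheme.IsQuasiAffine.of_isImmersion i.left⟩

theorem isQuasiAffineMor_diagonal_yon {X : Over S} [QuasiSeparated X.hom]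
    (t : X ⟶ Over.mk (𝟙 S)) :
    AlgSp.IsQuasiAffineMor (pullback.diagonal ((AlgSp.yon S).map t)) := by
  apply isQuasiAffineMor_of_repWith_immersion
  rw [AlgSp.repWith_diagonal_yon_map_iff]
  have ht : t = Over.homMk X.hom := Over.mkIdTerminal.hom_ext _ _
  subst ht
  exact ⟨(inferInstance : IsImmersion (pullback.diagonal X.hom)),
    (inferInstance : QuasiCompact (pullback.diagonal X.hom))⟩

variable (G : Over S) [GrpObj G] {X : Over S} (aX : AlgGrp.Action G X)

/-- **Quasi-affine diagonal of `[X/G]` (fppf) for `G` affine flat lfp, `X` quasi-separated.** -/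
theorem repByAlgSpWith_isQuasiAffineMor_diag_quotSt_fppf [IsAffineHom G.hom] [Flat G.hom]
    [LocallyOfFinitePresentation G.hom] [QuasiSeparated X.hom] :
    RepByAlgSpWith IsQuasiAffineMor
      (FibCat.diag (FibCat.toSelf (QuotSt Scheme.fppfPrecoverage G aX))) :=
  repByAlgSpWith_diag_toSelf_of_cover_mixed (Q := IsAffineMor) bc_isQuasiAffineMor
    loc_isQuasiAffineMor
    (fun _ _ _ _ _ _ a b ha hb => isQuasiAffineMor_comp_isAffineMor a b ha hb)
    (isStack_quotSt G aX).1 (repByAlgSp1_diag_quotSt_fppf G aX)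
    (repByAlgSp_overCat X) (qm Scheme.fppfPrecoverage aX)
    (repByAlgSpWith_qm_flat aX) (repByAlgSpWith_qm_lfp aX) (repByAlgSpWith_qm_surjective aX)
    (qm_affine_fppf G aX)
    (repByAlgSpWith_diag_qm_toSelf Scheme.fppfPrecoverage G aX IsQuasiAffineMor
      bc_isQuasiAffineMor (isQuasiAffineMor_diagonal_yon _))

end H10PT.QSG
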