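import Groth.Agent.Lib.Helper10.QSG2
import Groth.Agent.Lib.Helper10.AlgStPtsTop

/-!
# Helper library (helper10): quasi-affine diagonal and smooth charts with quasi-affine affine opens, I.

* `repByAlgSpWith_of_comp_mixed3`: cancellation with three properties;
* `isQuasiAffineMor_of_isAffineMor_comp`: affine followed by quasi-affine is quasi-affine;
* `repByAlgSpWith_isAffineMor_comp_toSelf`: functors from schemes affine over the base to the base are affine;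
* `repByAlgSpWith_isQuasiAffineMor_of_diag`: if the diagonal is quasi-affine, every functor from a scheme affine
  over the base is quasi-affine;
* `repByAlgSpWith_fpFst_magN_of_quasiAffine`: the base change of the diagonal along a product of two quasi-affine
  functors from schemes affine over the base is quasi-affine.
-/

set_option autoImplicit false
set_option backward.isDefEq.respectTransparency false
set_option backward.isDefEq.respectTransparency.types false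

universe u

open CategoryTheory CategoryTheory.Limits AlgebraicGeometry Opposite MonoidalCategory

namespace H10PT.QSH

open H10PT.QSC H10PT.QSE H10PT.QSF H10PT.QSG
open AlgSt AlgSp
open Groth.Agent.Lib.Helper16.AlgStDC Groth.Agent.Lib.Helper16
open Groth.Agent.Lib.Helper10.Fib Groth.Agent.Lib.Helper10.StkPsh Groth.Agent.Lib.Helper10.AlgStRep
open Groth.Agent.Lib.Helper28.AlgSt.PropInst Groth.Agent.Lib.Helper28.AlgSt.Descent
open Groth.Agent.Lib.Helper28.AlgSt.DiagRep Groth.Agent.Lib.Helper28.AlgSt.Basic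
open Groth.Agent.Lib.Helper28.AlgSt.Key Groth.Agent.Lib.Helper28.AlgSt.SpaceCalc
open Groth.Agent.Lib.Helper28.AlgSt.Bridge Groth.Agent.Lib.Helper28.AlgSt.DiagComp
open Groth.Agent.Lib.Helper28.AlgSt.Comp Groth.Agent.Lib.Helper28.AlgSt.FpStack

variable {S : Scheme.{u}} {𝒳 𝒴 𝒵 : AlgSt.Cat S}

/-- Cancellation with three properties: if `a ⋙ b` has `Q`, the diagonal of `b` has `P`, and `P` followed by `Q`
is `R`, then `a` has `R`. -/
theorem repByAlgSpWith_of_comp_mixed3 {P Q R : MorphismProperty (AlgSp.Sp S)} (hPb : BC P)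
    (hP : AlgSp.IsLocalOnBase AlgSp.IsFppfCover P)
    (hc : ∀ ⦃X Y Z : AlgSp.Sp S⦄, AlgSp.IsAlgSpace X → AlgSp.IsAlgSpace Y → AlgSp.IsAlgSpace Z →
      ∀ (a : X ⟶ Y) (b : Y ⟶ Z), P a → Q b → R (a ≫ b))
    (h𝒳 : FibCat.IsFibGrpd 𝒳.p) (h𝒴 : FibCat.IsFibGrpd 𝒴.p) (h𝒵 : FibCat.IsFibGrpd 𝒵.p)
    (a : 𝒳 ⥤ᵇ 𝒴) (b : 𝒴 ⥤ᵇ 𝒵) (hab : AlgSt.RepByAlgSpWith Q (BasedFunctor.comp a b))
    (hΔ : AlgSt.RepByAlgSpWith P (FibCat.diag b)) : AlgSt.RepByAlgSpWith R a := by
  let e : BasedFunctor.comp (BasedFunctor.id 𝒳) (BasedFunctor.comp a b) ≅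
      BasedFunctor.comp a b := Iso.refl _
  have hΓ := repByAlgSpWith_graph P h𝒳 h𝒴 h𝒵 (BasedFunctor.comp a b) b a e hΔ
  have hs := repByAlgSpWith_fpSnd Q (BasedFunctor.comp a b) b hab
  have hc := repByAlgSpWith_comp_mixed h𝒳 (isFibGrpd_fp _ _ h𝒳 h𝒴 h𝒵) P Q R hPb hP hc _ _ hΓ hs
  exact repByAlgSpWith_iso R (Iso.refl _) hc

/-- An affine morphism followed by a quasi-affine morphism is quasi-affine. -/
theorem isQuasiAffineMor_of_isAffineMor_comp {F G H : Sp S} (hF : IsAlgSpace F) (hG : IsAlgSpace G)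
    (a : F ⟶ G) (b : G ⟶ H) (ha : IsAffineMor a) (hb : IsQuasiAffineMor b) :
    IsQuasiAffineMor (a ≫ b) := by
  intro Z hZ z
  obtain ⟨W, i, φ, sqW, hW⟩ := hb hZ z
  have hrep := repWith_isAffineHom_of_isAffineMor hF hG a ha
  obtain ⟨W', i', φ', sqW'⟩ := hrep.rep φ
  haveI : IsAffineHom i'.left := hrep.property _ _ _ sqW'
  haveI := hW
  refine ⟨W', i' ≫ i, φ', ?_, Scheme.IsQuasiAffine.of_isAffineHom i'.left⟩
  rw [Functor.map_comp]
  exact sqW'.paste_vert sqW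

/-- Every functor over the base from a scheme affine over the base to the base is affine. -/
theorem repByAlgSpWith_isAffineMor_to_selfOver (W : Over S) [IsAffineHom W.hom]
    (g : FibCat.overCat W ⥤ᵇ FibCat.selfOver (Over S)) : RepByAlgSpWith IsAffineMor g := by
  have hm : IsAffineMor ((AlgSp.yon S).map (Over.homMk W.hom : W ⟶ Over.mk (𝟙 S))) := by
    apply isAffineMor_of_repWith_le_isAffineHom le_rfl
    rw [AlgSp.repWith_yon_map_iff]
    exact (inferInstance : IsAffineHom W.hom)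
  exact repByAlgSpWith_of_prop_map IsAffineMor good_affine.bc (A := (AlgSp.ofScheme S).obj W)
    (B := (AlgSp.ofScheme S).obj (Over.mk (𝟙 S)))
    (AlgSt.toOverCat W) (FibCat.toSelf (AlgSt.ofSch (Over.mk (𝟙 S)))) (isEquivOver_toOverCat W)
    isEquivOver_toSelf_ofSch_terminal g
    (ObjectProperty.homMk ((AlgSp.yon S).map (Over.homMk W.hom : W ⟶ Over.mk (𝟙 S))))
    (selfIso _ _) hm

/-- If the diagonal of `𝒳` over the base is quasi-affine, then every functor to `𝒳` from a scheme affine over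
the base is quasi-affine. -/
theorem repByAlgSpWith_isQuasiAffineMor_of_diag (h𝒳 : FibCat.IsFibGrpd 𝒳.p)
    (hΔ : RepByAlgSpWith IsQuasiAffineMor (FibCat.diag (FibCat.toSelf 𝒳)))
    (W : Over S) [IsAffineHom W.hom] (v : FibCat.overCat W ⥤ᵇ 𝒳) :
    RepByAlgSpWith IsQuasiAffineMor v :=
  repByAlgSpWith_of_comp_mixed bc_isQuasiAffineMor loc_isQuasiAffineMor
    (fun _ _ _ _ _ _ a b ha hb => isQuasiAffineMor_comp_isAffineMor a b ha hb)
    (isFibGrpd_overForget W) h𝒳 (isFibGrpd_selfOver (Over S)) v (FibCat.toSelf 𝒳)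
    (repByAlgSpWith_isAffineMor_to_selfOver W _) hΔ

/-- For `v₁`, `v₂` functors to `𝒳` from schemes affine over the base with `v₁` quasi-affine, the functor
`V₁ ×_𝒳 V₂ ⟶ V₁ ×_S V₂` is quasi-affine. -/
theorem repByAlgSpWith_magic_of_quasiAffine (h𝒳 : FibCat.IsFibGrpd 𝒳.p)
    (V₁ V₂ : Over S) [IsAffineHom V₁.hom] (v₁ : FibCat.overCat V₁ ⥤ᵇ 𝒳)
    (v₂ : FibCat.overCat V₂ ⥤ᵇ 𝒳) (hv₁ : RepByAlgSpWith IsQuasiAffineMor v₁) :
    RepByAlgSpWith IsQuasiAffineMor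
      (FibCat.fpLift (FibCat.fpFst v₁ v₂) (FibCat.fpSnd v₁ v₂) (magE v₁ v₂)) := by
  have f₁ := isFibGrpd_overForget V₁
  have f₂ := isFibGrpd_overForget V₂
  have hS := isFibGrpd_selfOver (Over S)
  have hb : RepByAlgSpWith IsAffineMor
      (FibCat.fpSnd (BasedFunctor.comp v₁ (FibCat.toSelf 𝒳))
        (BasedFunctor.comp v₂ (FibCat.toSelf 𝒳))) :=
    repByAlgSpWith_fpSnd IsAffineMor _ _ (repByAlgSpWith_isAffineMor_to_selfOver V₁ _)
  have hΔb := repByAlgSpWith_isAffineMor_diag_of_isAffineMor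
    (isFibGrpd_fp _ _ f₁ f₂ hS) f₂ _ hb
  refine repByAlgSpWith_of_comp_mixed3 (P := IsAffineMor) (Q := IsQuasiAffineMor)
    good_affine.bc good_affine.loc
    (fun _ _ _ hX hY _ a b ha hb => isQuasiAffineMor_of_isAffineMor_comp hX hY a b ha hb)
    (isFibGrpd_fp _ _ f₁ f₂ h𝒳) (isFibGrpd_fp _ _ f₁ f₂ hS) f₂ _
    (FibCat.fpSnd (BasedFunctor.comp v₁ (FibCat.toSelf 𝒳))
      (BasedFunctor.comp v₂ (FibCat.toSelf 𝒳))) ?_ hΔb
  exact repByAlgSpWith_iso IsQuasiAffineMor (Iso.refl _)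
    (repByAlgSpWith_fpSnd IsQuasiAffineMor v₁ v₂ hv₁)

/-- The base change of the diagonal of `𝒳` along the product of `v₁` and `v₂` is quasi-affine. -/
theorem repByAlgSpWith_fpFst_magN_of_quasiAffine (h𝒳 : FibCat.IsFibGrpd 𝒳.p)
    (V₁ V₂ : Over S) [IsAffineHom V₁.hom] (v₁ : FibCat.overCat V₁ ⥤ᵇ 𝒳)
    (v₂ : FibCat.overCat V₂ ⥤ᵇ 𝒳) (hv₁ : RepByAlgSpWith IsQuasiAffineMor v₁) :
    RepByAlgSpWith IsQuasiAffineMor
      (FibCat.fpFst (magN v₁ v₂ (FibCat.toSelf 𝒳)) (FibCat.diag (FibCat.toSelf 𝒳))) :=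
  repByAlgSpWith_of_square IsQuasiAffineMor _
    (FibCat.fpLift (FibCat.fpFst v₁ v₂) (FibCat.fpSnd v₁ v₂) (magE v₁ v₂))
    (magLam v₁ v₂ (FibCat.toSelf 𝒳) (magE v₁ v₂) (magE_app v₁ v₂)) (BasedFunctor.id _)
    (isEquivOver_magLam v₁ v₂ (FibCat.toSelf 𝒳) (magE v₁ v₂) (magE_app v₁ v₂)
      (isFibGrpd_overForget V₁) (isFibGrpd_overForget V₂) h𝒳 (isFibGrpd_selfOver (Over S)))
    (isEquivOver_id _) (Iso.refl _)
    (repByAlgSpWith_magic_of_quasiAffine h𝒳 V₁ V₂ v₁ v₂ hv₁)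

end H10PT.QSH
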