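import Mathlib
import Groth.Agent.Lib.Helper16.AlgSt.LocalLift

/-!
# Helper library (helper10): descent of `RepByAlgSpWith P` along a family of 1-morphisms with fppf-local liftings
-/

set_option autoImplicit false
set_option backward.isDefEq.respectTransparency false
set_option backward.isDefEq.respectTransparency.types false

universe u

open CategoryTheory CategoryTheory.Limits AlgebraicGeometry Opposite

namespace H10PT.QSH

open Groth.Agent.Lib.Helper16.AlgStDC Groth.Agent.Lib.Helper16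

open Groth.Agent.Lib.Helper10.Fib Groth.Agent.Lib.Helper10.StkPsh
open Groth.Agent.Lib.Helper10.AlgStRep Groth.Agent.Lib.Helper10.LiftSqBC
open Groth.Agent.Lib.Helper28.AlgSt.PshFun Groth.Agent.Lib.Helper28.AlgSt.PshPull
open Groth.Agent.Lib.Helper28.AlgSt.ClsPsh Groth.Agent.Lib.Helper28.AlgSt.Bridge
open Groth.Agent.Lib.Helper28.AlgSt.Key Groth.Agent.Lib.Helper28.AlgSt.PropInst
open Groth.Agent.Lib.Helper28.AlgSt.Comp Groth.Agent.Lib.Helper28.AlgSt.Whisker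
open Groth.Agent.Lib.Helper28.AlgSt.SpaceCalc Groth.Agent.Lib.Helper28.AlgSt.Chart
open Groth.Agent.Lib.Helper28.AlgSt.ChartOver Groth.Agent.Lib.Helper28.AlgSt.FpStack
open Groth.Agent.Lib.Helper28.AlgSt.DiagComp Groth.Agent.Lib.Helper28.AlgSt.Descent

variable {S : Scheme.{u}} {𝒳 𝒴 : AlgSt.Cat S}

/-- Descent of `RepByAlgSpWith P` along a family of 1-morphisms `g : 𝒵 ⟶ 𝒴` through which every chart of `𝒴`
factors fppf locally (the member of the family may depend on the arrow of the covering sieve). -/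
theorem repByAlgSpWith_of_local_lift_family (h𝒳 : FibCat.IsFibGrpd 𝒳.p) (h𝒴 : FibCat.IsFibGrpd 𝒴.p)
    (P : MorphismProperty (AlgSp.Sp S)) (hPb : BC P)
    (hP : AlgSp.IsLocalOnBase AlgSp.IsFppfCover P)
    (f : 𝒳 ⥤ᵇ 𝒴) (hf : AlgSt.RepByAlgSp1 f)
    (hg : ∀ (U : Over S) (y : FibCat.overCat U ⥤ᵇ 𝒴),
      ∃ R ∈ (QuotSh.J Scheme.fppfPrecoverage S) U,
      ∀ ⦃V : Over S⦄ (h : V ⟶ U), R.arrows h →
        ∃ (𝒵 : AlgSt.Cat S) (g : 𝒵 ⥤ᵇ 𝒴) (z : FibCat.overCat V ⥤ᵇ 𝒵),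
          Nonempty (BasedFunctor.comp z g ≅ BasedFunctor.comp (AlgSt.overMap h) y) ∧
          AlgSt.RepByAlgSpWith P (FibCat.fpFst g f)) : AlgSt.RepByAlgSpWith P f := by
  apply repByAlgSpWith_of_forall_scheme
  intro U y
  obtain ⟨V, a, e, he, ⟨iso₁⟩⟩ := exists_space_fp h𝒳 h𝒴 f hf (spOf U)
    (BasedFunctor.comp (AlgSt.toOverCat U) y)
  refine ⟨V, a, e, he, ⟨iso₁⟩, ?_⟩
  obtain ⟨R, hR, hRz⟩ := hg U y
  change R ∈ AlgSp.J S U at hR
  rw [AlgSp.J_eq, GrothendieckTopology.mem_over_iff] at hR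
  obtain ⟨𝒰, hle⟩ := (Scheme.mem_grothendieckTopology_iff
    (P := @Flat ⊓ @LocallyOfFinitePresentation)).1 hR
  have hRk : ∀ k, R.arrows (Over.homMk (𝒰.f k) : Over.mk (𝒰.f k ≫ U.hom) ⟶ U) := fun k => by
    have h1 := hle _ _ (Presieve.ofArrows.mk k)
    rwa [Sieve.overEquiv_iff] at h1
  have hsq : ∀ k, IsPullback
      (pullback.fst a.hom (spHom (Over.homMk (𝒰.f k) : Over.mk (𝒰.f k ≫ U.hom) ⟶ U)).hom)
      (pullback.snd a.hom (spHom (Over.homMk (𝒰.f k) : Over.mk (𝒰.f k ≫ U.hom) ⟶ U)).hom)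
      a.hom (spHom (Over.homMk (𝒰.f k) : Over.mk (𝒰.f k ≫ U.hom) ⟶ U)).hom :=
    fun k => IsPullback.of_hasPullback _ _
  have hX' : ∀ k, AlgSp.IsAlgSpace
      (pullback a.hom (spHom (Over.homMk (𝒰.f k) : Over.mk (𝒰.f k ≫ U.hom) ⟶ U)).hom) :=
    fun k => Groth.Agent.Lib.Helper16.isAlgSpace_of_isPullback V.property
      (spOf U).property.diag (spOf (Over.mk (𝒰.f k ≫ U.hom))).property (hsq k)
  have hC : ∀ k, P (pullback.snd a.hom
      (spHom (Over.homMk (𝒰.f k) : Over.mk (𝒰.f k ≫ U.hom) ⟶ U)).hom) := fun k => by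
    obtain ⟨𝒵, g, zk, ⟨φ⟩, h'⟩ := hRz _ (hRk k)
    obtain ⟨Vk, hVk⟩ : ∃ Vk : Over S, Vk = Over.mk (𝒰.f k ≫ U.hom) := ⟨_, rfl⟩
    obtain ⟨hk, hhk⟩ : ∃ hk : Over.mk (𝒰.f k ≫ U.hom) ⟶ U, hk = Over.homMk (𝒰.f k) := ⟨_, rfl⟩
    rw [← hhk] at φ ⊢
    have sq := IsPullback.of_hasPullback a.hom (spHom hk).hom
    have hXk : AlgSp.IsAlgSpace (pullback a.hom (spHom hk).hom) :=
      Groth.Agent.Lib.Helper16.isAlgSpace_of_isPullback V.property
        (spOf U).property.diag (spOf (Over.mk (𝒰.f k ≫ U.hom))).property sq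
    let C : AlgSp.Space S := spOf (Over.mk (𝒰.f k ≫ U.hom))
    let c : C ⟶ spOf U := spHom hk
    let ζ : AlgSt.ofSp (spOf U).obj ⥤ᵇ 𝒴 := BasedFunctor.comp (AlgSt.toOverCat U) y
    let ζ' : AlgSt.ofSp C.obj ⥤ᵇ 𝒵 :=
      BasedFunctor.comp (AlgSt.toOverCat (Over.mk (𝒰.f k ≫ U.hom))) zk
    let θ : BasedFunctor.comp (AlgSt.ofSpMap c.hom) ζ ≅ BasedFunctor.comp ζ' g :=
      (show BasedFunctor.comp (AlgSt.ofSpMap c.hom) ζ ≅
        BasedFunctor.comp (BasedFunctor.comp (AlgSt.ofSpMap ((AlgSp.yon S).map hk))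
          (AlgSt.toOverCat U)) y from Iso.refl _) ≪≫
      wr (nuIso hk).symm y ≪≫
      (show BasedFunctor.comp (BasedFunctor.comp (AlgSt.toOverCat (Over.mk (𝒰.f k ≫ U.hom)))
          (AlgSt.overMap hk)) y ≅
        BasedFunctor.comp (AlgSt.toOverCat (Over.mk (𝒰.f k ≫ U.hom)))
          (BasedFunctor.comp (AlgSt.overMap hk) y) from Iso.refl _) ≪≫
      wl (AlgSt.toOverCat (Over.mk (𝒰.f k ≫ U.hom))) φ.symm ≪≫
      (show BasedFunctor.comp (AlgSt.toOverCat (Over.mk (𝒰.f k ≫ U.hom)))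
          (BasedFunctor.comp zk g) ≅ BasedFunctor.comp ζ' g from Iso.refl _)
    let X' : AlgSp.Space S := ⟨pullback a.hom c.hom, hXk⟩
    let p : X' ⟶ C := ObjectProperty.homMk (pullback.snd a.hom c.hom)
    have sqP : IsPullback (pullback.fst a.hom c.hom).hom (pullback.snd a.hom c.hom).hom
        a.hom.hom c.hom.hom := sq.map (sheafToPresheaf (AlgSp.J S) (Type (u + 1)))
    let Φ₁ : AlgSt.ofSp X'.obj ⥤ᵇ FibCat.fp (AlgSt.ofSpMap c.hom) (AlgSt.ofSpMap a.hom) :=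
      pullFun sqP
    have hΦ₁ : FibCat.IsEquivOver Φ₁ := pullFun_isEquivOver sqP
    let Φ₂ : FibCat.fp (AlgSt.ofSpMap c.hom) (AlgSt.ofSpMap a.hom) ⥤ᵇ
        FibCat.fp (AlgSt.ofSpMap c.hom) (FibCat.fpFst ζ f) :=
      fpMap (γ := BasedFunctor.id (AlgSt.ofSp (spOf U).obj))
        (α := BasedFunctor.id (AlgSt.ofSp C.obj))
        (β := e) (G' := AlgSt.ofSpMap c.hom) (G := AlgSt.ofSpMap c.hom)
        (f' := AlgSt.ofSpMap a.hom) (f := FibCat.fpFst ζ f) (Iso.refl _) iso₁.symm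
    have hΦ₂ : FibCat.IsEquivOver Φ₂ := by
      have := id_full (AlgSt.ofSp (spOf U).obj)
      have := id_faithful (AlgSt.ofSp (spOf U).obj)
      exact isEquivOver_fpMap _ _ (isEquivOver_id _) he
    let Φ₃ := paste1 (AlgSt.ofSpMap c.hom) ζ f
    have hΦ₃ : FibCat.IsEquivOver Φ₃ := isEquivOver_paste1 _ _ _
    let Φ₄ : FibCat.fp (BasedFunctor.comp (AlgSt.ofSpMap c.hom) ζ) f ⥤ᵇ
        FibCat.fp (BasedFunctor.comp ζ' g) f :=
      fpMap (γ := BasedFunctor.id 𝒴) (α := BasedFunctor.id (AlgSt.ofSp C.obj))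
        (β := BasedFunctor.id 𝒳) (G' := BasedFunctor.comp (AlgSt.ofSpMap c.hom) ζ)
        (G := BasedFunctor.comp ζ' g) (f' := f) (f := f) θ (Iso.refl _)
    have hΦ₄ : FibCat.IsEquivOver Φ₄ := by
      have := id_full 𝒴
      have := id_faithful 𝒴
      exact isEquivOver_fpMap _ _ (isEquivOver_id _) (isEquivOver_id _)
    let Φ := BasedFunctor.comp Φ₁ (BasedFunctor.comp Φ₂ (BasedFunctor.comp Φ₃ Φ₄))
    have hΦ : FibCat.IsEquivOver Φ :=
      isEquivOver_comp _ _ hΦ₁ (isEquivOver_comp _ _ hΦ₂ (isEquivOver_comp _ _ hΦ₃ hΦ₄))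
    have hA₀ : AlgSt.RepByAlgSpWith P (FibCat.fpFst ζ' (FibCat.fpFst g f)) :=
      repByAlgSpWith_fpFst P (FibCat.fpFst g f) ζ' h'
    have hA : AlgSt.RepByAlgSpWith P (FibCat.fpFst (BasedFunctor.comp ζ' g) f) :=
      repByAlgSpWith_of_square P (FibCat.fpFst (BasedFunctor.comp ζ' g) f)
        (FibCat.fpFst ζ' (FibCat.fpFst g f)) (paste1 ζ' g f) (BasedFunctor.id _)
        (isEquivOver_paste1 _ _ _) (isEquivOver_id _) (Iso.refl _) hA₀
    have isoB : BasedFunctor.comp (AlgSt.ofSpMap p.hom) (BasedFunctor.id _) ≅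
        BasedFunctor.comp Φ (FibCat.fpFst (BasedFunctor.comp ζ' g) f) :=
      isoOfPointwise _ _ (fun v => ⟨𝟙 _, IsHomLift.id rfl⟩)
    have hB : AlgSt.RepByAlgSpWith P (AlgSt.ofSpMap p.hom) :=
      repByAlgSpWith_of_square' P (FibCat.fpFst (BasedFunctor.comp ζ' g) f) (AlgSt.ofSpMap p.hom)
        Φ (BasedFunctor.id _) hΦ (isEquivOver_id _) isoB hA
    exact prop_of_repByAlgSpWith_ofSpMap P hPb hP p hB
  have hcov : AlgSp.IsFppfCover
      (fun k : 𝒰.I₀ => (spOf (Over.mk (𝒰.f k ≫ U.hom))).obj)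
      (fun k => (spHom (Over.homMk (𝒰.f k) : Over.mk (𝒰.f k ≫ U.hom) ⟶ U)).hom) := by
    refine ⟨fun k => ⟨?_, ?_⟩, fun x => ?_⟩
    · exact locP_yon_of Groth.Agent.Lib.Helper16.etLocalST_flat _ (𝒰.map_prop k).1
    · exact locP_yon_of Groth.Agent.Lib.Helper16.etLocalST_locallyOfFinitePresentation _
        (𝒰.map_prop k).2
    · obtain ⟨t, rfl⟩ := (AlgSp.Points.schemeHomeo U).surjective x
      obtain ⟨k, v, hv⟩ := 𝒰.exists_eq t
      refine ⟨k, AlgSp.Points.schemeHomeo (Over.mk (𝒰.f k ≫ U.hom)) v, ?_⟩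
      change AlgSp.Points.map ((AlgSp.yon S).map (Over.homMk (𝒰.f k) :
        Over.mk (𝒰.f k ≫ U.hom) ⟶ U)) _ = _
      rw [AlgSp.Points.map_yon_map_apply]
      exact congrArg _ hv
  exact (hP _ _ (spOf U).property (fun k => (spOf (Over.mk (𝒰.f k ≫ U.hom))).property) hcov a.hom
    V.property _ _ _ hX' hsq).2 hC

end H10PT.QSH
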