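import Groth.Agent.Lib.Helper10.QSH1
import Groth.Agent.Lib.Helper10.QSH2
import Groth.Agent.Lib.Helper16.AlgSt.FppfLift
import Groth.Agent.Lib.Helper29.QuotUnpack

/-!
# Helper library (helper10): quasi-affine diagonal and smooth charts with quasi-affine affine opens, II.

The local lifting of a pair of objects through pairs of affine opens of a smooth chart.
-/

set_option autoImplicit false
set_option backward.isDefEq.respectTransparency false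
set_option backward.isDefEq.respectTransparency.types false

universe u

open CategoryTheory CategoryTheory.Limits AlgebraicGeometry Opposite MonoidalCategory

namespace H10PT.QSH

open H10PT.QSC H10PT.QSE H10PT.QSF H10PT.QSG
open AlgSt AlgSp
open Groth.Agent.Lib.Helper16.AlgStDC Groth.Agent.Lib.Helper16
open Groth.Agent.Lib.Helper10.Fib Groth.Agent.Lib.Helper10.StkPsh Groth.Agent.Lib.Helper10.AlgStRep
open Groth.Agent.Lib.Helper28.AlgSt.PropInst Groth.Agent.Lib.Helper28.AlgSt.Descent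
open Groth.Agent.Lib.Helper28.AlgSt.DiagRep Groth.Agent.Lib.Helper28.AlgSt.Basic
open Groth.Agent.Lib.Helper28.AlgSt.Key Groth.Agent.Lib.Helper28.AlgSt.SpaceCalc
open Groth.Agent.Lib.Helper28.AlgSt.Bridge Groth.Agent.Lib.Helper28.AlgSt.DiagComp
open Groth.Agent.Lib.Helper28.AlgSt.Comp Groth.Agent.Lib.Helper28.AlgSt.FpStack
open Groth.Agent.Lib.Helper28.AlgSt.Whisker Groth.Agent.Lib.Helper28.AlgSt.ChartOver

variable {S : Scheme.{u}} {𝒳 : AlgSt.Cat S}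

/-- One component of the comparison 2-isomorphism. -/
theorem nonempty_iso_component {T' Tk U Vo : Over S} (x : FibCat.overCat U ⥤ᵇ 𝒳)
    (s₁ : FibCat.overCat T' ⥤ᵇ FibCat.overCat U) (j : Tk ⟶ T') (r : Tk ⟶ Vo) (jV : Vo ⟶ U)
    (heq : r ≫ jV = j ≫ homOfOver s₁) :
    Nonempty (BasedFunctor.comp (AlgSt.overMap r) (BasedFunctor.comp (AlgSt.overMap jV) x) ≅
      BasedFunctor.comp (AlgSt.overMap j) (BasedFunctor.comp s₁ x)) := by
  have e1 : BasedFunctor.comp (AlgSt.overMap r) (AlgSt.overMap jV) ≅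
      BasedFunctor.comp (AlgSt.overMap j) s₁ := by
    refine overMapCompIso r jV ≪≫ ?_
    rw [heq]
    exact (overMapCompIso j (homOfOver s₁)).symm ≪≫ wl (AlgSt.overMap j) (isoOverMap s₁).symm
  exact ⟨(show BasedFunctor.comp (AlgSt.overMap r) (BasedFunctor.comp (AlgSt.overMap jV) x) ≅
      BasedFunctor.comp (BasedFunctor.comp (AlgSt.overMap r) (AlgSt.overMap jV)) x from Iso.refl _) ≪≫
    wr e1 x ≪≫
    (show BasedFunctor.comp (BasedFunctor.comp (AlgSt.overMap j) s₁) x ≅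
      BasedFunctor.comp (AlgSt.overMap j) (BasedFunctor.comp s₁ x) from Iso.refl _)⟩

/-- The arrows over which the pair of objects classified by `H` lifts through a member of the family. -/
def liftSieve (T : Over S)
    (H : FibCat.overCat T ⥤ᵇ FibCat.fp (FibCat.toSelf 𝒳) (FibCat.toSelf 𝒳)) : Sieve T where
  arrows := fun V h => ∃ (𝒵 : AlgSt.Cat S)
    (g : 𝒵 ⥤ᵇ FibCat.fp (FibCat.toSelf 𝒳) (FibCat.toSelf 𝒳)) (z : FibCat.overCat V ⥤ᵇ 𝒵),
    Nonempty (BasedFunctor.comp z g ≅ BasedFunctor.comp (AlgSt.overMap h) H) ∧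
      RepByAlgSpWith IsQuasiAffineMor (FibCat.fpFst g (FibCat.diag (FibCat.toSelf 𝒳)))
  downward_closed := by
    rintro V V' h ⟨𝒵, g, z, ⟨φ⟩, hP⟩ h'
    refine ⟨𝒵, g, BasedFunctor.comp (AlgSt.overMap h') z, ⟨?_⟩, hP⟩
    exact (show BasedFunctor.comp (BasedFunctor.comp (AlgSt.overMap h') z) g ≅
        BasedFunctor.comp (AlgSt.overMap h') (BasedFunctor.comp z g) from Iso.refl _) ≪≫
      wl (AlgSt.overMap h') φ ≪≫
      (show BasedFunctor.comp (AlgSt.overMap h') (BasedFunctor.comp (AlgSt.overMap h) H) ≅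
        BasedFunctor.comp (BasedFunctor.comp (AlgSt.overMap h') (AlgSt.overMap h)) H from
        Iso.refl _) ≪≫
      wr (overMapCompIso h' h) H

/-- The pair of affine opens through which the two lifts factor, as a member of the lifting sieve. -/
theorem liftSieve_mem_of_affine_pair [IsAffine S] (h𝒳 : FibCat.IsFibGrpd 𝒳.p)
    (U : Over S) (x : FibCat.overCat U ⥤ᵇ 𝒳)
    (hV : ∀ (V : U.left.Opens), IsAffineOpen V →
      RepByAlgSpWith IsQuasiAffineMor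
        (BasedFunctor.comp (AlgSt.overMap (Over.homMk V.ι rfl : Over.mk (V.ι ≫ U.hom) ⟶ U)) x))
    (T : Over S) (H : FibCat.overCat T ⥤ᵇ FibCat.fp (FibCat.toSelf 𝒳) (FibCat.toSelf 𝒳))
    {T' : Over S} (c : T' ⟶ T)
    (s : FibCat.overCat T' ⥤ᵇ FibCat.fp (BasedFunctor.comp x (FibCat.toSelf 𝒳))
      (BasedFunctor.comp x (FibCat.toSelf 𝒳)))
    (ι : BasedFunctor.comp s (magN x x (FibCat.toSelf 𝒳)) ≅ BasedFunctor.comp (AlgSt.overMap c) H)
    (V₁ V₂ : U.left.Opens) (hV₁ : IsAffineOpen V₁) (hV₂ : IsAffineOpen V₂)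
    {Tk : Over S} (j : Tk ⟶ T')
    (r₁ : Tk ⟶ Over.mk (V₁.ι ≫ U.hom)) (r₂ : Tk ⟶ Over.mk (V₂.ι ≫ U.hom))
    (h₁ : r₁ ≫ (Over.homMk V₁.ι rfl : Over.mk (V₁.ι ≫ U.hom) ⟶ U) =
      j ≫ homOfOver (BasedFunctor.comp s (FibCat.fpFst _ _)))
    (h₂ : r₂ ≫ (Over.homMk V₂.ι rfl : Over.mk (V₂.ι ≫ U.hom) ⟶ U) =
      j ≫ homOfOver (BasedFunctor.comp s (FibCat.fpSnd _ _))) :
    (liftSieve T H).arrows (j ≫ c) := by
  obtain ⟨t, ht⟩ : ∃ t : 𝒳 ⥤ᵇ FibCat.selfOver (Over S), t = FibCat.toSelf 𝒳 := ⟨_, rfl⟩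
  obtain ⟨jV₁, hjV₁⟩ : ∃ jV₁ : Over.mk (V₁.ι ≫ U.hom) ⟶ U, jV₁ = Over.homMk V₁.ι rfl := ⟨_, rfl⟩
  obtain ⟨jV₂, hjV₂⟩ : ∃ jV₂ : Over.mk (V₂.ι ≫ U.hom) ⟶ U, jV₂ = Over.homMk V₂.ι rfl := ⟨_, rfl⟩
  haveI : IsAffine (V₁ : Scheme.{u}) := hV₁
  haveI : IsAffine (V₂ : Scheme.{u}) := hV₂
  haveI : IsAffineHom (Over.mk (V₁.ι ≫ U.hom)).hom :=
    (inferInstance : IsAffineHom (V₁.ι ≫ U.hom))
  have hv₁ := hV V₁ hV₁
  rw [← hjV₁] at hv₁ h₁
  rw [← hjV₂] at h₂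
  obtain ⟨β₁⟩ := nonempty_iso_component x (BasedFunctor.comp s (FibCat.fpFst _ _)) j r₁ jV₁ h₁
  obtain ⟨β₂⟩ := nonempty_iso_component x (BasedFunctor.comp s (FibCat.fpSnd _ _)) j r₂ jV₂ h₂
  refine ⟨_, magN (BasedFunctor.comp (AlgSt.overMap jV₁) x) (BasedFunctor.comp (AlgSt.overMap jV₂) x)
    (FibCat.toSelf 𝒳),
    FibCat.fpLift (AlgSt.overMap r₁) (AlgSt.overMap r₂) (selfIso _ _), ⟨?_⟩,
    repByAlgSpWith_fpFst_magN_of_quasiAffine h𝒳 _ _ _ _ hv₁⟩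
  refine fpSelfIso ?_ ?_
  · refine (show _ ≅ BasedFunctor.comp (AlgSt.overMap r₁)
        (BasedFunctor.comp (AlgSt.overMap jV₁) x) from Iso.refl _) ≪≫ β₁ ≪≫ ?_
    refine (show BasedFunctor.comp (AlgSt.overMap j)
        (BasedFunctor.comp (BasedFunctor.comp s (FibCat.fpFst _ _)) x) ≅
      BasedFunctor.comp (AlgSt.overMap j) (BasedFunctor.comp
        (BasedFunctor.comp s (magN x x (FibCat.toSelf 𝒳))) (FibCat.fpFst _ _)) from Iso.refl _) ≪≫
      wl (AlgSt.overMap j) (wr ι (FibCat.fpFst _ _)) ≪≫ ?_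
    exact (show BasedFunctor.comp (AlgSt.overMap j) (BasedFunctor.comp
        (BasedFunctor.comp (AlgSt.overMap c) H) (FibCat.fpFst _ _)) ≅
      BasedFunctor.comp (BasedFunctor.comp (AlgSt.overMap j) (AlgSt.overMap c))
        (BasedFunctor.comp H (FibCat.fpFst _ _)) from Iso.refl _) ≪≫
      wr (overMapCompIso j c) (BasedFunctor.comp H (FibCat.fpFst _ _))
  · refine (show _ ≅ BasedFunctor.comp (AlgSt.overMap r₂)
        (BasedFunctor.comp (AlgSt.overMap jV₂) x) from Iso.refl _) ≪≫ β₂ ≪≫ ?_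
    refine (show BasedFunctor.comp (AlgSt.overMap j)
        (BasedFunctor.comp (BasedFunctor.comp s (FibCat.fpSnd _ _)) x) ≅
      BasedFunctor.comp (AlgSt.overMap j) (BasedFunctor.comp
        (BasedFunctor.comp s (magN x x (FibCat.toSelf 𝒳))) (FibCat.fpSnd _ _)) from Iso.refl _) ≪≫
      wl (AlgSt.overMap j) (wr ι (FibCat.fpSnd _ _)) ≪≫ ?_
    exact (show BasedFunctor.comp (AlgSt.overMap j) (BasedFunctor.comp
        (BasedFunctor.comp (AlgSt.overMap c) H) (FibCat.fpSnd _ _)) ≅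
      BasedFunctor.comp (BasedFunctor.comp (AlgSt.overMap j) (AlgSt.overMap c))
        (BasedFunctor.comp H (FibCat.fpSnd _ _)) from Iso.refl _) ≪≫
      wr (overMapCompIso j c) (BasedFunctor.comp H (FibCat.fpSnd _ _))

/-- The lifting sieve is a covering sieve for the fppf topology. -/
theorem liftSieve_mem [IsAffine S] (h𝒳 : FibCat.IsFibGrpd 𝒳.p)
    (U : Over S) (x : FibCat.overCat U ⥤ᵇ 𝒳)
    (hsm : RepByAlgSpWith (LocP @Smooth) x) (hsurj : RepByAlgSpWith IsSurjectiveMor x)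
    (hV : ∀ (V : U.left.Opens), IsAffineOpen V →
      RepByAlgSpWith IsQuasiAffineMor
        (BasedFunctor.comp (AlgSt.overMap (Over.homMk V.ι rfl : Over.mk (V.ι ≫ U.hom) ⟶ U)) x))
    (T : Over S) (H : FibCat.overCat T ⥤ᵇ FibCat.fp (FibCat.toSelf 𝒳) (FibCat.toSelf 𝒳)) :
    liftSieve T H ∈ QuotSh.J Scheme.fppfPrecoverage S T := by
  have fU := isFibGrpd_overForget U
  have hS := isFibGrpd_selfOver (Over S)
  have hfl := H10PT.repFlat_of_smooth x hsm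
  have hlfp := H10PT.repLfp_of_smooth x hsm
  obtain ⟨T', c, s, hc1, hc2, hc3, ⟨ι⟩⟩ :=
    H10PT.BootF.exists_fppf_lift_through (magN x x (FibCat.toSelf 𝒳))
      (repByAlgSpWith_magN good_flat fU fU h𝒳 hS x x _ hfl hfl)
      (repByAlgSpWith_magN good_lfp fU fU h𝒳 hS x x _ hlfp hlfp)
      (repByAlgSpWith_magN good_surjective fU fU h𝒳 hS x x _ hsurj hsurj) H
  haveI := hc1
  haveI := hc2
  haveI := hc3
  refine (QuotSh.J Scheme.fppfPrecoverage S).transitive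
    (sieve_mem_J_of_fppf c (Sieve.generate (Presieve.singleton c))
      ⟨T', 𝟙 _, c, Presieve.singleton.mk, Category.id_comp _⟩) _ ?_
  rintro Y f ⟨W, h₀, _, ⟨⟩, rfl⟩
  rw [Sieve.pullback_comp]
  apply (QuotSh.J Scheme.fppfPrecoverage S).pullback_stable
  -- the open cover of `T'` by preimages of pairs of affine opens
  obtain ⟨σ₁, hσ₁⟩ : ∃ σ₁ : T' ⟶ U, σ₁ = homOfOver (BasedFunctor.comp s (FibCat.fpFst _ _)) :=
    ⟨_, rfl⟩
  obtain ⟨σ₂, hσ₂⟩ : ∃ σ₂ : T' ⟶ U, σ₂ = homOfOver (BasedFunctor.comp s (FibCat.fpSnd _ _)) :=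
    ⟨_, rfl⟩
  let O : U.left.affineOpens × U.left.affineOpens → T'.left.Opens :=
    fun k => σ₁.left ⁻¹ᵁ k.1.1 ⊓ σ₂.left ⁻¹ᵁ k.2.1
  let Tk : U.left.affineOpens × U.left.affineOpens → Over S :=
    fun k => Over.mk ((O k).ι ≫ T'.hom)
  let jk : ∀ k, Tk k ⟶ T' := fun k => Over.homMk (O k).ι rfl
  have hcov : Sieve.ofArrows Tk jk ∈ QuotSh.J Scheme.fppfPrecoverage S T' := by
    apply Groth.Agent.Lib.Helper29.QuotUnpack.mem_J_of_cover
    rw [Scheme.fppfPrecoverage, Scheme.ofArrows_mem_precoverage_iff]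
    refine ⟨fun p => ?_, fun k => ⟨(inferInstance : Flat (O k).ι),
      (inferInstance : LocallyOfFinitePresentation (O k).ι)⟩⟩
    obtain ⟨W₁, hW₁, hp₁, -⟩ := TopologicalSpace.Opens.isBasis_iff_nbhd.mp U.left.isBasis_affineOpens
      (show σ₁.left p ∈ (⊤ : U.left.Opens) from trivial)
    obtain ⟨W₂, hW₂, hp₂, -⟩ := TopologicalSpace.Opens.isBasis_iff_nbhd.mp U.left.isBasis_affineOpens
      (show σ₂.left p ∈ (⊤ : U.left.Opens) from trivial)
    refine ⟨(⟨W₁, hW₁⟩, ⟨W₂, hW₂⟩), ?_⟩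
    show p ∈ Set.range (O (⟨W₁, hW₁⟩, ⟨W₂, hW₂⟩)).ι
    rw [Scheme.Opens.range_ι]
    exact ⟨hp₁, hp₂⟩
  refine GrothendieckTopology.superset_covering _ ?_ hcov
  intro Y f hf
  rw [Sieve.mem_ofArrows_iff] at hf
  obtain ⟨k, a, rfl⟩ := hf
  show (liftSieve T H).arrows ((a ≫ jk k) ≫ c)
  rw [Category.assoc]
  apply (liftSieve T H).downward_closed
  -- the two factorisations
  have hr₁ : Set.range ((O k).ι ≫ σ₁.left) ⊆ Set.range k.1.1.ι := by
    rintro _ ⟨p, rfl⟩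
    rw [Scheme.Opens.range_ι]
    exact p.2.1
  have hr₂ : Set.range ((O k).ι ≫ σ₂.left) ⊆ Set.range k.2.1.ι := by
    rintro _ ⟨p, rfl⟩
    rw [Scheme.Opens.range_ι]
    exact p.2.2
  have w₁ : IsOpenImmersion.lift k.1.1.ι ((O k).ι ≫ σ₁.left) hr₁ ≫ k.1.1.ι ≫ U.hom =
      (O k).ι ≫ T'.hom := by
    rw [IsOpenImmersion.lift_fac_assoc, Category.assoc, Over.w σ₁]
  have w₂ : IsOpenImmersion.lift k.2.1.ι ((O k).ι ≫ σ₂.left) hr₂ ≫ k.2.1.ι ≫ U.hom =
      (O k).ι ≫ T'.hom := by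
    rw [IsOpenImmersion.lift_fac_assoc, Category.assoc, Over.w σ₂]
  refine liftSieve_mem_of_affine_pair h𝒳 U x hV T H c s ι k.1.1 k.2.1 k.1.2 k.2.2 (jk k)
    (Over.homMk (IsOpenImmersion.lift k.1.1.ι ((O k).ι ≫ σ₁.left) hr₁) w₁)
    (Over.homMk (IsOpenImmersion.lift k.2.1.ι ((O k).ι ≫ σ₂.left) hr₂) w₂) ?_ ?_
  · rw [← hσ₁]
    apply Over.OverMorphism.ext
    simp only [Over.comp_left, Over.homMk_left]
    exact IsOpenImmersion.lift_fac _ _ _
  · rw [← hσ₂]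
    apply Over.OverMorphism.ext
    simp only [Over.comp_left, Over.homMk_left]
    exact IsOpenImmersion.lift_fac _ _ _

end H10PT.QSH
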