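import Groth.Agent.Lib.Helper10.QSH3

/-!
# Helper library (helper10): quasi-affine diagonal and smooth charts with quasi-affine affine opens, III.

Over an affine base, an algebraic stack has quasi-affine diagonal if and only if it has a smooth surjective chart
all of whose affine opens are quasi-affine over the stack.
-/

set_option autoImplicit false
set_option backward.isDefEq.respectTransparency false
set_option backward.isDefEq.respectTransparency.types false

universe u

open CategoryTheory CategoryTheory.Limits AlgebraicGeometry Opposite MonoidalCategory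

namespace H10PT.QSH

open H10PT.QSG
open AlgSt AlgSp
open Groth.Agent.Lib.Helper10.Fib Groth.Agent.Lib.Helper10.AlgStRep
open Groth.Agent.Lib.Helper28.AlgSt.Key

variable {S : Scheme.{u}} {𝒳 : AlgSt.Cat S}

theorem diag_quasiAffine_of_chart [IsAffine S] (h𝒳 : IsAlgStack Scheme.fppfPrecoverage 𝒳)
    (U : Over S) (x : FibCat.overCat U ⥤ᵇ 𝒳)
    (hsm : RepByAlgSpWith (LocP @Smooth) x) (hsurj : RepByAlgSpWith IsSurjectiveMor x)
    (hV : ∀ (V : U.left.Opens), IsAffineOpen V →
      RepByAlgSpWith IsQuasiAffineMor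
        (BasedFunctor.comp (AlgSt.overMap (Over.homMk V.ι rfl : Over.mk (V.ι ≫ U.hom) ⟶ U)) x)) :
    RepByAlgSpWith IsQuasiAffineMor (FibCat.diag (FibCat.toSelf 𝒳)) :=
  repByAlgSpWith_of_local_lift_family h𝒳.isStack.1
    (isFibGrpd_fp _ _ h𝒳.isStack.1 h𝒳.isStack.1 (isFibGrpd_selfOver (Over S)))
    IsQuasiAffineMor bc_isQuasiAffineMor loc_isQuasiAffineMor _ h𝒳.diag
    (fun T H => ⟨liftSieve T H, liftSieve_mem h𝒳.isStack.1 U x hsm hsurj hV T H,
      fun _ _ hh => hh⟩)

theorem exists_chart_of_diag_quasiAffine [IsAffine S] (h𝒳 : IsAlgStack Scheme.fppfPrecoverage 𝒳)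
    (hΔ : RepByAlgSpWith IsQuasiAffineMor (FibCat.diag (FibCat.toSelf 𝒳))) :
    ∃ (U : Over S) (x : FibCat.overCat U ⥤ᵇ 𝒳),
      RepByAlgSpWith (LocP @Smooth) x ∧ RepByAlgSpWith IsSurjectiveMor x ∧
        ∀ (V : U.left.Opens), IsAffineOpen V →
          RepByAlgSpWith IsQuasiAffineMor
            (BasedFunctor.comp
              (AlgSt.overMap (Over.homMk V.ι rfl : Over.mk (V.ι ≫ U.hom) ⟶ U)) x) := by
  obtain ⟨U, x, h1, h2⟩ := h𝒳.atlas
  refine ⟨U, x, h1, h2, fun V hV => ?_⟩
  haveI : IsAffine (V : Scheme.{u}) := hV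
  haveI : IsAffineHom (Over.mk (V.ι ≫ U.hom)).hom :=
    (inferInstance : IsAffineHom (V.ι ≫ U.hom))
  exact repByAlgSpWith_isQuasiAffineMor_of_diag h𝒳.isStack.1 hΔ _ _

end H10PT.QSH
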