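import Mathlib

/-!
# Helper library (helper10): concrete description of the cartesian square of filtered colimits,
for presheaves on an arbitrary category (generalisation of helper6's `RelLim.isPullback_iff_concrete`)
-/

set_option autoImplicit false
universe u v
open CategoryTheory CategoryTheory.Limits Opposite

namespace H10PT.QcqsLim

section Basic

variable {C : Type v} [Category.{u + 1} C] {F G : Cᵒᵖ ⥤ Type (u + 1)} (a : F ⟶ G)
  {I : Type u} [SmallCategory I] (D : I ⥤ C) (c : Cone D)

theorem desc_ι (j : Iᵒᵖ) (x : (D.op ⋙ F).obj j) :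
    colimit.desc (D.op ⋙ F) (F.mapCocone c.op) (colimit.ι (D.op ⋙ F) j x) =
      F.map (c.π.app j.unop).op x :=
  colimit.ι_desc_apply _ _ _

theorem colimMap_ι (j : Iᵒᵖ) (x : (D.op ⋙ F).obj j) :
    colimMap (Functor.whiskerLeft D.op a) (colimit.ι (D.op ⋙ F) j x) =
      colimit.ι (D.op ⋙ G) j (a.app (op (D.obj j.unop)) x) :=
  ConcreteCategory.congr_hom (ι_colimMap (Functor.whiskerLeft D.op a) j) x

theorem nat_apply {X Y : Cᵒᵖ} (g : X ⟶ Y) (x : F.obj X) :
    a.app Y (F.map g x) = G.map g (a.app X x) :=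
  NatTrans.naturality_apply a g x

theorem map_map (F : Cᵒᵖ ⥤ Type (u + 1)) {X Y Z : C} (g : Y ⟶ X) (h : Z ⟶ Y) (x : F.obj (op X)) :
    F.map h.op (F.map g.op x) = F.map (h ≫ g).op x := by
  rw [op_comp, Functor.map_comp_apply]

theorem sq_comm : colimMap (Functor.whiskerLeft D.op a) ≫ colimit.desc (D.op ⋙ G) (G.mapCocone c.op) =
    colimit.desc (D.op ⋙ F) (F.mapCocone c.op) ≫ a.app (op c.pt) := by
  apply colimit.hom_ext
  intro j
  rw [ι_colimMap_assoc, colimit.ι_desc, colimit.ι_desc_assoc]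
  exact (a.naturality _).symm

end Basic

section SC

variable {C : Type v} [Category.{u + 1} C] {F G : Cᵒᵖ ⥤ Type (u + 1)} (a : F ⟶ G)
  {I : Type u} [SmallCategory I] [IsCofiltered I] (D : I ⥤ C) (c : Cone D)

/-- Concrete surjectivity part of the cartesian square. -/
def SurjG : Prop :=
  ∀ (i : I) (y : G.obj (op (D.obj i))) (x : F.obj (op c.pt)),
    a.app _ x = G.map (c.π.app i).op y →
    ∃ (j : I) (f : j ⟶ i) (xj : F.obj (op (D.obj j))),
      a.app _ xj = G.map (D.map f).op y ∧ F.map (c.π.app j).op xj = x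

/-- Concrete injectivity part of the cartesian square. -/
def InjG : Prop :=
  ∀ (i : I) (x x' : F.obj (op (D.obj i))), a.app _ x = a.app _ x' →
    F.map (c.π.app i).op x = F.map (c.π.app i).op x' →
    ∃ (j : I) (f : j ⟶ i), F.map (D.map f).op x = F.map (D.map f).op x'

theorem isPullback_iff_concrete :
    IsPullback (colimMap (Functor.whiskerLeft D.op a)) (colimit.desc (D.op ⋙ F) (F.mapCocone c.op))
      (colimit.desc (D.op ⋙ G) (G.mapCocone c.op)) (a.app (op c.pt)) ↔ SurjG a D c ∧ InjG a D c := by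
  rw [Types.isPullback_iff]
  constructor
  · rintro ⟨-, hinj, hsurj⟩
    refine ⟨?_, ?_⟩
    · intro i y x hx
      obtain ⟨p, hp1, hp2⟩ := hsurj (colimit.ι (D.op ⋙ G) (op i) y) x
        ((desc_ι D c (op i) y).trans hx.symm)
      obtain ⟨j₀, x₀, rfl⟩ := Types.jointly_surjective' p
      rw [colimMap_ι] at hp1
      rw [desc_ι] at hp2
      obtain ⟨k, f, g, hk⟩ := (Types.FilteredColimit.colimit_eq_iff (D.op ⋙ G)).1 hp1
      refine ⟨k.unop, g.unop, F.map (D.map f.unop).op x₀, ?_, ?_⟩
      · rw [nat_apply]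
        exact hk
      · rw [map_map, c.w f.unop]
        exact hp2
    · intro i x x' hax hres
      have hpq : colimit.ι (D.op ⋙ F) (op i) x = colimit.ι (D.op ⋙ F) (op i) x' := by
        apply hinj
        refine ⟨?_, ?_⟩
        · rw [colimMap_ι, colimMap_ι]
          exact congrArg (colimit.ι (D.op ⋙ G) (op i)) hax
        · rw [desc_ι, desc_ι]
          exact hres
      obtain ⟨k, f, hk⟩ :=
        (Types.FilteredColimit.isColimit_eq_iff' (colimit.isColimit (D.op ⋙ F)) x x').1 hpq
      exact ⟨k.unop, f.unop, hk⟩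
  · rintro ⟨hS, hI⟩
    refine ⟨sq_comm a D c, ?_, ?_⟩
    · rintro p q ⟨h1, h2⟩
      obtain ⟨j, x, x', rfl, rfl⟩ :=
        Types.FilteredColimit.jointly_surjective_of_isColimit₂ (colimit.isColimit (D.op ⋙ F)) p q
      replace h1 : colimMap (Functor.whiskerLeft D.op a) (colimit.ι (D.op ⋙ F) j x) =
          colimMap (Functor.whiskerLeft D.op a) (colimit.ι (D.op ⋙ F) j x') := h1
      replace h2 : colimit.desc (D.op ⋙ F) (F.mapCocone c.op) (colimit.ι (D.op ⋙ F) j x) =
          colimit.desc (D.op ⋙ F) (F.mapCocone c.op) (colimit.ι (D.op ⋙ F) j x') := h2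
      rw [colimMap_ι, colimMap_ι] at h1
      rw [desc_ι, desc_ι] at h2
      obtain ⟨k, f, hk⟩ :=
        (Types.FilteredColimit.isColimit_eq_iff' (colimit.isColimit (D.op ⋙ G)) _ _).1 h1
      have hax : a.app _ (F.map (D.map f.unop).op x) = a.app _ (F.map (D.map f.unop).op x') := by
        rw [nat_apply, nat_apply]
        exact hk
      have hres : F.map (c.π.app k.unop).op (F.map (D.map f.unop).op x) =
          F.map (c.π.app k.unop).op (F.map (D.map f.unop).op x') := by
        rw [map_map, map_map, c.w f.unop]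
        exact h2
      obtain ⟨j', g, hg⟩ := hI k.unop _ _ hax hres
      show colimit.ι (D.op ⋙ F) j x = colimit.ι (D.op ⋙ F) j x'
      refine (Types.FilteredColimit.isColimit_eq_iff' (colimit.isColimit (D.op ⋙ F)) x x').2
        ⟨op j', f ≫ g.op, ?_⟩
      rw [Functor.map_comp_apply, Functor.map_comp_apply]
      exact hg
    · intro yb x hyx
      obtain ⟨j, y, rfl⟩ := Types.jointly_surjective' yb
      rw [desc_ι] at hyx
      obtain ⟨j', f, xj, h1, h2⟩ := hS j.unop y x hyx.symm
      refine ⟨colimit.ι (D.op ⋙ F) (op j') xj, ?_, ?_⟩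
      · rw [colimMap_ι, h1]
        exact colimit.w_apply (D.op ⋙ G) f.op y
      · rw [desc_ι]
        exact h2

end SC

end H10PT.QcqsLim
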