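import Mathlib
import Groth.Prelude.Def_AlgSp3
import Groth.Prelude.Def_AlgSpRep
import Groth.Agent.Lib.Helper16.FibreProduct
import Groth.Agent.Lib.Helper16.LocSurj
import Groth.Agent.Lib.Helper10.LfpRelB

/-!
# Helper library (helper10): kernel pairs of base-changed charts and descent of morphisms along
epimorphisms of sheaves
-/

set_option autoImplicit false
universe u
open CategoryTheory CategoryTheory.Limits AlgebraicGeometry Opposite

namespace H10PT.QcqsLim

open AlgSp H10PT.LimLoc H10PT.ShLim Groth.Agent.Lib.Helper16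

/-- Base change of a chart `w : W ⟶ B` with kernel pair `R ⇉ W` and a cover `v : V ⟶ R` along
`β : A ⟶ B`: the base change `Vj` of `V` covers the kernel pair of the base-changed chart
`Wj ⟶ A`. -/
theorem exists_kernelPair_cover {C : Type*} [Category C] [HasPullbacks C]
    {A B W R V Wj Vj : C} (β : A ⟶ B) (w : W ⟶ B) (r₁ r₂ : R ⟶ W) (kp : IsPullback r₁ r₂ w w)
    (v : V ⟶ R) {aW : Wj ⟶ A} {pW : Wj ⟶ W} (sqW : IsPullback aW pW β w)
    {aV : Vj ⟶ A} {pV : Vj ⟶ V} (sqV : IsPullback aV pV β (v ≫ r₁ ≫ w))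
    (g₁ g₂ : Vj ⟶ Wj) (h1a : g₁ ≫ aW = aV) (h1p : g₁ ≫ pW = pV ≫ v ≫ r₁)
    (h2a : g₂ ≫ aW = aV) (h2p : g₂ ≫ pW = pV ≫ v ≫ r₂) :
    ∃ (Rj : C) (e : Vj ⟶ Rj) (pR : Rj ⟶ R) (h₁ h₂ : Rj ⟶ Wj),
      IsPullback pV e v pR ∧ IsPullback h₁ h₂ aW aW ∧ e ≫ h₁ = g₁ ∧ e ≫ h₂ = g₂ := by
  have cond : pullback.fst β (r₁ ≫ w) ≫ β = pullback.snd β (r₁ ≫ w) ≫ r₁ ≫ w := pullback.condition
  have c1 : pullback.fst β (r₁ ≫ w) ≫ β = (pullback.snd β (r₁ ≫ w) ≫ r₁) ≫ w := by
    rw [Category.assoc]; exact cond
  have c2 : pullback.fst β (r₁ ≫ w) ≫ β = (pullback.snd β (r₁ ≫ w) ≫ r₂) ≫ w := by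
    rw [Category.assoc, ← kp.w]; exact cond
  have ce : aV ≫ β = (pV ≫ v) ≫ r₁ ≫ w := by
    rw [Category.assoc]; exact sqV.w
  refine ⟨pullback β (r₁ ≫ w), pullback.lift aV (pV ≫ v) ce, pullback.snd β (r₁ ≫ w),
    sqW.lift (pullback.fst β (r₁ ≫ w)) (pullback.snd β (r₁ ≫ w) ≫ r₁) c1,
    sqW.lift (pullback.fst β (r₁ ≫ w)) (pullback.snd β (r₁ ≫ w) ≫ r₂) c2, ?_, ?_, ?_, ?_⟩
  · have h := IsPullback.of_right (h₁₁ := pullback.lift aV (pV ≫ v) ce)
      (h₁₂ := pullback.fst β (r₁ ≫ w)) (h₂₁ := v) (h₂₂ := r₁ ≫ w) (v₁₁ := pV)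
      (v₁₂ := pullback.snd β (r₁ ≫ w)) (v₁₃ := β)
      (by rw [pullback.lift_fst]; exact sqV) (pullback.lift_snd _ _ _)
      (IsPullback.of_hasPullback β (r₁ ≫ w))
    exact h.flip
  · apply isPullback_of_exists_lift
    · rw [sqW.lift_fst, sqW.lift_fst]
    · intro Q x y hxy
      have hρ : (x ≫ pW) ≫ w = (y ≫ pW) ≫ w := by
        rw [Category.assoc, Category.assoc, ← sqW.w, ← Category.assoc, ← Category.assoc, hxy]
      have hz : (x ≫ aW) ≫ β = kp.lift (x ≫ pW) (y ≫ pW) hρ ≫ r₁ ≫ w := by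
        rw [← Category.assoc, kp.lift_fst, Category.assoc, Category.assoc, sqW.w]
      refine ⟨pullback.lift (x ≫ aW) (kp.lift (x ≫ pW) (y ≫ pW) hρ) hz, ?_, ?_⟩
      · apply sqW.hom_ext
        · rw [Category.assoc, sqW.lift_fst, pullback.lift_fst]
        · rw [Category.assoc, sqW.lift_snd, ← Category.assoc, pullback.lift_snd, kp.lift_fst]
      · apply sqW.hom_ext
        · rw [Category.assoc, sqW.lift_fst, pullback.lift_fst, hxy]
        · rw [Category.assoc, sqW.lift_snd, ← Category.assoc, pullback.lift_snd, kp.lift_snd]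
    · intro Q l l' hl1 hl2
      apply pullback.hom_ext
      · have := congrArg (fun m => m ≫ aW) hl1
        simpa only [Category.assoc, sqW.lift_fst] using this
      · apply kp.hom_ext
        · have := congrArg (fun m => m ≫ pW) hl1
          simpa only [Category.assoc, sqW.lift_snd] using this
        · have := congrArg (fun m => m ≫ pW) hl2
          simpa only [Category.assoc, sqW.lift_snd] using this
  · apply sqW.hom_ext
    · rw [Category.assoc, sqW.lift_fst, pullback.lift_fst, h1a]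
    · rw [Category.assoc, sqW.lift_snd, ← Category.assoc, pullback.lift_snd, h1p, Category.assoc]
  · apply sqW.hom_ext
    · rw [Category.assoc, sqW.lift_fst, pullback.lift_fst, h2a]
    · rw [Category.assoc, sqW.lift_snd, ← Category.assoc, pullback.lift_snd, h2p, Category.assoc]

variable {S : Scheme.{u}}

/-- A representable etale surjective map of sheaves is an epimorphism. -/
theorem epi_of_etale_surj {F G : Sp S} (a : F ⟶ G) (h1 : RepWith @Etale a)
    (h2 : RepWith @Surjective a) : Epi a := by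
  have hfl : RepWith @Flat a := MorphismProperty.relative_monotone
    (P := MorphismProperty.inverseImage (@Etale : MorphismProperty Scheme.{u}) (Over.forget S))
    (P' := MorphismProperty.inverseImage (@Flat : MorphismProperty Scheme.{u}) (Over.forget S))
    (fun _ _ g hg => by
      haveI : Etale g.left := hg
      exact (inferInstance : Flat g.left)) _ h1
  have hfp : RepWith @LocallyOfFinitePresentation a := MorphismProperty.relative_monotone
    (P := MorphismProperty.inverseImage (@Etale : MorphismProperty Scheme.{u}) (Over.forget S))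
    (P' := MorphismProperty.inverseImage
      (@LocallyOfFinitePresentation : MorphismProperty Scheme.{u}) (Over.forget S))
    (fun _ _ g hg => by
      haveI : Etale g.left := hg
      exact (inferInstance : LocallyOfFinitePresentation g.left)) _ h1
  haveI : Sheaf.IsLocallySurjective a :=
    Groth.Agent.Lib.Helper16.isLocallySurjective_of_repWith_fppf a hfl hfp h2
  infer_instance

/-- Base change of a representable etale surjective map is an epimorphism. -/
theorem epi_of_isPullback_etale_surj {P X Y Z : Sp S} {fst : P ⟶ X} {snd : P ⟶ Y} {f : X ⟶ Z}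
    {g : Y ⟶ Z} (sq : IsPullback fst snd f g) (h1 : RepWith @Etale f) (h2 : RepWith @Surjective f) :
    Epi snd := by
  haveI := MorphismProperty.relative_isStableUnderBaseChange (F := yon S)
    (MorphismProperty.inverseImage (@Etale : MorphismProperty Scheme.{u}) (Over.forget S))
  haveI := MorphismProperty.relative_isStableUnderBaseChange (F := yon S)
    (MorphismProperty.inverseImage (@Surjective : MorphismProperty Scheme.{u}) (Over.forget S))
  exact epi_of_etale_surj snd (MorphismProperty.of_isPullback (P := RepWith @Etale) sq h1)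
    (MorphismProperty.of_isPullback (P := RepWith @Surjective) sq h2)

/-- Descent of a morphism along an epimorphism of sheaves whose kernel pair is covered. -/
theorem exists_desc {U M Rk V F : Sp S} (q : U ⟶ M) [Epi q] {h₁ h₂ : Rk ⟶ U}
    (kp : IsPullback h₁ h₂ q q) (e : V ⟶ Rk) [Epi e] (φ : U ⟶ F)
    (hφ : (e ≫ h₁) ≫ φ = (e ≫ h₂) ≫ φ) : ∃ ψ : M ⟶ F, q ≫ ψ = φ := by
  haveI : IsRegularEpi q := IsRegularEpiCategory.regularEpiOfEpi q
  haveI : EffectiveEpi q := inferInstance
  have hh : h₁ ≫ φ = h₂ ≫ φ := by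
    rw [← cancel_epi e, ← Category.assoc, ← Category.assoc]
    exact hφ
  refine ⟨EffectiveEpi.desc q φ (fun g₁ g₂ h => ?_), EffectiveEpi.fac _ _ _⟩
  rw [← kp.lift_fst g₁ g₂ h, Category.assoc, hh, ← Category.assoc, kp.lift_snd]

end H10PT.QcqsLim
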