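import Mathlib
import Groth.Prelude.Def_AlgSp3
import Groth.Prelude.Def_AlgSpRep
import Groth.Agent.Lib.Helper6.LimSp18
import Groth.Agent.Lib.Helper16.DenseFin3
import Groth.Agent.Lib.Helper10.QcqsLimA
import Groth.Agent.Lib.Helper10.QcqsLimB

/-!
# Helper library (helper10): morphisms locally of finite presentation and limits of quasi-compact
quasi-separated algebraic spaces
-/

set_option autoImplicit false
universe u
open CategoryTheory CategoryTheory.Limits AlgebraicGeometry Opposite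

namespace H10PT.QcqsLim

open AlgSp H10PT.LimLoc H10PT.ShLim H10PT.LfpRel Groth.Agent.Lib.Helper16
  Groth.Agent.Lib.Helper6.LimSp Groth.Agent.Lib.Helper6.RelLim

variable {S : Scheme.{u}}

/-- Hom-level injectivity of the relative colimit comparison on affine systems. -/
def InjHyp {X Y : Sp S} (f : X ⟶ Y) : Prop :=
  ∀ ⦃I : Type u⦄ [SmallCategory I] [IsCofiltered I] (D : I ⥤ Over S) (c : Cone D),
    IsLimit ((Over.forget S).mapCone c) → (∀ i, IsAffine (D.obj i).left) → IsAffine c.pt.left →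
    ∀ (i : I) (x x' : (yon S).obj (D.obj i) ⟶ X), x ≫ f = x' ≫ f →
      (yon S).map (c.π.app i) ≫ x = (yon S).map (c.π.app i) ≫ x' →
      ∃ (j : I) (φ : j ⟶ i), (yon S).map (D.map φ) ≫ x = (yon S).map (D.map φ) ≫ x'

theorem injHyp_of_crlp {X Y : Sp S} (f : X ⟶ Y) (h : CRLP f.hom) : InjHyp f := by
  intro I _ _ D c hc hD hT i x x' hf hπ
  obtain ⟨-, hI⟩ := h D c ⟨⟨hc⟩, hD, hT⟩
  obtain ⟨j, φ, hj⟩ := hI i ((J S).uliftYonedaEquiv x) ((J S).uliftYonedaEquiv x') (by
      rw [← GrothendieckTopology.uliftYonedaEquiv_comp, ← GrothendieckTopology.uliftYonedaEquiv_comp,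
        hf]) (by
      rw [GrothendieckTopology.uliftYonedaEquiv_naturality,
        GrothendieckTopology.uliftYonedaEquiv_naturality, hπ])
  refine ⟨j, φ, ?_⟩
  apply (J S).uliftYonedaEquiv.injective
  rw [← GrothendieckTopology.uliftYonedaEquiv_naturality,
    ← GrothendieckTopology.uliftYonedaEquiv_naturality]
  exact hj

/-- Maps between the charts of the limit induced by a map of the charts of the terminal stage. -/
theorem exists_stage_maps {J : Type u} [SmallCategory J] [IsCofiltered J] {t : J}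
    (ht : IsTerminal t) (D : J ⥤ Sp S) (c : Cone D) (hc : IsLimit c) {W₀ V₀ : Over S}
    {w₀ : (yon S).obj W₀ ⟶ D.obj t} {g : (yon S).obj V₀ ⟶ D.obj t}
    (LW : LimChart ht D c w₀) (LV : LimChart ht D c g)
    (ρ : V₀ ⟶ W₀) (hρ : (yon S).map ρ ≫ w₀ = g) :
    ∃ (γ : ∀ j, LV.E.obj j ⟶ LW.E.obj j) (γ' : LV.cE.pt ⟶ LW.cE.pt),
      (∀ j, (yon S).map (γ j) ≫ LW.α.app j = LV.α.app j) ∧
      (∀ j, γ j ≫ LW.p j = LV.p j ≫ ρ) ∧
      (∀ {j k : J} (m : j ⟶ k), LV.E.map m ≫ γ k = γ j ≫ LW.E.map m) ∧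
      (∀ j, γ' ≫ LW.cE.π.app j = LV.cE.π.app j ≫ γ j) ∧
      (yon S).map γ' ≫ LW.fst = LV.fst := by
  have hcond : ∀ j, LV.α.app j ≫ D.map (ht.from j) = (yon S).map (LV.p j ≫ ρ) ≫ w₀ := fun j => by
    rw [(LV.sq j).w, Functor.map_comp, Category.assoc, hρ]
  have hex : ∀ j, ∃ γj : LV.E.obj j ⟶ LW.E.obj j,
      (yon S).map γj ≫ LW.α.app j = LV.α.app j ∧ γj ≫ LW.p j = LV.p j ≫ ρ := fun j => by
    obtain ⟨γj, hγj⟩ := (yon S).map_surjective
      ((LW.sq j).lift (LV.α.app j) ((yon S).map (LV.p j ≫ ρ)) (hcond j))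
    refine ⟨γj, by rw [hγj, (LW.sq j).lift_fst], ?_⟩
    apply (yon S).map_injective
    rw [Functor.map_comp, hγj, (LW.sq j).lift_snd]
  choose γ hγa hγp using hex
  have hnat : ∀ {j k : J} (m : j ⟶ k), LV.E.map m ≫ γ k = γ j ≫ LW.E.map m := fun {j k} m => by
    apply (yon S).map_injective
    apply (LW.sq k).hom_ext
    · have h1 : (yon S).map (LV.E.map m) ≫ LV.α.app k = LV.α.app j ≫ D.map m := LV.α.naturality m
      have h2 : (yon S).map (LW.E.map m) ≫ LW.α.app k = LW.α.app j ≫ D.map m := LW.α.naturality m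
      rw [Functor.map_comp, Category.assoc, hγa, Functor.map_comp, Category.assoc, h1, h2,
        ← Category.assoc, hγa]
    · have h3 : (LV.E.map m ≫ γ k) ≫ LW.p k = (γ j ≫ LW.E.map m) ≫ LW.p k := by
        rw [Category.assoc, hγp, ← Category.assoc, LV.hp m, Category.assoc, LW.hp m, hγp]
      rw [← Functor.map_comp, ← Functor.map_comp, h3]
  let s : Cone LW.E :=
    { pt := LV.cE.pt
      π := { app := fun j => LV.cE.π.app j ≫ γ j
             naturality := fun j k m => by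
               have h1 : LV.cE.π.app j ≫ LV.E.map m = LV.cE.π.app k := LV.cE.w m
               show 𝟙 _ ≫ LV.cE.π.app k ≫ γ k = (LV.cE.π.app j ≫ γ j) ≫ LW.E.map m
               rw [Category.id_comp, Category.assoc, ← hnat m, ← Category.assoc, h1] } }
  refine ⟨γ, LW.hcE.lift s, hγa, hγp, fun m => hnat m, fun j => LW.hcE.fac s j, ?_⟩
  apply hc.hom_ext
  intro j
  have h4 : LW.hcE.lift s ≫ LW.cE.π.app j = LV.cE.π.app j ≫ γ j := LW.hcE.fac s j
  rw [Category.assoc, LW.hfst j, LV.hfst j, ← Category.assoc, ← Functor.map_comp, h4,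
    Functor.map_comp, Category.assoc, hγa]

/-- Existence part, over a terminal stage. -/
theorem surj_terminal [QuasiSeparatedSpace ↥S] {X Y : Sp S} (f : X ⟶ Y) (hf : CRLP f.hom)
    {J : Type u} [SmallCategory J] [IsCofiltered J] {t : J} (ht : IsTerminal t)
    (D : J ⥤ Sp S) (hD : ∀ j, IsAlgSpace (D.obj j))
    (hDa : ∀ (i j : J) (φ : i ⟶ j), IsAffineMor (D.map φ))
    (hqc : IsQuasiCompactSp (D.obj t)) (hqs : IsQuasiSeparatedSp (D.obj t))
    (c : Cone D) (hc : IsLimit c) (y : D.obj t ⟶ Y) (x : c.pt ⟶ X)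
    (hxy : x ≫ f = c.π.app t ≫ y) :
    ∃ (j : J) (xj : D.obj j ⟶ X), xj ≫ f = D.map (ht.from j) ≫ y ∧ c.π.app j ≫ xj = x := by
  obtain ⟨W₀, w₀, hW₀, hw₀e, hw₀s⟩ := Groth.Agent.Lib.Helper16.DenseFin.exists_affine_chart_of_isQuasiCompactSp hqc
  haveI : IsAffine W₀.left := hW₀
  obtain ⟨R₀, r₂, fstR, sqR⟩ := hw₀e.rep w₀
  obtain ⟨r₁, hr₁⟩ := (yon S).map_surjective fstR
  subst hr₁
  have hR₀qc : IsQuasiCompactSp ((yon S).obj R₀) :=
    isQuasiCompactSp_of_isPullback sqR (isQuasiCompactSp_yon_of_compactSpace W₀)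
      (isQuasiCompactSp_yon_of_compactSpace W₀) hqs
  obtain ⟨V₀, v, hV₀, hve, hvs⟩ := Groth.Agent.Lib.Helper16.DenseFin.exists_affine_chart_of_isQuasiCompactSp hR₀qc
  haveI : IsAffine V₀.left := hV₀
  obtain ⟨v', hv'⟩ := (yon S).map_surjective v
  subst hv'
  obtain ⟨LW⟩ := nonempty_limChart ht D hD hDa c hc w₀
  obtain ⟨g, hg⟩ : ∃ g : (yon S).obj V₀ ⟶ D.obj t,
      g = (yon S).map v' ≫ (yon S).map r₁ ≫ w₀ := ⟨_, rfl⟩
  obtain ⟨LV⟩ := nonempty_limChart ht D hD hDa c hc g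
  obtain ⟨γ₁, γ₁', h1a, h1p, h1n, h1π, h1f⟩ := exists_stage_maps ht D c hc LW LV (v' ≫ r₁)
    (by rw [hg, Functor.map_comp, Category.assoc])
  obtain ⟨γ₂, γ₂', h2a, h2p, h2n, h2π, h2f⟩ := exists_stage_maps ht D c hc LW LV (v' ≫ r₂)
    (by rw [hg, Functor.map_comp, Category.assoc, ← sqR.w])
  have hS := surjHyp_of_crlp f hf
  have hI := injHyp_of_crlp f hf
  have affW : ∀ j, IsAffine (LW.E.obj j).left := fun j => by
    haveI := LW.affp j
    exact isAffine_of_isAffineHom (LW.p j).left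
  have affWpt : IsAffine LW.cE.pt.left := by
    haveI := LW.affπ t
    haveI := affW t
    exact isAffine_of_isAffineHom (LW.cE.π.app t).left
  have affV : ∀ j, IsAffine (LV.E.obj j).left := fun j => by
    haveI := LV.affp j
    exact isAffine_of_isAffineHom (LV.p j).left
  have affVpt : IsAffine LV.cE.pt.left := by
    haveI := LV.affπ t
    haveI := affV t
    exact isAffine_of_isAffineHom (LV.cE.π.app t).left
  have natW : ∀ {j k : J} (m : j ⟶ k),
      (yon S).map (LW.E.map m) ≫ LW.α.app k = LW.α.app j ≫ D.map m := fun m => LW.α.naturality m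
  -- Step 1: lift over the affine chart
  obtain ⟨j, m, ξ, hξ1, hξ2⟩ := hS LW.E LW.cE LW.hc₀ affW affWpt (LW.fst ≫ x) t
    (LW.α.app t ≫ y) (by
      rw [Category.assoc, hxy, ← Category.assoc, LW.hfst t, Category.assoc])
  -- Step 2: the two restrictions to the cover of the kernel pair agree after refinement
  have key : ∀ (γ : LV.E.obj j ⟶ LW.E.obj j), (yon S).map γ ≫ LW.α.app j = LV.α.app j →
      ((yon S).map γ ≫ ξ) ≫ f = LV.α.app j ≫ D.map m ≫ y := fun γ hγ => by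
    rw [Category.assoc, hξ2, ← Category.assoc ((yon S).map (LW.E.map m)), natW m, Category.assoc,
      ← Category.assoc, hγ]
  have key2 : ∀ (γ : LV.E.obj j ⟶ LW.E.obj j) (γ' : LV.cE.pt ⟶ LW.cE.pt),
      γ' ≫ LW.cE.π.app j = LV.cE.π.app j ≫ γ → (yon S).map γ' ≫ LW.fst = LV.fst →
      (yon S).map (LV.cE.π.app j) ≫ (yon S).map γ ≫ ξ = LV.fst ≫ x := fun γ γ' h h' => by
    rw [← Category.assoc, ← Functor.map_comp, ← h, Functor.map_comp, Category.assoc, hξ1,
      ← Category.assoc, h']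
  obtain ⟨j', m', hj'⟩ := hI LV.E LV.cE LV.hc₀ affV affVpt j ((yon S).map (γ₁ j) ≫ ξ)
    ((yon S).map (γ₂ j) ≫ ξ) ((key _ (h1a j)).trans (key _ (h2a j)).symm)
    ((key2 _ _ (h1π j) h1f).trans (key2 _ _ (h2π j) h2f).symm)
  -- Step 3: descent to the stage j'
  obtain ⟨Rj, e, pR, k₁, k₂, sqe, kp', he1, he2⟩ := exists_kernelPair_cover (D.map (ht.from j')) w₀
    ((yon S).map r₁) ((yon S).map r₂) sqR ((yon S).map v') (LW.sq j')
    (show IsPullback (LV.α.app j') ((yon S).map (LV.p j')) (D.map (ht.from j'))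
      ((yon S).map v' ≫ (yon S).map r₁ ≫ w₀) by rw [← hg]; exact LV.sq j')
    ((yon S).map (γ₁ j')) ((yon S).map (γ₂ j')) (h1a j')
    (((yon S).map_comp _ _).symm.trans ((congrArg (yon S).map (h1p j')).trans (by
      rw [Functor.map_comp, Functor.map_comp])))
    (h2a j')
    (((yon S).map_comp _ _).symm.trans ((congrArg (yon S).map (h2p j')).trans (by
      rw [Functor.map_comp, Functor.map_comp])))
  haveI : Epi (LW.α.app j') := epi_of_isPullback_etale_surj (LW.sq j').flip hw₀e hw₀s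
  haveI : Epi e := epi_of_isPullback_etale_surj sqe hve hvs
  haveI : Epi LW.fst := epi_of_isPullback_etale_surj LW.sqlim.flip hw₀e hw₀s
  have e1 : (yon S).map (γ₁ j') ≫ (yon S).map (LW.E.map m') ≫ ξ =
      (yon S).map (LV.E.map m') ≫ (yon S).map (γ₁ j) ≫ ξ := by
    rw [← Category.assoc, ← Functor.map_comp, ← h1n m', Functor.map_comp, Category.assoc]
  have e2 : (yon S).map (γ₂ j') ≫ (yon S).map (LW.E.map m') ≫ ξ =
      (yon S).map (LV.E.map m') ≫ (yon S).map (γ₂ j) ≫ ξ := by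
    rw [← Category.assoc, ← Functor.map_comp, ← h2n m', Functor.map_comp, Category.assoc]
  obtain ⟨ψ, hψ⟩ := exists_desc (LW.α.app j') kp' e ((yon S).map (LW.E.map m') ≫ ξ) (by
    rw [he1, he2, e1, e2]
    exact hj')
  refine ⟨j', ψ, ?_, ?_⟩
  · rw [← cancel_epi (LW.α.app j'), ← Category.assoc, hψ, Category.assoc, hξ2,
      ← Category.assoc, ← Functor.map_comp, ← LW.E.map_comp, ← Category.assoc, natW (m' ≫ m),
      Category.assoc, ht.hom_ext (m' ≫ m) (ht.from j')]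
  · have hw : LW.cE.π.app j' ≫ LW.E.map m' = LW.cE.π.app j := LW.cE.w m'
    rw [← cancel_epi LW.fst, ← Category.assoc, LW.hfst j', Category.assoc, hψ, ← Category.assoc,
      ← Functor.map_comp, hw, hξ1]

/-- Uniqueness part, over a terminal stage. -/
theorem inj_terminal {X Y : Sp S} (f : X ⟶ Y) (hf : CRLP f.hom)
    {J : Type u} [SmallCategory J] [IsCofiltered J] {t : J} (ht : IsTerminal t)
    (D : J ⥤ Sp S) (hD : ∀ j, IsAlgSpace (D.obj j))
    (hDa : ∀ (i j : J) (φ : i ⟶ j), IsAffineMor (D.map φ))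
    (hqc : IsQuasiCompactSp (D.obj t))
    (c : Cone D) (hc : IsLimit c) (x x' : D.obj t ⟶ X) (h1 : x ≫ f = x' ≫ f)
    (h2 : c.π.app t ≫ x = c.π.app t ≫ x') :
    ∃ j : J, D.map (ht.from j) ≫ x = D.map (ht.from j) ≫ x' := by
  obtain ⟨W₀, w₀, hW₀, hw₀e, hw₀s⟩ := Groth.Agent.Lib.Helper16.DenseFin.exists_affine_chart_of_isQuasiCompactSp hqc
  haveI : IsAffine W₀.left := hW₀
  obtain ⟨LW⟩ := nonempty_limChart ht D hD hDa c hc w₀
  have hI := injHyp_of_crlp f hf
  have affW : ∀ j, IsAffine (LW.E.obj j).left := fun j => by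
    haveI := LW.affp j
    exact isAffine_of_isAffineHom (LW.p j).left
  have affWpt : IsAffine LW.cE.pt.left := by
    haveI := LW.affπ t
    haveI := affW t
    exact isAffine_of_isAffineHom (LW.cE.π.app t).left
  obtain ⟨j, m, hj⟩ := hI LW.E LW.cE LW.hc₀ affW affWpt t (LW.α.app t ≫ x) (LW.α.app t ≫ x')
    (by rw [Category.assoc, Category.assoc, h1])
    (by rw [← Category.assoc, ← Category.assoc, ← LW.hfst t, Category.assoc, Category.assoc, h2])
  haveI : Epi (LW.α.app j) := epi_of_isPullback_etale_surj (LW.sq j).flip hw₀e hw₀s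
  refine ⟨j, ?_⟩
  have natW : (yon S).map (LW.E.map m) ≫ LW.α.app t = LW.α.app j ≫ D.map m := LW.α.naturality m
  rw [← cancel_epi (LW.α.app j), ← ht.hom_ext m (ht.from j), ← Category.assoc, ← Category.assoc,
    ← natW, Category.assoc, Category.assoc]
  exact hj

theorem surjG_of_crlp [QuasiSeparatedSpace ↥S] {X Y : Sp S} (f : X ⟶ Y) (hf : CRLP f.hom)
    {I : Type u} [SmallCategory I] [IsCofiltered I] (D : I ⥤ Sp S)
    (hD : ∀ i, IsAlgSpace (D.obj i)) (hDa : ∀ (i j : I) (φ : i ⟶ j), IsAffineMor (D.map φ))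
    (hqc : ∀ i, IsQuasiCompactSp (D.obj i)) (hqs : ∀ i, IsQuasiSeparatedSp (D.obj i))
    (c : Cone D) (hc : IsLimit c) : SurjG (yoneda.map f) D c := by
  intro i₀ y x hxy
  have hxy' : x ≫ f = c.π.app i₀ ≫ y := hxy
  obtain ⟨hc'⟩ := isLimit_whisker_over D c hc i₀
  obtain ⟨j, xj, h1, h2⟩ := surj_terminal f hf (Over.mkIdTerminal (X := i₀)) (Over.forget i₀ ⋙ D)
    (fun j => hD j.left) (fun i j φ => hDa _ _ φ.left) (hqc i₀) (hqs i₀)
    (c.whisker (Over.forget i₀)) hc' y x hxy'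
  exact ⟨j.left, ((Over.mkIdTerminal (X := i₀)).from j).left, xj, h1, h2⟩

theorem injG_of_crlp {X Y : Sp S} (f : X ⟶ Y) (hf : CRLP f.hom)
    {I : Type u} [SmallCategory I] [IsCofiltered I] (D : I ⥤ Sp S)
    (hD : ∀ i, IsAlgSpace (D.obj i)) (hDa : ∀ (i j : I) (φ : i ⟶ j), IsAffineMor (D.map φ))
    (hqc : ∀ i, IsQuasiCompactSp (D.obj i))
    (c : Cone D) (hc : IsLimit c) : InjG (yoneda.map f) D c := by
  intro i₀ x x' h1 h2
  have h1' : x ≫ f = x' ≫ f := h1
  have h2' : c.π.app i₀ ≫ x = c.π.app i₀ ≫ x' := h2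
  obtain ⟨hc'⟩ := isLimit_whisker_over D c hc i₀
  obtain ⟨j, hj⟩ := inj_terminal f hf (Over.mkIdTerminal (X := i₀)) (Over.forget i₀ ⋙ D)
    (fun j => hD j.left) (fun i j φ => hDa _ _ φ.left) (hqc i₀)
    (c.whisker (Over.forget i₀)) hc' x x' h1' h2'
  exact ⟨j.left, ((Over.mkIdTerminal (X := i₀)).from j).left, hj⟩

theorem main10077 (S : Scheme.{u}) [QuasiSeparatedSpace S]
    {X Y : AlgSp.Space S} (f : X ⟶ Y) :
    AlgSp.LocP @LocallyOfFinitePresentation f.hom ↔
      ∀ ⦃I : Type u⦄ [SmallCategory I] [IsCofiltered I] (D : I ⥤ AlgSp.Sp S),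
        (∀ i, AlgSp.IsAlgSpace (D.obj i)) → (∀ (i j : I) (φ : i ⟶ j), AlgSp.IsAffineMor (D.map φ)) →
        (∀ i, AlgSp.IsQuasiCompactSp (D.obj i)) → (∀ i, AlgSp.IsQuasiSeparatedSp (D.obj i)) →
        ∀ (c : Cone D) (_ : IsLimit c),
          IsPullback (colimMap (Functor.whiskerLeft D.op (yoneda.map f.hom)))
            (colimit.desc (D.op ⋙ yoneda.obj X.obj) ((yoneda.obj X.obj).mapCocone c.op))
            (colimit.desc (D.op ⋙ yoneda.obj Y.obj) ((yoneda.obj Y.obj).mapCocone c.op))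
            ((yoneda.map f.hom).app (Opposite.op c.pt)) := by
  constructor
  · intro hlfp I _ _ D hD hDa hqc hqs c hc
    have hf : CRLP f.hom.hom := crlp_of_locP X.property Y.property f.hom hlfp
    exact (isPullback_iff_concrete (yoneda.map f.hom) D c).2
      ⟨surjG_of_crlp f.hom hf D hD hDa hqc hqs c hc, injG_of_crlp f.hom hf D hD hDa hqc c hc⟩
  · intro H
    apply LfpSurj.locP_lfp_of_surj
    intro I _ _ D c hc₀ hDaff hT x i y hxy
    haveI : IsConnected I := IsCofiltered.isConnected I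
    have hcO : IsLimit c := isLimitOfReflects (Over.forget S) hc₀
    have hcY : IsLimit ((yon S).mapCone c) := isLimitOfPreserves (yon S) hcO
    have hP := H (D ⋙ yon S) (fun i => IsAlgSpace.yon_obj (D.obj i))
      (fun i j φ => by
        haveI := hDaff i
        haveI := hDaff j
        exact isAffineMor_of_repWith_le_isAffineHom le_rfl _
          ((repWith_yon_map_iff @IsAffineHom (D.map φ)).2 inferInstance))
      (fun i => by
        haveI := hDaff i
        exact isQuasiCompactSp_yon_of_compactSpace (D.obj i))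
      (fun i => isQuasiSeparatedSp_yon_of_isAffine (D.obj i) (hDaff i))
      ((yon S).mapCone c) hcY
    obtain ⟨hS, -⟩ :=
      (isPullback_iff_concrete (yoneda.map f.hom) (D ⋙ yon S) ((yon S).mapCone c)).1 hP
    obtain ⟨j, φ, xj, h1, h2⟩ := hS i y x hxy
    exact ⟨j, φ, xj, h2, h1⟩

end H10PT.QcqsLim
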