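import Mathlib
import Groth.Agent.S12838
import Groth.Agent.Lib.Helper10.Fib4

/-!
# The square `G × X ⇉ X ⟶ [X/G]` is 2-cartesian (helper10)
-/

set_option autoImplicit false
set_option backward.isDefEq.respectTransparency false
set_option backward.isDefEq.respectTransparency.types false

universe u

open CategoryTheory CategoryTheory.Limits AlgebraicGeometry Opposite
open MonoidalCategory CartesianMonoidalCategory MonObj GrpObj

namespace H10Q

variable {S : Scheme.{u}} (G : Over S) [GrpObj G] {X : Over S} (aX : AlgGrp.Action G X)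

/-- The canonical functor `X ⟶ [X/G]`. -/
noncomputable abbrev Qm : AlgSt.ofSch X ⥤ᵇ AlgSt.QuotSt Scheme.fppfPrecoverage G aX :=
  AlgSt.quotMap Scheme.fppfPrecoverage G aX

/-- The object `(T, x)` of the category of `h_X`. -/
abbrev pt {T : Over S} (x : T ⟶ X) : (AlgSt.ofSch X).obj := ⟨T, ⟨x⟩⟩

/-- The morphism of trivial torsors over `f` given by right multiplication by `g`. -/
noncomputable def trivHom {T T' : Over S} (f : T ⟶ T') (x : T ⟶ X) (x' : T' ⟶ X) (g : T ⟶ G)
    (hg : lift g (f ≫ x') ≫ aX.act = x) :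
    (Qm G aX).obj (pt x) ⟶ (Qm G aX).obj (pt x') where
  base := f
  top := lift (fst G T * (snd G T ≫ g)) (snd G T ≫ f)
  eqv := Groth.Agent.S12838.leftMul_lift_eqv G g f
  cart := Groth.Agent.S12838.isPullback_shearBy G g f
  wφ := by
    change lift (fst G T * (snd G T ≫ g)) (snd G T ≫ f) ≫ ((G ◁ x') ≫ aX.act) = (G ◁ x) ≫ aX.act
    have h1 : lift (fst G T * (snd G T ≫ g)) (snd G T ≫ f) ≫ (G ◁ x') =
        lift (fst G T * (snd G T ≫ g)) (snd G T ≫ f ≫ x') := by
      apply CartesianMonoidalCategory.hom_ext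
      · simp only [Category.assoc, whiskerLeft_fst, lift_fst, lift_fst_assoc]
      · simp only [Category.assoc, whiskerLeft_snd, lift_snd, lift_snd_assoc]
    rw [← Category.assoc, h1, Groth.Agent.S12838.lift_mul_act, hg]

@[simp] theorem trivHom_base {T T' : Over S} (f : T ⟶ T') (x : T ⟶ X) (x' : T' ⟶ X) (g : T ⟶ G)
    (hg : lift g (f ≫ x') ≫ aX.act = x) : (trivHom G aX f x x' g hg).base = f := rfl

@[simp] theorem trivHom_top {T T' : Over S} (f : T ⟶ T') (x : T ⟶ X) (x' : T' ⟶ X) (g : T ⟶ G)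
    (hg : lift g (f ≫ x') ≫ aX.act = x) :
    (trivHom G aX f x x' g hg).top = lift (fst G T * (snd G T ≫ g)) (snd G T ≫ f) := rfl

lemma inv_act {T : Over S} (x x' : T ⟶ X) (g : T ⟶ G) (hg : lift g (𝟙 T ≫ x') ≫ aX.act = x) :
    lift g⁻¹ (𝟙 T ≫ x) ≫ aX.act = x' := by
  have hm : (G ◁ aX.act) ≫ aX.act = (α_ G G X).inv ≫ (μ[G] ▷ X) ≫ aX.act := by
    rw [aX.mul_act, Iso.inv_hom_id_assoc]
  have hμ : fst (G ⊗ G) X ≫ μ[G] = (fst _ _ ≫ fst G G) * (fst _ _ ≫ snd G G) := by
    rw [Hom.mul_def, ← comp_lift, lift_fst_snd, Category.comp_id]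
  rw [Category.id_comp] at hg ⊢
  have h1 : lift g⁻¹ x = lift g⁻¹ (lift g x') ≫ (G ◁ aX.act) := by
    apply CartesianMonoidalCategory.hom_ext
    · simp only [Category.assoc, whiskerLeft_fst, lift_fst, lift_fst_assoc]
    · simp only [Category.assoc, whiskerLeft_snd, lift_snd, lift_snd_assoc, hg]
  have h2 : lift g⁻¹ (lift g x') ≫ (α_ G G X).inv ≫ (μ[G] ▷ X) = lift (toUnit T ≫ η[G]) x' := by
    have h3 : toUnit T ≫ η[G] = 1 := by rw [← Hom.one_def]
    apply CartesianMonoidalCategory.hom_ext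
    · simp only [Category.assoc, lift_fst, lift_snd, lift_fst_assoc, lift_snd_assoc, comp_lift, comp_mul, whiskerRight_fst, whiskerRight_snd, whiskerRight_fst_assoc, whiskerRight_snd_assoc, associator_inv_fst_fst, associator_inv_fst_snd, associator_inv_snd, associator_inv_fst_fst_assoc, associator_inv_fst_snd_assoc, associator_inv_snd_assoc, hμ, h3, inv_mul_cancel]
    · simp only [Category.assoc, lift_fst, lift_snd, lift_fst_assoc, lift_snd_assoc, comp_lift, comp_mul, whiskerRight_fst, whiskerRight_snd, whiskerRight_fst_assoc, whiskerRight_snd_assoc, associator_inv_fst_fst, associator_inv_fst_snd, associator_inv_snd, associator_inv_fst_fst_assoc, associator_inv_fst_snd_assoc, associator_inv_snd_assoc]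
  rw [h1, Category.assoc, hm, ← Category.assoc, ← Category.assoc, Category.assoc _ (α_ G G X).inv, h2,
    Groth.Agent.S12838.unit_lift_act]

/-- The isomorphism of trivial torsors over the identity given by right multiplication by `g`. -/
noncomputable def trivIso {T : Over S} (x x' : T ⟶ X) (g : T ⟶ G)
    (hg : lift g (𝟙 T ≫ x') ≫ aX.act = x) : (Qm G aX).obj (pt x) ≅ (Qm G aX).obj (pt x') where
  hom := trivHom G aX (𝟙 T) x x' g hg
  inv := trivHom G aX (𝟙 T) x' x g⁻¹ (inv_act G aX x x' g hg)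
  hom_inv_id := by
    apply AlgSt.QuotObj.hom_ext
    · exact Category.comp_id _
    · show lift (fst G T * (snd G T ≫ g)) (snd G T ≫ 𝟙 T) ≫
        lift (fst G T * (snd G T ≫ g⁻¹)) (snd G T ≫ 𝟙 T) = 𝟙 _
      simp only [Category.comp_id, comp_lift, comp_mul, comp_inv, lift_fst, lift_snd, lift_snd_assoc, mul_inv_cancel_right, lift_fst_snd]
  inv_hom_id := by
    apply AlgSt.QuotObj.hom_ext
    · exact Category.comp_id _
    · show lift (fst G T * (snd G T ≫ g⁻¹)) (snd G T ≫ 𝟙 T) ≫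
        lift (fst G T * (snd G T ≫ g)) (snd G T ≫ 𝟙 T) = 𝟙 _
      simp only [Category.comp_id, comp_lift, comp_mul, comp_inv, lift_fst, lift_snd, lift_snd_assoc, inv_mul_cancel_right, lift_fst_snd]

section Square

/-- The functor of the action. -/
noncomputable abbrev fa : AlgSt.ofSch (G ⊗ X) ⥤ᵇ AlgSt.ofSch X :=
  AlgSt.ofSpMap ((AlgSp.yon S).map aX.act)

/-- The functor of the projection. -/
noncomputable abbrev fb : AlgSt.ofSch (G ⊗ X) ⥤ᵇ AlgSt.ofSch X :=
  AlgSt.ofSpMap ((AlgSp.yon S).map (snd G X))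

lemma hz (z : (AlgSt.ofSch (G ⊗ X)).obj) :
    lift (z.sec.down ≫ fst G X) (𝟙 z.base ≫ z.sec.down ≫ snd G X) ≫ aX.act =
      z.sec.down ≫ aX.act := by
  rw [Category.id_comp, ← comp_lift, lift_fst_snd, Category.comp_id]

/-- Component of the 2-isomorphism. -/
noncomputable def eComp (z : (AlgSt.ofSch (G ⊗ X)).obj) :
    (Qm G aX).obj ((fa G aX).obj z) ≅ (Qm G aX).obj ((fb G (X := X)).obj z) :=
  trivIso G aX (z.sec.down ≫ aX.act) (z.sec.down ≫ snd G X) (z.sec.down ≫ fst G X) (hz G aX z)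

/-- The 2-isomorphism of the square. -/
noncomputable def eIso : BasedFunctor.comp (fa G aX) (Qm G aX) ≅
    BasedFunctor.comp (fb G (X := X)) (Qm G aX) :=
  BasedNatIso.mkNatIso
    (NatIso.ofComponents (fun z => eComp G aX z) (fun {z' z} m => by
      have hm : m.hom ≫ z.sec.down = z'.sec.down := congrArg ULift.down m.map_sec
      apply AlgSt.QuotObj.hom_ext
      · show m.hom ≫ 𝟙 _ = 𝟙 _ ≫ m.hom
        rw [Category.comp_id, Category.id_comp]
      · show (G ◁ m.hom) ≫ lift (fst G z.base * (snd G z.base ≫ z.sec.down ≫ fst G X))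
            (snd G z.base ≫ 𝟙 _) =
          lift (fst G z'.base * (snd G z'.base ≫ z'.sec.down ≫ fst G X))
            (snd G z'.base ≫ 𝟙 _) ≫ (G ◁ m.hom)
        apply CartesianMonoidalCategory.hom_ext
        · simp only [Category.assoc, lift_fst, lift_snd, lift_fst_assoc, lift_snd_assoc, comp_lift, comp_mul, whiskerLeft_fst, whiskerLeft_snd, whiskerLeft_fst_assoc, whiskerLeft_snd_assoc, ← hm]
        · simp only [Category.assoc, lift_fst, lift_snd, lift_fst_assoc, lift_snd_assoc, comp_lift, comp_mul, whiskerLeft_fst, whiskerLeft_snd, whiskerLeft_fst_assoc, whiskerLeft_snd_assoc, Category.comp_id, Category.id_comp]))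
    (fun z => by
      show (AlgSt.QuotSt Scheme.fppfPrecoverage G aX).p.IsHomLift
        ((AlgSt.QuotSt Scheme.fppfPrecoverage G aX).p.map (eComp G aX z).hom) (eComp G aX z).hom
      exact IsHomLift.map _ _)

/-- Isomorphic points with the same base. -/
def ptIso {T : Over S} {x x' : T ⟶ X} (h : x = x') : pt x ≅ pt x' where
  hom := ⟨𝟙 T, congrArg ULift.up ((Category.id_comp x').trans h.symm)⟩
  inv := ⟨𝟙 T, congrArg ULift.up ((Category.id_comp x).trans h)⟩
  hom_inv_id := Stk.EltObj.hom_ext (Category.comp_id _)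
  inv_hom_id := Stk.EltObj.hom_ext (Category.comp_id _)

lemma key_fst {T' T : Over S} (φ₁ φ₂ : T' ⟶ T) (ζ : T ⟶ G ⊗ X) (ζ' : T' ⟶ G ⊗ X)
    (htop : (G ◁ φ₁) ≫ lift (fst G T * (snd G T ≫ ζ ≫ fst G X)) (snd G T ≫ 𝟙 _) =
      lift (fst G T' * (snd G T' ≫ ζ' ≫ fst G X)) (snd G T' ≫ 𝟙 _) ≫ (G ◁ φ₂)) :
    φ₁ ≫ ζ ≫ fst G X = ζ' ≫ fst G X := by
  have h3 : toUnit T' ≫ η[G] = 1 := by rw [← Hom.one_def]
  have h4 := congrArg (fun t => lift (toUnit T' ≫ η[G]) (𝟙 T') ≫ t ≫ fst G T) htop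
  simp only [Category.assoc, lift_fst, lift_snd, lift_fst_assoc, lift_snd_assoc, comp_lift,
    comp_mul, whiskerLeft_fst, whiskerLeft_snd, whiskerLeft_fst_assoc, whiskerLeft_snd_assoc, h3,
    Category.id_comp, Category.comp_id, _root_.one_mul] at h4
  exact h4

theorem isTwoCartOver_quot :
    FibCat.IsTwoCartOver (fa G aX) (fb G (X := X)) (eIso G aX) := by
  show FibCat.IsEquivOver (FibCat.fpLift (fa G aX) (fb G (X := X)) (eIso G aX))
  haveI : (FibCat.fpLift (fa G aX) (fb G (X := X)) (eIso G aX)).toFunctor.Faithful :=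
    ⟨fun {z' z} m m' h => by
      apply Stk.EltObj.hom_ext
      exact congrArg (fun n => n.hom.fst.hom) h⟩
  haveI : (FibCat.fpLift (fa G aX) (fb G (X := X)) (eIso G aX)).toFunctor.Full :=
    ⟨fun {z' z} n => by
      have hw : (Qm G aX).map n.hom.fst ≫ (eComp G aX z).hom =
          (eComp G aX z').hom ≫ (Qm G aX).map n.hom.snd := n.hom.w
      have hbase0 : n.hom.fst.hom ≫ 𝟙 z.base = 𝟙 z'.base ≫ n.hom.snd.hom :=
        congrArg (fun h => h.base) hw
      have hbase : n.hom.fst.hom = n.hom.snd.hom :=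
        (Category.comp_id _).symm.trans (hbase0.trans (Category.id_comp _))
      have htop : (G ◁ n.hom.fst.hom) ≫ lift (fst G z.base * (snd G z.base ≫ z.sec.down ≫ fst G X))
            (snd G z.base ≫ 𝟙 _) =
          lift (fst G z'.base * (snd G z'.base ≫ z'.sec.down ≫ fst G X))
            (snd G z'.base ≫ 𝟙 _) ≫ (G ◁ n.hom.snd.hom) :=
        congrArg (fun h => h.top) hw
      have hs₂ : n.hom.snd.hom ≫ z.sec.down ≫ snd G X = z'.sec.down ≫ snd G X :=
        congrArg ULift.down n.hom.snd.map_sec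
      have hg : n.hom.fst.hom ≫ z.sec.down ≫ fst G X = z'.sec.down ≫ fst G X :=
        key_fst G n.hom.fst.hom n.hom.snd.hom z.sec.down z'.sec.down htop
      have hζ : n.hom.fst.hom ≫ z.sec.down = z'.sec.down := by
        apply CartesianMonoidalCategory.hom_ext
        · rw [Category.assoc]
          exact hg
        · rw [Category.assoc, hbase]
          exact hs₂
      refine ⟨⟨n.hom.fst.hom, congrArg ULift.up hζ⟩, ?_⟩
      apply ObjectProperty.hom_ext
      apply CategoricalPullback.hom_ext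
      · exact Stk.EltObj.hom_ext rfl
      · exact Stk.EltObj.hom_ext hbase⟩
  refine Groth.Agent.Lib.Helper10.Fib.isEquivOver_of_ff _ (fun y => ?_)
  obtain ⟨⟨p₁, p₂, ψ⟩, hψ⟩ := y
  obtain ⟨T₁, ⟨x₁⟩⟩ := p₁
  obtain ⟨T₂, ⟨x₂⟩⟩ := p₂
  have hψ' : (AlgSt.QuotSt Scheme.fppfPrecoverage G aX).p.IsHomLift (𝟙 T₁) ψ.hom := hψ
  have hT : T₂ = T₁ := IsHomLift.codomain_eq (AlgSt.QuotSt Scheme.fppfPrecoverage G aX).p (𝟙 T₁) ψ.hom
  subst hT
  have hb : ψ.hom.base = 𝟙 T₂ := by
    have h5 := IsHomLift.fac' (AlgSt.QuotSt Scheme.fppfPrecoverage G aX).p (𝟙 T₂) ψ.hom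
    simp only [eqToHom_refl, Category.id_comp, Category.comp_id] at h5
    exact h5
  obtain ⟨g, hg, htop⟩ := (Groth.Agent.S12838.result S G X aX T₂ T₂ (𝟙 T₂) x₁ x₂).1 ψ.hom hb
  rw [Category.id_comp] at hg
  subst hg
  have hsnd : lift g x₂ ≫ snd G X = x₂ := lift_snd _ _
  refine ⟨⟨T₂, ⟨lift g x₂⟩⟩,
    ObjectProperty.isoMk _ (CategoricalPullback.mkIso (Iso.refl _) (ptIso hsnd) ?_), ?_⟩
  · apply AlgSt.QuotObj.hom_ext
    · show 𝟙 T₂ ≫ ψ.hom.base = 𝟙 T₂ ≫ 𝟙 T₂
      rw [hb]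
    · show (G ◁ 𝟙 T₂) ≫ ψ.hom.top =
        lift (fst G T₂ * (snd G T₂ ≫ lift g x₂ ≫ fst G X)) (snd G T₂ ≫ 𝟙 T₂) ≫ (G ◁ 𝟙 T₂)
      simp only [htop, lift_fst, MonoidalCategory.whiskerLeft_id, Category.id_comp,
        Category.comp_id]
  · refine IsHomLift.of_fac' _ _ _ rfl rfl ?_
    simp only [eqToHom_refl, Category.id_comp, Category.comp_id]
    rfl

end Square

end H10Q
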