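import Mathlib
import Groth.Agent.Lib.Helper10.AlgStOpenSub
import Groth.Agent.Lib.Helper10.Boot3
import Groth.Agent.Lib.Helper22.SmoothRed
import Groth.Agent.Lib.Helper16.SchImg2

/-!
# Reduced closed substacks, part 1 (helper10)

* `exists_factor_of_sieve`: factoring through a monomorphism of schemes is local for the fppf
  topology.
* `factors_of_reduced`: a morphism from a reduced scheme landing set theoretically in a closed
  subscheme factors through it.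
* `facQ x j`: the objects `ξ` of `𝒳` such that every `x a ⟶ ξ` has `a` factoring through `j`.
* `facQ_chart`: if `j : Z ⟶ U` is the reduced induced structure on the preimage of a subset of
  `|𝒳|` under a smooth chart `x`, then `x a` lies in `facQ x j` iff `a` factors through `j`.
-/

set_option autoImplicit false
set_option backward.isDefEq.respectTransparency false
set_option backward.isDefEq.respectTransparency.types false

universe u

open CategoryTheory CategoryTheory.Limits AlgebraicGeometry Opposite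

namespace H10PT.RedClosed

open Groth.Agent.Lib.Helper10.Fib Groth.Agent.Lib.Helper10.AlgStRep
open Groth.Agent.Lib.Helper28.AlgSt.Bridge Groth.Agent.Lib.Helper28.AlgSt.SpaceCalc
open Groth.Agent.Lib.Helper28.AlgSt.PropInst Groth.Agent.Lib.Helper28.AlgSt.Comp
open Groth.Agent.Lib.Helper28.AlgSt.Whisker Groth.Agent.Lib.Helper28.AlgSt.Key
open Groth.Agent.Lib.Helper28.AlgSt.Descent Groth.Agent.Lib.Helper28.AlgSt.DiagComp
open Groth.Agent.Lib.Helper28.AlgSt.ChartOver Groth.Agent.Lib.Helper28.AlgSt.IsoEquiv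
open Groth.Agent.Lib.Helper16 Groth.Agent.Lib.Helper16.AlgStDC
open Groth.Agent.Lib.Helper10.StkSub

variable {S : Scheme.{u}} {𝒳 : AlgSt.Cat S}

/-- Factoring through a monomorphism is local for the fppf topology. -/
theorem exists_factor_of_sieve {U ZU : Over S} (j : ZU ⟶ U) [Mono j] {W : Over S} (f : W ⟶ U)
    (R : Sieve W) (hR : R ∈ AlgSp.J S W)
    (h : ∀ ⦃V : Over S⦄ (g : V ⟶ W), R g → ∃ b : V ⟶ ZU, b ≫ j = g ≫ f) :
    ∃ b : W ⟶ ZU, b ≫ j = f := by
  have hshZ : Presieve.IsSheaf (AlgSp.J S) (yoneda.obj ZU) :=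
    GrothendieckTopology.Subcanonical.isSheaf_of_isRepresentable _
  have hshU : Presieve.IsSheaf (AlgSp.J S) (yoneda.obj U) :=
    GrothendieckTopology.Subcanonical.isSheaf_of_isRepresentable _
  choose b hb using h
  obtain ⟨b₀, hb₀, -⟩ := hshZ R hR (fun V g hg => b g hg) (by
    intro V₁ V₂ Z g₁ g₂ f₁ f₂ h₁ h₂ heq
    show g₁ ≫ b f₁ h₁ = g₂ ≫ b f₂ h₂
    rw [← cancel_mono j, Category.assoc, Category.assoc, hb, hb, ← Category.assoc,
      ← Category.assoc, heq])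
  refine ⟨b₀, ?_⟩
  apply (hshU R hR).isSeparatedFor.ext
  intro V g hg
  show g ≫ b₀ ≫ j = g ≫ f
  have h1 : g ≫ b₀ = b g hg := hb₀ g hg
  rw [← Category.assoc, h1, hb]

/-- A morphism from a reduced scheme which lands set theoretically in a closed subscheme factors
through it. -/
theorem factors_of_reduced {U ZU : Over S} (j : ZU ⟶ U) [IsClosedImmersion j.left] (a : Over U)
    [IsReduced a.left.left] (h : ∀ τ : ↥a.left.left, a.hom.left τ ∈ Set.range j.left) :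
    ∃ b : a.left ⟶ ZU, b ≫ j = a.hom := by
  have : Surjective (pullback.fst a.hom.left j.left) := by
    refine ⟨fun τ => ?_⟩
    obtain ⟨z, hz⟩ := h τ
    obtain ⟨w, hw1, -⟩ := Scheme.Pullback.exists_preimage_pullback τ z hz.symm
    exact ⟨w, hw1⟩
  have : IsIso (pullback.fst a.hom.left j.left) := isIso_of_isClosedImmersion_of_surjective _
  obtain ⟨b₀, hb₀def⟩ : ∃ b₀ : a.left.left ⟶ ZU.left,
      b₀ = inv (pullback.fst a.hom.left j.left) ≫ pullback.snd a.hom.left j.left := ⟨_, rfl⟩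
  have hb₀ : b₀ ≫ j.left = a.hom.left := by
    rw [hb₀def, Category.assoc, ← pullback.condition, IsIso.inv_hom_id_assoc]
  refine ⟨Over.homMk b₀ ?_, ?_⟩
  · rw [← Over.w j, ← Category.assoc, hb₀]
    exact Over.w a.hom
  · apply Over.OverMorphism.ext
    exact hb₀

section FacQ

variable {U ZU : Over S}

/-- The objects `ξ` such that for every `x a ⟶ ξ` the object `a` of `(Sch/U)` factors through
`j`. -/
def facQ (x : FibCat.overCat U ⥤ᵇ 𝒳) (j : ZU ⟶ U) (ξ : 𝒳.obj) : Prop :=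
  ∀ (a : Over U) (_ : x.obj a ⟶ ξ), ∃ b : a.left ⟶ ZU, b ≫ j = a.hom

theorem facQ_of_hom {x : FibCat.overCat U ⥤ᵇ 𝒳} {j : ZU ⟶ U} {ξ ξ' : 𝒳.obj} (φ : ξ' ⟶ ξ)
    (h : facQ x j ξ) : facQ x j ξ' :=
  fun a m => h a (m ≫ φ)

theorem isClosedUnderIso_facQ (x : FibCat.overCat U ⥤ᵇ 𝒳) (j : ZU ⟶ U) :
    ObjectProperty.IsClosedUnderIsomorphisms (facQ x j) :=
  ⟨fun e h => facQ_of_hom e.inv h⟩

/-- `facQ` is local for the fppf topology. -/
theorem facQ_local (x : FibCat.overCat U ⥤ᵇ 𝒳) (j : ZU ⟶ U) [Mono j] {W : Over S} (R : Sieve W)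
    (hR : R ∈ AlgSp.J S W) (ξ : 𝒳.obj) (hξ : 𝒳.p.obj ξ = W)
    (h : ∀ ⦃V : Over S⦄ (f : V ⟶ W), R f → ∀ (η : 𝒳.obj) (φ : η ⟶ ξ), 𝒳.p.IsHomLift f φ →
      facQ x j η) : facQ x j ξ := by
  intro a m
  obtain ⟨g, hg⟩ : ∃ g : a.left ⟶ W, 𝒳.p.IsHomLift g m := exists_baseHom (x.w_obj a) hξ m
  refine exists_factor_of_sieve j a.hom (R.pullback g) ((AlgSp.J S).pullback_stable g hR) ?_
  intro V k hk
  obtain ⟨κ, hκ⟩ : ∃ κ : (Over.mk (k ≫ a.hom) : Over U) ⟶ a, κ = Over.homMk k rfl := ⟨_, rfl⟩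
  have h1 : (FibCat.overCat U).p.IsHomLift k κ :=
    isHomLift_of_eq (FibCat.overCat U).p (a := (Over.mk (k ≫ a.hom) : Over U)) (b := a) k κ
      (by rw [hκ]; rfl)
  have h2 : 𝒳.p.IsHomLift k (x.map κ) := inferInstance
  have := hg
  have h3 : 𝒳.p.IsHomLift (k ≫ g) (x.map κ ≫ m) := inferInstance
  exact h (k ≫ g) hk (x.obj (Over.mk (k ≫ a.hom))) (x.map κ ≫ m) h3 (Over.mk (k ≫ a.hom)) (𝟙 _)

end FacQ

/-- The key invariance: if `j : Z ⟶ U` is a closed immersion from a reduced scheme whose image is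
the preimage of `T ⊆ |𝒳|` under the smooth chart `x`, then `x` of `j` lies in `facQ x j`. -/
theorem facQ_self (h𝒳g : FibCat.IsFibGrpd 𝒳.p) {U ZU : Over S} (x : FibCat.overCat U ⥤ᵇ 𝒳)
    (hsm : AlgSt.RepByAlgSpWith (AlgSp.LocP @Smooth) x) (j : ZU ⟶ U)
    [IsClosedImmersion j.left] [IsReduced ZU.left] (T : Set (AlgSt.Points 𝒳))
    (hjT : ∀ z : ↥ZU.left, AlgSt.Points.ofChart x (j.left z) ∈ T)
    (hTj : ∀ u : ↥U.left, AlgSt.Points.ofChart x u ∈ T → u ∈ Set.range j.left) :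
    facQ x j (x.obj (Over.mk j)) := by
  intro a m
  have hpts : ptsIn T (x.obj (Over.mk j)) :=
    (ptsIn_iff_chart h𝒳g T x (Over.mk j)).2 (fun z => hjT z)
  have hfac : ∀ a' : Over U, IsReduced a'.left.left → (x.obj a' ⟶ x.obj (Over.mk j)) →
      ∃ b : a'.left ⟶ ZU, b ≫ j = a'.hom := by
    intro a' hred m'
    have := hred
    refine factors_of_reduced j a' (fun τ => hTj _ ?_)
    exact (ptsIn_iff_chart h𝒳g T x a').1 (ptsIn_of_hom m' hpts) τ
  obtain ⟨F, e, he, hπ⟩ := hsm ZU (BasedFunctor.comp (AlgSt.overMap j) x)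
  let Φ₁ : AlgSt.ofSp F.obj ⥤ᵇ FibCat.overCat ZU :=
    BasedFunctor.comp e (FibCat.fpFst (BasedFunctor.comp (AlgSt.overMap j) x) x)
  let Φ₂ : AlgSt.ofSp F.obj ⥤ᵇ FibCat.overCat U :=
    BasedFunctor.comp e (FibCat.fpSnd (BasedFunctor.comp (AlgSt.overMap j) x) x)
  -- every object of the fibre product maps to `x j`
  have hmor : ∀ t : (AlgSt.ofSp F.obj).obj, Nonempty (x.obj (Φ₂.obj t) ⟶ x.obj (Over.mk j)) := by
    intro t
    let k : (Over.map j).obj (e.obj t).obj.fst ⟶ Over.mk j :=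
      Over.homMk (e.obj t).obj.fst.hom rfl
    exact ⟨(e.obj t).obj.iso.inv ≫ x.map k⟩
  -- sections over reduced schemes factor
  have hsec : ∀ t : (AlgSt.ofSp F.obj).obj, IsReduced t.base.left →
      ∃ b : t.base ⟶ ZU, b ≫ j = AlgSt.secHom Φ₂ t := by
    intro t hred
    have hw : (Φ₂.obj t).left = t.base := Φ₂.w_obj t
    have hred' : IsReduced (Φ₂.obj t).left.left := by rw [hw]; exact hred
    obtain ⟨m'⟩ := hmor t
    obtain ⟨b, hb⟩ := hfac (Φ₂.obj t) hred' m'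
    exact ⟨eqToHom hw.symm ≫ b, by rw [Category.assoc, hb]; rfl⟩
  -- an etale atlas of the fibre product is reduced
  obtain ⟨P', p, hpe, hps⟩ := F.property.atlas
  obtain ⟨g', hg'⟩ := (AlgSp.yon S).map_surjective (p ≫ AlgSt.spMapOfOver Φ₁)
  have hc : p ≫ AlgSt.spMapOfOver Φ₁ = (AlgSp.yon S).map g' ≫ 𝟙 _ := by
    rw [Category.comp_id, hg']
  have hgsm : Smooth g'.left := hπ p (𝟙 _) g' hpe (AlgSp.repWith_id _ ZU) hc
  have hP'red : IsReduced P'.left :=
    Groth.Agent.Lib.Helper22.SmoothRed.isReduced_of_smooth g'.left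
  obtain ⟨b₀, hb₀⟩ := hsec ⟨P', (AlgSp.J S).uliftYonedaEquiv p⟩ hP'red
  have hp2 : p ≫ AlgSt.spMapOfOver Φ₂ = (AlgSp.yon S).map b₀ ≫ (AlgSp.yon S).map j := by
    rw [← Functor.map_comp, hb₀]
    apply (AlgSp.J S).uliftYonedaEquiv.injective
    rw [GrothendieckTopology.uliftYonedaEquiv_comp,
      GrothendieckTopology.uliftYonedaEquiv_uliftYoneda_map]
    exact AlgSt.spMapOfOver_app Φ₂ P' _
  have : Epi p := epi_of_etale_surjective p hpe hps
  have : Mono ((AlgSp.yon S).map j) :=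
    Groth.Agent.Lib.Helper16.SchImg.mono_of_repWith_isClosedImmersion _
      ((AlgSp.repWith_yon_map_iff @IsClosedImmersion j).2 inferInstance)
  obtain ⟨l, hl⟩ := Groth.Agent.Lib.Helper16.SchImg.exists_lift_of_epi_mono p
    ((AlgSp.yon S).map j) (AlgSt.spMapOfOver Φ₂) ((AlgSp.yon S).map b₀) hp2
  -- every section factors
  have hall : ∀ t : (AlgSt.ofSp F.obj).obj, ∃ b : t.base ⟶ ZU, b ≫ j = AlgSt.secHom Φ₂ t := by
    intro t
    obtain ⟨b, hb⟩ := (AlgSp.yon S).map_surjective ((AlgSp.J S).uliftYonedaEquiv.symm t.sec ≫ l)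
    refine ⟨b, ?_⟩
    have h1 : (AlgSp.J S).uliftYonedaEquiv.symm t.sec ≫ AlgSt.spMapOfOver Φ₂ =
        (AlgSp.yon S).map (b ≫ j) := by
      rw [← hl, ← Category.assoc, ← hb, Functor.map_comp]
    have h2 := congrArg (AlgSp.J S).uliftYonedaEquiv h1
    rw [GrothendieckTopology.uliftYonedaEquiv_comp, Equiv.apply_symm_apply,
      GrothendieckTopology.uliftYonedaEquiv_uliftYoneda_map, AlgSt.spMapOfOver_app] at h2
    exact (congrArg ULift.down h2).symm
  -- the object of the fibre product defined by `(a, m)`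
  obtain ⟨g, hg⟩ : ∃ g : a.left ⟶ ZU, 𝒳.p.IsHomLift g m :=
    exists_baseHom (x.w_obj a) (x.w_obj (Over.mk j)) m
  obtain ⟨k, hk⟩ : ∃ k : (Over.map j).obj (Over.mk g) ⟶ Over.mk j, k = Over.homMk g rfl :=
    ⟨_, rfl⟩
  have hk1 : (FibCat.overCat U).p.IsHomLift g k :=
    isHomLift_of_eq (FibCat.overCat U).p (a := (Over.map j).obj (Over.mk g)) (b := Over.mk j) g k
      (by rw [hk]; rfl)
  have hk2 : 𝒳.p.IsHomLift g (x.map k) := inferInstance
  have := hg
  have hsc : 𝒳.p.IsStronglyCartesian g (x.map k) := IsFibGrpd.sc h𝒳g g (x.map k)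
  obtain ⟨χ, ⟨hχ1, hχ2⟩, -⟩ := Functor.IsStronglyCartesian.universal_property 𝒳.p g (x.map k)
    (𝟙 _) g (Category.id_comp g).symm m
  have := hχ1
  have hχiso : IsIso χ := IsFibGrpd.isIso_of_isHomLift_id h𝒳g (U := a.left) χ
  have hχinv : 𝒳.p.IsHomLift (𝟙 a.left) (asIso χ).inv := lift_inv_of_lift 𝒳.p (asIso χ) hχ1
  obtain ⟨z, hz⟩ : ∃ z : (FibCat.fp (BasedFunctor.comp (AlgSt.overMap j) x) x).obj,
      z.obj.snd = a := ⟨⟨⟨Over.mk g, a, (asIso χ).symm⟩, hχinv⟩, rfl⟩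
  subst hz
  obtain ⟨t', ε, -⟩ := IsEquivOver.exists_iso he z
  obtain ⟨b, hb⟩ := hall t'
  let ε₂ : z.obj.snd ⟶ Φ₂.obj t' :=
    (FibCat.fpSnd (BasedFunctor.comp (AlgSt.overMap j) x) x).map ε.inv
  have hw2 : ε₂.left ≫ (Φ₂.obj t').hom = z.obj.snd.hom := Over.w ε₂
  have hw' : (Φ₂.obj t').left = t'.base := Φ₂.w_obj t'
  refine ⟨ε₂.left ≫ eqToHom hw' ≫ b, ?_⟩
  rw [Category.assoc, Category.assoc, hb, ← hw2]
  congr 1
  simp only [AlgSt.secHom, eqToHom_trans_assoc, eqToHom_refl, Category.id_comp]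

/-- Chart form: `x a` lies in `facQ x j` iff `a` factors through `j`. -/
theorem facQ_chart (h𝒳g : FibCat.IsFibGrpd 𝒳.p) {U ZU : Over S} (x : FibCat.overCat U ⥤ᵇ 𝒳)
    (hsm : AlgSt.RepByAlgSpWith (AlgSp.LocP @Smooth) x) (j : ZU ⟶ U)
    [IsClosedImmersion j.left] [IsReduced ZU.left] (T : Set (AlgSt.Points 𝒳))
    (hjT : ∀ z : ↥ZU.left, AlgSt.Points.ofChart x (j.left z) ∈ T)
    (hTj : ∀ u : ↥U.left, AlgSt.Points.ofChart x u ∈ T → u ∈ Set.range j.left) (a : Over U) :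
    facQ x j (x.obj a) ↔ ∃ b : a.left ⟶ ZU, b ≫ j = a.hom := by
  constructor
  · intro h
    exact h a (𝟙 _)
  · rintro ⟨b, hb⟩
    exact facQ_of_hom (x.map (Over.homMk b hb : a ⟶ Over.mk j))
      (facQ_self h𝒳g x hsm j T hjT hTj)

end H10PT.RedClosed
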