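import Mathlib
import Groth.Agent.Lib.Helper10.TB10

/-!
# The true smooth bootstrap for sheaves: descent step and main theorem (helper10, part 11)
-/

set_option autoImplicit false

universe u

open CategoryTheory CategoryTheory.Limits AlgebraicGeometry Opposite AlgSp

namespace H10PT.TB

open Groth.Agent.Lib.Helper16

variable {S : Scheme.{u}} {F : Sp S} {U : Over S} {p : (yon S).obj U ⟶ F}

theorem ofPt_yon_map {W T : Over S} (φ : W ⟶ T) (w : W.left) :
    Points.ofPt ((yon S).map φ) w = Points.schemeHomeo T (φ.left w) := by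
  rw [← Points.map_yon_map_apply]
  change Points.ofPt _ w = Points.map _ (Points.ofPt (𝟙 _) w)
  rw [Points.map_ofPt, Category.id_comp]

theorem exists_etale_local_lift (hp : SmoothCover p) {T : Over S} (ξ : (yon S).obj T ⟶ F) :
    ∃ (T' : Over S) (e : T' ⟶ T) (u : T' ⟶ U), Etale e.left ∧ Surjective e.left ∧
      (yon S).map u ≫ p = (yon S).map e ≫ ξ := by
  obtain ⟨hP, hsurj, hsm⟩ := hp ξ (pullback.fst p ξ) (pullback.snd p ξ)
    (IsPullback.of_hasPullback p ξ)
  obtain ⟨A, a, hae, has⟩ := hP.atlas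
  obtain ⟨h, hh⟩ := (yon S).map_surjective (a ≫ pullback.snd p ξ)
  obtain ⟨u₀, hu₀⟩ := (yon S).map_surjective (a ≫ pullback.fst p ξ)
  haveI : Smooth h.left := hsm a (𝟙 _) h hae (repWith_id _ T) (by rw [Category.comp_id, hh])
  haveI : Surjective h.left := by
    apply surjective_left_of_points
    rw [hh]
    intro x
    obtain ⟨z, hz⟩ := hsurj x
    obtain ⟨w, hw⟩ := (repWith_surjective_iff a hae.rep).1 has z
    exact ⟨w, by rw [Points.map_comp, hw, hz]⟩
  obtain ⟨Y', c, s, hce, hcs, hsc⟩ := H10PT.Boot.exists_etale_cover_section h.left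
  have hsA : s ≫ A.hom = c ≫ T.hom := by
    rw [← Over.w h, ← Category.assoc, hsc]
  obtain ⟨σ, hσ⟩ : ∃ σ : Over.mk (c ≫ T.hom) ⟶ A, σ = Over.homMk s hsA := ⟨_, rfl⟩
  obtain ⟨e, he⟩ : ∃ e : Over.mk (c ≫ T.hom) ⟶ T, e = Over.homMk c rfl := ⟨_, rfl⟩
  have hσh : σ ≫ h = e := by
    ext
    rw [Over.comp_left, hσ, he]
    exact hsc
  refine ⟨Over.mk (c ≫ T.hom), e, σ ≫ u₀, ?_, ?_, ?_⟩
  · rw [he]; exact hce
  · rw [he]; exact hcs
  · rw [Functor.map_comp, Category.assoc, hu₀, Category.assoc, pullback.condition,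
      ← Category.assoc a, ← hh, ← Category.assoc, ← Functor.map_comp, hσh]

set_option maxHeartbeats 1600000 in
theorem isAlgSpace_of_pchart (hp : SmoothCover p) {V : Over S} (φ : (yon S).obj V ⟶ F)
    (C : PChart p φ) (hCs : RepWith @Surjective C.χ) (het : Etale C.f'.left)
    (hsurj : Surjective C.f'.left) : IsAlgSpace F := by
  apply EtChart.isAlgSpace_of_repBySp_etale_surjective (IsAlgSpace.yon_obj V) φ
  intro T ξ Z fstZ sndZ sqZ
  obtain ⟨hG, -, -⟩ := hp φ (pullback.snd φ p) (pullback.fst φ p)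
    (IsPullback.of_hasPullback φ p).flip
  have hGet : LocP @Etale (pullback.snd φ p) :=
    locP_of_chart etLocalST_etale _ C.χ (𝟙 _) C.f' C.et hCs (repWith_id _ U)
      (by rw [Category.comp_id]; exact C.hf'.symm) het
  obtain ⟨T', e, u, he, hes, hu⟩ := exists_etale_local_lift hp ξ
  obtain ⟨Z', z1, z2, sqZ'⟩ : ∃ (Z' : Sp S) (z1 : Z' ⟶ Z) (z2 : Z' ⟶ (yon S).obj T'),
      IsPullback z1 z2 sndZ ((yon S).map e) := ⟨_, _, _, IsPullback.of_hasPullback _ _⟩
  have big : IsPullback (z1 ≫ fstZ) z2 φ ((yon S).map u ≫ p) := by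
    rw [hu]
    exact sqZ'.paste_horiz sqZ
  obtain ⟨m, hm1, hm2⟩ : ∃ m : Z' ⟶ pullback φ p, m ≫ pullback.fst φ p = z1 ≫ fstZ ∧
      m ≫ pullback.snd φ p = z2 ≫ (yon S).map u :=
    ⟨pullback.lift (z1 ≫ fstZ) (z2 ≫ (yon S).map u)
      (by rw [big.w, Category.assoc]), pullback.lift_fst _ _ _,
      pullback.lift_snd _ _ _⟩
  have left : IsPullback m z2 (pullback.snd φ p) ((yon S).map u) := by
    refine IsPullback.of_right ?_ hm2 (IsPullback.of_hasPullback φ p)
    rw [hm1]
    exact big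
  have hZ' : IsAlgSpace Z' :=
    isAlgSpace_of_isPullback hG (IsAlgSpace.yon_obj U).diag (IsAlgSpace.yon_obj T') left
  have hz2 : LocP @Etale z2 :=
    locP_of_isPullback etLocalST_etale hG (IsAlgSpace.yon_obj U) left hGet
  have hz1e : RepWith @Etale z1 :=
    (RepWith (S := S) @Etale).of_isPullback sqZ'.flip ((repWith_yon_map_iff _ _).2 he)
  have hz1s : RepWith @Surjective z1 :=
    (RepWith (S := S) @Surjective).of_isPullback sqZ'.flip ((repWith_yon_map_iff _ _).2 hes)
  have hZ : IsAlgSpace Z := EtChart.isAlgSpace_of_repWith_etale_surjective hZ' z1 hz1e hz1s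
  obtain ⟨A', a', ha'e, ha's⟩ := hZ'.atlas
  obtain ⟨hA, hhA⟩ := (yon S).map_surjective (a' ≫ z2)
  have hAet : Etale hA.left :=
    hz2 a' (𝟙 _) hA ha'e (repWith_id _ T') (by rw [Category.comp_id, hhA])
  have hsndet : LocP @Etale sndZ := by
    refine locP_of_chart etLocalST_etale sndZ (a' ≫ z1) ((yon S).map e) hA
      ((RepWith (S := S) @Etale).comp_mem _ _ ha'e hz1e)
      ((RepWith (S := S) @Surjective).comp_mem _ _ ha's hz1s)
      ((repWith_yon_map_iff _ _).2 he) ?_ hAet
    rw [Category.assoc, sqZ'.w, ← Category.assoc, hhA]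
  refine ⟨hZ, ?_, (isEtaleMor_iff_locP_etale (IsAlgSpace.yon_obj T) sndZ).2 hsndet⟩
  intro x
  obtain ⟨t, rfl⟩ := (Points.schemeHomeo T).surjective x
  obtain ⟨t', rfl⟩ := hes.surj t
  obtain ⟨y, hy⟩ := hsurj.surj (u.left t')
  have sqW := isPullback_left_forget C.f' u
  obtain ⟨w, hw1, hw2⟩ := exists_preimage_of_isPullback sqW y t' hy
  have hcompat : ((yon S).map (pullback.fst C.f' u) ≫ C.χ ≫ pullback.fst φ p) ≫ φ =
      (yon S).map (pullback.snd C.f' u ≫ e) ≫ ξ := by
    rw [Category.assoc, Category.assoc, pullback.condition, ← Category.assoc C.χ, ← C.hf',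
      ← Category.assoc, ← Functor.map_comp, pullback.condition, Functor.map_comp,
      Functor.map_comp, Category.assoc, Category.assoc, hu]
  refine ⟨Points.ofPt (sqZ.lift _ _ hcompat) w, ?_⟩
  rw [Points.map_ofPt, sqZ.lift_snd, ofPt_yon_map, ← hw2]
  rfl

/-- **True smooth bootstrap, scheme source.** -/
theorem isAlgSpace_of_smoothCover (hp : SmoothCover p) : IsAlgSpace F := by
  obtain ⟨K, hs, ht, htsurj⟩ := exists_kchart hp
  haveI := hs
  haveI := ht
  obtain ⟨V, k, het, hsurj⟩ := exists_global_slice K htsurj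
  exact isAlgSpace_of_pchart hp _ (PChart.ofK K k) (PChart.ofK_surj K k) het hsurj

/-- **True smooth bootstrap.** A sheaf with a surjective smooth cover, representable by algebraic
spaces, by an algebraic space is an algebraic space. -/
theorem isAlgSpace_of_repBySpWith_smooth_cover (F : Sp S) (X : AlgSp.Space S) (p : X.obj ⟶ F)
    (hp : RepBySpWith (IsSurjectiveMor ⊓ LocP @Smooth) p.hom) : IsAlgSpace F := by
  rw [repBySpWith_hom_iff] at hp
  obtain ⟨U₀, a, hae, has⟩ := X.property.atlas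
  apply isAlgSpace_of_smoothCover (p := a ≫ p)
  intro T ξ F' fst snd sq
  obtain ⟨hP, hPs, hPsm⟩ := hp ξ (pullback.fst p ξ) (pullback.snd p ξ)
    (IsPullback.of_hasPullback p ξ)
  obtain ⟨l, hl1, hl2⟩ : ∃ l : F' ⟶ pullback p ξ, l ≫ pullback.fst p ξ = fst ≫ a ∧
      l ≫ pullback.snd p ξ = snd :=
    ⟨pullback.lift (fst ≫ a) snd (by rw [Category.assoc]; exact sq.w), pullback.lift_fst _ _ _,
      pullback.lift_snd _ _ _⟩
  have sql : IsPullback fst l a (pullback.fst p ξ) := by
    refine IsPullback.of_bot ?_ hl1.symm (IsPullback.of_hasPullback p ξ)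
    rw [hl2]
    exact sq
  have hle : RepWith @Etale l := (RepWith (S := S) @Etale).of_isPullback sql hae
  have hls : RepWith @Surjective l := (RepWith (S := S) @Surjective).of_isPullback sql has
  have hF' : IsAlgSpace F' := isAlgSpace_of_representable hP l hle.rep
  refine ⟨hF', ?_, ?_⟩
  · rw [← hl2]
    intro x
    obtain ⟨z, hz⟩ := hPs x
    obtain ⟨w, hw⟩ := (repWith_surjective_iff l hle.rep).1 hls z
    exact ⟨w, by rw [Points.map_comp, hw, hz]⟩
  · rw [← hl2]
    exact locP_comp etLocalST_smooth hF' hP (IsAlgSpace.yon_obj T) l _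
      (locP_of_repWith_etale etLocalST_smooth hF' hP l hle) hPsm

end H10PT.TB
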