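import Mathlib
import Groth.Agent.Lib.Helper10.TB11
import Groth.Agent.Lib.Helper10.Boot3
import Groth.Agent.Lib.Helper28.AlgSt.DiagTFAE

/-!
# The true smooth bootstrap for stacks in setoids (helper10, part 12)
-/

set_option autoImplicit false
set_option backward.isDefEq.respectTransparency false
set_option backward.isDefEq.respectTransparency.types false

universe u

open CategoryTheory CategoryTheory.Limits AlgebraicGeometry Opposite

namespace H10PT.Boot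

open Groth.Agent.Lib.Helper10.Fib Groth.Agent.Lib.Helper10.AlgStRep
open Groth.Agent.Lib.Helper10.StkPsh Groth.Agent.Lib.Helper10.HomSheaf
open Groth.Agent.Lib.Helper10.StkPost Groth.Agent.Lib.Helper10.StkElem
open Groth.Agent.Lib.Helper28.AlgSt.Bridge Groth.Agent.Lib.Helper28.AlgSt.SpaceCalc
open Groth.Agent.Lib.Helper28.AlgSt.PropInst Groth.Agent.Lib.Helper28.AlgSt.Comp
open Groth.Agent.Lib.Helper28.AlgSt.Whisker Groth.Agent.Lib.Helper28.AlgSt.Key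
open Groth.Agent.Lib.Helper28.AlgSt.Descent Groth.Agent.Lib.Helper28.AlgSt.DiagComp
open Groth.Agent.Lib.Helper28.AlgSt.ChartOver Groth.Agent.Lib.Helper28.AlgSt.IsoEquiv
open Groth.Agent.Lib.Helper28.AlgSt.ClsPsh Groth.Agent.Lib.Helper28.AlgSt.PshFun
open Groth.Agent.Lib.Helper28.AlgSt.Chart Groth.Agent.Lib.Helper28.AlgSt.DiagRep
open Groth.Agent.Lib.Helper28.AlgSt.Basic Groth.Agent.Lib.Helper28.AlgSt.FpStack
open Groth.Agent.Lib.Helper28.AlgSt.StackDesc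
open Groth.Agent.Lib.Helper16 Groth.Agent.Lib.Helper16.AlgStDC Groth.Agent.Lib.Helper15
open H10PT.MonoQC

variable {S : Scheme.{u}}

/-- Surjective and smooth. -/
abbrev QSm (S : Scheme.{u}) : MorphismProperty (AlgSp.Sp S) :=
  AlgSp.IsSurjectiveMor ⊓ AlgSp.LocP @Smooth

theorem good_QSm : Good (QSm S) := good_surjective.inf good_smooth

/-- A stack in setoids with a surjective smooth cover by an algebraic space is an algebraic
space. -/
theorem repByAlgSp_of_smooth_cover {ℐ 𝒜 : AlgSt.Cat S} (hℐ : Stk.IsStack (AlgSp.J S) ℐ)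
    (hfs : FibCat.IsFibSetoid ℐ.p) (h𝒜 : AlgSt.RepByAlgSp 𝒜) (a : 𝒜 ⥤ᵇ ℐ)
    (ha : AlgSt.RepByAlgSpWith (QSm S) a) : AlgSt.RepByAlgSp ℐ := by
  have hE := toCls_isEquivOver hfs
  have hst : Stk.IsStack (AlgSp.J S) (Stk.ofPsh (clsPsh hfs.1)) :=
    (isStack_iff_of_isEquivOver (AlgSp.J S) (toCls hfs.1) hE).1 hℐ
  have hsh : Presheaf.IsSheaf (AlgSp.J S) (clsPsh hfs.1) :=
    (isSheaf_iff_isSheaf_of_type _ _).2
      ((Groth.Agent.S12796.result (AlgSp.J S) (clsPsh hfs.1)).1 hst)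
  obtain ⟨X, eX, heX⟩ := h𝒜
  obtain ⟨eX', ⟨η⟩, ⟨ε⟩⟩ := heX
  have heX' : FibCat.IsEquivOver eX' := ⟨eX, ⟨ε⟩, ⟨η⟩⟩
  obtain ⟨G, hG⟩ : ∃ G : AlgSt.ofSp X.obj ⥤ᵇ Stk.ofPsh (clsPsh hfs.1),
      G = BasedFunctor.comp (BasedFunctor.comp eX a) (toCls hfs.1) := ⟨_, rfl⟩
  have i1 : BasedFunctor.comp a (toCls hfs.1) ≅
      BasedFunctor.comp (BasedFunctor.comp eX' eX) (BasedFunctor.comp a (toCls hfs.1)) :=
    (wr ε (BasedFunctor.comp a (toCls hfs.1))).symm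
  have i2 : BasedFunctor.comp eX' G ≅ BasedFunctor.comp eX' (Stk.ofPshMap (pshMapOf G)) :=
    wl eX' (isoPshMapOf G)
  have iso : BasedFunctor.comp a (toCls hfs.1) ≅
      BasedFunctor.comp eX' (Stk.ofPshMap (pshMapOf G)) := by
    rw [hG] at i2 ⊢
    exact i1 ≪≫ i2
  have h2 : AlgSt.RepByAlgSpWith (QSm S) (Stk.ofPshMap (pshMapOf G)) :=
    repByAlgSpWith_of_square _ _ a eX' (toCls hfs.1) heX' hE iso ha
  have hrep : AlgSp.RepBySp (pshMapOf G) :=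
    repBySp_of_repByAlgSp1 _ (repByAlgSp1_of_with _ _ h2)
  have h3 : AlgSp.RepBySpWith (QSm S) (pshMapOf G) :=
    repBySpWith_of_repByAlgSpWith_bc _ good_QSm.bc _ hrep h2
  have hF : AlgSp.IsAlgSpace (⟨clsPsh hfs.1, hsh⟩ : AlgSp.Sp S) :=
    H10PT.TB.isAlgSpace_of_repBySpWith_smooth_cover ⟨clsPsh hfs.1, hsh⟩ X
      (ObjectProperty.homMk (pshMapOf G)) h3
  obtain ⟨e₀, he₀⟩ := Groth.Agent.Lib.Helper10.StkPost.isEquivOver_symm hE
  exact ⟨⟨_, hF⟩, e₀, he₀⟩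

/-- An algebraic stack in setoids is an algebraic space. -/
theorem repByAlgSp_of_isAlgStack_of_isFibSetoid {𝒳 : AlgSt.Cat S}
    (h𝒳 : AlgSt.IsAlgStack Scheme.fppfPrecoverage 𝒳) (hfs : FibCat.IsFibSetoid 𝒳.p) :
    AlgSt.RepByAlgSp 𝒳 := by
  obtain ⟨U, x, hsm, hsurj⟩ := h𝒳.atlas
  exact repByAlgSp_of_smooth_cover h𝒳.isStack hfs (repByAlgSp_overCat U) x
    (Groth.Agent.Lib.Helper28.AlgSt.DiagTFAE.repByAlgSpWith_inf good_smooth x hsurj hsm)

end H10PT.Boot
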