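import Mathlib
import Groth.Agent.Lib.Helper10.RedClosed1
import Groth.Agent.Lib.Helper10.AlgStSwap
import Groth.Agent.Lib.Helper10.AlgStEquiv
import Groth.Agent.Lib.Helper10.AlgStPtsTop
import Groth.Agent.Lib.Helper10.AlgStPtsSurj
import Groth.Agent.Lib.Helper10.AlgStNoethLocal
import Groth.Agent.Lib.Helper7.RedLib
import Groth.Agent.Lib.Helper28.AlgSt.Descent
import Groth.Agent.Lib.Helper28.AlgSt.Good2
import Groth.Agent.S12762
import Groth.Agent.S12846

/-!
# Reduced closed substacks, part 2 (helper10)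

The full subcategory `facQ x j` for the reduced induced structure `j : Z ⟶ U` on the preimage of a
closed subset `T ⊆ |𝒳|` under a smooth surjective chart `x : (Sch/U) ⟶ 𝒳` is a reduced closed
substack with set of points `T`.
-/

set_option autoImplicit false
set_option backward.isDefEq.respectTransparency false
set_option backward.isDefEq.respectTransparency.types false

universe u

open CategoryTheory CategoryTheory.Limits AlgebraicGeometry Opposite

namespace H10PT.RedClosed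

open Groth.Agent.Lib.Helper10.Fib Groth.Agent.Lib.Helper10.AlgStRep
open Groth.Agent.Lib.Helper28.AlgSt.Bridge Groth.Agent.Lib.Helper28.AlgSt.SpaceCalc
open Groth.Agent.Lib.Helper28.AlgSt.PropInst Groth.Agent.Lib.Helper28.AlgSt.Comp
open Groth.Agent.Lib.Helper28.AlgSt.Whisker Groth.Agent.Lib.Helper28.AlgSt.Key
open Groth.Agent.Lib.Helper28.AlgSt.Descent Groth.Agent.Lib.Helper28.AlgSt.DiagComp
open Groth.Agent.Lib.Helper28.AlgSt.ChartOver Groth.Agent.Lib.Helper28.AlgSt.IsoEquiv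
open Groth.Agent.Lib.Helper28.AlgSt.Chart
open Groth.Agent.Lib.Helper16 Groth.Agent.Lib.Helper16.AlgStDC
open Groth.Agent.Lib.Helper10.StkSub

variable {S : Scheme.{u}} {𝒳 : AlgSt.Cat S}

/-- The reduced induced closed subscheme on a closed subset, over `S`. -/
theorem exists_reduced_closed_chart {U : Over S} (C : Set ↥U.left) (hC : IsClosed C) :
    ∃ (ZU : Over S) (j : ZU ⟶ U), IsClosedImmersion j.left ∧ IsReduced ZU.left ∧
      Set.range j.left = C := by
  obtain ⟨I, hI⟩ : ∃ I : U.left.IdealSheafData, I = Scheme.IdealSheafData.vanishingIdeal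
      (⟨C, hC⟩ : TopologicalSpace.Closeds U.left) := ⟨_, rfl⟩
  refine ⟨Over.mk (I.subschemeι ≫ U.hom), Over.homMk I.subschemeι rfl, ?_, ?_, ?_⟩
  · exact inferInstanceAs (IsClosedImmersion I.subschemeι)
  · show IsReduced I.subscheme
    rw [hI]
    exact Groth.Agent.Lib.Helper7.isReduced_vanishingIdeal_subscheme _
  · show Set.range I.subschemeι = C
    rw [Scheme.IdealSheafData.range_subschemeι, hI,
      Scheme.IdealSheafData.coe_support_vanishingIdeal]
    rfl

/-- Reducedness descends along flat covers. -/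
theorem isReduced_of_flat_cover {U : Scheme.{u}}
    (h : ∀ u : U, ∃ (V : Scheme.{u}) (g : V ⟶ U) (v : V), Flat g ∧ IsReduced V ∧ g v = u) :
    IsReduced U := by
  have : ∀ x : U, _root_.IsReduced (U.presheaf.stalk x) := by
    intro u
    obtain ⟨V, g, v, hfl, hred, rfl⟩ := h u
    have hflat : (g.stalkMap v).hom.Flat := Flat.stalkMap g v
    have hinj : Function.Injective (g.stalkMap v).hom := by
      algebraize [(g.stalkMap v).hom]
      have : IsLocalHom (algebraMap (U.presheaf.stalk (g v)) (V.presheaf.stalk v)) :=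
        inferInstanceAs (IsLocalHom (g.stalkMap v).hom)
      have : Module.FaithfullyFlat (U.presheaf.stalk (g v)) (V.presheaf.stalk v) :=
        Module.FaithfullyFlat.of_flat_of_isLocalHom
      exact FaithfulSMul.algebraMap_injective _ _
    exact isReduced_of_injective (g.stalkMap v).hom hinj
  exact isReduced_of_isReduced_stalk U

/-- Reducedness is local for the smooth topology. -/
theorem isReduced_smoothLocal (U : Scheme.{u}) (R : Presieve U)
    (hR : R ∈ Scheme.precoverage @Smooth U) :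
    IsReduced U ↔ ∀ ⦃V : Scheme.{u}⦄ (g : V ⟶ U), R g → IsReduced V := by
  obtain ⟨h1, h2⟩ := hR
  rw [Presieve.mem_comap_jointlySurjectivePrecoverage_iff] at h1
  constructor
  · intro hU V g hg
    have : Smooth g := h2 hg
    exact Groth.Agent.Lib.Helper22.SmoothRed.isReduced_of_smooth g
  · intro hV
    apply isReduced_of_flat_cover
    intro u
    obtain ⟨V, g, hg, v, hv⟩ := h1 u
    have : Smooth g := h2 hg
    exact ⟨V, g, v, inferInstance, hV g hg, hv⟩

section Main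

variable {U ZU : Over S} (x : FibCat.overCat U ⥤ᵇ 𝒳) (j : ZU ⟶ U)

/-- The full subcategory on `facQ x j` is a stack. -/
theorem isStack_fullSub_facQ (h𝒳 : Stk.IsStack (AlgSp.J S) 𝒳) [Mono j] :
    Stk.IsStack (AlgSp.J S) (AlgSt.fullSub 𝒳 (facQ x j)) :=
  isStack_sub (facQ x j) (AlgSp.J S) h𝒳
    (fun y _ φ hx => ⟨y, Iso.refl y, facQ_of_hom φ hx,
      (show 𝒳.p.IsHomLift (𝟙 (𝒳.p.obj y)) (𝟙 y) from inferInstance)⟩)
    (fun W R hR ξ hξ h => ⟨ξ, Iso.refl ξ, facQ_local x j R hR ξ hξ (fun V f hf η φ hφ => by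
        obtain ⟨η', e, hQ, -⟩ := h f hf η φ hφ
        exact (isClosedUnderIso_facQ x j).of_iso e.symm hQ), IsHomLift.id hξ⟩)

variable (hiff : ∀ a : Over U, facQ x j (x.obj a) ↔ ∃ b : a.left ⟶ ZU, b ≫ j = a.hom)

include hiff

/-- The chart `(Sch/Z) ⟶ 𝒳_Q` of the substack. -/
noncomputable def subAtlas [Mono j] : FibCat.overCat ZU ⥤ᵇ AlgSt.fullSub 𝒳 (facQ x j) :=
  BasedFunctor.comp (subChart (facQ x j) j x (fun b => (hiff _).2 ⟨b.hom, rfl⟩))
    (FibCat.fpSnd x (AlgSt.subIncl 𝒳 (facQ x j)))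

theorem repByAlgSpWith_subAtlas [Mono j] (P : MorphismProperty (AlgSp.Sp S))
    (hx : AlgSt.RepByAlgSpWith P x) : AlgSt.RepByAlgSpWith P (subAtlas x j hiff) :=
  repByAlgSpWith_equiv_comp P _
    (isEquivOver_subChart (facQ x j) (isClosedUnderIso_facQ x j) j x hiff) _
    (repByAlgSpWith_fpSnd P x (AlgSt.subIncl 𝒳 (facQ x j)) hx)

theorem isAlgStack_fullSub_facQ (h𝒳 : AlgSt.IsAlgStack Scheme.fppfPrecoverage 𝒳) [Mono j]
    (hsm : AlgSt.RepByAlgSpWith (AlgSp.LocP @Smooth) x)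
    (hsurj : AlgSt.RepByAlgSpWith AlgSp.IsSurjectiveMor x) :
    AlgSt.IsAlgStack Scheme.fppfPrecoverage (AlgSt.fullSub 𝒳 (facQ x j)) :=
  H10PT.Boot.isAlgStack_of_smooth_cover (isStack_fullSub_facQ x j h𝒳.isStack)
    (Groth.Agent.Lib.Helper28.AlgSt.DiagRep.repByAlgSp_overCat ZU) (subAtlas x j hiff)
    (repByAlgSpWith_subAtlas x j hiff _ hsm) (repByAlgSpWith_subAtlas x j hiff _ hsurj)

theorem isClosedImm_subIncl_facQ (h𝒳 : AlgSt.IsAlgStack Scheme.fppfPrecoverage 𝒳) [Mono j]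
    [IsClosedImmersion j.left]
    (hsm : AlgSt.RepByAlgSpWith (AlgSp.LocP @Smooth) x)
    (hsurj : AlgSt.RepByAlgSpWith AlgSp.IsSurjectiveMor x) :
    AlgSt.IsClosedImm (AlgSt.subIncl 𝒳 (facQ x j)) := by
  have h𝒵 := isAlgStack_fullSub_facQ x j hiff h𝒳 hsm hsurj
  have hj1 : AlgSt.RepByAlgSp1 (AlgSt.subIncl 𝒳 (facQ x j)) :=
    (Groth.Agent.S12762.result h𝒵 h𝒳 _).1 (subIncl_faithful (facQ x j))
  have hg := good_closedImm (S := S)
  refine repByAlgSpWith_of_fpFst_cover h𝒵.isStack.1 h𝒳.isStack.1 (isFibGrpd_overForget U) _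
    hg.bc hg.loc _ hj1 x (repFlat_of_smooth x hsm) (repLfp_of_smooth x hsm) hsurj ?_
  have hE := isEquivOver_subChart (facQ x j) (isClosedUnderIso_facQ x j) j x hiff
  refine repByAlgSpWith_of_square _ (FibCat.fpFst x (AlgSt.subIncl 𝒳 (facQ x j)))
    (AlgSt.overMap j) _ (BasedFunctor.id _) hE (isEquivOver_id _)
    (show BasedFunctor.comp (AlgSt.overMap j) (BasedFunctor.id _) ≅
      BasedFunctor.comp (subChart (facQ x j) j x (fun b => (hiff _).2 ⟨b.hom, rfl⟩))
        (FibCat.fpFst x (AlgSt.subIncl 𝒳 (facQ x j))) from Iso.refl _) ?_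
  apply repByAlgSpWith_overMap _ hg.bc
  exact (AlgSp.repWith_yon_map_iff @IsClosedImmersion j).2 inferInstance

/-- Points of the chart of the substack. -/
theorem points_subIncl_subAtlas [Mono j] (z : ↥ZU.left) :
    AlgSt.Points.map (AlgSt.subIncl 𝒳 (facQ x j))
      (AlgSt.Points.ofChart (subAtlas x j hiff) z) = AlgSt.Points.ofChart x (j.left z) := by
  have h1 : AlgSt.Points.map (AlgSt.subIncl 𝒳 (facQ x j))
      (AlgSt.Points.ofChart (subAtlas x j hiff) z) =
      AlgSt.Points.ofChart (BasedFunctor.comp (AlgSt.overMap j) x) z := rfl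
  rw [h1, ofChart_comp, homOfOver_overMap]

theorem range_points_subIncl_facQ (h𝒳 : AlgSt.IsAlgStack Scheme.fppfPrecoverage 𝒳) [Mono j]
    (hsm : AlgSt.RepByAlgSpWith (AlgSp.LocP @Smooth) x)
    (hsurj : AlgSt.RepByAlgSpWith AlgSp.IsSurjectiveMor x) (T : Set (AlgSt.Points 𝒳))
    (hrange : Set.range j.left = AlgSt.Points.ofChart x ⁻¹' T) :
    Set.range (AlgSt.Points.map (AlgSt.subIncl 𝒳 (facQ x j))) = T := by
  have h𝒵 := isAlgStack_fullSub_facQ x j hiff h𝒳 hsm hsurj
  have hus : AlgSt.IsSurjective (subAtlas x j hiff) :=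
    isSurjective_of_rep h𝒵.isStack.1 _ (repByAlgSpWith_subAtlas x j hiff _ hsurj)
  have hxs : AlgSt.IsSurjective x := isSurjective_of_rep h𝒳.isStack.1 x hsurj
  ext t
  constructor
  · rintro ⟨p, rfl⟩
    obtain ⟨p', rfl⟩ := hus p
    obtain ⟨q, rfl⟩ := AlgSt.Points.mk_surjective p'
    rw [map_mk_eq_ofChart, points_subIncl_subAtlas]
    have hmem : j.left (ptOf q) ∈ Set.range j.left := ⟨_, rfl⟩
    rw [hrange] at hmem
    exact hmem
  · intro ht
    obtain ⟨p', rfl⟩ := hxs t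
    obtain ⟨q, rfl⟩ := AlgSt.Points.mk_surjective p'
    rw [map_mk_eq_ofChart] at ht ⊢
    have hmem : ptOf q ∈ AlgSt.Points.ofChart x ⁻¹' T := ht
    rw [← hrange] at hmem
    obtain ⟨z, hz⟩ := hmem
    exact ⟨AlgSt.Points.ofChart (subAtlas x j hiff) z, by
      rw [points_subIncl_subAtlas, hz]⟩

theorem smoothLocally_isReduced_fullSub_facQ (h𝒳 : AlgSt.IsAlgStack Scheme.fppfPrecoverage 𝒳)
    [Mono j] [IsReduced ZU.left]
    (hsm : AlgSt.RepByAlgSpWith (AlgSp.LocP @Smooth) x)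
    (hsurj : AlgSt.RepByAlgSpWith AlgSp.IsSurjectiveMor x) :
    AlgSt.SmoothLocally (fun X => IsReduced X) (AlgSt.fullSub 𝒳 (facQ x j)) :=
  (Groth.Agent.S12846.result (isAlgStack_fullSub_facQ x j hiff h𝒳 hsm hsurj)
    (fun X => IsReduced X) isReduced_smoothLocal).2
    ⟨ZU, subAtlas x j hiff, repByAlgSpWith_subAtlas x j hiff _ hsm,
      repByAlgSpWith_subAtlas x j hiff _ hsurj, inferInstance⟩

end Main

/-- **Existence of the reduced closed substack on a closed subset of `|𝒳|`.** -/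
theorem exists_reduced_closedSubstack (h𝒳 : AlgSt.IsAlgStack Scheme.fppfPrecoverage 𝒳)
    (T : Set (AlgSt.Points 𝒳)) (hT : IsClosed T) :
    ∃ Q : 𝒳.obj → Prop, AlgSt.IsClosedSubstack 𝒳 Q Scheme.fppfPrecoverage ∧
      Set.range (AlgSt.Points.map (AlgSt.subIncl 𝒳 Q)) = T ∧
      AlgSt.SmoothLocally (fun X => IsReduced X) (AlgSt.fullSub 𝒳 Q) := by
  obtain ⟨U, x, hsm, hsurj⟩ := h𝒳.atlas
  obtain ⟨ZU, j, hjcl, hred, hrange⟩ := exists_reduced_closed_chart
    (AlgSt.Points.ofChart x ⁻¹' T) (hT.preimage (continuous_ofChart h𝒳 x))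
  have := hjcl
  have := hred
  have hmono : Mono j := (Over.forget S).mono_of_mono_map (inferInstanceAs (Mono j.left))
  have hiff : ∀ a : Over U, facQ x j (x.obj a) ↔ ∃ b : a.left ⟶ ZU, b ≫ j = a.hom :=
    facQ_chart h𝒳.isStack.1 x hsm j T
      (fun z => by
        have hmem : j.left z ∈ Set.range j.left := ⟨_, rfl⟩
        rw [hrange] at hmem
        exact hmem)
      (fun u hu => by
        rw [hrange]
        exact hu)
  exact ⟨facQ x j, ⟨isClosedUnderIso_facQ x j, isAlgStack_fullSub_facQ x j hiff h𝒳 hsm hsurj,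
    isClosedImm_subIncl_facQ x j hiff h𝒳 hsm hsurj⟩,
    range_points_subIncl_facQ x j hiff h𝒳 hsm hsurj T hrange,
    smoothLocally_isReduced_fullSub_facQ x j hiff h𝒳 hsm hsurj⟩

end H10PT.RedClosed
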