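import Mathlib

set_option autoImplicit false
universe u
open TensorProduct

namespace H10RF

/-- surjective with f.g. kernel ⇒ target is finitely presented as a module. -/
lemma fp_of_surjective_of_fg_ker {S T : Type*} [CommRing S] [CommRing T] [Algebra S T]
    (hs : Function.Surjective (algebraMap S T)) (hk : (RingHom.ker (algebraMap S T)).FG) :
    Module.FinitePresentation S T := by
  refine Module.finitePresentation_of_surjective (Algebra.linearMap S T) hs ?_
  have : LinearMap.ker (Algebra.linearMap S T) = RingHom.ker (algebraMap S T) := by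
    ext x
    simp [RingHom.mem_ker]
  rw [this]
  exact hk

/-- descent of finite presentation along a surjection of rings. -/
lemma fp_of_surjective_descend {S T N : Type*} [CommRing S] [CommRing T] [Algebra S T]
    [AddCommGroup N] [Module S N] [Module T N] [IsScalarTower S T N]
    (hs : Function.Surjective (algebraMap S T)) [Module.FinitePresentation S N] :
    Module.FinitePresentation T N := by
  let f : T ⊗[S] N →ₗ[T] N := (TensorProduct.isBaseChange S N T).lift LinearMap.id
  have hf1 : ∀ n : N, f ((1 : T) ⊗ₜ[S] n) = n := fun n =>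
    (TensorProduct.isBaseChange S N T).lift_eq LinearMap.id n
  have hf : ∀ (t : T) (n : N), f (t ⊗ₜ[S] n) = t • n := by
    intro t n
    have : t ⊗ₜ[S] n = t • ((1 : T) ⊗ₜ[S] n) := by
      rw [TensorProduct.smul_tmul', smul_eq_mul, mul_one]
    rw [this, map_smul, hf1]
  have hl : ∀ x : T ⊗[S] N, (1 : T) ⊗ₜ[S] (f x) = x := by
    intro x
    induction x using TensorProduct.induction_on with
    | zero => simp
    | tmul t n =>
      obtain ⟨s, rfl⟩ := hs t
      rw [hf, algebraMap_smul, ← TensorProduct.smul_tmul, Algebra.smul_def, mul_one]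
    | add x y hx hy => rw [map_add, TensorProduct.tmul_add, hx, hy]
  have hinj : Function.Injective f := by
    intro x y hxy
    rw [← hl x, ← hl y, hxy]
  have hsurj : Function.Surjective f := fun n => ⟨1 ⊗ₜ n, hf1 n⟩
  exact Module.FinitePresentation.of_equiv (LinearEquiv.ofBijective f ⟨hinj, hsurj⟩)

lemma indep_abstract {E B C N : Type*} [CommRing E] [CommRing B] [CommRing C] [AddCommGroup N]
    [Algebra E B] [Algebra E C] [Module E N] [Module B N] [Module C N]
    [IsScalarTower E B N] [IsScalarTower E C N]
    (hB : Function.Surjective (algebraMap E B)) (hker : (RingHom.ker (algebraMap E B)).FG)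
    (hC : Function.Surjective (algebraMap E C)) [Module.FinitePresentation B N] :
    Module.FinitePresentation C N := by
  haveI : Module.FinitePresentation E B := fp_of_surjective_of_fg_ker hB hker
  haveI : Module.FinitePresentation E N := Module.FinitePresentation.trans E N B
  exact fp_of_surjective_descend (S := E) hC

/-- independence of the presentation. -/
theorem indep {k D : Type*} [CommRing k] [CommRing D] [Algebra k D] {n m : ℕ}
    (β : MvPolynomial (Fin n) k →ₐ[k] D) (γ : MvPolynomial (Fin m) k →ₐ[k] D)
    (hβ : Function.Surjective β) (hγ : Function.Surjective γ)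
    (N : Type*) [AddCommGroup N] [Module D N]
    (h : @Module.FinitePresentation (MvPolynomial (Fin n) k) N _ _
      (Module.compHom N β.toRingHom)) :
    @Module.FinitePresentation (MvPolynomial (Fin m) k) N _ _
      (Module.compHom N γ.toRingHom) := by
  classical
  choose g hg using fun j : Fin m => hβ (γ (MvPolynomial.X j))
  choose hh hhh using fun i : Fin n => hγ (β (MvPolynomial.X i))
  let φB : MvPolynomial (Fin n ⊕ Fin m) k →ₐ[k] MvPolynomial (Fin n) k :=
    MvPolynomial.aeval (Sum.elim MvPolynomial.X g)
  let φC : MvPolynomial (Fin n ⊕ Fin m) k →ₐ[k] MvPolynomial (Fin m) k :=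
    MvPolynomial.aeval (Sum.elim hh MvPolynomial.X)
  have hBε : β.comp φB = γ.comp φC := by
    apply MvPolynomial.algHom_ext
    intro s
    cases s with
    | inl i => simp [φB, φC, hhh]
    | inr j => simp [φB, φC, hg]
  have hφB : Function.Surjective φB := by
    intro p
    refine ⟨MvPolynomial.rename Sum.inl p, ?_⟩
    simp only [φB]
    rw [MvPolynomial.aeval_rename, Sum.elim_comp_inl]
    exact MvPolynomial.aeval_X_left_apply p
  have hφC : Function.Surjective φC := by
    intro p
    refine ⟨MvPolynomial.rename Sum.inr p, ?_⟩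
    simp only [φC]
    rw [MvPolynomial.aeval_rename, Sum.elim_comp_inr]
    exact MvPolynomial.aeval_X_left_apply p
  have hker : (RingHom.ker φB.toRingHom).FG :=
    Algebra.FinitePresentation.ker_fG_of_surjective φB hφB
  letI mB : Module (MvPolynomial (Fin n) k) N := Module.compHom N β.toRingHom
  letI mC : Module (MvPolynomial (Fin m) k) N := Module.compHom N γ.toRingHom
  letI mE : Module (MvPolynomial (Fin n ⊕ Fin m) k) N :=
    Module.compHom N (β.comp φB).toRingHom
  letI aB : Algebra (MvPolynomial (Fin n ⊕ Fin m) k) (MvPolynomial (Fin n) k) :=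
    φB.toRingHom.toAlgebra
  letI aC : Algebra (MvPolynomial (Fin n ⊕ Fin m) k) (MvPolynomial (Fin m) k) :=
    φC.toRingHom.toAlgebra
  haveI : IsScalarTower (MvPolynomial (Fin n ⊕ Fin m) k) (MvPolynomial (Fin n) k) N :=
    ⟨fun e b x => by
      show β.toRingHom (φB.toRingHom e * b) • x
        = (β.comp φB).toRingHom e • (β.toRingHom b • x)
      rw [map_mul, mul_smul]
      rfl⟩
  haveI : IsScalarTower (MvPolynomial (Fin n ⊕ Fin m) k) (MvPolynomial (Fin m) k) N :=
    ⟨fun e c x => by
      show γ.toRingHom (φC.toRingHom e * c) • x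
        = (β.comp φB).toRingHom e • (γ.toRingHom c • x)
      rw [map_mul, mul_smul]
      congr 1
      exact (DFunLike.congr_fun hBε e).symm⟩
  haveI : Module.FinitePresentation (MvPolynomial (Fin n) k) N := h
  exact indep_abstract (E := MvPolynomial (Fin n ⊕ Fin m) k) (B := MvPolynomial (Fin n) k)
    (C := MvPolynomial (Fin m) k) hφB hker hφC

section Step1

lemma step1 (R P R' P' A A' M : Type*) [CommRing R] [CommRing P] [CommRing R'] [CommRing P']
    [CommRing A] [CommRing A']
    [Algebra R P] [Algebra R R'] [Algebra R P'] [Algebra P P'] [Algebra R' P']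
    [IsScalarTower R P P'] [IsScalarTower R R' P'] [Algebra.IsPushout R P R' P']
    [Algebra R A] [Algebra P A] [IsScalarTower R P A]
    [Algebra R A'] [Algebra P' A'] [Algebra P A'] [Algebra A A'] [Algebra R' A']
    [IsScalarTower R A A'] [IsScalarTower P A A'] [IsScalarTower P P' A'] [IsScalarTower R R' A']
    [IsScalarTower R P' A'] [IsScalarTower R' P' A'] [Algebra.IsPushout R A R' A']
    [AddCommGroup M] [Module A M] [Module P M] [IsScalarTower P A M]
    [Module.FinitePresentation P M] : Module.FinitePresentation P' (A' ⊗[A] M) := by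
  haveI h1 : Algebra.IsPushout P A P' A' :=
    (Algebra.IsPushout.comp_iff R P R' (S' := P') (T := A) (T' := A')).mp inferInstance
  haveI h2 : Algebra.IsPushout P P' A A' := h1.symm
  exact Module.FinitePresentation.of_equiv (Algebra.IsPushout.cancelBaseChange P P' A A' M).symm

end Step1

end H10RF
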