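import Groth.Agent.Lib.Helper10.RelFP

set_option autoImplicit false
universe u
open TensorProduct

namespace H10RF

attribute [local instance] MvPolynomial.algebraMvPolynomial

theorem main {R A R' A' : Type u} [CommRing R] [CommRing A] [CommRing R'] [CommRing A']
    [Algebra R A] [Algebra R R'] [Algebra A A'] [Algebra R' A'] [Algebra R A']
    [IsScalarTower R A A'] [IsScalarTower R R' A']
    [Algebra.IsPushout R A R' A'] (M : Type u) [AddCommGroup M] [Module A M] {n k : ℕ}
    (α : MvPolynomial (Fin n) R →ₐ[R] A) (hα : Function.Surjective α)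
    (hM : @Module.FinitePresentation (MvPolynomial (Fin n) R) M _ _
      (Module.compHom M α.toRingHom))
    (γ : MvPolynomial (Fin k) R' →ₐ[R'] A') (hγ : Function.Surjective γ) :
    @Module.FinitePresentation (MvPolynomial (Fin k) R') (TensorProduct A A' M) _ _
      (Module.compHom (TensorProduct A A' M) γ.toRingHom) := by
  let α' : MvPolynomial (Fin n) R' →ₐ[R'] A' :=
    MvPolynomial.aeval (fun i => algebraMap A A' (α (MvPolynomial.X i)))
  have hcomp : ∀ p : MvPolynomial (Fin n) R,
      α' (MvPolynomial.map (algebraMap R R') p) = algebraMap A A' (α p) := by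
    intro p
    have : (α'.toRingHom.comp (MvPolynomial.map (algebraMap R R')))
        = (algebraMap A A').comp α.toRingHom := by
      apply MvPolynomial.ringHom_ext
      · intro r
        have h1 : α' (MvPolynomial.C (algebraMap R R' r))
            = algebraMap R' A' (algebraMap R R' r) := MvPolynomial.aeval_C _ _
        have h2 : α (MvPolynomial.C r) = algebraMap R A r := by
          have := α.commutes r
          rwa [MvPolynomial.algebraMap_eq] at this
        simp only [RingHom.comp_apply, MvPolynomial.map_C]
        show α' (MvPolynomial.C (algebraMap R R' r)) = algebraMap A A' (α (MvPolynomial.C r))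
        rw [h1, h2, ← IsScalarTower.algebraMap_apply, ← IsScalarTower.algebraMap_apply]
      · intro i
        simp only [RingHom.comp_apply, MvPolynomial.map_X]
        show α' (MvPolynomial.X i) = algebraMap A A' (α (MvPolynomial.X i))
        exact MvPolynomial.aeval_X _ _
    exact DFunLike.congr_fun this p
  have hα' : Function.Surjective α' := by
    intro a'
    have hbc := (Algebra.IsPushout.symm (inferInstance : Algebra.IsPushout R A R' A')).out
    refine hbc.inductionOn a' (fun x => ∃ q, α' q = x) ⟨0, map_zero _⟩ ?_ ?_ ?_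
    · intro a
      obtain ⟨p, rfl⟩ := hα a
      exact ⟨MvPolynomial.map (algebraMap R R') p, hcomp p⟩
    · rintro s x ⟨q, rfl⟩
      exact ⟨s • q, map_smul α' s q⟩
    · rintro x y ⟨q, rfl⟩ ⟨q', rfl⟩
      exact ⟨q + q', map_add _ _ _⟩
  refine indep α' γ hα' hγ (A' ⊗[A] M) ?_
  letI aPA : Algebra (MvPolynomial (Fin n) R) A := α.toRingHom.toAlgebra
  letI aP'A' : Algebra (MvPolynomial (Fin n) R') A' := α'.toRingHom.toAlgebra
  letI aPA' : Algebra (MvPolynomial (Fin n) R) A' :=
    ((algebraMap A A').comp α.toRingHom).toAlgebra
  letI mPM : Module (MvPolynomial (Fin n) R) M := Module.compHom M α.toRingHom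
  haveI t1 : IsScalarTower R (MvPolynomial (Fin n) R) A :=
    IsScalarTower.of_algebraMap_eq (fun r => (α.commutes r).symm)
  haveI t2 : IsScalarTower (MvPolynomial (Fin n) R) A A' :=
    IsScalarTower.of_algebraMap_eq (fun p => rfl)
  haveI t3 : IsScalarTower (MvPolynomial (Fin n) R) (MvPolynomial (Fin n) R') A' :=
    IsScalarTower.of_algebraMap_eq (fun p => (hcomp p).symm)
  haveI t4 : IsScalarTower R' (MvPolynomial (Fin n) R') A' :=
    IsScalarTower.of_algebraMap_eq (fun r => (α'.commutes r).symm)
  haveI t5 : IsScalarTower R (MvPolynomial (Fin n) R') A' :=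
    IsScalarTower.of_algebraMap_eq (fun r => by
      show algebraMap R A' r = α' (algebraMap R (MvPolynomial (Fin n) R') r)
      rw [MvPolynomial.algebraMap_apply]
      have h1 : α' (MvPolynomial.C (algebraMap R R' r))
          = algebraMap R' A' (algebraMap R R' r) := MvPolynomial.aeval_C _ _
      rw [h1, ← IsScalarTower.algebraMap_apply])
  haveI t6 : IsScalarTower (MvPolynomial (Fin n) R) A M :=
    ⟨fun p a m => by
      show (α.toRingHom p * a) • m = α.toRingHom p • (a • m)
      rw [mul_smul]⟩
  haveI : Module.FinitePresentation (MvPolynomial (Fin n) R) M := hM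
  have key : Module.FinitePresentation (MvPolynomial (Fin n) R') (A' ⊗[A] M) :=
    step1 R (MvPolynomial (Fin n) R) R' (MvPolynomial (Fin n) R') A A' M
  have hm : (inferInstance : Module (MvPolynomial (Fin n) R') (A' ⊗[A] M))
      = Module.compHom (A' ⊗[A] M) α'.toRingHom := by
    apply Module.ext'
    intro r t
    induction t using TensorProduct.induction_on with
    | zero =>
      show r • (0 : A' ⊗[A] M) = α'.toRingHom r • (0 : A' ⊗[A] M)
      rw [smul_zero, smul_zero]
    | tmul a m =>
      rw [TensorProduct.smul_tmul']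
      show (r • a) ⊗ₜ[A] m = α'.toRingHom r • (a ⊗ₜ[A] m)
      rw [TensorProduct.smul_tmul', Algebra.smul_def, smul_eq_mul]
      rfl
    | add x y hx hy =>
      show r • (x + y) = α'.toRingHom r • (x + y)
      rw [smul_add, smul_add]
      exact congrArg₂ (· + ·) hx hy
  rw [← hm]
  exact key

end H10RF
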