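import Mathlib

/-!
# Relative lifting of chain maps into termwise injective cochain complexes

`H10RL.main'` : given `u : A ⟶ B`, `v : A ⟶ J` (ℕ-indexed cochain complexes in an abelian
category, `J` termwise injective, `A`, `B` exact in positive degrees) such that `ker u ≤ ker v`
degreewise and cycles of `B` in the image of `u` come from cycles of `A`, every map
`g : H⁰ B ⟶ H⁰ J` compatible with `u, v` is induced by a chain map `w : B ⟶ J` with `u ≫ w = v`.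
`H10RL.ladder` : the three-term ladder version.
-/

set_option autoImplicit false
open CategoryTheory CategoryTheory.Limits

universe uu vv

namespace H10RL

variable {V : Type uu} [Category.{vv} V] [Abelian V]

theorem exists_ext {X Y I : V} [Injective I] (φ : X ⟶ Y) (ψ : X ⟶ I)
    (h : ∀ (T : V) (x : T ⟶ X), x ≫ φ = 0 → x ≫ ψ = 0) : ∃ e : Y ⟶ I, φ ≫ e = ψ := by
  have h0 : kernel.ι φ ≫ ψ = 0 := h _ _ (kernel.condition φ)
  refine ⟨Injective.factorThru (cokernel.desc (kernel.ι φ) ψ h0)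
    (Abelian.factorThruCoimage φ), ?_⟩
  calc φ ≫ Injective.factorThru (cokernel.desc (kernel.ι φ) ψ h0)
        (Abelian.factorThruCoimage φ)
      = (Abelian.coimage.π φ ≫ Abelian.factorThruCoimage φ) ≫
          Injective.factorThru (cokernel.desc (kernel.ι φ) ψ h0)
            (Abelian.factorThruCoimage φ) := by rw [Abelian.coimage.fac]
    _ = Abelian.coimage.π φ ≫ cokernel.desc (kernel.ι φ) ψ h0 := by
        rw [Category.assoc, Injective.comp_factorThru]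
    _ = ψ := cokernel.π_desc _ _ _

theorem comp_desc_eq {T X Y Z : V} (x : T ⟶ X ⊞ Y) (f : X ⟶ Z) (g : Y ⟶ Z) :
    x ≫ biprod.desc f g = (x ≫ biprod.fst) ≫ f + (x ≫ biprod.snd) ≫ g := by
  rw [biprod.desc_eq, Preadditive.comp_add, Category.assoc, Category.assoc]

section

variable {A B J : CochainComplex V ℕ} (u : A ⟶ B) (v : A ⟶ J)

def Good (n : ℕ) (w : B.X n ⟶ J.X n) : Prop :=
  u.f n ≫ w = v.f n ∧
    ∀ (T : V) (z : T ⟶ B.X n), z ≫ B.d n (n + 1) = 0 → z ≫ w ≫ J.d n (n + 1) = 0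

structure Hyp : Prop where
  hA : ∀ (n : ℕ) (T : V) (a : T ⟶ A.X (n + 1)), a ≫ A.d (n + 1) (n + 1 + 1) = 0 →
    ∃ (T' : V) (π : T' ⟶ T) (_ : Epi π) (a₀ : T' ⟶ A.X n), π ≫ a = a₀ ≫ A.d n (n + 1)
  hB : ∀ (n : ℕ) (T : V) (b : T ⟶ B.X (n + 1)), b ≫ B.d (n + 1) (n + 1 + 1) = 0 →
    ∃ (T' : V) (π : T' ⟶ T) (_ : Epi π) (b₀ : T' ⟶ B.X n), π ≫ b = b₀ ≫ B.d n (n + 1)
  huv : ∀ (n : ℕ) (T : V) (a : T ⟶ A.X n), a ≫ u.f n = 0 → a ≫ v.f n = 0
  hd : ∀ (n : ℕ) (T : V) (a : T ⟶ A.X n), a ≫ A.d n (n + 1) ≫ u.f (n + 1) = 0 →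
    ∃ (T' : V) (π : T' ⟶ T) (_ : Epi π) (a' : T' ⟶ A.X n),
      a' ≫ A.d n (n + 1) = 0 ∧ a' ≫ u.f n = π ≫ a ≫ u.f n

variable {u v}

theorem step_aux (H : Hyp u v) (n : ℕ) (w : B.X n ⟶ J.X n) (hw : Good u v n w) {T : V}
    (a : T ⟶ A.X (n + 1)) (b : T ⟶ B.X n)
    (hab : a ≫ u.f (n + 1) + b ≫ B.d n (n + 1) = 0) :
    a ≫ v.f (n + 1) + b ≫ w ≫ J.d n (n + 1) = 0 := by
  have h1 : a ≫ A.d (n + 1) (n + 1 + 1) ≫ u.f (n + 1 + 1) = 0 := by
    rw [← u.comm (n + 1) (n + 1 + 1), ← Category.assoc, eq_neg_of_add_eq_zero_left hab]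
    simp
  have key : ∃ (T₂ : V) (P : T₂ ⟶ T) (_ : Epi P) (an : T₂ ⟶ A.X n),
      P ≫ a ≫ u.f (n + 1) = an ≫ A.d n (n + 1) ≫ u.f (n + 1) := by
    obtain ⟨T₁, π₁, hπ₁, a', ha'd, ha'u⟩ := H.hd (n + 1) T a h1
    obtain ⟨T₂, π₂, hπ₂, an, han⟩ := H.hA n T₁ a' ha'd
    refine ⟨T₂, π₂ ≫ π₁, epi_comp _ _, an, ?_⟩
    calc (π₂ ≫ π₁) ≫ a ≫ u.f (n + 1) = π₂ ≫ (π₁ ≫ a ≫ u.f (n + 1)) := by
          rw [Category.assoc]
      _ = π₂ ≫ (a' ≫ u.f (n + 1)) := by rw [ha'u]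
      _ = (π₂ ≫ a') ≫ u.f (n + 1) := by rw [Category.assoc]
      _ = (an ≫ A.d n (n + 1)) ≫ u.f (n + 1) := by rw [han]
      _ = an ≫ A.d n (n + 1) ≫ u.f (n + 1) := by rw [Category.assoc]
  obtain ⟨T₂, P, hP, an, F1⟩ := key
  haveI := hP
  have F2 : P ≫ a ≫ v.f (n + 1) = an ≫ u.f n ≫ w ≫ J.d n (n + 1) := by
    have k0 : (P ≫ a - an ≫ A.d n (n + 1)) ≫ u.f (n + 1) = 0 := by
      simp only [Preadditive.sub_comp, Category.assoc]
      rw [F1, sub_self]
    have k1 := H.huv (n + 1) _ _ k0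
    simp only [Preadditive.sub_comp, Category.assoc, sub_eq_zero] at k1
    rw [k1, ← v.comm n (n + 1), ← hw.1]
    simp only [Category.assoc]
  have F3 : (P ≫ b + an ≫ u.f n) ≫ B.d n (n + 1) = 0 := by
    simp only [Preadditive.add_comp, Category.assoc]
    rw [u.comm n (n + 1), ← F1, ← Preadditive.comp_add, add_comm (b ≫ B.d n (n + 1)), hab,
      comp_zero]
  have F4 := hw.2 _ _ F3
  have F4' : P ≫ b ≫ w ≫ J.d n (n + 1) + an ≫ u.f n ≫ w ≫ J.d n (n + 1) = 0 := by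
    simpa only [Preadditive.add_comp, Category.assoc] using F4
  rw [← cancel_epi P, Preadditive.comp_add, comp_zero, F2]
  exact (add_comm _ _).trans F4'

theorem step (H : Hyp u v) [∀ n, Injective (J.X n)] (n : ℕ) (w : B.X n ⟶ J.X n)
    (hw : Good u v n w) :
    ∃ w' : B.X (n + 1) ⟶ J.X (n + 1),
      B.d n (n + 1) ≫ w' = w ≫ J.d n (n + 1) ∧ Good u v (n + 1) w' := by
  obtain ⟨e, he⟩ := exists_ext (biprod.desc (u.f (n + 1)) (B.d n (n + 1)))
    (biprod.desc (v.f (n + 1)) (w ≫ J.d n (n + 1))) (by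
      intro T x hx
      rw [comp_desc_eq] at hx ⊢
      exact step_aux H n w hw _ _ hx)
  have h1 : u.f (n + 1) ≫ e = v.f (n + 1) := by
    have := congrArg (fun t => biprod.inl ≫ t) he
    simpa using this
  have h2 : B.d n (n + 1) ≫ e = w ≫ J.d n (n + 1) := by
    have := congrArg (fun t => biprod.inr ≫ t) he
    simpa using this
  refine ⟨e, h2, h1, ?_⟩
  intro T z hz
  obtain ⟨T', π, hπ, b, hb⟩ := H.hB n T z hz
  haveI := hπ
  rw [← cancel_epi π, comp_zero]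
  calc π ≫ z ≫ e ≫ J.d (n + 1) (n + 1 + 1) = (π ≫ z) ≫ e ≫ J.d (n + 1) (n + 1 + 1) := by
        rw [Category.assoc]
    _ = (b ≫ B.d n (n + 1)) ≫ e ≫ J.d (n + 1) (n + 1 + 1) := by rw [hb]
    _ = b ≫ (B.d n (n + 1) ≫ e) ≫ J.d (n + 1) (n + 1 + 1) := by
        simp only [Category.assoc]
    _ = b ≫ (w ≫ J.d n (n + 1)) ≫ J.d (n + 1) (n + 1 + 1) := by rw [h2]
    _ = 0 := by simp

theorem base_aux (H : Hyp u v) (g : B.cycles 0 ⟶ J.cycles 0)
    (hg : HomologicalComplex.cyclesMap u 0 ≫ g = HomologicalComplex.cyclesMap v 0) {T : V}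
    (a : T ⟶ A.X 0) (z : T ⟶ B.cycles 0) (haz : a ≫ u.f 0 + z ≫ B.iCycles 0 = 0) :
    a ≫ v.f 0 + z ≫ g ≫ J.iCycles 0 = 0 := by
  have h1 : a ≫ A.d 0 (0 + 1) ≫ u.f (0 + 1) = 0 := by
    rw [← u.comm 0 (0 + 1), ← Category.assoc, eq_neg_of_add_eq_zero_left haz]
    simp
  obtain ⟨T₁, P, hP, a', ha'd, ha'u⟩ := H.hd 0 T a h1
  haveI := hP
  obtain ⟨a'', ha''⟩ : ∃ a'' : T₁ ⟶ A.cycles 0, a'' ≫ A.iCycles 0 = a' :=
    ⟨A.liftCycles a' (0 + 1) (by simp) ha'd, A.liftCycles_i _ _ _ _⟩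
  subst ha''
  have F1 : P ≫ a ≫ u.f 0 = a'' ≫ HomologicalComplex.cyclesMap u 0 ≫ B.iCycles 0 := by
    rw [← ha'u, Category.assoc, HomologicalComplex.cyclesMap_i]
  have F2 : P ≫ a ≫ v.f 0 = a'' ≫ HomologicalComplex.cyclesMap u 0 ≫ g ≫ J.iCycles 0 := by
    have k0 : (P ≫ a - a'' ≫ A.iCycles 0) ≫ u.f 0 = 0 := by
      simp only [Preadditive.sub_comp, Category.assoc]
      rw [F1, HomologicalComplex.cyclesMap_i, sub_self]
    have k1 := H.huv 0 _ _ k0
    simp only [Preadditive.sub_comp, Category.assoc, sub_eq_zero] at k1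
    rw [k1, ← HomologicalComplex.cyclesMap_i, ← hg]
    simp only [Category.assoc]
  have F3 : P ≫ z = -(a'' ≫ HomologicalComplex.cyclesMap u 0) := by
    rw [← cancel_mono (B.iCycles 0)]
    simp only [Category.assoc, Preadditive.neg_comp]
    rw [← F1, eq_neg_iff_add_eq_zero, ← Preadditive.comp_add, add_comm (z ≫ B.iCycles 0), haz,
      comp_zero]
  rw [← cancel_epi P, Preadditive.comp_add, comp_zero, F2, ← Category.assoc P z, F3]
  simp

theorem base (H : Hyp u v) [Injective (J.X 0)] (g : B.cycles 0 ⟶ J.cycles 0)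
    (hg : HomologicalComplex.cyclesMap u 0 ≫ g = HomologicalComplex.cyclesMap v 0) :
    ∃ w : B.X 0 ⟶ J.X 0, Good u v 0 w ∧ B.iCycles 0 ≫ w = g ≫ J.iCycles 0 := by
  obtain ⟨e, he⟩ := exists_ext (biprod.desc (u.f 0) (B.iCycles 0))
    (biprod.desc (v.f 0) (g ≫ J.iCycles 0)) (by
      intro T x hx
      rw [comp_desc_eq] at hx ⊢
      exact base_aux H g hg _ _ hx)
  have h1 : u.f 0 ≫ e = v.f 0 := by
    have := congrArg (fun t => biprod.inl ≫ t) he
    simpa using this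
  have h2 : B.iCycles 0 ≫ e = g ≫ J.iCycles 0 := by
    have := congrArg (fun t => biprod.inr ≫ t) he
    simpa using this
  refine ⟨e, ⟨h1, ?_⟩, h2⟩
  intro T z hz
  obtain ⟨z', rfl⟩ : ∃ z' : T ⟶ B.cycles 0, z' ≫ B.iCycles 0 = z :=
    ⟨B.liftCycles z (0 + 1) (by simp) hz, B.liftCycles_i _ _ _ _⟩
  rw [Category.assoc, reassoc_of% h2]
  simp

variable (u v)

noncomputable def seq (H : Hyp u v) [∀ n, Injective (J.X n)] (g : B.cycles 0 ⟶ J.cycles 0)
    (hg : HomologicalComplex.cyclesMap u 0 ≫ g = HomologicalComplex.cyclesMap v 0) :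
    (n : ℕ) → {w : B.X n ⟶ J.X n // Good u v n w}
  | 0 => ⟨(base H g hg).choose, (base H g hg).choose_spec.1⟩
  | n + 1 => ⟨(step H n (seq H g hg n).1 (seq H g hg n).2).choose,
      (step H n (seq H g hg n).1 (seq H g hg n).2).choose_spec.2⟩

theorem main (H : Hyp u v) [∀ n, Injective (J.X n)] (g : B.cycles 0 ⟶ J.cycles 0)
    (hg : HomologicalComplex.cyclesMap u 0 ≫ g = HomologicalComplex.cyclesMap v 0) :
    ∃ w : B ⟶ J, u ≫ w = v ∧ B.iCycles 0 ≫ w.f 0 = g ≫ J.iCycles 0 := by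
  refine ⟨{ f := fun n => (seq u v H g hg n).1, comm' := ?_ }, ?_, ?_⟩
  · intro i j hij
    obtain rfl : i + 1 = j := hij
    exact ((step H i (seq u v H g hg i).1 (seq u v H g hg i).2).choose_spec.1).symm
  · ext n
    exact (seq u v H g hg n).2.1
  · exact (base H g hg).choose_spec.2

theorem main' (H : Hyp u v) [∀ n, Injective (J.X n)] (g : B.homology 0 ⟶ J.homology 0)
    (hg : HomologicalComplex.homologyMap u 0 ≫ g = HomologicalComplex.homologyMap v 0) :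
    ∃ w : B ⟶ J, u ≫ w = v ∧ HomologicalComplex.homologyMap w 0 = g := by
  obtain ⟨w, hw1, hw2⟩ := main u v H (B.homologyπ 0 ≫ g ≫ J.isoHomologyπ₀.inv) (by
    rw [← HomologicalComplex.homologyπ_naturality_assoc, reassoc_of% hg,
      CochainComplex.isoHomologyπ₀_inv_naturality]
    simp)
  refine ⟨w, hw1, ?_⟩
  have hc : HomologicalComplex.cyclesMap w 0 = B.homologyπ 0 ≫ g ≫ J.isoHomologyπ₀.inv := by
    rw [← cancel_mono (J.iCycles 0), HomologicalComplex.cyclesMap_i, hw2]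
  rw [← cancel_epi (B.homologyπ 0), HomologicalComplex.homologyπ_naturality, hc]
  simp

end

theorem exact_ref (K : CochainComplex V ℕ) (hK : ∀ n, 0 < n → K.ExactAt n) (n : ℕ) (T : V)
    (a : T ⟶ K.X (n + 1)) (ha : a ≫ K.d (n + 1) (n + 1 + 1) = 0) :
    ∃ (T' : V) (π : T' ⟶ T) (_ : Epi π) (a₀ : T' ⟶ K.X n), π ≫ a = a₀ ≫ K.d n (n + 1) :=
  (K.exactAt_iff_exact_up_to_refinements n (n + 1) (n + 1 + 1) (by simp) (by simp)).1
    (hK (n + 1) (Nat.succ_pos n)) a ha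

open ZeroObject in
theorem hyp_zero (B J : CochainComplex V ℕ) (hB : ∀ n, 0 < n → B.ExactAt n) :
    Hyp (0 : (HomologicalComplex.zero : CochainComplex V ℕ) ⟶ B)
      (0 : (HomologicalComplex.zero : CochainComplex V ℕ) ⟶ J) where
  hA := fun n T a _ => ⟨T, 𝟙 T, inferInstance, 0, by
    have hz : IsZero ((HomologicalComplex.zero : CochainComplex V ℕ).X (n + 1)) := by
      show IsZero (0 : V)
      exact isZero_zero V
    rw [hz.eq_of_tgt a 0]
    simp⟩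
  hB := exact_ref B hB
  huv := fun n T a _ => by simp
  hd := fun n T a _ => ⟨T, 𝟙 T, inferInstance, 0, by simp, by simp⟩

theorem ladder (C' C C'' I' I I'' : CochainComplex V ℕ)
    (jC : C' ⟶ C) (πC : C ⟶ C'') (jI : I' ⟶ I) (πI : I ⟶ I'')
    (mC : ∀ n, Mono (jC.f n)) (wC : ∀ n, jC.f n ≫ πC.f n = 0)
    (exC : ∀ n, (ShortComplex.mk (jC.f n) (πC.f n) (wC n)).Exact)
    (wI : ∀ n, jI.f n ≫ πI.f n = 0)
    (hC' : ∀ n, 0 < n → C'.ExactAt n) (hC : ∀ n, 0 < n → C.ExactAt n)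
    (hC'' : ∀ n, 0 < n → C''.ExactAt n)
    (injI' : ∀ n, Injective (I'.X n)) (injI : ∀ n, Injective (I.X n))
    (injI'' : ∀ n, Injective (I''.X n))
    (g' : C'.homology 0 ⟶ I'.homology 0) (g : C.homology 0 ⟶ I.homology 0)
    (g'' : C''.homology 0 ⟶ I''.homology 0)
    (hg1 : HomologicalComplex.homologyMap jC 0 ≫ g = g' ≫ HomologicalComplex.homologyMap jI 0)
    (hg2 : HomologicalComplex.homologyMap πC 0 ≫ g'' = g ≫ HomologicalComplex.homologyMap πI 0) :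
    ∃ (f' : C' ⟶ I') (f : C ⟶ I) (f'' : C'' ⟶ I''),
      jC ≫ f = f' ≫ jI ∧ πC ≫ f'' = f ≫ πI ∧
      HomologicalComplex.homologyMap f' 0 = g' ∧ HomologicalComplex.homologyMap f 0 = g ∧
      HomologicalComplex.homologyMap f'' 0 = g'' := by
  haveI := injI'
  haveI := injI
  haveI := injI''
  haveI := mC
  -- step 1
  obtain ⟨f', -, hf'⟩ := main' _ _ (hyp_zero C' I' hC') g' (by simp)
  -- step 2
  have H2 : Hyp jC (f' ≫ jI) :=
    { hA := exact_ref C' hC'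
      hB := exact_ref C hC
      huv := fun n T a ha => by
        have ha0 : a = 0 := by
          rw [← cancel_mono (jC.f n), ha, zero_comp]
        rw [ha0, zero_comp]
      hd := fun n T a ha => ⟨T, 𝟙 T, inferInstance, a, by
        rw [← cancel_mono (jC.f (n + 1)), Category.assoc, ha, zero_comp], by simp⟩ }
  obtain ⟨f, hjf, hf⟩ := main' jC (f' ≫ jI) H2 g (by
    rw [HomologicalComplex.homologyMap_comp, hf', hg1])
  have hjfn : ∀ n, jC.f n ≫ f.f n = f'.f n ≫ jI.f n := fun n => by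
    rw [← HomologicalComplex.comp_f, hjf, HomologicalComplex.comp_f]
  -- step 3
  have H3 : Hyp πC (f ≫ πI) :=
    { hA := exact_ref C hC
      hB := exact_ref C'' hC''
      huv := fun n T a ha => by
        obtain ⟨T', π, hπ, x₁, hx₁⟩ := (exC n).exact_up_to_refinements a ha
        haveI := hπ
        dsimp at x₁ hx₁
        rw [← cancel_epi π, comp_zero, HomologicalComplex.comp_f, ← Category.assoc, hx₁,
          Category.assoc, ← Category.assoc (jC.f n), hjfn, Category.assoc, wI, comp_zero,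
          comp_zero]
      hd := fun n T a ha => by
        obtain ⟨T₁, π₁, hπ₁, c', hc'⟩ := (exC (n + 1)).exact_up_to_refinements
          (a ≫ C.d n (n + 1)) (by simpa using ha)
        dsimp at c' hc'
        have hc'd : c' ≫ C'.d (n + 1) (n + 1 + 1) = 0 := by
          rw [← cancel_mono (jC.f (n + 1 + 1)), Category.assoc, ← jC.comm (n + 1) (n + 1 + 1),
            ← Category.assoc, ← hc', zero_comp]
          simp
        obtain ⟨T₂, π₂, hπ₂, c₀, hc₀⟩ := exact_ref C' hC' n T₁ c' hc'd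
        refine ⟨T₂, π₂ ≫ π₁, epi_comp _ _, (π₂ ≫ π₁) ≫ a - c₀ ≫ jC.f n, ?_, ?_⟩
        · simp only [Preadditive.sub_comp, Category.assoc]
          rw [hc', jC.comm n (n + 1), ← Category.assoc π₂, hc₀, Category.assoc, sub_self]
        · simp only [Preadditive.sub_comp, Category.assoc]
          rw [wC, comp_zero, sub_zero] }
  obtain ⟨f'', hπf, hf''⟩ := main' πC (f ≫ πI) H3 g'' (by
    rw [HomologicalComplex.homologyMap_comp, hf, hg2])
  exact ⟨f', f, f'', hjf, hπf, hf', hf, hf''⟩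

end H10RL
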