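import Mathlib
import Groth.Prelude
import Groth.Agent.Lib.Helper3.IdealComap
import Groth.Agent.Lib.Helper3.QCSec

/-!
# The ideal of the scheme-theoretic fibre on affine charts (sub-lemma for F of S19496)

For `f : X ⟶ Spec A`, `m = (a_1, …, a_r)` and an affine open `U ⊆ X`, the ideal of
`(Spec A/m → Spec A).ker.comap f` on `U` is generated by the restrictions of the global
functions `Coh.toGlobal f (a i)`.
-/

set_option autoImplicit false
universe u
open CategoryTheory CategoryTheory.Limits AlgebraicGeometry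

namespace Groth.Agent.Lib.Helper10.RelNefFspan

open Groth.Agent.Lib.Helper3.QCSec

theorem ker_SpecMap_mk_ideal_top {A : Type u} [CommRing A] (m : Ideal A) :
    (Spec.map (CommRingCat.ofHom (Ideal.Quotient.mk m))).ker.ideal ⟨⊤, isAffineOpen_top _⟩ =
      m.map (Scheme.ΓSpecIso (CommRingCat.of A)).inv.hom := by
  ext x
  rw [Scheme.Hom.ker_apply, RingHom.mem_ker]
  have hnat := Scheme.ΓSpecIso_inv_naturality (CommRingCat.ofHom (Ideal.Quotient.mk m))
  obtain ⟨y, rfl⟩ : ∃ y, (Scheme.ΓSpecIso (CommRingCat.of A)).inv.hom y = x :=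
    ⟨(Scheme.ΓSpecIso (CommRingCat.of A)).hom.hom x, by
      rw [← CommRingCat.comp_apply, Iso.hom_inv_id]; rfl⟩
  have h1 : ((Spec.map (CommRingCat.ofHom (Ideal.Quotient.mk m))).app ⊤).hom
      ((Scheme.ΓSpecIso (CommRingCat.of A)).inv.hom y) =
      (Scheme.ΓSpecIso (CommRingCat.of (A ⧸ m))).inv.hom (Ideal.Quotient.mk m y) := by
    have := congrArg (fun φ => φ.hom y) hnat
    simp only [CommRingCat.hom_comp, RingHom.comp_apply, CommRingCat.hom_ofHom] at this
    exact this.symm
  rw [h1]
  have hinj : Function.Injective (Scheme.ΓSpecIso (CommRingCat.of (A ⧸ m))).inv.hom :=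
    (ConcreteCategory.bijective_of_isIso (Scheme.ΓSpecIso (CommRingCat.of (A ⧸ m))).inv).1
  have hinjA : Function.Injective (Scheme.ΓSpecIso (CommRingCat.of A)).inv.hom :=
    (ConcreteCategory.bijective_of_isIso (Scheme.ΓSpecIso (CommRingCat.of A)).inv).1
  constructor
  · intro h
    have : Ideal.Quotient.mk m y = 0 := hinj (h.trans (map_zero _).symm)
    exact Ideal.mem_map_of_mem _ (Ideal.Quotient.eq_zero_iff_mem.mp this)
  · intro h
    have hsurj : Function.Surjective (Scheme.ΓSpecIso (CommRingCat.of A)).inv.hom :=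
      (ConcreteCategory.bijective_of_isIso (Scheme.ΓSpecIso (CommRingCat.of A)).inv).2
    rw [Ideal.mem_map_iff_of_surjective _ hsurj] at h
    obtain ⟨z, hz, hzy⟩ := h
    have : z = y := hinjA hzy
    subst this
    rw [Ideal.Quotient.eq_zero_iff_mem.mpr hz]
    exact map_zero _

theorem fibIdeal_ideal_eq_span {A : Type u} [CommRing A] {X : Scheme.{u}}
    (f : X ⟶ Spec (CommRingCat.of A)) (m : Ideal A) {r : ℕ} (a : Fin r → A)
    (ha : Ideal.span (Set.range a) = m) (U : X.affineOpens) :
    ((Spec.map (CommRingCat.ofHom (Ideal.Quotient.mk m))).ker.comap f).ideal U =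
      Ideal.span (Set.range fun i => rres X (le_top : U.1 ≤ ⊤) (Coh.toGlobal f (a i))) := by
  rw [Groth.Agent.Lib.Helper3.ideal_comap_of_le f _ U ⟨⊤, isAffineOpen_top _⟩ le_top,
    ker_SpecMap_mk_ideal_top, Ideal.map_map, ← ha, Ideal.map_span, ← Set.range_comp]
  rfl

end Groth.Agent.Lib.Helper10.RelNefFspan
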