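import Mathlib
import Groth.Prelude.Def_CurvBase
import Groth.Agent.Lib.Helper12.RatPoint

/-!
# Finiteness of the residue field at the image of a closed point of the geometric fibre (helper10)

Sub-lemma (RD) for helper22 / S6556.
-/

set_option autoImplicit false
universe u

open AlgebraicGeometry CategoryTheory IsLocalRing

namespace Groth.Agent.Lib.Helper10.ResFinBC

/-- The residue field of a closed point of a scheme locally of finite type over a field `k` is
finite over `k` (for the `k`-structure induced from `Curv2.stalkAlgebra`). -/
theorem finite_residueField_of_isClosed (k : Type u) [Field k] (X : Scheme.{u})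
    [X.Over (Spec (CommRingCat.of k))] [LocallyOfFiniteType (X ↘ Spec (CommRingCat.of k))]
    (x : X) (hx : IsClosed ({x} : Set X)) :
    letI := Curv2.stalkAlgebra k X x
    Module.Finite k (ResidueField (X.presheaf.stalk x)) := by
  haveI : IsClosedImmersion (X.fromSpecResidueField x) :=
    isClosed_singleton_iff_isClosedImmersion.mp hx
  have hφ : X.fromSpecResidueField x ≫ (X ↘ Spec (CommRingCat.of k)) =
      Spec.map (CommRingCat.ofHom (Curv2.resMap k X x)) :=
    Groth.Agent.Lib.Helper12.fromSpecResidueField_comp_eq (CommRingCat.of k)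
      (X ↘ Spec (CommRingCat.of k)) x
  have h1 : LocallyOfFiniteType (Spec.map (CommRingCat.ofHom (Curv2.resMap k X x))) := by
    rw [← hφ]
    infer_instance
  have h2 : (Curv2.resMap k X x).FiniteType :=
    (HasRingHomProperty.Spec_iff (P := @LocallyOfFiniteType)).mp h1
  have h3 : (Curv2.resMap k X x).Finite :=
    RingHom.finite_iff_finiteType_of_isJacobsonRing.mpr h2
  have halg : (@ResidueField.algebra (X.presheaf.stalk x) _ _ k _ (Curv2.stalkAlgebra k X x)) =
      (Curv2.resMap k X x).toAlgebra := by
    apply Algebra.algebra_ext
    intro r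
    rfl
  show @Module.Finite k (ResidueField (X.presheaf.stalk x)) _ _ (@Algebra.toModule _ _ _ _
    (@ResidueField.algebra (X.presheaf.stalk x) _ _ k _ (Curv2.stalkAlgebra k X x)))
  rw [halg]
  exact h3

/-- (RD) finiteness of the residue field at the image of a closed point of `X_{k̄}`. -/
theorem finite_residueField_bcFst (k : Type u) [Field k] (X : Scheme.{u})
    [X.Over (Spec (CommRingCat.of k))] [LocallyOfFiniteType (X ↘ Spec (CommRingCat.of k))]
    (xb : ↥(Curv2.bc k X (AlgebraicClosure k)))
    (hxb : IsClosed ({xb} : Set ↥(Curv2.bc k X (AlgebraicClosure k)))) :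
    letI := Curv2.stalkAlgebra k X (Curv2.bcFst k X (AlgebraicClosure k) xb)
    Module.Finite k
      (ResidueField (X.presheaf.stalk (Curv2.bcFst k X (AlgebraicClosure k) xb))) := by
  have hcl : IsClosed ({Curv2.bcFst k X (AlgebraicClosure k) xb} : Set X) := by
    haveI : IsIntegralHom
        (Spec.map (CommRingCat.ofHom (algebraMap k (AlgebraicClosure k)))) := by
      rw [IsIntegralHom.SpecMap_iff]
      exact algebraMap_isIntegral_iff.mpr inferInstance
    have := (Curv2.bcFst k X (AlgebraicClosure k)).isClosedMap _ hxb
    rwa [Set.image_singleton] at this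
  exact finite_residueField_of_isClosed k X _ hcl

end Groth.Agent.Lib.Helper10.ResFinBC
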