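import Mathlib
import Groth.Agent.S16807
import Groth.Agent.S16806
import Groth.Agent.S12840
import Groth.Agent.S12763
import Groth.Agent.Lib.Helper10.AlgStSubChart
import Groth.Agent.Lib.Helper10.AlgStPtsFib
import Groth.Agent.Lib.Helper10.AlgStLocQChart
import Groth.Agent.Lib.Helper28.AlgSt.Whisker
import Groth.Agent.Lib.Helper16.AlgSt.LocQOne

/-!
# Factorisation through a monomorphism whose source is "one point"

Formal lemma: if the first projection of `𝒜 ×_𝒴 𝒵` is an equivalence, then `𝒜 ⟶ 𝒴` factors through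
`𝒵 ⟶ 𝒴`.  Combined with helper28's dichotomy for monomorphisms into a stack covered by the spectrum of
a field this gives the factorisation statements for residual gerbes.
-/

set_option autoImplicit false
set_option backward.isDefEq.respectTransparency false
set_option backward.isDefEq.respectTransparency.types false

universe u

open CategoryTheory CategoryTheory.Limits AlgebraicGeometry Opposite

namespace H10PT.ResGerbeFac

open Groth.Agent.Lib.Helper10.Fib Groth.Agent.Lib.Helper10.AlgStRep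
open Groth.Agent.Lib.Helper28.AlgSt.PropInst Groth.Agent.Lib.Helper28.AlgSt.Whisker
open Groth.Agent.Lib.Helper28.AlgSt.DiagComp
open Groth.Agent.Lib.Helper16 Groth.Agent.Lib.Helper16.AlgStDC

variable {S : Scheme.{u}} {𝒜 𝒴 𝒵 : AlgSt.Cat S}

/-- If `𝒜 ×_𝒴 𝒵 ⟶ 𝒜` is an equivalence then `m : 𝒜 ⟶ 𝒴` factors through `i : 𝒵 ⟶ 𝒴`. -/
theorem exists_factor_of_isEquivOver_fpFst (m : 𝒜 ⥤ᵇ 𝒴) (i : 𝒵 ⥤ᵇ 𝒴)
    (h : FibCat.IsEquivOver (FibCat.fpFst m i)) :
    ∃ g : 𝒜 ⥤ᵇ 𝒵, Nonempty (BasedFunctor.comp g i ≅ m) := by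
  obtain ⟨G, ⟨_⟩, ⟨e₂⟩⟩ := h
  refine ⟨BasedFunctor.comp G (FibCat.fpSnd m i), ⟨?_⟩⟩
  have α : BasedFunctor.comp G (BasedFunctor.comp (FibCat.fpSnd m i) i) ≅
      BasedFunctor.comp G (BasedFunctor.comp (FibCat.fpFst m i) m) :=
    wl G (FibCat.fpIso m i).symm
  have β : BasedFunctor.comp (BasedFunctor.comp G (FibCat.fpFst m i)) m ≅
      BasedFunctor.comp (BasedFunctor.id 𝒜) m := wr e₂ m
  exact α ≪≫ β

/-- A monomorphism `i : 𝒵 ⟶ 𝒴` and a morphism `m : 𝒜 ⟶ 𝒴` from a stack `𝒜` covered by the spectrum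
of a field such that some point of `𝒜` and some point of `𝒵` have the same image in `𝒴`: then
`𝒜 ×_𝒴 𝒵 ⟶ 𝒜` is an equivalence. -/
theorem isEquivOver_fpFst_of_mono_field
    (h𝒴 : AlgSt.IsAlgStack Scheme.fppfPrecoverage 𝒴) (h𝒵 : AlgSt.IsAlgStack Scheme.fppfPrecoverage 𝒵)
    (h𝒜 : AlgSt.IsAlgStack Scheme.fppfPrecoverage 𝒜)
    (m : 𝒜 ⥤ᵇ 𝒴) (i : 𝒵 ⥤ᵇ 𝒴) (hi : AlgSt.IsMono i)
    (k : Type u) [Field k] (a : Spec (CommRingCat.of k) ⟶ S)
    (z : FibCat.overCat (Over.mk a) ⥤ᵇ 𝒜)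
    (hzp : AlgSt.RepByAlgSpWith (AlgSp.LocP @LocallyOfFinitePresentation) z)
    (hzs : AlgSt.RepByAlgSpWith AlgSp.IsSurjectiveMor z)
    (hzf : AlgSt.RepByAlgSpWith (AlgSp.LocP @Flat) z)
    (w : AlgSt.Points 𝒜) (w' : AlgSt.Points 𝒵)
    (hw : AlgSt.Points.map m w = AlgSt.Points.map i w') :
    FibCat.IsEquivOver (FibCat.fpFst m i) := by
  have h𝒫 : AlgSt.IsAlgStack Scheme.fppfPrecoverage (FibCat.fp m i) :=
    Groth.Agent.S12763.result h𝒴.isStack h𝒴.diag h𝒜 h𝒵 m i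
  have hmono : AlgSt.IsMono (FibCat.fpFst m i) := repByAlgSpWith_fpFst _ i m hi
  rcases Groth.Agent.S16807.result S (FibCat.fp m i) 𝒜 h𝒫 h𝒜 (FibCat.fpFst m i) hmono k a z
    hzp hzs hzf with hE | hE
  · exfalso
    obtain ⟨w₀, -, -⟩ := H10PT.exists_fp_point h𝒵.isStack.1 h𝒴.isStack.1 h𝒜.isStack.1 i m w w' hw
    exact hE.false w₀
  · exact hE

/-- Factorisation through a monomorphism. -/
theorem exists_factor_of_mono_field
    (h𝒴 : AlgSt.IsAlgStack Scheme.fppfPrecoverage 𝒴) (h𝒵 : AlgSt.IsAlgStack Scheme.fppfPrecoverage 𝒵)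
    (h𝒜 : AlgSt.IsAlgStack Scheme.fppfPrecoverage 𝒜)
    (m : 𝒜 ⥤ᵇ 𝒴) (i : 𝒵 ⥤ᵇ 𝒴) (hi : AlgSt.IsMono i)
    (k : Type u) [Field k] (a : Spec (CommRingCat.of k) ⟶ S)
    (z : FibCat.overCat (Over.mk a) ⥤ᵇ 𝒜)
    (hzp : AlgSt.RepByAlgSpWith (AlgSp.LocP @LocallyOfFinitePresentation) z)
    (hzs : AlgSt.RepByAlgSpWith AlgSp.IsSurjectiveMor z)
    (hzf : AlgSt.RepByAlgSpWith (AlgSp.LocP @Flat) z)
    (w : AlgSt.Points 𝒜) (w' : AlgSt.Points 𝒵)
    (hw : AlgSt.Points.map m w = AlgSt.Points.map i w') :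
    ∃ g : 𝒜 ⥤ᵇ 𝒵, Nonempty (BasedFunctor.comp g i ≅ m) :=
  exists_factor_of_isEquivOver_fpFst m i
    (isEquivOver_fpFst_of_mono_field h𝒴 h𝒵 h𝒜 m i hi k a z hzp hzs hzf w w' hw)

/-- The identity of `(Sch/U)` is 2-isomorphic to composition with the identity of `U`. -/
def idIsoOverMapId (U : Over S) : BasedFunctor.id (FibCat.overCat U) ≅ AlgSt.overMap (𝟙 U) :=
  BasedNatIso.mkNatIso (Over.mapId U).symm (fun b => by
    have h1 : ((Over.mapId U).symm.hom.app b).left = 𝟙 _ := by simp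
    refine IsHomLift.of_fac _ _ _ rfl rfl ?_
    show 𝟙 _ = eqToHom _ ≫ ((Over.mapId U).symm.hom.app b).left ≫ eqToHom _
    rw [h1]
    simp)

theorem repByAlgSpWith_id_overCat (P : MorphismProperty (AlgSp.Sp S)) (hPb : BC P) (U : Over S)
    (h : P ((AlgSp.yon S).map (𝟙 U))) :
    AlgSt.RepByAlgSpWith P (BasedFunctor.id (FibCat.overCat U)) :=
  repByAlgSpWith_iso P (idIsoOverMapId U) (H10PT.repByAlgSpWith_overMap P hPb (𝟙 U) h)

theorem repByAlgSpWith_id_overCat_lfp (U : Over S) :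
    AlgSt.RepByAlgSpWith (AlgSp.LocP @LocallyOfFinitePresentation)
      (BasedFunctor.id (FibCat.overCat U)) :=
  repByAlgSpWith_id_overCat _ (bc_locP etLocalST_locallyOfFinitePresentation) U
    (locP_yon_of etLocalST_locallyOfFinitePresentation (𝟙 U)
      (by show LocallyOfFinitePresentation (𝟙 U.left); infer_instance))

theorem repByAlgSpWith_id_overCat_flat (U : Over S) :
    AlgSt.RepByAlgSpWith (AlgSp.LocP @Flat) (BasedFunctor.id (FibCat.overCat U)) :=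
  repByAlgSpWith_id_overCat _ (bc_locP etLocalST_flat) U
    (locP_yon_of etLocalST_flat (𝟙 U) (by show Flat (𝟙 U.left); infer_instance))

theorem repByAlgSpWith_id_overCat_surj (U : Over S) :
    AlgSt.RepByAlgSpWith AlgSp.IsSurjectiveMor (BasedFunctor.id (FibCat.overCat U)) :=
  repByAlgSpWith_id_overCat _ bc_surjective U (by
    rw [CategoryTheory.Functor.map_id]
    exact fun p => ⟨p, AlgSp.Points.map_id p⟩)

/-- A morphism from the spectrum of a field to `𝒴` whose point is the image of a point of `𝒵`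
under the monomorphism `i : 𝒵 ⟶ 𝒴` factors through `i`. -/
theorem exists_factor_field_of_mono
    (h𝒴 : AlgSt.IsAlgStack Scheme.fppfPrecoverage 𝒴) (h𝒵 : AlgSt.IsAlgStack Scheme.fppfPrecoverage 𝒵)
    (i : 𝒵 ⥤ᵇ 𝒴) (hi : AlgSt.IsMono i)
    (k : Type u) [Field k] (a : Spec (CommRingCat.of k) ⟶ S)
    (p : FibCat.overCat (Over.mk a) ⥤ᵇ 𝒴) (t : ↥(Over.mk a).left) (w' : AlgSt.Points 𝒵)
    (hw : AlgSt.Points.ofChart p t = AlgSt.Points.map i w') :
    ∃ q : FibCat.overCat (Over.mk a) ⥤ᵇ 𝒵, Nonempty (BasedFunctor.comp q i ≅ p) :=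
  exists_factor_of_mono_field h𝒴 h𝒵 (H10PT.isAlgStack_overCat _) p i hi k a (BasedFunctor.id _)
    (repByAlgSpWith_id_overCat_lfp _) (repByAlgSpWith_id_overCat_surj _)
    (repByAlgSpWith_id_overCat_flat _) (AlgSt.Points.mk (H10PT.resFPt (Over.mk a) t)) w' hw

end H10PT.ResGerbeFac
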