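import Groth.Prelude.Def_RDerDelta
import Mathlib.CategoryTheory.Abelian.Refinements
import Mathlib.Algebra.Homology.HomologySequenceLemmas

set_option backward.isDefEq.respectTransparency false
set_option backward.isDefEq.respectTransparency.types false
set_option autoImplicit false

universe v u v' u'

open CategoryTheory CategoryTheory.Limits

noncomputable section

namespace H10SES

variable {C : Type u} [Category.{v} C] [Abelian C]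

section Rec

variable {Z : C} (I : InjectiveResolution Z) (Y : ℕ → C) [∀ n, Injective (Y n)]
  (Φ : ∀ n, (I.cocomplex.X n ⟶ Y n) → (I.cocomplex.X n ⟶ Y (n + 1)))
  (hΦ : ∀ (n : ℕ) (y : I.cocomplex.X n ⟶ Y n) (x : I.cocomplex.X (n + 1) ⟶ Y (n + 1)),
    I.cocomplex.d n (n + 1) ≫ x = Φ n y → I.cocomplex.d n (n + 1) ≫ Φ (n + 1) x = 0)
  (x₀ : I.cocomplex.X 0 ⟶ Y 0) (h₀ : I.ι.f 0 ≫ Φ 0 x₀ = 0)

/-- state of the recursion: two consecutive terms with their relation -/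
def RecState (n : ℕ) : Type v :=
  { p : (I.cocomplex.X n ⟶ Y n) × (I.cocomplex.X (n + 1) ⟶ Y (n + 1)) //
    I.cocomplex.d n (n + 1) ≫ p.2 = Φ n p.1 }

/-- the recursion -/
def recState : ∀ n, RecState I Y Φ n
  | 0 => ⟨(x₀, I.exact₀.descToInjective (Φ 0 x₀) h₀), I.exact₀.comp_descToInjective _ _⟩
  | n + 1 =>
    ⟨((recState n).1.2, (I.exact_succ n).descToInjective (Φ (n + 1) (recState n).1.2)
        (hΦ n _ _ (recState n).2)),
      (I.exact_succ n).comp_descToInjective _ _⟩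

include hΦ h₀ in
theorem exists_seq : ∃ x : ∀ n, I.cocomplex.X n ⟶ Y n, x 0 = x₀ ∧
    ∀ n, I.cocomplex.d n (n + 1) ≫ x (n + 1) = Φ n (x n) :=
  ⟨fun n => (recState I Y Φ hΦ x₀ h₀ n).1.1, rfl, fun n => (recState I Y Φ hΦ x₀ h₀ n).2⟩

end Rec

section Aug

variable {Z : C} (I : InjectiveResolution Z)

/-- the augmentation in degree 0 -/
def aug : Z ⟶ I.cocomplex.X 0 := I.ι.f 0

instance aug_mono : Mono (aug I) := inferInstanceAs (Mono (I.ι.f 0))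

@[reassoc (attr := simp)]
lemma aug_d : aug I ≫ I.cocomplex.d 0 1 = 0 := I.ι_f_zero_comp_complex_d

lemma aug_exact : (ShortComplex.mk (aug I) (I.cocomplex.d 0 1) (aug_d I)).Exact := I.exact₀

end Aug

section SES

open RDer

variable {S : ShortComplex C} (T : SESRes S) (n : ℕ)

/-- retraction -/
def sr : T.I₂.cocomplex.X n ⟶ T.I₁.cocomplex.X n := (T.splitting n).r
/-- section -/
def ss : T.I₃.cocomplex.X n ⟶ T.I₂.cocomplex.X n := (T.splitting n).s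

@[reassoc (attr := simp)]
lemma f_r : T.f.f n ≫ sr T n = 𝟙 _ := (T.splitting n).f_r

@[reassoc (attr := simp)]
lemma s_g : ss T n ≫ T.g.f n = 𝟙 _ := (T.splitting n).s_g

lemma r_f_add : sr T n ≫ T.f.f n + T.g.f n ≫ ss T n = 𝟙 _ := (T.splitting n).id

@[reassoc (attr := simp)]
lemma s_r : ss T n ≫ sr T n = 0 := (T.splitting n).s_r

@[reassoc (attr := simp)]
lemma f_g : T.f.f n ≫ T.g.f n = 0 := by
  have h := HomologicalComplex.congr_hom T.zero n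
  simpa using h

instance mono_f : Mono (T.f.f n) := mono_of_mono_fac (f_r T n)

instance epi_g : Epi (T.g.f n) := epi_of_epi_fac (s_g T n)

@[reassoc]
lemma f_d : T.f.f n ≫ T.I₂.cocomplex.d n (n + 1) = T.I₁.cocomplex.d n (n + 1) ≫ T.f.f (n + 1) :=
  T.f.comm n (n + 1)

@[reassoc]
lemma d_g : T.I₂.cocomplex.d n (n + 1) ≫ T.g.f (n + 1) = T.g.f n ≫ T.I₃.cocomplex.d n (n + 1) :=
  (T.g.comm n (n + 1)).symm

@[reassoc]
lemma aug_f : aug T.I₁ ≫ T.f.f 0 = S.f ≫ aug T.I₂ := by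
  have h := HomologicalComplex.congr_hom T.ι_f 0
  simpa [aug] using h

@[reassoc]
lemma aug_g : aug T.I₂ ≫ T.g.f 0 = S.g ≫ aug T.I₃ := by
  have h := HomologicalComplex.congr_hom T.ι_g 0
  simpa [aug] using h

/-- the twisting cochain -/
def tw : T.I₃.cocomplex.X n ⟶ T.I₁.cocomplex.X (n + 1) :=
  ss T n ≫ T.I₂.cocomplex.d n (n + 1) ≫ sr T (n + 1)

lemma hom_ext_to {W : C} {x y : W ⟶ T.I₂.cocomplex.X n} (h1 : x ≫ sr T n = y ≫ sr T n)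
    (h2 : x ≫ T.g.f n = y ≫ T.g.f n) : x = y := by
  have key : ∀ z : W ⟶ T.I₂.cocomplex.X n,
      z = (z ≫ sr T n) ≫ T.f.f n + (z ≫ T.g.f n) ≫ ss T n := by
    intro z
    rw [Category.assoc, Category.assoc, ← Preadditive.comp_add, r_f_add, Category.comp_id]
  rw [key x, key y, h1, h2]

@[reassoc]
lemma d₂_r : T.I₂.cocomplex.d n (n + 1) ≫ sr T (n + 1) =
    sr T n ≫ T.I₁.cocomplex.d n (n + 1) + T.g.f n ≫ tw T n := by
  calc T.I₂.cocomplex.d n (n + 1) ≫ sr T (n + 1)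
      = (sr T n ≫ T.f.f n + T.g.f n ≫ ss T n) ≫ T.I₂.cocomplex.d n (n + 1) ≫ sr T (n + 1) := by
        rw [r_f_add, Category.id_comp]
    _ = sr T n ≫ T.I₁.cocomplex.d n (n + 1) + T.g.f n ≫ tw T n := by
        simp only [tw, Preadditive.add_comp, Category.assoc, f_d_assoc, f_r, Category.comp_id]

lemma tw_cocycle : tw T n ≫ T.I₁.cocomplex.d (n + 1) (n + 1 + 1) +
    T.I₃.cocomplex.d n (n + 1) ≫ tw T (n + 1) = 0 := by
  have h0 : T.I₂.cocomplex.d n (n + 1) ≫ T.I₂.cocomplex.d (n + 1) (n + 1 + 1) ≫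
      sr T (n + 1 + 1) = 0 := by
    rw [HomologicalComplex.d_comp_d_assoc, zero_comp]
  simp only [d₂_r, d₂_r_assoc, Preadditive.comp_add, Preadditive.add_comp, Category.assoc,
    HomologicalComplex.d_comp_d, comp_zero, zero_add, d_g_assoc] at h0
  rw [← Preadditive.comp_add] at h0
  exact (cancel_epi (T.g.f n)).1 (h0.trans comp_zero.symm)

variable {S' : ShortComplex C} (T' : SESRes S')
  (a₁ : T.I₁.cocomplex ⟶ T'.I₁.cocomplex) (a₃ : T.I₃.cocomplex ⟶ T'.I₃.cocomplex)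
  (β : ∀ n, T.I₃.cocomplex.X n ⟶ T'.I₁.cocomplex.X n)

/-- the middle map, degreewise -/
def midF (n : ℕ) : T.I₂.cocomplex.X n ⟶ T'.I₂.cocomplex.X n :=
  sr T n ≫ a₁.f n ≫ T'.f.f n + T.g.f n ≫ a₃.f n ≫ ss T' n + T.g.f n ≫ β n ≫ T'.f.f n

lemma f_midF : T.f.f n ≫ midF T T' a₁ a₃ β n = a₁.f n ≫ T'.f.f n := by
  simp only [midF, Preadditive.comp_add, f_r_assoc, f_g_assoc, zero_comp, add_zero]

@[reassoc]
lemma midF_g : midF T T' a₁ a₃ β n ≫ T'.g.f n = T.g.f n ≫ a₃.f n := by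
  simp only [midF, Preadditive.add_comp, Category.assoc, f_g, comp_zero, s_g, Category.comp_id,
    zero_add, add_zero]

@[reassoc]
lemma midF_r : midF T T' a₁ a₃ β n ≫ sr T' n = sr T n ≫ a₁.f n + T.g.f n ≫ β n := by
  simp only [midF, Preadditive.add_comp, Category.assoc, f_r, s_r, comp_zero, Category.comp_id,
    add_zero]

/-- the obstruction cocycle -/
def cc (n : ℕ) : T.I₃.cocomplex.X n ⟶ T'.I₁.cocomplex.X (n + 1) :=
  a₃.f n ≫ tw T' n - tw T n ≫ a₁.f (n + 1)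

lemma cc_cocycle : cc T T' a₁ a₃ n ≫ T'.I₁.cocomplex.d (n + 1) (n + 1 + 1) +
    T.I₃.cocomplex.d n (n + 1) ≫ cc T T' a₁ a₃ (n + 1) = 0 := by
  have h1 : tw T' n ≫ T'.I₁.cocomplex.d (n + 1) (n + 1 + 1) =
      - (T'.I₃.cocomplex.d n (n + 1) ≫ tw T' (n + 1)) :=
    eq_neg_of_add_eq_zero_left (tw_cocycle T' n)
  have h2 : T.I₃.cocomplex.d n (n + 1) ≫ tw T (n + 1) =
      - (tw T n ≫ T.I₁.cocomplex.d (n + 1) (n + 1 + 1)) :=
    eq_neg_of_add_eq_zero_right (tw_cocycle T n)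
  have h3 : a₁.f (n + 1) ≫ T'.I₁.cocomplex.d (n + 1) (n + 1 + 1) =
      T.I₁.cocomplex.d (n + 1) (n + 1 + 1) ≫ a₁.f (n + 1 + 1) := a₁.comm (n + 1) (n + 1 + 1)
  have h4 : T.I₃.cocomplex.d n (n + 1) ≫ a₃.f (n + 1) =
      a₃.f n ≫ T'.I₃.cocomplex.d n (n + 1) := (a₃.comm n (n + 1)).symm
  simp only [cc, Preadditive.sub_comp, Preadditive.comp_sub, Category.assoc, h1, h3,
    reassoc_of% h2, reassoc_of% h4, Preadditive.comp_neg, Preadditive.neg_comp]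
  abel

lemma midF_comm
    (hβ : T.I₃.cocomplex.d n (n + 1) ≫ β (n + 1) =
      β n ≫ T'.I₁.cocomplex.d n (n + 1) + cc T T' a₁ a₃ n) :
    midF T T' a₁ a₃ β n ≫ T'.I₂.cocomplex.d n (n + 1) =
      T.I₂.cocomplex.d n (n + 1) ≫ midF T T' a₁ a₃ β (n + 1) := by
  apply hom_ext_to T' (n + 1)
  · have hL : (midF T T' a₁ a₃ β n ≫ T'.I₂.cocomplex.d n (n + 1)) ≫ sr T' (n + 1) =
        sr T n ≫ a₁.f n ≫ T'.I₁.cocomplex.d n (n + 1) +
          T.g.f n ≫ β n ≫ T'.I₁.cocomplex.d n (n + 1) + T.g.f n ≫ a₃.f n ≫ tw T' n := by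
      simp only [Category.assoc, d₂_r, Preadditive.comp_add, midF_r_assoc, midF_g_assoc,
        Preadditive.add_comp]
    have hR : (T.I₂.cocomplex.d n (n + 1) ≫ midF T T' a₁ a₃ β (n + 1)) ≫ sr T' (n + 1) =
        sr T n ≫ T.I₁.cocomplex.d n (n + 1) ≫ a₁.f (n + 1) +
          T.g.f n ≫ tw T n ≫ a₁.f (n + 1) +
          T.g.f n ≫ T.I₃.cocomplex.d n (n + 1) ≫ β (n + 1) := by
      simp only [Category.assoc, midF_r, Preadditive.comp_add, d₂_r_assoc, Preadditive.add_comp,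
        d_g_assoc]
    rw [hL, hR, hβ, a₁.comm n (n + 1)]
    simp only [cc, Preadditive.comp_add, Preadditive.comp_sub]
    abel
  · simp only [Category.assoc, d_g, midF_g_assoc, midF_g, d_g_assoc]
    rw [a₃.comm n (n + 1)]

section Beta0

variable (hS : S.ShortExact) (φ : S ⟶ S')
  (h₁ : aug T.I₁ ≫ a₁.f 0 = φ.τ₁ ≫ aug T'.I₁)
  (h₃ : aug T.I₃ ≫ a₃.f 0 = φ.τ₃ ≫ aug T'.I₃)

/-- auxiliary map `X₂ ⟶ I'₁⁰` -/
def e1 : S.X₂ ⟶ T'.I₁.cocomplex.X 0 :=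
  φ.τ₂ ≫ aug T'.I₂ ≫ sr T' 0 - aug T.I₂ ≫ sr T 0 ≫ a₁.f 0

include h₁ in
lemma f_e1 : S.f ≫ e1 T T' a₁ φ = 0 := by
  have hA : S.f ≫ φ.τ₂ ≫ aug T'.I₂ ≫ sr T' 0 = φ.τ₁ ≫ aug T'.I₁ := by
    rw [← φ.comm₁₂_assoc, ← aug_f_assoc, f_r, Category.comp_id]
  have hB : S.f ≫ aug T.I₂ ≫ sr T 0 ≫ a₁.f 0 = φ.τ₁ ≫ aug T'.I₁ := by
    rw [← aug_f_assoc, f_r_assoc, h₁]
  rw [e1, Preadditive.comp_sub, hA, hB, sub_self]

/-- the degree zero component of the homotopy -/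
def beta0 : T.I₃.cocomplex.X 0 ⟶ T'.I₁.cocomplex.X 0 :=
  haveI := hS.epi_g
  Injective.factorThru (hS.exact.desc (e1 T T' a₁ φ) (f_e1 T T' a₁ φ h₁)) (aug T.I₃)

lemma g_aug_beta0 : S.g ≫ aug T.I₃ ≫ beta0 T T' a₁ hS φ h₁ = e1 T T' a₁ φ := by
  haveI := hS.epi_g
  rw [beta0, Injective.comp_factorThru, ShortComplex.Exact.g_desc]

include h₃ in
lemma beta0_spec : aug T.I₃ ≫
    (beta0 T T' a₁ hS φ h₁ ≫ T'.I₁.cocomplex.d 0 1 + cc T T' a₁ a₃ 0) = 0 := by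
  haveI := hS.epi_g
  rw [← cancel_epi S.g, comp_zero]
  have hB : aug T.I₂ ≫ sr T 0 ≫ T.I₁.cocomplex.d 0 1 = - (S.g ≫ aug T.I₃ ≫ tw T 0) := by
    have h' : aug T.I₂ ≫ T.I₂.cocomplex.d 0 1 ≫ sr T 1 = 0 := by
      rw [aug_d_assoc, zero_comp]
    rw [d₂_r, Preadditive.comp_add, aug_g_assoc] at h'
    exact eq_neg_of_add_eq_zero_left h'
  have hC : φ.τ₂ ≫ aug T'.I₂ ≫ sr T' 0 ≫ T'.I₁.cocomplex.d 0 1 +
      φ.τ₂ ≫ aug T'.I₂ ≫ T'.g.f 0 ≫ tw T' 0 = 0 := by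
    have h' : φ.τ₂ ≫ aug T'.I₂ ≫ T'.I₂.cocomplex.d 0 1 ≫ sr T' 1 = 0 := by
      rw [aug_d_assoc, zero_comp, comp_zero]
    rw [d₂_r, Preadditive.comp_add, Preadditive.comp_add] at h'
    exact h'
  have hD : S.g ≫ aug T.I₃ ≫ a₃.f 0 ≫ tw T' 0 = φ.τ₂ ≫ aug T'.I₂ ≫ T'.g.f 0 ≫ tw T' 0 := by
    rw [reassoc_of% h₃, aug_g_assoc, φ.comm₂₃_assoc]
  have hE : S.g ≫ aug T.I₃ ≫ tw T 0 ≫ a₁.f 1 =
      - (aug T.I₂ ≫ sr T 0 ≫ a₁.f 0 ≫ T'.I₁.cocomplex.d 0 1) := by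
    rw [a₁.comm 0 1, reassoc_of% hB, Preadditive.neg_comp, neg_neg, Category.assoc, Category.assoc]
  have hF : S.g ≫ aug T.I₃ ≫ beta0 T T' a₁ hS φ h₁ ≫ T'.I₁.cocomplex.d 0 1 =
      φ.τ₂ ≫ aug T'.I₂ ≫ sr T' 0 ≫ T'.I₁.cocomplex.d 0 1 -
        aug T.I₂ ≫ sr T 0 ≫ a₁.f 0 ≫ T'.I₁.cocomplex.d 0 1 := by
    rw [reassoc_of% (g_aug_beta0 T T' a₁ hS φ h₁), e1, Preadditive.sub_comp]
    simp only [Category.assoc]
  simp only [cc, Preadditive.comp_add, Preadditive.comp_sub]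
  rw [hF, hD, hE, sub_neg_eq_add, ← hC]
  abel

end Beta0

theorem exists_mid (hS : S.ShortExact) (φ : S ⟶ S')
    (h₁ : aug T.I₁ ≫ a₁.f 0 = φ.τ₁ ≫ aug T'.I₁)
    (h₃ : aug T.I₃ ≫ a₃.f 0 = φ.τ₃ ≫ aug T'.I₃) :
    ∃ a₂ : T.I₂.cocomplex ⟶ T'.I₂.cocomplex,
      T.f ≫ a₂ = a₁ ≫ T'.f ∧ a₂ ≫ T'.g = T.g ≫ a₃ := by
  obtain ⟨β, -, hβ⟩ := exists_seq T.I₃ T'.I₁.cocomplex.X
    (fun n x => x ≫ T'.I₁.cocomplex.d n (n + 1) + cc T T' a₁ a₃ n)
    (by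
      intro n y x hx
      rw [Preadditive.comp_add, ← Category.assoc, hx, Preadditive.add_comp, Category.assoc,
        HomologicalComplex.d_comp_d, comp_zero, zero_add]
      exact cc_cocycle T n T' a₁ a₃)
    (beta0 T T' a₁ hS φ h₁) (beta0_spec T T' a₁ a₃ hS φ h₁ h₃)
  refine ⟨{ f := midF T T' a₁ a₃ β, comm' := ?_ }, ?_, ?_⟩
  · rintro i j (rfl : i + 1 = j)
    exact midF_comm T i T' a₁ a₃ β (hβ i)
  · ext n
    exact f_midF T n T' a₁ a₃ β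
  · ext n
    exact midF_g T n T' a₁ a₃ β

end SES

section Delta

open RDer

variable [HasInjectiveResolutions C] {D : Type u'} [Category.{v'} D] [Abelian D]
  (F : C ⥤ D) [F.Additive]

theorem delta_natural {S S' : ShortComplex C} (hS : S.ShortExact) (φ : S ⟶ S')
    (T : SESRes S) (T' : SESRes S') (n₀ n₁ : ℕ) (h : n₀ + 1 = n₁) :
    (F.rightDerived n₀).map φ.τ₃ ≫ T'.delta F n₀ n₁ h =
      T.delta F n₀ n₁ h ≫ (F.rightDerived n₁).map φ.τ₁ := by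
  have h₁ : T.I₁.ι.f 0 ≫ (InjectiveResolution.desc φ.τ₁ T'.I₁ T.I₁).f 0 = φ.τ₁ ≫ T'.I₁.ι.f 0 :=
    InjectiveResolution.desc_commutes_zero _ _ _
  have h₃ : T.I₃.ι.f 0 ≫ (InjectiveResolution.desc φ.τ₃ T'.I₃ T.I₃).f 0 = φ.τ₃ ≫ T'.I₃.ι.f 0 :=
    InjectiveResolution.desc_commutes_zero _ _ _
  obtain ⟨a₂, c₁₂, c₂₃⟩ := exists_mid T T' (InjectiveResolution.desc φ.τ₁ T'.I₁ T.I₁)
    (InjectiveResolution.desc φ.τ₃ T'.I₃ T.I₃) hS φ h₁ h₃
  let ψ : T.cx ⟶ T'.cx :=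
    { τ₁ := InjectiveResolution.desc φ.τ₁ T'.I₁ T.I₁
      τ₂ := a₂
      τ₃ := InjectiveResolution.desc φ.τ₃ T'.I₃ T.I₃
      comm₁₂ := c₁₂.symm
      comm₂₃ := c₂₃ }
  have nat := HomologicalComplex.HomologySequence.δ_naturality
    ((F.mapHomologicalComplex (ComplexShape.up ℕ)).mapShortComplex.map ψ)
    (T.map_shortExact F) (T'.map_shortExact F) n₀ n₁ h
  have n3 := InjectiveResolution.isoRightDerivedObj_hom_naturality φ.τ₃ T.I₃ T'.I₃ _ h₃ F n₀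
  have n1 := InjectiveResolution.isoRightDerivedObj_hom_naturality φ.τ₁ T.I₁ T'.I₁ _ h₁ F n₁
  rw [← cancel_mono (T'.I₁.isoRightDerivedObj F n₁).hom, Category.assoc, Category.assoc,
    SESRes.delta_comp_isoRightDerivedObj_hom, n1, ← Category.assoc (T.delta F n₀ n₁ h),
    SESRes.delta_comp_isoRightDerivedObj_hom, reassoc_of% n3, Category.assoc]
  congr 1
  exact nat.symm

end Delta

section ShortExact

open RDer

variable {S : ShortComplex C} (T : SESRes S)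

include T in
theorem shortExact_of_sesRes : S.ShortExact := by
  have hf : Mono S.f := by
    have : Mono (S.f ≫ aug T.I₂) := by
      rw [← aug_f]
      infer_instance
    exact mono_of_mono S.f (aug T.I₂)
  have hex : S.Exact := by
    rw [ShortComplex.exact_iff_exact_up_to_refinements]
    intro A x₂ hx₂
    have hw : (x₂ ≫ aug T.I₂ ≫ sr T 0) ≫ T.f.f 0 = x₂ ≫ aug T.I₂ := by
      have h0 : x₂ ≫ aug T.I₂ ≫ T.g.f 0 = 0 := by
        rw [aug_g, ← Category.assoc, hx₂, zero_comp]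
      apply hom_ext_to T 0
      · simp only [Category.assoc, f_r, Category.comp_id]
      · simp only [Category.assoc, f_g, comp_zero, h0]
    have hwd : (x₂ ≫ aug T.I₂ ≫ sr T 0) ≫ T.I₁.cocomplex.d 0 1 = 0 := by
      rw [← cancel_mono (T.f.f 1), zero_comp, Category.assoc, ← f_d, ← Category.assoc, hw,
        Category.assoc, aug_d, comp_zero]
    obtain ⟨A', π, hπ, u, hu⟩ := (aug_exact T.I₁).exact_up_to_refinements _ hwd
    refine ⟨A', π, hπ, u, ?_⟩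
    have key : (π ≫ x₂) ≫ aug T.I₂ = (u ≫ S.f) ≫ aug T.I₂ := by
      calc (π ≫ x₂) ≫ aug T.I₂ = π ≫ (x₂ ≫ aug T.I₂ ≫ sr T 0) ≫ T.f.f 0 := by
            rw [hw, Category.assoc]
        _ = (u ≫ aug T.I₁) ≫ T.f.f 0 := by
            rw [← Category.assoc]
            exact congrArg (· ≫ T.f.f 0) hu
        _ = (u ≫ S.f) ≫ aug T.I₂ := by rw [Category.assoc, aug_f, Category.assoc]
    exact (cancel_mono _).1 key
  have hg : Epi S.g := by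
    rw [epi_iff_surjective_up_to_refinements]
    intro A x₃
    -- y : A ⟶ I₂⁰ lifting x₃ ≫ ε₃
    have hy : (x₃ ≫ aug T.I₃ ≫ ss T 0) ≫ T.g.f 0 = x₃ ≫ aug T.I₃ := by
      simp only [Category.assoc, s_g, Category.comp_id]
    -- w : A ⟶ I₁¹
    have hw : ((x₃ ≫ aug T.I₃ ≫ ss T 0) ≫ T.I₂.cocomplex.d 0 1 ≫ sr T 1) ≫ T.f.f 1 =
        (x₃ ≫ aug T.I₃ ≫ ss T 0) ≫ T.I₂.cocomplex.d 0 1 := by
      apply hom_ext_to T 1
      · simp only [Category.assoc, f_r, Category.comp_id]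
      · have : (x₃ ≫ aug T.I₃ ≫ ss T 0) ≫ T.I₂.cocomplex.d 0 1 ≫ T.g.f 1 = 0 := by
          rw [d_g, ← Category.assoc, hy, Category.assoc, aug_d, comp_zero]
        simp only [Category.assoc, f_g, comp_zero]
        simpa only [Category.assoc] using this.symm
    have hwd : ((x₃ ≫ aug T.I₃ ≫ ss T 0) ≫ T.I₂.cocomplex.d 0 1 ≫ sr T 1) ≫
        T.I₁.cocomplex.d 1 2 = 0 := by
      rw [← cancel_mono (T.f.f 2), zero_comp, Category.assoc, ← f_d T 1, ← Category.assoc, hw,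
        Category.assoc, HomologicalComplex.d_comp_d, comp_zero]
    obtain ⟨A', π, hπ, v, hv⟩ := (T.I₁.exact_succ 0).exact_up_to_refinements _ hwd
    -- y' := π ≫ y - v ≫ f⁰
    have hy' : (π ≫ (x₃ ≫ aug T.I₃ ≫ ss T 0) - v ≫ T.f.f 0) ≫ T.I₂.cocomplex.d 0 1 = 0 := by
      have hv' : π ≫ (x₃ ≫ aug T.I₃ ≫ ss T 0) ≫ T.I₂.cocomplex.d 0 1 ≫ sr T 1 =
          v ≫ T.I₁.cocomplex.d 0 1 := hv
      have hw' := hw
      simp only [Category.assoc] at hw' hv'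
      have e1 : π ≫ x₃ ≫ aug T.I₃ ≫ ss T 0 ≫ T.I₂.cocomplex.d 0 1 =
          v ≫ T.f.f 0 ≫ T.I₂.cocomplex.d 0 1 := by
        rw [← hw', reassoc_of% hv', f_d]
      simp only [Preadditive.sub_comp, Category.assoc, e1, sub_self]
    obtain ⟨A'', π', hπ', u, hu⟩ := (aug_exact T.I₂).exact_up_to_refinements _ hy'
    refine ⟨A'', π' ≫ π, epi_comp _ _, u, ?_⟩
    have hu' : π' ≫ (π ≫ (x₃ ≫ aug T.I₃ ≫ ss T 0) - v ≫ T.f.f 0) = u ≫ aug T.I₂ := hu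
    have key : ((π' ≫ π) ≫ x₃) ≫ aug T.I₃ = (u ≫ S.g) ≫ aug T.I₃ := by
      calc ((π' ≫ π) ≫ x₃) ≫ aug T.I₃
          = (π' ≫ (π ≫ (x₃ ≫ aug T.I₃ ≫ ss T 0) - v ≫ T.f.f 0)) ≫ T.g.f 0 := by
            simp only [Preadditive.sub_comp, Preadditive.comp_sub, Category.assoc, f_g, comp_zero,
              sub_zero, s_g, Category.comp_id]
        _ = (u ≫ aug T.I₂) ≫ T.g.f 0 := by rw [hu']
        _ = (u ≫ S.g) ≫ aug T.I₃ := by rw [Category.assoc, aug_g, Category.assoc]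
    exact (cancel_mono _).1 key
  exact ShortComplex.ShortExact.mk' hex hf hg

end ShortExact

end H10SES
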