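import Groth.Agent.Lib.Helper28.EffDesc.RepFppf

/-!
# Helper library (helper10): a sheaf whose pullback along an fppf cover is a scheme separated and locally
quasi-finite over the cover is representable (wrapper around helper28's effective descent).
-/

set_option autoImplicit false
set_option maxHeartbeats 400000
set_option backward.isDefEq.respectTransparency false
set_option backward.isDefEq.respectTransparency.types false
universe u
open CategoryTheory CategoryTheory.Limits AlgebraicGeometry Opposite

namespace H10PT.SS

open AlgSp Groth.Agent.Lib.Helper15 Groth.Agent.Lib.Helper16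
open Desc Groth.Agent.Lib.Helper28.SheafDesc Groth.Agent.Lib.Helper28.EffDesc

variable {S : Scheme.{u}}

theorem exists_rep_of_fppf_pullback {T U V : Over S} (π : U ⟶ T) (av : V ⟶ U) {P : Sp S}
    (pT : P ⟶ (yon S).obj T) (fP : (yon S).obj V ⟶ P)
    (sq : IsPullback fP ((yon S).map av) pT ((yon S).map π))
    (i1 : Flat π.left) (i2 : Surjective π.left) (i3 : LocallyOfFinitePresentation π.left)
    (hs : IsSeparated av.left) (hq : LocallyQuasiFinite av.left) (ht : LocallyOfFiniteType av.left) :
    ∃ (W : Over S) (w : W ⟶ T) (q : V ⟶ W) (κ : (yon S).obj W ≅ P),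
      κ.hom ≫ pT = (yon S).map w ∧ (yon S).map q ≫ κ.hom = fP ∧ IsPullback av q π w := by
  haveI : Flat π.left := i1
  haveI : LocallyOfFinitePresentation π.left := i3
  haveI : Surjective π.left := i2
  haveI : IsSeparated (sheafDD π av pT fP sq).obj.hom := hs
  haveI : LocallyQuasiFinite (sheafDD π av pT fP sq).obj.hom := hq
  haveI : LocallyOfFiniteType (sheafDD π av pT fP sq).obj.hom := ht
  obtain ⟨W₀, ⟨e⟩⟩ := schDD_effective_of_sep_lqf_fppf (sheafDD π av pT fP sq)
  exact exists_rep_of_effective π av pT fP sq W₀ e

end H10PT.SS
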