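import Mathlib
import Groth.Agent.Lib.Helper28.TakCancel

/-!
# Helper library (helper10): flatness is local on the source for flat surjective morphisms

(Same statement as S1128, proved from helper28's `TakCancel` to keep the import closure compatible.)
-/

set_option autoImplicit false
universe u
open CategoryTheory CategoryTheory.Limits AlgebraicGeometry

namespace H10PT.SS

theorem flat_of_comp_surj {X' X Y : Scheme.{u}} (f : X' ⟶ X) (g : X ⟶ Y) [Flat f]
    [Surjective f] [Flat (f ≫ g)] : Flat g := by
  rw [Flat.iff_flat_stalkMap]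
  intro x
  obtain ⟨x', rfl⟩ := (inferInstance : Surjective f).surj x
  have hcomp : ((f ≫ g).stalkMap x').hom.Flat := Flat.stalkMap (f ≫ g) x'
  have hf : (f.stalkMap x').hom.FaithfullyFlat := by
    have h1 : (f.stalkMap x').hom.Flat := Flat.stalkMap f x'
    algebraize [(f.stalkMap x').hom]
    have : Module.FaithfullyFlat (X.presheaf.stalk (f x')) (X'.presheaf.stalk x') :=
      @Module.FaithfullyFlat.of_flat_of_isLocalHom _ _ _ _ _ _ _
        (Flat.stalkMap f x') (f.toLRSHom.prop x')
    exact ‹RingHom.FaithfullyFlat _›
  rw [Scheme.Hom.stalkMap_comp] at hcomp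
  exact RingHom.Flat.of_comp_of_faithfullyFlat (f := (g.stalkMap (f x')).hom)
    (g := (f.stalkMap x').hom) hcomp hf

end H10PT.SS
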