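import Groth.Agent.Lib.Helper10.BS5
import Groth.Agent.Lib.Helper15.EpiRefines
import Groth.Agent.Lib.Helper15.ToposQuot
import Groth.Agent.Lib.Helper16.QuotOpen
import Groth.Agent.Lib.Helper16.Rep
import Groth.Agent.Lib.Helper16.Misc2
import Groth.Agent.Lib.Helper17.AlgSpEpi
import Groth.Agent.Lib.Helper28.EffDesc.RepFppf
import Groth.Agent.Lib.Helper10.FSC.FppfSource
import Groth.Agent.Lib.Helper10.DescA
import Groth.Agent.Lib.Helper10.SrcFlat
import Groth.Agent.S10235

/-!
# Helper library (helper10): fppf bootstrap, sheaf side, part 1 (generalities)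
-/

set_option autoImplicit false
universe u
open CategoryTheory CategoryTheory.Limits AlgebraicGeometry Opposite

namespace H10PT.SS

open AlgSp H10PT.BS Groth.Agent.Lib.Helper15 Groth.Agent.Lib.Helper16

variable {S : Scheme.{u}}

/-- descent of maps along an epi from a representable, checked on `T`-points -/
theorem exists_desc_yon {M : Over S} {B C : Sp S} (q : (yon S).obj M ⟶ B) [Epi q]
    (φ : (yon S).obj M ⟶ C)
    (hφ : ∀ (T : Over S) (x y : T ⟶ M), (yon S).map x ≫ q = (yon S).map y ≫ q →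
      (yon S).map x ≫ φ = (yon S).map y ≫ φ) : ∃ ψ : B ⟶ C, q ≫ ψ = φ := by
  haveI : IsRegularEpi q := IsRegularEpiCategory.regularEpiOfEpi q
  haveI : EffectiveEpi q := inferInstance
  refine ⟨EffectiveEpi.desc q φ (fun {Z} g₁ g₂ h12 => ?_), EffectiveEpi.fac _ _ _⟩
  apply sp_hom_ext'
  intro T z
  obtain ⟨x, hx⟩ := (yon S).map_surjective (z ≫ g₁)
  obtain ⟨y, hy⟩ := (yon S).map_surjective (z ≫ g₂)
  rw [← Category.assoc, ← Category.assoc, ← hx, ← hy]
  apply hφ
  rw [hx, hy, Category.assoc, Category.assoc, h12]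

theorem exists_iso_of_epis {M : Over S} {B B' : Sp S} (a : (yon S).obj M ⟶ B)
    (a' : (yon S).obj M ⟶ B') [Epi a] [Epi a']
    (h : ∀ (T : Over S) (x y : T ⟶ M), (yon S).map x ≫ a = (yon S).map y ≫ a ↔
      (yon S).map x ≫ a' = (yon S).map y ≫ a') : ∃ e : B ≅ B', a ≫ e.hom = a' := by
  obtain ⟨ψ, hψ⟩ := exists_desc_yon a a' (fun T x y hxy => (h T x y).1 hxy)
  obtain ⟨ψ', hψ'⟩ := exists_desc_yon a' a (fun T x y hxy => (h T x y).2 hxy)
  refine ⟨⟨ψ, ψ', ?_, ?_⟩, hψ⟩
  · rw [← cancel_epi a, ← Category.assoc, hψ, hψ', Category.comp_id]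
  · rw [← cancel_epi a', ← Category.assoc, hψ', hψ, Category.comp_id]

theorem rel_iff_of_isPullback {F : Sp S} {R U : Over S} (s t : R ⟶ U) (p : (yon S).obj U ⟶ F)
    (sq : IsPullback ((yon S).map t) ((yon S).map s) p p) {T : Over S} (x y : T ⟶ U) :
    (yon S).map x ≫ p = (yon S).map y ≫ p ↔ ∃ r : T ⟶ R, r ≫ t = x ∧ r ≫ s = y := by
  constructor
  · intro h
    obtain ⟨r, hr⟩ := (yon S).map_surjective (sq.lift _ _ h)
    refine ⟨r, (yon S).map_injective ?_, (yon S).map_injective ?_⟩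
    · rw [Functor.map_comp, hr, sq.lift_fst]
    · rw [Functor.map_comp, hr, sq.lift_snd]
  · rintro ⟨r, rfl, rfl⟩
    rw [Functor.map_comp, Functor.map_comp, Category.assoc, Category.assoc, sq.w]

theorem isEqvRel_of_isPullback {F : Sp S} {R U : Over S} (s t : R ⟶ U) (p : (yon S).obj U ⟶ F)
    (sq : IsPullback ((yon S).map t) ((yon S).map s) p p) : IsEqvRel s t where
  injective T r r' h1 h2 := by
    apply (yon S).map_injective
    apply sq.hom_ext
    · rw [← Functor.map_comp, ← Functor.map_comp, h1]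
    · rw [← Functor.map_comp, ← Functor.map_comp, h2]
  equivalence T := by
    have key : ∀ a b : T ⟶ U, (∃ r : T ⟶ R, r ≫ t = a ∧ r ≫ s = b) ↔
        (yon S).map a ≫ p = (yon S).map b ≫ p :=
      fun a b => (rel_iff_of_isPullback s t p sq a b).symm
    exact ⟨fun a => (key a a).2 rfl, fun {a b} hab => (key b a).2 ((key a b).1 hab).symm,
      fun {a b c} hab hbc => (key a c).2 (((key a b).1 hab).trans ((key b c).1 hbc))⟩

theorem yon_prod_hom_ext {Q : Sp S} {A B : Over S} (l l' : Q ⟶ (yon S).obj (A ⨯ B))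
    (h1 : l ≫ (yon S).map prod.fst = l' ≫ (yon S).map prod.fst)
    (h2 : l ≫ (yon S).map prod.snd = l' ≫ (yon S).map prod.snd) : l = l' := by
  rw [← cancel_mono (prodComparison (yon S) A B)]
  apply Limits.prod.hom_ext
  · simpa only [Category.assoc, prodComparison_fst] using h1
  · simpa only [Category.assoc, prodComparison_snd] using h2

theorem exists_yon_prod_lift {Q : Sp S} {A B : Over S} (a : Q ⟶ (yon S).obj A)
    (b : Q ⟶ (yon S).obj B) : ∃ l : Q ⟶ (yon S).obj (A ⨯ B),
      l ≫ (yon S).map prod.fst = a ∧ l ≫ (yon S).map prod.snd = b := by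
  refine ⟨prod.lift a b ≫ inv (prodComparison (yon S) A B), ?_, ?_⟩
  · rw [Category.assoc, ← prodComparison_fst, IsIso.inv_hom_id_assoc, prod.lift_fst]
  · rw [Category.assoc, ← prodComparison_snd, IsIso.inv_hom_id_assoc, prod.lift_snd]

/-- a property stable under base change and composition passes to `m × m` -/
theorem prop_prod_map (P : MorphismProperty Scheme.{u}) [P.IsStableUnderBaseChange]
    [P.IsStableUnderComposition] {A B : Over S} (m : A ⟶ B) (hm : P m.left) :
    P (prod.map m m).left := by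
  have h1 : P (prod.map m (𝟙 A)).left :=
    MorphismProperty.of_isPullback (P := P) ((isPullback_prod_map_fst m A).map (Over.forget S)) hm
  have h2 : P (prod.map (𝟙 B) m).left :=
    MorphismProperty.of_isPullback (P := P) ((isPullback_prod_map_snd m B).map (Over.forget S)) hm
  have e : prod.map m m = prod.map m (𝟙 A) ≫ prod.map (𝟙 B) m := by
    rw [prod.map_map, Category.comp_id, Category.id_comp]
  rw [e, Over.comp_left]
  exact P.comp_mem _ _ h1 h2

/-- plain equivalence relation from one over `S` -/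
theorem ER_of_isEqvRel {R U : Over S} {s t : R ⟶ U} (h : IsEqvRel s t) : ER s.left t.left where
  inj r r' h1 h2 := Groth.Agent.Lib.Helper14.EqvSlice.ext_left h r r' h1 h2
  refl a := by
    obtain ⟨r, hr1, hr2⟩ := (h.equivalence (Over.mk (a ≫ U.hom))).refl (Over.homMk a rfl)
    exact ⟨r.left, congrArg (·.left) hr1, congrArg (·.left) hr2⟩
  symm r := by
    obtain ⟨r', h1, h2⟩ := (h.equivalence (Over.mk (r ≫ R.hom))).symm
      ⟨Over.homMk r rfl, rfl, rfl⟩
    exact ⟨r'.left, congrArg (·.left) h1, congrArg (·.left) h2⟩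
  trans r₁ r₂ h12 := by
    have hr₂ : r₂ ≫ R.hom = r₁ ≫ R.hom := by
      calc r₂ ≫ R.hom = r₂ ≫ t.left ≫ U.hom := by rw [Over.w t]
        _ = r₁ ≫ s.left ≫ U.hom := by rw [← Category.assoc, ← h12, Category.assoc]
        _ = r₁ ≫ R.hom := by rw [Over.w s]
    obtain ⟨r, h1, h2⟩ := (h.equivalence (Over.mk (r₁ ≫ R.hom))).trans
      (x := Over.homMk r₁ rfl ≫ t) (y := Over.homMk r₁ rfl ≫ s) (z := Over.homMk r₂ hr₂ ≫ s)
      ⟨Over.homMk r₁ rfl, rfl, rfl⟩ ⟨Over.homMk r₂ hr₂, Over.OverMorphism.ext h12.symm, rfl⟩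
    exact ⟨r.left, congrArg (·.left) h1, congrArg (·.left) h2⟩

/-- an equivalence relation over `S` from a plain one -/
theorem isEqvRel_of_ER {X₀ R₀ : Scheme.{u}} {s₀ t₀ : R₀ ⟶ X₀} (h : ER s₀ t₀) (pX : X₀ ⟶ S)
    (w : s₀ ≫ pX = t₀ ≫ pX) :
    IsEqvRel (Over.homMk s₀ w : Over.mk (t₀ ≫ pX) ⟶ Over.mk pX)
      (Over.homMk t₀ rfl : Over.mk (t₀ ≫ pX) ⟶ Over.mk pX) where
  injective T r r' h1 h2 := by
    apply Over.OverMorphism.ext
    exact h.inj r.left r'.left (congrArg (·.left) h1) (congrArg (·.left) h2)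
  equivalence T := by
    refine ⟨fun a => ?_, fun {a b} hab => ?_, fun {a b c} hab hbc => ?_⟩
    · obtain ⟨r, h1, h2⟩ := h.refl a.left
      refine ⟨Over.homMk r ?_, Over.OverMorphism.ext h1, Over.OverMorphism.ext h2⟩
      show r ≫ t₀ ≫ pX = T.hom
      rw [← Category.assoc, h1]; exact Over.w a
    · obtain ⟨r, rfl, rfl⟩ := hab
      obtain ⟨r', h1, h2⟩ := h.symm r.left
      refine ⟨Over.homMk r' ?_, Over.OverMorphism.ext h1, Over.OverMorphism.ext h2⟩
      show r' ≫ t₀ ≫ pX = T.hom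
      rw [← Category.assoc, h1, Category.assoc, w]; exact Over.w r
    · obtain ⟨r₁, rfl, rfl⟩ := hab
      obtain ⟨r₂, h21, rfl⟩ := hbc
      obtain ⟨r, h1, h2⟩ := h.trans r₁.left r₂.left (congrArg (·.left) h21).symm
      refine ⟨Over.homMk r ?_, Over.OverMorphism.ext h1, Over.OverMorphism.ext h2⟩
      show r ≫ t₀ ≫ pX = T.hom
      rw [← Category.assoc, h1]; exact Over.w r₁

/-- the quotient map of a representable quotient is an epimorphism of sheaves -/
theorem epi_yon_of_isQuotient {R U M : Over S} (s t : R ⟶ U) (q : U ⟶ M)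
    (hQ : QuotSh.IsQuotient Scheme.fppfPrecoverage s t q) : Epi ((yon S).map q) := by
  obtain ⟨w, hiso⟩ := hQ
  have e1 : QuotSh.quotπ Scheme.fppfPrecoverage s t ≫ QuotSh.quotDesc Scheme.fppfPrecoverage q w =
      QuotSh.repMap Scheme.fppfPrecoverage q := coequalizer.π_desc _ _
  have e2 := QuotOpen.repIso_naturality q
  have e3 : (yon S).map q = (QuotSh.repIsoUliftYoneda Scheme.fppfPrecoverage U).inv ≫
      (QuotSh.quotπ Scheme.fppfPrecoverage s t ≫ QuotSh.quotDesc Scheme.fppfPrecoverage q w) ≫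
      (QuotSh.repIsoUliftYoneda Scheme.fppfPrecoverage M).hom := by
    rw [e1, e2, Iso.inv_hom_id_assoc]
  haveI : Epi (QuotSh.quotπ Scheme.fppfPrecoverage s t) := by
    have := epi_of_isColimit_cofork (coequalizerIsCoequalizer
      (QuotSh.repMap Scheme.fppfPrecoverage s) (QuotSh.repMap Scheme.fppfPrecoverage t))
    exact this
  rw [e3]
  infer_instance

theorem surjective_of_epi_yon {A B : Over S} (q : A ⟶ B) [Epi ((yon S).map q)] :
    Surjective q.left :=
  (repWith_yon_map_iff @Surjective q).1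
    ((repWith_surjective_iff _ (representable_yon_map q)).2
      (Groth.Agent.Lib.Helper17.isSurjectiveMor_of_epi ((yon S).map q)))

end H10PT.SS
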