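import Groth.Agent.Lib.Helper10.SS1
import Groth.Agent.Lib.Helper10.SS0

/-!
# Helper library (helper10): fppf bootstrap, sheaf side, part 2 (Theorem B)

If the equivalence relation `R₁` on an affine scheme `X₀` contains an open sub-equivalence relation
`P₀` which is finite locally free over `X₀`, then `X₀/R₁` is an algebraic space.
-/

set_option autoImplicit false
universe u
open CategoryTheory CategoryTheory.Limits AlgebraicGeometry Opposite

namespace H10PT.SS

open AlgSp H10PT.BS Groth.Agent.Lib.Helper15 Groth.Agent.Lib.Helper16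
open Desc Groth.Agent.Lib.Helper28.SheafDesc Groth.Agent.Lib.Helper28.EffDesc

variable {S : Scheme.{u}}

theorem epi_quotπ {R U : Over S} (s t : R ⟶ U) : Epi (QuotSh.quotπ Scheme.fppfPrecoverage s t) := by
  have := epi_of_isColimit_cofork (coequalizerIsCoequalizer
    (QuotSh.repMap Scheme.fppfPrecoverage s) (QuotSh.repMap Scheme.fppfPrecoverage t))
  exact this

section KerSq

variable {Xo Ro M : Over S} (s₁ t₁ : Ro ⟶ Xo) (m : Xo ⟶ M) {F : Sp S}
  (π : (yon S).obj Xo ⟶ F) (μ : (yon S).obj M ⟶ F) (hπ : (yon S).map m ≫ μ = π)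
  (hRπ : IsPullback ((yon S).map t₁) ((yon S).map s₁) π π)

include hπ hRπ in
theorem exists_kerSq : ∃ (fP : (yon S).obj Ro ⟶ pullback μ μ)
    (pT : pullback μ μ ⟶ (yon S).obj (M ⨯ M)),
    fP ≫ pullback.fst μ μ = (yon S).map (t₁ ≫ m) ∧ fP ≫ pullback.snd μ μ = (yon S).map (s₁ ≫ m) ∧
    pT ≫ (yon S).map prod.fst = pullback.fst μ μ ∧ pT ≫ (yon S).map prod.snd = pullback.snd μ μ ∧
    IsPullback fP ((yon S).map (prod.lift t₁ s₁)) pT ((yon S).map (prod.map m m)) := by
  have hw : (yon S).map (t₁ ≫ m) ≫ μ = (yon S).map (s₁ ≫ m) ≫ μ := by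
    rw [Functor.map_comp, Functor.map_comp, Category.assoc, Category.assoc, hπ, hRπ.w]
  obtain ⟨pT, hpT1, hpT2⟩ := exists_yon_prod_lift (pullback.fst μ μ) (pullback.snd μ μ)
  obtain ⟨fP, hf1, hf2⟩ : ∃ fP : (yon S).obj Ro ⟶ pullback μ μ,
      fP ≫ pullback.fst μ μ = (yon S).map (t₁ ≫ m) ∧ fP ≫ pullback.snd μ μ = (yon S).map (s₁ ≫ m) :=
    ⟨pullback.lift _ _ hw, pullback.lift_fst _ _ _, pullback.lift_snd _ _ _⟩
  refine ⟨fP, pT, hf1, hf2, hpT1, hpT2, ?_⟩
  have hav1 : (yon S).map (prod.lift t₁ s₁) ≫ (yon S).map prod.fst = (yon S).map t₁ := by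
    rw [← Functor.map_comp, prod.lift_fst]
  have hav2 : (yon S).map (prod.lift t₁ s₁) ≫ (yon S).map prod.snd = (yon S).map s₁ := by
    rw [← Functor.map_comp, prod.lift_snd]
  have hmm1 : (yon S).map (prod.map m m) ≫ (yon S).map prod.fst =
      (yon S).map prod.fst ≫ (yon S).map m := by
    rw [← Functor.map_comp, ← Functor.map_comp, prod.map_fst]
  have hmm2 : (yon S).map (prod.map m m) ≫ (yon S).map prod.snd =
      (yon S).map prod.snd ≫ (yon S).map m := by
    rw [← Functor.map_comp, ← Functor.map_comp, prod.map_snd]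
  refine isPullback_of_lift ?_ ?_ ?_
  · apply yon_prod_hom_ext
    · rw [Category.assoc, hpT1, hf1, Category.assoc, hmm1, ← Category.assoc, hav1, ← Functor.map_comp]
    · rw [Category.assoc, hpT2, hf2, Category.assoc, hmm2, ← Category.assoc, hav2, ← Functor.map_comp]
  · intro Q a b hab
    have k1 : (b ≫ (yon S).map prod.fst) ≫ (yon S).map m = a ≫ pullback.fst μ μ := by
      have := congrArg (· ≫ (yon S).map prod.fst) hab
      simp only [Category.assoc, hpT1, hmm1] at this
      rw [Category.assoc]; exact this.symm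
    have k2 : (b ≫ (yon S).map prod.snd) ≫ (yon S).map m = a ≫ pullback.snd μ μ := by
      have := congrArg (· ≫ (yon S).map prod.snd) hab
      simp only [Category.assoc, hpT2, hmm2] at this
      rw [Category.assoc]; exact this.symm
    have hb : (b ≫ (yon S).map prod.fst) ≫ π = (b ≫ (yon S).map prod.snd) ≫ π := by
      rw [← hπ, ← Category.assoc, k1, ← Category.assoc, k2, Category.assoc, Category.assoc,
        pullback.condition]
    refine ⟨hRπ.lift _ _ hb, ?_, ?_⟩
    · apply pullback.hom_ext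
      · rw [Category.assoc, hf1, Functor.map_comp, ← Category.assoc, hRπ.lift_fst, k1]
      · rw [Category.assoc, hf2, Functor.map_comp, ← Category.assoc, hRπ.lift_snd, k2]
    · apply yon_prod_hom_ext
      · rw [Category.assoc, hav1, hRπ.lift_fst]
      · rw [Category.assoc, hav2, hRπ.lift_snd]
  · intro Q l l' _ h2
    apply hRπ.hom_ext
    · have := congrArg (· ≫ (yon S).map prod.fst) h2
      simpa only [Category.assoc, hav1] using this
    · have := congrArg (· ≫ (yon S).map prod.snd) h2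
      simpa only [Category.assoc, hav2] using this

end KerSq

section Kernel

variable {M N : Over S} (n₁ n₂ : N ⟶ M) {F : Sp S} (μ : (yon S).obj M ⟶ F)
  (hN : IsPullback ((yon S).map n₁) ((yon S).map n₂) μ μ)

include hN in
theorem N_ext {T : Over S} (a b : T ⟶ N) (h1 : a ≫ n₁ = b ≫ n₁) (h2 : a ≫ n₂ = b ≫ n₂) : a = b := by
  apply (yon S).map_injective
  apply hN.hom_ext
  · rw [← Functor.map_comp, ← Functor.map_comp, h1]
  · rw [← Functor.map_comp, ← Functor.map_comp, h2]

include hN in
theorem N_ext_left {T : Scheme.{u}} (a b : T ⟶ N.left) (h1 : a ≫ n₁.left = b ≫ n₁.left)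
    (h2 : a ≫ n₂.left = b ≫ n₂.left) : a = b := by
  have hb : b ≫ N.hom = a ≫ N.hom := by
    calc b ≫ N.hom = (b ≫ n₁.left) ≫ M.hom := by rw [Category.assoc, Over.w n₁]
      _ = (a ≫ n₁.left) ≫ M.hom := by rw [h1]
      _ = a ≫ N.hom := by rw [Category.assoc, Over.w n₁]
  have := N_ext n₁ n₂ μ hN (T := Over.mk (a ≫ N.hom)) (Over.homMk a rfl) (Over.homMk b hb)
    (Over.OverMorphism.ext h1) (Over.OverMorphism.ext h2)
  exact congrArg (·.left) this

include hN in
theorem N_lift {T : Over S} (a b : T ⟶ M) (hab : (yon S).map a ≫ μ = (yon S).map b ≫ μ) :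
    ∃ c : T ⟶ N, c ≫ n₁ = a ∧ c ≫ n₂ = b := by
  obtain ⟨c, hc⟩ := (yon S).map_surjective (hN.lift _ _ hab)
  exact ⟨c, (yon S).map_injective (by rw [Functor.map_comp, hc, hN.lift_fst]),
    (yon S).map_injective (by rw [Functor.map_comp, hc, hN.lift_snd])⟩

include hN in
theorem etale_of_kernel (δ : M ⟶ N) (hδ1 : δ ≫ n₁ = 𝟙 M) (hδ2 : δ ≫ n₂ = 𝟙 M)
    [IsOpenImmersion δ.left] [Flat n₁.left] [LocallyOfFinitePresentation n₁.left] :
    Etale n₁.left := by
  obtain ⟨θ, hθ1, hθ2⟩ := N_lift n₁ n₂ μ hN (pullback.fst n₁ n₁ ≫ n₂) (pullback.snd n₁ n₁ ≫ n₂) (by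
    rw [Functor.map_comp, Functor.map_comp, Category.assoc, Category.assoc, ← hN.w,
      ← Category.assoc, ← Category.assoc, ← Functor.map_comp, ← Functor.map_comp, pullback.condition])
  have sq : IsPullback (pullback.diagonal n₁) n₂ θ δ := by
    refine isPullback_of_lift ?_ ?_ ?_
    · apply N_ext n₁ n₂ μ hN
      · rw [Category.assoc, hθ1, pullback.diagonal_fst_assoc, Category.assoc, hδ1, Category.comp_id]
      · rw [Category.assoc, hθ2, pullback.diagonal_snd_assoc, Category.assoc, hδ2, Category.comp_id]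
    · intro T c a hca
      have e1 : (c ≫ pullback.fst n₁ n₁) ≫ n₂ = a := by
        have := congrArg (· ≫ n₁) hca
        simp only [Category.assoc, hθ1, hδ1, Category.comp_id] at this
        rw [Category.assoc]; exact this
      have e2 : (c ≫ pullback.snd n₁ n₁) ≫ n₂ = a := by
        have := congrArg (· ≫ n₂) hca
        simp only [Category.assoc, hθ2, hδ2, Category.comp_id] at this
        rw [Category.assoc]; exact this
      refine ⟨c ≫ pullback.fst n₁ n₁, ?_, e1⟩
      apply pullback.hom_ext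
      · rw [Category.assoc, pullback.diagonal_fst, Category.comp_id]
      · rw [Category.assoc, pullback.diagonal_snd, Category.comp_id]
        apply N_ext n₁ n₂ μ hN
        · rw [Category.assoc, Category.assoc, pullback.condition]
        · rw [e1, e2]
    · intro T l l' h1 _
      have := congrArg (· ≫ pullback.fst n₁ n₁) h1
      simpa only [Category.assoc, pullback.diagonal_fst, Category.comp_id] using this
  have sqL : IsPullback (pullback.diagonal n₁).left n₂.left θ.left δ.left := sq.map (Over.forget S)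
  haveI hΔ : IsOpenImmersion (pullback.diagonal n₁).left :=
    MorphismProperty.of_isPullback (P := @IsOpenImmersion) sqL.flip inferInstance
  have sqK : IsPullback (pullback.fst n₁ n₁).left (pullback.snd n₁ n₁).left n₁.left n₁.left :=
    (IsPullback.of_hasPullback n₁ n₁).map (Over.forget S)
  have e : (pullback.diagonal n₁).left ≫ sqK.isoPullback.hom = pullback.diagonal n₁.left := by
    apply pullback.hom_ext
    · rw [Category.assoc, sqK.isoPullback_hom_fst, pullback.diagonal_fst, ← Over.comp_left,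
        pullback.diagonal_fst]
      rfl
    · rw [Category.assoc, sqK.isoPullback_hom_snd, pullback.diagonal_snd, ← Over.comp_left,
        pullback.diagonal_snd]
      rfl
  haveI : IsOpenImmersion (pullback.diagonal n₁.left) := by rw [← e]; infer_instance
  haveI : FormallyUnramified n₁.left := inferInstance
  exact Etale.of_formallyUnramified_of_flat _

end Kernel

section TheoremB

variable {Xo Ro : Over S} (s₁ t₁ : Ro ⟶ Xo) {P₀ : Scheme.{u}} (ι : P₀ ⟶ Ro.left)

set_option maxHeartbeats 3200000 in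
theorem theoremB (hR : IsEqvRel s₁ t₁) (hP : ER (ι ≫ s₁.left) (ι ≫ t₁.left)) [IsAffine Xo.left]
    [IsOpenImmersion ι] [Flat s₁.left] [LocallyOfFinitePresentation s₁.left] [Flat t₁.left]
    [LocallyOfFinitePresentation t₁.left] [IsFinite (ι ≫ s₁.left)] [IsFinite (ι ≫ t₁.left)] :
    IsAlgSpace (quotSp ((yon S).map s₁) ((yon S).map t₁)) := by
  have wP : (ι ≫ s₁.left) ≫ Xo.hom = (ι ≫ t₁.left) ≫ Xo.hom := by
    rw [Category.assoc, Category.assoc, Over.w s₁, Over.w t₁]
  obtain ⟨D⟩ := hP.nonempty_eqvData Xo.hom wP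
  obtain ⟨M, m, hmfin, hmflat, hmlfp, hPm, hepi⟩ : ∃ (M : Over S) (m : Xo ⟶ M), IsFinite m.left ∧
      Flat m.left ∧ LocallyOfFinitePresentation m.left ∧
      IsPullback (ι ≫ t₁.left) (ι ≫ s₁.left) m.left m.left ∧ Epi ((yon S).map m) := by
    obtain ⟨M, m₀, ⟨h1, h2, h3⟩, h4, h5⟩ := Groth.Agent.S10235.result D.toGrpd
      ⟨inferInstance, inferInstance, inferInstance⟩ ⟨inferInstance, inferInstance, inferInstance⟩
      (isEqvRel_of_ER hP Xo.hom wP) (fun Z _ hZ => by
        obtain ⟨u, hu⟩ := hZ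
        exact ⟨u, hu, ⊤, isAffineOpen_top Xo.left, fun _ _ => trivial⟩)
    exact ⟨M, m₀, h1, h2, h3, h4, epi_yon_of_isQuotient _ _ m₀ h5⟩
  haveI := hepi
  haveI := hmflat
  haveI := hmlfp
  haveI hmsurj : Surjective m.left := surjective_of_epi_yon m
  have hRsp := Groth.Agent.S9868.isEqvRelSp_yon s₁ t₁ hR
  have hRπ := isPullback_quotSpπ hRsp
  obtain ⟨π, hπdef⟩ : ∃ π : (yon S).obj Xo ⟶ quotSp ((yon S).map s₁) ((yon S).map t₁),
      π = quotSpπ ((yon S).map s₁) ((yon S).map t₁) := ⟨_, rfl⟩
  rw [← hπdef] at hRπ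
  haveI : Epi π := by rw [hπdef]; infer_instance
  have hcond : (yon S).map s₁ ≫ π = (yon S).map t₁ ≫ π := by
    rw [hπdef]; exact quotSp_condition _ _
  -- the map from `M`
  obtain ⟨μ, hμ⟩ := exists_desc_yon ((yon S).map m) π (by
    intro T x y hxy
    have hxy' : x ≫ m = y ≫ m :=
      (yon S).map_injective (by rw [Functor.map_comp, Functor.map_comp]; exact hxy)
    have hl : x.left ≫ m.left = y.left ≫ m.left := congrArg (·.left) hxy'
    obtain ⟨r, hr1, hr2⟩ : ∃ r : T ⟶ Ro, r ≫ t₁ = x ∧ r ≫ s₁ = y := by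
      refine ⟨Over.homMk (hPm.lift x.left y.left hl ≫ ι) ?_, Over.OverMorphism.ext ?_,
        Over.OverMorphism.ext ?_⟩
      · calc (hPm.lift x.left y.left hl ≫ ι) ≫ Ro.hom
            = (hPm.lift x.left y.left hl ≫ ι ≫ t₁.left) ≫ Xo.hom := by
              rw [← Over.w t₁]; simp only [Category.assoc]
          _ = x.left ≫ Xo.hom := by rw [hPm.lift_fst]
          _ = T.hom := Over.w x
      · show (hPm.lift _ _ hl ≫ ι) ≫ t₁.left = x.left
        rw [Category.assoc, hPm.lift_fst]
      · show (hPm.lift _ _ hl ≫ ι) ≫ s₁.left = y.left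
        rw [Category.assoc, hPm.lift_snd]
    rw [← hr1, ← hr2, Functor.map_comp, Functor.map_comp, Category.assoc, Category.assoc, hcond])
  haveI hμepi : Epi μ := by
    haveI : Epi ((yon S).map m ≫ μ) := by rw [hμ]; infer_instance
    exact epi_of_epi ((yon S).map m) μ
  -- the kernel pair of `μ` is a scheme
  obtain ⟨fP, pT, hf1, hf2, hpT1, hpT2, sq⟩ := exists_kerSq s₁ t₁ m π μ hμ hRπ
  haveI : Mono (prod.lift t₁ s₁) := ⟨fun a b hab => hR.injective _ a b
    (by simpa only [Category.assoc, prod.lift_fst] using congrArg (· ≫ prod.fst) hab)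
    (by simpa only [Category.assoc, prod.lift_snd] using congrArg (· ≫ prod.snd) hab)⟩
  haveI : Mono (prod.lift t₁ s₁).left := inferInstance
  haveI : LocallyOfFiniteType (prod.lift t₁ s₁).left := by
    have e : (prod.lift t₁ s₁).left ≫ (prod.fst : Xo ⨯ Xo ⟶ Xo).left = t₁.left := by
      rw [← Over.comp_left, prod.lift_fst]
    haveI : LocallyOfFiniteType ((prod.lift t₁ s₁).left ≫ (prod.fst : Xo ⨯ Xo ⟶ Xo).left) := by
      rw [e]; infer_instance
    exact locallyOfFiniteType_of_comp (prod.lift t₁ s₁).left (prod.fst : Xo ⨯ Xo ⟶ Xo).left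
  haveI : Flat (prod.map m m).left := prop_prod_map @Flat m hmflat
  haveI : LocallyOfFinitePresentation (prod.map m m).left :=
    prop_prod_map @LocallyOfFinitePresentation m hmlfp
  haveI : Surjective (prod.map m m).left := prop_prod_map @Surjective m hmsurj
  obtain ⟨N, w, q, κ, hκ1, hκ2, sqO⟩ :=
    exists_rep_of_fppf_pullback (prod.map m m) (prod.lift t₁ s₁) pT fP sq inferInstance inferInstance
      inferInstance inferInstance inferInstance inferInstance
  obtain ⟨n₁, hn₁⟩ : ∃ n₁ : N ⟶ M, n₁ = w ≫ prod.fst := ⟨_, rfl⟩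
  obtain ⟨n₂, hn₂⟩ : ∃ n₂ : N ⟶ M, n₂ = w ≫ prod.snd := ⟨_, rfl⟩
  have hκn1 : κ.hom ≫ pullback.fst μ μ = (yon S).map n₁ := by
    rw [hn₁, Functor.map_comp, ← hκ1, Category.assoc, hpT1]
  have hκn2 : κ.hom ≫ pullback.snd μ μ = (yon S).map n₂ := by
    rw [hn₂, Functor.map_comp, ← hκ1, Category.assoc, hpT2]
  have hN : IsPullback ((yon S).map n₁) ((yon S).map n₂) μ μ :=
    IsPullback.of_iso_pullback ⟨by
      rw [← hκn1, ← hκn2, Category.assoc, Category.assoc, pullback.condition]⟩ κ hκn1 hκn2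
  have hq1 : q ≫ n₁ = t₁ ≫ m := by
    rw [hn₁, ← Category.assoc, ← sqO.w, Category.assoc, prod.map_fst, prod.lift_fst_assoc]
  have hq2 : q ≫ n₂ = s₁ ≫ m := by
    rw [hn₂, ← Category.assoc, ← sqO.w, Category.assoc, prod.map_snd, prod.lift_snd_assoc]
  have hq1L : q.left ≫ n₁.left = t₁.left ≫ m.left := congrArg (·.left) hq1
  have hq2L : q.left ≫ n₂.left = s₁.left ≫ m.left := congrArg (·.left) hq2
  -- `q` is an fppf cover
  have sqOL : IsPullback (prod.lift t₁ s₁).left q.left (prod.map m m).left w.left :=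
    sqO.map (Over.forget S)
  haveI hqflat : Flat q.left := MorphismProperty.of_isPullback (P := @Flat) sqOL inferInstance
  haveI hqlfp : LocallyOfFinitePresentation q.left :=
    MorphismProperty.of_isPullback (P := @LocallyOfFinitePresentation) sqOL inferInstance
  haveI hqsurj : Surjective q.left :=
    MorphismProperty.of_isPullback (P := @Surjective) sqOL inferInstance
  haveI : Flat n₁.left := by
    haveI : Flat (q.left ≫ n₁.left) := by rw [hq1L]; infer_instance
    exact flat_of_comp_surj q.left n₁.left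
  haveI : Flat n₂.left := by
    haveI : Flat (q.left ≫ n₂.left) := by rw [hq2L]; infer_instance
    exact flat_of_comp_surj q.left n₂.left
  haveI : LocallyOfFinitePresentation n₁.left := by
    haveI : LocallyOfFinitePresentation (q.left ≫ n₁.left) := by rw [hq1L]; infer_instance
    exact Groth.Agent.Lib.Helper10.FSC.FppfSource.lfp_of_comp q.left n₁.left
  haveI : LocallyOfFinitePresentation n₂.left := by
    haveI : LocallyOfFinitePresentation (q.left ≫ n₂.left) := by rw [hq2L]; infer_instance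
    exact Groth.Agent.Lib.Helper10.FSC.FppfSource.lfp_of_comp q.left n₂.left
  -- the identity section and its openness
  obtain ⟨δ, hδ1, hδ2⟩ := N_lift n₁ n₂ μ hN (𝟙 M) (𝟙 M) rfl
  have hδ1L : δ.left ≫ n₁.left = 𝟙 M.left := congrArg (·.left) hδ1
  have hδ2L : δ.left ≫ n₂.left = 𝟙 M.left := congrArg (·.left) hδ2
  have hRplain := ER_of_isEqvRel hR
  have sqδ : IsPullback ι (ι ≫ t₁.left ≫ m.left) q.left δ.left := by
    refine isPullback_of_lift ?_ ?_ ?_
    · apply N_ext_left n₁ n₂ μ hN
      · rw [Category.assoc, hq1L, Category.assoc, Category.assoc, Category.assoc, hδ1L,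
          Category.comp_id]
      · rw [Category.assoc, hq2L, Category.assoc, Category.assoc, Category.assoc, hδ2L,
          Category.comp_id]
        have := hPm.w
        simp only [Category.assoc] at this
        exact this.symm
    · intro T r a hra
      have e1 : (r ≫ t₁.left) ≫ m.left = a := by
        have := congrArg (· ≫ n₁.left) hra
        simp only [Category.assoc, hq1L, hδ1L, Category.comp_id] at this
        rw [Category.assoc]; exact this
      have e2 : (r ≫ s₁.left) ≫ m.left = a := by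
        have := congrArg (· ≫ n₂.left) hra
        simp only [Category.assoc, hq2L, hδ2L, Category.comp_id] at this
        rw [Category.assoc]; exact this
      have hp1 : hPm.lift (r ≫ t₁.left) (r ≫ s₁.left) (e1.trans e2.symm) ≫ ι ≫ t₁.left =
          r ≫ t₁.left := hPm.lift_fst _ _ _
      have hp2 : hPm.lift (r ≫ t₁.left) (r ≫ s₁.left) (e1.trans e2.symm) ≫ ι ≫ s₁.left =
          r ≫ s₁.left := hPm.lift_snd _ _ _
      refine ⟨hPm.lift (r ≫ t₁.left) (r ≫ s₁.left) (e1.trans e2.symm), ?_, ?_⟩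
      · apply hRplain.inj
        · rw [Category.assoc]; exact hp1
        · rw [Category.assoc]; exact hp2
      · have := congrArg (· ≫ m.left) hp1
        simp only [Category.assoc] at this
        rw [this, ← Category.assoc]; exact e1
    · intro T l l' h1 _
      exact (cancel_mono ι).1 h1
  haveI hδoi : IsOpenImmersion δ.left :=
    MorphismProperty.of_isPullback_of_descendsAlong (P := @IsOpenImmersion)
      (Q := (@Surjective ⊓ @Flat ⊓ @LocallyOfFinitePresentation : MorphismProperty Scheme.{u}))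
      sqδ ⟨⟨hqsurj, hqflat⟩, hqlfp⟩ inferInstance
  haveI hn₁e : Etale n₁.left := etale_of_kernel n₁ n₂ μ hN δ hδ1 hδ2
  haveI hn₂e : Etale n₂.left := etale_of_kernel n₂ n₁ μ hN.flip δ hδ2 hδ1
  have hEt : IsEtaleEqvRel n₂ n₁ :=
    { toIsEqvRel := isEqvRel_of_isPullback n₂ n₁ μ hN
      etale_left := hn₂e
      etale_right := hn₁e }
  have hQ := Groth.Agent.S9868.result S n₂ n₁ hEt
  have hPres := Groth.Agent.S9869.result S n₂ n₁ hEt hQ
  haveI : Epi ((QuotSh.repIsoUliftYoneda Scheme.fppfPrecoverage M).inv ≫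
      QuotSh.quotπ Scheme.fppfPrecoverage n₂ n₁) := by
    haveI := epi_quotπ n₂ n₁
    infer_instance
  obtain ⟨e, -⟩ := exists_iso_of_epis μ ((QuotSh.repIsoUliftYoneda Scheme.fppfPrecoverage M).inv ≫
      QuotSh.quotπ Scheme.fppfPrecoverage n₂ n₁) (fun T x y =>
    (rel_iff_of_isPullback n₂ n₁ μ hN x y).trans
      (rel_iff_of_isPullback n₂ n₁ _ hPres.isPullback x y).symm)
  exact hQ.of_iso e.symm

end TheoremB

end H10PT.SS
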