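import Mathlib
import Groth.Prelude.Def_AlgSt
import Groth.Prelude.Def_FibCat2
import Groth.Prelude.Def_W4c2modmodulilectNerve
import Groth.Agent.Lib.Helper10.Fib2
import Groth.Agent.Lib.Helper10.FibGrpd

/-!
# Restriction of sections of a category fibred in groupoids along a functor with
simply connected comma categories

For `φ : C ⥤ D` and `p : F ⥤ D` fibred in groupoids, restriction along `φ` from sections of `p`
to sections over the diagram `φ` is an equivalence as soon as (`Hyp`) every comma category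
`(Y/φ)` is non-empty and connected and every section `t` over `φ` admits, for each `Y`, a cone
`ρ j : s ⟶ t (j.right)` (`j ∈ (Y/φ)`) over the arrows `j.hom` (`isEquivalence_res`).

`hyp_of_structuredArrow`: the hypothesis holds when the comma categories have contractible nerve
(trivial fundamental groupoid); `hyp_of_fiber`: it holds when `φ` is a fibration whose fibres have
contractible nerve.
-/

set_option autoImplicit false
set_option linter.style.haveILetI false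
set_option backward.isDefEq.respectTransparency false
set_option backward.isDefEq.respectTransparency.types false

universe w v₁ v₂ v₃ u₁ u₂ u₃

open CategoryTheory Functor

namespace Groth.Agent.Lib.Helper10.SecRestr

open Groth.Agent.Lib.Helper10.Fib W4c2modmodulilect

section Nerve

variable {J : Type u₁} [Category.{v₁} J]

/-- A function on the objects of a category with contractible nerve which is constant along
morphisms is constant. -/
lemma const_of_hcn (hJ : HasContractibleNerve.{w, w} J) {α : Type w} (f : J → α)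
    (hf : ∀ {j j' : J} (_ : j ⟶ j'), f j = f j') (j j' : J) : f j = f j' := by
  let Φ : J ⥤ Discrete α :=
    { obj := fun j => Discrete.mk (f j)
      map := fun m => eqToHom (congrArg Discrete.mk (hf m))
      map_id := fun _ => Subsingleton.elim _ _
      map_comp := fun _ _ => Subsingleton.elim _ _ }
  haveI := hJ.2 (Discrete α)
  obtain ⟨g, ⟨e⟩⟩ : ∃ g : Discrete α, Nonempty ((Functor.const J).obj g ≅ Φ) :=
    ⟨_, ⟨(Functor.const J).objObjPreimageIso Φ⟩⟩
  have h1 : g.as = f j := Discrete.eq_of_hom (e.hom.app j)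
  have h2 : g.as = f j' := Discrete.eq_of_hom (e.hom.app j')
  exact h1.symm.trans h2

lemma prop_of_hcn (hJ : HasContractibleNerve.{w, w} J) (P : J → Prop)
    (hP : ∀ {j j' : J} (_ : j ⟶ j'), P j ↔ P j') (j j' : J) (h : P j) : P j' := by
  have e := const_of_hcn hJ (fun j => ULift.up.{w} (P j))
    (fun m => congrArg ULift.up (propext (hP m))) j j'
  have e' : P j = P j' := congrArg ULift.down e
  exact e' ▸ h

lemma exists_cone_of_hcn (hJ : HasContractibleNerve.{w, w} J) {G : Type w} [Category.{w} G]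
    (hG : ∀ {x y : G} (m : x ⟶ y), IsIso m) (T : J ⥤ G) :
    ∃ (s : G) (ε : ∀ j, s ⟶ T.obj j), ∀ {j j' : J} (m : j ⟶ j'), ε j ≫ T.map m = ε j' := by
  letI : Groupoid G := Groupoid.ofIsIso hG
  haveI := hJ.2 G
  obtain ⟨s, ⟨e⟩⟩ : ∃ s : G, Nonempty ((Functor.const J).obj s ≅ T) :=
    ⟨_, ⟨(Functor.const J).objObjPreimageIso T⟩⟩
  refine ⟨s, fun j => e.hom.app j, fun {j j'} m => ?_⟩
  have h := e.hom.naturality m
  rw [← h]
  simp

end Nerve

section Lift

variable {𝒮 : Type u₂} [Category.{v₂} 𝒮] {𝒳 : Type u₃} [Category.{v₃} 𝒳] (p : 𝒳 ⥤ 𝒮)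

lemma lift_congr {R S : 𝒮} {f f' : R ⟶ S} (h : f = f') {a b : 𝒳} (φ : a ⟶ b)
    (hφ : p.IsHomLift f φ) : p.IsHomLift f' φ := by
  subst h
  exact hφ

lemma lift_comp {R S T : 𝒮} {a b c : 𝒳} (f : R ⟶ S) (g : S ⟶ T) (φ : a ⟶ b) (ψ : b ⟶ c)
    (h1 : p.IsHomLift f φ) (h2 : p.IsHomLift g ψ) : p.IsHomLift (f ≫ g) (φ ≫ ψ) := by
  haveI := h1
  haveI := h2
  infer_instance

lemma lift_id_comp {R S : 𝒮} {a b c : 𝒳} (f : R ⟶ S) (φ : a ⟶ b) (ψ : b ⟶ c)
    (h1 : p.IsHomLift (𝟙 R) φ) (h2 : p.IsHomLift f ψ) : p.IsHomLift f (φ ≫ ψ) := by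
  haveI := h1
  haveI := h2
  infer_instance

lemma lift_comp_id {R S : 𝒮} {a b c : 𝒳} (f : R ⟶ S) (φ : a ⟶ b) (ψ : b ⟶ c)
    (h1 : p.IsHomLift f φ) (h2 : p.IsHomLift (𝟙 S) ψ) : p.IsHomLift f (φ ≫ ψ) := by
  haveI := h1
  haveI := h2
  infer_instance

variable (hp : FibCat.IsFibGrpd p)
include hp

lemma lift_unique {R' R S : 𝒮} (f : R ⟶ S) (g : R' ⟶ R) {a b c : 𝒳} (n : b ⟶ c)
    (hn : p.IsHomLift f n) (ψ ψ' : a ⟶ b) (h1 : p.IsHomLift g ψ) (h2 : p.IsHomLift g ψ')
    (h : ψ ≫ n = ψ' ≫ n) : ψ = ψ' := by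
  haveI := hn
  haveI := h1
  haveI := h2
  haveI := IsFibGrpd.sc hp f n
  exact IsStronglyCartesian.ext p f n g h

lemma lift_exists {R' R S : 𝒮} (f : R ⟶ S) (g : R' ⟶ R) {a b c : 𝒳} (n : b ⟶ c)
    (hn : p.IsHomLift f n) (m : a ⟶ c) (hm : p.IsHomLift (g ≫ f) m) :
    ∃ θ : a ⟶ b, p.IsHomLift g θ ∧ θ ≫ n = m := by
  haveI := hn
  haveI := hm
  haveI := IsFibGrpd.sc hp f n
  obtain ⟨χ, ⟨h1, h2⟩, -⟩ := IsStronglyCartesian.universal_property p f n g (g ≫ f) rfl m
  exact ⟨χ, h1, h2⟩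

lemma exists_lift' {x : 𝒳} {S : 𝒮} (hx : p.obj x = S) {R : 𝒮} (f : R ⟶ S) :
    ∃ (y : 𝒳) (c : y ⟶ x), p.IsHomLift f c := by
  subst hx
  exact hp.exists_lift f

lemma isIso_asSmall_fiber (Y : 𝒮) {x y : AsSmall.{w} (p.Fiber Y)} (m : x ⟶ y) : IsIso m := by
  haveI : p.IsHomLift (𝟙 Y) m.down.1 := m.down.2
  haveI : IsIso m.down.1 := IsFibGrpd.isIso_of_isHomLift_id hp (U := Y) m.down.1
  have hinv : p.IsHomLift (𝟙 Y) (inv m.down.1) := inferInstance
  refine ⟨⟨ULift.up ⟨inv m.down.1, hinv⟩, ?_, ?_⟩⟩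
  · apply ULift.ext
    apply CategoryTheory.Functor.Fiber.hom_ext
    exact IsIso.hom_inv_id m.down.1
  · apply ULift.ext
    apply CategoryTheory.Functor.Fiber.hom_ext
    exact IsIso.inv_hom_id m.down.1

omit hp in
lemma cone_of_asSmall (Y : 𝒮) {J : Type u₁} [Category.{v₁} J] (T : J ⥤ p.Fiber Y)
    (h : ∃ (s : AsSmall.{w} (p.Fiber Y)) (ε : ∀ j, s ⟶ (T ⋙ AsSmall.up).obj j),
      ∀ {j j' : J} (m : j ⟶ j'), ε j ≫ (T ⋙ AsSmall.up).map m = ε j') :
    ∃ (s : 𝒳) (_ : p.obj s = Y) (ε : ∀ j, s ⟶ (T.obj j).1), (∀ j, p.IsHomLift (𝟙 Y) (ε j)) ∧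
      ∀ {j j' : J} (m : j ⟶ j'), ε j ≫ (T.map m).1 = ε j' := by
  obtain ⟨s, ε, hε⟩ := h
  refine ⟨(ULift.down s).1, (ULift.down s).2, fun j => (ε j).down.1, fun j => (ε j).down.2,
    fun {j j'} m => ?_⟩
  exact congrArg (fun k : s ⟶ (T ⋙ AsSmall.up).obj j' => k.down.1) (hε m)

end Lift

section Main

variable {C : Type u₁} [Category.{v₁} C] {D : Type u₂} [Category.{v₂} D] {F : Type u₃}
  [Category.{v₃} F] (φ : C ⥤ D) (p : F ⥤ D)

/-- Restriction of sections along `φ`. -/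
abbrev Res := Stk.restr (FibCat.toSelf (BasedCategory.ofFunctor φ)) (BasedCategory.ofFunctor p)

/-- What is used of the contractibility of the comma categories. -/
structure Hyp : Prop where
  nonempty : ∀ Y : D, Nonempty (StructuredArrow Y φ)
  conn : ∀ (Y : D) (P : StructuredArrow Y φ → Prop),
    (∀ {j j' : StructuredArrow Y φ} (_ : j ⟶ j'), P j ↔ P j') → ∀ j j', P j → P j'
  cone : ∀ (t : BasedCategory.ofFunctor φ ⥤ᵇ BasedCategory.ofFunctor p) (Y : D),
    ∃ (s : F) (_ : p.obj s = Y) (ρ : ∀ j : StructuredArrow Y φ, s ⟶ t.obj j.right),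
      (∀ j, p.IsHomLift j.hom (ρ j)) ∧
        ∀ {j j' : StructuredArrow Y φ} (m : j ⟶ j'), ρ j ≫ t.map m.right = ρ j'

variable {φ p}

lemma lift_sec (s : FibCat.selfOver D ⥤ᵇ BasedCategory.ofFunctor p) {Y' Y : D} (g : Y' ⟶ Y) :
    p.IsHomLift g (s.map g) := by
  haveI : (FibCat.selfOver D).p.IsHomLift g g := IsHomLift.map (𝟭 D) g
  exact BasedFunctor.preserves_isHomLift s g g

lemma lift_diag (t : BasedCategory.ofFunctor φ ⥤ᵇ BasedCategory.ofFunctor p) {X X' : C}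
    (u : X ⟶ X') : p.IsHomLift (φ.map u) (t.map u) := by
  haveI : (BasedCategory.ofFunctor φ).p.IsHomLift (φ.map u) u := IsHomLift.map φ u
  exact BasedFunctor.preserves_isHomLift t (φ.map u) u

lemma lift_diag' (t : BasedCategory.ofFunctor φ ⥤ᵇ BasedCategory.ofFunctor p) {X X' : C}
    {R S : D} (g : R ⟶ S) (u : X ⟶ X') (hu : φ.IsHomLift g u) : p.IsHomLift g (t.map u) := by
  haveI : (BasedCategory.ofFunctor φ).p.IsHomLift g u := hu
  exact BasedFunctor.preserves_isHomLift t g u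

variable (hp : FibCat.IsFibGrpd p) (H : Hyp φ p)

include hp H in
theorem faithful_res : (Res φ p).Faithful := by
  refine ⟨fun {s s'} α₁ α₂ h => ?_⟩
  apply BasedNatTrans.ext
  apply NatTrans.ext
  funext Y
  obtain ⟨j⟩ := H.nonempty Y
  have e : α₁.toNatTrans.app (φ.obj j.right) = α₂.toNatTrans.app (φ.obj j.right) :=
    congrArg (fun γ => γ.toNatTrans.app j.right) h
  have n1 : s.map j.hom ≫ α₁.toNatTrans.app (φ.obj j.right) =
      α₁.toNatTrans.app Y ≫ s'.map j.hom := α₁.toNatTrans.naturality j.hom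
  have n2 : s.map j.hom ≫ α₂.toNatTrans.app (φ.obj j.right) =
      α₂.toNatTrans.app Y ≫ s'.map j.hom := α₂.toNatTrans.naturality j.hom
  apply lift_unique p hp j.hom (𝟙 Y) (s'.map j.hom) (lift_sec s' j.hom) _ _
    (α₁.isHomLift' Y) (α₂.isHomLift' Y)
  exact n1.symm.trans ((congrArg (fun x => s.map j.hom ≫ x) e).trans n2)

include hp H in
theorem full_res : (Res φ p).Full := by
  refine ⟨fun {s s'} δ => ?_⟩
  have hγ : ∀ X : C, p.IsHomLift (𝟙 (φ.obj X)) (δ.toNatTrans.app X) := fun X => δ.isHomLift' X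
  have hnat : ∀ {X X' : C} (u : X ⟶ X'), s.map (φ.map u) ≫ δ.toNatTrans.app X' =
      δ.toNatTrans.app X ≫ s'.map (φ.map u) := fun u => δ.toNatTrans.naturality u
  have key : ∀ Y : D, ∃ θ : s.obj Y ⟶ s'.obj Y, p.IsHomLift (𝟙 Y) θ ∧
      ∀ j : StructuredArrow Y φ,
        θ ≫ s'.map j.hom = s.map j.hom ≫ δ.toNatTrans.app j.right := by
    intro Y
    obtain ⟨j₀⟩ := H.nonempty Y
    obtain ⟨θ, hθ1, hθ2⟩ := lift_exists p hp j₀.hom (𝟙 Y) (s'.map j₀.hom) (lift_sec s' j₀.hom)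
      (s.map j₀.hom ≫ δ.toNatTrans.app j₀.right)
      (lift_congr p (Category.id_comp _).symm _
        (lift_comp_id p j₀.hom _ _ (lift_sec s j₀.hom) (hγ j₀.right)))
    have Qinv : ∀ {j j' : StructuredArrow Y φ} (m : j ⟶ j'),
        (θ ≫ s'.map j.hom = s.map j.hom ≫ δ.toNatTrans.app j.right) ↔
          (θ ≫ s'.map j'.hom = s.map j'.hom ≫ δ.toNatTrans.app j'.right) := by
      intro j j' m
      have hw : j.hom ≫ φ.map m.right = j'.hom := StructuredArrow.w m
      have e1 : s.map j'.hom = s.map j.hom ≫ s.map (φ.map m.right) :=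
        (congrArg (fun x => s.map x) hw.symm).trans (s.toFunctor.map_comp _ _)
      have e1' : s'.map j'.hom = s'.map j.hom ≫ s'.map (φ.map m.right) :=
        (congrArg (fun x => s'.map x) hw.symm).trans (s'.toFunctor.map_comp _ _)
      have hn := hnat m.right
      constructor
      · intro h
        calc θ ≫ s'.map j'.hom = (θ ≫ s'.map j.hom) ≫ s'.map (φ.map m.right) := by
              rw [e1', Category.assoc]
          _ = (s.map j.hom ≫ δ.toNatTrans.app j.right) ≫ s'.map (φ.map m.right) := by rw [h]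
          _ = s.map j.hom ≫ (s.map (φ.map m.right) ≫ δ.toNatTrans.app j'.right) := by
              rw [Category.assoc, ← hn]
          _ = s.map j'.hom ≫ δ.toNatTrans.app j'.right := by
              rw [← Category.assoc, ← e1]
      · intro h
        apply lift_unique p hp (φ.map m.right) j.hom (s'.map (φ.map m.right))
          (lift_sec s' (φ.map m.right)) _ _
          (lift_id_comp p j.hom _ _ hθ1 (lift_sec s' j.hom))
          (lift_comp_id p j.hom _ _ (lift_sec s j.hom) (hγ j.right))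
        calc (θ ≫ s'.map j.hom) ≫ s'.map (φ.map m.right) = θ ≫ s'.map j'.hom := by
              rw [e1', Category.assoc]
          _ = s.map j'.hom ≫ δ.toNatTrans.app j'.right := h
          _ = s.map j.hom ≫ (s.map (φ.map m.right) ≫ δ.toNatTrans.app j'.right) := by
              rw [e1, Category.assoc]
          _ = (s.map j.hom ≫ δ.toNatTrans.app j.right) ≫ s'.map (φ.map m.right) := by
              rw [hn, Category.assoc]
    exact ⟨θ, hθ1, fun j => H.conn Y
      (fun j => θ ≫ s'.map j.hom = s.map j.hom ≫ δ.toNatTrans.app j.right)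
      (fun m => Qinv m) j₀ j hθ2⟩
  choose θ hθ1 hθ2 using key
  have hnatθ : ∀ {Y' Y : D} (g : Y' ⟶ Y), s.map g ≫ θ Y = θ Y' ≫ s'.map g := by
    intro Y' Y g
    obtain ⟨j⟩ := H.nonempty Y
    apply lift_unique p hp j.hom g (s'.map j.hom) (lift_sec s' j.hom) _ _
      (lift_comp_id p g _ _ (lift_sec s g) (hθ1 Y)) (lift_id_comp p g _ _ (hθ1 Y') (lift_sec s' g))
    have h3 : θ Y' ≫ s'.map (g ≫ j.hom) = s.map (g ≫ j.hom) ≫ δ.toNatTrans.app j.right :=
      hθ2 Y' (StructuredArrow.mk (g ≫ j.hom))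
    calc (s.map g ≫ θ Y) ≫ s'.map j.hom = s.map g ≫ (s.map j.hom ≫ δ.toNatTrans.app j.right) := by
          rw [Category.assoc, hθ2 Y j]
      _ = s.map (g ≫ j.hom) ≫ δ.toNatTrans.app j.right := by
          rw [← Category.assoc, ← s.toFunctor.map_comp]
      _ = θ Y' ≫ s'.map (g ≫ j.hom) := h3.symm
      _ = (θ Y' ≫ s'.map g) ≫ s'.map j.hom := by
          rw [s'.toFunctor.map_comp, Category.assoc]
  let α : s ⟶ s' :=
    ({ toNatTrans := { app := fun Y => θ Y, naturality := fun Y' Y g => hnatθ g }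
       isHomLift' := fun Y => hθ1 Y } : BasedNatTrans s s')
  refine ⟨α, ?_⟩
  apply BasedNatTrans.ext
  apply NatTrans.ext
  funext X
  show θ (φ.obj X) = δ.toNatTrans.app X
  have h4 : θ (φ.obj X) ≫ s'.map (𝟙 (φ.obj X)) = s.map (𝟙 (φ.obj X)) ≫ δ.toNatTrans.app X :=
    hθ2 (φ.obj X) (StructuredArrow.mk (𝟙 (φ.obj X)))
  have e5 : s'.map (𝟙 (φ.obj X)) = 𝟙 (s'.obj (φ.obj X)) := s'.toFunctor.map_id _
  have e6 : s.map (𝟙 (φ.obj X)) = 𝟙 (s.obj (φ.obj X)) := s.toFunctor.map_id _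
  calc θ (φ.obj X) = θ (φ.obj X) ≫ 𝟙 _ := (Category.comp_id _).symm
    _ = θ (φ.obj X) ≫ s'.map (𝟙 (φ.obj X)) := congrArg (fun x => θ (φ.obj X) ≫ x) e5.symm
    _ = s.map (𝟙 (φ.obj X)) ≫ δ.toNatTrans.app X := h4
    _ = 𝟙 _ ≫ δ.toNatTrans.app X := congrArg (fun x => x ≫ δ.toNatTrans.app X) e6
    _ = δ.toNatTrans.app X := Category.id_comp _

variable (φ p) in
/-- A choice of cones for a section over the diagram. -/
structure ConeData (t : BasedCategory.ofFunctor φ ⥤ᵇ BasedCategory.ofFunctor p) where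
  /-- the vertices -/
  s : D → F
  hs : ∀ Y, p.obj (s Y) = Y
  /-- the cones -/
  ρ : ∀ (Y : D) (j : StructuredArrow Y φ), s Y ⟶ t.obj j.right
  hρ : ∀ Y j, p.IsHomLift j.hom (ρ Y j)
  nat : ∀ (Y : D) {j j' : StructuredArrow Y φ} (m : j ⟶ j'), ρ Y j ≫ t.map m.right = ρ Y j'

include H in
lemma nonempty_coneData (t : BasedCategory.ofFunctor φ ⥤ᵇ BasedCategory.ofFunctor p) :
    Nonempty (ConeData φ p t) := by
  have hc := H.cone t
  choose s hs ρ hρ1 hρ2 using hc
  exact ⟨⟨s, hs, ρ, hρ1, fun Y {j j'} m => hρ2 Y m⟩⟩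

namespace ConeData

variable {t : BasedCategory.ofFunctor φ ⥤ᵇ BasedCategory.ofFunctor p} (K : ConeData φ p t)

/-- Compatibility of a morphism between vertices with the cones. -/
def Compat {Y' Y : D} (g : Y' ⟶ Y) (σ : K.s Y' ⟶ K.s Y) : Prop :=
  ∀ (j : StructuredArrow Y φ) (j' : StructuredArrow Y' φ) (k : j'.right ⟶ j.right),
    j'.hom ≫ φ.map k = g ≫ j.hom → σ ≫ K.ρ Y j = K.ρ Y' j' ≫ t.map k

lemma nat' (Y : D) (j j' : StructuredArrow Y φ) (k : j.right ⟶ j'.right)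
    (hk : j.hom ≫ φ.map k = j'.hom) : K.ρ Y j ≫ t.map k = K.ρ Y j' :=
  K.nat Y (StructuredArrow.homMk k hk)

include hp H in
lemma exists_compat {Y' Y : D} (g : Y' ⟶ Y) :
    ∃ σ : K.s Y' ⟶ K.s Y, p.IsHomLift g σ ∧ K.Compat g σ := by
  obtain ⟨j₀⟩ := H.nonempty Y
  obtain ⟨σ, hσ1, hσ2⟩ := lift_exists p hp j₀.hom g (K.ρ Y j₀) (K.hρ Y j₀)
    (K.ρ Y' (StructuredArrow.mk (g ≫ j₀.hom))) (K.hρ Y' (StructuredArrow.mk (g ≫ j₀.hom)))
  have inv : ∀ {j j' : StructuredArrow Y φ} (m : j ⟶ j'),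
      (σ ≫ K.ρ Y j = K.ρ Y' (StructuredArrow.mk (g ≫ j.hom))) ↔
        (σ ≫ K.ρ Y j' = K.ρ Y' (StructuredArrow.mk (g ≫ j'.hom))) := by
    intro j j' m
    have hw : j.hom ≫ φ.map m.right = j'.hom := StructuredArrow.w m
    have n1 : K.ρ Y j ≫ t.map m.right = K.ρ Y j' := K.nat Y m
    have n2 : K.ρ Y' (StructuredArrow.mk (g ≫ j.hom)) ≫ t.map m.right =
        K.ρ Y' (StructuredArrow.mk (g ≫ j'.hom)) :=
      K.nat' Y' (StructuredArrow.mk (g ≫ j.hom)) (StructuredArrow.mk (g ≫ j'.hom)) m.right (by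
        show (g ≫ j.hom) ≫ φ.map m.right = g ≫ j'.hom
        rw [Category.assoc, hw])
    constructor
    · intro h
      calc σ ≫ K.ρ Y j' = σ ≫ (K.ρ Y j ≫ t.map m.right) := by rw [n1]
        _ = (σ ≫ K.ρ Y j) ≫ t.map m.right := (Category.assoc _ _ _).symm
        _ = K.ρ Y' (StructuredArrow.mk (g ≫ j.hom)) ≫ t.map m.right := by rw [h]
        _ = K.ρ Y' (StructuredArrow.mk (g ≫ j'.hom)) := n2
    · intro h
      apply lift_unique p hp (φ.map m.right) (g ≫ j.hom) (t.map m.right) (lift_diag t m.right)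
        _ _ (lift_comp p g j.hom σ _ hσ1 (K.hρ Y j))
        (K.hρ Y' (StructuredArrow.mk (g ≫ j.hom)))
      calc (σ ≫ K.ρ Y j) ≫ t.map m.right = σ ≫ (K.ρ Y j ≫ t.map m.right) := Category.assoc _ _ _
        _ = σ ≫ K.ρ Y j' := by rw [n1]
        _ = K.ρ Y' (StructuredArrow.mk (g ≫ j'.hom)) := h
        _ = K.ρ Y' (StructuredArrow.mk (g ≫ j.hom)) ≫ t.map m.right := n2.symm
  have base : ∀ j : StructuredArrow Y φ,
      σ ≫ K.ρ Y j = K.ρ Y' (StructuredArrow.mk (g ≫ j.hom)) := fun j =>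
    H.conn Y (fun j => σ ≫ K.ρ Y j = K.ρ Y' (StructuredArrow.mk (g ≫ j.hom)))
      (fun m => inv m) j₀ j hσ2
  refine ⟨σ, hσ1, fun j j' k hk => ?_⟩
  rw [base j]
  exact (K.nat' Y' j' (StructuredArrow.mk (g ≫ j.hom)) k hk).symm

include hp H in
lemma compat_unique {Y' Y : D} (g : Y' ⟶ Y) (σ σ' : K.s Y' ⟶ K.s Y) (h1 : p.IsHomLift g σ)
    (h1' : p.IsHomLift g σ') (h2 : K.Compat g σ) (h2' : K.Compat g σ') : σ = σ' := by
  obtain ⟨j₀⟩ := H.nonempty Y
  apply lift_unique p hp j₀.hom g (K.ρ Y j₀) (K.hρ Y j₀) σ σ' h1 h1'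
  have c : (StructuredArrow.mk (g ≫ j₀.hom)).hom ≫
      φ.map (𝟙 (StructuredArrow.mk (g ≫ j₀.hom)).right) = g ≫ j₀.hom := by
    rw [φ.map_id]
    exact Category.comp_id _
  exact (h2 j₀ (StructuredArrow.mk (g ≫ j₀.hom)) (𝟙 _) c).trans
    (h2' j₀ (StructuredArrow.mk (g ≫ j₀.hom)) (𝟙 _) c).symm

/-- The value of the section on a morphism. -/
noncomputable def σ {Y' Y : D} (g : Y' ⟶ Y) : K.s Y' ⟶ K.s Y :=
  (K.exists_compat hp H g).choose

lemma σ_lift {Y' Y : D} (g : Y' ⟶ Y) : p.IsHomLift g (K.σ hp H g) :=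
  (K.exists_compat hp H g).choose_spec.1

lemma σ_compat {Y' Y : D} (g : Y' ⟶ Y) : K.Compat g (K.σ hp H g) :=
  (K.exists_compat hp H g).choose_spec.2

lemma σ_base {Y' Y : D} (g : Y' ⟶ Y) (j : StructuredArrow Y φ) :
    K.σ hp H g ≫ K.ρ Y j = K.ρ Y' (StructuredArrow.mk (g ≫ j.hom)) := by
  have c : (StructuredArrow.mk (g ≫ j.hom)).hom ≫
      φ.map (𝟙 (StructuredArrow.mk (g ≫ j.hom)).right) = g ≫ j.hom := by
    rw [φ.map_id]
    exact Category.comp_id _
  have e : t.map (𝟙 (StructuredArrow.mk (g ≫ j.hom)).right) = 𝟙 _ := t.toFunctor.map_id _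
  exact (K.σ_compat hp H g j (StructuredArrow.mk (g ≫ j.hom)) (𝟙 _) c).trans
    ((congrArg (fun x => K.ρ Y' (StructuredArrow.mk (g ≫ j.hom)) ≫ x) e).trans
      (Category.comp_id _))

/-- The section attached to a choice of cones. -/
noncomputable def sec : FibCat.selfOver D ⥤ᵇ BasedCategory.ofFunctor p where
  toFunctor :=
    { obj := K.s
      map := fun g => K.σ hp H g
      map_id := fun Y => by
        symm
        apply K.compat_unique hp H (𝟙 Y) _ _ (IsHomLift.id (K.hs Y)) (K.σ_lift hp H (𝟙 Y)) ?_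
          (K.σ_compat hp H (𝟙 Y))
        intro j j' k hk
        rw [Category.id_comp]
        exact (K.nat' Y j' j k (by rw [hk, Category.id_comp])).symm
      map_comp := fun {Y'' Y' Y} g' g => by
        symm
        apply K.compat_unique hp H (g' ≫ g) _ _
          (lift_comp p g' g _ _ (K.σ_lift hp H g') (K.σ_lift hp H g)) (K.σ_lift hp H (g' ≫ g)) ?_
          (K.σ_compat hp H (g' ≫ g))
        intro j j'' k hk
        have e1 := K.σ_base hp H g j
        have e2 : K.σ hp H g' ≫ K.ρ Y' (StructuredArrow.mk (g ≫ j.hom)) =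
            K.ρ Y'' j'' ≫ t.map k :=
          K.σ_compat hp H g' (StructuredArrow.mk (g ≫ j.hom)) j'' k (by
            show j''.hom ≫ φ.map k = g' ≫ (g ≫ j.hom)
            rw [hk, Category.assoc])
        calc (K.σ hp H g' ≫ K.σ hp H g) ≫ K.ρ Y j
            = K.σ hp H g' ≫ (K.σ hp H g ≫ K.ρ Y j) := Category.assoc _ _ _
          _ = K.σ hp H g' ≫ K.ρ Y' (StructuredArrow.mk (g ≫ j.hom)) := by rw [e1]
          _ = K.ρ Y'' j'' ≫ t.map k := e2 }
  w := CategoryTheory.Functor.ext K.hs (fun Y' Y g => by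
    haveI := K.σ_lift hp H g
    exact IsHomLift.fac' p g (K.σ hp H g))

/-- The component of the comparison isomorphism. -/
def comp (X : C) : K.s (φ.obj X) ⟶ t.obj X := K.ρ (φ.obj X) (StructuredArrow.mk (𝟙 (φ.obj X)))

lemma comp_lift (X : C) : p.IsHomLift (𝟙 (φ.obj X)) (K.comp X) :=
  K.hρ (φ.obj X) (StructuredArrow.mk (𝟙 (φ.obj X)))

include hp in
lemma comp_isIso (X : C) : IsIso (K.comp X) := by
  haveI := K.comp_lift X
  exact IsFibGrpd.isIso_of_isHomLift_id hp (U := φ.obj X) (K.comp X)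

lemma comp_nat {X X' : C} (u : X ⟶ X') :
    K.σ hp H (φ.map u) ≫ K.comp X' = K.comp X ≫ t.map u :=
  K.σ_compat hp H (φ.map u) (StructuredArrow.mk (𝟙 (φ.obj X'))) (StructuredArrow.mk (𝟙 (φ.obj X)))
    u ((Category.id_comp _).trans (Category.comp_id _).symm)

/-- The restriction of the section is isomorphic to the given section over the diagram. -/
noncomputable def isoRes : (Res φ p).obj (K.sec hp H) ≅ t :=
  haveI := K.comp_isIso hp
  BasedNatIso.mkNatIso
    (NatIso.ofComponents (fun X => asIso (K.comp X)) (fun {X X'} u => K.comp_nat hp H u))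
    (fun X => K.comp_lift X)

end ConeData

include hp H in
theorem essSurj_res : (Res φ p).EssSurj := by
  refine ⟨fun t => ?_⟩
  obtain ⟨K⟩ := nonempty_coneData H t
  exact ⟨K.sec hp H, ⟨K.isoRes hp H⟩⟩

include hp H in
theorem isEquivalence_res : (Res φ p).IsEquivalence :=
  ⟨faithful_res hp H, full_res hp H, essSurj_res hp H⟩

end Main

section Comma

variable {C : Type u₁} [Category.{v₁} C] {D : Type u₂} [Category.{v₂} D] {F : Type u₃}
  [Category.{v₃} F] (φ : C ⥤ D) (p : F ⥤ D) (hp : FibCat.IsFibGrpd p)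

include hp in
theorem hyp_of_structuredArrow
    (hφ : ∀ Y : D, HasContractibleNerve.{max u₁ u₂ u₃ v₁ v₂ v₃, max u₁ u₂ u₃ v₁ v₂ v₃}
      (StructuredArrow Y φ)) : Hyp φ p where
  nonempty Y := (hφ Y).1
  conn Y P hP j j' h := prop_of_hcn (hφ Y) P hP j j' h
  cone t Y := by
    have ex : ∀ j : StructuredArrow Y φ, ∃ (z : F) (c : z ⟶ t.obj j.right),
        p.IsHomLift j.hom c := fun j => exists_lift' p hp (t.w_obj j.right) j.hom
    choose z c hc using ex
    have hz : ∀ j, p.obj (z j) = Y := fun j => by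
      haveI := hc j
      exact IsHomLift.domain_eq p j.hom (c j)
    have exm : ∀ (j j' : StructuredArrow Y φ) (m : j ⟶ j'), ∃ χ : z j ⟶ z j',
        p.IsHomLift (𝟙 Y) χ ∧ χ ≫ c j' = c j ≫ t.map m.right := fun j j' m =>
      lift_exists p hp j'.hom (𝟙 Y) (c j') (hc j') (c j ≫ t.map m.right)
        (lift_congr p (by rw [Category.id_comp]; exact StructuredArrow.w m) _
          (lift_comp p j.hom (φ.map m.right) _ _ (hc j) (lift_diag t m.right)))
    choose χ hχ1 hχ2 using exm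
    let T : StructuredArrow Y φ ⥤ p.Fiber Y :=
      { obj := fun j => ⟨z j, hz j⟩
        map := fun {j j'} m => ⟨χ j j' m, hχ1 j j' m⟩
        map_id := fun j => by
          apply CategoryTheory.Functor.Fiber.hom_ext
          show χ j j (𝟙 j) = 𝟙 (z j)
          apply lift_unique p hp j.hom (𝟙 Y) (c j) (hc j) _ _ (hχ1 j j (𝟙 j))
            (IsHomLift.id (hz j))
          exact (hχ2 j j (𝟙 j)).trans
            ((congrArg (fun x => c j ≫ x) (t.toFunctor.map_id j.right)).trans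
              ((Category.comp_id _).trans (Category.id_comp _).symm))
        map_comp := fun {j j' j''} m m' => by
          apply CategoryTheory.Functor.Fiber.hom_ext
          show χ j j'' (m ≫ m') = χ j j' m ≫ χ j' j'' m'
          apply lift_unique p hp j''.hom (𝟙 Y) (c j'') (hc j'') _ _ (hχ1 j j'' (m ≫ m'))
            (lift_id_comp p (𝟙 Y) _ _ (hχ1 j j' m) (hχ1 j' j'' m'))
          calc χ j j'' (m ≫ m') ≫ c j'' = c j ≫ t.map (m ≫ m').right := hχ2 j j'' (m ≫ m')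
            _ = c j ≫ (t.map m.right ≫ t.map m'.right) :=
                congrArg (fun x => c j ≫ x) (t.toFunctor.map_comp m.right m'.right)
            _ = (c j ≫ t.map m.right) ≫ t.map m'.right := (Category.assoc _ _ _).symm
            _ = (χ j j' m ≫ c j') ≫ t.map m'.right :=
                congrArg (fun x => x ≫ t.map m'.right) (hχ2 j j' m).symm
            _ = χ j j' m ≫ (c j' ≫ t.map m'.right) := Category.assoc _ _ _
            _ = χ j j' m ≫ (χ j' j'' m' ≫ c j'') :=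
                congrArg (fun x => χ j j' m ≫ x) (hχ2 j' j'' m').symm
            _ = (χ j j' m ≫ χ j' j'' m') ≫ c j'' := (Category.assoc _ _ _).symm }
    obtain ⟨s, hs, ε, hε1, hε2⟩ := cone_of_asSmall p Y T
      (exists_cone_of_hcn (hφ Y) (G := AsSmall.{max u₁ u₂ u₃ v₁ v₂ v₃} (p.Fiber Y))
        (fun m => isIso_asSmall_fiber p hp Y m) (T ⋙ AsSmall.up))
    refine ⟨s, hs, fun j => ε j ≫ c j, fun j => lift_id_comp p j.hom _ _ (hε1 j) (hc j),
      fun {j j'} m => ?_⟩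
    have e : ε j ≫ χ j j' m = ε j' := hε2 m
    calc (ε j ≫ c j) ≫ t.map m.right = ε j ≫ (c j ≫ t.map m.right) := Category.assoc _ _ _
      _ = ε j ≫ (χ j j' m ≫ c j') := congrArg (fun x => ε j ≫ x) (hχ2 j j' m).symm
      _ = (ε j ≫ χ j j' m) ≫ c j' := (Category.assoc _ _ _).symm
      _ = ε j' ≫ c j' := congrArg (fun x => x ≫ c j') e

end Comma

section Fibration

variable {C : Type u₁} [Category.{v₁} C] {D : Type u₂} [Category.{v₂} D] {F : Type u₃}
  [Category.{v₃} F] (f : C ⥤ D) [f.IsFibered] (p : F ⥤ D) (hp : FibCat.IsFibGrpd p)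

include hp in
theorem hyp_of_fiber
    (hf : ∀ Y : D, HasContractibleNerve.{max u₁ u₂ u₃ v₁ v₂ v₃, max u₁ u₂ u₃ v₁ v₂ v₃}
      (f.Fiber Y)) : Hyp f p := by
  have ex : ∀ {Y : D} (j : StructuredArrow Y f), ∃ (b : C) (lam : b ⟶ j.right),
      f.IsStronglyCartesian j.hom lam := fun {Y} j => exists_sc f (a := j.right) j.hom
  have hred : ∀ {Y : D} (j : StructuredArrow Y f), ∃ X : f.Fiber Y,
      Nonempty (StructuredArrow.mk (eqToHom X.2.symm) ⟶ j) := fun {Y} j => by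
    obtain ⟨b, lam, hlam⟩ := ex j
    have hb : f.obj b = Y := IsHomLift.domain_eq f j.hom lam
    have h2 : j.hom = eqToHom hb.symm ≫ f.map lam := by
      have h3 := IsHomLift.fac f j.hom lam
      simpa using h3
    exact ⟨⟨b, hb⟩, ⟨StructuredArrow.homMk lam h2.symm⟩⟩
  refine ⟨fun Y => ?_, fun Y P hP j j' h => ?_, fun t Y => ?_⟩
  · obtain ⟨X⟩ := (hf Y).1
    exact ⟨StructuredArrow.mk (eqToHom X.2.symm)⟩
  · have hfib : ∀ X X' : f.Fiber Y, P (StructuredArrow.mk (eqToHom X.2.symm)) →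
        P (StructuredArrow.mk (eqToHom X'.2.symm)) := fun X X' =>
      prop_of_hcn (hf Y) (fun X => P (StructuredArrow.mk (eqToHom X.2.symm)))
        (fun {X₁ X₂} μ => hP (StructuredArrow.homMk μ.1 (by
          haveI : f.IsHomLift (𝟙 Y) μ.1 := μ.2
          show eqToHom X₁.2.symm ≫ f.map μ.1 = eqToHom X₂.2.symm
          rw [IsHomLift.fac' f (𝟙 Y) μ.1]
          simp))) X X'
    obtain ⟨X, ⟨a⟩⟩ := hred j
    obtain ⟨X', ⟨a'⟩⟩ := hred j'
    exact (hP a').1 (hfib X X' ((hP a).2 h))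
  · let T : f.Fiber Y ⥤ p.Fiber Y :=
      { obj := fun X => ⟨t.obj X.1, (t.w_obj X.1).trans X.2⟩
        map := fun {X X'} μ => ⟨t.map μ.1, lift_diag' t (𝟙 Y) μ.1 μ.2⟩
        map_id := fun X => by
          apply CategoryTheory.Functor.Fiber.hom_ext
          exact t.toFunctor.map_id X.1
        map_comp := fun {X X' X''} μ μ' => by
          apply CategoryTheory.Functor.Fiber.hom_ext
          exact t.toFunctor.map_comp μ.1 μ'.1 }
    obtain ⟨s, hs, ε, hε1, hε2⟩ := cone_of_asSmall p Y T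
      (exists_cone_of_hcn (hf Y) (G := AsSmall.{max u₁ u₂ u₃ v₁ v₂ v₃} (p.Fiber Y))
        (fun m => isIso_asSmall_fiber p hp Y m) (T ⋙ AsSmall.up))
    choose b lam hlam using fun j : StructuredArrow Y f => ex j
    have hb : ∀ j, f.obj (b j) = Y := fun j => by
      haveI := hlam j
      exact IsHomLift.domain_eq f j.hom (lam j)
    have hl : ∀ j, f.IsHomLift j.hom (lam j) := fun j => by
      haveI := hlam j
      infer_instance
    refine ⟨s, hs, fun j => ε ⟨b j, hb j⟩ ≫ t.map (lam j),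
      fun j => lift_id_comp p j.hom _ _ (hε1 _) (lift_diag' t j.hom (lam j) (hl j)),
      fun {j j'} m => ?_⟩
    haveI := hlam j'
    have hw : j.hom ≫ f.map m.right = j'.hom := StructuredArrow.w m
    haveI l1 : f.IsHomLift (𝟙 Y ≫ j'.hom) (lam j ≫ m.right) :=
      lift_congr f (by rw [Category.id_comp, hw]) _
        (lift_comp f j.hom (f.map m.right) (lam j) m.right (hl j) (IsHomLift.map f m.right))
    obtain ⟨μ, ⟨hμ1, hμ2⟩, -⟩ := IsStronglyCartesian.universal_property f j'.hom (lam j') (𝟙 Y)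
      (𝟙 Y ≫ j'.hom) rfl (lam j ≫ m.right)
    let μ' : (CategoryTheory.Functor.Fiber.mk (hb j) : f.Fiber Y) ⟶
      CategoryTheory.Functor.Fiber.mk (hb j') := ⟨μ, hμ1⟩
    have e : ε ⟨b j, hb j⟩ ≫ t.map μ = ε ⟨b j', hb j'⟩ := hε2 μ'
    calc (ε ⟨b j, hb j⟩ ≫ t.map (lam j)) ≫ t.map m.right
        = ε ⟨b j, hb j⟩ ≫ (t.map (lam j) ≫ t.map m.right) := Category.assoc _ _ _
      _ = ε ⟨b j, hb j⟩ ≫ t.map (lam j ≫ m.right) :=
          congrArg (fun x => ε ⟨b j, hb j⟩ ≫ x) (t.toFunctor.map_comp (lam j) m.right).symm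
      _ = ε ⟨b j, hb j⟩ ≫ t.map (μ ≫ lam j') :=
          congrArg (fun x => ε ⟨b j, hb j⟩ ≫ t.map x) hμ2.symm
      _ = ε ⟨b j, hb j⟩ ≫ (t.map μ ≫ t.map (lam j')) :=
          congrArg (fun x => ε ⟨b j, hb j⟩ ≫ x) (t.toFunctor.map_comp μ (lam j'))
      _ = (ε ⟨b j, hb j⟩ ≫ t.map μ) ≫ t.map (lam j') := (Category.assoc _ _ _).symm
      _ = ε ⟨b j', hb j'⟩ ≫ t.map (lam j') := congrArg (fun x => x ≫ t.map (lam j')) e

end Fibration

end Groth.Agent.Lib.Helper10.SecRestr
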