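import Mathlib
import Groth.Agent.S6731

set_option backward.isDefEq.respectTransparency false
set_option backward.isDefEq.respectTransparency.types false
set_option autoImplicit false

universe w v u

open CategoryTheory CategoryTheory.Limits CategoryTheory.Pretriangulated

namespace H10Serre

open Groth.Agent.S6731

section Five

variable {C : Type u} [Category.{v} C] [Preadditive C] [HasZeroObject C] [HasShift C ℤ]
  [∀ n : ℤ, (shiftFunctor C n).Additive] [Pretriangulated C]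

lemma isIso_third (T₁ : Triangle C) (hT₁ : T₁ ∈ distTriang C) {Z₂ : C} (g₂ : T₁.obj₂ ⟶ Z₂)
    (h₂ : Z₂ ⟶ (shiftFunctor C (1 : ℤ)).obj T₁.obj₁)
    (E1 : ∀ {D : C} (y : D ⟶ T₁.obj₂), y ≫ g₂ = 0 → ∃ x : D ⟶ T₁.obj₁, x ≫ T₁.mor₁ = y)
    (E2 : ∀ {D : C} (z : D ⟶ Z₂), z ≫ h₂ = 0 → ∃ y : D ⟶ T₁.obj₂, y ≫ g₂ = z)
    (E3 : h₂ ≫ (shiftFunctor C (1 : ℤ)).map T₁.mor₁ = 0)
    (γ : T₁.obj₃ ⟶ Z₂) (c₂ : T₁.mor₂ ≫ γ = g₂) (c₃ : T₁.mor₃ = γ ≫ h₂) : IsIso γ := by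
  haveI : Mono γ := by
    rw [Preadditive.mono_iff_cancel_zero]
    intro D z hz
    have h1 : z ≫ T₁.mor₃ = 0 := by rw [c₃, ← Category.assoc, hz, zero_comp]
    obtain ⟨y, hy⟩ := Triangle.coyoneda_exact₃ T₁ hT₁ z h1
    have h2 : y ≫ g₂ = 0 := by rw [← c₂, ← Category.assoc, ← hy, hz]
    obtain ⟨x, hx⟩ := E1 y h2
    rw [hy, ← hx, Category.assoc, comp_distTriang_mor_zero₁₂ _ hT₁, comp_zero]
  haveI : IsSplitEpi γ := by
    have h1 : (𝟙 Z₂ ≫ h₂) ≫ (shiftFunctor C (1 : ℤ)).map T₁.mor₁ = 0 := by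
      rw [Category.id_comp, E3]
    obtain ⟨z₁, hz₁⟩ := Triangle.coyoneda_exact₁ T₁ hT₁ (𝟙 Z₂ ≫ h₂) h1
    have h2 : (𝟙 Z₂ - z₁ ≫ γ) ≫ h₂ = 0 := by
      rw [Preadditive.sub_comp, Category.assoc, ← c₃, ← hz₁, sub_self]
    obtain ⟨y, hy⟩ := E2 _ h2
    refine IsSplitEpi.mk' ⟨z₁ + y ≫ T₁.mor₂, ?_⟩
    rw [Preadditive.add_comp, Category.assoc, c₂, hy]
    abel
  exact isIso_of_mono_of_isSplitEpi γ

end Five

section Serre

variable {k : Type w} [Field k] {T : Type u} [Category.{v} T] [Preadditive T] [Linear k T]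
  [HasZeroObject T] [HasShift T ℤ] [∀ n : ℤ, (shiftFunctor T n).Additive]
  [∀ n : ℤ, (shiftFunctor T n).Linear k] [Pretriangulated T]
  [∀ X Y : T, Module.Finite k (X ⟶ Y)]

variable (k) in
/-- the shift as a linear equivalence on morphisms -/
noncomputable def shEquiv (A B : T) :
    (A ⟶ B) ≃ₗ[k] ((shiftFunctor T (1 : ℤ)).obj A ⟶ (shiftFunctor T (1 : ℤ)).obj B) :=
  LinearEquiv.ofBijective ((shiftFunctor T (1 : ℤ)).mapLinearMap k)
    ⟨(shiftFunctor T (1 : ℤ)).map_injective, (shiftFunctor T (1 : ℤ)).map_surjective⟩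

lemma shEquiv_apply {A B : T} (g : A ⟶ B) :
    shEquiv k A B g = (shiftFunctor T (1 : ℤ)).map g := rfl

lemma shEquiv_symm_map {A B : T} (g : A ⟶ B) :
    (shEquiv k A B).symm ((shiftFunctor T (1 : ℤ)).map g) = g := by
  rw [← shEquiv_apply (k := k), LinearEquiv.symm_apply_apply]

lemma map_shEquiv_symm {A B : T}
    (g' : (shiftFunctor T (1 : ℤ)).obj A ⟶ (shiftFunctor T (1 : ℤ)).obj B) :
    (shiftFunctor T (1 : ℤ)).map ((shEquiv k A B).symm g') = g' := by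
  rw [← shEquiv_apply (k := k), LinearEquiv.apply_symm_apply]

variable {F : T ⥤ T} (D : SD k F)

lemma exists_theta (A : T) : ∃ θ : (shiftFunctor T (1 : ℤ)).obj (F.obj A) ⟶
      F.obj ((shiftFunctor T (1 : ℤ)).obj A),
    ∀ g : A ⟶ F.obj A, D.tr ((shiftFunctor T (1 : ℤ)).obj A)
      ((shiftFunctor T (1 : ℤ)).map g ≫ θ) = -D.tr A g := by
  obtain ⟨w, hw⟩ := D.exists_repr ((shiftFunctor T (1 : ℤ)).obj A)
    ((shiftFunctor T (1 : ℤ)).obj (F.obj A))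
    (-(D.tr A ∘ₗ (shEquiv k A (F.obj A)).symm.toLinearMap))
  refine ⟨w, fun g => ?_⟩
  rw [hw]
  show -(D.tr A ((shEquiv k A (F.obj A)).symm ((shiftFunctor T (1 : ℤ)).map g))) = -D.tr A g
  rw [shEquiv_symm_map]

/-- the comparison map -/
noncomputable def theta (A : T) :
    (shiftFunctor T (1 : ℤ)).obj (F.obj A) ⟶ F.obj ((shiftFunctor T (1 : ℤ)).obj A) :=
  (exists_theta D A).choose

lemma theta_spec (A : T) (g : A ⟶ F.obj A) :
    D.tr ((shiftFunctor T (1 : ℤ)).obj A) ((shiftFunctor T (1 : ℤ)).map g ≫ theta D A) =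
      -D.tr A g :=
  (exists_theta D A).choose_spec g

lemma theta_nat {A' A : T} (a : A' ⟶ A) :
    (shiftFunctor T (1 : ℤ)).map (F.map a) ≫ theta D A =
      theta D A' ≫ F.map ((shiftFunctor T (1 : ℤ)).map a) := by
  apply D.nondeg ((shiftFunctor T (1 : ℤ)).obj A) ((shiftFunctor T (1 : ℤ)).obj (F.obj A'))
  intro g'
  obtain ⟨g, rfl⟩ := (shiftFunctor T (1 : ℤ)).map_surjective g'
  have hL : D.tr _ ((shiftFunctor T (1 : ℤ)).map g ≫
      (shiftFunctor T (1 : ℤ)).map (F.map a) ≫ theta D A) = -D.tr A' (a ≫ g) := by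
    rw [← Category.assoc, ← Functor.map_comp, theta_spec, D.tr_map]
  have hR : D.tr _ ((shiftFunctor T (1 : ℤ)).map g ≫ theta D A' ≫
      F.map ((shiftFunctor T (1 : ℤ)).map a)) = -D.tr A' (a ≫ g) := by
    rw [← Category.assoc, D.tr_map, ← Category.assoc, ← Functor.map_comp, theta_spec]
  rw [hL, hR]

lemma theta_unique {A Z₀ : T} (ψ₁ ψ₂ : Z₀ ⟶ F.obj A)
    (h : (shiftFunctor T (1 : ℤ)).map ψ₁ ≫ theta D A =
      (shiftFunctor T (1 : ℤ)).map ψ₂ ≫ theta D A) : ψ₁ = ψ₂ := by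
  apply D.nondeg A Z₀
  intro g
  apply neg_injective
  rw [← theta_spec D A (g ≫ ψ₁), ← theta_spec D A (g ≫ ψ₂), Functor.map_comp, Functor.map_comp,
    Category.assoc, Category.assoc, h]

lemma theta_exists {A Z₀ : T}
    (w : (shiftFunctor T (1 : ℤ)).obj Z₀ ⟶ F.obj ((shiftFunctor T (1 : ℤ)).obj A)) :
    ∃ ψ : Z₀ ⟶ F.obj A, (shiftFunctor T (1 : ℤ)).map ψ ≫ theta D A = w := by
  obtain ⟨ψ, hψ⟩ := D.exists_repr A Z₀
    (-(D.tr ((shiftFunctor T (1 : ℤ)).obj A) ∘ₗ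
      Linear.rightComp k ((shiftFunctor T (1 : ℤ)).obj A) w ∘ₗ
        (shiftFunctor T (1 : ℤ)).mapLinearMap k))
  refine ⟨ψ, ?_⟩
  apply D.nondeg ((shiftFunctor T (1 : ℤ)).obj A) ((shiftFunctor T (1 : ℤ)).obj Z₀)
  intro g'
  obtain ⟨g, rfl⟩ := (shiftFunctor T (1 : ℤ)).map_surjective g'
  rw [← Category.assoc, ← Functor.map_comp, theta_spec, hψ]
  show - -(D.tr _ ((shiftFunctor T (1 : ℤ)).map g ≫ w)) = _
  rw [neg_neg]

lemma isIso_theta (A : T) : IsIso (theta D A) := by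
  haveI : Mono (theta D A) := by
    rw [Preadditive.mono_iff_cancel_zero]
    intro Z x hx
    obtain ⟨ι, -⟩ : ∃ ι : (shiftFunctor T (1 : ℤ)).obj ((shiftFunctor T (-1 : ℤ)).obj Z) ≅ Z,
        True := ⟨(shiftFunctorCompIsoId T (-1 : ℤ) 1 (by norm_num)).app Z, trivial⟩
    obtain ⟨ψ, hψ⟩ := (shiftFunctor T (1 : ℤ)).map_surjective (ι.hom ≫ x)
    have h0 : ψ = 0 := by
      apply theta_unique D
      rw [hψ, Category.assoc, hx, comp_zero, Functor.map_zero, zero_comp]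
    rw [h0, Functor.map_zero] at hψ
    exact (cancel_epi ι.hom).1 (hψ.symm.trans comp_zero.symm)
  haveI : IsSplitEpi (theta D A) := by
    obtain ⟨ι, -⟩ : ∃ ι : (shiftFunctor T (1 : ℤ)).obj ((shiftFunctor T (-1 : ℤ)).obj
        (F.obj ((shiftFunctor T (1 : ℤ)).obj A))) ≅ F.obj ((shiftFunctor T (1 : ℤ)).obj A),
        True := ⟨(shiftFunctorCompIsoId T (-1 : ℤ) 1 (by norm_num)).app _, trivial⟩
    obtain ⟨ψ, hψ⟩ := theta_exists D ι.hom
    exact IsSplitEpi.mk' ⟨ι.inv ≫ (shiftFunctor T (1 : ℤ)).map ψ, by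
      rw [Category.assoc, hψ, ι.inv_hom_id]⟩
  exact isIso_of_mono_of_isSplitEpi _

/-- the commutation isomorphism -/
noncomputable def eIso : shiftFunctor T (1 : ℤ) ⋙ F ≅ F ⋙ shiftFunctor T (1 : ℤ) :=
  (NatIso.ofComponents (fun A => @asIso _ _ _ _ (theta D A) (isIso_theta D A))
    (fun {A' A} a => theta_nat D a)).symm

lemma eIso_hom_theta (A : T) : (eIso D).hom.app A ≫ theta D A = 𝟙 _ := by
  haveI := isIso_theta D A
  exact IsIso.inv_hom_id (theta D A)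

lemma theta_eIso_hom (A : T) : theta D A ≫ (eIso D).hom.app A = 𝟙 _ := by
  haveI := isIso_theta D A
  exact IsIso.hom_inv_id (theta D A)

include D in
lemma dual_exact (T' : Triangle T) (hT : T' ∈ distTriang T) {D₀ : T}
    (y : D₀ ⟶ F.obj T'.obj₂) (hy : y ≫ F.map T'.mor₂ = 0) :
    ∃ x : D₀ ⟶ F.obj T'.obj₁, x ≫ F.map T'.mor₁ = y := by
  have hker : ∀ b ∈ LinearMap.ker (Linear.leftComp k D₀ T'.mor₁),
      (D.tr T'.obj₂ ∘ₗ Linear.rightComp k T'.obj₂ y) b = 0 := by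
    intro b hb
    rw [LinearMap.mem_ker] at hb
    have hb' : T'.mor₁ ≫ b = 0 := hb
    obtain ⟨c, rfl⟩ := Triangle.yoneda_exact₂ T' hT b hb'
    show D.tr T'.obj₂ ((T'.mor₂ ≫ c) ≫ y) = 0
    rw [Category.assoc, ← D.tr_map, Category.assoc, hy, comp_zero, map_zero]
  have hmem : (D.tr T'.obj₂ ∘ₗ Linear.rightComp k T'.obj₂ y) ∈
      LinearMap.range (Linear.leftComp k D₀ T'.mor₁).dualMap := by
    rw [LinearMap.range_dualMap_eq_dualAnnihilator_ker, Submodule.mem_dualAnnihilator]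
    exact hker
  obtain ⟨μ, hμ⟩ := hmem
  obtain ⟨x, hx⟩ := D.exists_repr T'.obj₁ D₀ μ
  refine ⟨x, ?_⟩
  apply D.nondeg T'.obj₂ D₀
  intro b
  rw [← Category.assoc, D.tr_map, ← Category.assoc, hx]
  exact LinearMap.congr_fun hμ b

lemma exists_gamma (T' : Triangle T) (hT : T' ∈ distTriang T) {X : T}
    (u : F.obj T'.obj₂ ⟶ X) (v : X ⟶ (shiftFunctor T (1 : ℤ)).obj (F.obj T'.obj₁))
    (hT₁ : Triangle.mk (F.map T'.mor₁) u v ∈ distTriang T) :
    ∃ γ : X ⟶ F.obj T'.obj₃, u ≫ γ = F.map T'.mor₂ ∧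
      γ ≫ F.map T'.mor₃ = v ≫ theta D T'.obj₁ := by
  obtain ⟨Φ, hΦ⟩ : ∃ Φ : ((T'.obj₃ ⟶ F.obj T'.obj₂) ×
      ((shiftFunctor T (1 : ℤ)).obj T'.obj₁ ⟶ X)) →ₗ[k] (T'.obj₃ ⟶ X),
      ∀ c a, Φ (c, a) = c ≫ u + T'.mor₃ ≫ a :=
    ⟨(Linear.rightComp k T'.obj₃ u).coprod (Linear.leftComp k X T'.mor₃), fun c a => rfl⟩
  obtain ⟨Λ, hΛ⟩ : ∃ Λ : Module.Dual k ((T'.obj₃ ⟶ F.obj T'.obj₂) ×
      ((shiftFunctor T (1 : ℤ)).obj T'.obj₁ ⟶ X)),
      ∀ c a, Λ (c, a) = D.tr T'.obj₂ (T'.mor₂ ≫ c) +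
        -(D.tr T'.obj₁ ((shEquiv k T'.obj₁ (F.obj T'.obj₁)).symm (a ≫ v))) :=
    ⟨(D.tr T'.obj₂ ∘ₗ Linear.leftComp k (F.obj T'.obj₂) T'.mor₂).coprod
      (-(D.tr T'.obj₁ ∘ₗ (shEquiv k T'.obj₁ (F.obj T'.obj₁)).symm.toLinearMap ∘ₗ
        Linear.rightComp k ((shiftFunctor T (1 : ℤ)).obj T'.obj₁) v)), fun c a => rfl⟩
  have hker : ∀ p ∈ LinearMap.ker Φ, Λ p = 0 := by
    rintro ⟨c, a⟩ hp
    rw [LinearMap.mem_ker, hΦ] at hp
    rw [hΛ]
    have comm : T'.mor₃ ≫ a = (-c) ≫ u := by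
      rw [Preadditive.neg_comp]
      exact eq_neg_of_add_eq_zero_right hp
    have hR1 := rot_of_distTriang _ (rot_of_distTriang _ hT)
    have hR2 := rot_of_distTriang _ hT₁
    obtain ⟨b', hb1, hb2⟩ : ∃ b' : (shiftFunctor T (1 : ℤ)).obj T'.obj₂ ⟶
        (shiftFunctor T (1 : ℤ)).obj (F.obj T'.obj₁),
        (-(shiftFunctor T (1 : ℤ)).map T'.mor₁) ≫ b' = a ≫ v ∧
        (-(shiftFunctor T (1 : ℤ)).map T'.mor₂) ≫ (shiftFunctor T (1 : ℤ)).map (-c) =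
          b' ≫ (-(shiftFunctor T (1 : ℤ)).map (F.map T'.mor₁)) :=
      complete_distinguished_triangle_morphism _ _ hR1 hR2 (-c) a comm
    obtain ⟨β, rfl⟩ := (shiftFunctor T (1 : ℤ)).map_surjective b'
    have h1 : (shEquiv k T'.obj₁ (F.obj T'.obj₁)).symm (a ≫ v) = -(T'.mor₁ ≫ β) := by
      apply (shiftFunctor T (1 : ℤ)).map_injective
      rw [map_shEquiv_symm, ← hb1, Functor.map_neg, Functor.map_comp, Preadditive.neg_comp]
    have h2 : T'.mor₂ ≫ c = -(β ≫ F.map T'.mor₁) := by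
      apply (shiftFunctor T (1 : ℤ)).map_injective
      rw [Functor.map_neg, Functor.map_comp, Functor.map_comp]
      have h := hb2
      rw [Functor.map_neg, Preadditive.neg_comp, Preadditive.comp_neg, neg_neg,
        Preadditive.comp_neg] at h
      exact h
    rw [h1, h2, map_neg, map_neg, D.tr_map]
    abel
  have hmem : Λ ∈ LinearMap.range Φ.dualMap := by
    rw [LinearMap.range_dualMap_eq_dualAnnihilator_ker, Submodule.mem_dualAnnihilator]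
    exact hker
  obtain ⟨Γ, hΓ⟩ := hmem
  obtain ⟨γ, hγ⟩ := D.exists_repr T'.obj₃ X Γ
  refine ⟨γ, ?_, ?_⟩
  · apply D.nondeg T'.obj₃ (F.obj T'.obj₂)
    intro c
    have e1 : Γ (c ≫ u) = D.tr T'.obj₂ (T'.mor₂ ≫ c) := by
      have h := LinearMap.congr_fun hΓ (c, 0)
      rw [LinearMap.dualMap_apply, hΦ, hΛ, comp_zero, add_zero, zero_comp, map_zero, map_zero,
        neg_zero, add_zero] at h
      exact h
    rw [← Category.assoc, hγ, D.tr_map, e1]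
  · apply D.nondeg ((shiftFunctor T (1 : ℤ)).obj T'.obj₁) X
    intro a
    have e2 : Γ (T'.mor₃ ≫ a) =
        -(D.tr T'.obj₁ ((shEquiv k T'.obj₁ (F.obj T'.obj₁)).symm (a ≫ v))) := by
      have h := LinearMap.congr_fun hΓ (0, a)
      rw [LinearMap.dualMap_apply, hΦ, hΛ, zero_comp, zero_add, comp_zero, map_zero,
        zero_add] at h
      exact h
    have hL : D.tr _ (a ≫ γ ≫ F.map T'.mor₃) =
        -(D.tr T'.obj₁ ((shEquiv k T'.obj₁ (F.obj T'.obj₁)).symm (a ≫ v))) := by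
      rw [← Category.assoc, D.tr_map, ← Category.assoc, hγ, e2]
    have hR : D.tr _ (a ≫ v ≫ theta D T'.obj₁) =
        -(D.tr T'.obj₁ ((shEquiv k T'.obj₁ (F.obj T'.obj₁)).symm (a ≫ v))) := by
      rw [← Category.assoc, ← map_shEquiv_symm (k := k) (a ≫ v), theta_spec,
        map_shEquiv_symm]
    rw [hL, hR]

theorem serre_triangulated [F.Additive] (D : SD k F) :
    ∃ e : shiftFunctor T (1 : ℤ) ⋙ F ≅ F ⋙ shiftFunctor T (1 : ℤ), ∀ T' ∈ distTriang T,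
      Triangle.mk (F.map T'.mor₁) (F.map T'.mor₂) (F.map T'.mor₃ ≫ e.hom.app T'.obj₁) ∈
        distTriang T := by
  refine ⟨eIso D, fun T' hT => ?_⟩
  obtain ⟨X, u, v, hT₁⟩ := distinguished_cocone_triangle (F.map T'.mor₁)
  obtain ⟨γ, hγ1, hγ2⟩ := exists_gamma D T' hT u v hT₁
  have c₃ : v = γ ≫ F.map T'.mor₃ ≫ (eIso D).hom.app T'.obj₁ := by
    rw [← Category.assoc, hγ2, Category.assoc, theta_eIso_hom, Category.comp_id]
  have E3 : (F.map T'.mor₃ ≫ (eIso D).hom.app T'.obj₁) ≫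
      (shiftFunctor T (1 : ℤ)).map (F.map T'.mor₁) = 0 := by
    have nat' : (eIso D).hom.app T'.obj₁ ≫ (shiftFunctor T (1 : ℤ)).map (F.map T'.mor₁) =
        F.map ((shiftFunctor T (1 : ℤ)).map T'.mor₁) ≫ (eIso D).hom.app T'.obj₂ :=
      ((eIso D).hom.naturality T'.mor₁).symm
    rw [Category.assoc, nat', ← Category.assoc, ← F.map_comp,
      comp_distTriang_mor_zero₃₁ _ hT, F.map_zero, zero_comp]
  haveI : IsIso γ := by
    refine isIso_third (Triangle.mk (F.map T'.mor₁) u v) hT₁ (F.map T'.mor₂)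
      (F.map T'.mor₃ ≫ (eIso D).hom.app T'.obj₁) ?_ ?_ E3 γ hγ1 c₃
    · intro D₀ y hy
      exact dual_exact D T' hT y hy
    · intro D₀ z hz
      have hz' : z ≫ F.map T'.mor₃ = 0 := by
        have h := hz =≫ theta D T'.obj₁
        rw [zero_comp, Category.assoc, Category.assoc, eIso_hom_theta] at h
        exact (congrArg (fun t => z ≫ t) (Category.comp_id (F.map T'.mor₃))).symm.trans h
      exact dual_exact D T'.rotate (rot_of_distTriang _ hT) z hz'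
  refine isomorphic_distinguished _ hT₁ _ (Triangle.isoMk (Triangle.mk (F.map T'.mor₁) u v)
    (Triangle.mk (F.map T'.mor₁) (F.map T'.mor₂) (F.map T'.mor₃ ≫ (eIso D).hom.app T'.obj₁))
    (Iso.refl _) (Iso.refl _) (asIso γ) ?_ ?_ ?_).symm
  · show F.map T'.mor₁ ≫ 𝟙 _ = 𝟙 _ ≫ F.map T'.mor₁
    rw [Category.comp_id, Category.id_comp]
  · show u ≫ γ = 𝟙 _ ≫ F.map T'.mor₂
    rw [Category.id_comp]
    exact hγ1
  · show v ≫ (shiftFunctor T (1 : ℤ)).map (𝟙 _) =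
      γ ≫ F.map T'.mor₃ ≫ (eIso D).hom.app T'.obj₁
    rw [CategoryTheory.Functor.map_id, Category.comp_id]
    exact c₃

end Serre

end H10Serre
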