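import Mathlib
import Groth.Prelude.Def_ArtFun6
import Groth.Prelude.Def_KLin
import Groth.Prelude.Def_ClSub2
import Groth.Prelude.Def_Omega2
import Groth.Prelude.Def_DCoh4
import Groth.Prelude.Def_Coh
import Groth.Prelude.Def_SecTwist
import Groth.Agent.Lib.Helper12.OmegaAffine1
import Groth.Agent.Lib.Helper5.UnitSections

/-!
# helper10: C3 for helper18 (S12272): `Hom_Y(I, O_Y/I) = 0 ↔ H⁰(X, Hom(i^*I, O_X)) = 0`
-/

set_option autoImplicit false
universe u
open CategoryTheory CategoryTheory.Limits AlgebraicGeometry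

noncomputable section

namespace Groth.Agent.Lib.Helper10.SheafHomC3

open Groth.Agent.Lib.Helper12.OmegaAffine

variable {X Y : Scheme.{u}}

/-- `H⁰(X, M) ≃ Hom(O_X, M)`. -/
def hh0Equiv (M : X.Modules) : Coh.HH X M 0 ≃ (Coh.structureModule X ⟶ M) :=
  ((Sheaf.H.equiv₀ (Coh.toAb M) (isTerminalTop : IsTerminal (⊤ : X.Opens))).toEquiv).trans
    (Equiv.ofBijective _ (Groth.Agent.Lib.Helper5.bijective_evTop M)).symm

/-- `Hom(O_X, Hom(C, N)) ≃ Hom(C, N)`. -/
def homSheafHomEquiv (C N : X.Modules) [DCoh.HasSheafHom C] :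
    (Coh.structureModule X ⟶ (DCoh.sheafHom C).obj N) ≃ (C ⟶ N) :=
  ((DCoh.sheafHomAdj C).homEquiv (Coh.structureModule X) N).symm.trans
    ((SecTwist.unitorR C).homCongr (Iso.refl N))

/-- `i_* O_X ≅ O_Y / ker i` for a closed immersion. -/
def pushUnitIso (i : X ⟶ Y) [IsClosedImmersion i] :
    (Scheme.Modules.pushforward i).obj (Coh.structureModule X) ≅ ClSub.quotMod i.ker :=
  (Scheme.Modules.pushforwardCongr i.toImage_imageι.symm).app _ ≪≫
    (Scheme.Modules.pushforwardComp i.toImage i.imageι).symm.app _ ≪≫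
    (Scheme.Modules.pushforward i.imageι).mapIso (asIso (ClSub.unitToPush i.toImage)).symm

/-- `H⁰(X, Hom(i^* I, O_X)) ≃ Hom_Y(I, O_Y/I)`. -/
def hhEquivHom (i : X ⟶ Y) [IsClosedImmersion i] [DCoh.HasSheafHom (Omega.conormal i)] :
    Coh.HH X ((DCoh.sheafHom (Omega.conormal i)).obj (Coh.structureModule X)) 0 ≃
      (ClSub.idealMod i.ker ⟶ ClSub.quotMod i.ker) :=
  (hh0Equiv _).trans ((homSheafHomEquiv (Omega.conormal i) (Coh.structureModule X)).trans
    (((Scheme.Modules.pullbackPushforwardAdjunction i).homEquiv (ClSub.idealMod i.ker)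
      (Coh.structureModule X)).trans ((Iso.refl _).homCongr (pushUnitIso i))))

/-- C3 (for S12272). -/
theorem subsingleton_hom_iff_subsingleton_HH
    (i : X ⟶ Y) [IsClosedImmersion i]
    [DCoh.HasSheafHom (Omega.conormal i)] :
    Subsingleton (ClSub.idealMod i.ker ⟶ ClSub.quotMod i.ker) ↔
      Subsingleton (Coh.HH X ((DCoh.sheafHom (Omega.conormal i)).obj (Coh.structureModule X)) 0) :=
  (hhEquivHom i).symm.subsingleton_congr

end Groth.Agent.Lib.Helper10.SheafHomC3
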