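import Groth.Agent.Lib.Helper10.SibCtx

set_option backward.isDefEq.respectTransparency false
set_option backward.isDefEq.respectTransparency.types false
set_option autoImplicit false

universe v u v' u'

open CategoryTheory CategoryTheory.Limits CategoryTheory.Pretriangulated

namespace H10Sib

variable {T : Type u} [Category.{v} T] [Preadditive T] [HasZeroObject T] [HasShift T ℤ]
  [∀ n : ℤ, (shiftFunctor T n).Additive] [Pretriangulated T]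
  {D : Type u'} [Category.{v'} D] [Preadditive D] [HasZeroObject D] [HasShift D ℤ]
  [∀ n : ℤ, (shiftFunctor D n).Additive] [Pretriangulated D]
  {F F' : T ⥤ D} [F.CommShift ℤ] [F'.CommShift ℤ]

namespace Ctx0

variable (C : Ctx0 F F')

lemma SY_of_cov (n : ℕ) {b : ℤ} {X Q Y : T} (s : Q ⟶ X) (π : X ⟶ Y) (δ : Y ⟶ Q⟦(1 : ℤ)⟧)
    (hT : Triangle.mk s π δ ∈ distTriang T) (hcov : C.Cov b s) (leX : C.LE b X)
    (geX : C.GE (b - (n + 1)) X) : C.LE (b - 1) Y ∧ C.GE (b - 1 - n) Y :=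
  ⟨C.cone_le b s π δ hcov leX hT,
    C.ge_anti (b - (n + 1)) (b - 1 - n) Y (by omega)
      (C.cone_ge (b - (n + 1)) b s π δ hcov (by omega) geX hT)⟩

lemma mid_of_cov [F.IsTriangulated] [F'.IsTriangulated] {n : ℕ}
    {g : ∀ X : T, F.obj X ⟶ F'.obj X} (hg : C.Good n g) {b : ℤ} {X Q Y : T}
    (s : Q ⟶ X) (π : X ⟶ Y) (δ : Y ⟶ Q⟦(1 : ℤ)⟧)
    (hT : Triangle.mk s π δ ∈ distTriang T) (hcov : C.Cov b s) (leX : C.LE b X)
    (geX : C.GE (b - (n + 1)) X) :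
    ∃ h : F.obj X ⟶ F'.obj X, F.map s ≫ h = g Q ≫ F'.map s ∧
      h ≫ F'.map π = F.map π ≫ g Y ∧ IsIso h := by
  have hQl := C.cov_le b s hcov
  have hQg := C.cov_ge b s hcov
  have hY := C.SY_of_cov n s π δ hT hcov leX geX
  have hSY : C.S n Y := C.S_of_nom n hY.1 hY.2
  have hSQ : C.S n Q := C.S_of_H n hQl hQg
  have hsh1 : C.LE (b - 1) (Q⟦(1 : ℤ)⟧) := C.le_shift b 1 Q hQl
  have hsh2 : C.GE (b - 1) (Q⟦(1 : ℤ)⟧) := C.ge_shift b 1 Q hQg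
  have hSQ1 : C.S n (Q⟦(1 : ℤ)⟧) := C.S_of_H n hsh1 hsh2
  have hδ := hg.nat Y (Q⟦(1 : ℤ)⟧) hSY hSQ1 δ
  have hshift : g (Q⟦(1 : ℤ)⟧) = (F.commShiftIso (1 : ℤ)).hom.app Q ≫ (g Q)⟦(1 : ℤ)⟧' ≫
      (F'.commShiftIso (1 : ℤ)).inv.app Q := by
    rw [hg.base (b - 1) _ hsh1 hsh2, hg.base b Q hQl hQg]
    exact C.f0_shift b Q hQl hQg
  obtain ⟨h, h1, h2, h3⟩ := exists_mid F F' s π δ hT (g Q) (g Y)
    (comm_of_nat F F' δ (g Q) (g (Q⟦(1 : ℤ)⟧)) (g Y) hδ hshift)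
  exact ⟨h, h1, h2.symm, h3 (hg.iso Q hSQ) (hg.iso Y hSY)⟩

/-- presentations of an object by a cover -/
structure Pres (n : ℕ) (b : ℤ) (X : T) where
  Q : T
  Y : T
  s : Q ⟶ X
  π : X ⟶ Y
  δ : Y ⟶ Q⟦(1 : ℤ)⟧
  dist : Triangle.mk s π δ ∈ distTriang T
  leX : C.LE b X
  geX : C.GE (b - (n + 1)) X
  cov : C.Cov b s

lemma pres_exists {n : ℕ} {X : T} (hX : C.S (n + 1) X) :
    ∃ b : ℤ, Nonempty (C.Pres n b X) := by
  obtain ⟨a, b, hg, hl, hb⟩ := hX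
  obtain ⟨Q, s, hs⟩ := C.cov_ex b X hl
  obtain ⟨Y, π, δ, hT⟩ := distinguished_cocone_triangle s
  exact ⟨b, ⟨⟨Q, Y, s, π, δ, hT, hl, C.ge_anti a _ X (by push_cast at hb; omega) hg, hs⟩⟩⟩

/-- compatibility of a morphism with a presentation -/
def Compat {n : ℕ} {b : ℤ} {X : T} (g : ∀ X : T, F.obj X ⟶ F'.obj X) (p : C.Pres n b X)
    (h : F.obj X ⟶ F'.obj X) : Prop :=
  F.map p.s ≫ h = g p.Q ≫ F'.map p.s ∧ h ≫ F'.map p.π = F.map p.π ≫ g p.Y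

lemma ext_exists [F.IsTriangulated] [F'.IsTriangulated] {n : ℕ}
    {g : ∀ X : T, F.obj X ⟶ F'.obj X} (hg : C.Good n g) (X : T) :
    ∃ h : F.obj X ⟶ F'.obj X, (C.S n X → h = g X) ∧
      (C.S (n + 1) X → IsIso h ∧ ∃ (b : ℤ) (p : C.Pres n b X), C.Compat g p h) := by
  by_cases hS : C.S n X
  · refine ⟨g X, fun _ => rfl, fun hS' => ⟨hg.iso X hS, ?_⟩⟩
    obtain ⟨b, ⟨p⟩⟩ := C.pres_exists hS'
    have hY := C.SY_of_cov n p.s p.π p.δ p.dist p.cov p.leX p.geX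
    exact ⟨b, p, hg.nat _ _ (C.S_of_H n (C.cov_le b p.s p.cov) (C.cov_ge b p.s p.cov)) hS p.s,
      (hg.nat _ _ hS (C.S_of_nom n hY.1 hY.2) p.π).symm⟩
  · by_cases hS' : C.S (n + 1) X
    · obtain ⟨b, ⟨p⟩⟩ := C.pres_exists hS'
      obtain ⟨h, h1, h2, h3⟩ := C.mid_of_cov hg p.s p.π p.δ p.dist p.cov p.leX p.geX
      exact ⟨h, fun h' => absurd h' hS, fun _ => ⟨h3, b, p, h1, h2⟩⟩
    · exact ⟨0, fun h' => absurd h' hS, fun h' => absurd h' hS'⟩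

end Ctx0

namespace Ctx

variable (C : Ctx F F')

lemma dom [F.Full] [F.IsTriangulated] [F'.IsTriangulated] {n : ℕ}
    {g : ∀ X : T, F.obj X ⟶ F'.obj X} (hg : C.toCtx0.Good n g) {b : ℤ} {X : T}
    (p : C.toCtx0.Pres n b X) {Q₁ Y₁ : T} (u : Q₁ ⟶ p.Q) (π₁ : X ⟶ Y₁)
    (δ₁ : Y₁ ⟶ Q₁⟦(1 : ℤ)⟧) (hT₁ : Triangle.mk (u ≫ p.s) π₁ δ₁ ∈ distTriang T)
    (hcov : C.Cov b (u ≫ p.s)) (h : F.obj X ⟶ F'.obj X)
    (hh : h ≫ F'.map p.π = F.map p.π ≫ g p.Y) :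
    F.map (u ≫ p.s) ≫ h = g Q₁ ≫ F'.map (u ≫ p.s) ∧ h ≫ F'.map π₁ = F.map π₁ ≫ g Y₁ := by
  obtain ⟨h₃, e1, e2, -⟩ := C.toCtx0.mid_of_cov hg (u ≫ p.s) π₁ δ₁ hT₁ hcov p.leX p.geX
  obtain ⟨v, hv⟩ : ∃ v : Y₁ ⟶ p.Y, π₁ ≫ v = p.π := by
    obtain ⟨v, hv, -⟩ := complete_distinguished_triangle_morphism
      (Triangle.mk (u ≫ p.s) π₁ δ₁) (Triangle.mk p.s p.π p.δ) hT₁ p.dist u (𝟙 X) (by
        show (u ≫ p.s) ≫ 𝟙 X = u ≫ p.s
        rw [Category.comp_id])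
    exact ⟨v, hv.trans (Category.id_comp _)⟩
  have hY₁ := C.toCtx0.SY_of_cov n (u ≫ p.s) π₁ δ₁ hT₁ hcov p.leX p.geX
  have hSY₁ : C.toCtx0.S n Y₁ := C.toCtx0.S_of_nom n hY₁.1 hY₁.2
  have hY := C.toCtx0.SY_of_cov n p.s p.π p.δ p.dist p.cov p.leX p.geX
  have hSY : C.toCtx0.S n p.Y := C.toCtx0.S_of_nom n hY.1 hY.2
  have hSQ : C.toCtx0.S n p.Q :=
    C.toCtx0.S_of_H n (C.cov_le b p.s p.cov) (C.cov_ge b p.s p.cov)
  have hnatv := hg.nat Y₁ p.Y hSY₁ hSY v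
  have key : h₃ ≫ F'.map p.π = h ≫ F'.map p.π := by
    calc h₃ ≫ F'.map p.π = (h₃ ≫ F'.map π₁) ≫ F'.map v := by
          rw [Category.assoc, ← F'.map_comp, hv]
      _ = F.map π₁ ≫ (g Y₁ ≫ F'.map v) := by rw [e2, Category.assoc]
      _ = F.map π₁ ≫ (F.map v ≫ g p.Y) := by rw [← hnatv]
      _ = F.map p.π ≫ g p.Y := by rw [← Category.assoc, ← F.map_comp, hv]
      _ = h ≫ F'.map p.π := hh.symm
  have e : h₃ = h := eq_of_comp_eq F' p.s p.π p.δ p.dist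
    (hom_zero_of_iso F F' (g p.Q) (hg.iso p.Q hSQ) (C.cov_zero b p.s p.cov p.leX)) h₃ h key
  rw [← e]
  exact ⟨e1, e2⟩

lemma natM' [F.Full] [F.IsTriangulated] [F'.IsTriangulated] {n : ℕ}
    {g : ∀ X : T, F.obj X ⟶ F'.obj X} (hg : C.toCtx0.Good n g) {b : ℤ} {X : T}
    (p : C.toCtx0.Pres n b X) (h : F.obj X ⟶ F'.obj X) (hc : C.toCtx0.Compat g p h) :
    ∀ (k : ℕ) (Z : T) (d : ℤ), C.LE d Z → C.GE (d - n) Z → d - b ≤ k →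
      ∀ ψ : Z ⟶ X, F.map ψ ≫ h = g Z ≫ F'.map ψ := by
  intro k
  induction k with
  | zero =>
    intro Z d hZl hZg hk ψ
    have hZb : C.LE b Z := C.le_mono d b Z (by omega) hZl
    have hSZ : C.toCtx0.S n Z := C.toCtx0.S_of_nom n hZl hZg
    have hQl := C.cov_le b p.s p.cov
    obtain ⟨Q₁, u, hcov, -, hvan⟩ := C.cov_refneg b p.s (p.Q⟦(1 : ℤ)⟧) 0 Z p.leX p.cov
      (C.le_shift b 1 p.Q hQl) hZb
    obtain ⟨Y₁, π₁, δ₁, hT₁⟩ := distinguished_cocone_triangle (u ≫ p.s)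
    obtain ⟨-, e2⟩ := C.dom hg p u π₁ δ₁ hT₁ hcov h hc.2
    have hY := C.toCtx0.SY_of_cov n (u ≫ p.s) π₁ δ₁ hT₁ hcov p.leX p.geX
    have hSY : C.toCtx0.S n Y₁ := C.toCtx0.S_of_nom n hY.1 hY.2
    have hSQ₁ : C.toCtx0.S n Q₁ :=
      C.toCtx0.S_of_H n (C.cov_le b _ hcov) (C.cov_ge b _ hcov)
    apply eq_of_comp_eq F' (u ≫ p.s) π₁ δ₁ hT₁
      (hom_zero_of_iso F F' (g Q₁) (hg.iso Q₁ hSQ₁) hvan)
    calc (F.map ψ ≫ h) ≫ F'.map π₁ = F.map ψ ≫ (F.map π₁ ≫ g Y₁) := by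
          rw [Category.assoc, e2]
      _ = F.map (ψ ≫ π₁) ≫ g Y₁ := by rw [F.map_comp, Category.assoc]
      _ = g Z ≫ F'.map (ψ ≫ π₁) := hg.nat Z Y₁ hSZ hSY (ψ ≫ π₁)
      _ = (g Z ≫ F'.map ψ) ≫ F'.map π₁ := by rw [F'.map_comp, Category.assoc]
  | succ k ih =>
    intro Z d hZl hZg hk ψ
    by_cases hk' : d - b ≤ k
    · exact ih Z d hZl hZg hk' ψ
    · have hSZ : C.toCtx0.S n Z := C.toCtx0.S_of_nom n hZl hZg
      obtain ⟨Q_Z, s_Z, hcovZ⟩ := C.cov_ex d Z hZl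
      obtain ⟨Q₁, u, hcov, hu⟩ := C.cov_ref d s_Z X (s_Z ≫ ψ) hZl hcovZ
        (C.le_mono b (d - 1) X (by omega) p.leX)
      obtain ⟨Y₁, π₁, δ₁, hT₁⟩ := distinguished_cocone_triangle (u ≫ s_Z)
      have hYl : C.LE (d - 1) Y₁ := C.cone_le d (u ≫ s_Z) π₁ δ₁ hcov hZl hT₁
      have hYg : C.GE (d - 1 - n) Y₁ := C.cone_ge (d - 1 - n) d (u ≫ s_Z) π₁ δ₁ hcov (by omega)
        (C.ge_anti (d - n) (d - 1 - n) Z (by omega) hZg) hT₁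
      have hSY : C.toCtx0.S n Y₁ := C.toCtx0.S_of_nom n hYl hYg
      obtain ⟨ψ', hψ'⟩ : ∃ ψ' : Y₁ ⟶ X, ψ = π₁ ≫ ψ' :=
        Triangle.yoneda_exact₂ _ hT₁ ψ (by
          show (u ≫ s_Z) ≫ ψ = 0
          rw [Category.assoc]
          exact hu)
      have h1 := ih Y₁ (d - 1) hYl hYg (by omega) ψ'
      have h2 := hg.nat Z Y₁ hSZ hSY π₁
      calc F.map ψ ≫ h = F.map π₁ ≫ (F.map ψ' ≫ h) := by
            rw [hψ', F.map_comp, Category.assoc]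
        _ = (F.map π₁ ≫ g Y₁) ≫ F'.map ψ' := by rw [h1, Category.assoc]
        _ = g Z ≫ F'.map ψ := by rw [h2, Category.assoc, hψ', F'.map_comp]

lemma natM [F.Full] [F.IsTriangulated] [F'.IsTriangulated] {n : ℕ}
    {g : ∀ X : T, F.obj X ⟶ F'.obj X} (hg : C.toCtx0.Good n g) {b : ℤ} {X : T}
    (p : C.toCtx0.Pres n b X) (h : F.obj X ⟶ F'.obj X) (hc : C.toCtx0.Compat g p h) :
    ∀ (k : ℕ) (Z : T) (d : ℤ), C.LE d Z → C.GE (d - n) Z → d - b + 1 ≤ k →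
      ∀ ψ : X ⟶ Z, F.map ψ ≫ g Z = h ≫ F'.map ψ := by
  intro k
  induction k with
  | zero =>
    intro Z d hZl hZg hk ψ
    have hSZ : C.toCtx0.S n Z := C.toCtx0.S_of_nom n hZl hZg
    obtain ⟨Q₁, u, hcov, hu⟩ := C.cov_ref b p.s Z (p.s ≫ ψ) p.leX p.cov
      (C.le_mono d (b - 1) Z (by omega) hZl)
    obtain ⟨Y₁, π₁, δ₁, hT₁⟩ := distinguished_cocone_triangle (u ≫ p.s)
    obtain ⟨-, e2⟩ := C.dom hg p u π₁ δ₁ hT₁ hcov h hc.2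
    have hY := C.toCtx0.SY_of_cov n (u ≫ p.s) π₁ δ₁ hT₁ hcov p.leX p.geX
    have hSY : C.toCtx0.S n Y₁ := C.toCtx0.S_of_nom n hY.1 hY.2
    obtain ⟨ψ', hψ'⟩ : ∃ ψ' : Y₁ ⟶ Z, ψ = π₁ ≫ ψ' :=
      Triangle.yoneda_exact₂ _ hT₁ ψ (by
        show (u ≫ p.s) ≫ ψ = 0
        rw [Category.assoc]
        exact hu)
    have h2 := hg.nat Y₁ Z hSY hSZ ψ'
    calc F.map ψ ≫ g Z = F.map π₁ ≫ (F.map ψ' ≫ g Z) := by
          rw [hψ', F.map_comp, Category.assoc]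
      _ = (F.map π₁ ≫ g Y₁) ≫ F'.map ψ' := by rw [h2, Category.assoc]
      _ = h ≫ F'.map ψ := by rw [← e2, Category.assoc, hψ', F'.map_comp]
  | succ k ih =>
    intro Z d hZl hZg hk ψ
    by_cases hk' : d - b + 1 ≤ k
    · exact ih Z d hZl hZg hk' ψ
    · have hSZ : C.toCtx0.S n Z := C.toCtx0.S_of_nom n hZl hZg
      have hXd : C.LE d X := C.le_mono b d X (by omega) p.leX
      obtain ⟨Q_Z, s_Z, hcovZ⟩ := C.cov_ex d Z hZl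
      have hQZl := C.cov_le d s_Z hcovZ
      obtain ⟨Q₁, u, hcov, -, hvan⟩ := C.cov_refneg d s_Z (Q_Z⟦(1 : ℤ)⟧) 0 X hZl hcovZ
        (C.le_shift d 1 Q_Z hQZl) hXd
      obtain ⟨Y₁, π₁, δ₁, hT₁⟩ := distinguished_cocone_triangle (u ≫ s_Z)
      have hYl : C.LE (d - 1) Y₁ := C.cone_le d (u ≫ s_Z) π₁ δ₁ hcov hZl hT₁
      have hYg : C.GE (d - 1 - n) Y₁ := C.cone_ge (d - 1 - n) d (u ≫ s_Z) π₁ δ₁ hcov (by omega)
        (C.ge_anti (d - n) (d - 1 - n) Z (by omega) hZg) hT₁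
      have hSY : C.toCtx0.S n Y₁ := C.toCtx0.S_of_nom n hYl hYg
      have hSQ₁ : C.toCtx0.S n Q₁ :=
        C.toCtx0.S_of_H n (C.cov_le d _ hcov) (C.cov_ge d _ hcov)
      have h1 := ih Y₁ (d - 1) hYl hYg (by omega) (ψ ≫ π₁)
      have h2 := hg.nat Z Y₁ hSZ hSY π₁
      apply eq_of_comp_eq F' (u ≫ s_Z) π₁ δ₁ hT₁
        (hom_zero_of_iso F F' (g Q₁) (hg.iso Q₁ hSQ₁) hvan)
      calc (F.map ψ ≫ g Z) ≫ F'.map π₁ = F.map ψ ≫ (F.map π₁ ≫ g Y₁) := by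
            rw [Category.assoc, h2]
        _ = F.map (ψ ≫ π₁) ≫ g Y₁ := by rw [F.map_comp, Category.assoc]
        _ = h ≫ F'.map (ψ ≫ π₁) := h1
        _ = (h ≫ F'.map ψ) ≫ F'.map π₁ := by rw [F'.map_comp, Category.assoc]

lemma natGen [F.Full] [F.IsTriangulated] [F'.IsTriangulated] {n : ℕ}
    {g : ∀ X : T, F.obj X ⟶ F'.obj X} (hg : C.toCtx0.Good n g) {b b' : ℤ} {X X' : T}
    (p : C.toCtx0.Pres n b X) (h : F.obj X ⟶ F'.obj X) (hc : C.toCtx0.Compat g p h)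
    (p' : C.toCtx0.Pres n b' X') (h' : F.obj X' ⟶ F'.obj X') (hc' : C.toCtx0.Compat g p' h')
    (φ : X ⟶ X') : F.map φ ≫ h' = h ≫ F'.map φ := by
  by_cases hbb : b ≤ b'
  · have hXb' : C.LE b' X := C.le_mono b b' X hbb p.leX
    have hQ'l := C.cov_le b' p'.s p'.cov
    obtain ⟨Q₁, u, hcov, -, hvan⟩ := C.cov_refneg b' p'.s (p'.Q⟦(1 : ℤ)⟧) 0 X p'.leX p'.cov
      (C.le_shift b' 1 p'.Q hQ'l) hXb'
    obtain ⟨Y₁, π₁, δ₁, hT₁⟩ := distinguished_cocone_triangle (u ≫ p'.s)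
    obtain ⟨-, e2⟩ := C.dom hg p' u π₁ δ₁ hT₁ hcov h' hc'.2
    have hY := C.toCtx0.SY_of_cov n (u ≫ p'.s) π₁ δ₁ hT₁ hcov p'.leX p'.geX
    have hSQ₁ : C.toCtx0.S n Q₁ :=
      C.toCtx0.S_of_H n (C.cov_le b' _ hcov) (C.cov_ge b' _ hcov)
    have h1 := C.natM hg p h hc (b' - 1 - b + 1).toNat Y₁ (b' - 1) hY.1 hY.2
      (Int.self_le_toNat _) (φ ≫ π₁)
    apply eq_of_comp_eq F' (u ≫ p'.s) π₁ δ₁ hT₁
      (hom_zero_of_iso F F' (g Q₁) (hg.iso Q₁ hSQ₁) hvan)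
    calc (F.map φ ≫ h') ≫ F'.map π₁ = F.map φ ≫ (F.map π₁ ≫ g Y₁) := by
          rw [Category.assoc, e2]
      _ = F.map (φ ≫ π₁) ≫ g Y₁ := by rw [F.map_comp, Category.assoc]
      _ = h ≫ F'.map (φ ≫ π₁) := h1
      _ = (h ≫ F'.map φ) ≫ F'.map π₁ := by rw [F'.map_comp, Category.assoc]
  · have hb : b' ≤ b - 1 := by omega
    obtain ⟨Q₁, u, hcov, hu⟩ := C.cov_ref b p.s X' (p.s ≫ φ) p.leX p.cov
      (C.le_mono b' (b - 1) X' hb p'.leX)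
    obtain ⟨Y₁, π₁, δ₁, hT₁⟩ := distinguished_cocone_triangle (u ≫ p.s)
    obtain ⟨-, e2⟩ := C.dom hg p u π₁ δ₁ hT₁ hcov h hc.2
    have hY := C.toCtx0.SY_of_cov n (u ≫ p.s) π₁ δ₁ hT₁ hcov p.leX p.geX
    obtain ⟨φ', hφ'⟩ : ∃ φ' : Y₁ ⟶ X', φ = π₁ ≫ φ' :=
      Triangle.yoneda_exact₂ _ hT₁ φ (by
        show (u ≫ p.s) ≫ φ = 0
        rw [Category.assoc]
        exact hu)
    have h1 := C.natM' hg p' h' hc' (b - 1 - b').toNat Y₁ (b - 1) hY.1 hY.2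
      (Int.self_le_toNat _) φ'
    calc F.map φ ≫ h' = F.map π₁ ≫ (F.map φ' ≫ h') := by
          rw [hφ', F.map_comp, Category.assoc]
      _ = (F.map π₁ ≫ g Y₁) ≫ F'.map φ' := by rw [h1, Category.assoc]
      _ = h ≫ F'.map φ := by rw [← e2, Category.assoc, hφ', F'.map_comp]

theorem extend [F.Full] [F.IsTriangulated] [F'.IsTriangulated] {n : ℕ}
    {g : ∀ X : T, F.obj X ⟶ F'.obj X} (hg : C.toCtx0.Good n g) :
    ∃ g' : ∀ X : T, F.obj X ⟶ F'.obj X, C.toCtx0.Good (n + 1) g' ∧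
      ∀ X, C.toCtx0.S n X → g' X = g X := by
  refine ⟨fun X => (C.toCtx0.ext_exists hg X).choose, ⟨?_, ?_, ?_⟩, ?_⟩
  · intro X hX
    exact ((C.toCtx0.ext_exists hg X).choose_spec.2 hX).1
  · intro X X' hX hX' φ
    obtain ⟨-, b, p, hc⟩ := (C.toCtx0.ext_exists hg X).choose_spec.2 hX
    obtain ⟨-, b', p', hc'⟩ := (C.toCtx0.ext_exists hg X').choose_spec.2 hX'
    exact C.natGen hg p _ hc p' _ hc' φ
  · intro b Q hl hg'
    have e := (C.toCtx0.ext_exists hg Q).choose_spec.1 (C.toCtx0.S_of_H n hl hg')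
    exact e.trans (hg.base b Q hl hg')
  · intro X hX
    exact (C.toCtx0.ext_exists hg X).choose_spec.1 hX

theorem exists_seq [F.Full] [F.IsTriangulated] [F'.IsTriangulated] :
    ∃ G : ℕ → ∀ X : T, F.obj X ⟶ F'.obj X, (∀ n, C.toCtx0.Good n (G n)) ∧
      ∀ n X, C.toCtx0.S n X → G (n + 1) X = G n X := by
  let step : ∀ n, {g : ∀ X : T, F.obj X ⟶ F'.obj X // C.toCtx0.Good n g} →
      {g : ∀ X : T, F.obj X ⟶ F'.obj X // C.toCtx0.Good (n + 1) g} :=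
    fun n g => ⟨(C.extend g.2).choose, (C.extend g.2).choose_spec.1⟩
  let G : ∀ n, {g : ∀ X : T, F.obj X ⟶ F'.obj X // C.toCtx0.Good n g} :=
    fun n => Nat.rec ⟨_, C.toCtx0.good0⟩ step n
  refine ⟨fun n => (G n).1, fun n => (G n).2, fun n X hX => ?_⟩
  exact (C.extend (G n).2).choose_spec.2 X hX

include C in
theorem exists_natIso [F.Full] [F.IsTriangulated] [F'.IsTriangulated] :
    Nonempty (F ≅ F') := by
  obtain ⟨G, hG, hext⟩ := Ctx.exists_seq C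
  have hstab : ∀ (m n : ℕ) (X : T), C.toCtx0.S n X → G (n + m) X = G n X := by
    intro m
    induction m with
    | zero => intro n X _; rfl
    | succ m ih =>
      intro n X hX
      have e1 : G (n + (m + 1)) X = G (n + m) X :=
        hext (n + m) X (C.toCtx0.S_mono (by omega) hX)
      exact e1.trans (ih n X hX)
  have hS : ∀ X : T, ∃ n : ℕ, C.toCtx0.S n X := by
    intro X
    obtain ⟨a, b, hg, hl⟩ := C.bdd X
    exact ⟨(b - a).toNat, a, b, hg, hl, by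
      have := Int.self_le_toNat (b - a)
      omega⟩
  choose ν hν using hS
  refine ⟨NatIso.ofComponents
    (fun X => @asIso _ _ _ _ (G (ν X) X) ((hG (ν X)).iso X (hν X))) ?_⟩
  intro X X' φ
  show F.map φ ≫ G (ν X') X' = G (ν X) X ≫ F'.map φ
  have e1 : G (ν X + ν X') X = G (ν X) X := hstab _ _ _ (hν X)
  have e2 : G (ν X + ν X') X' = G (ν X') X' := by
    rw [add_comm]
    exact hstab _ _ _ (hν X')
  rw [← e1, ← e2]
  exact (hG _).nat X X' (C.toCtx0.S_mono (by omega) (hν X))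
    (C.toCtx0.S_mono (by omega) (hν X')) φ

end Ctx

end H10Sib
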