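import Groth.Agent.Lib.Helper10.DbEff
import Groth.Prelude.Def_W4stkfunctorsequivSib

set_option backward.isDefEq.respectTransparency false
set_option backward.isDefEq.respectTransparency.types false
set_option autoImplicit false

universe w v u

open CategoryTheory CategoryTheory.Limits CategoryTheory.Pretriangulated
  CategoryTheory.Triangulated

namespace H10Sib

open DerivedCategory

variable {A : Type u} [Category.{v} A] [Abelian A] [HasDerivedCategory.{w} A]

variable (A) in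
/-- the canonical t-structure -/
noncomputable abbrev tA : TStructure (DerivedCategory A) := DerivedCategory.TStructure.t

variable (A) in
/-- the induced t-structure on the bounded derived category -/
noncomputable abbrev tB : TStructure (DerivedCategory.Bounded A) := (tA A).onBounded

lemma leB_iff (X : DerivedCategory.Bounded A) (b : ℤ) : (tB A).IsLE X b ↔ X.obj.IsLE b :=
  ObjectProperty.tStructure_isLE_iff _ _ X b

lemma geB_iff (X : DerivedCategory.Bounded A) (b : ℤ) : (tB A).IsGE X b ↔ X.obj.IsGE b :=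
  ObjectProperty.tStructure_isGE_iff _ _ X b

lemma leB_shift (b m : ℤ) (X : DerivedCategory.Bounded A) (h : X.obj.IsLE b) :
    (X⟦m⟧).obj.IsLE (b - m) := by
  haveI := (leB_iff X b).2 h
  exact (leB_iff _ _).1 ((tB A).isLE_shift X b m (b - m) (by omega))

lemma geB_shift (a m : ℤ) (X : DerivedCategory.Bounded A) (h : X.obj.IsGE a) :
    (X⟦m⟧).obj.IsGE (a - m) := by
  haveI := (geB_iff X a).2 h
  exact (geB_iff _ _).1 ((tB A).isGE_shift X a m (a - m) (by omega))

lemma homB_zero (b b' : ℤ) (X Y : DerivedCategory.Bounded A) (hbb : b < b')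
    (hX : X.obj.IsLE b) (hY : Y.obj.IsGE b') (f : X ⟶ Y) : f = 0 := by
  apply (tA A).bounded.ι.map_injective
  rw [Functor.map_zero]
  exact (tA A).zero f.hom b b' hbb

/-- shifted objects of the heart, in the bounded derived category -/
noncomputable def sgB (b : ℤ) (N : A) : DerivedCategory.Bounded A :=
  ⟨(singleFunctor A b).obj N, ⟨⟨b, inferInstance⟩, ⟨b, inferInstance⟩⟩⟩

/-- covers -/
def CovB (neg : Prop) (b : ℤ) {X Q : DerivedCategory.Bounded A} (s : Q ⟶ X) : Prop :=
  Q.obj.IsLE b ∧ Q.obj.IsGE b ∧ Epi ((homologyFunctor A b).map s.hom) ∧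
    (neg → ∀ k : (homologyFunctor A b).obj X.obj ⟶ (homologyFunctor A b).obj Q.obj, k = 0)

lemma hom_to_single_homology (b : ℤ) (M N : A)
    (h : ∀ f : M ⟶ N, f = 0)
    (k : M ⟶ (homologyFunctor A b).obj ((singleFunctor A b).obj N)) : k = 0 := by
  have h0 := h (k ≫ ((singleFunctorCompHomologyFunctorIso A b).app N).hom)
  exact (cancel_mono ((singleFunctorCompHomologyFunctorIso A b).app N).hom).1
    (h0.trans zero_comp.symm)

lemma covB_ex (neg : Prop)
    (hneg : ∀ M : A, ∃ (N : A) (p : N ⟶ M), Epi p ∧ (neg → ∀ f : M ⟶ N, f = 0))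
    (b : ℤ) (X : DerivedCategory.Bounded A) (hX : X.obj.IsLE b) :
    ∃ (Q : DerivedCategory.Bounded A) (s : Q ⟶ X), CovB neg b s := by
  haveI := hX
  haveI : (X.obj⟦(1 : ℤ)⟧).IsLE (b - 1) := (tA A).isLE_shift X.obj b 1 (b - 1) (by omega)
  obtain ⟨N, s', hepi, -, hN⟩ := eff neg hneg b X.obj (X.obj⟦(1 : ℤ)⟧) 0
    ((homologyFunctor A b).obj X.obj)
  refine ⟨sgB b N, ObjectProperty.homMk s', ?_, ?_, hepi, fun hn k => ?_⟩
  · exact (inferInstance : ((singleFunctor A b).obj N).IsLE b)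
  · exact (inferInstance : ((singleFunctor A b).obj N).IsGE b)
  · exact hom_to_single_homology b _ N (hN hn) k

lemma covB_ref (neg : Prop)
    (hneg : ∀ M : A, ∃ (N : A) (p : N ⟶ M), Epi p ∧ (neg → ∀ f : M ⟶ N, f = 0))
    (b : ℤ) {X Q₀ : DerivedCategory.Bounded A} (s₀ : Q₀ ⟶ X) (X' : DerivedCategory.Bounded A)
    (ψ : Q₀ ⟶ X') (X'' : DerivedCategory.Bounded A)
    (hcov : CovB neg b s₀) (hX' : X'.obj.IsLE (b - 1)) (hX'' : X''.obj.IsLE b) :
    ∃ (Q₁ : DerivedCategory.Bounded A) (u : Q₁ ⟶ Q₀), CovB neg b (u ≫ s₀) ∧ u ≫ ψ = 0 ∧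
      (neg → ∀ k : X'' ⟶ Q₁, k = 0) := by
  haveI := hcov.1
  haveI := hX'
  haveI := hX''
  obtain ⟨N, s', hepi, hs', hN⟩ := eff neg hneg b Q₀.obj X'.obj ψ.hom
    ((homologyFunctor A b).obj X.obj ⊞ (homologyFunctor A b).obj X''.obj)
  have hN1 : neg → ∀ f : (homologyFunctor A b).obj X.obj ⟶ N, f = 0 := by
    intro hn f
    have h0 := hN hn (biprod.fst ≫ f)
    have h1 : f = biprod.inl ≫ (biprod.fst :
        (homologyFunctor A b).obj X.obj ⊞ (homologyFunctor A b).obj X''.obj ⟶ _) ≫ f := by simp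
    rw [h1, h0, comp_zero]
  have hN2 : neg → ∀ f : (homologyFunctor A b).obj X''.obj ⟶ N, f = 0 := by
    intro hn f
    have h0 := hN hn (biprod.snd ≫ f)
    have h1 : f = biprod.inr ≫ (biprod.snd :
        (homologyFunctor A b).obj X.obj ⊞ (homologyFunctor A b).obj X''.obj ⟶ _) ≫ f := by simp
    rw [h1, h0, comp_zero]
  obtain ⟨u, hu⟩ : ∃ u : sgB b N ⟶ Q₀, u.hom = s' := ⟨ObjectProperty.homMk s', rfl⟩
  refine ⟨sgB b N, u, ⟨?_, ?_, ?_, fun hn k => ?_⟩, ?_, fun hn k => ?_⟩
  · exact (inferInstance : ((singleFunctor A b).obj N).IsLE b)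
  · exact (inferInstance : ((singleFunctor A b).obj N).IsGE b)
  · haveI : Epi ((homologyFunctor A b).map u.hom) := by
      rw [hu]
      exact hepi
    haveI := hcov.2.2.1
    have e : (homologyFunctor A b).map (u ≫ s₀).hom =
        (homologyFunctor A b).map u.hom ≫ (homologyFunctor A b).map s₀.hom := by
      rw [← Functor.map_comp]
      rfl
    rw [e]
    exact epi_comp _ _
  · exact hom_to_single_homology b _ N (hN1 hn) k
  · apply (tA A).bounded.ι.map_injective
    rw [Functor.map_zero]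
    show u.hom ≫ ψ.hom = 0
    rw [hu]
    exact hs'
  · apply (tA A).bounded.ι.map_injective
    rw [Functor.map_zero]
    exact hom_single_eq_zero b X''.obj N (hN2 hn) k.hom

lemma covB_zero (b : ℤ) {X Q : DerivedCategory.Bounded A} (s : Q ⟶ X) (hcov : CovB True b s)
    (hX : X.obj.IsLE b) (k : X ⟶ Q) : k = 0 := by
  haveI := hcov.1
  haveI := hcov.2.1
  haveI := hX
  obtain ⟨N, ⟨e⟩⟩ := exists_iso_singleFunctor_obj_of_isGE_of_isLE Q.obj b
  have hN : ∀ f : (homologyFunctor A b).obj X.obj ⟶ N, f = 0 := by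
    intro f
    have h0 := hcov.2.2.2 trivial (f ≫ ((singleFunctorCompHomologyFunctorIso A b).app N).inv ≫
      (homologyFunctor A b).map e.inv)
    have h1 : f = (f ≫ ((singleFunctorCompHomologyFunctorIso A b).app N).inv ≫
        (homologyFunctor A b).map e.inv) ≫ (homologyFunctor A b).map e.hom ≫
        ((singleFunctorCompHomologyFunctorIso A b).app N).hom := by
      simp only [Category.assoc]
      rw [← Functor.map_comp_assoc, e.inv_hom_id, CategoryTheory.Functor.map_id,
        Category.id_comp, Iso.inv_hom_id, Category.comp_id]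
    rw [h1, h0, zero_comp]
  have h2 := hom_single_eq_zero b X.obj N hN (k.hom ≫ e.hom)
  apply (tA A).bounded.ι.map_injective
  rw [Functor.map_zero]
  exact (cancel_mono e.hom).1 (h2.trans zero_comp.symm)

lemma coneB_le (neg : Prop) (b : ℤ) {X Q Y : DerivedCategory.Bounded A} (s : Q ⟶ X)
    (π : X ⟶ Y) (δ : Y ⟶ Q⟦(1 : ℤ)⟧) (hcov : CovB neg b s) (hX : X.obj.IsLE b)
    (hT : Triangle.mk s π δ ∈ distTriang (DerivedCategory.Bounded A)) :
    Y.obj.IsLE (b - 1) := by
  have hT' := (tA A).bounded.ι.map_distinguished _ hT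
  haveI : ((tA A).bounded.ι.mapTriangle.obj (Triangle.mk s π δ)).obj₁.IsLE b := hcov.1
  haveI : ((tA A).bounded.ι.mapTriangle.obj (Triangle.mk s π δ)).obj₂.IsLE b := hX
  exact isLE_cone b _ hT' hcov.2.2.1

lemma coneB_ge (neg : Prop) (a b : ℤ) {X Q Y : DerivedCategory.Bounded A} (s : Q ⟶ X)
    (π : X ⟶ Y) (δ : Y ⟶ Q⟦(1 : ℤ)⟧) (hcov : CovB neg b s) (hab : a + 1 ≤ b)
    (hX : X.obj.IsGE a)
    (hT : Triangle.mk s π δ ∈ distTriang (DerivedCategory.Bounded A)) :
    Y.obj.IsGE a := by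
  have hT' := (tA A).bounded.ι.map_distinguished _ hT
  haveI : ((tA A).bounded.ι.mapTriangle.obj (Triangle.mk s π δ)).obj₁.IsGE b := hcov.2.1
  haveI : ((tA A).bounded.ι.mapTriangle.obj (Triangle.mk s π δ)).obj₂.IsGE a := hX
  exact isGE_cone a b hab _ hT'

end H10Sib
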