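import Groth.Agent.Lib.Helper10.SibTw
import Groth.Agent.Lib.Helper10.SibInst
import Groth.Agent.Lib.Helper10.SibExt

set_option backward.isDefEq.respectTransparency false
set_option backward.isDefEq.respectTransparency.types false
set_option autoImplicit false

universe w v u v' u'

open CategoryTheory CategoryTheory.Limits CategoryTheory.Pretriangulated
  CategoryTheory.Triangulated

namespace H10Sib

open DerivedCategory

variable {A : Type u} [Category.{v} A] [Abelian A] [HasDerivedCategory.{w} A]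

instance : (DEquiv.singleB A).Full := by
  unfold DEquiv.singleB
  infer_instance

instance : (DEquiv.singleB A).Faithful := by
  unfold DEquiv.singleB
  infer_instance

/-- an object of `A` placed in degree `0` -/
noncomputable abbrev SB (N : A) : DerivedCategory.Bounded A := (DEquiv.singleB A).obj N

lemma exists_single_map (m : ℤ) (N N' : A) (φ : (SB N)⟦m⟧ ⟶ (SB N')⟦m⟧) :
    ∃ f : N ⟶ N', φ = ((DEquiv.singleB A).map f)⟦m⟧' := by
  obtain ⟨g, rfl⟩ := (shiftFunctor (DerivedCategory.Bounded A) m).map_surjective φ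
  obtain ⟨f, rfl⟩ := (DEquiv.singleB A).map_surjective g
  exact ⟨f, rfl⟩

lemma exists_iso_shift_single (b : ℤ) (Q : DerivedCategory.Bounded A) (hl : Q.obj.IsLE b)
    (hg : Q.obj.IsGE b) : ∃ N : A, Nonempty (Q ≅ (SB N)⟦-b⟧) := by
  haveI := hl
  haveI := hg
  obtain ⟨N, ⟨e⟩⟩ := exists_iso_singleFunctor_obj_of_isGE_of_isLE Q.obj b
  have e2 : (singleFunctor A b).obj N ≅ ((SB N)⟦-b⟧).obj :=
    ((singleFunctors A).shiftIso (-b) b 0 (by omega)).symm.app N ≪≫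
      ((tA A).bounded.ι.commShiftIso (-b)).symm.app (SB N)
  exact ⟨N, ⟨(tA A).bounded.isoMk (e ≪≫ e2)⟩⟩

variable {D : Type u'} [Category.{v'} D] [Preadditive D] [HasZeroObject D] [HasShift D ℤ]
  [∀ n : ℤ, (shiftFunctor D n).Additive] [Pretriangulated D]
  (F F' : DerivedCategory.Bounded A ⥤ D) [F.CommShift ℤ] [F'.CommShift ℤ]
  (θ : DEquiv.singleB A ⋙ F ≅ DEquiv.singleB A ⋙ F')

/-- the base family -/
noncomputable def f0B (b : ℤ) (Q : DerivedCategory.Bounded A) : F.obj Q ⟶ F'.obj Q := by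
  classical
  exact if h : ∃ N : A, Nonempty (Q ≅ (SB N)⟦-b⟧) then
    F.map h.choose_spec.some.hom ≫ tw F F' (SB h.choose) (θ.hom.app h.choose) (-b) ≫
      F'.map h.choose_spec.some.inv
  else 0

lemma conjB_nat (m : ℤ) {Q Q' : DerivedCategory.Bounded A} {N N' : A} (e : Q ≅ (SB N)⟦m⟧)
    (e' : Q' ≅ (SB N')⟦m⟧) (φ : Q ⟶ Q') :
    F.map φ ≫ (F.map e'.hom ≫ tw F F' (SB N') (θ.hom.app N') m ≫ F'.map e'.inv) =
      (F.map e.hom ≫ tw F F' (SB N) (θ.hom.app N) m ≫ F'.map e.inv) ≫ F'.map φ := by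
  obtain ⟨f, hf⟩ := exists_single_map m N N' (e.inv ≫ φ ≫ e'.hom)
  exact conj_nat F F' m e e' φ ((DEquiv.singleB A).map f) hf (θ.hom.app N) (θ.hom.app N')
    (θ.hom.naturality f)

lemma f0B_eq (b : ℤ) (Q : DerivedCategory.Bounded A) (N : A) (e : Q ≅ (SB N)⟦-b⟧) :
    f0B F F' θ b Q = F.map e.hom ≫ tw F F' (SB N) (θ.hom.app N) (-b) ≫ F'.map e.inv := by
  have h : ∃ N : A, Nonempty (Q ≅ (SB N)⟦-b⟧) := ⟨N, ⟨e⟩⟩
  have e1 : f0B F F' θ b Q = F.map h.choose_spec.some.hom ≫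
      tw F F' (SB h.choose) (θ.hom.app h.choose) (-b) ≫ F'.map h.choose_spec.some.inv := by
    unfold f0B
    exact dif_pos h
  rw [e1]
  have key := conjB_nat F F' θ (-b) h.choose_spec.some e (𝟙 Q)
  rw [F.map_id, F'.map_id, Category.id_comp, Category.comp_id] at key
  exact key.symm

lemma f0B_iso (b : ℤ) (Q : DerivedCategory.Bounded A) (hl : Q.obj.IsLE b) (hg : Q.obj.IsGE b) :
    IsIso (f0B F F' θ b Q) := by
  obtain ⟨N, ⟨e⟩⟩ := exists_iso_shift_single b Q hl hg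
  rw [f0B_eq F F' θ b Q N e]
  haveI : IsIso (θ.hom.app N) := inferInstance
  haveI := isIso_tw F F' (SB N) (θ.hom.app N) (-b)
  infer_instance

lemma f0B_nat (b : ℤ) (Q Q' : DerivedCategory.Bounded A) (hl : Q.obj.IsLE b)
    (hg : Q.obj.IsGE b) (hl' : Q'.obj.IsLE b) (hg' : Q'.obj.IsGE b) (φ : Q ⟶ Q') :
    F.map φ ≫ f0B F F' θ b Q' = f0B F F' θ b Q ≫ F'.map φ := by
  obtain ⟨N, ⟨e⟩⟩ := exists_iso_shift_single b Q hl hg
  obtain ⟨N', ⟨e'⟩⟩ := exists_iso_shift_single b Q' hl' hg'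
  rw [f0B_eq F F' θ b Q N e, f0B_eq F F' θ b Q' N' e']
  exact conjB_nat F F' θ (-b) e e' φ

lemma f0B_shift (b : ℤ) (Q : DerivedCategory.Bounded A) (hl : Q.obj.IsLE b)
    (hg : Q.obj.IsGE b) :
    f0B F F' θ (b - 1) (Q⟦(1 : ℤ)⟧) = (F.commShiftIso (1 : ℤ)).hom.app Q ≫
      (f0B F F' θ b Q)⟦(1 : ℤ)⟧' ≫ (F'.commShiftIso (1 : ℤ)).inv.app Q := by
  obtain ⟨N, ⟨e⟩⟩ := exists_iso_shift_single b Q hl hg
  have hc : -b + 1 = -(b - 1) := by omega
  obtain ⟨e'', he1, he2⟩ : ∃ e'' : Q⟦(1 : ℤ)⟧ ≅ (SB N)⟦-(b - 1)⟧,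
      e''.hom = e.hom⟦(1 : ℤ)⟧' ≫
        (shiftFunctorAdd' (DerivedCategory.Bounded A) (-b) 1 (-(b - 1)) hc).inv.app (SB N) ∧
      e''.inv = (shiftFunctorAdd' (DerivedCategory.Bounded A) (-b) 1 (-(b - 1)) hc).hom.app (SB N) ≫
        e.inv⟦(1 : ℤ)⟧' :=
    ⟨(shiftFunctor _ (1 : ℤ)).mapIso e ≪≫
      ((shiftFunctorAdd' (DerivedCategory.Bounded A) (-b) 1 (-(b - 1)) hc).app (SB N)).symm,
      rfl, rfl⟩
  rw [f0B_eq F F' θ (b - 1) (Q⟦(1 : ℤ)⟧) N e'', f0B_eq F F' θ b Q N e, he1, he2]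
  exact conj_shift F F' (-b) (-(b - 1)) hc e (θ.hom.app N)

variable (neg : Prop)
  (hneg : ∀ M : A, ∃ (N : A) (p : N ⟶ M), Epi p ∧ (neg → ∀ f : M ⟶ N, f = 0))

/-- the context attached to the bounded derived category, without negativity -/
noncomputable def ctx0B : Ctx0 F F' where
  LE b X := X.obj.IsLE b
  GE a X := X.obj.IsGE a
  Cov b {X Q} s := CovB neg b s
  f0 := f0B F F' θ
  le_mono b b' X h hX := by
    haveI := hX
    exact (tA A).isLE_of_le X.obj b b' h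
  ge_anti a a' X h hX := by
    haveI := hX
    exact (tA A).isGE_of_ge X.obj a' a h
  bdd X := by
    obtain ⟨a, ha⟩ := X.property.1
    obtain ⟨b, hb⟩ := X.property.2
    exact ⟨a, b, ha, hb⟩
  hom_zero := homB_zero
  le_shift := leB_shift
  ge_shift := geB_shift
  cov_le b {X Q} s h := h.1
  cov_ge b {X Q} s h := h.2.1
  cone_le b {X Q Y} s π δ hcov hX hT := coneB_le neg b s π δ hcov hX hT
  cone_ge a b {X Q Y} s π δ hcov hab hX hT := coneB_ge neg a b s π δ hcov hab hX hT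
  cov_ex b X hX := covB_ex neg hneg b X hX
  cov_ref b {X Q₀} s₀ X' ψ hX hcov hX' := by
    obtain ⟨Q₁, u, h1, h2, -⟩ := covB_ref neg hneg b s₀ X' ψ X hcov hX' hX
    exact ⟨Q₁, u, h1, h2⟩
  f0_iso := f0B_iso F F' θ
  f0_nat := f0B_nat F F' θ
  f0_shift := f0B_shift F F' θ

/-- the context attached to the bounded derived category, with negativity -/
noncomputable def ctxB (hneg' : ∀ X : A, ∃ (N : A) (p : N ⟶ X), Epi p ∧ ∀ f : X ⟶ N, f = 0) :
    Ctx F F' where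
  toCtx0 := ctx0B F F' θ True (fun M => by
    obtain ⟨N, p, hp, hN⟩ := hneg' M
    exact ⟨N, p, hp, fun _ => hN⟩)
  cov_zero b {X Q} s hcov hX k := covB_zero b s hcov hX k
  cov_refneg b {X Q₀} s₀ X' ψ X'' hX hcov hX' hX'' := by
    obtain ⟨Q₁, u, h1, h2, h3⟩ := covB_ref True (fun M => by
      obtain ⟨N, p, hp, hN⟩ := hneg' M
      exact ⟨N, p, hp, fun _ => hN⟩) b s₀ X' ψ X'' hcov hX' hX''
    exact ⟨Q₁, u, h1, h2, h3 trivial⟩

end H10Sib
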