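import Mathlib

set_option backward.isDefEq.respectTransparency false
set_option backward.isDefEq.respectTransparency.types false
set_option autoImplicit false

universe v u v' u'

open CategoryTheory CategoryTheory.Limits CategoryTheory.Pretriangulated

namespace H10Sib

variable {T : Type u} [Category.{v} T] [Preadditive T] [HasZeroObject T] [HasShift T ℤ]
  [∀ n : ℤ, (shiftFunctor T n).Additive] [Pretriangulated T]
  {D : Type u'} [Category.{v'} D] [Preadditive D] [HasZeroObject D] [HasShift D ℤ]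
  [∀ n : ℤ, (shiftFunctor D n).Additive] [Pretriangulated D]
  (F F' : T ⥤ D) [F.CommShift ℤ] [F'.CommShift ℤ]

section General

lemma hom_zero_of_iso [F.Full] {X Q : T} (g : F.obj Q ⟶ F'.obj Q) (hg : IsIso g)
    (h : ∀ k : X ⟶ Q, k = 0) (κ : F.obj X ⟶ F'.obj Q) : κ = 0 := by
  obtain ⟨k, hk⟩ := F.map_surjective (κ ≫ inv g)
  rw [h k, F.map_zero] at hk
  have e : κ = (κ ≫ inv g) ≫ g := by rw [Category.assoc, IsIso.inv_hom_id, Category.comp_id]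
  rw [e, ← hk, zero_comp]

lemma comm_of_nat {Q Y : T} (δ : Y ⟶ Q⟦(1 : ℤ)⟧) (a : F.obj Q ⟶ F'.obj Q)
    (a' : F.obj (Q⟦(1 : ℤ)⟧) ⟶ F'.obj (Q⟦(1 : ℤ)⟧)) (c : F.obj Y ⟶ F'.obj Y)
    (hδ : F.map δ ≫ a' = c ≫ F'.map δ)
    (hshift : a' = (F.commShiftIso (1 : ℤ)).hom.app Q ≫ a⟦(1 : ℤ)⟧' ≫
      (F'.commShiftIso (1 : ℤ)).inv.app Q) :
    (F.map δ ≫ (F.commShiftIso (1 : ℤ)).hom.app Q) ≫ a⟦(1 : ℤ)⟧' =
      c ≫ F'.map δ ≫ (F'.commShiftIso (1 : ℤ)).hom.app Q := by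
  rw [← Category.assoc c, ← hδ, hshift]
  simp only [Category.assoc, Iso.inv_hom_id_app]
  erw [Category.comp_id]

lemma exists_mid [F.IsTriangulated] [F'.IsTriangulated] {Q X Y : T} (s : Q ⟶ X) (π : X ⟶ Y)
    (δ : Y ⟶ Q⟦(1 : ℤ)⟧) (hT : Triangle.mk s π δ ∈ distTriang T)
    (a : F.obj Q ⟶ F'.obj Q) (c : F.obj Y ⟶ F'.obj Y)
    (comm : (F.map δ ≫ (F.commShiftIso (1 : ℤ)).hom.app Q) ≫ a⟦(1 : ℤ)⟧' =
      c ≫ F'.map δ ≫ (F'.commShiftIso (1 : ℤ)).hom.app Q) :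
    ∃ h : F.obj X ⟶ F'.obj X, F.map s ≫ h = a ≫ F'.map s ∧ F.map π ≫ c = h ≫ F'.map π ∧
      (IsIso a → IsIso c → IsIso h) := by
  have h1 := F.map_distinguished _ hT
  have h2 := F'.map_distinguished _ hT
  obtain ⟨h, hh1, hh2⟩ : ∃ h : F.obj X ⟶ F'.obj X,
      F.map s ≫ h = a ≫ F'.map s ∧ F.map π ≫ c = h ≫ F'.map π :=
    complete_distinguished_triangle_morphism₂ _ _ h1 h2 a c comm
  refine ⟨h, hh1, hh2, fun ha hc => ?_⟩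
  let φ : F.mapTriangle.obj (Triangle.mk s π δ) ⟶ F'.mapTriangle.obj (Triangle.mk s π δ) :=
    { hom₁ := a, hom₂ := h, hom₃ := c, comm₁ := hh1, comm₂ := hh2, comm₃ := comm }
  exact isIso₂_of_isIso₁₃ φ h1 h2 ha hc

end General

lemma eq_of_comp_eq (F' : T ⥤ D) [F'.CommShift ℤ] [F'.IsTriangulated] {Q X Y : T}
    (s : Q ⟶ X) (π : X ⟶ Y)
    (δ : Y ⟶ Q⟦(1 : ℤ)⟧) (hT : Triangle.mk s π δ ∈ distTriang T) {W : D}
    (hz : ∀ κ : W ⟶ F'.obj Q, κ = 0) (α β : W ⟶ F'.obj X)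
    (h : α ≫ F'.map π = β ≫ F'.map π) : α = β := by
  have h2 := F'.map_distinguished _ hT
  obtain ⟨κ, hκ⟩ : ∃ κ : W ⟶ F'.obj Q, α - β = κ ≫ F'.map s :=
    Triangle.coyoneda_exact₂ _ h2 (α - β) (by
      show (α - β) ≫ F'.map π = 0
      rw [Preadditive.sub_comp, h, sub_self])
  rw [hz κ, zero_comp] at hκ
  exact sub_eq_zero.1 hκ

/-- the abstract context, without negativity -/
structure Ctx0 where
  LE : ℤ → T → Prop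
  GE : ℤ → T → Prop
  Cov : ℤ → ∀ {X Q : T}, (Q ⟶ X) → Prop
  f0 : ℤ → ∀ Q : T, F.obj Q ⟶ F'.obj Q
  le_mono : ∀ (b b' : ℤ) (X : T), b ≤ b' → LE b X → LE b' X
  ge_anti : ∀ (a a' : ℤ) (X : T), a' ≤ a → GE a X → GE a' X
  bdd : ∀ X : T, ∃ a b : ℤ, GE a X ∧ LE b X
  hom_zero : ∀ (b b' : ℤ) (X Y : T), b < b' → LE b X → GE b' Y → ∀ f : X ⟶ Y, f = 0
  le_shift : ∀ (b m : ℤ) (X : T), LE b X → LE (b - m) (X⟦m⟧)
  ge_shift : ∀ (a m : ℤ) (X : T), GE a X → GE (a - m) (X⟦m⟧)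
  cov_le : ∀ (b : ℤ) {X Q : T} (s : Q ⟶ X), Cov b s → LE b Q
  cov_ge : ∀ (b : ℤ) {X Q : T} (s : Q ⟶ X), Cov b s → GE b Q
  cone_le : ∀ (b : ℤ) {X Q Y : T} (s : Q ⟶ X) (π : X ⟶ Y) (δ : Y ⟶ Q⟦(1 : ℤ)⟧), Cov b s →
    LE b X → Triangle.mk s π δ ∈ distTriang T → LE (b - 1) Y
  cone_ge : ∀ (a b : ℤ) {X Q Y : T} (s : Q ⟶ X) (π : X ⟶ Y) (δ : Y ⟶ Q⟦(1 : ℤ)⟧), Cov b s →
    a + 1 ≤ b → GE a X → Triangle.mk s π δ ∈ distTriang T → GE a Y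
  cov_ex : ∀ (b : ℤ) (X : T), LE b X → ∃ (Q : T) (s : Q ⟶ X), Cov b s
  cov_ref : ∀ (b : ℤ) {X Q₀ : T} (s₀ : Q₀ ⟶ X) (X' : T) (ψ : Q₀ ⟶ X'), LE b X → Cov b s₀ →
    LE (b - 1) X' → ∃ (Q₁ : T) (u : Q₁ ⟶ Q₀), Cov b (u ≫ s₀) ∧ u ≫ ψ = 0
  f0_iso : ∀ (b : ℤ) (Q : T), LE b Q → GE b Q → IsIso (f0 b Q)
  f0_nat : ∀ (b : ℤ) (Q Q' : T), LE b Q → GE b Q → LE b Q' → GE b Q' → ∀ φ : Q ⟶ Q',
    F.map φ ≫ f0 b Q' = f0 b Q ≫ F'.map φ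
  f0_shift : ∀ (b : ℤ) (Q : T), LE b Q → GE b Q →
    f0 (b - 1) (Q⟦(1 : ℤ)⟧) = (F.commShiftIso (1 : ℤ)).hom.app Q ≫ (f0 b Q)⟦(1 : ℤ)⟧' ≫
      (F'.commShiftIso (1 : ℤ)).inv.app Q

/-- the abstract context, with negativity -/
structure Ctx extends Ctx0 F F' where
  cov_zero : ∀ (b : ℤ) {X Q : T} (s : Q ⟶ X), Cov b s → LE b X → ∀ k : X ⟶ Q, k = 0
  cov_refneg : ∀ (b : ℤ) {X Q₀ : T} (s₀ : Q₀ ⟶ X) (X' : T) (ψ : Q₀ ⟶ X') (X'' : T), LE b X →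
    Cov b s₀ → LE (b - 1) X' → LE b X'' →
    ∃ (Q₁ : T) (u : Q₁ ⟶ Q₀), Cov b (u ≫ s₀) ∧ u ≫ ψ = 0 ∧ ∀ k : X'' ⟶ Q₁, k = 0

variable {F F'}

namespace Ctx0

variable (C : Ctx0 F F')

/-- objects of amplitude at most `n` -/
def S (n : ℕ) (X : T) : Prop := ∃ a b : ℤ, C.GE a X ∧ C.LE b X ∧ b ≤ a + n

lemma S_mono {n m : ℕ} (h : n ≤ m) {X : T} (hX : C.S n X) : C.S m X := by
  obtain ⟨a, b, hg, hl, hb⟩ := hX
  exact ⟨a, b, hg, hl, by omega⟩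

lemma S_of_nom (n : ℕ) {d : ℤ} {Z : T} (hl : C.LE d Z) (hg : C.GE (d - n) Z) : C.S n Z :=
  ⟨d - n, d, hg, hl, by omega⟩

lemma S_of_H (n : ℕ) {b : ℤ} {Q : T} (hl : C.LE b Q) (hg : C.GE b Q) : C.S n Q :=
  ⟨b, b, hg, hl, by omega⟩

lemma H_of_S0 {X : T} (h : C.S 0 X) : ∃ b : ℤ, C.LE b X ∧ C.GE b X := by
  obtain ⟨a, b, hg, hl, hb⟩ := h
  exact ⟨b, hl, C.ge_anti a b X (by omega) hg⟩

lemma S_shift (n : ℕ) (m : ℤ) {X : T} (hX : C.S n X) : C.S n (X⟦m⟧) := by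
  obtain ⟨a, b, hg, hl, hb⟩ := hX
  exact ⟨a - m, b - m, C.ge_shift a m X hg, C.le_shift b m X hl, by omega⟩

/-- naturality of the base family across levels -/
lemma f0_natural [F.Full] [F.IsTriangulated] [F'.IsTriangulated] :
    ∀ (k : ℕ) (b b' : ℤ) (Q Q' : T), C.LE b Q → C.GE b Q → C.LE b' Q' → C.GE b' Q' →
      b - b' ≤ k → ∀ φ : Q ⟶ Q', F.map φ ≫ C.f0 b' Q' = C.f0 b Q ≫ F'.map φ := by
  intro k
  induction k with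
  | zero =>
    intro b b' Q Q' hQl hQg hQ'l hQ'g hk φ
    have hbb : b ≤ b' := by omega
    rcases lt_or_eq_of_le hbb with hlt | heq
    · rw [C.hom_zero b b' Q Q' hlt hQl hQ'g φ, F.map_zero, F'.map_zero, zero_comp, comp_zero]
    · subst heq
      exact C.f0_nat b Q Q' hQl hQg hQ'l hQ'g φ
  | succ k ih =>
    intro b b' Q Q' hQl hQg hQ'l hQ'g hk φ
    by_cases hk' : b - b' ≤ k
    · exact ih b b' Q Q' hQl hQg hQ'l hQ'g hk' φ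
    · have hb : b' ≤ b - 1 := by omega
      obtain ⟨Q₀, s₀, hs₀⟩ := C.cov_ex b Q hQl
      obtain ⟨Q₁, u, hcov, hu⟩ := C.cov_ref b s₀ Q' (s₀ ≫ φ) hQl hs₀
        (C.le_mono b' (b - 1) Q' hb hQ'l)
      obtain ⟨Y, π, δ, hT⟩ := distinguished_cocone_triangle (u ≫ s₀)
      have hYl : C.LE (b - 1) Y := C.cone_le b (u ≫ s₀) π δ hcov hQl hT
      have hYg : C.GE (b - 1) Y :=
        C.cone_ge (b - 1) b (u ≫ s₀) π δ hcov (by omega) (C.ge_anti b (b - 1) Q (by omega) hQg) hT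
      have hQ₁l := C.cov_le b (u ≫ s₀) hcov
      have hQ₁g := C.cov_ge b (u ≫ s₀) hcov
      obtain ⟨φ', hφ'⟩ : ∃ φ' : Y ⟶ Q', φ = π ≫ φ' :=
        Triangle.yoneda_exact₂ _ hT φ (by
          show (u ≫ s₀) ≫ φ = 0
          rw [Category.assoc]
          exact hu)
      have hπ : F.map π ≫ C.f0 (b - 1) Y = C.f0 b Q ≫ F'.map π := by
        have hsh1 : C.LE (b - 1) (Q₁⟦(1 : ℤ)⟧) := C.le_shift b 1 Q₁ hQ₁l
        have hsh2 : C.GE (b - 1) (Q₁⟦(1 : ℤ)⟧) := C.ge_shift b 1 Q₁ hQ₁g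
        have hδ := C.f0_nat (b - 1) Y (Q₁⟦(1 : ℤ)⟧) hYl hYg hsh1 hsh2 δ
        have hshift := C.f0_shift b Q₁ hQ₁l hQ₁g
        obtain ⟨h, hh1, hh2, -⟩ := exists_mid F F' (u ≫ s₀) π δ hT (C.f0 b Q₁) (C.f0 (b - 1) Y)
          (comm_of_nat F F' δ (C.f0 b Q₁) (C.f0 (b - 1) (Q₁⟦(1 : ℤ)⟧)) (C.f0 (b - 1) Y) hδ hshift)
        have hs₁ := C.f0_nat b Q₁ Q hQ₁l hQ₁g hQl hQg (u ≫ s₀)
        obtain ⟨κ, hκ⟩ : ∃ κ : F.obj Y ⟶ F'.obj Q, C.f0 b Q - h = F.map π ≫ κ :=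
          Triangle.yoneda_exact₂ _ (F.map_distinguished _ hT) (C.f0 b Q - h) (by
            show F.map (u ≫ s₀) ≫ (C.f0 b Q - h) = 0
            rw [Preadditive.comp_sub, hs₁, hh1, sub_self])
        have hκ0 : κ = 0 := hom_zero_of_iso F F' (C.f0 b Q) (C.f0_iso b Q hQl hQg)
          (fun k => C.hom_zero (b - 1) b Y Q (by omega) hYl hQg k) κ
        rw [hκ0, comp_zero] at hκ
        have e : C.f0 b Q = h := sub_eq_zero.1 hκ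
        rw [e]
        exact hh2
      have hφ'nat := ih (b - 1) b' Y Q' hYl hYg hQ'l hQ'g (by omega) φ'
      calc F.map φ ≫ C.f0 b' Q' = F.map π ≫ (F.map φ' ≫ C.f0 b' Q') := by
            rw [hφ', F.map_comp, Category.assoc]
        _ = (F.map π ≫ C.f0 (b - 1) Y) ≫ F'.map φ' := by rw [hφ'nat, Category.assoc]
        _ = C.f0 b Q ≫ F'.map φ := by rw [hπ, Category.assoc, hφ', F'.map_comp]

/-- good families on objects of amplitude at most `n` -/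
structure Good (n : ℕ) (g : ∀ X : T, F.obj X ⟶ F'.obj X) : Prop where
  iso : ∀ X, C.S n X → IsIso (g X)
  nat : ∀ X X', C.S n X → C.S n X' → ∀ φ : X ⟶ X', F.map φ ≫ g X' = g X ≫ F'.map φ
  base : ∀ b Q, C.LE b Q → C.GE b Q → g Q = C.f0 b Q

/-- the base family -/
noncomputable def g0 (X : T) : F.obj X ⟶ F'.obj X := by
  classical
  exact if h : ∃ b : ℤ, C.LE b X ∧ C.GE b X then C.f0 h.choose X else 0

lemma g0_eq [F.Full] [F.IsTriangulated] [F'.IsTriangulated] (b : ℤ) (Q : T) (hl : C.LE b Q)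
    (hg : C.GE b Q) : C.g0 Q = C.f0 b Q := by
  have h : ∃ b : ℤ, C.LE b Q ∧ C.GE b Q := ⟨b, hl, hg⟩
  have e : C.g0 Q = C.f0 h.choose Q := by
    unfold g0
    exact dif_pos h
  rw [e]
  have key := C.f0_natural (h.choose - b).toNat h.choose b Q Q h.choose_spec.1 h.choose_spec.2
    hl hg (Int.self_le_toNat _) (𝟙 Q)
  rw [F.map_id, F'.map_id, Category.id_comp, Category.comp_id] at key
  exact key.symm

lemma good0 [F.Full] [F.IsTriangulated] [F'.IsTriangulated] : C.Good 0 C.g0 where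
  iso X hX := by
    obtain ⟨b, hl, hg⟩ := C.H_of_S0 hX
    rw [C.g0_eq b X hl hg]
    exact C.f0_iso b X hl hg
  nat X X' hX hX' φ := by
    obtain ⟨b, hl, hg⟩ := C.H_of_S0 hX
    obtain ⟨b', hl', hg'⟩ := C.H_of_S0 hX'
    rw [C.g0_eq b X hl hg, C.g0_eq b' X' hl' hg']
    exact C.f0_natural (b - b').toNat b b' X X' hl hg hl' hg' (Int.self_le_toNat _) φ
  base b Q hl hg := C.g0_eq b Q hl hg

end Ctx0

end H10Sib
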