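import Groth.Agent.Lib.Helper10.SibExt

set_option backward.isDefEq.respectTransparency false
set_option backward.isDefEq.respectTransparency.types false
set_option autoImplicit false

universe v u v' u'

open CategoryTheory CategoryTheory.Limits CategoryTheory.Pretriangulated

namespace H10Sib

variable {T : Type u} [Category.{v} T] [Preadditive T] [HasZeroObject T] [HasShift T ℤ]
  [∀ n : ℤ, (shiftFunctor T n).Additive] [Pretriangulated T]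
  {D : Type u'} [Category.{v'} D] [Preadditive D] [HasZeroObject D] [HasShift D ℤ]
  [∀ n : ℤ, (shiftFunctor D n).Additive] [Pretriangulated D]

section Five

variable (G : T ⥤ D) [G.CommShift ℤ] [G.IsTriangulated]

/-- injectivity of `G` on a Hom group -/
def InjG (X X' : T) : Prop := ∀ φ : X ⟶ X', G.map φ = 0 → φ = 0

/-- surjectivity of `G` on a Hom group -/
def SurjG (X X' : T) : Prop := ∀ χ : G.obj X ⟶ G.obj X', ∃ φ : X ⟶ X', G.map φ = χ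

lemma five_cov_inj (A : T) (Tr : Triangle T) (hTr : Tr ∈ distTriang T)
    (h1 : InjG G A Tr.obj₁) (h3 : InjG G A Tr.obj₃) (hs : SurjG G A Tr.invRotate.obj₁) :
    InjG G A Tr.obj₂ := by
  intro φ hφ
  have h30 : φ ≫ Tr.mor₂ = 0 := h3 _ (by rw [G.map_comp, hφ, zero_comp])
  obtain ⟨φ₁, hφ₁⟩ := Triangle.coyoneda_exact₂ Tr hTr φ h30
  have hTi := inv_rot_of_distTriang _ hTr
  have hGi := G.map_distinguished _ hTi
  have h4 : G.map φ₁ ≫ G.map Tr.mor₁ = 0 := by rw [← G.map_comp, ← hφ₁, hφ]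
  obtain ⟨m₁, hm₁⟩ : ∃ m₁ : Tr.invRotate.obj₁ ⟶ Tr.obj₁, m₁ = Tr.invRotate.mor₁ := ⟨_, rfl⟩
  obtain ⟨ω, hω⟩ : ∃ ω : G.obj A ⟶ G.obj Tr.invRotate.obj₁, G.map φ₁ = ω ≫ G.map m₁ := by
    rw [hm₁]
    exact Triangle.coyoneda_exact₂ _ hGi (G.map φ₁) h4
  obtain ⟨w, hw⟩ := hs ω
  have h5 : φ₁ = w ≫ m₁ := by
    have h6 : G.map (φ₁ - w ≫ m₁) = 0 := by
      rw [G.map_sub, G.map_comp, hw, hω, sub_self]
    exact sub_eq_zero.1 (h1 _ h6)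
  have h7 : m₁ ≫ Tr.mor₁ = 0 := by
    rw [hm₁]
    exact comp_distTriang_mor_zero₁₂ _ hTi
  rw [hφ₁, h5, Category.assoc, h7, comp_zero]

lemma five_cov_surj (A : T) (Tr : Triangle T) (hTr : Tr ∈ distTriang T)
    (h1 : SurjG G A Tr.obj₁) (h3 : SurjG G A Tr.obj₃) (hi : InjG G A (Tr.obj₁⟦(1 : ℤ)⟧)) :
    SurjG G A Tr.obj₂ := by
  intro χ
  obtain ⟨φ₃, hφ₃⟩ := h3 (χ ≫ G.map Tr.mor₂)
  have hG := G.map_distinguished _ hTr
  have h0 : φ₃ ≫ Tr.mor₃ = 0 := hi _ (by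
    rw [G.map_comp, hφ₃, Category.assoc, ← G.map_comp, comp_distTriang_mor_zero₂₃ _ hTr,
      G.map_zero, comp_zero])
  obtain ⟨φ₂, hφ₂⟩ := Triangle.coyoneda_exact₃ Tr hTr φ₃ h0
  have h4 : (χ - G.map φ₂) ≫ G.map Tr.mor₂ = 0 := by
    rw [Preadditive.sub_comp, ← G.map_comp, ← hφ₂, hφ₃, sub_self]
  obtain ⟨ω, hω⟩ : ∃ ω : G.obj A ⟶ G.obj Tr.obj₁, χ - G.map φ₂ = ω ≫ G.map Tr.mor₁ :=
    Triangle.coyoneda_exact₂ _ hG _ h4
  obtain ⟨φ₁, hφ₁⟩ := h1 ω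
  refine ⟨φ₂ + φ₁ ≫ Tr.mor₁, ?_⟩
  rw [G.map_add, G.map_comp, hφ₁, ← hω]
  abel

lemma five_contra_inj (B : T) (Tr : Triangle T) (hTr : Tr ∈ distTriang T)
    (h1 : InjG G Tr.obj₁ B) (h3 : InjG G Tr.obj₃ B) (hs : SurjG G (Tr.obj₁⟦(1 : ℤ)⟧) B) :
    InjG G Tr.obj₂ B := by
  intro φ hφ
  have h10 : Tr.mor₁ ≫ φ = 0 := h1 _ (by rw [G.map_comp, hφ, comp_zero])
  obtain ⟨φ₃, hφ₃⟩ := Triangle.yoneda_exact₂ Tr hTr φ h10
  have hG := G.map_distinguished _ hTr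
  have h4 : G.map Tr.mor₂ ≫ G.map φ₃ = 0 := by rw [← G.map_comp, ← hφ₃, hφ]
  obtain ⟨ω, hω⟩ : ∃ ω : (G.obj Tr.obj₁)⟦(1 : ℤ)⟧ ⟶ G.obj B,
      G.map φ₃ = (G.map Tr.mor₃ ≫ (G.commShiftIso (1 : ℤ)).hom.app Tr.obj₁) ≫ ω :=
    Triangle.yoneda_exact₃ _ hG (G.map φ₃) h4
  obtain ⟨w, hw⟩ := hs ((G.commShiftIso (1 : ℤ)).hom.app Tr.obj₁ ≫ ω)
  have h5 : φ₃ = Tr.mor₃ ≫ w := by
    have h6 : G.map (φ₃ - Tr.mor₃ ≫ w) = 0 := by
      rw [G.map_sub, G.map_comp, hw, hω, Category.assoc, sub_self]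
    exact sub_eq_zero.1 (h3 _ h6)
  rw [hφ₃, h5, ← Category.assoc, comp_distTriang_mor_zero₂₃ _ hTr, zero_comp]

lemma five_contra_surj (B : T) (Tr : Triangle T) (hTr : Tr ∈ distTriang T)
    (h1 : SurjG G Tr.obj₁ B) (h3 : SurjG G Tr.obj₃ B) (hi : InjG G Tr.invRotate.obj₁ B) :
    SurjG G Tr.obj₂ B := by
  intro χ
  obtain ⟨φ₁, hφ₁⟩ := h1 (G.map Tr.mor₁ ≫ χ)
  have hTi := inv_rot_of_distTriang _ hTr
  have h7 : Tr.invRotate.mor₁ ≫ Tr.mor₁ = 0 := comp_distTriang_mor_zero₁₂ _ hTi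
  have h0 : Tr.invRotate.mor₁ ≫ φ₁ = 0 := hi _ (by
    rw [G.map_comp, hφ₁, ← Category.assoc, ← G.map_comp, h7, G.map_zero, zero_comp])
  obtain ⟨φ₂, hφ₂⟩ : ∃ φ₂ : Tr.obj₂ ⟶ B, φ₁ = Tr.mor₁ ≫ φ₂ :=
    Triangle.yoneda_exact₂ _ hTi φ₁ h0
  have hG := G.map_distinguished _ hTr
  have h4 : G.map Tr.mor₁ ≫ (χ - G.map φ₂) = 0 := by
    rw [Preadditive.comp_sub, ← G.map_comp, ← hφ₂, hφ₁, sub_self]
  obtain ⟨ω, hω⟩ : ∃ ω : G.obj Tr.obj₃ ⟶ G.obj B, χ - G.map φ₂ = G.map Tr.mor₂ ≫ ω :=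
    Triangle.yoneda_exact₂ _ hG _ h4
  obtain ⟨φ₃, hφ₃⟩ := h3 ω
  refine ⟨φ₂ + Tr.mor₂ ≫ φ₃, ?_⟩
  rw [G.map_add, G.map_comp, hφ₃, ← hω]
  abel

end Five

variable {F F' : T ⥤ D} [F.CommShift ℤ] [F'.CommShift ℤ]

namespace Ctx0

variable (C : Ctx0 F F')

lemma base_inj [F.Full] [F.Faithful] [F.IsTriangulated] [F'.IsTriangulated] {b b' : ℤ}
    {Q Q' : T} (hl : C.LE b Q) (hg : C.GE b Q) (hl' : C.LE b' Q') (hg' : C.GE b' Q') :
    InjG F' Q Q' := by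
  intro φ hφ
  have nat := C.f0_natural (b - b').toNat b b' Q Q' hl hg hl' hg' (Int.self_le_toNat _) φ
  rw [hφ, comp_zero] at nat
  haveI := C.f0_iso b' Q' hl' hg'
  have h1 : F.map φ = 0 := (cancel_mono (C.f0 b' Q')).1 (nat.trans zero_comp.symm)
  exact F.map_injective (h1.trans (F.map_zero _ _).symm)

lemma base_surj [F.Full] [F.Faithful] [F.IsTriangulated] [F'.IsTriangulated] {b b' : ℤ}
    {Q Q' : T} (hl : C.LE b Q) (hg : C.GE b Q) (hl' : C.LE b' Q') (hg' : C.GE b' Q') :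
    SurjG F' Q Q' := by
  intro χ
  haveI := C.f0_iso b Q hl hg
  haveI := C.f0_iso b' Q' hl' hg'
  obtain ⟨φ, hφ⟩ := F.map_surjective (C.f0 b Q ≫ χ ≫ inv (C.f0 b' Q'))
  refine ⟨φ, ?_⟩
  have nat := C.f0_natural (b - b').toNat b b' Q Q' hl hg hl' hg' (Int.self_le_toNat _) φ
  rw [hφ] at nat
  have h1 : C.f0 b Q ≫ χ = C.f0 b Q ≫ F'.map φ := by
    rw [← nat]
    simp only [Category.assoc, IsIso.inv_hom_id, Category.comp_id]
  exact ((cancel_epi (C.f0 b Q)).1 h1).symm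

lemma exists_S (X : T) : ∃ n : ℕ, C.S n X := by
  obtain ⟨a, b, hg, hl⟩ := C.bdd X
  exact ⟨(b - a).toNat, a, b, hg, hl, by
    have := Int.self_le_toNat (b - a)
    omega⟩

lemma dev1 [F.Full] [F.Faithful] [F.IsTriangulated] [F'.IsTriangulated] :
    ∀ (n : ℕ) (Q X' : T), C.S 0 Q → C.S n X' → InjG F' Q X' ∧ SurjG F' Q X' := by
  intro n
  induction n with
  | zero =>
    intro Q X' hQ hX'
    obtain ⟨b, hl, hg⟩ := C.H_of_S0 hQ
    obtain ⟨b', hl', hg'⟩ := C.H_of_S0 hX'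
    exact ⟨C.base_inj hl hg hl' hg', C.base_surj hl hg hl' hg'⟩
  | succ n ih =>
    intro Q X' hQ hX'
    obtain ⟨a, b, hga, hlb, hb⟩ := hX'
    have hgeX : C.GE (b - (n + 1)) X' := C.ge_anti a _ X' (by push_cast at hb; omega) hga
    obtain ⟨Q', s, hs⟩ := C.cov_ex b X' hlb
    obtain ⟨Y', π, δ, hT⟩ := distinguished_cocone_triangle s
    have hY := C.SY_of_cov n s π δ hT hs hlb hgeX
    have hSY : C.S n Y' := C.S_of_nom n hY.1 hY.2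
    have hSQ'n : C.S n Q' := C.S_of_H n (C.cov_le b s hs) (C.cov_ge b s hs)
    have i1 := ih Q Q' hQ hSQ'n
    have i3 := ih Q Y' hQ hSY
    have i3' := ih Q ((Triangle.mk s π δ).invRotate.obj₁) hQ (C.S_shift n (-1) hSY)
    have i1' := ih Q (Q'⟦(1 : ℤ)⟧) hQ (C.S_shift n 1 hSQ'n)
    exact ⟨five_cov_inj F' Q (Triangle.mk s π δ) hT i1.1 i3.1 i3'.2,
      five_cov_surj F' Q (Triangle.mk s π δ) hT i1.2 i3.2 i1'.1⟩

lemma dev2 [F.Full] [F.Faithful] [F.IsTriangulated] [F'.IsTriangulated] :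
    ∀ (n : ℕ) (X X' : T), C.S n X → InjG F' X X' ∧ SurjG F' X X' := by
  intro n
  induction n with
  | zero =>
    intro X X' hX
    obtain ⟨m, hm⟩ := C.exists_S X'
    exact C.dev1 m X X' hX hm
  | succ n ih =>
    intro X X' hX
    obtain ⟨a, b, hga, hlb, hb⟩ := hX
    have hgeX : C.GE (b - (n + 1)) X := C.ge_anti a _ X (by push_cast at hb; omega) hga
    obtain ⟨Q, s, hs⟩ := C.cov_ex b X hlb
    obtain ⟨Y, π, δ, hT⟩ := distinguished_cocone_triangle s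
    have hY := C.SY_of_cov n s π δ hT hs hlb hgeX
    have hSY : C.S n Y := C.S_of_nom n hY.1 hY.2
    have hSQn : C.S n Q := C.S_of_H n (C.cov_le b s hs) (C.cov_ge b s hs)
    have i1 := ih Q X' hSQn
    have i3 := ih Y X' hSY
    have i1' := ih (Q⟦(1 : ℤ)⟧) X' (C.S_shift n 1 hSQn)
    have i3' := ih ((Triangle.mk s π δ).invRotate.obj₁) X' (C.S_shift n (-1) hSY)
    exact ⟨five_contra_inj F' X' (Triangle.mk s π δ) hT i1.1 i3.1 i1'.2,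
      five_contra_surj F' X' (Triangle.mk s π δ) hT i1.2 i3.2 i3'.1⟩

include C in
theorem full_faithful' [F.Full] [F.Faithful] [F.IsTriangulated] [F'.IsTriangulated] :
    F'.Full ∧ F'.Faithful := by
  have key : ∀ X X' : T, InjG F' X X' ∧ SurjG F' X X' := fun X X' => by
    obtain ⟨n, hn⟩ := C.exists_S X
    exact C.dev2 n X X' hn
  constructor
  · exact { map_surjective := fun {X X'} χ => (key X X').2 χ }
  · refine { map_injective := fun {X X'} φ₁ φ₂ h => ?_ }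
    have h0 := (key X X').1 (φ₁ - φ₂) (by rw [F'.map_sub, h, sub_self])
    exact sub_eq_zero.1 h0

end Ctx0

end H10Sib
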