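import Groth.Agent.Lib.Helper10.SibExt

set_option backward.isDefEq.respectTransparency false
set_option backward.isDefEq.respectTransparency.types false
set_option autoImplicit false

universe v u v' u'

open CategoryTheory CategoryTheory.Limits CategoryTheory.Pretriangulated

namespace H10Sib

variable {T : Type u} [Category.{v} T] [Preadditive T] [HasZeroObject T] [HasShift T ℤ]
  [∀ n : ℤ, (shiftFunctor T n).Additive] [Pretriangulated T]
  {D : Type u'} [Category.{v'} D] [Preadditive D] [HasZeroObject D] [HasShift D ℤ]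
  [∀ n : ℤ, (shiftFunctor D n).Additive] [Pretriangulated D]
  {F F' : T ⥤ D} [F.CommShift ℤ] [F'.CommShift ℤ]

/-- dual covers and vanishing of negative homs -/
structure DCtx (C : Ctx0 F F') where
  DCov : ℤ → ∀ {K P : T}, (K ⟶ P) → Prop
  dcov_le : ∀ (a : ℤ) {K P : T} (p : K ⟶ P), DCov a p → C.LE a P
  dcov_ge : ∀ (a : ℤ) {K P : T} (p : K ⟶ P), DCov a p → C.GE a P
  dcov_ex : ∀ (a : ℤ) (K : T), C.GE a K → ∃ (P : T) (p : K ⟶ P), DCov a p
  fib_ge : ∀ (a : ℤ) {L K P : T} (j : L ⟶ K) (p : K ⟶ P) (δ : P ⟶ L⟦(1 : ℤ)⟧), DCov a p →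
    C.GE a K → Triangle.mk j p δ ∈ distTriang T → C.GE (a + 1) L
  fib_le : ∀ (a b : ℤ) {L K P : T} (j : L ⟶ K) (p : K ⟶ P) (δ : P ⟶ L⟦(1 : ℤ)⟧), DCov a p →
    a + 1 ≤ b → C.LE b K → Triangle.mk j p δ ∈ distTriang T → C.LE b L
  van0 : ∀ (a j : ℤ) (Q Q' : T), a < j → C.LE a Q → C.GE a Q → C.LE j Q' → C.GE j Q' →
    ∀ κ : F.obj Q ⟶ F.obj Q', κ = 0

namespace DCtx

variable {C : Ctx0 F F'} (E : DCtx C)

include E in
lemma van [F.IsTriangulated] :
    ∀ (n : ℕ) (a d : ℤ) (Q L : T), C.LE a Q → C.GE a Q → C.LE d L → C.GE (d - n) L →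
      a + 1 ≤ d - n → ∀ κ : F.obj Q ⟶ F.obj L, κ = 0 := by
  intro n
  induction n with
  | zero =>
    intro a d Q L hQl hQg hLl hLg had κ
    exact E.van0 a d Q L (by push_cast at had; omega) hQl hQg hLl
      (C.ge_anti _ d L (by push_cast; omega) hLg) κ
  | succ n ih =>
    intro a d Q L hQl hQg hLl hLg had κ
    obtain ⟨Q', s, hs⟩ := C.cov_ex d L hLl
    obtain ⟨Y, π, δ, hT⟩ := distinguished_cocone_triangle s
    have hLg' : C.GE (d - (n + 1)) L := C.ge_anti _ _ L (by push_cast; omega) hLg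
    have hY := C.SY_of_cov n s π δ hT hs hLl hLg'
    have h1 : κ ≫ F.map π = 0 :=
      ih a (d - 1) Q Y hQl hQg hY.1 hY.2 (by push_cast at had; omega) (κ ≫ F.map π)
    obtain ⟨κ', hκ'⟩ : ∃ κ' : F.obj Q ⟶ F.obj Q', κ = κ' ≫ F.map s :=
      Triangle.coyoneda_exact₂ _ (F.map_distinguished _ hT) κ h1
    have h2 : κ' = 0 := E.van0 a d Q Q' (by push_cast at had; omega) hQl hQg
      (C.cov_le d s hs) (C.cov_ge d s hs) κ'
    rw [hκ', h2, zero_comp]

include E in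
lemma exists_iso_aux [F.IsTriangulated] [F'.IsTriangulated] :
    ∀ (n : ℕ) (a : ℤ) (K : T), C.LE (a + n) K → C.GE a K →
      ∃ φ : F.obj K ⟶ F'.obj K, IsIso φ ∧ ∀ (Q : T), C.LE a Q → C.GE a Q → ∀ t : Q ⟶ K,
        F.map t ≫ φ = C.f0 a Q ≫ F'.map t := by
  intro n
  induction n with
  | zero =>
    intro a K hKl hKg
    have hKl' : C.LE a K := C.le_mono _ a K (by push_cast; omega) hKl
    exact ⟨C.f0 a K, C.f0_iso a K hKl' hKg, fun Q hQl hQg t =>
      C.f0_nat a Q K hQl hQg hKl' hKg t⟩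
  | succ n ih =>
    intro a K hKl hKg
    obtain ⟨P, p, hp⟩ := E.dcov_ex a K hKg
    obtain ⟨L, j, δ, hT⟩ := distinguished_cocone_triangle₁ p
    have hPl := E.dcov_le a p hp
    have hPg := E.dcov_ge a p hp
    have hLg : C.GE (a + 1) L := E.fib_ge a j p δ hp hKg hT
    have hLl : C.LE (a + (n + 1)) L :=
      E.fib_le a (a + (n + 1)) j p δ hp (by omega)
        (C.le_mono _ _ K (by push_cast; omega) hKl) hT
    have hL1l : C.LE (a + n) (L⟦(1 : ℤ)⟧) :=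
      C.le_mono _ _ _ (by omega) (C.le_shift (a + (n + 1)) 1 L hLl)
    have hL1g : C.GE a (L⟦(1 : ℤ)⟧) :=
      C.ge_anti _ _ _ (by omega) (C.ge_shift (a + 1) 1 L hLg)
    obtain ⟨φ', hφ'iso, hφ'⟩ := ih a (L⟦(1 : ℤ)⟧) hL1l hL1g
    haveI := hφ'iso
    obtain ⟨a₀, ha₀⟩ : ∃ a₀ : F.obj L ⟶ F'.obj L, a₀⟦(1 : ℤ)⟧' =
        (F.commShiftIso (1 : ℤ)).inv.app L ≫ φ' ≫ (F'.commShiftIso (1 : ℤ)).hom.app L :=
      (shiftFunctor D (1 : ℤ)).map_surjective _
    have ha₀iso : IsIso a₀ := by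
      haveI : IsIso ((shiftFunctor D (1 : ℤ)).map a₀) := by
        rw [ha₀]
        infer_instance
      exact isIso_of_reflects_iso a₀ (shiftFunctor D (1 : ℤ))
    have hδ := hφ' P hPl hPg δ
    have comm : (F.map δ ≫ (F.commShiftIso (1 : ℤ)).hom.app L) ≫ a₀⟦(1 : ℤ)⟧' =
        C.f0 a P ≫ F'.map δ ≫ (F'.commShiftIso (1 : ℤ)).hom.app L := by
      rw [ha₀, ← Category.assoc (C.f0 a P), ← hδ]
      simp only [Category.assoc, Iso.hom_inv_id_app_assoc]
    obtain ⟨h, hh1, hh2, hh3⟩ := exists_mid F F' j p δ hT a₀ (C.f0 a P) comm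
    refine ⟨h, hh3 ha₀iso (C.f0_iso a P hPl hPg), fun Q hQl hQg t => ?_⟩
    have hz : ∀ κ : F.obj Q ⟶ F'.obj L, κ = 0 := by
      intro κ
      have h0 := E.van n a (a + (n + 1)) Q L hQl hQg hLl
        (C.ge_anti _ _ L (by push_cast; omega) hLg) (by push_cast; omega) (κ ≫ inv a₀)
      have e : κ = (κ ≫ inv a₀) ≫ a₀ := by
        rw [Category.assoc, IsIso.inv_hom_id, Category.comp_id]
      rw [e, h0, zero_comp]
    apply eq_of_comp_eq F' j p δ hT hz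
    calc (F.map t ≫ h) ≫ F'.map p = F.map t ≫ (F.map p ≫ C.f0 a P) := by
          rw [Category.assoc, hh2]
      _ = F.map (t ≫ p) ≫ C.f0 a P := by rw [F.map_comp, Category.assoc]
      _ = C.f0 a Q ≫ F'.map (t ≫ p) := C.f0_nat a Q P hQl hQg hPl hPg (t ≫ p)
      _ = (C.f0 a Q ≫ F'.map t) ≫ F'.map p := by rw [F'.map_comp, Category.assoc]

include E in
theorem exists_iso [F.IsTriangulated] [F'.IsTriangulated] (K : T) :
    Nonempty (F.obj K ≅ F'.obj K) := by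
  obtain ⟨a, b, hg, hl⟩ := C.bdd K
  obtain ⟨φ, hφ, -⟩ := E.exists_iso_aux (b - a).toNat a K
    (C.le_mono b _ K (by
      have := Int.self_le_toNat (b - a)
      omega) hl) hg
  exact ⟨@asIso _ _ _ _ φ hφ⟩

end DCtx

end H10Sib
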