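import Groth.Agent.Lib.Helper10.SibBase
import Groth.Agent.Lib.Helper10.SibObj

set_option backward.isDefEq.respectTransparency false
set_option backward.isDefEq.respectTransparency.types false
set_option autoImplicit false

universe w v u v' u'

open CategoryTheory CategoryTheory.Limits CategoryTheory.Pretriangulated
  CategoryTheory.Triangulated

namespace H10Sib

open DerivedCategory

variable {A : Type u} [Category.{v} A] [Abelian A] [HasDerivedCategory.{w} A]

/-- chain map to a single complex from a complex strictly `≥ a` -/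
noncomputable def toSg (K : CochainComplex A ℤ) (a : ℤ) [K.IsStrictlyGE a] :
    K ⟶ sg a (K.X a) :=
  HomologicalComplex.mkHomToSingle (𝟙 _) (fun i hi => by
    have hi' : i + 1 = a := hi
    exact (K.isZero_of_isStrictlyGE a i (by omega)).eq_of_src _ _)

lemma toSg_f (K : CochainComplex A ℤ) (a : ℤ) [K.IsStrictlyGE a] :
    (toSg K a).f a = 𝟙 _ ≫ (HomologicalComplex.singleObjXSelf (ComplexShape.up ℤ) a (K.X a)).inv :=
  HomologicalComplex.mkHomToSingle_f _ _

lemma mono_homologyMap_toSg (K : CochainComplex A ℤ) (a : ℤ) [K.IsStrictlyGE a] :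
    Mono (HomologicalComplex.homologyMap (toSg K a) a) := by
  have hK : K.d (a - 1) a = 0 := (K.isZero_of_isStrictlyGE a (a - 1) (by omega)).eq_of_src _ _
  haveI : IsIso (K.pOpcycles a) := K.isIso_pOpcycles (a - 1) a (by simp) hK
  haveI : IsIso ((sg a (K.X a)).pOpcycles a) :=
    (sg a (K.X a)).isIso_pOpcycles (a - 1) a (by simp) (by simp)
  have h1 : K.pOpcycles a ≫ HomologicalComplex.opcyclesMap (toSg K a) a =
      (toSg K a).f a ≫ (sg a (K.X a)).pOpcycles a := HomologicalComplex.p_opcyclesMap _ _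
  haveI : IsIso ((toSg K a).f a) := by
    rw [toSg_f]
    infer_instance
  haveI : Mono (HomologicalComplex.opcyclesMap (toSg K a) a) := by
    have e : HomologicalComplex.opcyclesMap (toSg K a) a =
        inv (K.pOpcycles a) ≫ (toSg K a).f a ≫ (sg a (K.X a)).pOpcycles a := by
      rw [← h1, IsIso.inv_hom_id_assoc]
    rw [e]
    infer_instance
  have h2 : HomologicalComplex.homologyMap (toSg K a) a ≫ (sg a (K.X a)).homologyι a =
      K.homologyι a ≫ HomologicalComplex.opcyclesMap (toSg K a) a :=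
    HomologicalComplex.homologyι_naturality _ _
  haveI : Mono (HomologicalComplex.homologyMap (toSg K a) a ≫ (sg a (K.X a)).homologyι a) := by
    rw [h2]
    infer_instance
  exact mono_of_mono (HomologicalComplex.homologyMap (toSg K a) a) ((sg a (K.X a)).homologyι a)

/-- dual covers -/
lemma deff (a : ℤ) (X : DerivedCategory A) [X.IsGE a] :
    ∃ (N : A) (p : X ⟶ (singleFunctor A a).obj N), Mono ((homologyFunctor A a).map p) := by
  obtain ⟨K, hK, ⟨e⟩⟩ := X.exists_iso_Q_obj_of_isGE a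
  refine ⟨K.X a, (e.hom ≫ Q.map (toSg K a) : X ⟶ Q.obj (sg a (K.X a))), ?_⟩
  haveI : Mono ((homologyFunctor A a).map (Q.map (toSg K a))) := by
    rw [homologyFunctor_map_Q]
    haveI := mono_homologyMap_toSg K a
    infer_instance
  have e1 : (homologyFunctor A a).map (e.hom ≫ Q.map (toSg K a)) =
      (homologyFunctor A a).map e.hom ≫ (homologyFunctor A a).map (Q.map (toSg K a)) :=
    Functor.map_comp _ _ _
  rw [e1]
  infer_instance

lemma isGE_fiber (a : ℤ) (T : Triangle (DerivedCategory A)) (hT : T ∈ distTriang _)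
    [T.obj₂.IsGE a] [T.obj₃.IsGE a] (hmono : Mono ((homologyFunctor A a).map T.mor₂)) :
    T.obj₁.IsGE (a + 1) := by
  rw [isGE_iff]
  intro i hi
  have ex := HomologySequence.exact₁ T hT (i - 1) i (by omega)
  apply ex.isZero_of_both_zeros
  · exact (isZero_of_isGE T.obj₃ a (i - 1) (by omega)).eq_of_src _ _
  · by_cases h : i = a
    · subst h
      exact (HomologySequence.mono_homologyMap_mor₂_iff T hT i).1 hmono
    · exact (isZero_of_isGE T.obj₂ a i (by omega)).eq_of_tgt _ _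

lemma isLE_fiber (a b : ℤ) (hab : a + 1 ≤ b) (T : Triangle (DerivedCategory A))
    (hT : T ∈ distTriang _) [T.obj₂.IsLE b] [T.obj₃.IsLE a] : T.obj₁.IsLE b := by
  rw [isLE_iff]
  intro i hi
  have ex := HomologySequence.exact₁ T hT (i - 1) i (by omega)
  apply ex.isZero_of_both_zeros
  · exact (isZero_of_isLE T.obj₃ a (i - 1) (by omega)).eq_of_src _ _
  · exact (isZero_of_isLE T.obj₂ b i hi).eq_of_tgt _ _

/-- dual covers in the bounded derived category -/
def DCovB (a : ℤ) {K P : DerivedCategory.Bounded A} (p : K ⟶ P) : Prop :=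
  P.obj.IsLE a ∧ P.obj.IsGE a ∧ Mono ((homologyFunctor A a).map p.hom)

lemma dcovB_ex (a : ℤ) (K : DerivedCategory.Bounded A) (hK : K.obj.IsGE a) :
    ∃ (P : DerivedCategory.Bounded A) (p : K ⟶ P), DCovB a p := by
  haveI := hK
  obtain ⟨N, p', hp'⟩ := deff a K.obj
  obtain ⟨p, hp⟩ : ∃ p : K ⟶ sgB a N, p.hom = p' := ⟨ObjectProperty.homMk p', rfl⟩
  refine ⟨sgB a N, p, ?_, ?_, ?_⟩
  · exact (inferInstance : ((singleFunctor A a).obj N).IsLE a)
  · exact (inferInstance : ((singleFunctor A a).obj N).IsGE a)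
  · rw [hp]
    exact hp'

lemma fibB_ge (a : ℤ) {L K P : DerivedCategory.Bounded A} (j : L ⟶ K) (p : K ⟶ P)
    (δ : P ⟶ L⟦(1 : ℤ)⟧) (hp : DCovB a p) (hK : K.obj.IsGE a)
    (hT : Triangle.mk j p δ ∈ distTriang (DerivedCategory.Bounded A)) :
    L.obj.IsGE (a + 1) := by
  have hT' := (tA A).bounded.ι.map_distinguished _ hT
  haveI : ((tA A).bounded.ι.mapTriangle.obj (Triangle.mk j p δ)).obj₂.IsGE a := hK
  haveI : ((tA A).bounded.ι.mapTriangle.obj (Triangle.mk j p δ)).obj₃.IsGE a := hp.2.1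
  exact isGE_fiber a _ hT' hp.2.2

lemma fibB_le (a b : ℤ) {L K P : DerivedCategory.Bounded A} (j : L ⟶ K) (p : K ⟶ P)
    (δ : P ⟶ L⟦(1 : ℤ)⟧) (hp : DCovB a p) (hab : a + 1 ≤ b) (hK : K.obj.IsLE b)
    (hT : Triangle.mk j p δ ∈ distTriang (DerivedCategory.Bounded A)) :
    L.obj.IsLE b := by
  have hT' := (tA A).bounded.ι.map_distinguished _ hT
  haveI : ((tA A).bounded.ι.mapTriangle.obj (Triangle.mk j p δ)).obj₂.IsLE b := hK
  haveI : ((tA A).bounded.ι.mapTriangle.obj (Triangle.mk j p δ)).obj₃.IsLE a := hp.1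
  exact isLE_fiber a b hab _ hT'

variable {D : Type u'} [Category.{v'} D] [Preadditive D] [HasZeroObject D] [HasShift D ℤ]
  [∀ n : ℤ, (shiftFunctor D n).Additive] [Pretriangulated D]
  (F F' : DerivedCategory.Bounded A ⥤ D) [F.CommShift ℤ] [F'.CommShift ℤ]
  (θ : DEquiv.singleB A ⋙ F ≅ DEquiv.singleB A ⋙ F')

lemma van0B
    (h2 : ∀ (X Y : A) (q : ℤ), q < 0 →
      ∀ f : F.obj (SB X) ⟶ (shiftFunctor D q).obj (F.obj (SB Y)), f = 0)
    (a j : ℤ) (Q Q' : DerivedCategory.Bounded A) (haj : a < j) (hQl : Q.obj.IsLE a)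
    (hQg : Q.obj.IsGE a) (hQ'l : Q'.obj.IsLE j) (hQ'g : Q'.obj.IsGE j)
    (κ : F.obj Q ⟶ F.obj Q') : κ = 0 := by
  obtain ⟨X, ⟨e⟩⟩ := exists_iso_shift_single a Q hQl hQg
  obtain ⟨Y, ⟨e'⟩⟩ := exists_iso_shift_single j Q' hQ'l hQ'g
  obtain ⟨α, hα⟩ : ∃ α : (F.obj (SB X))⟦-a⟧ ⟶ F.obj Q, IsIso α :=
    ⟨(F.commShiftIso (-a)).inv.app (SB X) ≫ F.map e.inv, inferInstance⟩
  obtain ⟨β, hβ⟩ : ∃ β : F.obj Q' ⟶ (F.obj (SB Y))⟦-j⟧, IsIso β :=
    ⟨F.map e'.hom ≫ (F.commShiftIso (-j)).hom.app (SB Y), inferInstance⟩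
  haveI := hα
  haveI := hβ
  suffices h0 : α ≫ κ ≫ β = 0 by
    have h1 : κ ≫ β = 0 := (cancel_epi α).1 (h0.trans comp_zero.symm)
    exact (cancel_mono β).1 (h1.trans zero_comp.symm)
  apply (shiftFunctor D a).map_injective
  rw [Functor.map_zero]
  obtain ⟨γ, hγ⟩ : ∃ γ : F.obj (SB X) ⟶ ((F.obj (SB X))⟦-a⟧)⟦a⟧, IsIso γ :=
    ⟨(shiftFunctorCompIsoId D (-a) a (by omega)).inv.app _, inferInstance⟩
  obtain ⟨γ', hγ'⟩ : ∃ γ' : ((F.obj (SB Y))⟦-j⟧)⟦a⟧ ⟶ (F.obj (SB Y))⟦a - j⟧, IsIso γ' :=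
    ⟨(shiftFunctorAdd' D (-j) a (a - j) (by omega)).inv.app _, inferInstance⟩
  haveI := hγ
  haveI := hγ'
  have key := h2 X Y (a - j) (by omega) (γ ≫ (α ≫ κ ≫ β)⟦a⟧' ≫ γ')
  have h1 : (α ≫ κ ≫ β)⟦a⟧' ≫ γ' = 0 := (cancel_epi γ).1 (key.trans comp_zero.symm)
  exact (cancel_mono γ').1 (h1.trans zero_comp.symm)

/-- the dual context attached to the bounded derived category -/
noncomputable def dctxB
    (h2 : ∀ (X Y : A) (q : ℤ), q < 0 →
      ∀ f : F.obj (SB X) ⟶ (shiftFunctor D q).obj (F.obj (SB Y)), f = 0) :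
    DCtx (ctx0B F F' θ False (fun M => ⟨M, 𝟙 M, inferInstance, fun h => h.elim⟩)) where
  DCov a {K P} p := DCovB a p
  dcov_le a {K P} p h := h.1
  dcov_ge a {K P} p h := h.2.1
  dcov_ex a K hK := dcovB_ex a K hK
  fib_ge a {L K P} j p δ hp hK hT := fibB_ge a j p δ hp hK hT
  fib_le a b {L K P} j p δ hp hab hK hT := fibB_le a b j p δ hp hab hK hT
  van0 a j Q Q' haj hQl hQg hQ'l hQ'g κ := van0B F h2 a j Q Q' haj hQl hQg hQ'l hQ'g κ

end H10Sib
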