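import Mathlib

set_option backward.isDefEq.respectTransparency false
set_option backward.isDefEq.respectTransparency.types false
set_option autoImplicit false

universe v u v' u'

open CategoryTheory CategoryTheory.Limits

namespace H10Sib

variable {T : Type u} [Category.{v} T] [HasShift T ℤ]
  {D : Type u'} [Category.{v'} D] [HasShift D ℤ]
  (F F' : T ⥤ D) [F.CommShift ℤ] [F'.CommShift ℤ]

/-- the shifted comparison morphism -/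
def tw (S : T) (θ₀ : F.obj S ⟶ F'.obj S) (m : ℤ) : F.obj (S⟦m⟧) ⟶ F'.obj (S⟦m⟧) :=
  (F.commShiftIso m).hom.app S ≫ θ₀⟦m⟧' ≫ (F'.commShiftIso m).inv.app S

lemma isIso_tw (S : T) (θ₀ : F.obj S ⟶ F'.obj S) [IsIso θ₀] (m : ℤ) :
    IsIso (tw F F' S θ₀ m) := by
  unfold tw
  infer_instance

lemma tw_nat {S S' : T} (g : S ⟶ S') (θ₀ : F.obj S ⟶ F'.obj S) (θ₀' : F.obj S' ⟶ F'.obj S')
    (hθ : F.map g ≫ θ₀' = θ₀ ≫ F'.map g) (m : ℤ) :
    F.map (g⟦m⟧') ≫ tw F F' S' θ₀' m = tw F F' S θ₀ m ≫ F'.map (g⟦m⟧') := by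
  unfold tw
  calc F.map (g⟦m⟧') ≫ (F.commShiftIso m).hom.app S' ≫ θ₀'⟦m⟧' ≫ (F'.commShiftIso m).inv.app S'
      = (F.commShiftIso m).hom.app S ≫ ((F.map g)⟦m⟧' ≫ θ₀'⟦m⟧') ≫
          (F'.commShiftIso m).inv.app S' := by
        rw [← Category.assoc, F.commShiftIso_hom_naturality]
        simp only [Category.assoc]
    _ = (F.commShiftIso m).hom.app S ≫ (θ₀⟦m⟧' ≫ (F'.map g)⟦m⟧') ≫
          (F'.commShiftIso m).inv.app S' := by
        rw [← Functor.map_comp, hθ, Functor.map_comp]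
    _ = ((F.commShiftIso m).hom.app S ≫ θ₀⟦m⟧' ≫ (F'.commShiftIso m).inv.app S) ≫
          F'.map (g⟦m⟧') := by
        simp only [Category.assoc, F'.commShiftIso_inv_naturality]

lemma tw_add (S : T) (θ₀ : F.obj S ⟶ F'.obj S) (a c : ℤ) (h : a + 1 = c) :
    F.map ((shiftFunctorAdd' T a 1 c h).inv.app S) ≫ tw F F' S θ₀ c ≫
        F'.map ((shiftFunctorAdd' T a 1 c h).hom.app S) =
      (F.commShiftIso (1 : ℤ)).hom.app (S⟦a⟧) ≫ (tw F F' S θ₀ a)⟦(1 : ℤ)⟧' ≫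
        (F'.commShiftIso (1 : ℤ)).inv.app (S⟦a⟧) := by
  have eF := NatTrans.congr_app (congr_arg Iso.hom (F.commShiftIso_add' h)) S
  have eF' := NatTrans.congr_app (congr_arg Iso.inv (F'.commShiftIso_add' h)) S
  rw [Functor.CommShift.isoAdd'_hom_app] at eF
  rw [Functor.CommShift.isoAdd'_inv_app] at eF'
  have nat := (shiftFunctorAdd' D a 1 c h).hom.naturality θ₀
  unfold tw
  rw [eF, eF']
  simp only [Category.assoc, Functor.map_comp]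
  have h1 : F.map ((shiftFunctorAdd' T a 1 c h).inv.app S) ≫
      F.map ((shiftFunctorAdd' T a 1 c h).hom.app S) = 𝟙 _ := by
    rw [← F.map_comp, Iso.inv_hom_id_app, F.map_id]
  have h2 : F'.map ((shiftFunctorAdd' T a 1 c h).inv.app S) ≫
      F'.map ((shiftFunctorAdd' T a 1 c h).hom.app S) = 𝟙 _ := by
    rw [← F'.map_comp, Iso.inv_hom_id_app, F'.map_id]
  have h3 : (shiftFunctorAdd' D a 1 c h).inv.app (F.obj S) ≫ (shiftFunctor D c).map θ₀ ≫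
      (shiftFunctorAdd' D a 1 c h).hom.app (F'.obj S) =
      (shiftFunctor D 1).map ((shiftFunctor D a).map θ₀) := by
    rw [nat, Iso.inv_hom_id_app_assoc]
    rfl
  rw [reassoc_of% h1, h2, reassoc_of% h3]
  erw [Category.comp_id]

lemma conj_nat {Q Q' S S' : T} (m : ℤ) (e : Q ≅ S⟦m⟧) (e' : Q' ≅ S'⟦m⟧) (φ : Q ⟶ Q')
    (g : S ⟶ S') (hg : e.inv ≫ φ ≫ e'.hom = g⟦m⟧')
    (θ₀ : F.obj S ⟶ F'.obj S) (θ₀' : F.obj S' ⟶ F'.obj S')
    (hθ : F.map g ≫ θ₀' = θ₀ ≫ F'.map g) :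
    F.map φ ≫ (F.map e'.hom ≫ tw F F' S' θ₀' m ≫ F'.map e'.inv) =
      (F.map e.hom ≫ tw F F' S θ₀ m ≫ F'.map e.inv) ≫ F'.map φ := by
  have h1 : φ ≫ e'.hom = e.hom ≫ g⟦m⟧' := by rw [← hg, e.hom_inv_id_assoc]
  have h2 : g⟦m⟧' ≫ e'.inv = e.inv ≫ φ := by
    rw [← hg]
    simp only [Category.assoc, Iso.hom_inv_id, Category.comp_id]
  calc F.map φ ≫ (F.map e'.hom ≫ tw F F' S' θ₀' m ≫ F'.map e'.inv)
      = F.map (φ ≫ e'.hom) ≫ tw F F' S' θ₀' m ≫ F'.map e'.inv := by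
        rw [F.map_comp, Category.assoc]
    _ = F.map e.hom ≫ (F.map (g⟦m⟧') ≫ tw F F' S' θ₀' m) ≫ F'.map e'.inv := by
        rw [h1, F.map_comp]
        simp only [Category.assoc]
    _ = F.map e.hom ≫ (tw F F' S θ₀ m ≫ F'.map (g⟦m⟧')) ≫ F'.map e'.inv := by
        rw [tw_nat F F' g θ₀ θ₀' hθ m]
    _ = F.map e.hom ≫ tw F F' S θ₀ m ≫ F'.map (g⟦m⟧' ≫ e'.inv) := by
        rw [F'.map_comp]
        simp only [Category.assoc]
    _ = (F.map e.hom ≫ tw F F' S θ₀ m ≫ F'.map e.inv) ≫ F'.map φ := by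
        rw [h2, F'.map_comp]
        simp only [Category.assoc]

lemma conj_shift {Q S : T} (a c : ℤ) (h : a + 1 = c) (e : Q ≅ S⟦a⟧)
    (θ₀ : F.obj S ⟶ F'.obj S) :
    F.map (e.hom⟦(1 : ℤ)⟧' ≫ (shiftFunctorAdd' T a 1 c h).inv.app S) ≫ tw F F' S θ₀ c ≫
        F'.map ((shiftFunctorAdd' T a 1 c h).hom.app S ≫ e.inv⟦(1 : ℤ)⟧') =
      (F.commShiftIso (1 : ℤ)).hom.app Q ≫
        (F.map e.hom ≫ tw F F' S θ₀ a ≫ F'.map e.inv)⟦(1 : ℤ)⟧' ≫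
          (F'.commShiftIso (1 : ℤ)).inv.app Q := by
  calc F.map (e.hom⟦(1 : ℤ)⟧' ≫ (shiftFunctorAdd' T a 1 c h).inv.app S) ≫ tw F F' S θ₀ c ≫
        F'.map ((shiftFunctorAdd' T a 1 c h).hom.app S ≫ e.inv⟦(1 : ℤ)⟧')
      = F.map (e.hom⟦(1 : ℤ)⟧') ≫ (F.map ((shiftFunctorAdd' T a 1 c h).inv.app S) ≫
          tw F F' S θ₀ c ≫ F'.map ((shiftFunctorAdd' T a 1 c h).hom.app S)) ≫
            F'.map (e.inv⟦(1 : ℤ)⟧') := by
        rw [F.map_comp, F'.map_comp]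
        simp only [Category.assoc]
    _ = (F.map (e.hom⟦(1 : ℤ)⟧') ≫ (F.commShiftIso (1 : ℤ)).hom.app (S⟦a⟧)) ≫
          (tw F F' S θ₀ a)⟦(1 : ℤ)⟧' ≫
            ((F'.commShiftIso (1 : ℤ)).inv.app (S⟦a⟧) ≫ F'.map (e.inv⟦(1 : ℤ)⟧')) := by
        rw [tw_add F F' S θ₀ a c h]
        simp only [Category.assoc]
    _ = ((F.commShiftIso (1 : ℤ)).hom.app Q ≫ (F.map e.hom)⟦(1 : ℤ)⟧') ≫
          (tw F F' S θ₀ a)⟦(1 : ℤ)⟧' ≫
            ((F'.map e.inv)⟦(1 : ℤ)⟧' ≫ (F'.commShiftIso (1 : ℤ)).inv.app Q) := by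
        rw [F.commShiftIso_hom_naturality, F'.commShiftIso_inv_naturality]
    _ = (F.commShiftIso (1 : ℤ)).hom.app Q ≫
        (F.map e.hom ≫ tw F F' S θ₀ a ≫ F'.map e.inv)⟦(1 : ℤ)⟧' ≫
          (F'.commShiftIso (1 : ℤ)).inv.app Q := by
        simp only [Functor.map_comp, Category.assoc]

end H10Sib
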