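import Mathlib

set_option backward.isDefEq.respectTransparency false
set_option backward.isDefEq.respectTransparency.types false
set_option autoImplicit false

universe v v' u u'

open CategoryTheory CategoryTheory.Limits CategoryTheory.Pretriangulated

namespace H10SpanFF

section Basic

variable {D : Type u} [Category.{v} D] {D' : Type u'} [Category.{v'} D'] (F : D ⥤ D')

/-- `F` is bijective on `Hom(A, B)` -/
def Bij (A B : D) : Prop := Function.Bijective (fun f : A ⟶ B => F.map f)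

variable {F}

lemma Bij.inj {A B : D} (h : Bij F A B) {f g : A ⟶ B} (hfg : F.map f = F.map g) : f = g :=
  h.1 hfg

lemma Bij.surj {A B : D} (h : Bij F A B) (g : F.obj A ⟶ F.obj B) : ∃ f : A ⟶ B, F.map f = g :=
  h.2 g

lemma bij_of_iso_right {A B B' : D} (e : B ≅ B') (h : Bij F A B) : Bij F A B' := by
  constructor
  · intro f g hfg
    have hfg' : F.map f = F.map g := hfg
    have h1 : F.map (f ≫ e.inv) = F.map (g ≫ e.inv) := by rw [F.map_comp, F.map_comp, hfg']
    have h2 := h.inj h1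
    exact (cancel_mono e.inv).1 h2
  · intro g
    obtain ⟨f, hf⟩ := h.surj (g ≫ F.map e.inv)
    refine ⟨f ≫ e.hom, ?_⟩
    show F.map (f ≫ e.hom) = g
    rw [F.map_comp, hf, Category.assoc, ← F.map_comp, e.inv_hom_id, F.map_id, Category.comp_id]

variable {G : D' ⥤ D}

lemma comp_unit (adj : F ⊣ G) {A B : D} (u : A ⟶ B) :
    u ≫ adj.unit.app B = adj.homEquiv A (F.obj B) (F.map u) := by
  rw [adj.homEquiv_unit]
  exact adj.unit.naturality u

lemma postcomp_unit_inj (adj : F ⊣ G) {A B : D} (h : Bij F A B) {u u' : A ⟶ B}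
    (huu' : u ≫ adj.unit.app B = u' ≫ adj.unit.app B) : u = u' := by
  rw [comp_unit, comp_unit] at huu'
  exact h.inj ((adj.homEquiv _ _).injective huu')

lemma postcomp_unit_surj (adj : F ⊣ G) {A B : D} (h : Bij F A B) (w : A ⟶ G.obj (F.obj B)) :
    ∃ u : A ⟶ B, u ≫ adj.unit.app B = w := by
  obtain ⟨u, hu⟩ := h.surj ((adj.homEquiv A (F.obj B)).symm w)
  refine ⟨u, ?_⟩
  rw [comp_unit, hu, Equiv.apply_symm_apply]

lemma bij_of_isIso_unit (adj : F ⊣ G) (B : D) [IsIso (adj.unit.app B)] (A : D) : Bij F A B := by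
  constructor
  · intro u u' huu'
    have h' : F.map u = F.map u' := huu'
    have : u ≫ adj.unit.app B = u' ≫ adj.unit.app B := by rw [comp_unit, comp_unit, h']
    exact (cancel_mono _).1 this
  · intro g
    refine ⟨adj.homEquiv A (F.obj B) g ≫ inv (adj.unit.app B), ?_⟩
    show F.map (adj.homEquiv A (F.obj B) g ≫ inv (adj.unit.app B)) = g
    apply (adj.homEquiv A (F.obj B)).injective
    rw [← comp_unit, Category.assoc, IsIso.inv_hom_id, Category.comp_id]

variable {H : D' ⥤ D}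

lemma homEquiv_counit_comp (adj' : H ⊣ F) {A B : D} (u : A ⟶ B) :
    adj'.homEquiv (F.obj A) B (adj'.counit.app A ≫ u) = F.map u := by
  rw [adj'.homEquiv_unit, F.map_comp, ← Category.assoc, adj'.right_triangle_components,
    Category.id_comp]

lemma precomp_counit_inj (adj' : H ⊣ F) {A B : D} (h : Bij F A B) {u u' : A ⟶ B}
    (huu' : adj'.counit.app A ≫ u = adj'.counit.app A ≫ u') : u = u' := by
  apply h.inj
  rw [← homEquiv_counit_comp adj', ← homEquiv_counit_comp adj', huu']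

lemma precomp_counit_surj (adj' : H ⊣ F) {A B : D} (h : Bij F A B)
    (w : H.obj (F.obj A) ⟶ B) : ∃ u : A ⟶ B, adj'.counit.app A ≫ u = w := by
  obtain ⟨u, hu⟩ := h.surj (adj'.homEquiv (F.obj A) B w)
  refine ⟨u, ?_⟩
  apply (adj'.homEquiv (F.obj A) B).injective
  rw [homEquiv_counit_comp, hu]

end Basic

section Tri

variable {D : Type u} [Category.{v} D] [Preadditive D] [HasZeroObject D] [HasShift D ℤ]
    [∀ n : ℤ, (shiftFunctor D n).Additive] [Pretriangulated D]
    {D' : Type u'} [Category.{v'} D'] [Preadditive D'] [HasZeroObject D'] [HasShift D' ℤ]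
    [∀ n : ℤ, (shiftFunctor D' n).Additive] [Pretriangulated D']
    {F : D ⥤ D'} [F.CommShift ℤ]

lemma bij_shift {A B : D} (n : ℤ) (h : Bij F A B) :
    Bij F ((shiftFunctor D n).obj A) ((shiftFunctor D n).obj B) := by
  have nat : ∀ f : A ⟶ B, F.map ((shiftFunctor D n).map f) ≫ (F.commShiftIso n).hom.app B =
      (F.commShiftIso n).hom.app A ≫ (shiftFunctor D' n).map (F.map f) :=
    fun f => (F.commShiftIso n).hom.naturality f
  constructor
  · intro g g' hgg'
    have hgg'' : F.map g = F.map g' := hgg'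
    obtain ⟨f, rfl⟩ := (shiftFunctor D n).map_surjective g
    obtain ⟨f', rfl⟩ := (shiftFunctor D n).map_surjective g'
    have h1 : (F.commShiftIso n).hom.app A ≫ (shiftFunctor D' n).map (F.map f) =
        (F.commShiftIso n).hom.app A ≫ (shiftFunctor D' n).map (F.map f') := by
      rw [← nat, ← nat, hgg'']
    have h2 := (cancel_epi _).1 h1
    have h3 := (shiftFunctor D' n).map_injective h2
    rw [h.inj h3]
  · intro g'
    obtain ⟨h', hh'⟩ : ∃ h' : F.obj A ⟶ F.obj B, (shiftFunctor D' n).map h' =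
        (F.commShiftIso n).inv.app A ≫ g' ≫ (F.commShiftIso n).hom.app B :=
      (shiftFunctor D' n).map_surjective _
    obtain ⟨f, hf⟩ := h.surj h'
    refine ⟨(shiftFunctor D n).map f, ?_⟩
    show F.map ((shiftFunctor D n).map f) = g'
    rw [← cancel_mono ((F.commShiftIso n).hom.app B), nat, hf, hh', Iso.hom_inv_id_app_assoc]

lemma bij_shift_of_forall {X E' : D} (hX : ∀ i : ℤ, Bij F X ((shiftFunctor D i).obj E'))
    (n i : ℤ) : Bij F ((shiftFunctor D n).obj X) ((shiftFunctor D i).obj E') :=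
  bij_of_iso_right ((shiftFunctorAdd' D (i - n) n i (by omega)).symm.app E')
    (bij_shift n (hX (i - n)))

variable {G : D' ⥤ D}

lemma eq_zero_of_comp_shift_unit (adj : F ⊣ G) {X B : D}
    (h1 : Bij F ((shiftFunctor D (-1 : ℤ)).obj X) B)
    (v : X ⟶ (shiftFunctor D (1 : ℤ)).obj B)
    (hv : v ≫ (shiftFunctor D (1 : ℤ)).map (adj.unit.app B) = 0) : v = 0 := by
  obtain ⟨c, -⟩ : ∃ c : shiftFunctor D (1 : ℤ) ⋙ shiftFunctor D (-1 : ℤ) ≅ 𝟭 D, True :=
    ⟨shiftFunctorCompIsoId D (1 : ℤ) (-1) (by norm_num), trivial⟩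
  have nat' : c.hom.app B ≫ adj.unit.app B =
      (shiftFunctor D (-1 : ℤ)).map ((shiftFunctor D (1 : ℤ)).map (adj.unit.app B)) ≫
        c.hom.app _ := (c.hom.naturality (adj.unit.app B)).symm
  have hw : ((shiftFunctor D (-1 : ℤ)).map v ≫ c.hom.app B) ≫ adj.unit.app B =
      0 ≫ adj.unit.app B := by
    rw [zero_comp, Category.assoc, nat', ← Category.assoc, ← Functor.map_comp, hv,
      Functor.map_zero, zero_comp]
  have hw' := postcomp_unit_inj adj h1 hw
  have h2 : (shiftFunctor D (-1 : ℤ)).map v = 0 :=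
    (cancel_mono (c.hom.app B)).1 (by rw [hw', zero_comp])
  exact (shiftFunctor D (-1 : ℤ)).map_injective (by rw [h2, Functor.map_zero])

lemma hom_cone_eq_zero (adj : F ⊣ G) {B C : D} (β : G.obj (F.obj B) ⟶ C)
    (γ : C ⟶ (shiftFunctor D (1 : ℤ)).obj B)
    (hT : Triangle.mk (adj.unit.app B) β γ ∈ distTriang D) {X : D} (h0 : Bij F X B)
    (h1 : Bij F ((shiftFunctor D (-1 : ℤ)).obj X) B) (u : X ⟶ C) : u = 0 := by
  have hγ : γ ≫ (shiftFunctor D (1 : ℤ)).map (adj.unit.app B) = 0 :=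
    comp_distTriang_mor_zero₃₁ _ hT
  have hβ : adj.unit.app B ≫ β = 0 := comp_distTriang_mor_zero₁₂ _ hT
  have h3 : u ≫ γ = 0 :=
    eq_zero_of_comp_shift_unit adj h1 (u ≫ γ) (by rw [Category.assoc, hγ, comp_zero])
  obtain ⟨g, hg⟩ : ∃ g : X ⟶ G.obj (F.obj B), u = g ≫ β :=
    Triangle.coyoneda_exact₃ _ hT u h3
  obtain ⟨g', rfl⟩ := postcomp_unit_surj adj h0 g
  rw [hg, Category.assoc, hβ, comp_zero]

lemma isIso_unit (adj : F ⊣ G) (S : Set D)
    (h2 : ∀ K : D, (∀ E ∈ S, ∀ (i : ℤ) (f : E ⟶ (shiftFunctor D i).obj K), f = 0) → IsZero K)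
    (B : D) (hB : ∀ E ∈ S, ∀ m : ℤ, Bij F ((shiftFunctor D m).obj E) B ∧
      Bij F ((shiftFunctor D (-1 : ℤ)).obj ((shiftFunctor D m).obj E)) B) :
    IsIso (adj.unit.app B) := by
  obtain ⟨C, β, γ, hT⟩ := distinguished_cocone_triangle (adj.unit.app B)
  have hC : IsZero C := by
    apply h2
    intro E hE i f
    obtain ⟨c, -⟩ : ∃ c : shiftFunctor D i ⋙ shiftFunctor D (-i) ≅ 𝟭 D, True :=
      ⟨shiftFunctorCompIsoId D i (-i) (by omega), trivial⟩
    have hz : (shiftFunctor D (-i)).map f ≫ c.hom.app C = 0 :=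
      hom_cone_eq_zero adj β γ hT (hB E hE (-i)).1 (hB E hE (-i)).2 _
    have h2' : (shiftFunctor D (-i)).map f = 0 :=
      (cancel_mono (c.hom.app C)).1 (by rw [hz, zero_comp])
    exact (shiftFunctor D (-i)).map_injective (by rw [h2', Functor.map_zero])
  exact (Triangle.isZero₃_iff_isIso₁ _ hT).1 hC

variable {H : D' ⥤ D}

lemma hom_cone'_eq_zero (adj' : H ⊣ F) {A C' : D} (β' : A ⟶ C')
    (γ' : C' ⟶ (shiftFunctor D (1 : ℤ)).obj (H.obj (F.obj A)))
    (hT : Triangle.mk (adj'.counit.app A) β' γ' ∈ distTriang D) {B : D} (h0 : Bij F A B)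
    (h1 : Bij F A ((shiftFunctor D (-1 : ℤ)).obj B)) (u : C' ⟶ B) : u = 0 := by
  have hε : adj'.counit.app A ≫ β' = 0 := comp_distTriang_mor_zero₁₂ _ hT
  have hγ : γ' ≫ (shiftFunctor D (1 : ℤ)).map (adj'.counit.app A) = 0 :=
    comp_distTriang_mor_zero₃₁ _ hT
  have h3 : β' ≫ u = 0 :=
    precomp_counit_inj adj' h0 (by rw [← Category.assoc, hε, zero_comp, comp_zero])
  obtain ⟨g, hg⟩ : ∃ g : (shiftFunctor D (1 : ℤ)).obj (H.obj (F.obj A)) ⟶ B, u = γ' ≫ g :=
    Triangle.yoneda_exact₃ _ hT u h3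
  obtain ⟨e, -⟩ : ∃ e : shiftFunctor D (-1 : ℤ) ⋙ shiftFunctor D (1 : ℤ) ≅ 𝟭 D, True :=
    ⟨shiftFunctorCompIsoId D (-1 : ℤ) 1 (by norm_num), trivial⟩
  obtain ⟨v, hv⟩ : ∃ v : H.obj (F.obj A) ⟶ (shiftFunctor D (-1 : ℤ)).obj B,
      (shiftFunctor D (1 : ℤ)).map v = g ≫ e.inv.app B :=
    (shiftFunctor D (1 : ℤ)).map_surjective _
  obtain ⟨v', rfl⟩ := precomp_counit_surj adj' h1 v
  have hg' : g = (shiftFunctor D (1 : ℤ)).map (adj'.counit.app A) ≫
      (shiftFunctor D (1 : ℤ)).map v' ≫ e.hom.app B := by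
    rw [← Category.assoc, ← Functor.map_comp, hv, Category.assoc, Iso.inv_hom_id_app]
    exact (Category.comp_id g).symm
  rw [hg, hg', ← Category.assoc, hγ, zero_comp]

theorem full_faithful (F : D ⥤ D') [F.CommShift ℤ] [F.IsLeftAdjoint] [F.IsRightAdjoint]
    (S : Set D)
    (h2 : ∀ K : D, (∀ E ∈ S, ∀ (i : ℤ) (f : E ⟶ (shiftFunctor D i).obj K), f = 0) → IsZero K)
    (h3 : ∀ K : D, (∀ E ∈ S, ∀ (i : ℤ) (f : K ⟶ (shiftFunctor D i).obj E), f = 0) → IsZero K)
    (h4 : ∀ E ∈ S, ∀ E' ∈ S, ∀ i : ℤ,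
      Function.Bijective (fun f : E ⟶ (shiftFunctor D i).obj E' => F.map f)) :
    F.Full ∧ F.Faithful := by
  have adj : F ⊣ F.rightAdjoint := Adjunction.ofIsLeftAdjoint F
  have adj' : F.leftAdjoint ⊣ F := Adjunction.ofIsRightAdjoint F
  have hX : ∀ E ∈ S, ∀ E' ∈ S, ∀ (m i : ℤ),
      Bij F ((shiftFunctor D m).obj E) ((shiftFunctor D i).obj E') :=
    fun E hE E' hE' m i => bij_shift_of_forall (fun j => h4 E hE E' hE' j) m i
  have good : ∀ E' ∈ S, ∀ (i : ℤ) (A : D), Bij F A ((shiftFunctor D i).obj E') := by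
    intro E' hE' i A
    haveI : IsIso (adj.unit.app ((shiftFunctor D i).obj E')) :=
      isIso_unit adj S h2 _ (fun E hE m => ⟨hX E hE E' hE' m i,
        bij_shift_of_forall (fun j => hX E hE E' hE' m j) (-1) i⟩)
    exact bij_of_isIso_unit adj _ A
  have iso : ∀ A, IsIso (adj'.counit.app A) := by
    intro A
    obtain ⟨C', β', γ', hT⟩ := distinguished_cocone_triangle (adj'.counit.app A)
    have hC : IsZero C' := h3 C' (fun E hE i f =>
      hom_cone'_eq_zero adj' β' γ' hT (good E hE i A)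
        (bij_of_iso_right ((shiftFunctorAdd' D i (-1) (i - 1) (by omega)).app E)
          (good E hE (i - 1) A)) f)
    exact (Triangle.isZero₃_iff_isIso₁ _ hT).1 hC
  haveI := iso
  haveI : IsIso adj'.counit := NatIso.isIso_of_isIso_app _
  exact ⟨adj'.fullyFaithfulROfIsIsoCounit.full, adj'.fullyFaithfulROfIsIsoCounit.faithful⟩

end Tri

end H10SpanFF
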