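import Mathlib

/-!
# Elements of `span (range g) • ⊤` are combinations `∑ g i • t i` (sub-lemma for F of S19496)
-/

set_option autoImplicit false

namespace Groth.Agent.Lib.Helper10.SpanSmulTop

theorem exists_sum_smul_of_mem_span_smul_top {R M : Type*} [CommRing R] [AddCommGroup M]
    [Module R M] {r : ℕ} (g : Fin r → R) (s : M)
    (hs : s ∈ Ideal.span (Set.range g) • (⊤ : Submodule R M)) :
    ∃ t : Fin r → M, s = ∑ i, g i • t i := by
  refine Submodule.smul_induction_on (p := fun s => ∃ t : Fin r → M, s = ∑ i, g i • t i) hs ?_ ?_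
  · intro a ha m _
    obtain ⟨c, rfl⟩ := Ideal.mem_span_range_iff_exists_fun.mp ha
    refine ⟨fun i => c i • m, ?_⟩
    rw [Finset.sum_smul]
    refine Finset.sum_congr rfl fun i _ => ?_
    rw [smul_smul, mul_comm]
  · rintro x y ⟨t, rfl⟩ ⟨t', rfl⟩
    refine ⟨fun i => t i + t' i, ?_⟩
    rw [← Finset.sum_add_distrib]
    exact Finset.sum_congr rfl fun i _ => (smul_add _ _ _).symm

/-- variant: membership in `I • ⊤` with `I = span (range g)` given as a hypothesis. -/
theorem exists_sum_smul_of_mem_smul_top {R M : Type*} [CommRing R] [AddCommGroup M]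
    [Module R M] {r : ℕ} (g : Fin r → R) (I : Ideal R) (hI : I = Ideal.span (Set.range g))
    (s : M) (hs : s ∈ I • (⊤ : Submodule R M)) :
    ∃ t : Fin r → M, s = ∑ i, g i • t i := by
  subst hI
  exact exists_sum_smul_of_mem_span_smul_top g s hs

end Groth.Agent.Lib.Helper10.SpanSmulTop
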