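import Mathlib

/-!
# Ranges of morphisms of affine schemes: minimal points and lifting of generalizations (helper10)

* `exists_minimal_range_comap`: below every point of the range of `Spec B → Spec R` there is a point
  of the range which is minimal in the range (a minimal prime over the kernel).
* `exists_le_mem_range_comap`: if every basic open neighbourhood of `p` meets the range, some point
  of the range generalizes `p`.
* scheme versions `exists_minimal_mem_range`, `exists_specializes_mem_range` for morphisms of affine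
  schemes.
-/

set_option autoImplicit false

universe u

open CategoryTheory AlgebraicGeometry TopologicalSpace Topology

namespace H10PT.SpecChart

section Ring

variable {R B : Type*} [CommRing R] [CommRing B] (φ : R →+* B)

theorem ker_le_of_mem_range {q : PrimeSpectrum R}
    (hq : q ∈ Set.range (PrimeSpectrum.comap φ)) : RingHom.ker φ ≤ q.asIdeal := by
  obtain ⟨Q, rfl⟩ := hq
  intro x hx
  show φ x ∈ Q.asIdeal
  rw [RingHom.mem_ker.1 hx]
  exact zero_mem _

theorem exists_minimal_range_comap (p₀ : PrimeSpectrum R)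
    (hp₀ : p₀ ∈ Set.range (PrimeSpectrum.comap φ)) :
    ∃ m ∈ Set.range (PrimeSpectrum.comap φ), m ≤ p₀ ∧
      ∀ m' ∈ Set.range (PrimeSpectrum.comap φ), m' ≤ m → m' = m := by
  have hker := ker_le_of_mem_range φ hp₀
  have := p₀.isPrime
  obtain ⟨q, hq, hqle⟩ := Ideal.exists_minimalPrimes_le hker
  have hq' : q ∈ ((⊥ : Ideal B).comap φ).minimalPrimes := hq
  obtain ⟨Q, hQ, -, hQc⟩ := Ideal.exists_comap_eq_of_mem_minimalPrimes φ q hq'
  have hqp : q.IsPrime := hq.1.1
  refine ⟨⟨q, hqp⟩, ⟨⟨Q, hQ⟩, PrimeSpectrum.ext hQc⟩, hqle, ?_⟩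
  intro m' hm' hle
  have h1 : RingHom.ker φ ≤ m'.asIdeal := ker_le_of_mem_range φ hm'
  have h2 : q ≤ m'.asIdeal := hq.2 ⟨m'.isPrime, h1⟩ hle
  exact PrimeSpectrum.ext (le_antisymm hle h2)

theorem exists_le_mem_range_comap (p : PrimeSpectrum R)
    (h : ∀ r : R, r ∉ p.asIdeal → ∃ q ∈ Set.range (PrimeSpectrum.comap φ), r ∉ q.asIdeal) :
    ∃ n ∈ Set.range (PrimeSpectrum.comap φ), n ≤ p := by
  have hdisj : Disjoint (((⊥ : Ideal B) : Ideal B) : Set B)
      (Submonoid.map (φ : R →* B) p.asIdeal.primeCompl : Set B) := by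
    rw [Set.disjoint_left]
    rintro b hb ⟨r, hr, rfl⟩
    have hb0 : φ r = 0 := hb
    obtain ⟨q, ⟨Q, rfl⟩, hq⟩ := h r hr
    apply hq
    show φ r ∈ Q.asIdeal
    rw [hb0]
    exact zero_mem _
  obtain ⟨Q, hQ, -, hQd⟩ := Ideal.exists_le_prime_disjoint (⊥ : Ideal B) _ hdisj
  refine ⟨PrimeSpectrum.comap φ ⟨Q, hQ⟩, ⟨_, rfl⟩, ?_⟩
  intro r hr
  by_contra hrp
  exact Set.disjoint_left.1 hQd hr ⟨r, hrp, rfl⟩

end Ring

section Scheme

variable {A W : Scheme.{u}} [IsAffine A] [IsAffine W] (g : W ⟶ A)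

theorem inv_hom_apply (X : Scheme.{u}) [IsAffine X] (x : X) :
    X.isoSpec.inv (X.isoSpec.hom x) = x := by
  rw [← Scheme.Hom.comp_apply, Iso.hom_inv_id]
  rfl

theorem hom_inv_apply (X : Scheme.{u}) [IsAffine X] (P : Spec Γ(X, ⊤)) :
    X.isoSpec.hom (X.isoSpec.inv P) = P := by
  rw [← Scheme.Hom.comp_apply, Iso.inv_hom_id]
  rfl

theorem mem_range_iff_isoSpec (a : A) :
    a ∈ Set.range g ↔
      (A.isoSpec.hom a : PrimeSpectrum Γ(A, ⊤)) ∈ Set.range (PrimeSpectrum.comap g.appTop.hom) := by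
  constructor
  · rintro ⟨w, rfl⟩
    refine ⟨W.isoSpec.hom w, ?_⟩
    have h := Scheme.isoSpec_hom_naturality g
    calc PrimeSpectrum.comap g.appTop.hom (W.isoSpec.hom w)
        = (W.isoSpec.hom ≫ Spec.map g.appTop) w := rfl
      _ = (g ≫ A.isoSpec.hom) w := by rw [h]
      _ = A.isoSpec.hom (g w) := rfl
  · rintro ⟨P, hP⟩
    refine ⟨W.isoSpec.inv P, ?_⟩
    have h := Scheme.isoSpec_inv_naturality g
    calc g (W.isoSpec.inv P) = (W.isoSpec.inv ≫ g) P := rfl
      _ = (Spec.map g.appTop ≫ A.isoSpec.inv) P := by rw [h]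
      _ = A.isoSpec.inv (PrimeSpectrum.comap g.appTop.hom P) := rfl
      _ = A.isoSpec.inv (A.isoSpec.hom a) := by rw [hP]
      _ = a := inv_hom_apply A a

theorem specializes_iff_isoSpec (a a' : A) :
    a' ⤳ a ↔ (A.isoSpec.hom a' : PrimeSpectrum Γ(A, ⊤)) ⤳ (A.isoSpec.hom a) := by
  constructor
  · intro h
    exact h.map A.isoSpec.hom.continuous
  · intro h
    have h2 := h.map A.isoSpec.inv.continuous
    rwa [inv_hom_apply, inv_hom_apply] at h2

theorem exists_minimal_mem_range (a₀ : A) (ha₀ : a₀ ∈ Set.range g) :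
    ∃ m ∈ Set.range g, m ⤳ a₀ ∧ ∀ m' ∈ Set.range g, m' ⤳ m → m' = m := by
  obtain ⟨M, hM, hMle, hMmin⟩ := exists_minimal_range_comap g.appTop.hom
    (A.isoSpec.hom a₀ : PrimeSpectrum Γ(A, ⊤)) ((mem_range_iff_isoSpec g a₀).1 ha₀)
  have hMm : (A.isoSpec.hom (A.isoSpec.inv M) : PrimeSpectrum Γ(A, ⊤)) = M := hom_inv_apply A M
  refine ⟨A.isoSpec.inv M, ?_, ?_, ?_⟩
  · rw [mem_range_iff_isoSpec, hMm]
    exact hM
  · rw [specializes_iff_isoSpec, hMm]
    exact (PrimeSpectrum.le_iff_specializes _ _).1 hMle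
  · intro m' hm' hsp
    have h1 := (mem_range_iff_isoSpec g m').1 hm'
    have h2 := (specializes_iff_isoSpec (A.isoSpec.inv M) m').1 hsp
    rw [hMm] at h2
    have h3 := hMmin _ h1 ((PrimeSpectrum.le_iff_specializes _ _).2 h2)
    calc m' = A.isoSpec.inv (A.isoSpec.hom m') := (inv_hom_apply A m').symm
      _ = A.isoSpec.inv M := by rw [h3]

theorem exists_specializes_mem_range (m : A)
    (h : ∀ O : Set A, IsOpen O → m ∈ O → (O ∩ Set.range g).Nonempty) :
    ∃ n ∈ Set.range g, n ⤳ m := by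
  obtain ⟨N, hN, hNle⟩ := exists_le_mem_range_comap g.appTop.hom
    (A.isoSpec.hom m : PrimeSpectrum Γ(A, ⊤)) (by
      intro r hr
      have hO : IsOpen ((A.isoSpec.hom : A → Spec Γ(A, ⊤)) ⁻¹'
          ((PrimeSpectrum.basicOpen r : Set (PrimeSpectrum Γ(A, ⊤))))) :=
        (PrimeSpectrum.basicOpen r).isOpen.preimage A.isoSpec.hom.continuous
      obtain ⟨a, haO, hag⟩ := h _ hO hr
      exact ⟨_, (mem_range_iff_isoSpec g a).1 hag, haO⟩)
  have hNm : (A.isoSpec.hom (A.isoSpec.inv N) : PrimeSpectrum Γ(A, ⊤)) = N := hom_inv_apply A N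
  refine ⟨A.isoSpec.inv N, ?_, ?_⟩
  · rw [mem_range_iff_isoSpec, hNm]
    exact hN
  · rw [specializes_iff_isoSpec, hNm]
    exact (PrimeSpectrum.le_iff_specializes _ _).1 hNle

end Scheme

end H10PT.SpecChart
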