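import Mathlib
import Groth.Agent.Lib.Helper10.SpecChart1

/-!
# A space covered by open images of affine schemes with quasi-compact overlaps (helper10)

Let `Y` be a topological space and `p i : A i → Y` continuous open maps from affine schemes whose
ranges form a basis of `Y`, such that the preimages `p i ⁻¹' range (p j)` are compact and the fibres
`p i ⁻¹' {y}` are ranges of morphisms from affine schemes.  Then `Y` is `T0`, quasi-sober,
quasi-separated and prespectral.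
-/

set_option autoImplicit false

universe u

open CategoryTheory AlgebraicGeometry TopologicalSpace Topology

namespace H10PT.SpecChart

variable {Y : Type*} [TopologicalSpace Y] {ι : Type*} (A : ι → Scheme.{u}) [∀ i, IsAffine (A i)]
  (p : ∀ i, A i → Y) (hc : ∀ i, Continuous (p i)) (ho : ∀ i, IsOpenMap (p i))
  (hB : IsTopologicalBasis (Set.range fun i => Set.range (p i)))

include hc hB in
theorem prespectralSpace_of_charts : PrespectralSpace Y := by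
  refine PrespectralSpace.of_isTopologicalBasis hB ?_
  rintro _ ⟨i, rfl⟩
  exact isCompact_range (hc i)

include hc hB in
theorem quasiSeparatedSpace_of_charts
    (hG1 : ∀ i j, IsCompact (p i ⁻¹' Set.range (p j))) : QuasiSeparatedSpace Y := by
  constructor
  intro U V hUo hUc hVo hVc
  have hbc : ∀ i, IsCompact (Set.range (p i)) := fun i => isCompact_range (hc i)
  obtain ⟨s, hs, rfl⟩ := (isCompact_open_iff_eq_finite_iUnion_of_isTopologicalBasis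
    (fun i => Set.range (p i)) hB hbc U).1 ⟨hUc, hUo⟩
  obtain ⟨t, ht, rfl⟩ := (isCompact_open_iff_eq_finite_iUnion_of_isTopologicalBasis
    (fun i => Set.range (p i)) hB hbc V).1 ⟨hVc, hVo⟩
  have heq : (⋃ i ∈ s, Set.range (p i)) ∩ (⋃ j ∈ t, Set.range (p j)) =
      ⋃ i ∈ s, ⋃ j ∈ t, Set.range (p i) ∩ Set.range (p j) := by
    ext y
    simp only [Set.mem_inter_iff, Set.mem_iUnion, exists_prop]
    constructor
    · rintro ⟨⟨i, hi, h1⟩, ⟨j, hj, h2⟩⟩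
      exact ⟨i, hi, j, hj, h1, h2⟩
    · rintro ⟨i, hi, j, hj, h1, h2⟩
      exact ⟨⟨i, hi, h1⟩, ⟨j, hj, h2⟩⟩
  rw [heq]
  refine hs.isCompact_biUnion fun i _ => ht.isCompact_biUnion fun j _ => ?_
  have h1 : Set.range (p i) ∩ Set.range (p j) = p i '' (p i ⁻¹' Set.range (p j)) := by
    rw [Set.image_preimage_eq_inter_range, Set.inter_comm]
  rw [h1]
  exact (hG1 i j).image (hc i)

include ho hB in
theorem t0Space_of_charts
    (hG2 : ∀ i (y : Y), ∃ (W : Scheme.{u}) (_ : IsAffine W) (g : W ⟶ A i),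
      Set.range g = p i ⁻¹' {y}) : T0Space Y := by
  constructor
  intro y₁ y₂ hins
  obtain ⟨_, ⟨i, rfl⟩, ⟨a, ha⟩, -⟩ := hB.exists_subset_of_mem_open (Set.mem_univ y₁) isOpen_univ
  obtain ⟨W, hW, g, hg⟩ := hG2 i y₁
  obtain ⟨W₂, hW₂, g₂, hg₂⟩ := hG2 i y₂
  have ha' : a ∈ Set.range g := by
    rw [hg]
    exact ha
  obtain ⟨m, hm, -, hmin⟩ := exists_minimal_mem_range g a ha'
  have hpm : p i m = y₁ := by
    have h1 : m ∈ p i ⁻¹' {y₁} := by
      rw [← hg]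
      exact hm
    exact h1
  have h21 : y₂ ⤳ y₁ := hins.specializes'
  have h12 : y₁ ⤳ y₂ := hins.specializes
  obtain ⟨n, hn, hnm⟩ := exists_specializes_mem_range g₂ m (by
    intro O hO hmO
    have h1 : y₁ ∈ p i '' O := ⟨m, hmO, hpm⟩
    have h2 : y₂ ∈ p i '' O := h21.mem_open (ho i O hO) h1
    obtain ⟨o, hoO, hpo⟩ := h2
    refine ⟨o, hoO, ?_⟩
    rw [hg₂]
    exact hpo)
  have hpn : p i n = y₂ := by
    have h1 : n ∈ p i ⁻¹' {y₂} := by
      rw [← hg₂]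
      exact hn
    exact h1
  obtain ⟨m', hm', hm'n⟩ := exists_specializes_mem_range g n (by
    intro O hO hnO
    have h1 : y₂ ∈ p i '' O := ⟨n, hnO, hpn⟩
    have h2 : y₁ ∈ p i '' O := h12.mem_open (ho i O hO) h1
    obtain ⟨o, hoO, hpo⟩ := h2
    refine ⟨o, hoO, ?_⟩
    rw [hg]
    exact hpo)
  have h3 : m' = m := hmin m' hm' (hm'n.trans hnm)
  rw [h3] at hm'n
  have h4 : n = m := (hnm.antisymm hm'n).eq
  rw [← hpm, ← hpn, h4]

include hc ho hB in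
theorem quasiSober_of_charts
    (hG1 : ∀ i j, IsCompact (p i ⁻¹' Set.range (p j))) : QuasiSober Y := by
  classical
  constructor
  intro T hTirr hTcl
  obtain ⟨t, ht⟩ := hTirr.nonempty
  obtain ⟨_, ⟨i, rfl⟩, ⟨a, ha⟩, -⟩ := hB.exists_subset_of_mem_open (Set.mem_univ t) isOpen_univ
  obtain ⟨TA, hTA⟩ : ∃ TA : Set (A i), TA = p i ⁻¹' T := ⟨_, rfl⟩
  have hTAcl : IsClosed TA := by
    rw [hTA]
    exact hTcl.preimage (hc i)
  obtain ⟨J, hJ⟩ : ∃ J : Set ι, J = {j | (T ∩ Set.range (p j)).Nonempty} := ⟨_, rfl⟩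
  obtain ⟨C, hC⟩ : ∃ C : ι → Set (A i), C = fun j => p i ⁻¹' Set.range (p j) := ⟨_, rfl⟩
  have hCo : ∀ j, IsOpen (C j) := fun j => by
    rw [hC]
    exact (ho j).isOpen_range.preimage (hc i)
  have hCc : ∀ j, IsCompact (C j) := fun j => by
    rw [hC]
    exact hG1 i j
  have hCmem : ∀ j (z : A i), z ∈ C j ↔ p i z ∈ Set.range (p j) := fun j z => by
    rw [hC]
    exact Iff.rfl
  have hJmem : ∀ j, j ∈ J ↔ (T ∩ Set.range (p j)).Nonempty := fun j => by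
    rw [hJ]
    exact Iff.rfl
  have hiJ : i ∈ J := (hJmem i).2 ⟨t, ht, a, ha⟩
  have hrefine : ∀ j₁ ∈ J, ∀ j₂ ∈ J, ∃ j₃ ∈ J,
      Set.range (p j₃) ⊆ Set.range (p j₁) ∩ Set.range (p j₂) := by
    intro j₁ h₁ j₂ h₂
    obtain ⟨y, hyT, hy1, hy2⟩ : (T ∩ (Set.range (p j₁) ∩ Set.range (p j₂))).Nonempty :=
      hTirr.isPreirreducible _ _ (ho j₁).isOpen_range (ho j₂).isOpen_range
        ((hJmem j₁).1 h₁) ((hJmem j₂).1 h₂)
    obtain ⟨_, ⟨j₃, rfl⟩, hy3, hsub⟩ := hB.exists_subset_of_mem_open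
      (show y ∈ Set.range (p j₁) ∩ Set.range (p j₂) from ⟨hy1, hy2⟩)
      ((ho j₁).isOpen_range.inter (ho j₂).isOpen_range)
    exact ⟨j₃, (hJmem j₃).2 ⟨y, hyT, hy3⟩, hsub⟩
  obtain ⟨𝒞, h𝒞⟩ : ∃ 𝒞 : Set (Set (A i)),
      𝒞 = {Z | IsClosed Z ∧ Z ⊆ TA ∧ ∀ j ∈ J, (Z ∩ C j).Nonempty} := ⟨_, rfl⟩
  have h𝒞mem : ∀ Z, Z ∈ 𝒞 ↔ (IsClosed Z ∧ Z ⊆ TA ∧ ∀ j ∈ J, (Z ∩ C j).Nonempty) := fun Z => by
    rw [h𝒞]
    exact Iff.rfl
  have hTA𝒞 : TA ∈ 𝒞 := by
    rw [h𝒞mem]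
    refine ⟨hTAcl, subset_rfl, ?_⟩
    intro j hj
    obtain ⟨j₃, hj₃, hsub⟩ := hrefine i hiJ j hj
    obtain ⟨y, hyT, hy3⟩ := (hJmem j₃).1 hj₃
    obtain ⟨a', ha'⟩ := (hsub hy3).1
    refine ⟨a', ?_, ?_⟩
    · rw [hTA]
      show p i a' ∈ T
      rw [ha']
      exact hyT
    · rw [hCmem, ha']
      exact (hsub hy3).2
  obtain ⟨Z, -, hZmin⟩ := zorn_superset_nonempty 𝒞 (by
    intro c hc𝒞 hchain hcne
    obtain ⟨z₀, hz₀⟩ := hcne
    refine ⟨⋂₀ c, ?_, fun s hs => Set.sInter_subset_of_mem hs⟩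
    rw [h𝒞mem]
    refine ⟨isClosed_sInter fun z hz => ((h𝒞mem z).1 (hc𝒞 hz)).1,
      (Set.sInter_subset_of_mem hz₀).trans ((h𝒞mem z₀).1 (hc𝒞 hz₀)).2.1, ?_⟩
    intro j hj
    have hfin : ∀ u : Finset ↥c, ∃ z ∈ c, z ⊆ ⋂ w ∈ u, (w : Set (A i)) := by
      intro u
      induction u using Finset.induction_on with
      | empty => exact ⟨z₀, hz₀, by simp⟩
      | insert w u _ ih =>
        obtain ⟨z, hz, hzsub⟩ := ih
        rcases hchain.total hz w.2 with h | h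
        · refine ⟨z, hz, ?_⟩
          rw [Finset.set_biInter_insert]
          exact Set.subset_inter h hzsub
        · refine ⟨w.1, w.2, ?_⟩
          rw [Finset.set_biInter_insert]
          exact Set.subset_inter subset_rfl (h.trans hzsub)
    have hne := (hCc j).inter_iInter_nonempty (fun z : ↥c => (z : Set (A i)))
      (fun z => ((h𝒞mem z.1).1 (hc𝒞 z.2)).1) (by
        intro u
        obtain ⟨z, hz, hzsub⟩ := hfin u
        obtain ⟨x, hxz, hxC⟩ := ((h𝒞mem z).1 (hc𝒞 hz)).2.2 j hj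
        exact ⟨x, hxC, hzsub hxz⟩)
    obtain ⟨x, hx1, hx2⟩ := hne
    refine ⟨x, ?_, hx1⟩
    rw [Set.mem_sInter]
    intro z hz
    exact Set.mem_iInter.1 hx2 ⟨z, hz⟩) TA hTA𝒞
  have hZ := (h𝒞mem Z).1 hZmin.prop
  have hZne : Z.Nonempty := (hZ.2.2 i hiJ).mono Set.inter_subset_left
  have hZirr : IsPreirreducible Z := by
    rintro u v hu hv ⟨x, hxZ, hxu⟩ ⟨x', hx'Z, hx'v⟩
    by_contra hne
    rw [Set.not_nonempty_iff_eq_empty] at hne
    have hcover : ∀ z ∈ Z, z ∈ Z \ u ∨ z ∈ Z \ v := by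
      intro z hz
      by_cases hzu : z ∈ u
      · right
        refine ⟨hz, fun hzv => ?_⟩
        have h1 : z ∈ Z ∩ (u ∩ v) := ⟨hz, hzu, hzv⟩
        rw [hne] at h1
        exact h1
      · left
        exact ⟨hz, hzu⟩
    have h₁ : Z \ u ∉ 𝒞 := fun h => by
      have h2 : Z ⊆ Z \ u := hZmin.le_of_le h Set.diff_subset
      exact (h2 hxZ).2 hxu
    have h₂ : Z \ v ∉ 𝒞 := fun h => by
      have h2 : Z ⊆ Z \ v := hZmin.le_of_le h Set.diff_subset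
      exact (h2 hx'Z).2 hx'v
    have e₁ : ∃ j₁ ∈ J, ¬ ((Z \ u) ∩ C j₁).Nonempty := by
      by_contra hcon
      apply h₁
      rw [h𝒞mem]
      refine ⟨hZ.1.sdiff hu, Set.diff_subset.trans hZ.2.1, fun j hj => ?_⟩
      by_contra hne'
      exact hcon ⟨j, hj, hne'⟩
    have e₂ : ∃ j₂ ∈ J, ¬ ((Z \ v) ∩ C j₂).Nonempty := by
      by_contra hcon
      apply h₂
      rw [h𝒞mem]
      refine ⟨hZ.1.sdiff hv, Set.diff_subset.trans hZ.2.1, fun j hj => ?_⟩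
      by_contra hne'
      exact hcon ⟨j, hj, hne'⟩
    obtain ⟨j₁, hj₁, hn₁⟩ := e₁
    obtain ⟨j₂, hj₂, hn₂⟩ := e₂
    obtain ⟨j₃, hj₃, hsub⟩ := hrefine j₁ hj₁ j₂ hj₂
    obtain ⟨z, hzZ, hzC⟩ := hZ.2.2 j₃ hj₃
    have hz12 : p i z ∈ Set.range (p j₁) ∩ Set.range (p j₂) := hsub ((hCmem j₃ z).1 hzC)
    rcases hcover z hzZ with hz | hz
    · exact hn₁ ⟨z, hz, (hCmem j₁ z).2 hz12.1⟩
    · exact hn₂ ⟨z, hz, (hCmem j₂ z).2 hz12.2⟩
  obtain ⟨η, hη⟩ := QuasiSober.sober (⟨hZne, hZirr⟩ : IsIrreducible Z) hZ.1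
  have hηZ : η ∈ Z := hη.mem
  refine ⟨p i η, ?_⟩
  show closure {p i η} = T
  apply Set.Subset.antisymm
  · refine hTcl.closure_subset_iff.2 (Set.singleton_subset_iff.2 ?_)
    have h1 : η ∈ TA := hZ.2.1 hηZ
    rw [hTA] at h1
    exact h1
  · intro t' ht'
    rw [mem_closure_iff]
    intro O hO ht'O
    obtain ⟨_, ⟨j, rfl⟩, ht'j, hjO⟩ := hB.exists_subset_of_mem_open ht'O hO
    have hjJ : j ∈ J := (hJmem j).2 ⟨t', ht', ht'j⟩
    have hne := hZ.2.2 j hjJ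
    have hηC : η ∈ C j := (hη.mem_open_set_iff (hCo j)).2 hne
    exact ⟨p i η, hjO ((hCmem j η).1 hηC), rfl⟩

end H10PT.SpecChart
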