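import Mathlib
import Groth.Agent.Lib.Helper10.SpecChart2
import Groth.Agent.Lib.Helper10.AlgStQCSelf
import Groth.Agent.Lib.Helper10.AlgStSmoothLocus

/-!
# The space of points of an algebraic stack with quasi-compact diagonal (helper10)

* `exists_affine_range_fibre`: for two quasi-compact scheme charts `a₁ : T₁ → 𝒳`, `a₂ : T₂ → 𝒳` of a
  stack with quasi-compact diagonal over a quasi-separated base, the set of points of `T₁` whose
  image in `|𝒳|` lies in the image of `T₂` is the range of a morphism from an affine scheme.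
* `isTopologicalBasis_affCharts`: the images of smooth charts from affine schemes form a basis.
* `exists_field_chart`: every point is the image of a field chart.
* `points_structure`: `|𝒳|` is `T0`, quasi-sober, quasi-separated and prespectral.
-/

set_option autoImplicit false
set_option backward.isDefEq.respectTransparency false
set_option backward.isDefEq.respectTransparency.types false

universe u

open CategoryTheory CategoryTheory.Limits AlgebraicGeometry Opposite TopologicalSpace Topology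

namespace H10PT.SpecChart

open Groth.Agent.Lib.Helper10.Fib Groth.Agent.Lib.Helper10.AlgStRep
open Groth.Agent.Lib.Helper28.AlgSt.PropInst Groth.Agent.Lib.Helper28.AlgSt.Key
open Groth.Agent.Lib.Helper28.AlgSt.ChartOver
open Groth.Agent.Lib.Helper16 Groth.Agent.Lib.Helper16.AlgStDC
open H10PT

variable {S : Scheme.{u}} {𝒳 : AlgSt.Cat S}

theorem exists_affine_range_fibre [QuasiSeparatedSpace S]
    (h𝒳 : AlgSt.IsAlgStack Scheme.fppfPrecoverage 𝒳)
    (hΔ : AlgSt.RepByAlgSpWith AlgSp.IsQuasiCompactMor (FibCat.diag (FibCat.toSelf 𝒳)))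
    (T₁ T₂ : Over S) [CompactSpace T₁.left] [CompactSpace T₂.left]
    (a₁ : FibCat.overCat T₁ ⥤ᵇ 𝒳) (a₂ : FibCat.overCat T₂ ⥤ᵇ 𝒳) :
    ∃ (W : Over S) (g : W ⟶ T₁), IsAffine W.left ∧
      Set.range g.left =
        {t | ∃ t', AlgSt.Points.ofChart a₁ t = AlgSt.Points.ofChart a₂ t'} := by
  have hT₁ := isAlgStack_overCat T₁
  have hT₂ := isAlgStack_overCat T₂
  have h1 := isQuasiCompactMor_toSelf hT₂ (isQuasiCompact_overCat_of_compact T₂)
  have h2 : AlgSt.IsQuasiCompactMor Scheme.fppfPrecoverage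
      (BasedFunctor.comp a₂ (FibCat.toSelf 𝒳)) := by
    rw [comp_toSelf a₂]
    exact h1
  have hqcm := isQuasiCompactMor_of_comp_of_qs hT₂ h𝒳 isAlgStack_selfOver a₂ (FibCat.toSelf 𝒳)
    h2 hΔ
  have hqc : AlgSt.IsQuasiCompact (FibCat.fp a₁ a₂) :=
    hqcm (FibCat.overCat T₁) hT₁ (isQuasiCompact_overCat_of_compact T₁) a₁
  obtain ⟨W, w, hWaff, hw1, hw2⟩ := hqc
  have hfpfib : FibCat.IsFibGrpd (FibCat.fp a₁ a₂).p :=
    isFibGrpd_fp a₁ a₂ (isFibGrpd_overForget T₁) (isFibGrpd_overForget T₂) h𝒳.isStack.1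
  have hwsurj := surjective_ofChart hfpfib w hw2
  refine ⟨W, homOfOver (BasedFunctor.comp w (FibCat.fpFst a₁ a₂)), hWaff, ?_⟩
  ext t
  constructor
  · rintro ⟨w0, rfl⟩
    refine ⟨(homOfOver (BasedFunctor.comp w (FibCat.fpSnd a₁ a₂))).left w0, ?_⟩
    rw [← ofChart_comp, ← ofChart_comp]
    show AlgSt.Points.map (BasedFunctor.comp (FibCat.fpFst a₁ a₂) a₁)
        (AlgSt.Points.ofChart w w0) =
      AlgSt.Points.map (BasedFunctor.comp (FibCat.fpSnd a₁ a₂) a₂) (AlgSt.Points.ofChart w w0)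
    rw [points_map_eq_of_iso (FibCat.fpIso a₁ a₂)]
  · rintro ⟨t', htt'⟩
    obtain ⟨ζ, hζ1, -⟩ := exists_fp_point (isFibGrpd_overForget T₂) h𝒳.isStack.1
      (isFibGrpd_overForget T₁) a₂ a₁ (AlgSt.Points.mk (resFPt T₁ t))
      (AlgSt.Points.mk (resFPt T₂ t')) htt'
    obtain ⟨w0, hw0⟩ := hwsurj ζ
    refine ⟨w0, ?_⟩
    have h3 : AlgSt.Points.map (BasedFunctor.comp w (FibCat.fpFst a₁ a₂))
        (AlgSt.Points.mk (resFPt W w0)) = AlgSt.Points.mk (resFPt T₁ t) := by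
      rw [points_map_comp, Function.comp_apply]
      have h4 : AlgSt.Points.map w (AlgSt.Points.mk (resFPt W w0)) = ζ := hw0
      rw [h4, hζ1]
    rw [map_resFPt] at h3
    have h5 := ptOf_eq_of_mk_eq h3
    rwa [ptOf_resFPt, ptOf_resFPt] at h5

/-- A smooth chart of `𝒳` from an affine scheme. -/
structure AffChart (𝒳 : AlgSt.Cat S) where
  /-- the affine scheme over `S` -/
  A : Over S
  /-- the chart -/
  x : FibCat.overCat A ⥤ᵇ 𝒳
  aff : IsAffine A.left
  smooth : AlgSt.RepByAlgSpWith (AlgSp.LocP @Smooth) x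

theorem isOpenMap_affChart (h𝒳 : AlgSt.IsAlgStack Scheme.fppfPrecoverage 𝒳) (c : AffChart 𝒳) :
    IsOpenMap (AlgSt.Points.ofChart c.x) :=
  isOpenMap_ofChart h𝒳 c.x (repFlat_of_smooth c.x c.smooth) (repLfp_of_smooth c.x c.smooth)

theorem isTopologicalBasis_affCharts (h𝒳 : AlgSt.IsAlgStack Scheme.fppfPrecoverage 𝒳) :
    IsTopologicalBasis
      (Set.range fun c : AffChart 𝒳 => Set.range (AlgSt.Points.ofChart c.x)) := by
  apply isTopologicalBasis_of_isOpen_of_nhds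
  · rintro _ ⟨c, rfl⟩
    exact (isOpenMap_affChart h𝒳 c).isOpen_range
  · intro ξ O hξO hO
    obtain ⟨V, y, hy1, hy2⟩ := h𝒳.atlas
    obtain ⟨v, rfl⟩ := surjective_ofChart h𝒳.isStack.1 y hy2 ξ
    have hA : IsOpen (AlgSt.Points.ofChart y ⁻¹' O) := hO.preimage (continuous_ofChart h𝒳 y)
    obtain ⟨Ov, hOaff, hvO, hOA⟩ := exists_isAffineOpen_mem_and_subset
      (X := V.left) (x := v) (U := ⟨_, hA⟩) hξO
    have hιrep : AlgSt.RepByAlgSpWith (AlgSp.LocP @Smooth) (AlgSt.overMap (overOpenι V Ov)) :=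
      repByAlgSpWith_overMap _ good_smooth.bc (overOpenι V Ov)
        (locP_yon_of etLocalST_smooth (overOpenι V Ov) (show Smooth Ov.ι from inferInstance))
    have hx : AlgSt.RepByAlgSpWith (AlgSp.LocP @Smooth)
        (BasedFunctor.comp (AlgSt.overMap (overOpenι V Ov)) y) :=
      repByAlgSpWith_comp_smooth (isFibGrpd_overForget (overOpen V Ov)) (isFibGrpd_overForget V)
        _ y hιrep hy1
    have hpt : ∀ z : ↥(overOpen V Ov).left,
        AlgSt.Points.ofChart (BasedFunctor.comp (AlgSt.overMap (overOpenι V Ov)) y) z =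
          AlgSt.Points.ofChart y (Ov.ι z) := by
      intro z
      rw [ofChart_comp, homOfOver_overMap]
      rfl
    refine ⟨_, ⟨⟨overOpen V Ov, _, hOaff, hx⟩, rfl⟩, ?_, ?_⟩
    · refine ⟨(⟨v, hvO⟩ : ↥Ov), ?_⟩
      exact hpt _
    · rintro _ ⟨z, rfl⟩
      show AlgSt.Points.ofChart (BasedFunctor.comp (AlgSt.overMap (overOpenι V Ov)) y) z ∈ O
      rw [hpt]
      exact hOA z.2

theorem exists_field_chart (h𝒳 : FibCat.IsFibGrpd 𝒳.p) (ξ : AlgSt.Points 𝒳) :
    ∃ (k : Type u) (_ : Field k) (s : Spec (CommRingCat.of k) ⟶ S)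
      (z : FibCat.overCat (Over.mk s) ⥤ᵇ 𝒳), ∀ t, AlgSt.Points.ofChart z t = ξ := by
  obtain ⟨q, rfl⟩ := AlgSt.Points.mk_surjective ξ
  obtain ⟨y, -, ⟨i⟩⟩ := yoneda_essSurj (Over.mk q.str)
    (⟨q.obj, q.lies⟩ : 𝒳.p.Fiber (Over.mk q.str))
    (fun V g => IsFibGrpd.exists_lift' h𝒳 q.lies g)
  obtain ⟨I, -⟩ : ∃ _ : y.obj (Over.mk (𝟙 (Over.mk q.str))) ⟶ q.obj, True :=
    ⟨(Functor.Fiber.fiberInclusion.mapIso i).hom, trivial⟩
  refine ⟨q.K, inferInstance, q.str, y, ?_⟩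
  intro t
  rw [ofChart_eq]
  refine AlgSt.Points.sound ⟨(resFPt (Over.mk q.str) t).map y, 𝟙 _, ?_, trivial⟩
  exact y.map (toTerminal (Over.mk q.str) (resFPt (Over.mk q.str) t).obj) ≫ I

section Main

variable [QuasiSeparatedSpace S] (h𝒳 : AlgSt.IsAlgStack Scheme.fppfPrecoverage 𝒳)
  (hΔ : AlgSt.RepByAlgSpWith AlgSp.IsQuasiCompactMor (FibCat.diag (FibCat.toSelf 𝒳)))

include h𝒳 hΔ

theorem isCompact_preimage_range_affChart (c d : AffChart 𝒳) :
    IsCompact (AlgSt.Points.ofChart c.x ⁻¹' Set.range (AlgSt.Points.ofChart d.x)) := by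
  haveI := c.aff
  haveI := d.aff
  obtain ⟨W, g, hW, hg⟩ := exists_affine_range_fibre h𝒳 hΔ c.A d.A c.x d.x
  haveI := hW
  have h1 : AlgSt.Points.ofChart c.x ⁻¹' Set.range (AlgSt.Points.ofChart d.x) =
      Set.range g.left := by
    rw [hg]
    ext t
    constructor
    · rintro ⟨t', ht'⟩
      exact ⟨t', ht'.symm⟩
    · rintro ⟨t', ht'⟩
      exact ⟨t', ht'.symm⟩
  rw [h1]
  exact isCompact_range g.left.continuous

theorem exists_affine_range_fibre_point (c : AffChart 𝒳) (y : AlgSt.Points 𝒳) :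
    ∃ (W : Scheme.{u}) (_ : IsAffine W) (g : W ⟶ c.A.left),
      Set.range g = AlgSt.Points.ofChart c.x ⁻¹' {y} := by
  haveI := c.aff
  obtain ⟨k, hk, s, z, hz⟩ := exists_field_chart h𝒳.isStack.1 y
  haveI : CompactSpace ↥(Over.mk s).left :=
    (inferInstance : CompactSpace ↥(Spec (CommRingCat.of k)))
  obtain ⟨W, g, hW, hg⟩ := exists_affine_range_fibre h𝒳 hΔ c.A (Over.mk s) c.x z
  refine ⟨W.left, hW, g.left, ?_⟩
  rw [hg]
  ext t
  constructor
  · rintro ⟨t', ht'⟩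
    show AlgSt.Points.ofChart c.x t = y
    rw [ht', hz]
  · intro ht
    have ht' : AlgSt.Points.ofChart c.x t = y := ht
    obtain ⟨t'⟩ : Nonempty ↥(Over.mk s).left :=
      (inferInstance : Nonempty ↥(Spec (CommRingCat.of k)))
    exact ⟨t', by rw [ht', hz]⟩

theorem points_structure :
    T0Space (AlgSt.Points 𝒳) ∧ QuasiSober (AlgSt.Points 𝒳) ∧
      QuasiSeparatedSpace (AlgSt.Points 𝒳) ∧ PrespectralSpace (AlgSt.Points 𝒳) := by
  have hB := isTopologicalBasis_affCharts h𝒳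
  haveI : ∀ c : AffChart 𝒳, IsAffine c.A.left := fun c => c.aff
  have hc : ∀ c : AffChart 𝒳, Continuous (AlgSt.Points.ofChart c.x) :=
    fun c => continuous_ofChart h𝒳 c.x
  have ho : ∀ c : AffChart 𝒳, IsOpenMap (AlgSt.Points.ofChart c.x) :=
    fun c => isOpenMap_affChart h𝒳 c
  have hG1 := isCompact_preimage_range_affChart h𝒳 hΔ
  have hG2 := exists_affine_range_fibre_point h𝒳 hΔ
  exact ⟨t0Space_of_charts (fun c : AffChart 𝒳 => c.A.left)
      (fun c => AlgSt.Points.ofChart c.x) ho hB hG2,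
    quasiSober_of_charts (fun c : AffChart 𝒳 => c.A.left)
      (fun c => AlgSt.Points.ofChart c.x) hc ho hB hG1,
    quasiSeparatedSpace_of_charts (fun c : AffChart 𝒳 => c.A.left)
      (fun c => AlgSt.Points.ofChart c.x) hc hB hG1,
    prespectralSpace_of_charts (fun c : AffChart 𝒳 => c.A.left)
      (fun c => AlgSt.Points.ofChart c.x) hc hB⟩

/-- Every point of `|𝒳|` has an open spectral neighbourhood. -/
theorem exists_spectral_nhd (x : AlgSt.Points 𝒳) :
    ∃ U : Set (AlgSt.Points 𝒳), IsOpen U ∧ x ∈ U ∧ SpectralSpace ↥U := by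
  obtain ⟨h0, hs, hq, hp⟩ := points_structure h𝒳 hΔ
  obtain ⟨V', hV'o, hV'c, hxV', -⟩ :=
    exists_isOpen_isCompact_nhd h𝒳 x Set.univ isOpen_univ trivial
  refine ⟨V', hV'o, hxV', ?_⟩
  haveI : CompactSpace ↥V' := isCompact_iff_compactSpace.1 hV'c
  have hemb : IsOpenEmbedding (Subtype.val : ↥V' → AlgSt.Points 𝒳) :=
    hV'o.isOpenEmbedding_subtypeVal
  exact { __ := hemb.quasiSober, __ := hemb.prespectralSpace, __ := hemb.quasiSeparatedSpace,
          __ := hemb.isEmbedding.t0Space }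

end Main

end H10PT.SpecChart
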