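import Mathlib
import Groth.Prelude.Def_FibCat2

/-!
# A strict functor `Cᵒᵖ ⥤ Cat` attached to a fibred category

For a fibred category `𝒳` over `C` we define the category `CFun 𝒳 U` of cartesian functors
`C/U ⥤ 𝒳` over `C`; a morphism is a morphism between the values at the final object of `C/U`
lying over the identity (this keeps the morphism sets small); it extends uniquely to a
natural transformation `app`.  Precomposition with `Over.map g` gives restriction functors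
`res g` which are strictly functorial: `res_id`, `res_comp`.  They assemble to
`splitF 𝒳 : Cᵒᵖ ⥤ Cat`.
-/

set_option autoImplicit false
set_option linter.style.haveILetI false
set_option backward.isDefEq.respectTransparency false
set_option backward.isDefEq.respectTransparency.types false

universe v u

open CategoryTheory Functor

namespace Groth.Agent.Lib.Helper10.Split

variable {C : Type u} [Category.{v} C] (𝒳 : BasedCategory.{v, max u v} C)

/-- Cartesian functors `C/U ⥤ 𝒳` over `C`. -/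
structure CFun (U : C) where
  /-- the underlying functor -/
  F : Over U ⥤ 𝒳.obj
  /-- every morphism goes to a strongly cartesian morphism over its image in `C` -/
  sc : ∀ {A B : Over U} (h : A ⟶ B), 𝒳.p.IsStronglyCartesian h.left (F.map h)

variable {𝒳} {U U' U'' : C}

lemma CFun.ext' {G G' : CFun 𝒳 U} (h : G.F = G'.F) : G = G' := by
  obtain ⟨F, s⟩ := G
  obtain ⟨F', s'⟩ := G'
  change F = F' at h
  subst h
  rfl

/-- The canonical morphism to the final object of `C/U`. -/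
def tId (A : Over U) : A ⟶ Over.mk (𝟙 U) := Over.homMk A.hom (by simp)

@[simp] lemma tId_left (A : Over U) : (tId A).left = A.hom := rfl

lemma tId_comp {A B : Over U} (h : A ⟶ B) : h ≫ tId B = tId A := by
  apply Over.OverMorphism.ext
  simp [tId]

lemma tId_self : tId (Over.mk (𝟙 U)) = 𝟙 (Over.mk (𝟙 U)) := by
  apply Over.OverMorphism.ext
  simp [tId]

namespace CFun

variable (G : CFun 𝒳 U)

/-- The value at the final object. -/
abbrev e : 𝒳.obj := G.F.obj (Over.mk (𝟙 U))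

lemma isHomLift_map {A B : Over U} (h : A ⟶ B) : 𝒳.p.IsHomLift h.left (G.F.map h) :=
  (G.sc h).toIsHomLift

lemma obj_proj (A : Over U) : 𝒳.p.obj (G.F.obj A) = A.left := by
  have := G.isHomLift_map (𝟙 A)
  exact IsHomLift.domain_eq 𝒳.p (𝟙 A : A ⟶ A).left (G.F.map (𝟙 A))

lemma sc_tId (A : Over U) : 𝒳.p.IsStronglyCartesian A.hom (G.F.map (tId A)) := G.sc (tId A)

end CFun

instance : Category.{v} (CFun 𝒳 U) where
  Hom G G' := {φ : G.e ⟶ G'.e // 𝒳.p.IsHomLift (𝟙 U) φ}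
  id G := ⟨𝟙 _, IsHomLift.id (G.obj_proj _)⟩
  comp φ ψ := ⟨φ.1 ≫ ψ.1, by haveI := φ.2; haveI := ψ.2; infer_instance⟩
  id_comp φ := Subtype.ext (Category.id_comp _)
  comp_id φ := Subtype.ext (Category.comp_id _)
  assoc φ ψ χ := Subtype.ext (Category.assoc _ _ _)

lemma id_val (G : CFun 𝒳 U) : (𝟙 G : G ⟶ G).1 = 𝟙 G.e := rfl

lemma comp_val {G G' G'' : CFun 𝒳 U} (φ : G ⟶ G') (ψ : G' ⟶ G'') :
    (φ ≫ ψ).1 = φ.1 ≫ ψ.1 := rfl

lemma hom_ext {G G' : CFun 𝒳 U} {φ ψ : G ⟶ G'} (h : φ.1 = ψ.1) : φ = ψ := Subtype.ext h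

lemma eqToHom_val {G G' : CFun 𝒳 U} (h : G = G') :
    (eqToHom h : G ⟶ G').1 = eqToHom (congrArg CFun.e h) := by
  subst h
  rfl

section App

variable {G G' G'' : CFun 𝒳 U}

lemma app_existsUnique (φ : G ⟶ G') (A : Over U) :
    ∃! χ : G.F.obj A ⟶ G'.F.obj A, 𝒳.p.IsHomLift (𝟙 A.left) χ ∧
      χ ≫ G'.F.map (tId A) = G.F.map (tId A) ≫ φ.1 := by
  haveI : 𝒳.p.IsStronglyCartesian A.hom (G'.F.map (tId A)) := G'.sc_tId A
  haveI : 𝒳.p.IsHomLift A.hom (G.F.map (tId A)) := (G.sc_tId A).toIsHomLift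
  haveI : 𝒳.p.IsHomLift (𝟙 U) φ.1 := φ.2
  haveI : 𝒳.p.IsHomLift A.hom (G.F.map (tId A) ≫ φ.1) := inferInstance
  exact IsStronglyCartesian.universal_property 𝒳.p A.hom (G'.F.map (tId A)) (𝟙 A.left) A.hom
    (Category.id_comp _).symm (G.F.map (tId A) ≫ φ.1)

/-- The natural transformation attached to a morphism of `CFun 𝒳 U`. -/
noncomputable def app (φ : G ⟶ G') (A : Over U) : G.F.obj A ⟶ G'.F.obj A :=
  (app_existsUnique φ A).exists.choose

lemma app_lift (φ : G ⟶ G') (A : Over U) : 𝒳.p.IsHomLift (𝟙 A.left) (app φ A) :=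
  (app_existsUnique φ A).exists.choose_spec.1

lemma app_fac (φ : G ⟶ G') (A : Over U) :
    app φ A ≫ G'.F.map (tId A) = G.F.map (tId A) ≫ φ.1 :=
  (app_existsUnique φ A).exists.choose_spec.2

lemma app_uniq (φ : G ⟶ G') (A : Over U) (χ : G.F.obj A ⟶ G'.F.obj A)
    (h1 : 𝒳.p.IsHomLift (𝟙 A.left) χ)
    (h2 : χ ≫ G'.F.map (tId A) = G.F.map (tId A) ≫ φ.1) : χ = app φ A :=
  (app_existsUnique φ A).unique ⟨h1, h2⟩ ⟨app_lift φ A, app_fac φ A⟩

lemma app_nat (φ : G ⟶ G') {A B : Over U} (h : A ⟶ B) :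
    G.F.map h ≫ app φ B = app φ A ≫ G'.F.map h := by
  haveI : 𝒳.p.IsStronglyCartesian B.hom (G'.F.map (tId B)) := G'.sc_tId B
  haveI : 𝒳.p.IsHomLift h.left (G.F.map h) := G.isHomLift_map h
  haveI : 𝒳.p.IsHomLift h.left (G'.F.map h) := G'.isHomLift_map h
  haveI : 𝒳.p.IsHomLift (𝟙 B.left) (app φ B) := app_lift φ B
  haveI : 𝒳.p.IsHomLift (𝟙 A.left) (app φ A) := app_lift φ A
  haveI : 𝒳.p.IsHomLift h.left (G.F.map h ≫ app φ B) := inferInstance
  haveI : 𝒳.p.IsHomLift h.left (app φ A ≫ G'.F.map h) := inferInstance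
  have e1 : (G.F.map h ≫ app φ B) ≫ G'.F.map (tId B) = G.F.map (tId A) ≫ φ.1 := by
    rw [Category.assoc, app_fac, ← Category.assoc, ← G.F.map_comp, tId_comp]
  have e2 : (app φ A ≫ G'.F.map h) ≫ G'.F.map (tId B) = G.F.map (tId A) ≫ φ.1 := by
    rw [Category.assoc, ← G'.F.map_comp, tId_comp, app_fac]
  exact IsStronglyCartesian.ext 𝒳.p B.hom (G'.F.map (tId B)) h.left (e1.trans e2.symm)

lemma app_id (G : CFun 𝒳 U) (A : Over U) : app (𝟙 G) A = 𝟙 (G.F.obj A) := by
  symm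
  apply app_uniq
  · exact IsHomLift.id (G.obj_proj A)
  · show 𝟙 _ ≫ G.F.map (tId A) = G.F.map (tId A) ≫ 𝟙 _
    rw [Category.id_comp, Category.comp_id]

lemma app_comp (φ : G ⟶ G') (ψ : G' ⟶ G'') (A : Over U) :
    app (φ ≫ ψ) A = app φ A ≫ app ψ A := by
  symm
  apply app_uniq
  · haveI := app_lift φ A
    haveI := app_lift ψ A
    infer_instance
  · show (app φ A ≫ app ψ A) ≫ G''.F.map (tId A) = G.F.map (tId A) ≫ (φ.1 ≫ ψ.1)
    rw [Category.assoc, app_fac, ← Category.assoc, app_fac, Category.assoc]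

lemma app_e (φ : G ⟶ G') : app φ (Over.mk (𝟙 U)) = φ.1 := by
  symm
  apply app_uniq
  · exact φ.2
  · rw [tId_self, G'.F.map_id, G.F.map_id, Category.comp_id, Category.id_comp]

lemma app_congr (φ : G ⟶ G') {A A' : Over U} (h : A = A') :
    app φ A = eqToHom (by rw [h]) ≫ app φ A' ≫ eqToHom (by rw [h]) := by
  subst h
  simp

lemma map_tId_congr (G : CFun 𝒳 U) {A A' : Over U} (h : A = A') :
    G.F.map (tId A) = eqToHom (by rw [h]) ≫ G.F.map (tId A') := by
  subst h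
  simp

end App

section Res

/-- Restriction of a cartesian functor along `g : U' ⟶ U`. -/
def resObj (g : U' ⟶ U) (G : CFun 𝒳 U) : CFun 𝒳 U' where
  F := Over.map g ⋙ G.F
  sc h := G.sc ((Over.map g).map h)

/-- The image of the final object of `C/U'` in `C/U`. -/
abbrev bO (g : U' ⟶ U) : Over U := (Over.map g).obj (Over.mk (𝟙 U'))

/-- The restriction functor. -/
noncomputable def res (g : U' ⟶ U) : CFun 𝒳 U ⥤ CFun 𝒳 U' where
  obj := resObj g
  map {G G'} φ := ⟨app φ (bO g), app_lift φ (bO g)⟩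
  map_id G := Subtype.ext (app_id G _)
  map_comp φ ψ := Subtype.ext (app_comp φ ψ _)

lemma res_map_val (g : U' ⟶ U) {G G' : CFun 𝒳 U} (φ : G ⟶ G') :
    ((res g).map φ).1 = app φ (bO g) := rfl

lemma app_res (g : U' ⟶ U) {G G' : CFun 𝒳 U} (φ : G ⟶ G') (B : Over U') :
    app ((res g).map φ) B = app φ ((Over.map g).obj B) := by
  symm
  apply app_uniq ((res g).map φ) B (app φ ((Over.map g).obj B))
  · exact app_lift φ ((Over.map g).obj B)
  · exact (app_nat φ ((Over.map g).map (tId B))).symm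

lemma bO_id : bO (𝟙 U) = Over.mk (𝟙 U) := Functor.congr_obj (Over.mapId_eq U) _

lemma resObj_id (G : CFun 𝒳 U) : resObj (𝟙 U) G = G := by
  apply CFun.ext'
  show Over.map (𝟙 U) ⋙ G.F = G.F
  rw [Over.mapId_eq]
  rfl

theorem res_id : res (𝒳 := 𝒳) (𝟙 U) = 𝟭 (CFun 𝒳 U) := by
  refine CategoryTheory.Functor.ext (fun G => resObj_id G) ?_
  intro G G' φ
  apply Subtype.ext
  have h1 : app φ (bO (𝟙 U)) =
      eqToHom (by rw [bO_id]) ≫ φ.1 ≫ eqToHom (by rw [bO_id]) := by
    rw [app_congr φ bO_id, app_e]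
  have h2 : (eqToHom (resObj_id G) ≫ φ ≫ eqToHom (resObj_id G').symm).1 =
      eqToHom (congrArg CFun.e (resObj_id G)) ≫ φ.1 ≫
        eqToHom (congrArg CFun.e (resObj_id G').symm) := by
    rw [comp_val, comp_val, eqToHom_val, eqToHom_val]
  exact h1.trans h2.symm

lemma bO_comp (g' : U'' ⟶ U') (g : U' ⟶ U) : bO (g' ≫ g) = (Over.map g).obj (bO g') :=
  Functor.congr_obj (Over.mapComp_eq g' g) _

lemma resObj_comp (g' : U'' ⟶ U') (g : U' ⟶ U) (G : CFun 𝒳 U) :
    resObj (g' ≫ g) G = resObj g' (resObj g G) := by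
  apply CFun.ext'
  show Over.map (g' ≫ g) ⋙ G.F = Over.map g' ⋙ (Over.map g ⋙ G.F)
  rw [Over.mapComp_eq]
  rfl

theorem res_comp (g' : U'' ⟶ U') (g : U' ⟶ U) :
    res (𝒳 := 𝒳) (g' ≫ g) = res g ⋙ res g' := by
  refine CategoryTheory.Functor.ext (fun G => resObj_comp g' g G) ?_
  intro G G' φ
  apply Subtype.ext
  have h1 : app φ (bO (g' ≫ g)) =
      eqToHom (by rw [bO_comp]) ≫ app φ ((Over.map g).obj (bO g')) ≫
        eqToHom (by rw [bO_comp]) := app_congr φ (bO_comp g' g)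
  have h2 : (eqToHom (resObj_comp g' g G) ≫ (res g').map ((res g).map φ) ≫
      eqToHom (resObj_comp g' g G').symm).1 =
      eqToHom (congrArg CFun.e (resObj_comp g' g G)) ≫ ((res g').map ((res g).map φ)).1 ≫
        eqToHom (congrArg CFun.e (resObj_comp g' g G').symm) := by
    rw [comp_val, comp_val, eqToHom_val, eqToHom_val]
  have h3 : ((res g').map ((res g).map φ)).1 = app φ ((Over.map g).obj (bO g')) :=
    app_res g φ (bO g')
  rw [h3] at h2
  exact h1.trans h2.symm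

end Res

variable (𝒳)

/-- The strict functor `Cᵒᵖ ⥤ Cat` of cartesian functors from the slices. -/
noncomputable def splitF : Cᵒᵖ ⥤ Cat.{v, max u v} where
  obj U := Cat.of (CFun 𝒳 U.unop)
  map g := (res g.unop).toCatHom
  map_id U := congr($(res_id (𝒳 := 𝒳) (U := U.unop)).toCatHom)
  map_comp f g := congr($(res_comp (𝒳 := 𝒳) g.unop f.unop).toCatHom)

end Groth.Agent.Lib.Helper10.Split
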