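import Mathlib

/-!
# Maps between two-step truncations in a t-structure

If `g : X ⟶ Y` with `X ≤ q`, `Y ≥ q - 1` induces zero on `τ≥q` and on `τ<q`, then it factors
uniquely as `X ⟶ τ≥q X ⟶ τ<q Y ⟶ Y`.  Specialised to the derived category with homological
criteria for the vanishing.
-/

set_option autoImplicit false
set_option backward.isDefEq.respectTransparency false
set_option backward.isDefEq.respectTransparency.types false

open CategoryTheory CategoryTheory.Limits CategoryTheory.Pretriangulated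
  CategoryTheory.Triangulated

universe w v u

namespace Groth.Agent.Lib.Helper10.TruncMap

section Abstract

variable {C : Type*} [Category C] [Preadditive C] [HasZeroObject C] [HasShift C ℤ]
  [∀ (n : ℤ), (shiftFunctor C n).Additive] [Pretriangulated C] (t : TStructure C)

/-- Strengthening of `from_truncGE_obj_ext`: the target only needs to be `≥ n - 1`. -/
theorem from_truncGE_obj_ext' {n : ℤ} {X Y : C} {f₁ f₂ : (t.truncGE n).obj X ⟶ Y}
    (h : (t.truncGEπ n).app X ≫ f₁ = (t.truncGEπ n).app X ≫ f₂) [t.IsGE Y (n - 1)] :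
    f₁ = f₂ := by
  suffices ∀ (f : (t.truncGE n).obj X ⟶ Y), (t.truncGEπ n).app X ≫ f = 0 → f = 0 by
    rw [← sub_eq_zero, this (f₁ - f₂) (by rw [Preadditive.comp_sub, h, sub_self])]
  intro f hf
  obtain ⟨g, hg⟩ := Triangle.yoneda_exact₃ _ (t.triangleLTGE_distinguished n X) f hf
  have hg' := t.zero_of_isLE_of_isGE g (n - 2) (n - 1) (by lia)
    (by exact t.isLE_shift _ (n - 1) 1 (n - 2) (by lia)) inferInstance
  rw [hg, hg', comp_zero]

set_option backward.defeqAttrib.useBackward true in
/-- Strengthening of `to_truncLT_obj_ext`: the source only needs to be `≤ n`. -/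
theorem to_truncLT_obj_ext' {n : ℤ} {Y X : C} {f₁ f₂ : Y ⟶ (t.truncLT n).obj X}
    (h : f₁ ≫ (t.truncLTι n).app X = f₂ ≫ (t.truncLTι n).app X) [t.IsLE Y n] :
    f₁ = f₂ := by
  suffices ∀ (f : Y ⟶ (t.truncLT n).obj X) (_ : f ≫ (t.truncLTι n).app X = 0), f = 0 by
    rw [← sub_eq_zero, this (f₁ - f₂) (by rw [Preadditive.sub_comp, h, sub_self])]
  intro f hf
  obtain ⟨g, hg⟩ := Triangle.coyoneda_exact₂ _ (inv_rot_of_distTriang _
    (t.triangleLTGE_distinguished n X)) f hf
  have hg' := t.zero_of_isLE_of_isGE g n (n + 1) (by lia) inferInstance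
    (by dsimp; apply (t.isGE_shift _ n (-1) (n + 1) (by lia)))
  rw [hg, hg', zero_comp]

variable [IsTriangulated C]

/-- The abstract factorisation lemma. -/
theorem existsUnique_factor {X Y : C} (q : ℤ) [t.IsLE X q] [t.IsGE Y (q - 1)] (g : X ⟶ Y)
    (h1 : (t.truncGE q).map g = 0) (h2 : (t.truncLT q).map g = 0) :
    ∃! L : (t.truncGE q).obj X ⟶ (t.truncLT q).obj Y,
      g = (t.truncGEπ q).app X ≫ L ≫ (t.truncLTι q).app Y := by
  have e1 : g ≫ (t.truncGEπ q).app Y = 0 := by
    have := (t.truncGEπ q).naturality g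
    dsimp at this
    rw [this, h1, comp_zero]
  obtain ⟨g₁, hg₁⟩ := Triangle.coyoneda_exact₂ _ (t.triangleLTGE_distinguished q Y) g e1
  have hg₁' : g = g₁ ≫ (t.truncLTι q).app Y := hg₁
  have e2 : (t.truncLTι q).app X ≫ g₁ = 0 := by
    apply t.to_truncLT_obj_ext
    have := (t.truncLTι q).naturality g
    dsimp at this
    rw [Category.assoc, ← hg₁', ← this, h2, zero_comp]
  obtain ⟨L, hL⟩ := Triangle.yoneda_exact₂ _ (t.triangleLTGE_distinguished q X) g₁ e2
  have hL' : g₁ = (t.truncGEπ q).app X ≫ L := hL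
  refine ⟨L, ?_, ?_⟩
  · show g = (t.truncGEπ q).app X ≫ L ≫ (t.truncLTι q).app Y
    rw [← Category.assoc, ← hL']
    exact hg₁'
  · intro L' hL''
    have hL'' : g = (t.truncGEπ q).app X ≫ L' ≫ (t.truncLTι q).app Y := hL''
    have e3 : L' ≫ (t.truncLTι q).app Y = L ≫ (t.truncLTι q).app Y := by
      refine from_truncGE_obj_ext' t (Y := Y) ?_
      rw [← hL'', ← Category.assoc, ← hL', ← hg₁']
    exact to_truncLT_obj_ext' t e3

end Abstract

section Derived

variable {C : Type u} [Category.{v} C] [Abelian C] [HasDerivedCategory.{w} C]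

open DerivedCategory

/-- the canonical t-structure -/
noncomputable abbrev tt : TStructure (DerivedCategory C) := DerivedCategory.TStructure.t

theorem mono_homology_truncLTι (Z : DerivedCategory C) (b n : ℤ) (hn : n ≤ b) :
    Mono ((homologyFunctor C n).map ((tt.truncLTι b).app Z)) := by
  have hT := tt.triangleLTGE_distinguished b Z
  have hz : IsZero ((homologyFunctor C (n - 1)).obj ((tt.triangleLTGE b).obj Z).obj₃) :=
    isZero_of_isGE ((tt.triangleLTGE b).obj Z).obj₃ b (n - 1) (by lia)
  exact (HomologySequence.mono_homologyMap_mor₁_iff _ hT (n - 1) n (by lia)).2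
    (hz.eq_of_src _ _)

theorem epi_homology_truncGEπ (Z : DerivedCategory C) (a n : ℤ) (hn : a - 1 ≤ n) :
    Epi ((homologyFunctor C n).map ((tt.truncGEπ a).app Z)) := by
  have hT := tt.triangleLTGE_distinguished a Z
  have hz : IsZero ((homologyFunctor C (n + 1)).obj ((tt.triangleLTGE a).obj Z).obj₁) :=
    isZero_of_isLE ((tt.triangleLTGE a).obj Z).obj₁ (a - 1) (n + 1) (by lia)
  exact (HomologySequence.epi_homologyMap_mor₂_iff _ hT n (n + 1) rfl).2
    (hz.eq_of_tgt _ _)

theorem homology_truncLT_map_eq_zero {Z Z' : DerivedCategory C} (f : Z ⟶ Z') (b n : ℤ)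
    (hn : n ≤ b) (hf : (homologyFunctor C n).map f = 0) :
    (homologyFunctor C n).map ((tt.truncLT b).map f) = 0 := by
  haveI := mono_homology_truncLTι Z' b n hn
  have h := (tt.truncLTι b).naturality f
  dsimp at h
  rw [← cancel_mono ((homologyFunctor C n).map ((tt.truncLTι b).app Z')), zero_comp,
    ← Functor.map_comp, h, Functor.map_comp, hf, comp_zero]

theorem homology_truncGE_map_eq_zero {Z Z' : DerivedCategory C} (f : Z ⟶ Z') (a n : ℤ)
    (hn : a - 1 ≤ n) (hf : (homologyFunctor C n).map f = 0) :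
    (homologyFunctor C n).map ((tt.truncGE a).map f) = 0 := by
  haveI := epi_homology_truncGEπ Z a n hn
  have h := (tt.truncGEπ a).naturality f
  dsimp at h
  rw [← cancel_epi ((homologyFunctor C n).map ((tt.truncGEπ a).app Z)), comp_zero,
    ← Functor.map_comp, ← h, Functor.map_comp, hf, zero_comp]

/-- A map between objects concentrated in degree `n` vanishes if it vanishes on `H^n`. -/
theorem eq_zero_of_homology_eq_zero {M M' : DerivedCategory C} (u : M ⟶ M') (n : ℤ)
    [M.IsGE n] [M.IsLE n] [M'.IsGE n] [M'.IsLE n]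
    (hu : (homologyFunctor C n).map u = 0) : u = 0 := by
  obtain ⟨A, ⟨e⟩⟩ := exists_iso_singleFunctor_obj_of_isGE_of_isLE M n
  obtain ⟨A', ⟨e'⟩⟩ := exists_iso_singleFunctor_obj_of_isGE_of_isLE M' n
  obtain ⟨a, ha⟩ := (singleFunctor C n).map_surjective (e.inv ≫ u ≫ e'.hom)
  have h0 : (homologyFunctor C n).map ((singleFunctor C n).map a) = 0 := by
    rw [ha, Functor.map_comp, Functor.map_comp, hu, zero_comp, comp_zero]
  have hnat := (singleFunctorCompHomologyFunctorIso C n).hom.naturality a
  dsimp at hnat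
  rw [h0, zero_comp] at hnat
  have ha0 : a = 0 := by
    rw [← cancel_epi ((singleFunctorCompHomologyFunctorIso C n).hom.app A), ← hnat, comp_zero]
  have h1 : e.inv ≫ u ≫ e'.hom = 0 := by rw [← ha, ha0, Functor.map_zero]
  have h2 : u = e.hom ≫ (e.inv ≫ u ≫ e'.hom) ≫ e'.inv := by simp
  rw [h2, h1, zero_comp, comp_zero]

/-- The statement of the milestone, for the canonical t-structure. -/
theorem existsUnique_truncMap {K K' : DerivedCategory C} (f : K ⟶ K') (q : ℤ)
    (h₁ : (homologyFunctor C (q - 1)).map f = 0) (h₂ : (homologyFunctor C q).map f = 0) :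
    ∃! L : (tt.truncGELT q (q + 1)).obj K ⟶ (tt.truncGELT (q - 1) q).obj K',
      (tt.truncGELT (q - 1) (q + 1)).map f =
        (tt.natTransTruncGEOfLE (q - 1) q (sub_one_lt q).le).app ((tt.truncLT (q + 1)).obj K) ≫
          L ≫ (tt.truncGE (q - 1)).map
            ((tt.natTransTruncLTOfLE q (q + 1) (lt_add_one q).le).app K') := by
  -- notation
  let W := (tt.truncLT (q + 1)).obj K
  let W' := (tt.truncLT (q + 1)).obj K'
  let V' := (tt.truncLT q).obj K'
  let X := (tt.truncGE (q - 1)).obj W
  let Y := (tt.truncGE (q - 1)).obj W'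
  let P := (tt.truncGE q).obj W
  let I := (tt.truncGE (q - 1)).obj V'
  let φ : W ⟶ W' := (tt.truncLT (q + 1)).map f
  let g : X ⟶ Y := (tt.truncGE (q - 1)).map φ
  let p : X ⟶ P := (tt.natTransTruncGEOfLE (q - 1) q (sub_one_lt q).le).app W
  let j : V' ⟶ W' := (tt.natTransTruncLTOfLE q (q + 1) (lt_add_one q).le).app K'
  let i : I ⟶ Y := (tt.truncGE (q - 1)).map j
  -- instances
  haveI hXle : tt.IsLE X q := by dsimp only [X, W]; infer_instance
  haveI hYge : tt.IsGE Y (q - 1) := by dsimp only [Y]; infer_instance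
  haveI hYle : tt.IsLE Y q := by dsimp only [Y, W']; infer_instance
  haveI hXge : tt.IsGE X (q - 1) := by dsimp only [X]; infer_instance
  haveI hIle : tt.IsLE I (q - 1) := by dsimp only [I, V']; infer_instance
  -- vanishing of the truncations of g
  have hg1 : (tt.truncGE q).map g = 0 := by
    haveI : ((tt.truncGE q).obj X).IsGE q := by dsimp only [DerivedCategory.IsGE]; infer_instance
    haveI : ((tt.truncGE q).obj X).IsLE q := by dsimp only [DerivedCategory.IsLE]; infer_instance
    haveI : ((tt.truncGE q).obj Y).IsGE q := by dsimp only [DerivedCategory.IsGE]; infer_instance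
    haveI : ((tt.truncGE q).obj Y).IsLE q := by dsimp only [DerivedCategory.IsLE]; infer_instance
    refine eq_zero_of_homology_eq_zero _ q ?_
    exact homology_truncGE_map_eq_zero _ q q (by lia)
      (homology_truncGE_map_eq_zero _ (q - 1) q (by lia)
        (homology_truncLT_map_eq_zero f (q + 1) q (by lia) h₂))
  have hg2 : (tt.truncLT q).map g = 0 := by
    haveI : ((tt.truncLT q).obj X).IsGE (q - 1) := by
      dsimp only [DerivedCategory.IsGE]; infer_instance
    haveI : ((tt.truncLT q).obj X).IsLE (q - 1) := by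
      dsimp only [DerivedCategory.IsLE]; infer_instance
    haveI : ((tt.truncLT q).obj Y).IsGE (q - 1) := by
      dsimp only [DerivedCategory.IsGE]; infer_instance
    haveI : ((tt.truncLT q).obj Y).IsLE (q - 1) := by
      dsimp only [DerivedCategory.IsLE]; infer_instance
    refine eq_zero_of_homology_eq_zero _ (q - 1) ?_
    exact homology_truncLT_map_eq_zero _ q (q - 1) (by lia)
      (homology_truncGE_map_eq_zero _ (q - 1) (q - 1) (by lia)
        (homology_truncLT_map_eq_zero f (q + 1) (q - 1) (by lia) h₁))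
  -- the abstract lemma
  obtain ⟨L₀, hL₀, huniq⟩ := existsUnique_factor tt q g hg1 hg2
  have hL₀' : g = (tt.truncGEπ q).app X ≫ L₀ ≫ (tt.truncLTι q).app Y := hL₀
  -- identification of P with τ≥q X
  haveI hePiso : IsIso ((tt.truncGE q).map ((tt.truncGEπ (q - 1)).app W)) :=
    tt.isIso_truncGE_map_truncGEπ_app q (q - 1) (by lia) W
  let eP : P ≅ (tt.truncGE q).obj X := asIso ((tt.truncGE q).map ((tt.truncGEπ (q - 1)).app W))
  have hp : p ≫ eP.hom = (tt.truncGEπ q).app X := by
    haveI : tt.IsGE ((tt.truncGE q).obj X) (q - 1) := by infer_instance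
    apply tt.from_truncGE_obj_ext
    have h1 : (tt.truncGEπ (q - 1)).app W ≫ p = (tt.truncGEπ q).app W :=
      tt.π_natTransTruncGEOfLE_app (q - 1) q (sub_one_lt q).le W
    have h2 := (tt.truncGEπ q).naturality ((tt.truncGEπ (q - 1)).app W)
    dsimp at h2
    rw [← Category.assoc, h1]
    exact h2.symm
  -- identification of I with τ<q Y
  let e : I ⟶ (tt.truncLT q).obj Y := tt.liftTruncLT i (q - 1) q (by lia)
  have he : e ≫ (tt.truncLTι q).app Y = i := tt.liftTruncLT_ι i (q - 1) q (by lia)
  haveI hιI : IsIso ((tt.truncLTι q).app I) :=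
    (tt.isLE_iff_isIso_truncLTι_app (q - 1) q (by lia) I).1 inferInstance
  have hfac : (tt.truncLTι q).app I ≫ e = (tt.truncLT q).map i := by
    apply tt.to_truncLT_obj_ext
    have h := (tt.truncLTι q).naturality i
    dsimp at h
    rw [Category.assoc, he, h]
  haveI hj : IsIso ((tt.truncLT q).map j) := by
    have h1 : j ≫ (tt.truncLTι (q + 1)).app K' = (tt.truncLTι q).app K' :=
      tt.natTransTruncLTOfLE_ι_app q (q + 1) (lt_add_one q).le K'
    haveI : IsIso ((tt.truncLT q).map ((tt.truncLTι (q + 1)).app K')) :=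
      tt.isIso_truncLT_map_truncLTι_app q (q + 1) (by lia) K'
    haveI : IsIso ((tt.truncLT q).map j ≫ (tt.truncLT q).map ((tt.truncLTι (q + 1)).app K')) := by
      rw [← Functor.map_comp, h1]
      infer_instance
    exact IsIso.of_isIso_comp_right ((tt.truncLT q).map j)
      ((tt.truncLT q).map ((tt.truncLTι (q + 1)).app K'))
  haveI hi : IsIso ((tt.truncLT q).map i) := by
    have : IsIso ((tt.truncGELT (q - 1) q).map j) := by
      dsimp only [TStructure.truncGELT, Functor.comp_map]
      infer_instance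
    exact (NatIso.isIso_map_iff (tt.truncGELTIsoLTGE (q - 1) q) j).1 this
  haveI heiso : IsIso e := by
    have : e = inv ((tt.truncLTι q).app I) ≫ (tt.truncLT q).map i := by
      rw [← hfac, IsIso.inv_hom_id_assoc]
    rw [this]
    infer_instance
  have hei : inv e ≫ i = (tt.truncLTι q).app Y := by
    rw [← he, IsIso.inv_hom_id_assoc]
  -- assembly
  refine ⟨eP.hom ≫ L₀ ≫ inv e, ?_, ?_⟩
  · show g = p ≫ (eP.hom ≫ L₀ ≫ inv e) ≫ i
    rw [hL₀', ← hp, ← hei]
    simp only [Category.assoc]
  · intro L' hL'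
    have hL'' : g = p ≫ L' ≫ i := hL'
    have h3 : eP.inv ≫ L' ≫ e = L₀ := by
      apply huniq
      show g = (tt.truncGEπ q).app X ≫ (eP.inv ≫ L' ≫ e) ≫ (tt.truncLTι q).app Y
      rw [hL'', ← hp]
      simp only [Category.assoc, Iso.hom_inv_id_assoc, he]
    rw [← h3]
    simp only [Category.assoc, Iso.hom_inv_id_assoc, IsIso.hom_inv_id, Category.comp_id]

end Derived

end Groth.Agent.Lib.Helper10.TruncMap
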