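import Mathlib
import Groth.Agent.Lib.Helper10.TruncMap

/-!
# Splitting of bounded objects of the derived category

Helper lemmas (helper10): an additive functor applied to a biproduct one of whose summands
carries everything; homology of truncation maps; a dévissage vanishing lemma; existence of
sections `H^i(K)[-i] ⟶ K` when suitable `Ext`-groups vanish.
-/

set_option autoImplicit false
set_option backward.isDefEq.respectTransparency false
set_option backward.isDefEq.respectTransparency.types false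

open CategoryTheory CategoryTheory.Limits CategoryTheory.Pretriangulated

universe w v u

namespace Groth.Agent.Lib.Helper10.SplitDer

open Groth.Agent.Lib.Helper10.TruncMap

section Biprod

variable {D E : Type*} [Category D] [Category E] [Preadditive D] [Preadditive E]
  (F : D ⥤ E) [F.Additive] {J : Type} [Fintype J] (X : J → D) [HasBiproduct X]

theorem isZero_map_biproduct (hz : ∀ j, IsZero (F.obj (X j))) : IsZero (F.obj (⨁ X)) := by
  rw [IsZero.iff_id_eq_zero, ← F.map_id, ← biproduct.total, F.map_sum]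
  refine Finset.sum_eq_zero (fun j _ => ?_)
  rw [F.map_comp, (hz j).eq_of_tgt (F.map (biproduct.π X j)) 0, zero_comp]

theorem id_eq_of_isZero (i₀ : J) (hz : ∀ j, j ≠ i₀ → IsZero (F.obj (X j))) :
    𝟙 (F.obj (⨁ X)) = F.map (biproduct.π X i₀) ≫ F.map (biproduct.ι X i₀) := by
  rw [← F.map_id, ← biproduct.total, F.map_sum, Finset.sum_eq_single i₀, F.map_comp]
  · intro j _ hj
    rw [F.map_comp, (hz j hj).eq_of_tgt (F.map (biproduct.π X j)) 0, zero_comp]
  · intro h
    exact absurd (Finset.mem_univ _) h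

theorem isIso_map_desc {Y : D} (s : ∀ j, X j ⟶ Y) (i₀ : J) (h₀ : IsIso (F.map (s i₀)))
    (hz : ∀ j, j ≠ i₀ → IsZero (F.obj (X j))) : IsIso (F.map (biproduct.desc s)) := by
  have hid := id_eq_of_isZero F X i₀ hz
  refine ⟨⟨inv (F.map (s i₀)) ≫ F.map (biproduct.ι X i₀), ?_, ?_⟩⟩
  · calc F.map (biproduct.desc s) ≫ inv (F.map (s i₀)) ≫ F.map (biproduct.ι X i₀)
        = (F.map (biproduct.π X i₀) ≫ F.map (biproduct.ι X i₀)) ≫ F.map (biproduct.desc s) ≫
            inv (F.map (s i₀)) ≫ F.map (biproduct.ι X i₀) := by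
          rw [← hid, Category.id_comp]
      _ = F.map (biproduct.π X i₀) ≫ (F.map (biproduct.ι X i₀ ≫ biproduct.desc s)) ≫
            inv (F.map (s i₀)) ≫ F.map (biproduct.ι X i₀) := by
          rw [F.map_comp]; simp only [Category.assoc]
      _ = F.map (biproduct.π X i₀) ≫ F.map (biproduct.ι X i₀) := by
          rw [biproduct.ι_desc, IsIso.hom_inv_id_assoc]
      _ = 𝟙 _ := hid.symm
  · rw [Category.assoc, ← F.map_comp, biproduct.ι_desc, IsIso.inv_hom_id]

end Biprod

section Derived

variable {C : Type u} [Category.{v} C] [Abelian C] [HasDerivedCategory.{w} C]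

open DerivedCategory

theorem isIso_homology_truncLTι (Z : DerivedCategory C) (b n : ℤ) (hn : n < b) :
    IsIso ((homologyFunctor C n).map ((tt.truncLTι b).app Z)) := by
  haveI := mono_homology_truncLTι Z b n hn.le
  haveI : Epi ((homologyFunctor C n).map ((tt.truncLTι b).app Z)) := by
    have hT := tt.triangleLTGE_distinguished b Z
    have hz : IsZero ((homologyFunctor C n).obj ((tt.triangleLTGE b).obj Z).obj₃) :=
      isZero_of_isGE ((tt.triangleLTGE b).obj Z).obj₃ b n hn
    exact (HomologySequence.epi_homologyMap_mor₁_iff _ hT n).2 (hz.eq_of_tgt _ _)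
  exact isIso_of_mono_of_epi _

theorem isIso_homology_truncGEπ (Z : DerivedCategory C) (a n : ℤ) (hn : a ≤ n) :
    IsIso ((homologyFunctor C n).map ((tt.truncGEπ a).app Z)) := by
  haveI := epi_homology_truncGEπ Z a n (by lia)
  haveI : Mono ((homologyFunctor C n).map ((tt.truncGEπ a).app Z)) := by
    have hT := tt.triangleLTGE_distinguished a Z
    have hz : IsZero ((homologyFunctor C n).obj ((tt.triangleLTGE a).obj Z).obj₁) :=
      isZero_of_isLE ((tt.triangleLTGE a).obj Z).obj₁ (a - 1) n (by lia)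
    exact (HomologySequence.mono_homologyMap_mor₂_iff _ hT n).2 (hz.eq_of_src _ _)
  exact isIso_of_mono_of_epi _

theorem isZero_homology_single (M : C) (j n : ℤ) (h : n ≠ j) :
    IsZero ((homologyFunctor C n).obj ((singleFunctor C j).obj M)) := by
  rcases lt_or_gt_of_ne h with h | h
  · exact isZero_of_isGE _ j n h
  · exact isZero_of_isLE _ j n h

/-- Dévissage: a map to a bounded object vanishes as soon as all maps to its shifted
cohomology objects vanish. -/
theorem hom_eq_zero_of_single (X : DerivedCategory C) :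
    ∀ (n : ℕ) (N : DerivedCategory C) (a : ℤ), N.IsGE a → N.IsLE (a + n - 1) →
      (∀ (j : ℤ) (f : X ⟶ (singleFunctor C j).obj ((homologyFunctor C j).obj N)), f = 0) →
      ∀ f : X ⟶ N, f = 0 := by
  intro n
  induction n with
  | zero =>
    intro N a hGE hLE _ f
    haveI := hGE
    haveI := hLE
    exact (tt.isZero N (a + ((0 : ℕ) : ℤ) - 1) a (by simp)).eq_of_tgt _ _
  | succ n IH =>
    intro N a hGE hLE hyp f
    haveI := hGE
    obtain ⟨c, hc⟩ : ∃ c : ℤ, c = a + (n : ℤ) := ⟨_, rfl⟩
    haveI hLE' : N.IsLE c := by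
      have e : a + ((n + 1 : ℕ) : ℤ) - 1 = c := by rw [hc]; push_cast; ring
      rw [← e]; exact hLE
    have hT := tt.triangleLTGE_distinguished c N
    haveI : tt.IsLE ((tt.truncGE c).obj N) c := inferInstance
    haveI : tt.IsGE ((tt.truncGE c).obj N) c := inferInstance
    obtain ⟨M, ⟨e⟩⟩ := exists_iso_singleFunctor_obj_of_isGE_of_isLE ((tt.truncGE c).obj N) c
    haveI hπ : IsIso ((homologyFunctor C c).map ((tt.truncGEπ c).app N)) :=
      isIso_homology_truncGEπ N c c le_rfl
    let θ : M ≅ (homologyFunctor C c).obj N :=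
      ((singleFunctorCompHomologyFunctorIso C c).symm.app M) ≪≫
        (homologyFunctor C c).mapIso e.symm ≪≫
        (asIso ((homologyFunctor C c).map ((tt.truncGEπ c).app N))).symm
    have h1 : f ≫ (tt.truncGEπ c).app N = 0 := by
      have h := hyp c ((f ≫ (tt.truncGEπ c).app N) ≫ (e ≪≫ (singleFunctor C c).mapIso θ).hom)
      exact (cancel_mono (e ≪≫ (singleFunctor C c).mapIso θ).hom).1 (by rw [h, zero_comp])
    obtain ⟨g, hg⟩ := Triangle.coyoneda_exact₂ ((tt.triangleLTGE c).obj N) hT f h1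
    have hyp' : ∀ (j : ℤ) (f' : X ⟶ (singleFunctor C j).obj
        ((homologyFunctor C j).obj ((tt.truncLT c).obj N))), f' = 0 := by
      intro j f'
      by_cases hj : j < c
      · haveI := isIso_homology_truncLTι N c j hj
        have h := hyp j (f' ≫ (singleFunctor C j).map
          ((homologyFunctor C j).map ((tt.truncLTι c).app N)))
        exact (cancel_mono ((singleFunctor C j).map
          ((homologyFunctor C j).map ((tt.truncLTι c).app N)))).1 (by rw [h, zero_comp])
      · have hz : IsZero ((homologyFunctor C j).obj ((tt.truncLT c).obj N)) :=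
          isZero_of_isLE _ (c - 1) j (by lia)
        exact ((singleFunctor C j).map_isZero hz).eq_of_tgt _ _
    have hLE'' : ((tt.truncLT c).obj N).IsLE (a + (n : ℤ) - 1) := by
      rw [← hc]; infer_instance
    have hg0 : g = 0 := IH ((tt.truncLT c).obj N) a inferInstance hLE'' hyp' g
    rw [hg, hg0, zero_comp]

/-- Translation of the vanishing of `Ext^p`, `p ≥ 2`, between objects in degree `0`. -/
theorem ext_translate (M M' : C) (i j : ℤ) (hji : j < i)
    (h : ∀ p : ℕ, 2 ≤ p → ∀ f : (singleFunctor C 0).obj M ⟶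
      ((singleFunctor C 0).obj M')⟦(p : ℤ)⟧, f = 0)
    (g : ((singleFunctor C i).obj M)⟦(-1 : ℤ)⟧ ⟶ (singleFunctor C j).obj M') : g = 0 := by
  obtain ⟨p, hp⟩ : ∃ p : ℕ, (p : ℤ) = i - j + 1 :=
    ⟨(i - j + 1).toNat, Int.toNat_of_nonneg (by lia)⟩
  have hp2 : 2 ≤ p := by lia
  let e₁ : (((singleFunctor C i).obj M)⟦(-1 : ℤ)⟧)⟦i + 1⟧ ≅ (singleFunctor C 0).obj M :=
    ((shiftFunctorAdd' (DerivedCategory C) (-1) (i + 1) i (by ring)).app _).symm ≪≫
      ((singleFunctors C).shiftIso i 0 i (by simp)).app M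
  let e₂ : ((singleFunctor C j).obj M')⟦i + 1⟧ ≅ ((singleFunctor C 0).obj M')⟦(p : ℤ)⟧ :=
    (shiftFunctorAdd' (DerivedCategory C) j (p : ℤ) (i + 1) (by lia)).app _ ≪≫
      (shiftFunctor (DerivedCategory C) (p : ℤ)).mapIso
        (((singleFunctors C).shiftIso j 0 j (by simp)).app M')
  have h0 := h p hp2 (e₁.inv ≫ g⟦i + 1⟧' ≫ e₂.hom)
  have h2 : g⟦i + 1⟧' = 0 := by
    have h3 : g⟦i + 1⟧' = e₁.hom ≫ (e₁.inv ≫ g⟦i + 1⟧' ≫ e₂.hom) ≫ e₂.inv := by simp
    rw [h3, h0, zero_comp, comp_zero]
  exact (shiftFunctor (DerivedCategory C) (i + 1)).map_injective (by rw [h2, Functor.map_zero])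

/-- Existence of a section `H^i(K)[-i] ⟶ K` inducing an isomorphism on `H^i`. -/
theorem exists_section (K : DerivedCategory C) (a : ℤ) [K.IsGE a] (i : ℤ)
    (hExt : ∀ (j : ℤ), j < i →
      ∀ g : ((singleFunctor C i).obj ((homologyFunctor C i).obj K))⟦(-1 : ℤ)⟧ ⟶
        (singleFunctor C j).obj ((homologyFunctor C j).obj K), g = 0) :
    ∃ s : (singleFunctor C i).obj ((homologyFunctor C i).obj K) ⟶ K,
      IsIso ((homologyFunctor C i).map s) := by
  have hT := tt.triangleLTLTGELT_distinguished i (i + 1) (by lia) K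
  haveI : tt.IsLE ((tt.truncLT (i + 1)).obj K) i := inferInstance
  haveI : tt.IsLE ((tt.truncGE i).obj ((tt.truncLT (i + 1)).obj K)) i := inferInstance
  haveI : tt.IsGE ((tt.truncGE i).obj ((tt.truncLT (i + 1)).obj K)) i := inferInstance
  obtain ⟨M, ⟨e⟩⟩ := exists_iso_singleFunctor_obj_of_isGE_of_isLE
    ((tt.truncGE i).obj ((tt.truncLT (i + 1)).obj K)) i
  haveI h2 : IsIso ((homologyFunctor C i).map
      ((tt.truncGEπ i).app ((tt.truncLT (i + 1)).obj K))) :=
    isIso_homology_truncGEπ _ i i le_rfl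
  haveI h3 : IsIso ((homologyFunctor C i).map ((tt.truncLTι (i + 1)).app K)) :=
    isIso_homology_truncLTι K (i + 1) i (by lia)
  let θ : M ≅ (homologyFunctor C i).obj K :=
    ((singleFunctorCompHomologyFunctorIso C i).symm.app M) ≪≫
      (homologyFunctor C i).mapIso e.symm ≪≫
      (asIso ((homologyFunctor C i).map
        ((tt.truncGEπ i).app ((tt.truncLT (i + 1)).obj K)))).symm ≪≫
      asIso ((homologyFunctor C i).map ((tt.truncLTι (i + 1)).app K))
  let e' : (tt.truncGE i).obj ((tt.truncLT (i + 1)).obj K) ≅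
      (singleFunctor C i).obj ((homologyFunctor C i).obj K) :=
    e ≪≫ (singleFunctor C i).mapIso θ
  have hδ : ((tt.triangleLTLTGELT i (i + 1) (by lia)).obj K).mor₃ = 0 := by
    obtain ⟨n, hn⟩ : ∃ n : ℕ, i - a ≤ (n : ℤ) := ⟨(i - a).toNat, Int.self_le_toNat _⟩
    haveI : tt.IsGE ((tt.truncLT i).obj K) a := inferInstance
    haveI : tt.IsLE ((tt.truncLT i).obj K) (i - 1) := inferInstance
    have hNLE : tt.IsLE ((tt.truncLT i).obj K) (a + (n : ℤ) - 1) :=
      tt.isLE_of_le _ (i - 1) _ (by lia)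
    have hg := hom_eq_zero_of_single
      (((singleFunctor C i).obj ((homologyFunctor C i).obj K))⟦(-1 : ℤ)⟧) n
      ((tt.truncLT i).obj K) a inferInstance hNLE ?_
      ((e'.inv ≫ ((tt.triangleLTLTGELT i (i + 1) (by lia)).obj K).mor₃)⟦(-1 : ℤ)⟧' ≫
        (shiftFunctorCompIsoId (DerivedCategory C) (1 : ℤ) (-1) (by simp)).hom.app
          ((tt.truncLT i).obj K))
    · have h4 : (e'.inv ≫ ((tt.triangleLTLTGELT i (i + 1) (by lia)).obj K).mor₃)⟦(-1 : ℤ)⟧'
          = 0 := by
        rw [← cancel_mono ((shiftFunctorCompIsoId (DerivedCategory C) (1 : ℤ) (-1)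
          (by simp)).hom.app ((tt.truncLT i).obj K)), hg, zero_comp]
      have h5 : e'.inv ≫ ((tt.triangleLTLTGELT i (i + 1) (by lia)).obj K).mor₃ = 0 :=
        (shiftFunctor (DerivedCategory C) (-1 : ℤ)).map_injective
          (by rw [h4, Functor.map_zero])
      rw [← cancel_epi e'.inv, h5, comp_zero]
    · intro j f
      by_cases hj : j < i
      · haveI := isIso_homology_truncLTι K i j hj
        have h := hExt j hj (f ≫ (singleFunctor C j).map
          ((homologyFunctor C j).map ((tt.truncLTι i).app K)))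
        exact (cancel_mono ((singleFunctor C j).map
          ((homologyFunctor C j).map ((tt.truncLTι i).app K)))).1 (by rw [h, zero_comp])
      · have hz : IsZero ((homologyFunctor C j).obj ((tt.truncLT i).obj K)) :=
          isZero_of_isLE _ (i - 1) j (by lia)
        exact ((singleFunctor C j).map_isZero hz).eq_of_tgt _ _
  obtain ⟨σ, hσ⟩ := Triangle.coyoneda_exact₃ _ hT
    (𝟙 ((tt.truncGE i).obj ((tt.truncLT (i + 1)).obj K))) (by rw [hδ, comp_zero])
  refine ⟨e'.inv ≫ σ ≫ (tt.truncLTι (i + 1)).app K, ?_⟩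
  have hσ2 : σ ≫ (tt.truncGEπ i).app ((tt.truncLT (i + 1)).obj K) = 𝟙 _ := hσ.symm
  have hσ' : (homologyFunctor C i).map σ ≫ (homologyFunctor C i).map
      ((tt.truncGEπ i).app ((tt.truncLT (i + 1)).obj K)) = 𝟙 _ := by
    rw [← Functor.map_comp, hσ2]
    exact (homologyFunctor C i).map_id _
  haveI : IsIso ((homologyFunctor C i).map σ) := by
    have h6 : (homologyFunctor C i).map σ = inv ((homologyFunctor C i).map
        ((tt.truncGEπ i).app ((tt.truncLT (i + 1)).obj K))) := by
      rw [← cancel_mono ((homologyFunctor C i).map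
        ((tt.truncGEπ i).app ((tt.truncLT (i + 1)).obj K))), hσ', IsIso.inv_hom_id]
    rw [h6]; infer_instance
  rw [Functor.map_comp, Functor.map_comp]
  infer_instance

end Derived

end Groth.Agent.Lib.Helper10.SplitDer
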