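import Mathlib
import Groth.Prelude.Def_FibCat2
import Groth.Agent.Lib.Helper10.Split
import Groth.Agent.Lib.Helper10.FibGrpd
import Groth.Agent.Lib.Helper10.Fib4
import Groth.Agent.Lib.Helper10.StkPost

/-!
# Every fibred category is equivalent to a split one

With `splitF 𝒳 : Cᵒᵖ ⥤ Cat` the strict functor of cartesian functors from the slices, evaluation
at the identities is a functor `ev : ∫ᶜ (splitF 𝒳) ⥤ 𝒳` over `C` which is fully faithful and,
when `𝒳` is fibred, essentially surjective through isomorphisms over identities.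
-/

set_option autoImplicit false
set_option linter.style.haveILetI false
set_option backward.isDefEq.respectTransparency false
set_option backward.isDefEq.respectTransparency.types false

universe v u

open CategoryTheory Functor Opposite

namespace Groth.Agent.Lib.Helper10.Split

open Groth.Agent.Lib.Helper10.Fib

variable {C : Type u} [Category.{v} C] (𝒳 : BasedCategory.{v, max u v} C)

/-- The pseudofunctor attached to `splitF 𝒳`. -/
noncomputable abbrev Fp : Pseudofunctor (LocallyDiscrete Cᵒᵖ) Cat.{v, max u v} :=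
  (splitF 𝒳).toPseudofunctor'

/-- The total category. -/
abbrev Tot := Pseudofunctor.CoGrothendieck (Fp 𝒳)

variable {𝒳}

/-- The fibre component of an object, as a cartesian functor. -/
def fib (X : Tot 𝒳) : CFun 𝒳 X.base := X.fiber

/-- The fibre component of a morphism. -/
def hfib {X Y : Tot 𝒳} (f : X ⟶ Y) : fib X ⟶ (res f.base).obj (fib Y) := f.fiber

/-- Constructor for morphisms of the total category. -/
def mkHom {X Y : Tot 𝒳} (f₀ : X.base ⟶ Y.base) (ψ : fib X ⟶ (res f₀).obj (fib Y)) : X ⟶ Y :=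
  ⟨f₀, ψ⟩

lemma cat_eqToIso_inv_app {A B : Cat.{v, max u v}} {F G : A ⟶ B} (h : F = G) (x : A) :
    (eqToIso h).inv.toNatTrans.app x = eqToHom (by rw [h]) := by
  subst h
  simp

lemma hfib_id (X : Tot 𝒳) : hfib (𝟙 X) = eqToHom (resObj_id (fib X)).symm :=
  cat_eqToIso_inv_app _ X.fiber

/-- The comparison morphism appearing in the composition of the total category. -/
noncomputable def cfib {X Y Z : Tot 𝒳} (f : X ⟶ Y) (g : Y ⟶ Z) :
    (res f.base).obj ((res g.base).obj (fib Z)) ⟶ (res (f.base ≫ g.base)).obj (fib Z) :=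
  ((Fp 𝒳).mapComp g.base.op.toLoc f.base.op.toLoc).inv.toNatTrans.app Z.fiber

lemma cfib_eq {X Y Z : Tot 𝒳} (f : X ⟶ Y) (g : Y ⟶ Z) :
    cfib f g = eqToHom (resObj_comp f.base g.base (fib Z)).symm :=
  cat_eqToIso_inv_app _ Z.fiber

lemma hfib_comp {X Y Z : Tot 𝒳} (f : X ⟶ Y) (g : Y ⟶ Z) :
    hfib (f ≫ g) = hfib f ≫ (res f.base).map (hfib g) ≫ cfib f g := rfl

/-- The value of `ev` on morphisms. -/
noncomputable def evMap {X Y : Tot 𝒳} (f : X ⟶ Y) : (fib X).e ⟶ (fib Y).e :=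
  (hfib f).1 ≫ (fib Y).F.map (tId (bO f.base))

lemma eqToHom_map_tId {U : C} (G : CFun 𝒳 U) {A A' : Over U} (h : A = A')
    (pf : G.F.obj A = G.F.obj A') : eqToHom pf ≫ G.F.map (tId A') = G.F.map (tId A) := by
  subst h
  simp

lemma evMap_id (X : Tot 𝒳) : evMap (𝟙 X) = 𝟙 _ := by
  have h1 : (hfib (𝟙 X)).1 = eqToHom (congrArg CFun.e (resObj_id (fib X)).symm) := by
    rw [hfib_id, eqToHom_val]
  have h2 : eqToHom (congrArg CFun.e (resObj_id (fib X)).symm) ≫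
      (fib X).F.map (tId (bO (𝟙 X.base))) = (fib X).F.map (tId (Over.mk (𝟙 X.base))) :=
    eqToHom_map_tId (fib X) bO_id.symm _
  have h3 : (fib X).F.map (tId (Over.mk (𝟙 X.base))) = 𝟙 _ := by
    rw [tId_self, (fib X).F.map_id]
  have h4 : evMap (𝟙 X) = eqToHom (congrArg CFun.e (resObj_id (fib X)).symm) ≫
      (fib X).F.map (tId (bO (𝟙 X.base))) :=
    congrArg (fun t => t ≫ (fib X).F.map (tId (bO (𝟙 X.base)))) h1
  exact h4.trans (h2.trans h3)

lemma comp_abstract {𝒟 : Type*} [Category 𝒟] {a b c c' d e k : 𝒟} (Φ : a ⟶ k) (ψ₁ : a ⟶ b)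
    (ψ₂ : b ⟶ c) (ε : c ⟶ k) (TA : k ⟶ e) (TT : c ⟶ e) (M : c ⟶ c') (T : c' ⟶ e) (N : b ⟶ d)
    (θ : d ⟶ c') (h1 : Φ = ψ₁ ≫ ψ₂ ≫ ε) (h2 : ε ≫ TA = TT) (h3 : ψ₂ ≫ M = N ≫ θ)
    (h4 : M ≫ T = TT) : Φ ≫ TA = (ψ₁ ≫ N) ≫ (θ ≫ T) := by
  rw [h1, Category.assoc, Category.assoc, h2, ← h4, ← Category.assoc ψ₂, h3]
  simp

lemma evMap_comp {X Y Z : Tot 𝒳} (f : X ⟶ Y) (g : Y ⟶ Z) :
    evMap (f ≫ g) = evMap f ≫ evMap g := by
  have h1 : (hfib (f ≫ g)).1 = (hfib f).1 ≫ app (hfib g) (bO f.base) ≫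
      eqToHom (congrArg CFun.e (resObj_comp f.base g.base (fib Z)).symm) :=
    congrArg (fun t => (hfib f).1 ≫ app (hfib g) (bO f.base) ≫ t)
      ((congrArg (fun t => t.1) (cfib_eq f g)).trans (eqToHom_val _))
  have h2 : eqToHom (congrArg CFun.e (resObj_comp f.base g.base (fib Z)).symm) ≫
      (fib Z).F.map (tId (bO (f.base ≫ g.base))) =
      (fib Z).F.map (tId ((Over.map g.base).obj (bO f.base))) :=
    eqToHom_map_tId (fib Z) (bO_comp f.base g.base).symm _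
  have h3 : app (hfib g) (bO f.base) ≫
      (fib Z).F.map ((Over.map g.base).map (tId (bO f.base))) =
      (fib Y).F.map (tId (bO f.base)) ≫ (hfib g).1 := app_fac (hfib g) (bO f.base)
  have h4 : (fib Z).F.map ((Over.map g.base).map (tId (bO f.base))) ≫
      (fib Z).F.map (tId (bO g.base)) =
      (fib Z).F.map (tId ((Over.map g.base).obj (bO f.base))) := by
    rw [← (fib Z).F.map_comp, tId_comp]
  exact comp_abstract _ _ _ _ _ _ _ _ _ _ h1 h2 h3 h4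

variable (𝒳) in
/-- Evaluation at the identities. -/
noncomputable def ev : Tot 𝒳 ⥤ 𝒳.obj where
  obj X := (fib X).e
  map f := evMap f
  map_id X := evMap_id X
  map_comp f g := evMap_comp f g

lemma isHomLift_congr' {R S : C} {a b : 𝒳.obj} {f f' : R ⟶ S} (h : f = f') (φ : a ⟶ b)
    (hφ : 𝒳.p.IsHomLift f φ) : 𝒳.p.IsHomLift f' φ := by
  subst h
  exact hφ

lemma lift_id_comp' {R S : C} {a b c : 𝒳.obj} (f : R ⟶ S) (φ : a ⟶ b) (ψ : b ⟶ c)
    (hφ : 𝒳.p.IsHomLift (𝟙 R) φ) (hψ : 𝒳.p.IsHomLift f ψ) : 𝒳.p.IsHomLift f (φ ≫ ψ) :=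
  inferInstance

lemma evMap_lift {X Y : Tot 𝒳} (f : X ⟶ Y) : 𝒳.p.IsHomLift f.base (evMap f) := by
  have h : (bO f.base).hom = f.base := by simp
  have h5 : 𝒳.p.IsHomLift (bO f.base).hom (evMap f) :=
    lift_id_comp' (bO f.base).hom (hfib f).1 ((fib Y).F.map (tId (bO f.base))) (hfib f).2
      ((fib Y).isHomLift_map (tId (bO f.base)))
  exact isHomLift_congr' h (evMap f) h5

lemma base_eq {X Y : Tot 𝒳} (f : X ⟶ Y) :
    f.base = eqToHom ((fib X).obj_proj (Over.mk (𝟙 X.base))).symm ≫ 𝒳.p.map (evMap f) ≫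
      eqToHom ((fib Y).obj_proj (Over.mk (𝟙 Y.base))) := by
  haveI := evMap_lift f
  exact IsHomLift.fac 𝒳.p f.base (evMap f)

variable (𝒳) in
lemma ev_w : ev 𝒳 ⋙ 𝒳.p = Pseudofunctor.CoGrothendieck.forget (Fp 𝒳) := by
  refine CategoryTheory.Functor.ext (fun X => (fib X).obj_proj (Over.mk (𝟙 X.base))) ?_
  intro X Y f
  haveI := evMap_lift f
  exact IsHomLift.fac' 𝒳.p f.base (evMap f)

variable (𝒳) in
/-- Evaluation at the identities, as a functor over `C`. -/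
noncomputable def Ev :
    BasedCategory.ofFunctor (Pseudofunctor.CoGrothendieck.forget (Fp 𝒳)) ⥤ᵇ 𝒳 where
  toFunctor := ev 𝒳
  w := ev_w 𝒳

variable (𝒳) in
lemma ev_full : (ev 𝒳).Full := by
  constructor
  intro X Y χ
  change (fib X).e ⟶ (fib Y).e at χ
  let f₀ : X.base ⟶ Y.base :=
    eqToHom ((fib X).obj_proj (Over.mk (𝟙 X.base))).symm ≫ 𝒳.p.map χ ≫
      eqToHom ((fib Y).obj_proj (Over.mk (𝟙 Y.base)))
  haveI hχ : 𝒳.p.IsHomLift f₀ χ :=
    IsHomLift.of_fac 𝒳.p f₀ χ ((fib X).obj_proj (Over.mk (𝟙 X.base)))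
      ((fib Y).obj_proj (Over.mk (𝟙 Y.base))) rfl
  haveI : 𝒳.p.IsStronglyCartesian (bO f₀).hom ((fib Y).F.map (tId (bO f₀))) :=
    (fib Y).sc_tId (bO f₀)
  have hf : f₀ = 𝟙 X.base ≫ (bO f₀).hom := by simp
  obtain ⟨ψ, ⟨hψ1, hψ2⟩, -⟩ := IsStronglyCartesian.universal_property 𝒳.p (bO f₀).hom
    ((fib Y).F.map (tId (bO f₀))) (𝟙 X.base) f₀ hf χ
  exact ⟨mkHom f₀ ⟨ψ, hψ1⟩, hψ2⟩

variable (𝒳) in
lemma ev_faithful : (ev 𝒳).Faithful := by
  constructor
  intro X Y f g h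
  change evMap f = evMap g at h
  have hb : f.base = g.base := by rw [base_eq f, base_eq g, h]
  obtain ⟨fb, ff⟩ := f
  obtain ⟨gb, gf⟩ := g
  change fb = gb at hb
  subst hb
  let ff' : fib X ⟶ (res fb).obj (fib Y) := ff
  let gf' : fib X ⟶ (res fb).obj (fib Y) := gf
  have h' : ff'.1 ≫ (fib Y).F.map (tId (bO fb)) = gf'.1 ≫ (fib Y).F.map (tId (bO fb)) := h
  haveI : 𝒳.p.IsStronglyCartesian (bO fb).hom ((fib Y).F.map (tId (bO fb))) :=
    (fib Y).sc_tId (bO fb)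
  haveI : 𝒳.p.IsHomLift (𝟙 X.base) ff'.1 := ff'.2
  haveI : 𝒳.p.IsHomLift (𝟙 X.base) gf'.1 := gf'.2
  have h6 : ff'.1 = gf'.1 :=
    IsStronglyCartesian.ext 𝒳.p (bO fb).hom ((fib Y).F.map (tId (bO fb))) (𝟙 X.base) h'
  have h7 : ff = gf := Subtype.ext h6
  subst h7
  rfl

section EssSurj

variable [𝒳.p.IsFibered] (x : 𝒳.obj)

/-- The chosen pullback of `x` along the structure morphism of `A`. -/
noncomputable def pb (A : Over (𝒳.p.obj x)) : 𝒳.obj :=
  IsPreFibered.pullbackObj (p := 𝒳.p) (rfl : 𝒳.p.obj x = 𝒳.p.obj x) A.hom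

/-- The chosen cartesian morphism. -/
noncomputable def pbm (A : Over (𝒳.p.obj x)) : pb x A ⟶ x :=
  IsPreFibered.pullbackMap (p := 𝒳.p) (rfl : 𝒳.p.obj x = 𝒳.p.obj x) A.hom

instance pbm_sc (A : Over (𝒳.p.obj x)) : 𝒳.p.IsStronglyCartesian A.hom (pbm x A) := by
  unfold pbm
  infer_instance

lemma gmap_existsUnique {A B : Over (𝒳.p.obj x)} (h : A ⟶ B) :
    ∃! χ : pb x A ⟶ pb x B, 𝒳.p.IsHomLift h.left χ ∧ χ ≫ pbm x B = pbm x A :=
  IsStronglyCartesian.universal_property 𝒳.p B.hom (pbm x B) h.left A.hom (Over.w h).symm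
    (pbm x A)

/-- The morphism between chosen pullbacks induced by a morphism of the slice. -/
noncomputable def gmap {A B : Over (𝒳.p.obj x)} (h : A ⟶ B) : pb x A ⟶ pb x B :=
  (gmap_existsUnique x h).exists.choose

lemma gmap_lift {A B : Over (𝒳.p.obj x)} (h : A ⟶ B) : 𝒳.p.IsHomLift h.left (gmap x h) :=
  (gmap_existsUnique x h).exists.choose_spec.1

lemma gmap_fac {A B : Over (𝒳.p.obj x)} (h : A ⟶ B) : gmap x h ≫ pbm x B = pbm x A :=
  (gmap_existsUnique x h).exists.choose_spec.2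

lemma gmap_uniq {A B : Over (𝒳.p.obj x)} (h : A ⟶ B) (χ : pb x A ⟶ pb x B)
    (h1 : 𝒳.p.IsHomLift h.left χ) (h2 : χ ≫ pbm x B = pbm x A) : χ = gmap x h :=
  (gmap_existsUnique x h).unique ⟨h1, h2⟩ ⟨gmap_lift x h, gmap_fac x h⟩

lemma gmap_sc {A B : Over (𝒳.p.obj x)} (h : A ⟶ B) :
    𝒳.p.IsStronglyCartesian h.left (gmap x h) := by
  haveI := gmap_lift x h
  haveI : 𝒳.p.IsStronglyCartesian (h.left ≫ B.hom) (gmap x h ≫ pbm x B) := by
    rw [gmap_fac, Over.w h]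
    infer_instance
  exact IsStronglyCartesian.of_comp 𝒳.p (f := h.left) (g := B.hom) (φ := gmap x h)
    (ψ := pbm x B)

/-- The cartesian functor `C/(p x) ⥤ 𝒳` of chosen pullbacks of `x`. -/
noncomputable def ofObj : CFun 𝒳 (𝒳.p.obj x) where
  F :=
    { obj := fun A => pb x A
      map := fun h => gmap x h
      map_id := fun A => by
        symm
        apply gmap_uniq
        · exact IsHomLift.id (IsHomLift.domain_eq 𝒳.p A.hom (pbm x A))
        · exact Category.id_comp _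
      map_comp := fun {A B D} h k => by
        symm
        apply gmap_uniq
        · haveI := gmap_lift x h
          haveI := gmap_lift x k
          exact (inferInstance : 𝒳.p.IsHomLift (h.left ≫ k.left) (gmap x h ≫ gmap x k))
        · rw [Category.assoc, gmap_fac, gmap_fac] }
  sc := fun h => gmap_sc x h

lemma exists_iso_ev : ∃ (X : Tot 𝒳) (e : (ev 𝒳).obj X ≅ x),
    𝒳.p.IsHomLift (𝟙 (𝒳.p.obj x)) e.hom := by
  haveI hsc : 𝒳.p.IsStronglyCartesian (𝟙 (𝒳.p.obj x)) (pbm x (Over.mk (𝟙 (𝒳.p.obj x)))) :=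
    pbm_sc x (Over.mk (𝟙 (𝒳.p.obj x)))
  haveI : IsIso (pbm x (Over.mk (𝟙 (𝒳.p.obj x)))) :=
    IsStronglyCartesian.isIso_of_base_isIso 𝒳.p (𝟙 (𝒳.p.obj x)) _
  refine ⟨(⟨𝒳.p.obj x, ofObj x⟩ : Tot 𝒳), asIso (pbm x (Over.mk (𝟙 (𝒳.p.obj x)))), ?_⟩
  exact hsc.toIsHomLift

end EssSurj

variable (𝒳) in
theorem isEquivOver_Ev [𝒳.p.IsFibered] : FibCat.IsEquivOver (Ev 𝒳) := by
  haveI : (Ev 𝒳).toFunctor.Full := ev_full 𝒳
  haveI : (Ev 𝒳).toFunctor.Faithful := ev_faithful 𝒳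
  apply isEquivOver_of_ff
  intro y
  exact exists_iso_ev y

variable (𝒳) in
theorem exists_split [𝒳.p.IsFibered] :
    ∃ (E : 𝒳 ⥤ᵇ BasedCategory.ofFunctor
      (Pseudofunctor.CoGrothendieck.forget (splitF 𝒳).toPseudofunctor')),
      FibCat.IsEquivOver E :=
  Groth.Agent.Lib.Helper10.StkPost.isEquivOver_symm (isEquivOver_Ev 𝒳)

variable (𝒳) in
theorem isGroupoid_splitF (h𝒳 : FibCat.IsFibGrpd 𝒳.p) (U : Cᵒᵖ) :
    IsGroupoid ((splitF 𝒳).obj U) := by
  constructor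
  intro G G' φ
  let φ' : (show CFun 𝒳 U.unop from G) ⟶ (show CFun 𝒳 U.unop from G') := φ
  haveI : 𝒳.p.IsHomLift (𝟙 U.unop) φ'.1 := φ'.2
  haveI : IsIso φ'.1 := IsFibGrpd.isIso_of_isHomLift_id h𝒳 (U := U.unop) φ'.1
  exact ⟨⟨(⟨inv φ'.1, inferInstance⟩ : (show CFun 𝒳 U.unop from G') ⟶
    (show CFun 𝒳 U.unop from G)), Subtype.ext (IsIso.hom_inv_id φ'.1),
    Subtype.ext (IsIso.inv_hom_id φ'.1)⟩⟩

end Groth.Agent.Lib.Helper10.Split
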