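import Mathlib
import Groth.Prelude.Def_FibClv

/-!
# A split fibred category is isomorphic to the category of a strict functor

For a cleavage `K` of `p : 𝒳 ⥤ 𝒮` which is a splitting, the inverse image functors are strictly
functorial (`inverseImage_id`, `inverseImage_comp`), so they assemble to a functor
`splitFun K hK : 𝒮ᵒᵖ ⥤ Cat`, and `𝒳` is isomorphic over `𝒮` to its category of pairs
(`phi`, `psi`, `phi_comp_psi`, `psi_comp_phi`, `phi_comp_forget`).
-/

set_option autoImplicit false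
set_option linter.style.haveILetI false
set_option backward.isDefEq.respectTransparency false
set_option backward.isDefEq.respectTransparency.types false

universe v₁ v₂ u₁ u₂

open CategoryTheory Functor Opposite

namespace Groth.Agent.Lib.Helper10.SplitIso

variable {𝒮 : Type u₁} [Category.{v₁} 𝒮] {𝒳 : Type u₂} [Category.{v₂} 𝒳] {p : 𝒳 ⥤ 𝒮}
  (K : FibCat.Cleavage p)

lemma fiber_eqToHom_val {S : 𝒮} {a b : p.Fiber S} (h : a = b) :
    (eqToHom h : a ⟶ b).1 = eqToHom (congrArg Subtype.val h) := by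
  subst h
  rfl

lemma lift_congr {R S : 𝒮} {a : 𝒳} (ha : p.obj a = S) {f f' : R ⟶ S} (e : f = f')
    (h : K.obj ha f = K.obj ha f') : eqToHom h ≫ K.lift ha f' = K.lift ha f := by
  subst e
  simp

section Normalised

variable (hN : K.IsNormalised)
include hN

lemma obj_id {S : 𝒮} {a : 𝒳} (ha : p.obj a = S) : K.obj ha (𝟙 S) = a := (hN ha).choose

lemma lift_id {S : 𝒮} {a : 𝒳} (ha : p.obj a = S) :
    K.lift ha (𝟙 S) = eqToHom (obj_id K hN ha) := (hN ha).choose_spec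

lemma eqToHom_lift_id {S : 𝒮} {a : 𝒳} (ha : p.obj a = S) (pf : a = K.obj ha (𝟙 S)) :
    eqToHom pf ≫ K.lift ha (𝟙 S) = 𝟙 a := by
  rw [lift_id K hN ha]
  simp

theorem inverseImage_id (S : 𝒮) : K.inverseImage (𝟙 S) = 𝟭 (p.Fiber S) := by
  have hobj : ∀ a : p.Fiber S, (K.inverseImage (𝟙 S)).obj a = a :=
    fun a => Subtype.ext (obj_id K hN a.2)
  refine CategoryTheory.Functor.ext hobj ?_
  intro a b φ
  apply Subtype.ext
  haveI : p.IsHomLift (𝟙 S) φ.1 := φ.2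
  have h1 : ((K.inverseImage (𝟙 S)).map φ).1 =
      IsCartesian.map p (𝟙 S) (K.lift b.2 (𝟙 S)) (K.lift a.2 (𝟙 S) ≫ φ.1) := rfl
  have h2 : (eqToHom (hobj a) ≫ φ ≫ eqToHom (hobj b).symm).1 =
      eqToHom (congrArg Subtype.val (hobj a)) ≫ φ.1 ≫
        eqToHom (congrArg Subtype.val (hobj b).symm) := by
    show (eqToHom (hobj a)).1 ≫ φ.1 ≫ (eqToHom (hobj b).symm).1 = _
    rw [fiber_eqToHom_val, fiber_eqToHom_val]
  refine h1.trans (Eq.trans ?_ h2.symm)
  symm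
  apply IsCartesian.map_uniq
  rw [lift_id K hN b.2, lift_id K hN a.2]
  simp

end Normalised

section Splitting

variable (hK : K.IsSplitting)
include hK

lemma obj_comp {S T U : 𝒮} (f : T ⟶ S) (g : U ⟶ T) {a : 𝒳} (ha : p.obj a = S) :
    K.obj (K.obj_proj ha f) g = K.obj ha (g ≫ f) := (hK.2 f g ha).choose

lemma lift_comp {S T U : 𝒮} (f : T ⟶ S) (g : U ⟶ T) {a : 𝒳} (ha : p.obj a = S) :
    K.lift (K.obj_proj ha f) g ≫ K.lift ha f =
      eqToHom (obj_comp K hK f g ha) ≫ K.lift ha (g ≫ f) := (hK.2 f g ha).choose_spec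

lemma eqToHom_lift_comp {S T U : 𝒮} (f : T ⟶ S) (g : U ⟶ T) {a : 𝒳} (ha : p.obj a = S)
    (pf : K.obj (K.obj_proj ha f) g = K.obj ha (g ≫ f)) :
    eqToHom pf ≫ K.lift ha (g ≫ f) = K.lift (K.obj_proj ha f) g ≫ K.lift ha f :=
  (lift_comp K hK f g ha).symm

lemma eqToHom_lift_lift {S T U : 𝒮} (f : T ⟶ S) (g : U ⟶ T) {a : 𝒳} (ha : p.obj a = S)
    (pf : K.obj ha (g ≫ f) = K.obj (K.obj_proj ha f) g) :
    eqToHom pf ≫ K.lift (K.obj_proj ha f) g ≫ K.lift ha f = K.lift ha (g ≫ f) := by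
  rw [lift_comp K hK f g ha]
  simp

omit hK in
lemma comp_abs {𝒟 : Type*} [Category 𝒟] {x0 x1 x2 x3 y1 y2 z w : 𝒟}
    (ε₁ : x0 ⟶ x1) (M : x1 ⟶ x2) (ε₂ : x2 ⟶ x3) (L : x3 ⟶ w) (Lg : x2 ⟶ y2) (Lf : y2 ⟶ w)
    (Lg' : x1 ⟶ y1) (N : y1 ⟶ y2) (Lf' : y1 ⟶ z) (φ : z ⟶ w) (L' : x0 ⟶ z)
    (e1 : ε₂ ≫ L = Lg ≫ Lf) (e2 : M ≫ Lg = Lg' ≫ N) (e3 : N ≫ Lf = Lf' ≫ φ)
    (e4 : ε₁ ≫ Lg' ≫ Lf' = L') : (ε₁ ≫ M ≫ ε₂) ≫ L = L' ≫ φ := by
  rw [← e4]
  simp only [Category.assoc]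
  rw [e1, ← Category.assoc M, e2]
  simp only [Category.assoc]
  rw [e3]

theorem inverseImage_comp {S T U : 𝒮} (f : T ⟶ S) (g : U ⟶ T) :
    K.inverseImage (g ≫ f) = K.inverseImage f ⋙ K.inverseImage g := by
  have hobj : ∀ a : p.Fiber S,
      (K.inverseImage (g ≫ f)).obj a = (K.inverseImage g).obj ((K.inverseImage f).obj a) :=
    fun a => Subtype.ext (obj_comp K hK f g a.2).symm
  refine CategoryTheory.Functor.ext hobj ?_
  intro a b φ
  apply Subtype.ext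
  haveI : p.IsHomLift (𝟙 S) φ.1 := φ.2
  have h1 : ((K.inverseImage (g ≫ f)).map φ).1 =
      IsCartesian.map p (g ≫ f) (K.lift b.2 (g ≫ f)) (K.lift a.2 (g ≫ f) ≫ φ.1) := rfl
  have h2 : (eqToHom (hobj a) ≫ (K.inverseImage g).map ((K.inverseImage f).map φ) ≫
      eqToHom (hobj b).symm).1 =
      eqToHom (congrArg Subtype.val (hobj a)) ≫
        ((K.inverseImage g).map ((K.inverseImage f).map φ)).1 ≫
        eqToHom (congrArg Subtype.val (hobj b).symm) := by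
    show (eqToHom (hobj a)).1 ≫ _ ≫ (eqToHom (hobj b).symm).1 = _
    rw [fiber_eqToHom_val, fiber_eqToHom_val]
  refine h1.trans (Eq.trans ?_ h2.symm)
  symm
  haveI : p.IsHomLift (𝟙 U) ((K.inverseImage g).map ((K.inverseImage f).map φ)).1 :=
    ((K.inverseImage g).map ((K.inverseImage f).map φ)).2
  apply IsCartesian.map_uniq
  have e1 : eqToHom (congrArg Subtype.val (hobj b).symm) ≫ K.lift b.2 (g ≫ f) =
      K.lift (K.obj_proj b.2 f) g ≫ K.lift b.2 f := eqToHom_lift_comp K hK f g b.2 _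
  have e2 : ((K.inverseImage g).map ((K.inverseImage f).map φ)).1 ≫
      K.lift (K.obj_proj b.2 f) g = K.lift (K.obj_proj a.2 f) g ≫ ((K.inverseImage f).map φ).1 :=
    IsCartesian.fac p g (K.lift (K.obj_proj b.2 f) g) _
  have e3 : ((K.inverseImage f).map φ).1 ≫ K.lift b.2 f = K.lift a.2 f ≫ φ.1 :=
    IsCartesian.fac p f (K.lift b.2 f) _
  have e4 : eqToHom (congrArg Subtype.val (hobj a)) ≫ K.lift (K.obj_proj a.2 f) g ≫
      K.lift a.2 f = K.lift a.2 (g ≫ f) := eqToHom_lift_lift K hK f g a.2 _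
  exact comp_abs _ _ _ _ _ _ _ _ _ _ _ e1 e2 e3 e4

/-- The strict functor of fibres of a split fibred category. -/
noncomputable def splitFun : 𝒮ᵒᵖ ⥤ Cat.{v₂, u₂} where
  obj S := Cat.of (p.Fiber S.unop)
  map f := (K.inverseImage f.unop).toCatHom
  map_id S := congr($(inverseImage_id K hK.1 S.unop).toCatHom)
  map_comp f g := congr($(inverseImage_comp K hK f.unop g.unop).toCatHom)

/-- The attached pseudofunctor. -/
noncomputable abbrev Fp : Pseudofunctor (LocallyDiscrete 𝒮ᵒᵖ) Cat.{v₂, u₂} :=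
  (splitFun K hK).toPseudofunctor'

/-- The total category. -/
abbrev Tot := Pseudofunctor.CoGrothendieck (Fp K hK)

end Splitting

variable {K} {hK : K.IsSplitting}

/-- The fibre component of an object. -/
def fibS (X : Tot K hK) : p.Fiber X.base := X.fiber

/-- The fibre component of a morphism. -/
noncomputable def hfibS {X Y : Tot K hK} (m : X ⟶ Y) : fibS X ⟶ (K.inverseImage m.base).obj (fibS Y) :=
  m.fiber

/-- Constructor for morphisms of the total category. -/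
noncomputable def mkHomS {X Y : Tot K hK} (f₀ : X.base ⟶ Y.base)
    (ψ : fibS X ⟶ (K.inverseImage f₀).obj (fibS Y)) : X ⟶ Y := ⟨f₀, ψ⟩

lemma cat_eqToIso_inv_app {A B : Cat.{v₂, u₂}} {F G : A ⟶ B} (h : F = G) (x : A) :
    (eqToIso h).inv.toNatTrans.app x = eqToHom (by rw [h]) := by
  subst h
  simp

lemma hfibS_id (X : Tot K hK) : hfibS (𝟙 X) =
    eqToHom (Functor.congr_obj (inverseImage_id K hK.1 X.base) (fibS X)).symm :=
  cat_eqToIso_inv_app _ X.fiber

/-- The comparison morphism appearing in the composition of the total category. -/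
noncomputable def cfibS {X Y Z : Tot K hK} (m : X ⟶ Y) (n : Y ⟶ Z) :
    (K.inverseImage m.base).obj ((K.inverseImage n.base).obj (fibS Z)) ⟶
      (K.inverseImage (m.base ≫ n.base)).obj (fibS Z) :=
  ((Fp K hK).mapComp n.base.op.toLoc m.base.op.toLoc).inv.toNatTrans.app Z.fiber

lemma cfibS_eq {X Y Z : Tot K hK} (m : X ⟶ Y) (n : Y ⟶ Z) :
    cfibS m n = eqToHom
      (Functor.congr_obj (inverseImage_comp K hK n.base m.base) (fibS Z)).symm :=
  cat_eqToIso_inv_app _ Z.fiber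

lemma hfibS_comp {X Y Z : Tot K hK} (m : X ⟶ Y) (n : Y ⟶ Z) :
    hfibS (m ≫ n) = hfibS m ≫ (K.inverseImage m.base).map (hfibS n) ≫ cfibS m n := rfl

/-- The value of `psi` on morphisms. -/
noncomputable def psiMap {X Y : Tot K hK} (m : X ⟶ Y) : (fibS X).1 ⟶ (fibS Y).1 :=
  (hfibS m).1 ≫ K.lift (fibS Y).2 m.base

lemma psiMap_id (X : Tot K hK) : psiMap (𝟙 X) = 𝟙 (fibS X).1 := by
  have h1 : (hfibS (𝟙 X)).1 = eqToHom (congrArg Subtype.val
      (Functor.congr_obj (inverseImage_id K hK.1 X.base) (fibS X)).symm) := by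
    rw [hfibS_id, fiber_eqToHom_val]
  have h2 : psiMap (𝟙 X) = eqToHom (congrArg Subtype.val
      (Functor.congr_obj (inverseImage_id K hK.1 X.base) (fibS X)).symm) ≫
      K.lift (fibS X).2 (𝟙 X.base) :=
    congrArg (fun t => t ≫ K.lift (fibS X).2 (𝟙 X.base)) h1
  exact h2.trans (eqToHom_lift_id K hK.1 (fibS X).2 _)

lemma comp_abs2 {𝒟 : Type*} [Category 𝒟] {a b c k w d e : 𝒟} (Φ : a ⟶ k) (ψ₁ : a ⟶ b)
    (M : b ⟶ c) (ε : c ⟶ k) (L : k ⟶ w) (Lg : c ⟶ d) (Ln : d ⟶ w) (Lm : b ⟶ e) (θ : e ⟶ d)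
    (h1 : Φ = ψ₁ ≫ M ≫ ε) (e1 : ε ≫ L = Lg ≫ Ln) (e2 : M ≫ Lg = Lm ≫ θ) :
    Φ ≫ L = (ψ₁ ≫ Lm) ≫ (θ ≫ Ln) := by
  rw [h1]
  simp only [Category.assoc]
  rw [e1, ← Category.assoc M, e2]
  simp only [Category.assoc]

lemma psiMap_comp {X Y Z : Tot K hK} (m : X ⟶ Y) (n : Y ⟶ Z) :
    psiMap (m ≫ n) = psiMap m ≫ psiMap n := by
  have h1 : (hfibS (m ≫ n)).1 = (hfibS m).1 ≫ ((K.inverseImage m.base).map (hfibS n)).1 ≫
      eqToHom (congrArg Subtype.val
        (Functor.congr_obj (inverseImage_comp K hK n.base m.base) (fibS Z)).symm) :=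
    congrArg (fun t => (hfibS m).1 ≫ ((K.inverseImage m.base).map (hfibS n)).1 ≫ t)
      ((congrArg (fun t => t.1) (cfibS_eq m n)).trans (fiber_eqToHom_val _))
  have e1 : eqToHom (congrArg Subtype.val
        (Functor.congr_obj (inverseImage_comp K hK n.base m.base) (fibS Z)).symm) ≫
      K.lift (fibS Z).2 (m.base ≫ n.base) =
      K.lift (K.obj_proj (fibS Z).2 n.base) m.base ≫ K.lift (fibS Z).2 n.base :=
    eqToHom_lift_comp K hK n.base m.base (fibS Z).2 _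
  have e2 : ((K.inverseImage m.base).map (hfibS n)).1 ≫
      K.lift (K.obj_proj (fibS Z).2 n.base) m.base =
      K.lift (fibS Y).2 m.base ≫ (hfibS n).1 :=
    IsCartesian.fac p m.base (K.lift (K.obj_proj (fibS Z).2 n.base) m.base) _
  exact comp_abs2 _ _ _ _ _ _ _ _ _ h1 e1 e2

variable (K hK) in
/-- The functor from the total category to `𝒳`. -/
noncomputable def psi : Tot K hK ⥤ 𝒳 where
  obj X := (fibS X).1
  map m := psiMap m
  map_id X := psiMap_id X
  map_comp m n := psiMap_comp m n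

lemma psiMap_lift {X Y : Tot K hK} (m : X ⟶ Y) : p.IsHomLift m.base (psiMap m) := by
  haveI : p.IsHomLift (𝟙 X.base) (hfibS m).1 := (hfibS m).2
  unfold psiMap
  infer_instance

lemma tot_hom_ext {X Y : Tot K hK} (m n : X ⟶ Y) (hb : m.base = n.base)
    (hf : psiMap m = psiMap n) : m = n := by
  obtain ⟨mb, mf⟩ := m
  obtain ⟨nb, nf⟩ := n
  change mb = nb at hb
  subst hb
  let mf' : fibS X ⟶ (K.inverseImage mb).obj (fibS Y) := mf
  let nf' : fibS X ⟶ (K.inverseImage mb).obj (fibS Y) := nf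
  have h' : mf'.1 ≫ K.lift (fibS Y).2 mb = nf'.1 ≫ K.lift (fibS Y).2 mb := hf
  haveI : p.IsHomLift (𝟙 X.base) mf'.1 := mf'.2
  haveI : p.IsHomLift (𝟙 X.base) nf'.1 := nf'.2
  have h6 : mf'.1 = nf'.1 := IsCartesian.ext p mb (K.lift (fibS Y).2 mb) _ _ h'
  have h7 : mf = nf := Subtype.ext h6
  subst h7
  rfl

variable (K hK) in
/-- The object of the total category attached to an object of `𝒳`. -/
noncomputable def phiObj (a : 𝒳) : Tot K hK := ⟨p.obj a, (⟨a, rfl⟩ : p.Fiber (p.obj a))⟩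

variable (K hK) in
/-- The value of `phi` on morphisms. -/
noncomputable def phiMap {a b : 𝒳} (φ : a ⟶ b) : phiObj K hK a ⟶ phiObj K hK b :=
  mkHomS (p.map φ) ⟨IsCartesian.map p (p.map φ) (K.lift rfl (p.map φ)) φ, inferInstance⟩

lemma psiMap_phiMap {a b : 𝒳} (φ : a ⟶ b) : psiMap (phiMap K hK φ) = φ :=
  IsCartesian.fac p (p.map φ) (K.lift rfl (p.map φ)) φ

variable (K hK) in
/-- The functor from `𝒳` to the total category. -/
noncomputable def phi : 𝒳 ⥤ Tot K hK where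
  obj a := phiObj K hK a
  map φ := phiMap K hK φ
  map_id a := by
    apply tot_hom_ext _ _ (p.map_id a)
    rw [psiMap_phiMap, psiMap_id]
    rfl
  map_comp φ ψ := by
    apply tot_hom_ext _ _ (p.map_comp φ ψ)
    rw [psiMap_comp, psiMap_phiMap, psiMap_phiMap, psiMap_phiMap]

variable (K hK) in
theorem phi_comp_psi : phi K hK ⋙ psi K hK = 𝟭 𝒳 :=
  CategoryTheory.Functor.hext (fun _ => rfl) (fun _ _ φ => heq_of_eq (psiMap_phiMap φ))

variable (K hK) in
theorem phi_comp_forget :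
    phi K hK ⋙ Pseudofunctor.CoGrothendieck.forget (Fp K hK) = p :=
  CategoryTheory.Functor.hext (fun _ => rfl) (fun _ _ _ => HEq.rfl)

variable (K hK) in
theorem psi_comp_phi : psi K hK ⋙ phi K hK = 𝟭 (Tot K hK) := by
  have hobj : ∀ (U : 𝒮) (a : p.Fiber U),
      (phi K hK).obj ((psi K hK).obj (⟨U, a⟩ : Tot K hK)) = (⟨U, a⟩ : Tot K hK) := by
    rintro U ⟨a, rfl⟩
    rfl
  have hmap : ∀ (U V : 𝒮) (a : p.Fiber U) (b : p.Fiber V)
      (m : (⟨U, a⟩ : Tot K hK) ⟶ (⟨V, b⟩ : Tot K hK)),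
      HEq ((phi K hK).map ((psi K hK).map m)) m := by
    rintro U V ⟨a, rfl⟩ ⟨b, rfl⟩ m
    apply heq_of_eq
    haveI := psiMap_lift m
    apply tot_hom_ext
    · exact (IsHomLift.eq_of_isHomLift p m.base (psiMap m)).symm
    · exact psiMap_phiMap (psiMap m)
  exact CategoryTheory.Functor.hext (fun X => hobj X.base X.fiber)
    (fun X Y m => hmap X.base Y.base X.fiber Y.fiber m)

end Groth.Agent.Lib.Helper10.SplitIso
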