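import Mathlib
import Groth.Agent.S10259
import Groth.Agent.S0408
import Groth.Agent.Lib.Helper16.QfLocus
import Groth.Agent.Lib.Helper16.ZmtSp1
import Groth.Agent.Lib.Helper16.SchLocus
import Groth.Agent.Lib.Helper16.FibreProduct
import Groth.Agent.Lib.Helper15.OpenSubspace
import Groth.Agent.Lib.Helper28.AlgSt.Good2
import Groth.Agent.Lib.Helper10.AlgStWNA

/-!
# Etale localization splits off a finite part at a quasi-finite point (algebraic spaces) (helper10)
-/

set_option autoImplicit false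
set_option maxHeartbeats 1600000
universe u
open CategoryTheory CategoryTheory.Limits AlgebraicGeometry Opposite

namespace H10PT.SplitQF

open AlgSp
open Groth.Agent.Lib.Helper28.AlgSt.PropInst
open Groth.Agent.Lib.Helper16 Groth.Agent.Lib.Helper15 Groth.Agent.Lib.Helper16.QfAt
open Groth.Agent.Lib.Helper16.ZmtSp

variable {S : Scheme.{u}}

theorem repWith_isFinite_of_comp {A B C : Sp S} (g : A ⟶ B) (h : B ⟶ C)
    (hgh : RepWith @IsFinite (g ≫ h)) (hh : IsSeparatedMor h) : RepWith @IsFinite g := by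
  have hle : (IsSeparatedMor : MorphismProperty (Sp S)) ≤ (RepWith (S := S) @IsFinite).diagonal := by
    intro X Y m hm
    have hm' : RepWith @IsClosedImmersion (pullback.diagonal m) := hm
    show RepWith @IsFinite (pullback.diagonal m)
    rw [repWith_iff] at hm' ⊢
    refine ⟨hm'.1, fun U V t fst snd sq => ?_⟩
    have : IsClosedImmersion snd.left := hm'.2 t fst snd sq
    exact (inferInstance : IsFinite snd.left)
  have hQ : (IsSeparatedMor : MorphismProperty (Sp S)).IsStableUnderBaseChange :=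
    inferInstanceAs ((RepWith (S := S) @IsClosedImmersion).diagonal.IsStableUnderBaseChange)
  have := (MorphismProperty.hasOfPostcompProperty_iff_le_diagonal
    (P := RepWith (S := S) @IsFinite) (Q := IsSeparatedMor)).2 hle
  exact MorphismProperty.of_postcomp (W := RepWith (S := S) @IsFinite) (W' := IsSeparatedMor) g h hh hgh

theorem repWith_isClosedImmersion_of_finite_open {A B : Sp S} (g : A ⟶ B)
    (h1 : RepWith @IsFinite g) (h2 : RepWith @IsOpenImmersion g) : RepWith @IsClosedImmersion g := by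
  rw [repWith_iff] at h1 h2 ⊢
  refine ⟨h1.1, fun U V t fst snd sq => ?_⟩
  have a1 : IsFinite snd.left := h1.2 t fst snd sq
  have a2 : IsOpenImmersion snd.left := h2.2 t fst snd sq
  exact (IsClosedImmersion.iff_isFinite_and_mono _).2 ⟨a1, inferInstance⟩

theorem split_aux {X Y : AlgSp.Space S} (f : X ⟶ Y) (x : AlgSp.Points X.obj)
    (hf2 : AlgSp.IsSeparatedMor f.hom) (X' : Sp S) (j : X' ⟶ X.obj)
    (hj : RepWith @IsOpenImmersion j) (hX' : IsAlgSpace X')
    (hlqf : LocP (@LocallyQuasiFinite ⊓ @LocallyOfFiniteType) (j ≫ f.hom))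
    (hsep' : IsSeparatedMor (j ≫ f.hom)) (x' : Points X') (hx' : Points.map j x' = x) :
    ∃ (U : AlgSp.Space S) (a : U ⟶ Y) (u : AlgSp.Points U.obj), AlgSp.IsEtaleMor a.hom ∧
      AlgSp.Points.map a.hom u = AlgSp.Points.map f.hom x ∧
      ∀ (P : AlgSp.Space S) (prX : P ⟶ X) (prU : P ⟶ U), IsPullback prX.hom prU.hom f.hom a.hom →
        ∃ (V : AlgSp.Space S) (jV : V ⟶ P), AlgSp.RepWith @IsOpenImmersion jV.hom ∧ AlgSp.RepWith @IsClosedImmersion jV.hom ∧
          AlgSp.IsFiniteMor (jV ≫ prU).hom ∧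
          ∃ v : AlgSp.Points V.obj, AlgSp.Points.map (jV ≫ prX).hom v = x ∧ AlgSp.Points.map (jV ≫ prU).hom v = u := by
  have hX : IsAlgSpace X.obj := X.property
  have hY : IsAlgSpace Y.obj := Y.property
  -- atlas of Y
  obtain ⟨Y₀, p, hpe, hps⟩ := hY.atlas
  obtain ⟨y₀, hy₀⟩ := ofPt_surjective_of_surjective p hps (Points.map f.hom x)
  -- the pullback X'₀
  have sq₀ : IsPullback (pullback.fst (j ≫ f.hom) p) (pullback.snd (j ≫ f.hom) p) (j ≫ f.hom) p :=
    IsPullback.of_hasPullback _ _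
  have hX'₀ : IsAlgSpace (pullback (j ≫ f.hom) p) :=
    isAlgSpace_of_isPullback hX' hY.diag (IsAlgSpace.yon_obj Y₀) sq₀
  have hs₀ : IsSeparatedMor (pullback.snd (j ≫ f.hom) p) :=
    good_separated.bc hX' hY hX'₀ (IsAlgSpace.yon_obj Y₀) _ _ _ _ sq₀ hsep'
  have hl₀ : LocP (@LocallyQuasiFinite ⊓ @LocallyOfFiniteType) (pullback.snd (j ≫ f.hom) p) :=
    good_locallyQuasiFinite.bc hX' hY hX'₀ (IsAlgSpace.yon_obj Y₀) _ _ _ _ sq₀ hlqf
  have hrep : (pullback (j ≫ f.hom) p).obj.IsRepresentable :=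
    Groth.Agent.S10259.result Y₀ ⟨pullback (j ≫ f.hom) p, hX'₀⟩
      (ObjectProperty.homMk (pullback.snd (j ≫ f.hom) p)) hl₀ hs₀
  obtain ⟨W₀, ⟨e⟩⟩ := Groth.Agent.Lib.Helper16.SchLocus.exists_iso_yon_of_isRepresentable hrep
  obtain ⟨g₀, hg₀⟩ := (yon S).map_surjective (e.hom ≫ pullback.snd (j ≫ f.hom) p)
  have sqe : IsPullback (e.hom ≫ pullback.fst (j ≫ f.hom) p) ((yon S).map g₀) (j ≫ f.hom) p := by
    rw [hg₀]
    exact IsPullback.of_iso sq₀ e.symm (Iso.refl _) (Iso.refl _) (Iso.refl _)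
      (by simp) (by simp) (by simp) (by simp)
  have hg₀sep : IsSeparated g₀.left :=
    (isSeparatedMor_yon_map_iff g₀).1
      (good_separated.bc hX' hY (IsAlgSpace.yon_obj W₀) (IsAlgSpace.yon_obj Y₀) _ _ _ _ sqe hsep')
  have hg₀l : (@LocallyQuasiFinite ⊓ @LocallyOfFiniteType) g₀.left :=
    locP_yon_map
      (good_locallyQuasiFinite.bc hX' hY (IsAlgSpace.yon_obj W₀) (IsAlgSpace.yon_obj Y₀) _ _ _ _ sqe hlqf)
  obtain ⟨w₀, hw₀1, hw₀2⟩ := exists_point_of_isPullback_yon sqe x' y₀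
    (by rw [Points.map_comp, hx', hy₀])
  haveI := hg₀sep
  haveI : LocallyQuasiFinite g₀.left := hg₀l.1
  haveI : LocallyOfFiniteType g₀.left := hg₀l.2
  obtain ⟨U₁, g₁, u₁, hg₁e, hg₁u, -, V, v, -, hVf, hvV, hv1, hv2, -, -⟩ :=
    Groth.Agent.S0408.result g₀.left w₀ (g₀.left.quasiFiniteAt w₀)
  -- objects over S
  let U₁o : Over S := Over.mk (g₁ ≫ Y₀.hom)
  let g₁o : U₁o ⟶ Y₀ := Over.homMk g₁ rfl
  let Po : Over S := Over.mk (pullback.fst g₀.left g₁ ≫ W₀.hom)
  let pf : Po ⟶ W₀ := Over.homMk (pullback.fst g₀.left g₁) rfl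
  have hps' : pullback.snd g₀.left g₁ ≫ U₁o.hom = Po.hom := by
    show pullback.snd g₀.left g₁ ≫ g₁ ≫ Y₀.hom = pullback.fst g₀.left g₁ ≫ W₀.hom
    rw [← Category.assoc, ← pullback.condition, Category.assoc, Over.w g₀]
  let ps : Po ⟶ U₁o := Over.homMk (pullback.snd g₀.left g₁) hps'
  let Vo : Over S := Over.mk (V.ι ≫ Po.hom)
  let ι : Vo ⟶ Po := Over.homMk V.ι rfl
  have sq0 : IsPullback ((Over.forget S).map pf) ((Over.forget S).map ps) ((Over.forget S).map g₀)
      ((Over.forget S).map g₁o) := IsPullback.of_hasPullback g₀.left g₁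
  have sqO : IsPullback pf ps g₀ g₁o :=
    IsPullback.of_map (Over.forget S) (Over.OverMorphism.ext pullback.condition) sq0
  have sqY := sqO.map (yon S)
  -- h_Po = X' ×_Y h_U₁
  have sq3 : IsPullback ((yon S).map pf ≫ e.hom ≫ pullback.fst (j ≫ f.hom) p) ((yon S).map ps)
      (j ≫ f.hom) ((yon S).map g₁o ≫ p) := sqY.paste_horiz sqe
  have hae : IsEtaleMor ((yon S).map g₁o ≫ p) := by
    intro T φ' hφ'
    exact (RepWith @Etale).comp_mem _ _ hφ'
      ((RepWith @Etale).comp_mem _ _ ((repWith_yon_map_iff @Etale g₁o).2 hg₁e) hpe)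
  refine ⟨(AlgSp.ofScheme S).obj U₁o, ObjectProperty.homMk ((yon S).map g₁o ≫ p),
    Points.ofScheme U₁o u₁, hae, ?_, ?_⟩
  · show Points.map ((yon S).map g₁o ≫ p) (Points.ofScheme U₁o u₁) = _
    rw [← Points.ofPt_eq_map_ofScheme, ofPt_yon_map_comp, ← hy₀]
    congr 1
    show g₁ u₁ = y₀
    rw [hg₁u, hw₀2]
  · intro P prX prU hP
    have hP' : IsPullback prX.hom prU.hom f.hom ((yon S).map g₁o ≫ p) := hP
    have hPalg : IsAlgSpace P.obj := P.property
    -- ψ : h_Po ⟶ P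
    have hcomp : ((yon S).map pf ≫ e.hom ≫ pullback.fst (j ≫ f.hom) p ≫ j) ≫ f.hom =
        (yon S).map ps ≫ ((yon S).map g₁o ≫ p) := by
      have := sq3.w
      simpa only [Category.assoc] using this
    obtain ⟨ψ, hψ1, hψ2⟩ : ∃ ψ : (yon S).obj Po ⟶ P.obj,
        ψ ≫ prX.hom = (yon S).map pf ≫ e.hom ≫ pullback.fst (j ≫ f.hom) p ≫ j ∧
        ψ ≫ prU.hom = (yon S).map ps :=
      ⟨hP'.lift _ _ hcomp, hP'.lift_fst _ _ _, hP'.lift_snd _ _ _⟩
    have sqT : IsPullback ((yon S).map pf ≫ e.hom ≫ pullback.fst (j ≫ f.hom) p) ψ j prX.hom := by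
      refine IsPullback.of_bot ?_ ?_ hP'
      · rw [hψ2]; exact sq3
      · rw [hψ1]; simp only [Category.assoc]
    have hψo : RepWith @IsOpenImmersion ψ := (RepWith @IsOpenImmersion).of_isPullback sqT hj
    have hιo : RepWith @IsOpenImmersion ((yon S).map ι) :=
      (repWith_yon_map_iff @IsOpenImmersion ι).2 (inferInstanceAs (IsOpenImmersion V.ι))
    have hJo : RepWith @IsOpenImmersion ((yon S).map ι ≫ ψ) :=
      (RepWith @IsOpenImmersion).comp_mem _ _ hιo hψo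
    have hJU : ((yon S).map ι ≫ ψ) ≫ prU.hom = (yon S).map (ι ≫ ps) := by
      rw [Category.assoc, hψ2]
      exact ((yon S).map_comp ι ps).symm
    have hfin : RepWith @IsFinite (((yon S).map ι ≫ ψ) ≫ prU.hom) := by
      rw [hJU]
      exact (repWith_yon_map_iff @IsFinite (ι ≫ ps)).2 hVf
    have hsepU : IsSeparatedMor prU.hom :=
      good_separated.bc hX hY hPalg (IsAlgSpace.yon_obj U₁o) _ _ _ _ hP' hf2
    have hJf : RepWith @IsFinite ((yon S).map ι ≫ ψ) := repWith_isFinite_of_comp _ _ hfin hsepU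
    refine ⟨(AlgSp.ofScheme S).obj Vo, ObjectProperty.homMk ((yon S).map ι ≫ ψ), hJo,
      repWith_isClosedImmersion_of_finite_open _ hJf hJo, ?_, Points.ofScheme Vo ⟨v, hvV⟩, ?_, ?_⟩
    · exact H10PT.isFiniteMor_of_repWith' _ hfin
    · show Points.map (((yon S).map ι ≫ ψ) ≫ prX.hom) (Points.ofScheme Vo ⟨v, hvV⟩) = x
      rw [Category.assoc, hψ1]
      have e1 : (yon S).map ι ≫ (yon S).map pf ≫ e.hom ≫ pullback.fst (j ≫ f.hom) p ≫ j =
          ((yon S).map (ι ≫ pf) ≫ (e.hom ≫ pullback.fst (j ≫ f.hom) p)) ≫ j := by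
        rw [Functor.map_comp]; simp only [Category.assoc]
      rw [e1, Points.map_comp, ← Points.ofPt_eq_map_ofScheme, ofPt_yon_map_comp]
      have e2 : (ι ≫ pf).left ⟨v, hvV⟩ = w₀ := by
        show pullback.fst g₀.left g₁ (V.ι ⟨v, hvV⟩) = w₀
        exact hv1
      rw [e2, hw₀1, hx']
    · show Points.map (((yon S).map ι ≫ ψ) ≫ prU.hom) (Points.ofScheme Vo ⟨v, hvV⟩) = Points.ofScheme U₁o u₁
      rw [hJU]
      refine (map_yon_map_ofScheme (ι ≫ ps) ⟨v, hvV⟩).trans ?_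
      congr 1

theorem split_main {X Y : AlgSp.Space S} (f : X ⟶ Y) (x : AlgSp.Points X.obj)
    (hf1 : AlgSp.LocP @LocallyOfFiniteType f.hom) (hf2 : AlgSp.IsSeparatedMor f.hom)
    (hf3 : AlgSp.HasAtMor (fun U _ h u => ∃ W : U.Opens, u ∈ W ∧ LocallyQuasiFinite (W.ι ≫ h) ∧ LocallyOfFiniteType (W.ι ≫ h)) f.hom x) :
    ∃ (U : AlgSp.Space S) (a : U ⟶ Y) (u : AlgSp.Points U.obj), AlgSp.IsEtaleMor a.hom ∧
      AlgSp.Points.map a.hom u = AlgSp.Points.map f.hom x ∧
      ∀ (P : AlgSp.Space S) (prX : P ⟶ X) (prU : P ⟶ U), IsPullback prX.hom prU.hom f.hom a.hom →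
        ∃ (V : AlgSp.Space S) (jV : V ⟶ P), AlgSp.RepWith @IsOpenImmersion jV.hom ∧ AlgSp.RepWith @IsClosedImmersion jV.hom ∧
          AlgSp.IsFiniteMor (jV ≫ prU).hom ∧
          ∃ v : AlgSp.Points V.obj, AlgSp.Points.map (jV ≫ prX).hom v = x ∧ AlgSp.Points.map (jV ≫ prU).hom v = u := by
  have hX : IsAlgSpace X.obj := X.property
  have hQo : IsOpen (qfLocus f.hom) := isOpen_qfLocus f.hom hf1
  have hxQ : x ∈ qfLocus f.hom := (mem_qfLocus_iff_hasAtMor_open f.hom hf1 x).2 hf3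
  have hj : RepWith @IsOpenImmersion (openSubι X.obj (qfLocus f.hom)) :=
    repWith_isOpenImmersion_openSubι _ hQo
  have hX' : IsAlgSpace (openSub X.obj (qfLocus f.hom)) := isAlgSpace_openSub hX _ hQo
  have hlqf : LocP (@LocallyQuasiFinite ⊓ @LocallyOfFiniteType) (openSubι X.obj (qfLocus f.hom) ≫ f.hom) :=
    locP_lqf_openSubι_comp f.hom hf1
  have hsep' : IsSeparatedMor (openSubι X.obj (qfLocus f.hom) ≫ f.hom) :=
    isSeparatedMor_comp _ _ (isSeparatedMor_of_mono _) hf2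
  obtain ⟨x', hx'⟩ : ∃ x' : Points (openSub X.obj (qfLocus f.hom)),
      Points.map (openSubι X.obj (qfLocus f.hom)) x' = x := by
    have : x ∈ Set.range (Points.map (openSubι X.obj (qfLocus f.hom))) := by
      rw [range_map_openSubι]; exact hxQ
    exact this
  exact split_aux f x hf2 _ _ hj hX' hlqf hsep' x' hx'

end H10PT.SplitQF
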