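import Mathlib
import Groth.Agent.Lib.Helper10.SplitQF
import Groth.Agent.S10374
import Groth.Agent.Lib.Helper16.QuasiCompactMor
import Groth.Agent.Lib.Helper15.MonoInj
import Groth.Agent.Lib.Helper16.SchemeTop

/-!
# Etale localization splits off the finite part at finitely many quasi-finite points
(algebraic spaces; quasi-compact or decent case) (helper10)
-/

set_option autoImplicit false
set_option maxHeartbeats 1600000
universe u
open CategoryTheory CategoryTheory.Limits AlgebraicGeometry Opposite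

namespace H10PT.SplitQFFin

open AlgSp
open Groth.Agent.Lib.Helper28.AlgSt.PropInst
open Groth.Agent.Lib.Helper16 Groth.Agent.Lib.Helper15 Groth.Agent.Lib.Helper16.QfAt
open Groth.Agent.Lib.Helper16.ZmtSp
open H10PT.SplitQF

variable {S : Scheme.{u}}

set_option backward.isDefEq.respectTransparency.types false in
/-- A discrete subset of a fibre of a morphism of finite type is finite. -/
theorem finite_discrete_in_fibre {A B : Scheme.{u}} (h : A ⟶ B) [LocallyOfFiniteType h]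
    [QuasiCompact h] (b : B) (D : Set A) (hD : _root_.IsDiscrete D) (hDb : D ⊆ h ⁻¹' {b}) :
    D.Finite := by
  have i1 : LocallyOfFiniteType (h.fiberToSpecResidueField b) :=
    MorphismProperty.pullback_snd _ _ inferInstance
  have i2 : IsLocallyNoetherian (h.fiber b) :=
    LocallyOfFiniteType.isLocallyNoetherian (h.fiberToSpecResidueField b)
  have i3 : IsNoetherian (h.fiber b) := { }
  have hcpt : IsCompact ((h.fiberι b) ⁻¹' D) := TopologicalSpace.NoetherianSpace.isCompact _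
  have hdisc : _root_.IsDiscrete ((h.fiberι b) ⁻¹' D) :=
    hD.preimage (h.fiberι b).continuous.continuousOn (h.fiberι b).isEmbedding.injective
  have hfin := hcpt.finite hdisc
  refine (hfin.image (h.fiberι b)).subset ?_
  intro a ha
  have : a ∈ Set.range (h.fiberι b) := by
    rw [Scheme.Hom.range_fiberι]; exact hDb ha
  obtain ⟨z, rfl⟩ := this
  exact ⟨z, ha, rfl⟩

theorem mono_fst_of_isPullback_mono {C : Type*} [Category C] {P X Y Z : C} {fst : P ⟶ X}
    {snd : P ⟶ Y} {f : X ⟶ Z} {g : Y ⟶ Z} (sq : IsPullback fst snd f g) [Mono g] : Mono fst :=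
  ⟨fun a b h => sq.hom_ext h (by
    rw [← cancel_mono g, Category.assoc, Category.assoc, ← sq.w, ← Category.assoc, h,
      Category.assoc])⟩

/-- The base change of a separated locally quasi-finite morphism to a scheme is a scheme. -/
theorem exists_rep_pullback {X' Y : Sp S} (hX' : IsAlgSpace X') (hY : IsAlgSpace Y) (φ : X' ⟶ Y)
    (hlqf : LocP (@LocallyQuasiFinite ⊓ @LocallyOfFiniteType) φ) (hsep : IsSeparatedMor φ)
    (Y₀ : Over S) (p : (yon S).obj Y₀ ⟶ Y) :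
    ∃ (W₀ : Over S) (fst₀ : (yon S).obj W₀ ⟶ X') (g₀ : W₀ ⟶ Y₀),
      IsPullback fst₀ ((yon S).map g₀) φ p := by
  have sq₀ : IsPullback (pullback.fst φ p) (pullback.snd φ p) φ p := IsPullback.of_hasPullback _ _
  have hX'₀ : IsAlgSpace (pullback φ p) :=
    isAlgSpace_of_isPullback hX' hY.diag (IsAlgSpace.yon_obj Y₀) sq₀
  have hs₀ : IsSeparatedMor (pullback.snd φ p) :=
    good_separated.bc hX' hY hX'₀ (IsAlgSpace.yon_obj Y₀) _ _ _ _ sq₀ hsep
  have hl₀ : LocP (@LocallyQuasiFinite ⊓ @LocallyOfFiniteType) (pullback.snd φ p) :=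
    good_locallyQuasiFinite.bc hX' hY hX'₀ (IsAlgSpace.yon_obj Y₀) _ _ _ _ sq₀ hlqf
  have hrep : (pullback φ p).obj.IsRepresentable :=
    Groth.Agent.S10259.result Y₀ ⟨pullback φ p, hX'₀⟩
      (ObjectProperty.homMk (pullback.snd φ p)) hl₀ hs₀
  obtain ⟨W₀, ⟨e⟩⟩ := Groth.Agent.Lib.Helper16.SchLocus.exists_iso_yon_of_isRepresentable hrep
  obtain ⟨g₀, hg₀⟩ := (yon S).map_surjective (e.hom ≫ pullback.snd φ p)
  refine ⟨W₀, e.hom ≫ pullback.fst φ p, g₀, ?_⟩
  rw [hg₀]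
  exact IsPullback.of_iso sq₀ e.symm (Iso.refl _) (Iso.refl _) (Iso.refl _)
    (by simp) (by simp) (by simp) (by simp)

/-- Quasi-compact case: the whole fibre of the quasi-finite part over a point of an affine chart is
finite. -/
theorem finite_fibre_of_qc {X Y : AlgSp.Space S} (f : X ⟶ Y)
    (hf1 : AlgSp.LocP @LocallyOfFiniteType f.hom) (hqc : AlgSp.IsQuasiCompactMor f.hom)
    (X' : Sp S) (j : X' ⟶ X.obj) (hj : RepWith @IsOpenImmersion j)
    (Y₀ W₀ : Over S) [IsAffine Y₀.left] (p : (yon S).obj Y₀ ⟶ Y.obj) (hpe : RepWith @Etale p)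
    (fst₀ : (yon S).obj W₀ ⟶ X') (g₀ : W₀ ⟶ Y₀)
    (sqe : IsPullback fst₀ ((yon S).map g₀) (j ≫ f.hom) p)
    (hg₀ : LocallyQuasiFinite g₀.left) (y₀ : ↥Y₀.left) :
    Set.Finite {w : ↥W₀.left | g₀.left w = y₀} := by
  have sqX : IsPullback (pullback.fst f.hom p) (pullback.snd f.hom p) f.hom p :=
    IsPullback.of_hasPullback _ _
  have hX₀qc : IsQuasiCompactSp (pullback f.hom p) :=
    hqc (IsAlgSpace.yon_obj Y₀) (isQuasiCompactSp_yon_of_compactSpace Y₀) p _ _ sqX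
  obtain ⟨A, q, hqe, hqs, hA⟩ := hX₀qc
  haveI : CompactSpace ↥A.left := hA
  have hk0 : (fst₀ ≫ j) ≫ f.hom = (yon S).map g₀ ≫ p := by
    rw [Category.assoc]; exact sqe.w
  obtain ⟨k, hk1, hk2⟩ : ∃ k : (yon S).obj W₀ ⟶ pullback f.hom p,
      k ≫ pullback.fst f.hom p = fst₀ ≫ j ∧ k ≫ pullback.snd f.hom p = (yon S).map g₀ :=
    ⟨pullback.lift (fst₀ ≫ j) ((yon S).map g₀) hk0, pullback.lift_fst _ _ _,
      pullback.lift_snd _ _ _⟩
  have sqk : IsPullback fst₀ k j (pullback.fst f.hom p) := by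
    refine IsPullback.of_bot ?_ hk1.symm sqX
    rw [hk2]; exact sqe
  have hko : RepWith @IsOpenImmersion k := (RepWith @IsOpenImmersion).of_isPullback sqk hj
  obtain ⟨A', i, r, sqA⟩ := hko.rep q
  have hi : IsOpenImmersion i.left := hko.property _ _ _ sqA
  obtain ⟨r₀, hr₀⟩ := (yon S).map_surjective r
  have sqA' : IsPullback ((yon S).map i) ((yon S).map r₀) q k := by rw [hr₀]; exact sqA.flip
  have hr₀e : Etale r₀.left := hqe.property _ _ _ sqA'
  have hr₀s : Surjective r₀.left := hqs.property _ _ _ sqA'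
  obtain ⟨hA₀, hhA₀⟩ := (yon S).map_surjective (q ≫ pullback.snd f.hom p)
  have hfstE : RepWith @Etale (pullback.fst f.hom p) :=
    (RepWith @Etale).of_isPullback sqX.flip hpe
  have hlftA : LocallyOfFiniteType hA₀.left :=
    hf1 (q ≫ pullback.fst f.hom p) p hA₀ ((RepWith @Etale).comp_mem _ _ hqe hfstE) hpe
      (by rw [Category.assoc, pullback.condition, ← Category.assoc, hhA₀])
  have hcomm : r₀ ≫ g₀ = i ≫ hA₀ := by
    apply (yon S).map_injective
    rw [Functor.map_comp, Functor.map_comp, hhA₀, hr₀, ← hk2, ← Category.assoc, sqA.w,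
      Category.assoc]
  have hcomm' : r₀.left ≫ g₀.left = i.left ≫ hA₀.left := by
    have := congrArg (fun m => m.left) hcomm
    simpa using this
  haveI : LocallyQuasiFinite r₀.left := locallyQuasiFinite_of_etale r₀.left
  haveI := hg₀
  haveI : LocallyQuasiFinite (r₀.left ≫ g₀.left) := inferInstance
  -- the discrete set
  have hD : _root_.IsDiscrete ((r₀.left ≫ g₀.left) ⁻¹' {y₀}) :=
    (r₀.left ≫ g₀.left).isDiscrete_preimage_singleton y₀
  have hD' : _root_.IsDiscrete (i.left '' ((r₀.left ≫ g₀.left) ⁻¹' {y₀})) :=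
    hD.image i.left.isOpenEmbedding.isInducing
  have hsub : i.left '' ((r₀.left ≫ g₀.left) ⁻¹' {y₀}) ⊆ hA₀.left ⁻¹' {y₀} := by
    rintro _ ⟨a, ha, rfl⟩
    have ha' : (r₀.left ≫ g₀.left) a = y₀ := ha
    rw [hcomm'] at ha'
    exact ha'
  haveI := hlftA
  have hfin' : (i.left '' ((r₀.left ≫ g₀.left) ⁻¹' {y₀})).Finite :=
    finite_discrete_in_fibre hA₀.left y₀ _ hD' hsub
  have hfinD : ((r₀.left ≫ g₀.left) ⁻¹' {y₀}).Finite :=
    Set.Finite.of_finite_image hfin' i.left.isOpenEmbedding.injective.injOn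
  refine (hfinD.image r₀.left).subset ?_
  intro w hw
  obtain ⟨a, rfl⟩ := hr₀s.surj w
  exact ⟨a, hw, rfl⟩

/-- Decent case: over a point of a chart whose residue field point is a monomorphism, each point of
the source has at most one point of the pullback over it. -/
theorem finite_T_of_mono {X Y : Sp S} (φ : X ⟶ Y) (xs : Finset (AlgSp.Points X))
    (X' : Sp S) (j : X' ⟶ X) [Mono j]
    (Y₀ W₀ : Over S) (p : (yon S).obj Y₀ ⟶ Y) (y₀ : ↥Y₀.left)
    (hmono : Mono (FieldPt.ofPt p y₀).toHom)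
    (fst₀ : (yon S).obj W₀ ⟶ X') (g₀ : W₀ ⟶ Y₀)
    (sqe : IsPullback fst₀ ((yon S).map g₀) (j ≫ φ) p) :
    Set.Finite {w : ↥W₀.left | g₀.left w = y₀ ∧ Points.ofPt (fst₀ ≫ j) w ∈ xs} := by
  classical
  rw [FieldPt.toHom_ofPt] at hmono
  have key : ∀ w₁ w₂ : ↥W₀.left, g₀.left w₁ = y₀ → g₀.left w₂ = y₀ →
      Points.ofPt (fst₀ ≫ j) w₁ = Points.ofPt (fst₀ ≫ j) w₂ → w₁ = w₂ := by
    intro w₁ w₂ h₁ h₂ h₁₂
    let Sκ : Over S := Over.mk (Y₀.left.fromSpecResidueField y₀ ≫ Y₀.hom)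
    let s : Sκ ⟶ Y₀ := Over.homMk (Y₀.left.fromSpecResidueField y₀) rfl
    let Φo : Over S := Over.mk (pullback.fst g₀.left s.left ≫ W₀.hom)
    let φ₁ : Φo ⟶ W₀ := Over.homMk (pullback.fst g₀.left s.left) rfl
    have hφ₂ : pullback.snd g₀.left s.left ≫ Sκ.hom = Φo.hom := by
      show pullback.snd g₀.left s.left ≫ (Y₀.left.fromSpecResidueField y₀ ≫ Y₀.hom) =
        pullback.fst g₀.left s.left ≫ W₀.hom
      have hc : pullback.snd g₀.left s.left ≫ Y₀.left.fromSpecResidueField y₀ =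
          pullback.fst g₀.left s.left ≫ g₀.left := pullback.condition.symm
      rw [← Category.assoc, hc, Category.assoc, Over.w g₀]
    let φ₂ : Φo ⟶ Sκ := Over.homMk (pullback.snd g₀.left s.left) hφ₂
    have sq0 : IsPullback ((Over.forget S).map φ₁) ((Over.forget S).map φ₂)
        ((Over.forget S).map g₀) ((Over.forget S).map s) := IsPullback.of_hasPullback g₀.left s.left
    have sqO : IsPullback φ₁ φ₂ g₀ s :=
      IsPullback.of_map (Over.forget S) (Over.OverMorphism.ext pullback.condition) sq0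
    have sqY := sqO.map (yon S)
    have sq3 : IsPullback ((yon S).map φ₁ ≫ fst₀) ((yon S).map φ₂) (j ≫ φ) ((yon S).map s ≫ p) :=
      sqY.paste_horiz sqe
    haveI : Mono ((yon S).map s ≫ p) := hmono
    haveI : Mono ((yon S).map φ₁ ≫ fst₀) := mono_fst_of_isPullback_mono sq3
    haveI : Mono (((yon S).map φ₁ ≫ fst₀) ≫ j) := mono_comp _ _
    obtain ⟨c⟩ : Nonempty ↥(Spec (Y₀.left.residueField y₀)) := inferInstance
    have hc : s.left c = y₀ := Scheme.fromSpecResidueField_apply _ _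
    obtain ⟨z₁, hz₁, -⟩ := Scheme.Pullback.exists_preimage_pullback (f := g₀.left) (g := s.left)
      w₁ c (by rw [h₁, hc])
    obtain ⟨z₂, hz₂, -⟩ := Scheme.Pullback.exists_preimage_pullback (f := g₀.left) (g := s.left)
      w₂ c (by rw [h₂, hc])
    have e : ∀ z : ↥Φo.left, Points.map (((yon S).map φ₁ ≫ fst₀) ≫ j) (Points.ofScheme Φo z) =
        Points.ofPt (fst₀ ≫ j) (φ₁.left z) := by
      intro z
      rw [Category.assoc, ← Points.ofPt_eq_map_ofScheme, ofPt_yon_map_comp]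
    have hzz : Points.ofScheme Φo z₁ = Points.ofScheme Φo z₂ := by
      apply points_map_injective_of_mono (((yon S).map φ₁ ≫ fst₀) ≫ j)
      rw [e, e]
      show Points.ofPt (fst₀ ≫ j) (pullback.fst g₀.left s.left z₁) =
        Points.ofPt (fst₀ ≫ j) (pullback.fst g₀.left s.left z₂)
      rw [hz₁, hz₂]; exact h₁₂
    have hz : z₁ = z₂ := ofScheme_injective Φo hzz
    rw [← hz₁, ← hz₂, hz]
  refine Set.Finite.of_finite_image (f := fun w => Points.ofPt (fst₀ ≫ j) w) ?_ ?_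
  · refine (xs.finite_toSet).subset ?_
    rintro _ ⟨w, hw, rfl⟩
    exact hw.2
  · intro w₁ hw₁ w₂ hw₂ h
    exact key w₁ w₂ hw₁.1 hw₂.1 h


theorem split_aux_fin {X Y : AlgSp.Space S} (f : X ⟶ Y) (y : AlgSp.Points Y.obj)
    (xs : Finset (AlgSp.Points X.obj))
    (hf2 : AlgSp.IsSeparatedMor f.hom) (X' : Sp S) (j : X' ⟶ X.obj)
    (hj : RepWith @IsOpenImmersion j) (hX' : IsAlgSpace X')
    (hlqf : LocP (@LocallyQuasiFinite ⊓ @LocallyOfFiniteType) (j ≫ f.hom))
    (hsep' : IsSeparatedMor (j ≫ f.hom))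
    (hxsX' : ∀ x ∈ xs, x ∈ Set.range (Points.map j))
    (Y₀ W₀ : Over S) (p : (yon S).obj Y₀ ⟶ Y.obj) (hpe : RepWith @Etale p) (y₀ : ↥Y₀.left)
    (hy₀ : Points.ofPt p y₀ = y)
    (fst₀ : (yon S).obj W₀ ⟶ X') (g₀ : W₀ ⟶ Y₀)
    (sqe : IsPullback fst₀ ((yon S).map g₀) (j ≫ f.hom) p)
    (hT : Set.Finite {w : ↥W₀.left | g₀.left w = y₀ ∧ Points.ofPt (fst₀ ≫ j) w ∈ xs}) :
    ∃ (U : AlgSp.Space S) (a : U ⟶ Y) (u : AlgSp.Points U.obj), AlgSp.IsEtaleMor a.hom ∧
      AlgSp.Points.map a.hom u = y ∧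
      ∀ (P : AlgSp.Space S) (prX : P ⟶ X) (prU : P ⟶ U), IsPullback prX.hom prU.hom f.hom a.hom →
        ∃ (V : AlgSp.Space S) (jV : V ⟶ P), AlgSp.RepWith @IsOpenImmersion jV.hom ∧
          AlgSp.RepWith @IsClosedImmersion jV.hom ∧
          AlgSp.IsFiniteMor (jV ≫ prU).hom ∧
          (∀ v : AlgSp.Points V.obj, AlgSp.Points.map (jV ≫ prU).hom v = u →
            AlgSp.Points.map (jV ≫ prX).hom v ∈ xs) ∧
          ∀ w : AlgSp.Points P.obj, w ∉ Set.range (AlgSp.Points.map jV.hom) →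
            AlgSp.Points.map prU.hom w = u → AlgSp.Points.map prX.hom w ∉ xs := by
  classical
  have hX : IsAlgSpace X.obj := X.property
  have hY : IsAlgSpace Y.obj := Y.property
  have hg₀sep : IsSeparated g₀.left :=
    (isSeparatedMor_yon_map_iff g₀).1
      (good_separated.bc hX' hY (IsAlgSpace.yon_obj W₀) (IsAlgSpace.yon_obj Y₀) _ _ _ _ sqe hsep')
  have hg₀l : (@LocallyQuasiFinite ⊓ @LocallyOfFiniteType) g₀.left :=
    locP_yon_map
      (good_locallyQuasiFinite.bc hX' hY (IsAlgSpace.yon_obj W₀) (IsAlgSpace.yon_obj Y₀) _ _ _ _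
        sqe hlqf)
  haveI := hg₀sep
  haveI : LocallyQuasiFinite g₀.left := hg₀l.1
  haveI : LocallyOfFiniteType g₀.left := hg₀l.2
  haveI : Finite {w : ↥W₀.left | g₀.left w = y₀ ∧ Points.ofPt (fst₀ ≫ j) w ∈ xs} := hT.to_subtype
  haveI : Fintype {w : ↥W₀.left | g₀.left w = y₀ ∧ Points.ofPt (fst₀ ≫ j) w ∈ xs} :=
    Fintype.ofFinite _
  obtain ⟨U₁, g₁, u₁, hg₁e, hg₁u, -, V, v, hV⟩ :=
    Groth.Agent.Lib.Helper8.EtLocSch.exists_etale_nbhd_split g₀.left y₀
      (fun t : {w : ↥W₀.left | g₀.left w = y₀ ∧ Points.ofPt (fst₀ ≫ j) w ∈ xs} => t.1)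
      (fun t => t.2.1) (fun t => g₀.left.quasiFiniteAt t.1)
  have hVf : IsFinite ((Finset.univ.sup V).ι ≫ pullback.snd g₀.left g₁) :=
    Groth.Agent.Lib.Helper8.EtLocSch.isFinite_finset_sup' (pullback.snd g₀.left g₁) Finset.univ V
      (fun t _ => (hV t).2.1)
  have hVle : ∀ t, V t ≤ Finset.univ.sup V := fun t => Finset.le_sup (Finset.mem_univ t)
  have hVmem : ∀ z : ↥(pullback g₀.left g₁), z ∈ Finset.univ.sup V → ∃ t, z ∈ V t := by
    intro z hz
    rw [Finset.sup_univ_eq_iSup, TopologicalSpace.Opens.mem_iSup] at hz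
    exact hz
  -- objects over S
  let U₁o : Over S := Over.mk (g₁ ≫ Y₀.hom)
  let g₁o : U₁o ⟶ Y₀ := Over.homMk g₁ rfl
  let Po : Over S := Over.mk (pullback.fst g₀.left g₁ ≫ W₀.hom)
  let pf : Po ⟶ W₀ := Over.homMk (pullback.fst g₀.left g₁) rfl
  have hps' : pullback.snd g₀.left g₁ ≫ U₁o.hom = Po.hom := by
    show pullback.snd g₀.left g₁ ≫ g₁ ≫ Y₀.hom = pullback.fst g₀.left g₁ ≫ W₀.hom
    rw [← Category.assoc, ← pullback.condition, Category.assoc, Over.w g₀]
  let ps : Po ⟶ U₁o := Over.homMk (pullback.snd g₀.left g₁) hps'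
  let Vo : Over S := Over.mk ((Finset.univ.sup V).ι ≫ Po.hom)
  let ι : Vo ⟶ Po := Over.homMk (Finset.univ.sup V).ι rfl
  have sq0 : IsPullback ((Over.forget S).map pf) ((Over.forget S).map ps) ((Over.forget S).map g₀)
      ((Over.forget S).map g₁o) := IsPullback.of_hasPullback g₀.left g₁
  have sqO : IsPullback pf ps g₀ g₁o :=
    IsPullback.of_map (Over.forget S) (Over.OverMorphism.ext pullback.condition) sq0
  have sqY := sqO.map (yon S)
  have sq3 : IsPullback ((yon S).map pf ≫ fst₀) ((yon S).map ps)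
      (j ≫ f.hom) ((yon S).map g₁o ≫ p) := sqY.paste_horiz sqe
  have hae : IsEtaleMor ((yon S).map g₁o ≫ p) := by
    intro T φ' hφ'
    exact (RepWith @Etale).comp_mem _ _ hφ'
      ((RepWith @Etale).comp_mem _ _ ((repWith_yon_map_iff @Etale g₁o).2 hg₁e) hpe)
  refine ⟨(AlgSp.ofScheme S).obj U₁o, ObjectProperty.homMk ((yon S).map g₁o ≫ p),
    Points.ofScheme U₁o u₁, hae, ?_, ?_⟩
  · show Points.map ((yon S).map g₁o ≫ p) (Points.ofScheme U₁o u₁) = _
    rw [← Points.ofPt_eq_map_ofScheme, ofPt_yon_map_comp, ← hy₀]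
    congr 1
  · intro P prX prU hP
    have hP' : IsPullback prX.hom prU.hom f.hom ((yon S).map g₁o ≫ p) := hP
    have hPalg : IsAlgSpace P.obj := P.property
    have hcomp : ((yon S).map pf ≫ fst₀ ≫ j) ≫ f.hom =
        (yon S).map ps ≫ ((yon S).map g₁o ≫ p) := by
      have := sq3.w
      simpa only [Category.assoc] using this
    obtain ⟨ψ, hψ1, hψ2⟩ : ∃ ψ : (yon S).obj Po ⟶ P.obj,
        ψ ≫ prX.hom = (yon S).map pf ≫ fst₀ ≫ j ∧
        ψ ≫ prU.hom = (yon S).map ps :=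
      ⟨hP'.lift _ _ hcomp, hP'.lift_fst _ _ _, hP'.lift_snd _ _ _⟩
    have sqT : IsPullback ((yon S).map pf ≫ fst₀) ψ j prX.hom := by
      refine IsPullback.of_bot ?_ ?_ hP'
      · rw [hψ2]; exact sq3
      · rw [hψ1]; simp only [Category.assoc]
    have hψo : RepWith @IsOpenImmersion ψ := (RepWith @IsOpenImmersion).of_isPullback sqT hj
    have hιo : RepWith @IsOpenImmersion ((yon S).map ι) :=
      (repWith_yon_map_iff @IsOpenImmersion ι).2
        (inferInstanceAs (IsOpenImmersion (Finset.univ.sup V).ι))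
    have hJo : RepWith @IsOpenImmersion ((yon S).map ι ≫ ψ) :=
      (RepWith @IsOpenImmersion).comp_mem _ _ hιo hψo
    have hJU : ((yon S).map ι ≫ ψ) ≫ prU.hom = (yon S).map (ι ≫ ps) := by
      rw [Category.assoc, hψ2]
      exact ((yon S).map_comp ι ps).symm
    have hJX : ((yon S).map ι ≫ ψ) ≫ prX.hom = (yon S).map (ι ≫ pf) ≫ (fst₀ ≫ j) := by
      rw [Category.assoc, hψ1, ← Category.assoc]
      congr 1
    have hfin : RepWith @IsFinite (((yon S).map ι ≫ ψ) ≫ prU.hom) := by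
      rw [hJU]
      exact (repWith_yon_map_iff @IsFinite (ι ≫ ps)).2 hVf
    have hsepU : IsSeparatedMor prU.hom :=
      good_separated.bc hX hY hPalg (IsAlgSpace.yon_obj U₁o) _ _ _ _ hP' hf2
    have hJf : RepWith @IsFinite ((yon S).map ι ≫ ψ) := repWith_isFinite_of_comp _ _ hfin hsepU
    refine ⟨(AlgSp.ofScheme S).obj Vo, ObjectProperty.homMk ((yon S).map ι ≫ ψ), hJo,
      repWith_isClosedImmersion_of_finite_open _ hJf hJo, ?_, ?_, ?_⟩
    · exact H10PT.isFiniteMor_of_repWith' _ hfin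
    · intro v₁ hv₁
      obtain ⟨v₀, rfl⟩ : ∃ v₀ : ↥Vo.left, Points.ofScheme Vo v₀ = v₁ :=
        ⟨Points.toScheme Vo v₁, Points.ofScheme_toScheme Vo v₁⟩
      have hv₁' : Points.map (((yon S).map ι ≫ ψ) ≫ prU.hom) (Points.ofScheme Vo v₀) =
          Points.ofScheme U₁o u₁ := hv₁
      have hv₁'' : Points.map ((yon S).map (ι ≫ ps)) (Points.ofScheme Vo v₀) =
          Points.ofScheme U₁o u₁ :=
        (congrArg (fun m => Points.map m (Points.ofScheme Vo v₀)) hJU).symm.trans hv₁'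
      have hu : (ι ≫ ps).left v₀ = u₁ :=
        ofScheme_injective U₁o ((map_yon_map_ofScheme (ι ≫ ps) v₀).symm.trans hv₁'')
      obtain ⟨t, ht⟩ := hVmem v₀.1 v₀.2
      have hvt : v₀.1 = v t := (hV t).2.2.2.2.1 v₀.1 ht hu
      show Points.map (((yon S).map ι ≫ ψ) ≫ prX.hom) (Points.ofScheme Vo v₀) ∈ xs
      rw [hJX, ← Points.ofPt_eq_map_ofScheme, ofPt_yon_map_comp]
      have e2 : (ι ≫ pf).left v₀ = t.1 := by
        show pullback.fst g₀.left g₁ v₀.1 = t.1
        rw [hvt]; exact (hV t).2.2.2.1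
      rw [e2]; exact t.2.2
    · intro w hw hwu hx
      obtain ⟨x', hx'⟩ := hxsX' _ hx
      obtain ⟨z, hz1, hz2⟩ := exists_point_of_isPullback sqT x' w hx'
      obtain ⟨z₀, rfl⟩ : ∃ z₀ : ↥Po.left, Points.ofScheme Po z₀ = z :=
        ⟨Points.toScheme Po z, Points.ofScheme_toScheme Po z⟩
      have hzu : ps.left z₀ = u₁ := by
        apply ofScheme_injective U₁o
        have h1 : Points.map ((yon S).map ps) (Points.ofScheme Po z₀) =
            Points.ofScheme U₁o (ps.left z₀) := map_yon_map_ofScheme ps z₀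
        have h2 : Points.map (ψ ≫ prU.hom) (Points.ofScheme Po z₀) =
            Points.map prU.hom (Points.map ψ (Points.ofScheme Po z₀)) := Points.map_comp _ _ _
        have h2' : Points.map (ψ ≫ prU.hom) (Points.ofScheme Po z₀) =
            Points.map ((yon S).map ps) (Points.ofScheme Po z₀) :=
          congrArg (fun m => Points.map m (Points.ofScheme Po z₀)) hψ2
        have h3 : Points.map prU.hom (Points.map ψ (Points.ofScheme Po z₀)) =
            Points.ofScheme U₁o u₁ := by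
          rw [hz2]; exact hwu
        exact h1.symm.trans (h2'.symm.trans (h2.trans h3))
      have ht₀1 : g₀.left (pf.left z₀) = y₀ := by
        have hc : pullback.fst g₀.left g₁ ≫ g₀.left = pullback.snd g₀.left g₁ ≫ g₁ :=
          pullback.condition
        have hc' : (pullback.fst g₀.left g₁ ≫ g₀.left) z₀ = (pullback.snd g₀.left g₁ ≫ g₁) z₀ := by
          rw [hc]
        have h3 : g₀.left (pf.left z₀) = g₁ (ps.left z₀) := hc'
        rw [h3, hzu, hg₁u]
      have ht₀2 : Points.ofPt (fst₀ ≫ j) (pf.left z₀) ∈ xs := by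
        have h4 : Points.ofPt (fst₀ ≫ j) (pf.left z₀) = Points.map prX.hom w := by
          rw [← ofPt_yon_map_comp, Points.ofPt_eq_map_ofScheme, ← Category.assoc, Points.map_comp,
            hz1, hx']
        rw [h4]; exact hx
      have hzv : z₀ = v ⟨pf.left z₀, ht₀1, ht₀2⟩ :=
        (hV ⟨pf.left z₀, ht₀1, ht₀2⟩).2.2.2.2.2.1 z₀ hzu rfl
      have hzV : z₀ ∈ Finset.univ.sup V := by
        have := hVle _ (hV ⟨pf.left z₀, ht₀1, ht₀2⟩).1
        rw [← hzv] at this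
        exact this
      apply hw
      refine ⟨Points.ofScheme Vo ⟨z₀, hzV⟩, ?_⟩
      show Points.map ((yon S).map ι ≫ ψ) (Points.ofScheme Vo ⟨z₀, hzV⟩) = w
      rw [Points.map_comp, map_yon_map_ofScheme, ← hz2]
      rfl

theorem split_fin_main {X Y : AlgSp.Space S} (f : X ⟶ Y) (y : AlgSp.Points Y.obj)
    (xs : Finset (AlgSp.Points X.obj)) (hxs : ∀ x ∈ xs, AlgSp.Points.map f.hom x = y)
    (hf1 : AlgSp.LocP @LocallyOfFiniteType f.hom) (hf2 : AlgSp.IsSeparatedMor f.hom)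
    (hf3 : ∀ x ∈ xs, AlgSp.HasAtMor (fun U _ h u => ∃ W : U.Opens, u ∈ W ∧ LocallyQuasiFinite (W.ι ≫ h) ∧ LocallyOfFiniteType (W.ι ≫ h)) f.hom x)
    (hf4 : AlgSp.IsQuasiCompactMor f.hom ∨ AlgSp.IsDecent Y.obj) :
    ∃ (U : AlgSp.Space S) (a : U ⟶ Y) (u : AlgSp.Points U.obj), AlgSp.IsEtaleMor a.hom ∧ AlgSp.Points.map a.hom u = y ∧
      ∀ (P : AlgSp.Space S) (prX : P ⟶ X) (prU : P ⟶ U), IsPullback prX.hom prU.hom f.hom a.hom →
        ∃ (V : AlgSp.Space S) (jV : V ⟶ P), AlgSp.RepWith @IsOpenImmersion jV.hom ∧ AlgSp.RepWith @IsClosedImmersion jV.hom ∧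
          AlgSp.IsFiniteMor (jV ≫ prU).hom ∧
          (∀ v : AlgSp.Points V.obj, AlgSp.Points.map (jV ≫ prU).hom v = u → AlgSp.Points.map (jV ≫ prX).hom v ∈ xs) ∧
          ∀ w : AlgSp.Points P.obj, w ∉ Set.range (AlgSp.Points.map jV.hom) → AlgSp.Points.map prU.hom w = u →
            AlgSp.Points.map prX.hom w ∉ xs := by
  have hX : IsAlgSpace X.obj := X.property
  have hY : IsAlgSpace Y.obj := Y.property
  have hQo : IsOpen (qfLocus f.hom) := isOpen_qfLocus f.hom hf1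
  have hj : RepWith @IsOpenImmersion (openSubι X.obj (qfLocus f.hom)) :=
    repWith_isOpenImmersion_openSubι _ hQo
  have hX' : IsAlgSpace (openSub X.obj (qfLocus f.hom)) := isAlgSpace_openSub hX _ hQo
  have hlqf : LocP (@LocallyQuasiFinite ⊓ @LocallyOfFiniteType) (openSubι X.obj (qfLocus f.hom) ≫ f.hom) :=
    locP_lqf_openSubι_comp f.hom hf1
  have hsep' : IsSeparatedMor (openSubι X.obj (qfLocus f.hom) ≫ f.hom) :=
    isSeparatedMor_comp _ _ (isSeparatedMor_of_mono _) hf2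
  have hxsX' : ∀ x ∈ xs, x ∈ Set.range (Points.map (openSubι X.obj (qfLocus f.hom))) := by
    intro x hx
    rw [range_map_openSubι]
    exact (mem_qfLocus_iff_hasAtMor_open f.hom hf1 x).2 (hf3 x hx)
  rcases hf4 with hqc | hdec
  · obtain ⟨Y₁, p₁, hp₁e, hp₁s⟩ := hY.atlas
    obtain ⟨y₁, hy₁⟩ := ofPt_surjective_of_surjective p₁ hp₁s y
    obtain ⟨B, hB, hy₁B⟩ : ∃ B : Y₁.left.Opens, IsAffineOpen B ∧ y₁ ∈ B := by
      obtain ⟨_, ⟨B, hB, rfl⟩, hxB, -⟩ :=
        Y₁.left.isBasis_affineOpens.exists_subset_of_mem_open (Set.mem_univ y₁) isOpen_univ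
      exact ⟨B, hB, hxB⟩
    have hpe : RepWith @Etale ((yon S).map (overOpenι Y₁ B) ≫ p₁) := repWith_etale_restrict p₁ hp₁e B
    have hy₀ : Points.ofPt ((yon S).map (overOpenι Y₁ B) ≫ p₁) (⟨y₁, hy₁B⟩ : ↥(overOpen Y₁ B).left) = y := by
      rw [ofPt_restrict]; exact hy₁
    haveI : IsAffine (overOpen Y₁ B).left := hB
    obtain ⟨W₀, fst₀, g₀, sqe⟩ := exists_rep_pullback hX' hY _ hlqf hsep' (overOpen Y₁ B)
      ((yon S).map (overOpenι Y₁ B) ≫ p₁)
    have hg₀l : (@LocallyQuasiFinite ⊓ @LocallyOfFiniteType) g₀.left :=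
      locP_yon_map
        (good_locallyQuasiFinite.bc hX' hY (IsAlgSpace.yon_obj W₀) (IsAlgSpace.yon_obj _) _ _ _ _
          sqe hlqf)
    have hT := finite_fibre_of_qc f hf1 hqc _ _ hj (overOpen Y₁ B) W₀ _ hpe fst₀ g₀ sqe hg₀l.1
      ⟨y₁, hy₁B⟩
    exact split_aux_fin f y xs hf2 _ _ hj hX' hlqf hsep' hxsX' (overOpen Y₁ B) W₀ _ hpe
      ⟨y₁, hy₁B⟩ hy₀ fst₀ g₀ sqe (hT.subset (fun w hw => hw.1))
  · obtain ⟨U₀, a, u₀, -, helem, -⟩ := Groth.Agent.S10374.result Y hdec y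
    obtain ⟨W₀, fst₀, g₀, sqe⟩ := exists_rep_pullback hX' hY _ hlqf hsep' U₀ a
    haveI : Mono (openSubι X.obj (qfLocus f.hom)) := mono_of_repWith_isOpenImmersion _ hj
    have hT := finite_T_of_mono f.hom xs _ (openSubι X.obj (qfLocus f.hom)) U₀ W₀ a u₀ helem.mono
      fst₀ g₀ sqe
    exact split_aux_fin f y xs hf2 _ _ hj hX' hlqf hsep' hxsX' U₀ W₀ a helem.etale u₀
      helem.ofPt_eq fst₀ g₀ sqe hT

end H10PT.SplitQFFin
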