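import Groth.Agent.Lib.Helper10.Horseshoe
import Mathlib.CategoryTheory.Abelian.Injective.Resolution

set_option backward.isDefEq.respectTransparency false
set_option backward.isDefEq.respectTransparency.types false
set_option autoImplicit false

universe v u

open CategoryTheory CategoryTheory.Limits ZeroObject

noncomputable section

namespace H10SES

variable {C : Type u} [Category.{v} C] [Abelian C]

section SplitEpi

/-- a split epi is a projection from a biproduct -/
lemma exists_iso_biprod_of_section {X Y : C} (p : X ⟶ Y) (s : Y ⟶ X) (hs : s ≫ p = 𝟙 Y) :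
    ∃ (K : C) (e : X ≅ Y ⊞ K), p = e.hom ≫ biprod.fst := by
  have h0 : (𝟙 X - p ≫ s) ≫ p = 0 := by
    rw [Preadditive.sub_comp, Category.id_comp, Category.assoc, hs, Category.comp_id, sub_self]
  have hk : kernel.lift p (𝟙 X - p ≫ s) h0 ≫ kernel.ι p = 𝟙 X - p ≫ s := kernel.lift_ι _ _ _
  have h1 : s ≫ kernel.lift p (𝟙 X - p ≫ s) h0 = 0 := by
    rw [← cancel_mono (kernel.ι p), Category.assoc, hk, zero_comp, Preadditive.comp_sub,
      Category.comp_id, ← Category.assoc, hs, Category.id_comp, sub_self]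
  have h2 : kernel.ι p ≫ kernel.lift p (𝟙 X - p ≫ s) h0 = 𝟙 _ := by
    rw [← cancel_mono (kernel.ι p), Category.assoc, hk, Category.id_comp, Preadditive.comp_sub,
      Category.comp_id, ← Category.assoc, kernel.condition, zero_comp, sub_zero]
  refine ⟨kernel p, ⟨biprod.lift p (kernel.lift p (𝟙 X - p ≫ s) h0),
    biprod.desc s (kernel.ι p), ?_, ?_⟩, ?_⟩
  · rw [biprod.lift_desc, hk]
    abel
  · apply biprod.hom_ext'
    · rw [biprod.inl_desc_assoc, Category.comp_id]
      apply biprod.hom_ext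
      · rw [Category.assoc, biprod.lift_fst, hs, biprod.inl_fst]
      · rw [Category.assoc, biprod.lift_snd, h1, biprod.inl_snd]
    · rw [biprod.inr_desc_assoc, Category.comp_id]
      apply biprod.hom_ext
      · rw [Category.assoc, biprod.lift_fst, kernel.condition, biprod.inr_fst]
      · rw [Category.assoc, biprod.lift_snd, h2, biprod.inr_snd]
  · exact (biprod.lift_fst _ _).symm

end SplitEpi

section Shift

variable {F : C} (I : InjectiveResolution F)

/-- shifted objects -/
def shX : ℕ → C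
  | 0 => 0
  | n + 1 => I.cocomplex.X n

instance shX_injective (n : ℕ) : Injective (shX I n) := by
  cases n with
  | zero => exact (inferInstance : Injective (0 : C))
  | succ n => exact I.injective n

/-- shifted differential -/
def shD : ∀ n, shX I n ⟶ shX I (n + 1)
  | 0 => 0
  | n + 1 => I.cocomplex.d n (n + 1)

/-- identification -/
def sS (n : ℕ) : I.cocomplex.X n ⟶ shX I (n + 1) := 𝟙 (I.cocomplex.X n)

/-- identification, inverse -/
def sT (n : ℕ) : shX I (n + 1) ⟶ I.cocomplex.X n := 𝟙 (I.cocomplex.X n)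

@[reassoc (attr := simp)]
lemma sS_sT (n : ℕ) : sS I n ≫ sT I n = 𝟙 _ := Category.id_comp _

@[reassoc (attr := simp)]
lemma sT_sS (n : ℕ) : sT I n ≫ sS I n = 𝟙 _ := Category.id_comp _

@[reassoc]
lemma d_sS (n : ℕ) :
    I.cocomplex.d n (n + 1) ≫ sS I (n + 1) = sS I n ≫ shD I (n + 1) := by
  show I.cocomplex.d n (n + 1) ≫ 𝟙 _ = 𝟙 _ ≫ I.cocomplex.d n (n + 1)
  rw [Category.comp_id, Category.id_comp]

@[reassoc]
lemma shD_sT (n : ℕ) :
    shD I (n + 1) ≫ sT I (n + 1) = sT I n ≫ I.cocomplex.d n (n + 1) := by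
  show I.cocomplex.d n (n + 1) ≫ 𝟙 _ = 𝟙 _ ≫ I.cocomplex.d n (n + 1)
  rw [Category.comp_id, Category.id_comp]

@[reassoc]
lemma shD_shD (n : ℕ) : shD I n ≫ shD I (n + 1) = 0 := by
  cases n with
  | zero => exact zero_comp
  | succ n => exact I.cocomplex.d_comp_d _ _ _

lemma isZero_shX0 : IsZero (shX I 0) := isZero_zero C

/-- differential of the contractible complex -/
def eD (n : ℕ) : (I.cocomplex.X n ⊞ shX I n) ⟶ (I.cocomplex.X (n + 1) ⊞ shX I (n + 1)) :=
  biprod.desc (I.cocomplex.d n (n + 1) ≫ biprod.inl + sS I n ≫ biprod.inr)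
    (-(shD I n ≫ biprod.inr))

@[reassoc (attr := simp)]
lemma inl_eD (n : ℕ) : biprod.inl ≫ eD I n =
    I.cocomplex.d n (n + 1) ≫ biprod.inl + sS I n ≫ biprod.inr := biprod.inl_desc _ _

@[reassoc (attr := simp)]
lemma inr_eD (n : ℕ) : biprod.inr ≫ eD I n = -(shD I n ≫ biprod.inr) := biprod.inr_desc _ _

lemma eD_sq (n : ℕ) : eD I n ≫ eD I (n + 1) = 0 := by
  apply biprod.hom_ext'
  · simp only [inl_eD_assoc, Preadditive.add_comp, Category.assoc, inl_eD, inr_eD,
      Preadditive.comp_add, Preadditive.comp_neg, HomologicalComplex.d_comp_d_assoc, zero_comp,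
      zero_add, comp_zero, d_sS_assoc, add_neg_cancel]
  · simp only [inr_eD_assoc, Preadditive.neg_comp, Category.assoc, inr_eD, Preadditive.comp_neg,
      neg_neg, shD_shD_assoc, zero_comp, comp_zero]

/-- contraction -/
def eH (n : ℕ) : (I.cocomplex.X (n + 1) ⊞ shX I (n + 1)) ⟶ (I.cocomplex.X n ⊞ shX I n) :=
  biprod.snd ≫ sT I n ≫ biprod.inl

lemma eD_eH_zero : eD I 0 ≫ eH I 0 = 𝟙 _ := by
  apply biprod.hom_ext'
  · simp only [eH, inl_eD_assoc, Preadditive.add_comp, Category.assoc, biprod.inl_snd_assoc,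
      zero_comp, comp_zero, zero_add, biprod.inr_snd_assoc, sS_sT_assoc, Category.comp_id]
  · exact (isZero_shX0 I).eq_of_src _ _

lemma eD_eH_succ (n : ℕ) : eD I (n + 1) ≫ eH I (n + 1) + eH I n ≫ eD I n = 𝟙 _ := by
  apply biprod.hom_ext'
  · simp only [eH, Preadditive.comp_add, inl_eD_assoc, Preadditive.add_comp, Category.assoc,
      biprod.inl_snd_assoc, zero_comp, comp_zero, zero_add, add_zero, biprod.inr_snd_assoc,
      sS_sT_assoc, Category.comp_id]
  · simp only [eH, Preadditive.comp_add, inr_eD_assoc, Preadditive.neg_comp, Category.assoc,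
      biprod.inr_snd_assoc, inl_eD, shD_sT_assoc, sT_sS_assoc, Category.comp_id,
      neg_add_cancel_left]

@[reassoc]
lemma eD_fst (n : ℕ) : eD I n ≫ biprod.fst = biprod.fst ≫ I.cocomplex.d n (n + 1) := by
  apply biprod.hom_ext'
  · simp only [inl_eD_assoc, Preadditive.add_comp, Category.assoc, biprod.inl_fst,
      Category.comp_id, biprod.inr_fst, comp_zero, add_zero, biprod.inl_fst_assoc]
  · simp only [inr_eD_assoc, Preadditive.neg_comp, Category.assoc, biprod.inr_fst, comp_zero,
      neg_zero, biprod.inr_fst_assoc, zero_comp]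

/-- the contractible complex -/
abbrev eCx : CochainComplex C ℕ :=
  CochainComplex.of (fun n => I.cocomplex.X n ⊞ shX I n) (eD I) (eD_sq I)

lemma eCx_d (n : ℕ) : (eCx I).d n (n + 1) = eD I n :=
  CochainComplex.of_d (fun n => I.cocomplex.X n ⊞ shX I n) (eD I) n

lemma eCx_exactAt_zero : (eCx I).ExactAt 0 := by
  rw [HomologicalComplex.exactAt_iff' _ 0 0 1 (by simp) (by simp)]
  rw [ShortComplex.exact_iff_mono _ ((eCx I).shape 0 0 (by simp))]
  show Mono ((eCx I).d 0 1)
  rw [eCx_d]
  exact mono_of_mono_fac (eD_eH_zero I)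

lemma eCx_exactAt_succ (n : ℕ) : (eCx I).ExactAt (n + 1) := by
  rw [HomologicalComplex.exactAt_iff' _ n (n + 1) (n + 1 + 1) (by simp) (by simp)]
  rw [ShortComplex.exact_iff_exact_up_to_refinements]
  intro A x hx
  change A ⟶ I.cocomplex.X (n + 1) ⊞ shX I (n + 1) at x
  change x ≫ (eCx I).d (n + 1) (n + 1 + 1) = 0 at hx
  rw [eCx_d] at hx
  refine ⟨A, 𝟙 A, inferInstance, x ≫ eH I n, ?_⟩
  change 𝟙 A ≫ x = (x ≫ eH I n) ≫ (eCx I).d n (n + 1)
  rw [eCx_d, Category.id_comp, Category.assoc]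
  have h := eD_eH_succ I n
  calc x = x ≫ (eD I (n + 1) ≫ eH I (n + 1) + eH I n ≫ eD I n) := by
        rw [h, Category.comp_id]
    _ = x ≫ eH I n ≫ eD I n := by
        rw [Preadditive.comp_add, reassoc_of% hx, zero_comp, zero_add]

lemma eCx_exactAt (n : ℕ) : (eCx I).ExactAt n := by
  cases n with
  | zero => exact eCx_exactAt_zero I
  | succ n => exact eCx_exactAt_succ I n

lemma single0_zero_exactAt (n : ℕ) : ((CochainComplex.single₀ C).obj (0 : C)).ExactAt n := by
  apply ShortComplex.exact_of_isZero_X₂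
  exact (HomologicalComplex.eval C (ComplexShape.up ℕ) n).map_isZero
    ((CochainComplex.single₀ C).map_isZero (isZero_zero C))

/-- the contractible complex as an injective resolution of zero -/
abbrev eRes : InjectiveResolution (0 : C) where
  cocomplex := eCx I
  injective n := (inferInstance : Injective (I.cocomplex.X n ⊞ shX I n))
  ι := 0
  quasiIso := ⟨fun n => by
    rw [quasiIsoAt_iff_exactAt]
    · exact eCx_exactAt I n
    · exact single0_zero_exactAt n⟩

lemma eRes_d (n : ℕ) : (eRes I).cocomplex.d n (n + 1) = eD I n :=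
  CochainComplex.of_d (fun n => I.cocomplex.X n ⊞ shX I n) (eD I) n

end Shift

section Main

/-- trivial short exact sequence -/
abbrev triv (G : C) : ShortComplex C := ShortComplex.mk (𝟙 G) (0 : G ⟶ (0 : C)) comp_zero

lemma triv_shortExact (G : C) : (triv G).ShortExact :=
  ShortComplex.Splitting.shortExact
    { r := 𝟙 G
      s := 0
      f_r := Category.id_comp _
      s_g := (isZero_zero C).eq_of_src _ _
      id := by
        show 𝟙 G ≫ 𝟙 G + (0 : G ⟶ (0 : C)) ≫ (0 : (0 : C) ⟶ G) = 𝟙 G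
        rw [Category.id_comp, zero_comp, add_zero] }

variable {G F : C} (I : InjectiveResolution F) (K : InjectiveResolution G)

lemma zτ_h : ∀ n, (eRes I).cocomplex.d n (n + 1) ≫
    ((fun _ => 0 : ∀ n, (eRes I).cocomplex.X n ⟶ K.cocomplex.X (n + 1)) (n + 1)) =
    -(((fun _ => 0 : ∀ n, (eRes I).cocomplex.X n ⟶ K.cocomplex.X (n + 1)) n) ≫
      K.cocomplex.d (n + 1) (n + 1 + 1)) := by
  intro n
  simp only [comp_zero, zero_comp, neg_zero]

/-- the split resolution -/
def spT : RDer.SESRes (triv G) :=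
  hSES (S := triv G) (triv_shortExact G) K (eRes I) (fun _ => 0) (zτ_h I K)
    ((isZero_zero C).eq_of_src _ _)

variable (a : K.cocomplex ⟶ I.cocomplex)

lemma spBeta_comm (n : ℕ) :
    (biprod.desc (a.f n) (biprod.fst : I.cocomplex.X n ⊞ shX I n ⟶ I.cocomplex.X n) :
        K.cocomplex.X n ⊞ (I.cocomplex.X n ⊞ shX I n) ⟶ I.cocomplex.X n) ≫
        I.cocomplex.d n (n + 1) =
      hd (S := triv G) K (eRes I) (fun _ => 0) n ≫
        (biprod.desc (a.f (n + 1))
          (biprod.fst : I.cocomplex.X (n + 1) ⊞ shX I (n + 1) ⟶ I.cocomplex.X (n + 1))) := by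
  apply biprod.hom_ext'
  · rw [biprod.inl_desc_assoc, inl_hd_assoc (S := triv G) K (eRes I) (fun _ => 0) n,
      biprod.inl_desc]
    exact a.comm n (n + 1)
  · rw [biprod.inr_desc_assoc, inr_hd_assoc (S := triv G) K (eRes I) (fun _ => 0) n]
    simp only [Preadditive.add_comp, Category.assoc, biprod.inl_desc, biprod.inr_desc,
      zero_comp, zero_add]
    have h := eD_fst I n
    rw [← eRes_d] at h
    exact h.symm

/-- the comparison map -/
def spBeta : (spT I K).I₂.cocomplex ⟶ I.cocomplex where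
  f n := (biprod.desc (a.f n) (biprod.fst : I.cocomplex.X n ⊞ shX I n ⟶ I.cocomplex.X n) :
        K.cocomplex.X n ⊞ (I.cocomplex.X n ⊞ shX I n) ⟶ I.cocomplex.X n)
  comm' := by
    rintro i j (rfl : i + 1 = j)
    have h : (spT I K).I₂.cocomplex.d i (i + 1) = hd (S := triv G) K (eRes I) (fun _ => 0) i :=
      hcx_d (S := triv G) K (eRes I) (fun _ => 0) (zτ_h I K) i
    rw [h]
    exact spBeta_comm I K a i

lemma spBeta_f (n : ℕ) : (spBeta I K a).f n =
    (biprod.desc (a.f n) (biprod.fst : I.cocomplex.X n ⊞ shX I n ⟶ I.cocomplex.X n) :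
        K.cocomplex.X n ⊞ (I.cocomplex.X n ⊞ shX I n) ⟶ I.cocomplex.X n) := rfl

lemma spT_ι_f0 : (spT I K).I₂.ι.f 0 = heps (S := triv G) (triv_shortExact G) K (eRes I) :=
  hι_f0 (S := triv G) (triv_shortExact G) K (eRes I) (fun _ => 0) (zτ_h I K)
    ((isZero_zero C).eq_of_src _ _)

lemma hrho_triv : hrho (S := triv G) (triv_shortExact G) K = aug K :=
  (Category.id_comp _).symm.trans (f_hrho (S := triv G) (triv_shortExact G) K)

end Main

theorem exists_split_over [EnoughInjectives C] {G F : C} (α : G ⟶ F)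
    (I : InjectiveResolution F) :
    ∃ (J : InjectiveResolution G) (β : J.cocomplex ⟶ I.cocomplex),
      J.ι ≫ β = (CochainComplex.single₀ C).map α ≫ I.ι ∧
      ∀ p : ℕ, ∃ (K : C) (e : J.cocomplex.X p ≅ I.cocomplex.X p ⊞ K),
        β.f p = e.hom ≫ biprod.fst := by
  let K : InjectiveResolution G := injectiveResolution G
  let a : K.cocomplex ⟶ I.cocomplex := InjectiveResolution.desc α I K
  refine ⟨(spT I K).I₂, spBeta I K a, ?_, ?_⟩
  · apply HomologicalComplex.from_single_hom_ext
    rw [HomologicalComplex.comp_f, HomologicalComplex.comp_f,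
      CochainComplex.single₀_map_f_zero, spT_ι_f0, spBeta_f]
    have h1 : aug K ≫ a.f 0 = α ≫ I.ι.f 0 := InjectiveResolution.desc_commutes_zero α I K
    rw [heps, biprod.lift_desc, hrho_triv, h1]
    show α ≫ I.ι.f 0 + ((0 : G ⟶ (0 : C)) ≫ aug (eRes I)) ≫ biprod.fst = α ≫ I.ι.f 0
    rw [zero_comp, zero_comp, add_zero]
  · intro p
    exact exists_iso_biprod_of_section ((spBeta I K a).f p)
      ((biprod.inl : I.cocomplex.X p ⟶ I.cocomplex.X p ⊞ shX I p) ≫
        (biprod.inr : I.cocomplex.X p ⊞ shX I p ⟶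
          K.cocomplex.X p ⊞ (I.cocomplex.X p ⊞ shX I p)))
      (by rw [spBeta_f, Category.assoc, biprod.inr_desc, biprod.inl_fst])

end H10SES
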