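import Mathlib
import Groth.Prelude.Def_AlgSt
import Groth.Agent.Lib.Helper10.Fib2
import Groth.Agent.Lib.Helper10.FibGrpd
import Groth.Agent.Lib.Helper10.HomSheaf
import Groth.Agent.Lib.Helper10.StkElem

/-!
# Descent along a generating family with fibre products

Let `𝒮` be fibred in groupoids over `D`, `R'` a sieve on `U₀` for which objects glue, and let
`Y : 𝒜 ⥤ 𝒮` be a diagram over a family of arrows `h a : p (Y a) ⟶ U₀` generating `R'`, such that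
`𝒜` has (weak) fibre products which are sent to fibre products of `D` (`Gen`).  Then the diagram
has a cone with vertex over `U₀` (`Gen.exists_cone`): the classical passage from descent data
relative to a family, given with fibre products, to descent data on the generated sieve.

Also `sep'`, `glue'`: the gluing of morphisms of `𝒮` for objects lying over `U₀` up to an
isomorphism of the base.
-/

set_option autoImplicit false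
set_option linter.style.haveILetI false
set_option backward.isDefEq.respectTransparency false
set_option backward.isDefEq.respectTransparency.types false

universe v₃ u₃ v₂ u₂ v₁ u₁

open CategoryTheory Functor CategoryTheory.Limits

namespace Groth.Agent.Lib.Helper10.StkGen

open Groth.Agent.Lib.Helper10.Fib Groth.Agent.Lib.Helper10.StkElem
  Groth.Agent.Lib.Helper10.HomSheaf

variable {D : Type u₂} [Category.{v₂} D] {𝒮 : BasedCategory.{v₃, u₃} D}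

section Lift

variable (h𝒮 : FibCat.IsFibGrpd 𝒮.p)
include h𝒮

lemma existsUnique_lift {w w' z : 𝒮.obj} (φ : w ⟶ w') (m : z ⟶ w')
    (g : 𝒮.p.obj z ⟶ 𝒮.p.obj w) (h : 𝒮.p.map m = g ≫ 𝒮.p.map φ) :
    ∃! ξ : z ⟶ w, 𝒮.p.map ξ = g ∧ ξ ≫ φ = m :=
  (sc_map_iff 𝒮.p φ).1 (h𝒮.isStronglyCartesian φ) g m h

lemma eq_of_comp_eq {w w' z : 𝒮.obj} (φ : w ⟶ w') (ξ₁ ξ₂ : z ⟶ w) (h : ξ₁ ≫ φ = ξ₂ ≫ φ)
    (hp : 𝒮.p.map ξ₁ = 𝒮.p.map ξ₂) : ξ₁ = ξ₂ := by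
  obtain ⟨ξ, -, hu⟩ := existsUnique_lift h𝒮 φ (ξ₁ ≫ φ) (𝒮.p.map ξ₁) (𝒮.p.map_comp _ _)
  exact (hu ξ₁ ⟨rfl, rfl⟩).trans (hu ξ₂ ⟨hp.symm, h.symm⟩).symm

end Lift

lemma base_of_lift {x y : 𝒮.obj} {R S : D} (f : R ⟶ S) (ψ : x ⟶ y) (hψ : 𝒮.p.IsHomLift f ψ)
    (hy : 𝒮.p.obj y = S) (hx : 𝒮.p.obj x = R) :
    𝒮.p.map ψ ≫ eqToHom hy = eqToHom hx ≫ f := by
  have := IsHomLift.fac' 𝒮.p f ψ
  rw [this]
  simp

/-- A diagram in `𝒮` over a family generating the sieve `R'`, with fibre products. -/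
structure Gen (𝒮 : BasedCategory.{v₃, u₃} D) {U₀ : D} (R' : Sieve U₀) (𝒜 : Type u₁)
    [Category.{v₁} 𝒜] where
  /-- the diagram -/
  Y : 𝒜 ⥤ 𝒮.obj
  /-- the family of arrows -/
  h : ∀ a, 𝒮.p.obj (Y.obj a) ⟶ U₀
  hnat : ∀ {a b : 𝒜} (k : a ⟶ b), 𝒮.p.map (Y.map k) ≫ h b = h a
  hmem : ∀ a, R' (h a)
  hgen : ∀ ⦃V' : D⦄ (g : V' ⟶ U₀), R' g →
    ∃ (a : 𝒜) (θ : V' ⟶ 𝒮.p.obj (Y.obj a)), θ ≫ h a = g
  hprod : ∀ a b : 𝒜, ∃ (c : 𝒜) (ka : c ⟶ a) (kb : c ⟶ b),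
    IsPullback (𝒮.p.map (Y.map ka)) (𝒮.p.map (Y.map kb)) (h a) (h b) ∧
    ∀ (c' : 𝒜) (ka' : c' ⟶ a) (kb' : c' ⟶ b), ∃ m : c' ⟶ c, m ≫ ka = ka' ∧ m ≫ kb = kb'
  hpb : ∀ {c₁ c₂ b : 𝒜} (k₁ : c₁ ⟶ b) (k₂ : c₂ ⟶ b), ∃ (q : 𝒜) (l₁ : q ⟶ c₁) (l₂ : q ⟶ c₂),
    l₁ ≫ k₁ = l₂ ≫ k₂ ∧
    IsPullback (𝒮.p.map (Y.map l₁)) (𝒮.p.map (Y.map l₂)) (𝒮.p.map (Y.map k₁))
      (𝒮.p.map (Y.map k₂))

namespace Gen

variable {U₀ : D} {R' : Sieve U₀} {𝒜 : Type u₁} [Category.{v₁} 𝒜] (G : Gen 𝒮 R' 𝒜)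

/-- Two morphisms to values of the diagram are related when they come from one morphism to a
common refinement. -/
def Rel {z : 𝒮.obj} {a b : 𝒜} (χ : z ⟶ G.Y.obj a) (μ : z ⟶ G.Y.obj b) : Prop :=
  ∃ (c : 𝒜) (ka : c ⟶ a) (kb : c ⟶ b) (l : z ⟶ G.Y.obj c),
    l ≫ G.Y.map ka = χ ∧ l ≫ G.Y.map kb = μ

lemma rel_pre {z z' : 𝒮.obj} {a b : 𝒜} {χ : z ⟶ G.Y.obj a} {μ : z ⟶ G.Y.obj b} (κ : z' ⟶ z)
    (h : G.Rel χ μ) : G.Rel (κ ≫ χ) (κ ≫ μ) := by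
  obtain ⟨c, ka, kb, l, rfl, rfl⟩ := h
  exact ⟨c, ka, kb, κ ≫ l, Category.assoc _ _ _, Category.assoc _ _ _⟩

lemma rel_refl {z : 𝒮.obj} {a : 𝒜} (χ : z ⟶ G.Y.obj a) : G.Rel χ χ :=
  ⟨a, 𝟙 a, 𝟙 a, χ, by rw [G.Y.map_id, Category.comp_id], by rw [G.Y.map_id, Category.comp_id]⟩

lemma rel_map {z : 𝒮.obj} {a b : 𝒜} (χ : z ⟶ G.Y.obj a) (k : a ⟶ b) :
    G.Rel χ (χ ≫ G.Y.map k) :=
  ⟨a, 𝟙 a, k, χ, by rw [G.Y.map_id, Category.comp_id], rfl⟩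

section

variable (h𝒮 : FibCat.IsFibGrpd 𝒮.p)
include h𝒮

lemma rel_exists {z : 𝒮.obj} {a b : 𝒜} (χ : z ⟶ G.Y.obj a)
    (ζ : 𝒮.p.obj z ⟶ 𝒮.p.obj (G.Y.obj b)) (hζ : 𝒮.p.map χ ≫ G.h a = ζ ≫ G.h b) :
    ∃ μ : z ⟶ G.Y.obj b, 𝒮.p.map μ = ζ ∧ G.Rel χ μ := by
  obtain ⟨c, ka, kb, hpb, -⟩ := G.hprod a b
  obtain ⟨l, ⟨hl1, hl2⟩, -⟩ := existsUnique_lift h𝒮 (G.Y.map ka) χ (hpb.lift _ _ hζ)
    (hpb.lift_fst _ _ hζ).symm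
  refine ⟨l ≫ G.Y.map kb, ?_, ⟨c, ka, kb, l, hl2, rfl⟩⟩
  rw [𝒮.p.map_comp, hl1, hpb.lift_snd]

lemma rel_uniq {z : 𝒮.obj} {a b : 𝒜} (χ : z ⟶ G.Y.obj a) (μ μ' : z ⟶ G.Y.obj b)
    (hp : 𝒮.p.map μ = 𝒮.p.map μ') (h1 : G.Rel χ μ) (h2 : G.Rel χ μ') : μ = μ' := by
  obtain ⟨c, ka, kb, l, hl1, hl2⟩ := h1
  obtain ⟨c', ka', kb', l', hl1', hl2'⟩ := h2
  obtain ⟨P, πa, πb, hpb, huniv⟩ := G.hprod a b
  obtain ⟨m, hm1, hm2⟩ := huniv c ka kb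
  obtain ⟨m', hm1', hm2'⟩ := huniv c' ka' kb'
  have e1 : (l ≫ G.Y.map m) ≫ G.Y.map πa = χ := by
    rw [Category.assoc, ← G.Y.map_comp, hm1, hl1]
  have e2 : (l ≫ G.Y.map m) ≫ G.Y.map πb = μ := by
    rw [Category.assoc, ← G.Y.map_comp, hm2, hl2]
  have e1' : (l' ≫ G.Y.map m') ≫ G.Y.map πa = χ := by
    rw [Category.assoc, ← G.Y.map_comp, hm1', hl1']
  have e2' : (l' ≫ G.Y.map m') ≫ G.Y.map πb = μ' := by
    rw [Category.assoc, ← G.Y.map_comp, hm2', hl2']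
  have hb : 𝒮.p.map (l ≫ G.Y.map m) = 𝒮.p.map (l' ≫ G.Y.map m') := by
    apply hpb.hom_ext
    · rw [← 𝒮.p.map_comp, ← 𝒮.p.map_comp, e1, e1']
    · rw [← 𝒮.p.map_comp, ← 𝒮.p.map_comp, e2, e2', hp]
  have hΛ : l ≫ G.Y.map m = l' ≫ G.Y.map m' :=
    eq_of_comp_eq h𝒮 (G.Y.map πa) _ _ (e1.trans e1'.symm) hb
  rw [← e2, ← e2', hΛ]

lemma rel_trans {z : 𝒮.obj} {a b c : 𝒜} (χ : z ⟶ G.Y.obj a) (μ : z ⟶ G.Y.obj b)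
    (ν : z ⟶ G.Y.obj c) (h1 : G.Rel χ μ) (h2 : G.Rel μ ν) : G.Rel χ ν := by
  obtain ⟨c₁, ka, kb, l₁, hl1, hl2⟩ := h1
  obtain ⟨c₂, kb', kc, l₂, hl1', hl2'⟩ := h2
  obtain ⟨q, r₁, r₂, hcomm, hpb⟩ := G.hpb kb kb'
  have hcond : 𝒮.p.map l₁ ≫ 𝒮.p.map (G.Y.map kb) = 𝒮.p.map l₂ ≫ 𝒮.p.map (G.Y.map kb') := by
    rw [← 𝒮.p.map_comp, ← 𝒮.p.map_comp, hl2, hl1']
  obtain ⟨lq, ⟨hq1, hq2⟩, -⟩ := existsUnique_lift h𝒮 (G.Y.map r₁) l₁ (hpb.lift _ _ hcond)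
    (hpb.lift_fst _ _ hcond).symm
  have hq3 : lq ≫ G.Y.map r₂ = l₂ := by
    apply eq_of_comp_eq h𝒮 (G.Y.map kb')
    · rw [Category.assoc, ← G.Y.map_comp, ← hcomm, G.Y.map_comp, ← Category.assoc, hq2, hl2,
        hl1']
    · rw [𝒮.p.map_comp, hq1, hpb.lift_snd]
  refine ⟨q, r₁ ≫ ka, r₂ ≫ kc, lq, ?_, ?_⟩
  · rw [G.Y.map_comp, ← Category.assoc, hq2, hl1]
  · rw [G.Y.map_comp, ← Category.assoc, hq3, hl2']

end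

/-- A choice of a factorisation and of a pullback for an arrow of the sieve. -/
structure Ch (a' : (Stk.sieveCat R').obj) where
  /-- the index -/
  α : 𝒜
  /-- the factorisation -/
  θ : a'.obj.left ⟶ 𝒮.p.obj (G.Y.obj α)
  /-- the pullback -/
  x : 𝒮.obj
  /-- the cartesian morphism -/
  c : x ⟶ G.Y.obj α
  d : 𝒮.p.obj x = a'.obj.left
  hθ : θ ≫ G.h α = a'.obj.hom
  hc : 𝒮.p.map c = eqToHom d ≫ θ

variable (h𝒮 : FibCat.IsFibGrpd 𝒮.p)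

include h𝒮 in
lemma nonempty_ch (a' : (Stk.sieveCat R').obj) : Nonempty (G.Ch a') := by
  obtain ⟨α, θ, hθ⟩ := G.hgen a'.obj.hom a'.property
  obtain ⟨x, cx, hcx⟩ := h𝒮.exists_lift (x := G.Y.obj α) θ
  have dx : 𝒮.p.obj x = a'.obj.left := IsHomLift.domain_eq 𝒮.p θ cx
  refine ⟨⟨α, θ, x, cx, dx, hθ, ?_⟩⟩
  have := IsHomLift.fac' 𝒮.p θ cx
  simpa using this

/-- The chosen data. -/
noncomputable def ch (a' : (Stk.sieveCat R').obj) : G.Ch a' :=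
  Classical.choice (G.nonempty_ch h𝒮 a')

/-- The base of the value of the extended functor on a morphism. -/
noncomputable abbrev gBase {a' b' : (Stk.sieveCat R').obj} (k : a' ⟶ b') :
    𝒮.p.obj (G.ch h𝒮 a').x ⟶ 𝒮.p.obj (G.ch h𝒮 b').x :=
  eqToHom (G.ch h𝒮 a').d ≫ k.hom.left ≫ eqToHom (G.ch h𝒮 b').d.symm

lemma hm_existsUnique {a' b' : (Stk.sieveCat R').obj} (k : a' ⟶ b') :
    ∃! η : (G.ch h𝒮 a').x ⟶ (G.ch h𝒮 b').x,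
      𝒮.p.map η = G.gBase h𝒮 k ∧ G.Rel (G.ch h𝒮 a').c (η ≫ (G.ch h𝒮 b').c) := by
  have hζ : 𝒮.p.map (G.ch h𝒮 a').c ≫ G.h (G.ch h𝒮 a').α =
      (G.gBase h𝒮 k ≫ 𝒮.p.map (G.ch h𝒮 b').c) ≫ G.h (G.ch h𝒮 b').α := by
    rw [(G.ch h𝒮 a').hc, (G.ch h𝒮 b').hc]
    simp only [Category.assoc, eqToHom_trans_assoc, eqToHom_refl, Category.id_comp]
    rw [(G.ch h𝒮 a').hθ, (G.ch h𝒮 b').hθ, Over.w k.hom]
  obtain ⟨μ, hμ1, hμ2⟩ := G.rel_exists h𝒮 (G.ch h𝒮 a').c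
    (G.gBase h𝒮 k ≫ 𝒮.p.map (G.ch h𝒮 b').c) hζ
  obtain ⟨η, ⟨hη1, hη2⟩, -⟩ := existsUnique_lift h𝒮 (G.ch h𝒮 b').c μ (G.gBase h𝒮 k) hμ1
  refine ⟨η, ⟨hη1, by rw [hη2]; exact hμ2⟩, ?_⟩
  rintro η' ⟨h1', h2'⟩
  apply eq_of_comp_eq h𝒮 (G.ch h𝒮 b').c
  · apply G.rel_uniq h𝒮 (G.ch h𝒮 a').c _ _ ?_ h2' (by rw [hη2]; exact hμ2)
    rw [𝒮.p.map_comp, 𝒮.p.map_comp, h1', hη1]
  · rw [h1', hη1]

/-- The value of the extended functor on a morphism. -/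
noncomputable def hMap {a' b' : (Stk.sieveCat R').obj} (k : a' ⟶ b') :
    (G.ch h𝒮 a').x ⟶ (G.ch h𝒮 b').x :=
  (G.hm_existsUnique h𝒮 k).exists.choose

lemma hMap_base {a' b' : (Stk.sieveCat R').obj} (k : a' ⟶ b') :
    𝒮.p.map (G.hMap h𝒮 k) = G.gBase h𝒮 k :=
  (G.hm_existsUnique h𝒮 k).exists.choose_spec.1

lemma hMap_rel {a' b' : (Stk.sieveCat R').obj} (k : a' ⟶ b') :
    G.Rel (G.ch h𝒮 a').c (G.hMap h𝒮 k ≫ (G.ch h𝒮 b').c) :=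
  (G.hm_existsUnique h𝒮 k).exists.choose_spec.2

lemma hMap_uniq {a' b' : (Stk.sieveCat R').obj} (k : a' ⟶ b')
    (η : (G.ch h𝒮 a').x ⟶ (G.ch h𝒮 b').x) (h1 : 𝒮.p.map η = G.gBase h𝒮 k)
    (h2 : G.Rel (G.ch h𝒮 a').c (η ≫ (G.ch h𝒮 b').c)) : η = G.hMap h𝒮 k :=
  (G.hm_existsUnique h𝒮 k).unique ⟨h1, h2⟩ ⟨G.hMap_base h𝒮 k, G.hMap_rel h𝒮 k⟩

/-- The descent datum on the sieve `R'` extending the diagram. -/
noncomputable def ext : Stk.sieveCat R' ⥤ᵇ 𝒮 where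
  toFunctor :=
    { obj := fun a' => (G.ch h𝒮 a').x
      map := fun k => G.hMap h𝒮 k
      map_id := fun a' => by
        symm
        apply G.hMap_uniq h𝒮
        · have e : (𝟙 a' : a' ⟶ a').hom = 𝟙 a'.obj := rfl
          simp [gBase, e]
        · rw [Category.id_comp]
          exact G.rel_refl _
      map_comp := fun {a' b' c'} k l => by
        symm
        apply G.hMap_uniq h𝒮
        · rw [𝒮.p.map_comp, G.hMap_base, G.hMap_base]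
          have e : (k ≫ l).hom = k.hom ≫ l.hom := rfl
          simp [gBase, e]
        · rw [Category.assoc]
          exact G.rel_trans h𝒮 _ _ _ (G.hMap_rel h𝒮 k)
            (G.rel_pre (G.hMap h𝒮 k) (G.hMap_rel h𝒮 l)) }
  w := by
    refine CategoryTheory.Functor.ext (fun a' => (G.ch h𝒮 a').d) ?_
    intro a' b' k
    exact G.hMap_base h𝒮 k

/-- The object of the sieve attached to an index. -/
def ob (a : 𝒜) : (Stk.sieveCat R').obj := ⟨Over.mk (G.h a), G.hmem a⟩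

/-- The morphism of the sieve attached to a morphism of indices. -/
def obMap {a b : 𝒜} (k : a ⟶ b) : G.ob a ⟶ G.ob b :=
  ObjectProperty.homMk (Over.homMk (𝒮.p.map (G.Y.map k)) (G.hnat k))

include h𝒮 in
lemma exists_j (a : 𝒜) : ∃ j : G.Y.obj a ⟶ (G.ch h𝒮 (G.ob a)).x,
    𝒮.p.map j = eqToHom (G.ch h𝒮 (G.ob a)).d.symm ∧
      G.Rel (𝟙 (G.Y.obj a)) (j ≫ (G.ch h𝒮 (G.ob a)).c) := by
  have hζ : 𝒮.p.map (𝟙 (G.Y.obj a)) ≫ G.h a =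
      (G.ch h𝒮 (G.ob a)).θ ≫ G.h (G.ch h𝒮 (G.ob a)).α := by
    rw [𝒮.p.map_id, Category.id_comp]
    exact (G.ch h𝒮 (G.ob a)).hθ.symm
  obtain ⟨μ, hμ1, hμ2⟩ := G.rel_exists h𝒮 (𝟙 (G.Y.obj a)) (G.ch h𝒮 (G.ob a)).θ hζ
  obtain ⟨j, ⟨hj1, hj2⟩, -⟩ := existsUnique_lift h𝒮 (G.ch h𝒮 (G.ob a)).c μ
    (eqToHom (G.ch h𝒮 (G.ob a)).d.symm) (by
      rw [hμ1, (G.ch h𝒮 (G.ob a)).hc, eqToHom_trans_assoc, eqToHom_refl, Category.id_comp])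
  exact ⟨j, hj1, by rw [hj2]; exact hμ2⟩

include h𝒮 in
theorem exists_cone [(Stk.resSieve R' 𝒮).EssSurj] :
    ∃ (y : 𝒮.obj) (hy : 𝒮.p.obj y = U₀) (ψ : ∀ a, G.Y.obj a ⟶ y),
      (∀ a, 𝒮.p.map (ψ a) ≫ eqToHom hy = G.h a) ∧
      ∀ {a b : 𝒜} (k : a ⟶ b), G.Y.map k ≫ ψ b = ψ a := by
  obtain ⟨y, hy, ψ'', hψ'', hnat''⟩ := hasCone_of_essSurj R' (G.ext h𝒮)
  have hj := G.exists_j h𝒮
  choose j hj1 hj2 using hj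
  refine ⟨y, hy, fun a => j a ≫ ψ'' (G.ob a), fun a => ?_, fun {a b} k => ?_⟩
  · have h3 : 𝒮.p.map (ψ'' (G.ob a)) ≫ eqToHom hy =
        eqToHom (G.ch h𝒮 (G.ob a)).d ≫ G.h a :=
      base_of_lift (G.h a) (ψ'' (G.ob a)) (hψ'' (G.ob a)) hy (G.ch h𝒮 (G.ob a)).d
    rw [𝒮.p.map_comp, Category.assoc, h3, hj1, eqToHom_trans_assoc, eqToHom_refl,
      Category.id_comp]
  · have hk' : (G.obMap k).hom.left = 𝒮.p.map (G.Y.map k) := rfl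
    have key : G.Y.map k ≫ j b = j a ≫ G.hMap h𝒮 (G.obMap k) := by
      apply eq_of_comp_eq h𝒮 (G.ch h𝒮 (G.ob b)).c
      · apply G.rel_uniq h𝒮 (𝟙 (G.Y.obj a))
        · rw [𝒮.p.map_comp, 𝒮.p.map_comp, 𝒮.p.map_comp, 𝒮.p.map_comp, hj1, hj1, G.hMap_base]
          simp [gBase, hk']
        · have r1 : G.Rel (𝟙 (G.Y.obj a)) (G.Y.map k) := by
            have := G.rel_map (𝟙 (G.Y.obj a)) k
            rwa [Category.id_comp] at this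
          have r2 : G.Rel (G.Y.map k) (G.Y.map k ≫ j b ≫ (G.ch h𝒮 (G.ob b)).c) := by
            have := G.rel_pre (G.Y.map k) (hj2 b)
            rwa [Category.comp_id] at this
          rw [Category.assoc]
          exact G.rel_trans h𝒮 _ _ _ r1 r2
        · have r3 := G.rel_pre (j a) (G.hMap_rel h𝒮 (G.obMap k))
          rw [Category.assoc]
          exact G.rel_trans h𝒮 _ _ _ (hj2 a) r3
      · rw [𝒮.p.map_comp, 𝒮.p.map_comp, hj1, hj1, G.hMap_base]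
        simp [gBase, hk']
    have hn : G.hMap h𝒮 (G.obMap k) ≫ ψ'' (G.ob b) = ψ'' (G.ob a) := hnat'' (G.obMap k)
    calc G.Y.map k ≫ j b ≫ ψ'' (G.ob b) = (G.Y.map k ≫ j b) ≫ ψ'' (G.ob b) :=
          (Category.assoc _ _ _).symm
      _ = (j a ≫ G.hMap h𝒮 (G.obMap k)) ≫ ψ'' (G.ob b) := by rw [key]
      _ = j a ≫ G.hMap h𝒮 (G.obMap k) ≫ ψ'' (G.ob b) := Category.assoc _ _ _
      _ = j a ≫ ψ'' (G.ob a) := by rw [hn]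

end Gen

section Iso

variable {U₀ : D} (R' : Sieve U₀) (h𝒮 : FibCat.IsFibGrpd 𝒮.p)
include h𝒮

/-- Separation for morphisms between objects lying over `U₀` up to an isomorphism of the
base. -/
theorem sep' (hR : (Stk.resSieve R' 𝒮).Faithful) {x x' : 𝒮.obj} (ex : 𝒮.p.obj x ≅ U₀)
    (n₁ n₂ : x ⟶ x') (hp : 𝒮.p.map n₁ = 𝒮.p.map n₂)
    (H : ∀ (x₀ : 𝒮.obj) (χ : x₀ ⟶ x), R' (𝒮.p.map χ ≫ ex.hom) → χ ≫ n₁ = χ ≫ n₂) :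
    n₁ = n₂ := by
  obtain ⟨xt, c, hc⟩ := h𝒮.exists_lift (x := x) ex.inv
  have hxt : 𝒮.p.obj xt = U₀ := IsHomLift.domain_eq 𝒮.p ex.inv c
  have hcb : 𝒮.p.map c = eqToHom hxt ≫ ex.inv := by
    have := IsHomLift.fac' 𝒮.p ex.inv c
    simpa using this
  obtain ⟨xt', c', hc'⟩ := h𝒮.exists_lift (x := x') (ex.inv ≫ 𝒮.p.map n₁)
  have hxt' : 𝒮.p.obj xt' = U₀ := IsHomLift.domain_eq 𝒮.p (ex.inv ≫ 𝒮.p.map n₁) c'
  have hcb' : 𝒮.p.map c' = eqToHom hxt' ≫ ex.inv ≫ 𝒮.p.map n₁ := by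
    have := IsHomLift.fac' 𝒮.p (ex.inv ≫ 𝒮.p.map n₁) c'
    simpa using this
  obtain ⟨m₁, ⟨hb1, hf1⟩, -⟩ := existsUnique_lift h𝒮 c' (c ≫ n₁)
    (eqToHom (hxt.trans hxt'.symm)) (by
      rw [𝒮.p.map_comp, hcb, hcb', eqToHom_trans_assoc, Category.assoc])
  obtain ⟨m₂, ⟨hb2, hf2⟩, -⟩ := existsUnique_lift h𝒮 c' (c ≫ n₂)
    (eqToHom (hxt.trans hxt'.symm)) (by
      rw [𝒮.p.map_comp, hcb, hcb', eqToHom_trans_assoc, Category.assoc, hp])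
  have hl1 : 𝒮.p.IsHomLift (𝟙 U₀) m₁ :=
    IsHomLift.of_fac' 𝒮.p (𝟙 U₀) m₁ hxt hxt' (by rw [hb1]; simp)
  have hl2 : 𝒮.p.IsHomLift (𝟙 U₀) m₂ :=
    IsHomLift.of_fac' 𝒮.p (𝟙 U₀) m₂ hxt hxt' (by rw [hb2]; simp)
  have key : m₁ = m₂ := by
    refine sep R' h𝒮 hR hxt m₁ m₂ hl1 hl2 ?_
    intro V f hf x₀ χ hχ
    haveI := hχ
    have hχb : 𝒮.p.map χ ≫ eqToHom hxt = eqToHom (IsHomLift.domain_eq 𝒮.p f χ) ≫ f :=
      base_of_lift f χ hχ hxt _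
    have h1 : (χ ≫ c) ≫ n₁ = (χ ≫ c) ≫ n₂ := by
      apply H
      rw [𝒮.p.map_comp, hcb, Category.assoc, Category.assoc, Iso.inv_hom_id, Category.comp_id,
        hχb]
      exact R'.downward_closed hf _
    apply eq_of_comp_eq h𝒮 c'
    · rw [Category.assoc, hf1, Category.assoc, hf2, ← Category.assoc, h1, Category.assoc]
    · rw [𝒮.p.map_comp, 𝒮.p.map_comp, hb1, hb2]
  haveI : IsIso (𝒮.p.map c) := by
    rw [hcb]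
    infer_instance
  haveI : IsIso c := IsFibGrpd.isIso_of_isIso_map h𝒮 c
  rw [← cancel_epi c, ← hf1, ← hf2, key]

/-- Gluing of morphisms between objects lying over `U₀` up to isomorphisms of the base. -/
theorem glue' (hR : (Stk.resSieve R' 𝒮).Full) {x x' : 𝒮.obj} (ex : 𝒮.p.obj x ≅ U₀)
    (ex' : 𝒮.p.obj x' ≅ U₀)
    (P : ∀ ⦃x₀ : 𝒮.obj⦄, (x₀ ⟶ x) → (x₀ ⟶ x') → Prop)
    (hex : ∀ (x₀ : 𝒮.obj) (χ : x₀ ⟶ x), R' (𝒮.p.map χ ≫ ex.hom) →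
      ∃ μ : x₀ ⟶ x', 𝒮.p.map μ ≫ ex'.hom = 𝒮.p.map χ ≫ ex.hom ∧ P χ μ)
    (huniq : ∀ (x₀ : 𝒮.obj) (χ : x₀ ⟶ x) (μ μ' : x₀ ⟶ x'), R' (𝒮.p.map χ ≫ ex.hom) →
      𝒮.p.map μ = 𝒮.p.map μ' → P χ μ → P χ μ' → μ = μ')
    (hcomp : ∀ ⦃x₀ x₁ : 𝒮.obj⦄ (χ : x₀ ⟶ x) (μ : x₀ ⟶ x') (κ : x₁ ⟶ x₀),
      P χ μ → P (κ ≫ χ) (κ ≫ μ)) :
    ∃ n : x ⟶ x', 𝒮.p.map n ≫ ex'.hom = ex.hom ∧
      ∀ (x₀ : 𝒮.obj) (χ : x₀ ⟶ x), R' (𝒮.p.map χ ≫ ex.hom) → P χ (χ ≫ n) := by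
  obtain ⟨xt, c, hc⟩ := h𝒮.exists_lift (x := x) ex.inv
  have hxt : 𝒮.p.obj xt = U₀ := IsHomLift.domain_eq 𝒮.p ex.inv c
  have hcb : 𝒮.p.map c = eqToHom hxt ≫ ex.inv := by
    have := IsHomLift.fac' 𝒮.p ex.inv c
    simpa using this
  obtain ⟨xt', c', hc'⟩ := h𝒮.exists_lift (x := x') ex'.inv
  have hxt' : 𝒮.p.obj xt' = U₀ := IsHomLift.domain_eq 𝒮.p ex'.inv c'
  have hcb' : 𝒮.p.map c' = eqToHom hxt' ≫ ex'.inv := by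
    have := IsHomLift.fac' 𝒮.p ex'.inv c'
    simpa using this
  haveI : IsIso (𝒮.p.map c) := by
    rw [hcb]
    infer_instance
  haveI : IsIso c := IsFibGrpd.isIso_of_isIso_map h𝒮 c
  haveI : IsIso (𝒮.p.map c') := by
    rw [hcb']
    infer_instance
  haveI : IsIso c' := IsFibGrpd.isIso_of_isIso_map h𝒮 c'
  have hinv : 𝒮.p.map (inv c) = ex.hom ≫ eqToHom hxt.symm := by
    rw [CategoryTheory.Functor.map_inv]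
    apply IsIso.inv_eq_of_hom_inv_id
    rw [hcb]
    simp
  have hinv' : 𝒮.p.map (inv c') = ex'.hom ≫ eqToHom hxt'.symm := by
    rw [CategoryTheory.Functor.map_inv]
    apply IsIso.inv_eq_of_hom_inv_id
    rw [hcb']
    simp
  have hbase : ∀ {V : D} (f : V ⟶ U₀) (x₀ : 𝒮.obj) (χ : x₀ ⟶ xt) (hχ : 𝒮.p.IsHomLift f χ),
      𝒮.p.map (χ ≫ c) ≫ ex.hom = eqToHom (IsHomLift.domain_eq 𝒮.p f χ) ≫ f := by
    intro V f x₀ χ hχ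
    have hχb : 𝒮.p.map χ ≫ eqToHom hxt = eqToHom (IsHomLift.domain_eq 𝒮.p f χ) ≫ f :=
      base_of_lift f χ hχ hxt _
    rw [𝒮.p.map_comp, hcb, Category.assoc, Category.assoc, Iso.inv_hom_id, Category.comp_id,
      hχb]
  have hmemR : ∀ {V : D} (f : V ⟶ U₀), R' f → ∀ (x₀ : 𝒮.obj) (χ : x₀ ⟶ xt),
      𝒮.p.IsHomLift f χ → R' (𝒮.p.map (χ ≫ c) ≫ ex.hom) := by
    intro V f hf x₀ χ hχ
    rw [hbase f x₀ χ hχ]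
    exact R'.downward_closed hf _
  obtain ⟨m, hm1, hm2⟩ := glue R' h𝒮 hR hxt hxt'
    (fun x₀ χ μ => P (χ ≫ c) (μ ≫ c')) (by
      intro V f hf x₀ χ hχ
      obtain ⟨μ, hμ1, hμ2⟩ := hex x₀ (χ ≫ c) (hmemR f hf x₀ χ hχ)
      refine ⟨μ ≫ inv c', ?_, ?_⟩
      · apply IsHomLift.of_fac' 𝒮.p f (μ ≫ inv c') (IsHomLift.domain_eq 𝒮.p f χ) hxt'
        rw [𝒮.p.map_comp, hinv', ← Category.assoc, hμ1, hbase f x₀ χ hχ, Category.assoc]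
      · show P (χ ≫ c) ((μ ≫ inv c') ≫ c')
        rw [Category.assoc, IsIso.inv_hom_id, Category.comp_id]
        exact hμ2) (by
      intro V f hf x₀ χ μ μ' hχ hμ hμ' h1 h2
      have hpm : 𝒮.p.map μ = 𝒮.p.map μ' := by
        rw [IsHomLift.fac' 𝒮.p f μ, IsHomLift.fac' 𝒮.p f μ']
      have h3 : μ ≫ c' = μ' ≫ c' :=
        huniq x₀ (χ ≫ c) (μ ≫ c') (μ' ≫ c') (hmemR f hf x₀ χ hχ)
          (by rw [𝒮.p.map_comp, 𝒮.p.map_comp, hpm]) h1 h2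
      exact (cancel_mono c').1 h3) (by
      intro x₀ x₁ χ μ κ h1
      show P ((κ ≫ χ) ≫ c) ((κ ≫ μ) ≫ c')
      rw [Category.assoc, Category.assoc]
      exact hcomp _ _ κ h1)
  have hmb : 𝒮.p.map m = eqToHom (hxt.trans hxt'.symm) := by
    have := IsHomLift.fac' 𝒮.p (𝟙 U₀) m
    rw [this]
    simp
  refine ⟨inv c ≫ m ≫ c', ?_, ?_⟩
  · rw [𝒮.p.map_comp, 𝒮.p.map_comp, hinv, hmb, hcb']
    simp
  · intro x₀ χ hχ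
    have hl : 𝒮.p.IsHomLift (𝒮.p.map χ ≫ ex.hom) (χ ≫ inv c) := by
      apply IsHomLift.of_fac' 𝒮.p _ _ rfl hxt
      rw [𝒮.p.map_comp, hinv]
      simp
    have h4 := hm2 (𝒮.p.map χ ≫ ex.hom) hχ x₀ (χ ≫ inv c) hl
    have h5 : P ((χ ≫ inv c) ≫ c) (((χ ≫ inv c) ≫ m) ≫ c') := h4
    rw [Category.assoc, IsIso.inv_hom_id, Category.comp_id] at h5
    rw [Category.assoc, Category.assoc] at h5
    exact h5

end Iso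

end Groth.Agent.Lib.Helper10.StkGen
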