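import Mathlib
import Groth.Prelude.Def_AlgSt
import Groth.Agent.Lib.Helper10.Fib2
import Groth.Agent.Lib.Helper10.FibGrpd
import Groth.Agent.Lib.Helper10.HomSheaf
import Groth.Agent.Lib.Helper10.StkElem
import Groth.Agent.Lib.Helper10.StkGen

/-!
# The 2-fibre product of a functor of sites and a stack

Let `u : C ⥤ D` preserve fibre products and send covering sieves to families generating covering
sieves, and let `𝒮` be a stack in groupoids over `D`.  Then `C ×_D 𝒮` with its first projection is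
a stack in groupoids over `C` (`isStack_pull`).

* `isFibGrpd_pi1`: the first projection is fibred in groupoids.
* `EE`, `EΦ`: the comparison isomorphisms `u (p a) ≅ p (Φ a).snd` of a functor over `C` to the
  2-fibre product, with their naturality, and the fibre products they produce in `D`.
* `genOf`: a descent datum for `C ×_D 𝒮` on a sieve `R` gives a diagram in `𝒮` over the family
  generating the sieve pushed forward along `u`.
* `hasCone_pull`, `faithful_pull`, `full_pull`: the three gluing conditions.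
-/

set_option autoImplicit false
set_option linter.style.haveILetI false
set_option backward.isDefEq.respectTransparency false
set_option backward.isDefEq.respectTransparency.types false

universe v₄ u₄ v₃ u₃ v₂ u₂ v u

open CategoryTheory Functor CategoryTheory.Limits

namespace Groth.Agent.Lib.Helper10.StkPull

open Groth.Agent.Lib.Helper10.Fib Groth.Agent.Lib.Helper10.StkElem
  Groth.Agent.Lib.Helper10.HomSheaf Groth.Agent.Lib.Helper10.StkGen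

variable {C : Type u} [Category.{v} C] {D : Type u₂} [Category.{v₂} D]

section Def

variable (u : C ⥤ D) (𝒮 : BasedCategory.{v₃, u₃} D)

/-- The 2-fibre product `C ×_D 𝒮` with its first projection. -/
abbrev PB := BasedCategory.ofFunctor (CategoricalPullback.π₁ u 𝒮.p)

theorem isFibGrpd_pi1 (h𝒮 : FibCat.IsFibGrpd 𝒮.p) :
    FibCat.IsFibGrpd (CategoricalPullback.π₁ u 𝒮.p) where
  exists_lift := by
    intro a R f
    change R ⟶ a.fst at f
    obtain ⟨s', φ, hφ⟩ := h𝒮.exists_lift (x := a.snd) (u.map f ≫ a.iso.hom)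
    have hdom : 𝒮.p.obj s' = u.obj R := IsHomLift.domain_eq 𝒮.p (u.map f ≫ a.iso.hom) φ
    have hfac : 𝒮.p.map φ = eqToHom hdom ≫ (u.map f ≫ a.iso.hom) := by
      have h := IsHomLift.fac' 𝒮.p (u.map f ≫ a.iso.hom) φ
      simpa using h
    let b : CategoricalPullback u 𝒮.p := ⟨R, s', eqToIso hdom.symm⟩
    let ψ : b ⟶ a := ⟨f, φ, by
      show u.map f ≫ a.iso.hom = eqToHom hdom.symm ≫ 𝒮.p.map φ
      rw [hfac, eqToHom_trans_assoc, eqToHom_refl, Category.id_comp]⟩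
    refine ⟨b, ψ, ?_⟩
    show (CategoricalPullback.π₁ u 𝒮.p).IsHomLift ((CategoricalPullback.π₁ u 𝒮.p).map ψ) ψ
    infer_instance
  isStronglyCartesian := by
    intro y x φ
    rw [sc_map_iff]
    intro z g m h
    change z.fst ⟶ y.fst at g
    have h' : m.fst = g ≫ φ.fst := h
    have hb : 𝒮.p.map m.snd = (z.iso.inv ≫ u.map g ≫ y.iso.hom) ≫ 𝒮.p.map φ.snd := by
      have hw : u.map m.fst ≫ x.iso.hom = z.iso.hom ≫ 𝒮.p.map m.snd := m.w
      have hw2 : u.map φ.fst ≫ x.iso.hom = y.iso.hom ≫ 𝒮.p.map φ.snd := φ.w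
      rw [h', u.map_comp, Category.assoc, hw2] at hw
      rw [Category.assoc, Category.assoc, hw, Iso.inv_hom_id_assoc]
    obtain ⟨ξ, ⟨hξ1, hξ2⟩, hξu⟩ := existsUnique_lift h𝒮 φ.snd m.snd _ hb
    refine ⟨⟨g, ξ, ?_⟩, ⟨rfl, ?_⟩, ?_⟩
    · show u.map g ≫ y.iso.hom = z.iso.hom ≫ 𝒮.p.map ξ
      rw [hξ1, Iso.hom_inv_id_assoc]
    · exact CategoricalPullback.hom_ext h'.symm hξ2
    · rintro χ' ⟨h1, h2⟩
      have h1' : χ'.fst = g := h1
      apply CategoricalPullback.hom_ext h1'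
      apply hξu
      refine ⟨?_, congrArg CategoricalPullback.Hom.snd h2⟩
      have hw : u.map χ'.fst ≫ y.iso.hom = z.iso.hom ≫ 𝒮.p.map χ'.snd := χ'.w
      rw [h1'] at hw
      rw [hw, Iso.inv_hom_id_assoc]

end Def

section General

variable {u : C ⥤ D} {𝒮 : BasedCategory.{v₃, u₃} D}

/-- The comparison isomorphism of an object of the 2-fibre product lying over `R`. -/
def EE (P : CategoricalPullback u 𝒮.p) {R : C} (h : P.fst = R) : u.obj R ≅ 𝒮.p.obj P.snd :=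
  u.mapIso (eqToIso h.symm) ≪≫ P.iso

lemma EE_nat {P₁ P₂ : CategoricalPullback u 𝒮.p} (m : P₁ ⟶ P₂) {R₁ R₂ : C} (f : R₁ ⟶ R₂)
    (h₁ : P₁.fst = R₁) (h₂ : P₂.fst = R₂) (hm : m.fst = eqToHom h₁ ≫ f ≫ eqToHom h₂.symm) :
    u.map f ≫ (EE P₂ h₂).hom = (EE P₁ h₁).hom ≫ 𝒮.p.map m.snd := by
  subst h₁ h₂
  have hm' : m.fst = f := by simpa using hm
  subst hm'
  simp [EE]

lemma mk_w' {P₁ P₂ : CategoricalPullback u 𝒮.p} {R₁ R₂ : C} (f : R₁ ⟶ R₂)
    (s : P₁.snd ⟶ P₂.snd) (h₁ : P₁.fst = R₁) (h₂ : P₂.fst = R₂) (g : P₁.fst ⟶ P₂.fst)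
    (hg : g = eqToHom h₁ ≫ f ≫ eqToHom h₂.symm)
    (hs : 𝒮.p.map s ≫ (EE P₂ h₂).inv = (EE P₁ h₁).inv ≫ u.map f) :
    u.map g ≫ P₂.iso.hom = P₁.iso.hom ≫ 𝒮.p.map s := by
  subst h₁ h₂
  have hg' : g = f := by simpa using hg
  subst hg'
  have hs' : 𝒮.p.map s ≫ P₂.iso.inv = P₁.iso.inv ≫ u.map g := by simpa [EE] using hs
  rw [← cancel_mono P₂.iso.inv, Category.assoc, Category.assoc, Iso.hom_inv_id, Category.comp_id,
    hs', Iso.hom_inv_id_assoc]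

variable {𝒜 : BasedCategory.{v₄, u₄} C} (Φ : 𝒜 ⥤ᵇ PB u 𝒮)

/-- The comparison isomorphism of a value of a functor over `C` to the 2-fibre product. -/
def EΦ (a : 𝒜.obj) : u.obj (𝒜.p.obj a) ≅ 𝒮.p.obj (Φ.obj a).snd := EE (Φ.obj a) (Φ.w_obj a)

lemma EΦ_nat {a b : 𝒜.obj} (k : a ⟶ b) :
    u.map (𝒜.p.map k) ≫ (EΦ Φ b).hom = (EΦ Φ a).hom ≫ 𝒮.p.map (Φ.map k).snd :=
  EE_nat (Φ.map k) (𝒜.p.map k) (Φ.w_obj a) (Φ.w_obj b)
    (CategoryTheory.Functor.congr_hom Φ.w k)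

lemma EΦ_nat_inv {a b : 𝒜.obj} (k : a ⟶ b) :
    𝒮.p.map (Φ.map k).snd ≫ (EΦ Φ b).inv = (EΦ Φ a).inv ≫ u.map (𝒜.p.map k) := by
  rw [Iso.comp_inv_eq, Category.assoc, EΦ_nat, Iso.inv_hom_id_assoc]

variable [PreservesLimitsOfShape WalkingCospan u]

lemma isPullback_snd {q c₁ c₂ b : 𝒜.obj} (l₁ : q ⟶ c₁) (l₂ : q ⟶ c₂) (k₁ : c₁ ⟶ b)
    (k₂ : c₂ ⟶ b)
    (hsq : IsPullback (𝒜.p.map l₁) (𝒜.p.map l₂) (𝒜.p.map k₁) (𝒜.p.map k₂)) :
    IsPullback (𝒮.p.map (Φ.map l₁).snd) (𝒮.p.map (Φ.map l₂).snd) (𝒮.p.map (Φ.map k₁).snd)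
      (𝒮.p.map (Φ.map k₂).snd) :=
  (hsq.map u).of_iso (EΦ Φ q) (EΦ Φ c₁) (EΦ Φ c₂) (EΦ Φ b) (EΦ_nat Φ l₁) (EΦ_nat Φ l₂)
    (EΦ_nat Φ k₁) (EΦ_nat Φ k₂)

lemma isPullback_snd' {c a b : 𝒜.obj} {U : C} (ka : c ⟶ a) (kb : c ⟶ b)
    (ga : 𝒜.p.obj a ⟶ U) (gb : 𝒜.p.obj b ⟶ U)
    (hsq : IsPullback (𝒜.p.map ka) (𝒜.p.map kb) ga gb) :
    IsPullback (𝒮.p.map (Φ.map ka).snd) (𝒮.p.map (Φ.map kb).snd)
      ((EΦ Φ a).inv ≫ u.map ga) ((EΦ Φ b).inv ≫ u.map gb) :=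
  (hsq.map u).of_iso (EΦ Φ c) (EΦ Φ a) (EΦ Φ b) (Iso.refl _) (EΦ_nat Φ ka) (EΦ_nat Φ kb)
    (by simp) (by simp)

end General

section SieveObjects

variable [HasPullbacks C] {U : C} (R : Sieve U)

/-- The fibre product of two objects of the sieve. -/
noncomputable def prodA (a b : (Stk.sieveCat R).obj) : (Stk.sieveCat R).obj :=
  mkA (pullback.fst (homU U a.obj) (homU U b.obj) ≫ homU U a.obj)
    (R.downward_closed a.property _)

/-- The first projection. -/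
noncomputable def pr₁ (a b : (Stk.sieveCat R).obj) : prodA R a b ⟶ a :=
  ObjectProperty.homMk (Over.homMk (pullback.fst (homU U a.obj) (homU U b.obj)) rfl)

/-- The second projection. -/
noncomputable def pr₂ (a b : (Stk.sieveCat R).obj) : prodA R a b ⟶ b :=
  ObjectProperty.homMk (Over.homMk (pullback.snd (homU U a.obj) (homU U b.obj))
    pullback.condition.symm)

/-- The morphism to the fibre product. -/
noncomputable def prLift {a b c : (Stk.sieveCat R).obj} (ka : c ⟶ a) (kb : c ⟶ b) :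
    c ⟶ prodA R a b :=
  ObjectProperty.homMk (Over.homMk (pullback.lift ka.hom.left kb.hom.left
    ((homU_w U ka.hom).trans (homU_w U kb.hom).symm)) (by
      have h1 : pullback.lift ka.hom.left kb.hom.left
          ((homU_w U ka.hom).trans (homU_w U kb.hom).symm) ≫
            pullback.fst (homU U a.obj) (homU U b.obj) = ka.hom.left := pullback.lift_fst _ _ _
      show pullback.lift ka.hom.left kb.hom.left _ ≫
        (pullback.fst (homU U a.obj) (homU U b.obj) ≫ homU U a.obj) = homU U c.obj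
      rw [← Category.assoc, h1]
      exact homU_w U ka.hom))

lemma prLift_fst {a b c : (Stk.sieveCat R).obj} (ka : c ⟶ a) (kb : c ⟶ b) :
    prLift R ka kb ≫ pr₁ R a b = ka := by
  apply ObjectProperty.hom_ext
  apply Over.OverMorphism.ext
  exact pullback.lift_fst _ _ _

lemma prLift_snd {a b c : (Stk.sieveCat R).obj} (ka : c ⟶ a) (kb : c ⟶ b) :
    prLift R ka kb ≫ pr₂ R a b = kb := by
  apply ObjectProperty.hom_ext
  apply Over.OverMorphism.ext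
  exact pullback.lift_snd _ _ _

/-- The fibre product of two morphisms of the sieve with the same target. -/
noncomputable def pbA {c₁ c₂ b : (Stk.sieveCat R).obj} (k₁ : c₁ ⟶ b) (k₂ : c₂ ⟶ b) :
    (Stk.sieveCat R).obj :=
  mkA (pullback.fst k₁.hom.left k₂.hom.left ≫ homU U c₁.obj) (R.downward_closed c₁.property _)

/-- The first projection. -/
noncomputable def pbl₁ {c₁ c₂ b : (Stk.sieveCat R).obj} (k₁ : c₁ ⟶ b) (k₂ : c₂ ⟶ b) :
    pbA R k₁ k₂ ⟶ c₁ :=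
  ObjectProperty.homMk (Over.homMk (pullback.fst k₁.hom.left k₂.hom.left) rfl)

/-- The second projection. -/
noncomputable def pbl₂ {c₁ c₂ b : (Stk.sieveCat R).obj} (k₁ : c₁ ⟶ b) (k₂ : c₂ ⟶ b) :
    pbA R k₁ k₂ ⟶ c₂ :=
  ObjectProperty.homMk (Over.homMk (pullback.snd k₁.hom.left k₂.hom.left) (by
    show pullback.snd k₁.hom.left k₂.hom.left ≫ homU U c₂.obj =
      pullback.fst k₁.hom.left k₂.hom.left ≫ homU U c₁.obj
    rw [← homU_w U k₁.hom, ← homU_w U k₂.hom, ← Category.assoc, ← Category.assoc,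
      pullback.condition]))

lemma pb_comm {c₁ c₂ b : (Stk.sieveCat R).obj} (k₁ : c₁ ⟶ b) (k₂ : c₂ ⟶ b) :
    pbl₁ R k₁ k₂ ≫ k₁ = pbl₂ R k₁ k₂ ≫ k₂ := by
  apply ObjectProperty.hom_ext
  apply Over.OverMorphism.ext
  exact pullback.condition

end SieveObjects

section Main

variable [HasPullbacks C] {u : C ⥤ D} [PreservesLimitsOfShape WalkingCospan u]
  {𝒮 : BasedCategory.{v₃, u₃} D} {U : C} (R : Sieve U)

/-- The diagram in `𝒮` attached to a descent datum for the 2-fibre product. -/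
noncomputable def genOf (D₀ : Stk.sieveCat R ⥤ᵇ PB u 𝒮) :
    Gen 𝒮 (Sieve.functorPushforward u R) (Stk.sieveCat R).obj where
  Y := D₀.toFunctor ⋙ CategoricalPullback.π₂ u 𝒮.p
  h a := (EΦ D₀ a).inv ≫ u.map (homU U a.obj)
  hnat {a b} k := by
    show 𝒮.p.map (D₀.map k).snd ≫ (EΦ D₀ b).inv ≫ u.map (homU U b.obj) =
      (EΦ D₀ a).inv ≫ u.map (homU U a.obj)
    rw [← Category.assoc, EΦ_nat_inv D₀ k, Category.assoc, ← u.map_comp]
    exact congrArg (fun t => (EΦ D₀ a).inv ≫ u.map t) (homU_w U k.hom)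
  hmem a := ⟨a.obj.left, homU U a.obj, (EΦ D₀ a).inv, a.property, rfl⟩
  hgen := by
    rintro V' g ⟨Z, g₀, θ, hg₀, rfl⟩
    refine ⟨mkA g₀ hg₀, θ ≫ (EΦ D₀ (mkA g₀ hg₀)).hom, ?_⟩
    show (θ ≫ (EΦ D₀ (mkA g₀ hg₀)).hom) ≫ (EΦ D₀ (mkA g₀ hg₀)).inv ≫ u.map g₀ = θ ≫ u.map g₀
    rw [Category.assoc, Iso.hom_inv_id_assoc]
  hprod a b := ⟨prodA R a b, pr₁ R a b, pr₂ R a b,
    isPullback_snd' D₀ (pr₁ R a b) (pr₂ R a b) (homU U a.obj) (homU U b.obj)
      (IsPullback.of_hasPullback _ _),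
    fun _ ka' kb' => ⟨prLift R ka' kb', prLift_fst R ka' kb', prLift_snd R ka' kb'⟩⟩
  hpb {c₁ c₂ b} k₁ k₂ := ⟨pbA R k₁ k₂, pbl₁ R k₁ k₂, pbl₂ R k₁ k₂, pb_comm R k₁ k₂,
    isPullback_snd D₀ (pbl₁ R k₁ k₂) (pbl₂ R k₁ k₂) k₁ k₂
      (IsPullback.of_hasPullback k₁.hom.left k₂.hom.left)⟩

/-- The vertex of the cone. -/
def coneObj (u : C ⥤ D) (U : C) {y : 𝒮.obj} (hy : 𝒮.p.obj y = u.obj U) :
    CategoricalPullback u 𝒮.p := ⟨U, y, eqToIso hy.symm⟩

lemma coneObj_EE (U : C) {y : 𝒮.obj} (hy : 𝒮.p.obj y = u.obj U) :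
    (EE (coneObj u U hy) rfl).inv = eqToHom hy := by
  simp [EE, coneObj]

variable (h𝒮 : FibCat.IsFibGrpd 𝒮.p)

include h𝒮 in
theorem hasCone_pull [(Stk.resSieve (Sieve.functorPushforward u R) 𝒮).EssSurj]
    (D₀ : Stk.sieveCat R ⥤ᵇ PB u 𝒮) : HasCone R D₀ := by
  obtain ⟨y, hy, ψ, hψ, hnat⟩ := (genOf R D₀).exists_cone h𝒮
  have hw : ∀ a : (Stk.sieveCat R).obj,
      u.map (eqToHom (D₀.w_obj a) ≫ homU U a.obj) ≫ (coneObj u U hy).iso.hom =
        (D₀.obj a).iso.hom ≫ 𝒮.p.map (ψ a) := fun a =>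
    mk_w' (P₁ := D₀.obj a) (P₂ := coneObj u U hy) (homU U a.obj) (ψ a) (D₀.w_obj a) rfl _
      (by simp) (by
        rw [coneObj_EE]
        exact hψ a)
  refine ⟨coneObj u U hy, rfl,
    fun a => ⟨eqToHom (D₀.w_obj a) ≫ homU U a.obj, ψ a, hw a⟩, fun a => ?_, fun a b k => ?_⟩
  · apply IsHomLift.of_fac' (PB u 𝒮).p a.obj.hom _ (D₀.w_obj a) rfl
    show eqToHom (D₀.w_obj a) ≫ homU U a.obj = eqToHom _ ≫ a.obj.hom ≫ eqToHom _
    simp [homU]
  · apply CategoricalPullback.hom_ext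
    · have hk : (D₀.map k).fst =
          eqToHom (D₀.w_obj a) ≫ k.hom.left ≫ eqToHom (D₀.w_obj b).symm :=
        CategoryTheory.Functor.congr_hom D₀.w k
      show (D₀.map k).fst ≫ (eqToHom (D₀.w_obj b) ≫ homU U b.obj) =
        eqToHom (D₀.w_obj a) ≫ homU U a.obj
      rw [hk]
      simp only [Category.assoc, eqToHom_trans_assoc, eqToHom_refl, Category.id_comp]
      rw [homU_w U k.hom]
    · exact hnat k

lemma base_tau (G : FibCat.overCat U ⥤ᵇ PB u 𝒮) (A : Over U) :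
    𝒮.p.map (G.map (toTerminal U A)).snd ≫ (EΦ G (Over.mk (𝟙 U))).inv =
      (EΦ G A).inv ≫ u.map (homU U A) :=
  EΦ_nat_inv G (toTerminal U A)

include h𝒮 in
lemma exists_factor_tau (G : FibCat.overCat U ⥤ᵇ PB u 𝒮) {x₀ : 𝒮.obj}
    (χ : x₀ ⟶ (G.obj (Over.mk (𝟙 U))).snd)
    (hχ : Sieve.functorPushforward u R (𝒮.p.map χ ≫ (EΦ G (Over.mk (𝟙 U))).inv)) :
    ∃ (a : (Stk.sieveCat R).obj) (l : x₀ ⟶ (G.obj a.obj).snd),
      l ≫ (G.map (toTerminal U a.obj)).snd = χ := by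
  obtain ⟨Z, g₀, θ, hg₀, hfac⟩ := hχ
  have hcond : 𝒮.p.map χ = (θ ≫ (EΦ G (Over.mk g₀)).hom) ≫
      𝒮.p.map (G.map (toTerminal U (Over.mk g₀))).snd := by
    rw [← cancel_mono (EΦ G (Over.mk (𝟙 U))).inv, Category.assoc, Category.assoc,
      base_tau G (Over.mk g₀), Iso.hom_inv_id_assoc]
    exact hfac
  obtain ⟨l, ⟨-, hl⟩, -⟩ :=
    existsUnique_lift h𝒮 (G.map (toTerminal U (Over.mk g₀))).snd χ _ hcond
  exact ⟨mkA g₀ hg₀, l, hl⟩

include h𝒮 in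
theorem faithful_pull (hR : (Stk.resSieve (Sieve.functorPushforward u R) 𝒮).Faithful) :
    (Stk.resSieve R (PB u 𝒮)).Faithful := by
  apply faithful_of R (isFibGrpd_pi1 u 𝒮 h𝒮)
  intro G G' n₁ n₂ hn₁ hn₂ H
  haveI := hn₁
  haveI := hn₂
  have hfst : n₁.fst = n₂.fst :=
    (IsHomLift.fac' (PB u 𝒮).p (𝟙 U) n₁).trans (IsHomLift.fac' (PB u 𝒮).p (𝟙 U) n₂).symm
  apply CategoricalPullback.hom_ext hfst
  apply sep' (Sieve.functorPushforward u R) h𝒮 hR (EΦ G (Over.mk (𝟙 U))).symm n₁.snd n₂.snd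
  · have w1 : u.map n₁.fst ≫ (G'.obj (Over.mk (𝟙 U))).iso.hom =
        (G.obj (Over.mk (𝟙 U))).iso.hom ≫ 𝒮.p.map n₁.snd := n₁.w
    have w2 : u.map n₂.fst ≫ (G'.obj (Over.mk (𝟙 U))).iso.hom =
        (G.obj (Over.mk (𝟙 U))).iso.hom ≫ 𝒮.p.map n₂.snd := n₂.w
    have : (G.obj (Over.mk (𝟙 U))).iso.hom ≫ 𝒮.p.map n₁.snd =
        (G.obj (Over.mk (𝟙 U))).iso.hom ≫ 𝒮.p.map n₂.snd := by
      rw [← w1, ← w2, hfst]
    exact (cancel_epi _).1 this
  · intro x₀ χ hχ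
    obtain ⟨a, l, rfl⟩ := exists_factor_tau R h𝒮 G χ hχ
    have h' : (G.map (toTerminal U a.obj)).snd ≫ n₁.snd =
        (G.map (toTerminal U a.obj)).snd ≫ n₂.snd :=
      congrArg CategoricalPullback.Hom.snd (H a)
    rw [Category.assoc, Category.assoc, h']

section Full

variable {R} {G G' : FibCat.overCat U ⥤ᵇ PB u 𝒮}
  (δ : (Stk.resSieve R (PB u 𝒮)).obj G ⟶ (Stk.resSieve R (PB u 𝒮)).obj G')

lemma base_rApp (a : (Stk.sieveCat R).obj) :
    𝒮.p.map (rApp δ a).snd ≫ (EΦ G' a.obj).inv = (EΦ G a.obj).inv := by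
  haveI := rApp_lift δ a
  have h := EE_nat (rApp δ a) (𝟙 a.obj.left) (G.w_obj a.obj) (G'.w_obj a.obj)
    (IsHomLift.fac' (PB u 𝒮).p (𝟙 a.obj.left) (rApp δ a))
  rw [u.map_id, Category.id_comp] at h
  show 𝒮.p.map (rApp δ a).snd ≫ (EE (G'.obj a.obj) (G'.w_obj a.obj)).inv =
    (EE (G.obj a.obj) (G.w_obj a.obj)).inv
  rw [Iso.comp_inv_eq, h, Iso.inv_hom_id_assoc]

lemma base_mu (a : (Stk.sieveCat R).obj) {x₀ : 𝒮.obj} (l : x₀ ⟶ (G.obj a.obj).snd) :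
    𝒮.p.map (l ≫ (rApp δ a).snd ≫ (G'.map (toTerminal U a.obj)).snd) ≫
        (EΦ G' (Over.mk (𝟙 U))).inv =
      𝒮.p.map (l ≫ (G.map (toTerminal U a.obj)).snd) ≫ (EΦ G (Over.mk (𝟙 U))).inv := by
  have h1 := base_tau G' a.obj
  have h2 := base_tau G a.obj
  have h3 := base_rApp δ a
  simp only [𝒮.p.map_comp, Category.assoc]
  rw [h1, h2, ← Category.assoc (𝒮.p.map (rApp δ a).snd), h3]

lemma isPullback_prod (Φ : FibCat.overCat U ⥤ᵇ PB u 𝒮) (a a' : (Stk.sieveCat R).obj) :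
    IsPullback (𝒮.p.map (Φ.map (pr₁ R a a').hom).snd) (𝒮.p.map (Φ.map (pr₂ R a a').hom).snd)
      (𝒮.p.map (Φ.map (toTerminal U a.obj)).snd) (𝒮.p.map (Φ.map (toTerminal U a'.obj)).snd) :=
  isPullback_snd Φ (pr₁ R a a').hom (pr₂ R a a').hom (toTerminal U a.obj) (toTerminal U a'.obj)
    (IsPullback.of_hasPullback (homU U a.obj) (homU U a'.obj))

include h𝒮 in
lemma Pd_canon {x₀ : 𝒮.obj} (a a' : (Stk.sieveCat R).obj) (l : x₀ ⟶ (G.obj a.obj).snd)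
    (l' : x₀ ⟶ (G.obj a'.obj).snd)
    (e : l ≫ (G.map (toTerminal U a.obj)).snd = l' ≫ (G.map (toTerminal U a'.obj)).snd) :
    l ≫ (rApp δ a).snd ≫ (G'.map (toTerminal U a.obj)).snd =
      l' ≫ (rApp δ a').snd ≫ (G'.map (toTerminal U a'.obj)).snd := by
  have hpb := isPullback_prod (R := R) G a a'
  have F1 : (G.map (pr₁ R a a').hom).snd ≫ (G.map (toTerminal U a.obj)).snd =
      (G.map (toTerminal U (prodA R a a').obj)).snd :=
    congrArg CategoricalPullback.Hom.snd (map_toTerminal_comp U G (pr₁ R a a').hom)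
  have F2 : (G.map (pr₂ R a a').hom).snd ≫ (G.map (toTerminal U a'.obj)).snd =
      (G.map (toTerminal U (prodA R a a').obj)).snd :=
    congrArg CategoricalPullback.Hom.snd (map_toTerminal_comp U G (pr₂ R a a').hom)
  have F1' : (G'.map (pr₁ R a a').hom).snd ≫ (G'.map (toTerminal U a.obj)).snd =
      (G'.map (toTerminal U (prodA R a a').obj)).snd :=
    congrArg CategoricalPullback.Hom.snd (map_toTerminal_comp U G' (pr₁ R a a').hom)
  have F2' : (G'.map (pr₂ R a a').hom).snd ≫ (G'.map (toTerminal U a'.obj)).snd =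
      (G'.map (toTerminal U (prodA R a a').obj)).snd :=
    congrArg CategoricalPullback.Hom.snd (map_toTerminal_comp U G' (pr₂ R a a').hom)
  have N1 : (G.map (pr₁ R a a').hom).snd ≫ (rApp δ a).snd =
      (rApp δ (prodA R a a')).snd ≫ (G'.map (pr₁ R a a').hom).snd :=
    congrArg CategoricalPullback.Hom.snd (rApp_nat δ (pr₁ R a a'))
  have N2 : (G.map (pr₂ R a a').hom).snd ≫ (rApp δ a').snd =
      (rApp δ (prodA R a a')).snd ≫ (G'.map (pr₂ R a a').hom).snd :=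
    congrArg CategoricalPullback.Hom.snd (rApp_nat δ (pr₂ R a a'))
  have hcond : 𝒮.p.map l ≫ 𝒮.p.map (G.map (toTerminal U a.obj)).snd =
      𝒮.p.map l' ≫ 𝒮.p.map (G.map (toTerminal U a'.obj)).snd := by
    rw [← 𝒮.p.map_comp, ← 𝒮.p.map_comp, e]
  obtain ⟨lam, ⟨hlam1, hlam2⟩, -⟩ := existsUnique_lift h𝒮 (G.map (pr₁ R a a').hom).snd l
    (hpb.lift _ _ hcond) (hpb.lift_fst _ _ hcond).symm
  have hlam3 : lam ≫ (G.map (pr₂ R a a').hom).snd = l' := by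
    apply eq_of_comp_eq h𝒮 (G.map (toTerminal U a'.obj)).snd
    · rw [Category.assoc, F2, ← F1, ← Category.assoc, hlam2, e]
    · rw [𝒮.p.map_comp, hlam1, hpb.lift_snd]
  calc l ≫ (rApp δ a).snd ≫ (G'.map (toTerminal U a.obj)).snd
      = lam ≫ ((G.map (pr₁ R a a').hom).snd ≫ (rApp δ a).snd) ≫
          (G'.map (toTerminal U a.obj)).snd := by
        rw [← hlam2]
        simp only [Category.assoc]
    _ = lam ≫ (rApp δ (prodA R a a')).snd ≫
          (G'.map (toTerminal U (prodA R a a').obj)).snd := by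
        rw [N1, Category.assoc, F1']
    _ = lam ≫ ((G.map (pr₂ R a a').hom).snd ≫ (rApp δ a').snd) ≫
          (G'.map (toTerminal U a'.obj)).snd := by
        rw [N2, Category.assoc, F2']
    _ = l' ≫ (rApp δ a').snd ≫ (G'.map (toTerminal U a'.obj)).snd := by
        rw [← hlam3]
        simp only [Category.assoc]

end Full

include h𝒮 in
theorem full_pull (hR : (Stk.resSieve (Sieve.functorPushforward u R) 𝒮).Full) :
    (Stk.resSieve R (PB u 𝒮)).Full := by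
  apply full_of R (isFibGrpd_pi1 u 𝒮 h𝒮)
  intro G G' δ
  obtain ⟨n₂, hn1, hn2⟩ := glue' (Sieve.functorPushforward u R) h𝒮 hR
    (EΦ G (Over.mk (𝟙 U))).symm (EΦ G' (Over.mk (𝟙 U))).symm
    (fun x₀ χ μ => ∃ (a : (Stk.sieveCat R).obj) (l : x₀ ⟶ (G.obj a.obj).snd),
      l ≫ (G.map (toTerminal U a.obj)).snd = χ ∧
        l ≫ (rApp δ a).snd ≫ (G'.map (toTerminal U a.obj)).snd = μ)
    (by
      intro x₀ χ hχ
      obtain ⟨a, l, hl⟩ := exists_factor_tau R h𝒮 G χ hχ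
      refine ⟨l ≫ (rApp δ a).snd ≫ (G'.map (toTerminal U a.obj)).snd, ?_, a, l, hl, rfl⟩
      have hb := base_mu δ a l
      rw [hl] at hb
      exact hb)
    (by
      rintro x₀ χ μ μ' - - ⟨a, l, h1, rfl⟩ ⟨a', l', h1', rfl⟩
      exact Pd_canon h𝒮 δ a a' l l' (h1.trans h1'.symm))
    (by
      rintro x₀ x₁ χ μ κ ⟨a, l, rfl, rfl⟩
      exact ⟨a, κ ≫ l, Category.assoc _ _ _, Category.assoc _ _ _⟩)
  have hw : u.map (eqToHom (G.w_obj (Over.mk (𝟙 U))) ≫ 𝟙 U ≫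
      eqToHom (G'.w_obj (Over.mk (𝟙 U))).symm) ≫ (G'.obj (Over.mk (𝟙 U))).iso.hom =
        (G.obj (Over.mk (𝟙 U))).iso.hom ≫ 𝒮.p.map n₂ :=
    mk_w' (P₁ := G.obj (Over.mk (𝟙 U))) (P₂ := G'.obj (Over.mk (𝟙 U))) (𝟙 U) n₂
      (G.w_obj (Over.mk (𝟙 U))) (G'.w_obj (Over.mk (𝟙 U))) _ rfl (by
        rw [u.map_id, Category.comp_id]
        exact hn1)
  have hnl : (PB u 𝒮).p.IsHomLift (𝟙 U)
      (⟨_, n₂, hw⟩ : G.obj (Over.mk (𝟙 U)) ⟶ G'.obj (Over.mk (𝟙 U))) :=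
    IsHomLift.of_fac' (PB u 𝒮).p (𝟙 U) _ (G.w_obj (Over.mk (𝟙 U))) (G'.w_obj (Over.mk (𝟙 U)))
      rfl
  refine ⟨⟨_, n₂, hw⟩, hnl, fun a => ?_⟩
  haveI := hnl
  haveI := lift_toTerminal G a.obj
  haveI := lift_toTerminal G' a.obj
  haveI := rApp_lift δ a
  have l1 : (PB u 𝒮).p.IsHomLift a.obj.hom (G.map (toTerminal U a.obj) ≫
      (⟨_, n₂, hw⟩ : G.obj (Over.mk (𝟙 U)) ⟶ G'.obj (Over.mk (𝟙 U)))) :=
    IsHomLift.comp_lift_id_right (PB u 𝒮).p a.obj.hom (G.map (toTerminal U a.obj)) _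
  have l2 : (PB u 𝒮).p.IsHomLift a.obj.hom (rApp δ a ≫ G'.map (toTerminal U a.obj)) :=
    IsHomLift.comp_lift_id_left (PB u 𝒮).p a.obj.hom (G'.map (toTerminal U a.obj)) (rApp δ a)
  apply CategoricalPullback.hom_ext
  · exact (IsHomLift.fac' (PB u 𝒮).p a.obj.hom (G.map (toTerminal U a.obj) ≫
      (⟨_, n₂, hw⟩ : G.obj (Over.mk (𝟙 U)) ⟶ G'.obj (Over.mk (𝟙 U))))).trans
      (IsHomLift.fac' (PB u 𝒮).p a.obj.hom (rApp δ a ≫ G'.map (toTerminal U a.obj))).symm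
  · obtain ⟨a', l', h1, h2⟩ := hn2 _ (G.map (toTerminal U a.obj)).snd
      ⟨_, homU U a.obj, (EΦ G a.obj).inv, a.property, base_tau G a.obj⟩
    have h3 := Pd_canon h𝒮 δ a' a l' (𝟙 _) (by rw [h1, Category.id_comp])
    rw [Category.id_comp] at h3
    exact h2.symm.trans h3

end Main

/-- The 2-fibre product of a functor of sites preserving fibre products and covering families
and a stack in groupoids is a stack in groupoids. -/
theorem isStack_pull [HasPullbacks C] (J : GrothendieckTopology C) (K : GrothendieckTopology D)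
    (u : C ⥤ D) [PreservesLimitsOfShape WalkingCospan u] (hu : CoverPreserving J K u)
    (𝒮 : BasedCategory.{v₃, u₃} D) (h𝒮 : Stk.IsStack K 𝒮) : Stk.IsStack J (PB u 𝒮) := by
  obtain ⟨hfib, hst⟩ := h𝒮
  refine ⟨isFibGrpd_pi1 u 𝒮 hfib, fun U R hR => ?_⟩
  have hR' : Sieve.functorPushforward u R ∈ K (u.obj U) := hu.cover_preserve hR
  have hE : (Stk.resSieve (Sieve.functorPushforward u R) 𝒮).IsEquivalence := hst _ hR'
  haveI : (Stk.resSieve (Sieve.functorPushforward u R) 𝒮).EssSurj := hE.essSurj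
  have hFa : (Stk.resSieve R (PB u 𝒮)).Faithful := faithful_pull R hfib hE.faithful
  have hFu : (Stk.resSieve R (PB u 𝒮)).Full := full_pull R hfib hE.full
  have hEs : (Stk.resSieve R (PB u 𝒮)).EssSurj :=
    ⟨fun D₀ => exists_iso_of_hasCone R (isFibGrpd_pi1 u 𝒮 hfib) D₀ (hasCone_pull R hfib D₀)⟩
  show (Stk.resSieve R (PB u 𝒮)).IsEquivalence
  exact ⟨hFa, hFu, hEs⟩

end Groth.Agent.Lib.Helper10.StkPull
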