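import Mathlib

set_option backward.isDefEq.respectTransparency false
set_option backward.isDefEq.respectTransparency.types false
set_option autoImplicit false

universe v u v' u'

open CategoryTheory CategoryTheory.Limits CategoryTheory.Pretriangulated CategoryTheory.Triangulated
open ZeroObject

noncomputable section

namespace H10TH

variable {C : Type u} [Category.{v} C] [Preadditive C] [HasZeroObject C] [HasShift C ℤ]
  [∀ n : ℤ, (shiftFunctor C n).Additive] [Pretriangulated C] [IsTriangulated C]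
  (t : TStructure C)

section Slice

variable {A : Type u'} [Category.{v'} A] (ι : A ⥤ C) (a : ℤ)

/-- `ι` identifies `A` with the objects concentrated in degree `a` -/
structure IsSlice : Prop where
  le : ∀ X : A, t.IsLE (ι.obj X) a
  ge : ∀ X : A, t.IsGE (ι.obj X) a
  ess : ∀ Y : C, t.IsLE Y a → t.IsGE Y a → ∃ X : A, Nonempty (ι.obj X ≅ Y)

variable {t ι a} (hs : IsSlice t ι a)

include hs in
lemma hι ⦃X Y : A⦄ ⦃n : ℤ⦄ (f : ι.obj X ⟶ (ι.obj Y)⟦n⟧) (hn : n < 0) : f = 0 := by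
  haveI := hs.le X
  haveI := hs.ge Y
  haveI : t.IsGE ((ι.obj Y)⟦n⟧) (a - n) := t.isGE_shift (ι.obj Y) a n (a - n) (by omega)
  exact t.zero f a (a - n) (by omega)

include hs in
lemma admissible {X₁ X₂ : A} (f₁ : X₁ ⟶ X₂) :
    AbelianSubcategory.admissibleMorphism ι f₁ := by
  intro X₃ f₂ f₃ hT
  haveI := hs.le X₁
  haveI := hs.ge X₁
  haveI := hs.le X₂
  haveI := hs.ge X₂
  have hT' := rot_of_distTriang _ hT
  haveI h1le' : t.IsLE ((ι.obj X₁)⟦(1 : ℤ)⟧) (a - 1) :=
    t.isLE_shift (ι.obj X₁) a 1 (a - 1) (by omega)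
  haveI h1le : t.IsLE ((ι.obj X₁)⟦(1 : ℤ)⟧) a := t.isLE_of_le _ (a - 1) a (by omega)
  haveI h1ge : t.IsGE ((ι.obj X₁)⟦(1 : ℤ)⟧) (a - 1) :=
    t.isGE_shift (ι.obj X₁) a 1 (a - 1) (by omega)
  haveI h2ge : t.IsGE (ι.obj X₂) (a - 1) := t.isGE_of_ge _ (a - 1) a (by omega)
  haveI hX₃le : t.IsLE X₃ a := t.isLE₂ _ hT' a (hs.le X₂) h1le
  haveI hX₃ge : t.IsGE X₃ (a - 1) := t.isGE₂ _ hT' (a - 1) h2ge h1ge
  have hd := t.triangleLEGE_distinguished (a - 1) a (by omega) X₃
  haveI hK'le : t.IsLE ((t.truncLE (a - 1)).obj X₃) (a - 1) := inferInstance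
  haveI hK'ge : t.IsGE ((t.truncLE (a - 1)).obj X₃) (a - 1) := inferInstance
  haveI hQ'ge : t.IsGE ((t.truncGE a).obj X₃) a := inferInstance
  haveI hQ'le : t.IsLE ((t.truncGE a).obj X₃) a := inferInstance
  haveI hK''le : t.IsLE (((t.truncLE (a - 1)).obj X₃)⟦(-1 : ℤ)⟧) a :=
    t.isLE_shift _ (a - 1) (-1) a (by omega)
  haveI hK''ge : t.IsGE (((t.truncLE (a - 1)).obj X₃)⟦(-1 : ℤ)⟧) a :=
    t.isGE_shift _ (a - 1) (-1) a (by omega)
  obtain ⟨K, ⟨eK⟩⟩ := hs.ess (((t.truncLE (a - 1)).obj X₃)⟦(-1 : ℤ)⟧) hK''le hK''ge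
  obtain ⟨Q, ⟨eQ⟩⟩ := hs.ess ((t.truncGE a).obj X₃) hQ'le hQ'ge
  let eK' : (ι.obj K)⟦(1 : ℤ)⟧ ≅ (t.truncLE (a - 1)).obj X₃ :=
    (shiftFunctor C (1 : ℤ)).mapIso eK ≪≫ (shiftEquiv C (1 : ℤ)).counitIso.app _
  refine ⟨K, Q, eK'.hom ≫ (t.truncLEι (a - 1)).app X₃, (t.truncGEπ a).app X₃ ≫ eQ.inv,
    eQ.hom ≫ (t.truncGEδLE (a - 1) a (by omega)).app X₃ ≫
      (shiftFunctor C (1 : ℤ)).map eK'.inv, ?_⟩
  refine isomorphic_distinguished _ hd _ (Triangle.isoMk _ _ eK' (Iso.refl _) eQ ?_ ?_ ?_)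
  · simp [TStructure.triangleLEGE]
    rfl
  · simp [TStructure.triangleLEGE]
    rfl
  · simp [TStructure.triangleLEGE, ← Functor.map_comp]
    rfl

include hs in
lemma admissible_eq_top : AbelianSubcategory.admissibleMorphism ι = ⊤ := by
  ext X Y f
  simp only [MorphismProperty.top_apply, iff_true]
  exact admissible hs f

variable [Preadditive A] [ι.Full] [ι.Faithful] [ι.Additive]

include hs in
lemma hasZeroObject : HasZeroObject A := by
  obtain ⟨Z, ⟨e⟩⟩ := hs.ess (0 : C) inferInstance inferInstance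
  refine ⟨⟨Z, ?_⟩⟩
  rw [IsZero.iff_id_eq_zero]
  apply ι.map_injective
  have hz : IsZero (ι.obj Z) := IsZero.of_iso (isZero_zero C) e
  exact hz.eq_of_src _ _

include hs in
lemma hasBinaryBiproducts : HasBinaryBiproducts A := by
  refine ⟨fun X Y => ?_⟩
  have hd := binaryBiproductTriangle_distinguished (ι.obj X) (ι.obj Y)
  have hle : t.IsLE (ι.obj X ⊞ ι.obj Y) a := t.isLE₂ _ hd a (hs.le X) (hs.le Y)
  have hge : t.IsGE (ι.obj X ⊞ ι.obj Y) a := t.isGE₂ _ hd a (hs.ge X) (hs.ge Y)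
  obtain ⟨Z, ⟨e⟩⟩ := hs.ess (ι.obj X ⊞ ι.obj Y) hle hge
  let b : BinaryBicone X Y :=
    { pt := Z
      fst := ι.preimage (e.hom ≫ biprod.fst)
      snd := ι.preimage (e.hom ≫ biprod.snd)
      inl := ι.preimage (biprod.inl ≫ e.inv)
      inr := ι.preimage (biprod.inr ≫ e.inv)
      inl_fst := ι.map_injective (by simp)
      inl_snd := ι.map_injective (by simp)
      inr_fst := ι.map_injective (by simp)
      inr_snd := ι.map_injective (by simp) }
  exact HasBinaryBiproduct.mk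
    { bicone := b
      isBilimit := isBinaryBilimitOfTotal b (ι.map_injective (by
        have h : e.hom ≫ (biprod.fst ≫ biprod.inl + biprod.snd ≫ biprod.inr) ≫ e.inv = 𝟙 _ := by
          rw [biprod.total, Category.id_comp, e.hom_inv_id]
        simp only [Preadditive.comp_add, Preadditive.add_comp, Category.assoc] at h
        simpa [b] using h)) }

include hs in
lemma hasFiniteProducts : HasFiniteProducts A := by
  haveI := hasZeroObject hs
  haveI := hasBinaryBiproducts hs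
  exact hasFiniteProducts_of_has_binary_and_terminal

/-- the abelian structure -/
def abelianOfSlice (hs : IsSlice t ι a) : Abelian A :=
  haveI := hasFiniteProducts hs
  AbelianSubcategory.abelian ι (hι hs) (admissible_eq_top hs)

end Slice

lemma isSlice_ιHeart {H : Type u'} [Category.{v'} H] [Preadditive H] [t.Heart H] :
    IsSlice t (t.ιHeart (H := H)) 0 where
  le X := inferInstance
  ge X := inferInstance
  ess Y h1 h2 := by
    have h : (t.ιHeart (H := H)).essImage Y := by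
      rw [t.essImage_ιHeart H]
      exact (t.mem_heart_iff Y).2 ⟨h1, h2⟩
    exact h

end H10TH
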