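import Mathlib
import Groth.Agent.Lib.Helper10.HomologyElem

/-!
# Low degree analysis of the tensor product of two chain complexes of modules
-/

set_option autoImplicit false
universe v

open CategoryTheory CategoryTheory.Limits MonoidalCategory HomologicalComplex

namespace H10TL

variable {R : Type v} [CommRing R] (K₁ K₂ : ChainComplex (ModuleCat.{v} R) ℕ)

/-- The tensor complex. -/
noncomputable abbrev TT : ChainComplex (ModuleCat.{v} R) ℕ := HomologicalComplex.tensorObj K₁ K₂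

/-- The inclusion of a summand. -/
noncomputable abbrev io (p q n : ℕ) (h : p + q = n) : K₁.X p ⊗ K₂.X q ⟶ (TT K₁ K₂).X n :=
  HomologicalComplex.ιTensorObj K₁ K₂ p q n h

theorem io_d (p q n n' : ℕ) (h : p + q = n) :
    io K₁ K₂ p q n h ≫ (TT K₁ K₂).d n n' =
      mapBifunctor.d₁ K₁ K₂ (curriedTensor (ModuleCat.{v} R)) (ComplexShape.down ℕ) p q n' +
        mapBifunctor.d₂ K₁ K₂ (curriedTensor (ModuleCat.{v} R)) (ComplexShape.down ℕ) p q n' := by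
  rw [mapBifunctor.d_eq, Preadditive.comp_add, mapBifunctor.ι_D₁, mapBifunctor.ι_D₂]

theorem d₁_zero (q n' : ℕ) :
    mapBifunctor.d₁ K₁ K₂ (curriedTensor (ModuleCat.{v} R)) (ComplexShape.down ℕ) 0 q n' = 0 := by
  apply mapBifunctor.d₁_eq_zero
  rw [ChainComplex.next_nat_zero]
  intro h
  exact absurd h (by simp)

theorem d₂_zero (p n' : ℕ) :
    mapBifunctor.d₂ K₁ K₂ (curriedTensor (ModuleCat.{v} R)) (ComplexShape.down ℕ) p 0 n' = 0 := by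
  apply mapBifunctor.d₂_eq_zero
  rw [ChainComplex.next_nat_zero]
  intro h
  exact absurd h (by simp)

theorem d₁_succ (p' q n' : ℕ) (h' : p' + q = n') :
    mapBifunctor.d₁ K₁ K₂ (curriedTensor (ModuleCat.{v} R)) (ComplexShape.down ℕ) (p' + 1) q n' =
      (K₁.d (p' + 1) p' ▷ K₂.X q) ≫ io K₁ K₂ p' q n' h' := by
  rw [mapBifunctor.d₁_eq K₁ K₂ (curriedTensor (ModuleCat.{v} R)) (ComplexShape.down ℕ)
    (show (ComplexShape.down ℕ).Rel (p' + 1) p' from rfl) q n' h']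
  simp

theorem d₂_succ (p q' n' : ℕ) (h' : p + q' = n') :
    mapBifunctor.d₂ K₁ K₂ (curriedTensor (ModuleCat.{v} R)) (ComplexShape.down ℕ) p (q' + 1) n' =
      ((ComplexShape.down ℕ).ε p) • ((K₁.X p ◁ K₂.d (q' + 1) q') ≫ io K₁ K₂ p q' n' h') := by
  rw [mapBifunctor.d₂_eq K₁ K₂ (curriedTensor (ModuleCat.{v} R)) (ComplexShape.down ℕ) p
    (show (ComplexShape.down ℕ).Rel (q' + 1) q' from rfl) n' h']
  rfl

theorem io01_d : io K₁ K₂ 0 1 1 rfl ≫ (TT K₁ K₂).d 1 0 =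
    (K₁.X 0 ◁ K₂.d 1 0) ≫ io K₁ K₂ 0 0 0 rfl := by
  rw [io_d, d₁_zero, zero_add]
  have h := d₂_succ K₁ K₂ 0 0 0 rfl
  rw [ComplexShape.ε_zero, one_smul] at h
  exact h

theorem io10_d : io K₁ K₂ 1 0 1 rfl ≫ (TT K₁ K₂).d 1 0 =
    (K₁.d 1 0 ▷ K₂.X 0) ≫ io K₁ K₂ 0 0 0 rfl := by
  rw [io_d, d₂_zero, add_zero]
  exact d₁_succ K₁ K₂ 0 0 0 rfl

theorem io02_d : io K₁ K₂ 0 2 2 rfl ≫ (TT K₁ K₂).d 2 1 =
    (K₁.X 0 ◁ K₂.d 2 1) ≫ io K₁ K₂ 0 1 1 rfl := by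
  rw [io_d, d₁_zero, zero_add]
  have h := d₂_succ K₁ K₂ 0 1 1 rfl
  rw [ComplexShape.ε_zero, one_smul] at h
  exact h

theorem io20_d : io K₁ K₂ 2 0 2 rfl ≫ (TT K₁ K₂).d 2 1 =
    (K₁.d 2 1 ▷ K₂.X 0) ≫ io K₁ K₂ 1 0 1 rfl := by
  rw [io_d, d₂_zero, add_zero]
  exact d₁_succ K₁ K₂ 1 0 1 rfl

theorem io11_d : io K₁ K₂ 1 1 2 rfl ≫ (TT K₁ K₂).d 2 1 =
    (K₁.d 1 0 ▷ K₂.X 1) ≫ io K₁ K₂ 0 1 1 rfl - (K₁.X 1 ◁ K₂.d 1 0) ≫ io K₁ K₂ 1 0 1 rfl := by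
  rw [io_d]
  have h1 := d₁_succ K₁ K₂ 0 1 1 rfl
  have h2 := d₂_succ K₁ K₂ 1 0 1 rfl
  have he : (ComplexShape.down ℕ).ε 1 = -1 := by
    rw [ComplexShape.ε_down_ℕ, pow_one]
  rw [he, Units.neg_smul, one_smul] at h2
  rw [sub_eq_add_neg]
  exact congrArg₂ (· + ·) h1 h2

theorem mem_iSup_range (n : ℕ) (z : (TT K₁ K₂).X n) :
    z ∈ ⨆ pq : {pq : ℕ × ℕ // pq.1 + pq.2 = n},
      LinearMap.range (io K₁ K₂ pq.1.1 pq.1.2 n pq.2).hom := by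
  set S := ⨆ pq : {pq : ℕ × ℕ // pq.1 + pq.2 = n},
      LinearMap.range (io K₁ K₂ pq.1.1 pq.1.2 n pq.2).hom with hS
  have h0 : ModuleCat.ofHom S.mkQ = 0 := by
    apply mapBifunctor.hom_ext
    intro p q h
    rw [comp_zero]
    apply ModuleCat.hom_ext
    apply LinearMap.ext
    intro x
    show S.mkQ ((io K₁ K₂ p q n h).hom x) = 0
    rw [Submodule.mkQ_apply, Submodule.Quotient.mk_eq_zero]
    exact Submodule.mem_iSup_of_mem ⟨(p, q), h⟩ (LinearMap.mem_range_self _ x)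
  have h1 : S.mkQ z = 0 := congrArg (fun g => g.hom z) h0
  rwa [Submodule.mkQ_apply, Submodule.Quotient.mk_eq_zero] at h1

theorem dec1 (z : (TT K₁ K₂).X 1) : ∃ (w : ((K₁.X 0 ⊗ K₂.X 1 : ModuleCat.{v} R) : Type v)) (v : ((K₁.X 1 ⊗ K₂.X 0 : ModuleCat.{v} R) : Type v)),
    z = (io K₁ K₂ 0 1 1 rfl).hom w + (io K₁ K₂ 1 0 1 rfl).hom v := by
  have hz := mem_iSup_range K₁ K₂ 1 z
  refine Submodule.iSup_induction _ (motive := fun z => ∃ (w : ((K₁.X 0 ⊗ K₂.X 1 : ModuleCat.{v} R) : Type v))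
    (v : ((K₁.X 1 ⊗ K₂.X 0 : ModuleCat.{v} R) : Type v)),
    z = (io K₁ K₂ 0 1 1 rfl).hom w + (io K₁ K₂ 1 0 1 rfl).hom v) hz ?_ ?_ ?_
  · rintro ⟨⟨p, q⟩, h⟩ x ⟨y, rfl⟩
    obtain ⟨rfl, rfl⟩ | ⟨rfl, rfl⟩ : (p = 0 ∧ q = 1) ∨ (p = 1 ∧ q = 0) := by
      simp only at h
      omega
    · exact ⟨y, 0, by rw [map_zero, add_zero]⟩
    · exact ⟨0, y, by rw [map_zero, zero_add]⟩
  · exact ⟨0, 0, by rw [map_zero, map_zero, add_zero]⟩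
  · rintro x y ⟨w, v, rfl⟩ ⟨w', v', rfl⟩
    exact ⟨w + w', v + v', by rw [map_add, map_add]; abel⟩

theorem dec2 (z : (TT K₁ K₂).X 2) : ∃ (a : ((K₁.X 0 ⊗ K₂.X 2 : ModuleCat.{v} R) : Type v)) (b : ((K₁.X 1 ⊗ K₂.X 1 : ModuleCat.{v} R) : Type v))
    (c : ((K₁.X 2 ⊗ K₂.X 0 : ModuleCat.{v} R) : Type v)),
    z = (io K₁ K₂ 0 2 2 rfl).hom a + (io K₁ K₂ 1 1 2 rfl).hom b + (io K₁ K₂ 2 0 2 rfl).hom c := by
  have hz := mem_iSup_range K₁ K₂ 2 z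
  refine Submodule.iSup_induction _ (motive := fun z => ∃ (a : ((K₁.X 0 ⊗ K₂.X 2 : ModuleCat.{v} R) : Type v))
    (b : ((K₁.X 1 ⊗ K₂.X 1 : ModuleCat.{v} R) : Type v)) (c : ((K₁.X 2 ⊗ K₂.X 0 : ModuleCat.{v} R) : Type v)),
    z = (io K₁ K₂ 0 2 2 rfl).hom a + (io K₁ K₂ 1 1 2 rfl).hom b +
      (io K₁ K₂ 2 0 2 rfl).hom c) hz ?_ ?_ ?_
  · rintro ⟨⟨p, q⟩, h⟩ x ⟨y, rfl⟩
    obtain ⟨rfl, rfl⟩ | ⟨rfl, rfl⟩ | ⟨rfl, rfl⟩ :
        (p = 0 ∧ q = 2) ∨ (p = 1 ∧ q = 1) ∨ (p = 2 ∧ q = 0) := by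
      simp only at h
      omega
    · exact ⟨y, 0, 0, by rw [map_zero, map_zero, add_zero, add_zero]⟩
    · exact ⟨0, y, 0, by rw [map_zero, map_zero, add_zero, zero_add]⟩
    · exact ⟨0, 0, y, by rw [map_zero, map_zero, add_zero, zero_add]⟩
  · exact ⟨0, 0, 0, by rw [map_zero, map_zero, map_zero, add_zero, add_zero]⟩
  · rintro x y ⟨a, b, c, rfl⟩ ⟨a', b', c', rfl⟩
    exact ⟨a + a', b + b', c + c', by rw [map_add, map_add, map_add]; abel⟩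

theorem io_injective (p q n : ℕ) (h : p + q = n) :
    Function.Injective (io K₁ K₂ p q n h).hom := by
  let r : (TT K₁ K₂).X n ⟶ K₁.X p ⊗ K₂.X q :=
    mapBifunctorDesc (fun i₁ i₂ _ =>
      if hpq : i₁ = p ∧ i₂ = q then eqToHom (by rw [hpq.1, hpq.2]; rfl) else 0)
  have hr : io K₁ K₂ p q n h ≫ r = 𝟙 _ := by
    rw [ι_mapBifunctorDesc, dif_pos ⟨rfl, rfl⟩]
    rfl
  intro x y hxy
  have hx : r.hom ((io K₁ K₂ p q n h).hom x) = x := congrArg (fun g => g.hom x) hr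
  have hy : r.hom ((io K₁ K₂ p q n h).hom y) = y := congrArg (fun g => g.hom y) hr
  rw [← hx, ← hy, hxy]

end H10TL
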