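import Mathlib
import Groth.Agent.Lib.Helper10.TensorLow

/-!
# First homology of `C ⊗ P` versus `C ⊗ G[0]` for a resolution `P → G[0]`
-/

set_option autoImplicit false
universe v

open CategoryTheory CategoryTheory.Limits MonoidalCategory HomologicalComplex

namespace H10TL

section elem

variable {R : Type v} [CommRing R] (K₁ K₂ : ChainComplex (ModuleCat.{v} R) ℕ)

theorem io01_d_apply (w : ((K₁.X 0 ⊗ K₂.X 1 : ModuleCat.{v} R) : Type v)) :
    ((TT K₁ K₂).d 1 0).hom ((io K₁ K₂ 0 1 1 rfl).hom w) =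
      (io K₁ K₂ 0 0 0 rfl).hom ((K₁.X 0 ◁ K₂.d 1 0).hom w) :=
  congrArg (fun g => g.hom w) (io01_d K₁ K₂)

theorem io10_d_apply (w : ((K₁.X 1 ⊗ K₂.X 0 : ModuleCat.{v} R) : Type v)) :
    ((TT K₁ K₂).d 1 0).hom ((io K₁ K₂ 1 0 1 rfl).hom w) =
      (io K₁ K₂ 0 0 0 rfl).hom ((K₁.d 1 0 ▷ K₂.X 0).hom w) :=
  congrArg (fun g => g.hom w) (io10_d K₁ K₂)

theorem io02_d_apply (w : ((K₁.X 0 ⊗ K₂.X 2 : ModuleCat.{v} R) : Type v)) :
    ((TT K₁ K₂).d 2 1).hom ((io K₁ K₂ 0 2 2 rfl).hom w) =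
      (io K₁ K₂ 0 1 1 rfl).hom ((K₁.X 0 ◁ K₂.d 2 1).hom w) :=
  congrArg (fun g => g.hom w) (io02_d K₁ K₂)

theorem io20_d_apply (w : ((K₁.X 2 ⊗ K₂.X 0 : ModuleCat.{v} R) : Type v)) :
    ((TT K₁ K₂).d 2 1).hom ((io K₁ K₂ 2 0 2 rfl).hom w) =
      (io K₁ K₂ 1 0 1 rfl).hom ((K₁.d 2 1 ▷ K₂.X 0).hom w) :=
  congrArg (fun g => g.hom w) (io20_d K₁ K₂)

theorem io11_d_apply (w : ((K₁.X 1 ⊗ K₂.X 1 : ModuleCat.{v} R) : Type v)) :
    ((TT K₁ K₂).d 2 1).hom ((io K₁ K₂ 1 1 2 rfl).hom w) =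
      (io K₁ K₂ 0 1 1 rfl).hom ((K₁.d 1 0 ▷ K₂.X 1).hom w) -
        (io K₁ K₂ 1 0 1 rfl).hom ((K₁.X 1 ◁ K₂.d 1 0).hom w) :=
  congrArg (fun g => g.hom w) (io11_d K₁ K₂)

theorem whiskerLeft_io {K₂ L₂ : ChainComplex (ModuleCat.{v} R) ℕ} (f : K₂ ⟶ L₂)
    (p q n : ℕ) (h : p + q = n) :
    io K₁ K₂ p q n h ≫ (K₁ ◁ f).f n = (K₁.X p ◁ f.f q) ≫ io K₁ L₂ p q n h := by
  have h0 := ι_mapBifunctorMap (𝟙 K₁) f (curriedTensor (ModuleCat.{v} R)) (ComplexShape.down ℕ)
    p q n h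
  refine h0.trans ?_
  rw [HomologicalComplex.id_f, CategoryTheory.Functor.map_id, NatTrans.id_app, Category.id_comp]
  rfl

theorem whiskerLeft_io_apply {K₂ L₂ : ChainComplex (ModuleCat.{v} R) ℕ} (f : K₂ ⟶ L₂)
    (p q n : ℕ) (h : p + q = n) (x : ((K₁.X p ⊗ K₂.X q : ModuleCat.{v} R) : Type v)) :
    ((K₁ ◁ f).f n).hom ((io K₁ K₂ p q n h).hom x) =
      (io K₁ L₂ p q n h).hom ((K₁.X p ◁ f.f q).hom x) :=
  congrArg (fun g => g.hom x) (whiskerLeft_io K₁ f p q n h)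

theorem exchange_apply {W X Y Z : ModuleCat.{v} R} (f : W ⟶ X) (g : Y ⟶ Z)
    (t : ((W ⊗ Y : ModuleCat.{v} R) : Type v)) :
    (X ◁ g).hom ((f ▷ Y).hom t) = (f ▷ Z).hom ((W ◁ g).hom t) :=
  congrArg (fun m => m.hom t) (whisker_exchange f g).symm

theorem eq_zero_of_isZero_right (X Y : ModuleCat.{v} R) (hY : IsZero Y)
    (t : ((X ⊗ Y : ModuleCat.{v} R) : Type v)) : t = 0 := by
  haveI : Subsingleton Y := ModuleCat.subsingleton_of_isZero hY
  have h : ∀ t : TensorProduct R X Y, t = 0 := by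
    intro t
    induction t using TensorProduct.induction_on with
    | zero => rfl
    | tmul c m => rw [Subsingleton.elim m 0, TensorProduct.tmul_zero]
    | add a b ha hb => rw [ha, hb, add_zero]
  exact h t

end elem

section main

variable (R : Type v) [CommRing R] (C P : ChainComplex (ModuleCat.{v} R) ℕ) (G : ModuleCat.{v} R)

theorem main [Module.Free R (C.X 0)] [∀ q, Module.Free R (P.X q)]
    (π : P ⟶ (ChainComplex.single₀ (ModuleCat.{v} R)).obj G) [QuasiIso π] :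
    IsIso (HomologicalComplex.homologyMap (C ◁ π) 1) := by
  classical
  haveI : ∀ n, Projective (P.X n) := fun n =>
    (IsProjective.iff_projective (R := R) (P.X n)).mp inferInstance
  let PR : ProjectiveResolution G := { complex := P, π := π }
  -- facts about `π`
  have hπs : Function.Surjective (π.f 0).hom :=
    (ModuleCat.epi_iff_surjective _).mp (epi_of_isColimit_cofork PR.isColimitCokernelCofork)
  have hdπ : ∀ x, (π.f 0).hom ((P.d 1 0).hom x) = 0 := fun x =>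
    congrArg (fun g => g.hom x) PR.complex_d_comp_π_f_zero
  have hex0 : Function.Exact (P.d 1 0).hom (π.f 0).hom := by
    have h := ShortComplex.exact_of_g_is_cokernel
      (ShortComplex.mk (P.d 1 0) (π.f 0) PR.complex_d_comp_π_f_zero) PR.isColimitCokernelCofork
    rw [ShortComplex.moduleCat_exact_iff] at h
    intro y
    constructor
    · intro hy
      exact h y hy
    · rintro ⟨x, rfl⟩
      exact hdπ x
  have hex1 : Function.Exact (P.d 2 1).hom (P.d 1 0).hom := by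
    have h := PR.exact_succ 0
    rw [ShortComplex.moduleCat_exact_iff] at h
    intro y
    constructor
    · intro hy
      exact h y hy
    · rintro ⟨x, rfl⟩
      exact congrArg (fun g => g.hom x) (P.d_comp_d 2 1 0)
  -- tensor level facts
  have Tsurj : ∀ p, Function.Surjective (C.X p ◁ π.f 0).hom := fun p =>
    LinearMap.lTensor_surjective (C.X p) hπs
  have Tex0 : ∀ p, Function.Exact (C.X p ◁ P.d 1 0).hom (C.X p ◁ π.f 0).hom := fun p =>
    lTensor_exact (C.X p) hex0 hπs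
  have Tex1 : Function.Exact (C.X 0 ◁ P.d 2 1).hom (C.X 0 ◁ P.d 1 0).hom :=
    Module.Flat.lTensor_exact (C.X 0) hex1
  have hQ : ∀ q, IsZero (((ChainComplex.single₀ (ModuleCat.{v} R)).obj G).X (q + 1)) := fun q =>
    isZero_single_obj_X (ComplexShape.down ℕ) 0 G (q + 1) (by simp)
  have hdd : ∀ t, (C.d 1 0 ▷ P.X 0).hom ((C.d 2 1 ▷ P.X 0).hom t) = 0 := by
    intro t
    have h0 : (C.d 2 1 ▷ P.X 0) ≫ (C.d 1 0 ▷ P.X 0) = 0 := by
      rw [← comp_whiskerRight, C.d_comp_d, MonoidalPreadditive.zero_whiskerRight]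
    exact congrArg (fun g => g.hom t) h0
  refine H10HE.isIso_homologyMap_of_elem (C ◁ π) 2 1 0 (by simp) (by simp) ?_ ?_
  · -- surjectivity
    intro z' hz'
    obtain ⟨a, u, rfl⟩ := dec1 C ((ChainComplex.single₀ (ModuleCat.{v} R)).obj G) z'
    have ha := eq_zero_of_isZero_right (C.X 0) _ (hQ 0) a
    subst ha
    simp only [map_zero, zero_add] at hz' ⊢
    have hz2 := (io10_d_apply C _ u).symm.trans hz'
    have hu : (C.d 1 0 ▷ ((ChainComplex.single₀ (ModuleCat.{v} R)).obj G).X 0).hom u = 0 := by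
      apply io_injective C _ 0 0 0 rfl
      rw [hz2, map_zero]
    obtain ⟨u', rfl⟩ := Tsurj 1 u
    have h1 : (C.X 0 ◁ π.f 0).hom ((C.d 1 0 ▷ P.X 0).hom u') = 0 := by
      rw [exchange_apply]
      exact hu
    obtain ⟨w', hw'⟩ := (Tex0 0 _).mp h1
    refine ⟨(io C P 1 0 1 rfl).hom u' - (io C P 0 1 1 rfl).hom w', ?_, 0, ?_⟩
    · rw [map_sub]
      have e1 := io10_d_apply C P u'
      have e2 := io01_d_apply C P w'
      rw [hw'] at e2
      exact (congrArg₂ (· - ·) e1 e2).trans (sub_self _)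
    · simp only [map_zero, add_zero, map_sub]
      have e1 := whiskerLeft_io_apply C π 1 0 1 rfl u'
      have e2 := whiskerLeft_io_apply C π 0 1 1 rfl w'
      rw [eq_zero_of_isZero_right (C.X 0) _ (hQ 0) ((C.X 0 ◁ π.f 1).hom w'), map_zero] at e2
      exact ((congrArg₂ (· - ·) e1 e2).trans (sub_zero _)).symm
  · -- injectivity
    rintro z hz ⟨b', hb'⟩
    obtain ⟨w, v, rfl⟩ := dec1 C P z
    obtain ⟨a, b, c, rfl⟩ := dec2 C ((ChainComplex.single₀ (ModuleCat.{v} R)).obj G) b'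
    have ha := eq_zero_of_isZero_right (C.X 0) _ (hQ 1) a
    have hb := eq_zero_of_isZero_right (C.X 1) _ (hQ 0) b
    subst ha hb
    simp only [map_zero, zero_add] at hb'
    -- the cycle condition
    have E1 : (C.X 0 ◁ P.d 1 0).hom w + (C.d 1 0 ▷ P.X 0).hom v = 0 := by
      apply io_injective C P 0 0 0 rfl
      rw [map_add, map_zero, ← io01_d_apply, ← io10_d_apply, ← map_add]
      exact hz
    -- the boundary condition
    have E2 : (C.X 1 ◁ π.f 0).hom v =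
        (C.d 2 1 ▷ ((ChainComplex.single₀ (ModuleCat.{v} R)).obj G).X 0).hom c := by
      have hb2 : ((C ◁ π).f 1).hom ((io C P 0 1 1 rfl).hom w + (io C P 1 0 1 rfl).hom v) =
          ((TT C ((ChainComplex.single₀ (ModuleCat.{v} R)).obj G)).d 2 1).hom
            ((io C ((ChainComplex.single₀ (ModuleCat.{v} R)).obj G) 2 0 2 rfl).hom c) := hb'
      apply io_injective C _ 1 0 1 rfl
      rw [← io20_d_apply, ← hb2, map_add, whiskerLeft_io_apply, whiskerLeft_io_apply,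
        eq_zero_of_isZero_right (C.X 0) _ (hQ 0) ((C.X 0 ◁ π.f 1).hom w)]
      simp only [map_zero, zero_add]
    obtain ⟨c', rfl⟩ := Tsurj 2 c
    have h3 : (C.X 1 ◁ π.f 0).hom (v - (C.d 2 1 ▷ P.X 0).hom c') = 0 := by
      rw [map_sub, E2, exchange_apply, sub_self]
    obtain ⟨t, ht⟩ := (Tex0 1 _).mp h3
    have h4 : (C.X 0 ◁ P.d 1 0).hom (w + (C.d 1 0 ▷ P.X 1).hom t) = 0 := by
      rw [map_add, exchange_apply, ht, map_sub, hdd, sub_zero, E1]
    obtain ⟨t₂, ht₂⟩ := (Tex1 _).mp h4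
    refine ⟨(io C P 2 0 2 rfl).hom c' - (io C P 1 1 2 rfl).hom t + (io C P 0 2 2 rfl).hom t₂, ?_⟩
    have e1 := io20_d_apply C P c'
    have e2 := io11_d_apply C P t
    have e3 := io02_d_apply C P t₂
    rw [ht₂, map_add] at e3
    rw [ht, map_sub] at e2
    rw [map_add, map_sub]
    refine (congrArg₂ (· + ·) (congrArg₂ (· - ·) e1 e2) e3).trans ?_
    abel

end main

end H10TL
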