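import Groth.Agent.Lib.Helper10.FPFunctorsMain

/-!
# `M ↦ M ⊗_A K` on finitely presented modules, for an object `K` with an `A`-action
-/

set_option autoImplicit false

namespace H10TO

open CategoryTheory CategoryTheory.Limits H10EW

universe u v' u' w

section Lin

variable {A : Type u} [CommRing A] {M N P : Type u} [AddCommGroup M] [Module A M]
  [AddCommGroup N] [Module A N]
  [AddCommGroup P] [Module A P] {H : Type w} [AddCommGroup H] [Module A H]

/-- descend a linear map along a surjection -/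
noncomputable def descL (p : N →ₗ[A] P) (hp : Function.Surjective p) (φ : N →ₗ[A] H)
    (h : LinearMap.ker p ≤ LinearMap.ker φ) : P →ₗ[A] H :=
  ((LinearMap.ker p).liftQ φ h) ∘ₗ (p.quotKerEquivOfSurjective hp).symm.toLinearMap

lemma descL_apply (p : N →ₗ[A] P) (hp : Function.Surjective p) (φ : N →ₗ[A] H)
    (h : LinearMap.ker p ≤ LinearMap.ker φ) (x : N) : descL p hp φ h (p x) = φ x := by
  show ((LinearMap.ker p).liftQ φ h) ((p.quotKerEquivOfSurjective hp).symm (p x)) = _
  rw [LinearMap.quotKerEquivOfSurjective_symm_apply]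
  rfl

lemma descL_comp (p : N →ₗ[A] P) (hp : Function.Surjective p) (φ : N →ₗ[A] H)
    (h : LinearMap.ker p ≤ LinearMap.ker φ) : descL p hp φ h ∘ₗ p = φ :=
  LinearMap.ext (descL_apply p hp φ h)

lemma ker_le_of_comp_eq_zero (f : M →ₗ[A] N) (p : N →ₗ[A] P)
    (hk : LinearMap.ker p = LinearMap.range f) (φ : N →ₗ[A] H) (h0 : φ ∘ₗ f = 0) :
    LinearMap.ker p ≤ LinearMap.ker φ := by
  intro x hx
  rw [hk] at hx
  obtain ⟨y, rfl⟩ := hx
  exact LinearMap.congr_fun h0 y

lemma comp_comp_eq_zero (f : M →ₗ[A] N) (p : N →ₗ[A] P)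
    (hk : LinearMap.ker p = LinearMap.range f) (ψ : P →ₗ[A] H) : (ψ ∘ₗ p) ∘ₗ f = 0 := by
  apply LinearMap.ext
  intro x
  have hx : f x ∈ LinearMap.ker p := by
    rw [hk]
    exact LinearMap.mem_range_self f x
  show ψ (p (f x)) = 0
  rw [LinearMap.mem_ker.1 hx, map_zero]

lemma piEquiv_single (n : ℕ) (v : Fin n → H) (i : Fin n) :
    Module.piEquiv (Fin n) A H v (Pi.single i 1) = v i := by
  rw [Module.piEquiv_apply_apply, Finset.sum_eq_single i]
  · rw [Pi.single_eq_same, one_smul]
  · intro j _ hj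
    rw [Pi.single_eq_of_ne hj, zero_smul]
  · intro h
    exact absurd (Finset.mem_univ i) h

lemma piEquiv_eta (n : ℕ) (φ : (Fin n → A) →ₗ[A] H) :
    Module.piEquiv (Fin n) A H (fun i => φ (Pi.single i 1)) = φ := by
  apply LinearMap.ext
  intro x
  rw [Module.piEquiv_apply_apply]
  have hx : x = ∑ k : Fin n, Pi.single k (x k) := (Finset.univ_sum_single x).symm
  conv_rhs => rw [hx]
  rw [map_sum]
  refine Finset.sum_congr rfl fun i _ => ?_
  rw [← map_smul]
  congr 1
  ext j
  by_cases h : j = i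
  · subst h
    simp
  · simp [Pi.single_eq_of_ne h]

end Lin

section Main

variable {A : Type u} [CommRing A] {B : Type u'} [Category.{v'} B] [Preadditive B]
  (K : B) (κ : A →+* End K)

/-- `κ a` as a morphism -/
def kk (a : A) : K ⟶ K := κ a

lemma kk_one : kk K κ 1 = 𝟙 K := by
  show (κ 1 : End K) = 𝟙 K
  rw [map_one]
  rfl

lemma kk_mul (a b : A) : kk K κ (a * b) = kk K κ b ≫ kk K κ a := by
  show (κ (a * b) : End K) = _
  rw [map_mul]
  rfl

lemma kk_add (a b : A) : kk K κ (a + b) = kk K κ a + kk K κ b := by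
  show (κ (a + b) : End K) = _
  rw [map_add]
  rfl

lemma kk_zero : kk K κ 0 = 0 := by
  show (κ 0 : End K) = _
  rw [map_zero]

/-- `Hom(K, X)` as an `A`-module via `κ` -/
def HomK (_κ : A →+* End K) (X : B) : Type v' := K ⟶ X

instance (X : B) : AddCommGroup (HomK K κ X) := inferInstanceAs (AddCommGroup (K ⟶ X))

instance (X : B) : Module A (HomK K κ X) where
  smul a f := kk K κ a ≫ (show K ⟶ X from f)
  one_smul f := by
    show kk K κ 1 ≫ (show K ⟶ X from f) = f
    rw [kk_one]
    exact Category.id_comp _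
  mul_smul a b f := by
    show kk K κ (a * b) ≫ (show K ⟶ X from f) = kk K κ a ≫ kk K κ b ≫ (show K ⟶ X from f)
    rw [mul_comm, kk_mul, Category.assoc]
  smul_zero a := by
    show kk K κ a ≫ (0 : K ⟶ X) = 0
    exact comp_zero
  smul_add a f g := by
    show kk K κ a ≫ ((show K ⟶ X from f) + (show K ⟶ X from g)) = _
    exact Preadditive.comp_add _ _ _ _ _ _
  add_smul a b f := by
    show kk K κ (a + b) ≫ (show K ⟶ X from f) =
      kk K κ a ≫ (show K ⟶ X from f) + kk K κ b ≫ (show K ⟶ X from f)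
    rw [kk_add]
    exact Preadditive.add_comp _ _ _ _ _ _
  zero_smul f := by
    show kk K κ 0 ≫ (show K ⟶ X from f) = 0
    rw [kk_zero]
    exact zero_comp

lemma smul_def {X : B} (a : A) (f : HomK K κ X) :
    a • f = kk K κ a ≫ (show K ⟶ X from f) := rfl

/-- post-composition -/
def HomK.map {X Y : B} (g : X ⟶ Y) : HomK K κ X →ₗ[A] HomK K κ Y where
  toFun f := (show K ⟶ X from f) ≫ g
  map_add' _ _ := Preadditive.add_comp _ _ _ _ _ _
  map_smul' _ _ := Category.assoc _ _ _

lemma HomK.map_apply {X Y : B} (g : X ⟶ Y) (f : HomK K κ X) :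
    HomK.map K κ g f = (show K ⟶ X from f) ≫ g := rfl

lemma HomK.map_zero' (X Y : B) : HomK.map K κ (0 : X ⟶ Y) = 0 := by
  apply LinearMap.ext
  intro f
  exact comp_zero

/-- corepresentation data for `X ↦ Hom_A(M, Hom(K, X))` -/
structure Corep (M : Type u) [AddCommGroup M] [Module A M] where
  /-- the corepresenting object -/
  T : B
  /-- the bijection -/
  e : ∀ X : B, (T ⟶ X) ≃ (M →ₗ[A] HomK K κ X)
  nat : ∀ {X Y : B} (f : T ⟶ X) (g : X ⟶ Y), e Y (f ≫ g) = (HomK.map K κ g) ∘ₗ (e X f)

namespace Corep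

variable {K κ}
variable {M N P : Type u} [AddCommGroup M] [Module A M] [AddCommGroup N] [Module A N]
  [AddCommGroup P] [Module A P]

lemma e_zero (c : Corep K κ M) (X : B) : c.e X 0 = 0 := by
  have h := c.nat (0 : c.T ⟶ X) (0 : X ⟶ X)
  rw [comp_zero] at h
  rw [h, HomK.map_zero', LinearMap.zero_comp]

/-- the transition morphism -/
def tr (c : Corep K κ M) (d : Corep K κ N) (f : M →ₗ[A] N) : c.T ⟶ d.T :=
  (c.e d.T).symm ((d.e d.T (𝟙 _)) ∘ₗ f)

lemma e_tr (c : Corep K κ M) (d : Corep K κ N) (f : M →ₗ[A] N) :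
    c.e d.T (tr c d f) = (d.e d.T (𝟙 _)) ∘ₗ f :=
  Equiv.apply_symm_apply _ _

lemma e_tr_comp (c : Corep K κ M) (d : Corep K κ N) (f : M →ₗ[A] N) {X : B} (g : d.T ⟶ X) :
    c.e X (tr c d f ≫ g) = (d.e X g) ∘ₗ f := by
  rw [c.nat, e_tr, ← LinearMap.comp_assoc, ← d.nat, Category.id_comp]

lemma tr_id (c : Corep K κ M) : tr c c LinearMap.id = 𝟙 _ := by
  rw [tr, LinearMap.comp_id, Equiv.symm_apply_apply]

lemma tr_comp (c : Corep K κ M) (d : Corep K κ N) (d' : Corep K κ P) (f : M →ₗ[A] N)
    (g : N →ₗ[A] P) : tr c d f ≫ tr d d' g = tr c d' (g ∘ₗ f) := by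
  apply (c.e _).injective
  rw [e_tr_comp, e_tr, e_tr, LinearMap.comp_assoc]

lemma tr_zero (c : Corep K κ M) (d : Corep K κ N) : tr c d (0 : M →ₗ[A] N) = 0 := by
  apply (c.e _).injective
  rw [e_tr, LinearMap.comp_zero, e_zero]

/-- two corepresenting objects are isomorphic -/
def iso (c d : Corep K κ M) : c.T ≅ d.T where
  hom := tr c d LinearMap.id
  inv := tr d c LinearMap.id
  hom_inv_id := by rw [tr_comp, LinearMap.comp_id, tr_id]
  inv_hom_id := by rw [tr_comp, LinearMap.comp_id, tr_id]

section Desc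

variable (c : Corep K κ M) (d : Corep K κ N) (q : Corep K κ P) (f : M →ₗ[A] N) (p : N →ₗ[A] P)
  (hp : Function.Surjective p) (hk : LinearMap.ker p = LinearMap.range f)

omit [AddCommGroup P] [Module A P] in
lemma e_comp_eq_zero {X : B} (s : d.T ⟶ X) (hs : tr c d f ≫ s = 0) : d.e X s ∘ₗ f = 0 := by
  rw [← e_tr_comp c d f, hs, e_zero]

/-- descent of a morphism killing `tr f` along `tr p` -/
noncomputable def descT {X : B} (s : d.T ⟶ X) (hs : tr c d f ≫ s = 0) : q.T ⟶ X :=
  (q.e X).symm (descL p hp (d.e X s)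
    (ker_le_of_comp_eq_zero f p hk _ (e_comp_eq_zero c d f s hs)))

lemma fac {X : B} (s : d.T ⟶ X) (hs : tr c d f ≫ s = 0) :
    tr d q p ≫ descT c d q f p hp hk s hs = s := by
  apply (d.e X).injective
  rw [e_tr_comp, descT, Equiv.apply_symm_apply, descL_comp]

lemma uniq {X : B} (s : d.T ⟶ X) (hs : tr c d f ≫ s = 0) (l : q.T ⟶ X)
    (hl : tr d q p ≫ l = s) : l = descT c d q f p hp hk s hs := by
  apply (q.e X).injective
  rw [descT, Equiv.apply_symm_apply]
  apply (LinearMap.cancel_right hp).1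
  rw [descL_comp, ← e_tr_comp d q p, hl]

end Desc

section Free

variable [HasFiniteBiproducts B] (K κ)

/-- components of a morphism out of `K^n` -/
noncomputable def comps (n : ℕ) {X : B} (f : (⨁ fun _ : Fin n => K) ⟶ X) : Fin n → HomK K κ X :=
  fun i => biproduct.ι (fun _ : Fin n => K) i ≫ f

/-- morphism out of `K^n` from components -/
noncomputable def ofComps (n : ℕ) {X : B} (v : Fin n → HomK K κ X) :
    (⨁ fun _ : Fin n => K) ⟶ X :=
  biproduct.desc (fun i => (show K ⟶ X from v i))

lemma comps_ofComps (n : ℕ) {X : B} (v : Fin n → HomK K κ X) :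
    comps K κ n (ofComps K κ n v) = v :=
  funext fun i => biproduct.ι_desc _ i

lemma ofComps_comps (n : ℕ) {X : B} (f : (⨁ fun _ : Fin n => K) ⟶ X) :
    ofComps K κ n (comps K κ n f) = f :=
  biproduct.hom_ext' _ _ fun j => biproduct.ι_desc _ j

/-- `K^n` corepresents for `A^n` -/
noncomputable def free (n : ℕ) : Corep K κ (Fin n → A) where
  T := ⨁ fun _ : Fin n => K
  e X :=
    { toFun := fun f => Module.piEquiv (Fin n) A (HomK K κ X) (comps K κ n f)
      invFun := fun φ => ofComps K κ n (fun i => φ (Pi.single i 1))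
      left_inv := fun f => by
        have : (fun i => Module.piEquiv (Fin n) A (HomK K κ X) (comps K κ n f) (Pi.single i 1)) =
            comps K κ n f := funext fun i => piEquiv_single n _ i
        show ofComps K κ n (fun i => Module.piEquiv (Fin n) A (HomK K κ X) (comps K κ n f)
          (Pi.single i 1)) = f
        rw [this, ofComps_comps]
      right_inv := fun φ => by
        show Module.piEquiv (Fin n) A (HomK K κ X)
          (comps K κ n (ofComps K κ n (fun i => φ (Pi.single i 1)))) = φ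
        rw [comps_ofComps]
        exact piEquiv_eta n φ }
  nat {X Y} f g := by
    apply LinearMap.ext
    intro x
    show Module.piEquiv (Fin n) A (HomK K κ Y) (comps K κ n (f ≫ g)) x =
      HomK.map K κ g (Module.piEquiv (Fin n) A (HomK K κ X) (comps K κ n f) x)
    rw [Module.piEquiv_apply_apply, Module.piEquiv_apply_apply, map_sum]
    refine Finset.sum_congr rfl fun i _ => ?_
    rw [map_smul]
    congr 1
    exact (Category.assoc _ _ _).symm

end Free

section Coker

variable [HasCokernels B] (c : Corep K κ M) (d : Corep K κ N) (f : M →ₗ[A] N) (p : N →ₗ[A] P)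
  (hp : Function.Surjective p) (hk : LinearMap.ker p = LinearMap.range f)

/-- the bijection for the cokernel -/
noncomputable def cokerE (X : B) : (cokernel (tr c d f) ⟶ X) ≃ (P →ₗ[A] HomK K κ X) where
  toFun h := descL p hp (d.e X (cokernel.π _ ≫ h))
    (ker_le_of_comp_eq_zero f p hk _ (by
      rw [← e_tr_comp c d f, cokernel.condition_assoc, zero_comp, e_zero]))
  invFun ψ := cokernel.desc _ ((d.e X).symm (ψ ∘ₗ p)) (by
    apply (c.e X).injective
    rw [e_tr_comp, Equiv.apply_symm_apply, e_zero, comp_comp_eq_zero f p hk])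
  left_inv h := by
    apply coequalizer.hom_ext
    show cokernel.π _ ≫ cokernel.desc _ _ _ = cokernel.π _ ≫ h
    rw [cokernel.π_desc, descL_comp, Equiv.symm_apply_apply]
  right_inv ψ := by
    apply (LinearMap.cancel_right hp).1
    rw [descL_comp, cokernel.π_desc, Equiv.apply_symm_apply]

lemma cokerE_comp (X : B) (h : cokernel (tr c d f) ⟶ X) :
    cokerE c d f p hp hk X h ∘ₗ p = d.e X (cokernel.π _ ≫ h) :=
  descL_comp _ _ _ _

/-- the cokernel corepresents for the cokernel -/
noncomputable def coker : Corep K κ P where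
  T := cokernel (tr c d f)
  e := cokerE c d f p hp hk
  nat {X Y} h g := by
    apply (LinearMap.cancel_right hp).1
    rw [cokerE_comp, LinearMap.comp_assoc, cokerE_comp, ← Category.assoc, d.nat]

end Coker

section Self

variable (K κ)

/-- `K` corepresents for `A` -/
def self : Corep K κ A where
  T := K
  e X :=
    { toFun := fun f => LinearMap.toSpanSingleton A (HomK K κ X) f
      invFun := fun φ => φ 1
      left_inv := fun f => one_smul A (show HomK K κ X from f)
      right_inv := fun φ => by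
        apply LinearMap.ext_ring
        exact one_smul A _ }
  nat {X Y} f g := by
    apply LinearMap.ext_ring
    show (1 : A) • (show HomK K κ Y from f ≫ g) = HomK.map K κ g ((1 : A) • (show HomK K κ X from f))
    rw [one_smul, one_smul]
    rfl

lemma tr_self_lsmul (a : A) : tr (self K κ) (self K κ) (LinearMap.lsmul A A a) = κ a := by
  show ((LinearMap.toSpanSingleton A (HomK K κ K) (𝟙 K)) ∘ₗ LinearMap.lsmul A A a) 1 = κ a
  rw [LinearMap.comp_apply, LinearMap.lsmul_apply, LinearMap.toSpanSingleton_apply, smul_eq_mul,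
    mul_one]
  exact Category.comp_id _

end Self

end Corep

open Corep

variable [HasFiniteBiproducts B] [HasCokernels B]

lemma exists_corep (M : FP A) : Nonempty (Corep K κ M.obj) := by
  obtain ⟨P⟩ := exists_pres M
  exact ⟨coker (free K κ P.m) (free K κ P.n) P.R P.π P.surj P.exact⟩

/-- a chosen corepresentation -/
noncomputable def cr (M : FP A) : Corep K κ M.obj := (exists_corep K κ M).some

/-- the functor `M ↦ M ⊗ K` -/
noncomputable def F : FP A ⥤ B where
  obj M := (cr K κ M).T
  map {M N} f := tr (cr K κ M) (cr K κ N) f.hom.hom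
  map_id M := tr_id _
  map_comp f g := (tr_comp _ _ _ _ _).symm

instance : (F K κ).PreservesZeroMorphisms := ⟨fun M N => tr_zero _ _⟩

/-- `F` sends right exact sequences to cokernel diagrams -/
noncomputable def isColimitF {M N Q : FP A} (f : M ⟶ N) (p : N ⟶ Q)
    (hp : Function.Surjective p.hom.hom)
    (hk : LinearMap.ker p.hom.hom = LinearMap.range f.hom.hom) (w : f ≫ p = 0 ≫ p) :
    IsColimit ((F K κ).mapCocone (Cofork.ofπ p w)) :=
  (isColimitMapCoconeCoforkEquiv (F K κ) w).symm (Cofork.IsColimit.mk' _ (fun s => by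
    have hs : tr (cr K κ M) (cr K κ N) f.hom.hom ≫ s.π = 0 :=
      s.condition.trans ((congrArg (fun g => g ≫ s.π) ((F K κ).map_zero M N)).trans zero_comp)
    exact ⟨descT (cr K κ M) (cr K κ N) (cr K κ Q) f.hom.hom p.hom.hom hp hk s.π hs,
      fac _ _ _ _ _ hp hk s.π hs, fun {m} hm => uniq _ _ _ _ _ hp hk s.π hs m hm⟩))

/-- right exact sequences in `FP A` are cokernel diagrams -/
noncomputable def isColimitFP {M N Q : FP A} (f : M ⟶ N) (p : N ⟶ Q)
    (hp : Function.Surjective p.hom.hom)
    (hk : LinearMap.ker p.hom.hom = LinearMap.range f.hom.hom) (w : f ≫ p = 0 ≫ p) :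
    IsColimit (Cofork.ofπ p w) :=
  Cofork.IsColimit.mk' _ (fun s => by
    have h1 : f ≫ s.π = 0 := s.condition.trans zero_comp
    have h0 : s.π.hom.hom ∘ₗ f.hom.hom = 0 := congrArg (fun g => g.hom.hom) h1
    refine ⟨H10EW.mk (descL p.hom.hom hp s.π.hom.hom
      (ker_le_of_comp_eq_zero f.hom.hom p.hom.hom hk _ h0)), ?_, ?_⟩
    · apply ext'
      intro x
      show descL p.hom.hom hp s.π.hom.hom
        (ker_le_of_comp_eq_zero f.hom.hom p.hom.hom hk _ h0) (p.hom.hom x) = s.π.hom.hom x
      exact descL_apply p.hom.hom hp s.π.hom.hom _ x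
    · intro m hm
      apply ext'
      intro y
      obtain ⟨x, rfl⟩ := hp y
      show m.hom.hom (p.hom.hom x) = descL p.hom.hom hp s.π.hom.hom _ (p.hom.hom x)
      rw [descL_apply]
      exact congrArg (fun g => g.hom.hom x) hm)

/-- the cokernel object in `FP A` -/
noncomputable def cokObj {M N : FP A} (f : M ⟶ N) : FP A :=
  ⟨ModuleCat.of A (N.obj ⧸ LinearMap.range f.hom.hom), by
    haveI : Module.FinitePresentation A N.obj := N.property
    haveI : Module.FinitePresentation A M.obj := M.property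
    refine Module.finitePresentation_of_surjective (LinearMap.range f.hom.hom).mkQ
      (Submodule.mkQ_surjective _) ?_
    rw [Submodule.ker_mkQ, LinearMap.range_eq_map]
    exact Submodule.FG.map _ Module.Finite.fg_top⟩

/-- the projection to the cokernel object -/
noncomputable def cokπ {M N : FP A} (f : M ⟶ N) : N ⟶ cokObj f :=
  H10EW.mk (LinearMap.range f.hom.hom).mkQ

lemma cokπ_surj {M N : FP A} (f : M ⟶ N) : Function.Surjective (cokπ f).hom.hom :=
  Submodule.mkQ_surjective _

lemma cokπ_ker {M N : FP A} (f : M ⟶ N) :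
    LinearMap.ker (cokπ f).hom.hom = LinearMap.range f.hom.hom :=
  Submodule.ker_mkQ _

lemma cokπ_w {M N : FP A} (f : M ⟶ N) : f ≫ cokπ f = 0 ≫ cokπ f := by
  apply ext'
  intro x
  show (LinearMap.range f.hom.hom).mkQ (f.hom.hom x) = (LinearMap.range f.hom.hom).mkQ 0
  rw [map_zero]
  exact (Submodule.Quotient.mk_eq_zero _).2 (LinearMap.mem_range_self _ x)

instance : HasCokernels (FP A) :=
  ⟨fun f => HasColimit.mk ⟨_, isColimitFP f (cokπ f) (cokπ_surj f) (cokπ_ker f) (cokπ_w f)⟩⟩

lemma isZero_zr : IsZero (zr A) := by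
  rw [IsZero.iff_id_eq_zero]
  apply ext'
  intro x
  exact Subsingleton.elim _ _

instance : HasZeroObject (FP A) := ⟨⟨zr A, isZero_zr⟩⟩

instance : HasBinaryBiproducts (FP A) :=
  ⟨fun M N => by
    haveI : Module.FinitePresentation A M.obj := M.property
    haveI : Module.FinitePresentation A N.obj := N.property
    exact hasBinaryBiproduct_of_total
      { pt := ⟨ModuleCat.of A (M.obj × N.obj), inferInstance⟩
        fst := H10EW.mk (LinearMap.fst A M.obj N.obj)
        snd := H10EW.mk (LinearMap.snd A M.obj N.obj)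
        inl := H10EW.mk (LinearMap.inl A M.obj N.obj)
        inr := H10EW.mk (LinearMap.inr A M.obj N.obj)
        inl_fst := by apply ext'; intro x; rfl
        inl_snd := by apply ext'; intro x; rfl
        inr_fst := by apply ext'; intro x; rfl
        inr_snd := by apply ext'; intro x; rfl }
      (by
        apply ext'
        intro x
        show ((x.1, (0 : N.obj)) : M.obj × N.obj) + ((0 : M.obj), x.2) = x
        ext <;> simp)⟩

instance : HasFiniteCoproducts (FP A) :=
  haveI : HasInitial (FP A) := (zrIsInitial A).hasInitial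
  hasFiniteCoproducts_of_has_binary_and_initial

instance : HasCoequalizers (FP A) := Preadditive.hasCoequalizers_of_hasCokernels

instance {M N : FP A} (f : M ⟶ N) : PreservesColimit (parallelPair f 0) (F K κ) :=
  preservesColimit_of_preserves_colimit_cocone
    (isColimitFP f (cokπ f) (cokπ_surj f) (cokπ_ker f) (cokπ_w f))
    (isColimitF K κ f (cokπ f) (cokπ_surj f) (cokπ_ker f) (cokπ_w f))

instance : PreservesFiniteColimits (F K κ) :=
  haveI : HasZeroObject B := hasZeroObject_of_hasFiniteBiproducts B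
  Functor.preservesFiniteColimits_of_preservesCokernels (F K κ)

/-- `F(A) ≅ K` -/
noncomputable def isoOne : (F K κ).obj (one A) ≅ K :=
  Corep.iso (cr K κ (one A)) (Corep.self K κ)

lemma isoOne_comm (a : A) :
    (F K κ).map (H10EW.mk (LinearMap.lsmul A A a) : one A ⟶ one A) ≫ (isoOne K κ).hom =
      (isoOne K κ).hom ≫ κ a := by
  have h1 : tr (cr K κ (one A)) (cr K κ (one A)) (LinearMap.lsmul A A a) ≫
      tr (cr K κ (one A)) (Corep.self K κ) LinearMap.id =
      tr (cr K κ (one A)) (Corep.self K κ) (LinearMap.lsmul A A a) := by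
    rw [tr_comp, LinearMap.id_comp]
  have h2 : tr (cr K κ (one A)) (Corep.self K κ) LinearMap.id ≫
      tr (Corep.self K κ) (Corep.self K κ) (LinearMap.lsmul A A a) =
      tr (cr K κ (one A)) (Corep.self K κ) (LinearMap.lsmul A A a) := by
    rw [tr_comp, LinearMap.comp_id]
  have h3 : tr (Corep.self K κ) (Corep.self K κ) (LinearMap.lsmul A A a) = κ a :=
    tr_self_lsmul K κ a
  exact h1.trans (h2.symm.trans
    (congrArg (fun g => tr (cr K κ (one A)) (Corep.self K κ) LinearMap.id ≫ g) h3))

theorem main : ∃ (G : FP A ⥤ B) (_ : PreservesFiniteColimits G) (e : G.obj (one A) ≅ K),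
    ∀ a : A, G.map (H10EW.mk (LinearMap.lsmul A A a) : one A ⟶ one A) ≫ e.hom = e.hom ≫ κ a :=
  ⟨F K κ, inferInstance, isoOne K κ, isoOne_comm K κ⟩

end Main

end H10TO
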