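import Mathlib

/-!
# Verdier quotient by the `S`-torsion objects of a linear triangulated category

For an `A`-linear triangulated category `T` and a multiplicative subset `S` of `A`,
the objects annihilated by an element of `S` form a thick triangulated subcategory `tors S`.
If `U` is a triangulated subcategory contained in `tors S` and containing the cones of all
`s • 𝟙 X` (`s ∈ S`), then the morphism modules of the Verdier quotient `T/U` are the
localizations at `S` of the morphism modules of `T`.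
-/

set_option autoImplicit false

open CategoryTheory CategoryTheory.Limits CategoryTheory.Pretriangulated
  CategoryTheory.Triangulated ZeroObject

universe w v u v' u'

namespace H10Tors

variable {A : Type w} [CommRing A] (S : Submonoid A)
    {T : Type u} [Category.{v} T] [Preadditive T] [Linear A T] [HasZeroObject T] [HasShift T ℤ]
    [∀ n : ℤ, (shiftFunctor T n).Additive] [∀ n : ℤ, (shiftFunctor T n).Linear A]
    [Pretriangulated T]

/-- Objects annihilated by an element of `S`. -/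
def tors : ObjectProperty T := fun X => ∃ s : A, s ∈ S ∧ s • 𝟙 X = 0

instance tors_iso : (tors (T := T) S).IsClosedUnderIsomorphisms where
  of_iso {X Y} e := by
    rintro ⟨s, hs, h⟩
    refine ⟨s, hs, ?_⟩
    calc s • 𝟙 Y = e.inv ≫ (s • 𝟙 X) ≫ e.hom := by
          rw [Linear.smul_comp, Linear.comp_smul, Category.id_comp, e.inv_hom_id]
      _ = 0 := by rw [h, zero_comp, comp_zero]

instance tors_zero : (tors (T := T) S).ContainsZero where
  exists_zero := ⟨0, isZero_zero T, 1, S.one_mem, (isZero_zero T).eq_of_src _ _⟩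

instance tors_shift : (tors (T := T) S).IsStableUnderShift ℤ where
  isStableUnderShiftBy n :=
    { le_shift := by
        rintro X ⟨s, hs, h⟩
        show ∃ s : A, s ∈ S ∧ s • 𝟙 ((shiftFunctor T n).obj X) = 0
        refine ⟨s, hs, ?_⟩
        calc s • 𝟙 ((shiftFunctor T n).obj X) = (shiftFunctor T n).map (s • 𝟙 X) := by
              rw [Functor.map_smul, CategoryTheory.Functor.map_id]
          _ = 0 := by rw [h, Functor.map_zero] }

instance tors_ext2 : (tors (T := T) S).IsTriangulatedClosed₂ :=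
  ObjectProperty.IsTriangulatedClosed₂.mk' (by
    rintro Tr hT ⟨s, hs, h1⟩ ⟨t, ht, h3⟩
    refine ⟨s * t, S.mul_mem hs ht, ?_⟩
    have h0 : (t • 𝟙 Tr.obj₂) ≫ Tr.mor₂ = 0 := by
      calc (t • 𝟙 Tr.obj₂) ≫ Tr.mor₂ = Tr.mor₂ ≫ (t • 𝟙 Tr.obj₃) := by
            rw [Linear.smul_comp, Linear.comp_smul, Category.id_comp, Category.comp_id]
        _ = 0 := by rw [h3, comp_zero]
    obtain ⟨g, hg⟩ := Triangle.coyoneda_exact₂ Tr hT _ h0
    calc (s * t) • 𝟙 Tr.obj₂ = s • (t • 𝟙 Tr.obj₂) := mul_smul s t _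
      _ = s • (g ≫ Tr.mor₁) := by rw [hg]
      _ = (g ≫ (s • 𝟙 Tr.obj₁)) ≫ Tr.mor₁ := by
            rw [Linear.comp_smul, Linear.smul_comp, Category.comp_id]
      _ = 0 := by rw [h1, comp_zero, zero_comp])

instance tors_tri : (tors (T := T) S).IsTriangulated where

instance tors_retract : (tors (T := T) S).IsStableUnderRetracts where
  of_retract {X Y} r := by
    rintro ⟨s, hs, h⟩
    refine ⟨s, hs, ?_⟩
    calc s • 𝟙 X = r.i ≫ (s • 𝟙 Y) ≫ r.r := by
          rw [Linear.smul_comp, Linear.comp_smul, Category.id_comp, r.retract]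
      _ = 0 := by rw [h, zero_comp, comp_zero]

/-- The cone of `f • 𝟙 X` is annihilated by `f * f`. -/
lemma tors_cone (X : T) (f : A) (hf : f ∈ S) (Z : T) (g : X ⟶ Z) (h : Z ⟶ X⟦(1 : ℤ)⟧)
    (hT : Triangle.mk (f • 𝟙 X) g h ∈ distTriang T) : tors S Z := by
  refine ⟨f * f, S.mul_mem hf hf, ?_⟩
  have h0 : g ≫ (f • 𝟙 Z) = 0 := by
    calc g ≫ (f • 𝟙 Z) = (f • 𝟙 X) ≫ g := by
          rw [Linear.smul_comp, Linear.comp_smul, Category.id_comp, Category.comp_id]
      _ = 0 := comp_distTriang_mor_zero₁₂ _ hT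
  obtain ⟨ψ, hψ⟩ : ∃ ψ : X⟦(1 : ℤ)⟧ ⟶ Z, f • 𝟙 Z = h ≫ ψ :=
    Triangle.yoneda_exact₃ _ hT (f • 𝟙 Z) h0
  have h1 : h ≫ (f • 𝟙 (X⟦(1 : ℤ)⟧)) = 0 := by
    calc h ≫ (f • 𝟙 (X⟦(1 : ℤ)⟧)) = h ≫ (f • 𝟙 X)⟦(1 : ℤ)⟧' := by
          rw [Functor.map_smul, CategoryTheory.Functor.map_id]
      _ = 0 := comp_distTriang_mor_zero₃₁ _ hT
  calc (f * f) • 𝟙 Z = f • (f • 𝟙 Z) := mul_smul f f _
    _ = f • (h ≫ ψ) := by rw [hψ]
    _ = (h ≫ (f • 𝟙 (X⟦(1 : ℤ)⟧))) ≫ ψ := by
          rw [Linear.comp_smul, Linear.smul_comp, Category.comp_id]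
    _ = 0 := by rw [h1, zero_comp]

/-- A morphism with torsion cone divides a multiple `c • 𝟙` of the identity, `c ∈ S`. -/
lemma exists_smul_id_factor (U : ObjectProperty T) (hUt : U ≤ tors S) {X' X : T} (w : X' ⟶ X)
    (hw : U.trW w) : ∃ (c : A) (_ : c ∈ S) (k : X ⟶ X'), c • 𝟙 X = k ≫ w := by
  obtain ⟨Z, g, h, hT, hZ⟩ := hw
  obtain ⟨c, hc, hcz⟩ := hUt _ hZ
  have h0 : (c • 𝟙 X) ≫ g = 0 := by
    calc (c • 𝟙 X) ≫ g = g ≫ (c • 𝟙 Z) := by
          rw [Linear.smul_comp, Linear.comp_smul, Category.id_comp, Category.comp_id]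
      _ = 0 := by rw [hcz, comp_zero]
  obtain ⟨k, hk⟩ : ∃ k : X ⟶ X', c • 𝟙 X = k ≫ w :=
    Triangle.coyoneda_exact₂ _ hT (c • 𝟙 X) h0
  exact ⟨c, hc, k, hk⟩

variable [IsTriangulated T]

theorem isLocalizedModule (U : ObjectProperty T) [U.IsTriangulated]
    (hU : ∀ (X : T) (f : A), f ∈ S → ∀ (Z : T) (g : X ⟶ Z) (h : Z ⟶ X⟦(1 : ℤ)⟧),
      Triangle.mk (f • 𝟙 X) g h ∈ distTriang T → U Z)
    (hUt : U ≤ tors S)
    {E : Type u'} [Category.{v'} E] [Preadditive E] [Linear A E]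
    (Q : T ⥤ E) [Q.Additive] [Q.Linear A] [Q.IsLocalization U.trW] (X Y : T) :
    IsLocalizedModule S (Q.mapLinearMap A : (X ⟶ Y) →ₗ[A] (Q.obj X ⟶ Q.obj Y)) := by
  have hsmul : ∀ (s : A) (Z : T), s ∈ S → U.trW (s • 𝟙 Z) := by
    intro s Z hs
    obtain ⟨C, g, h, hT⟩ := distinguished_cocone_triangle (s • 𝟙 Z)
    exact ⟨C, g, h, hT, hU Z s hs C g h hT⟩
  have hQsmul : ∀ (s : A) (Z : T), Q.map (s • 𝟙 Z) = s • 𝟙 (Q.obj Z) := by
    intro s Z
    rw [Functor.map_smul, CategoryTheory.Functor.map_id]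
  refine ⟨?_, ?_, ?_⟩
  · rintro ⟨s, hs⟩
    show IsUnit (algebraMap A (Module.End A (Q.obj X ⟶ Q.obj Y)) s)
    haveI : IsIso (Q.map (s • 𝟙 Y)) := Localization.inverts Q U.trW _ (hsmul s Y hs)
    rw [Module.End.isUnit_iff]
    have key : ∀ φ : Q.obj X ⟶ Q.obj Y,
        (algebraMap A (Module.End A (Q.obj X ⟶ Q.obj Y)) s) φ = φ ≫ Q.map (s • 𝟙 Y) := by
      intro φ
      rw [Module.algebraMap_end_apply, hQsmul, Linear.comp_smul, Category.comp_id]
    constructor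
    · intro φ ψ h
      rw [key, key] at h
      exact (cancel_mono _).1 h
    · intro ψ
      refine ⟨ψ ≫ inv (Q.map (s • 𝟙 Y)), ?_⟩
      rw [key, Category.assoc, IsIso.inv_hom_id, Category.comp_id]
  · intro φ
    obtain ⟨ρ, hρ⟩ := Localization.exists_rightFraction Q U.trW φ
    obtain ⟨c, hc, k, hk⟩ := exists_smul_id_factor S U hUt ρ.s ρ.hs
    refine ⟨(k ≫ ρ.f, ⟨c, hc⟩), ?_⟩
    show c • φ = Q.map (k ≫ ρ.f)
    calc c • φ = Q.map (c • 𝟙 X) ≫ φ := by
          rw [hQsmul, Linear.smul_comp, Category.id_comp]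
      _ = Q.map k ≫ Q.map ρ.s ≫ φ := by rw [hk, Q.map_comp, Category.assoc]
      _ = Q.map k ≫ Q.map ρ.f := by
          rw [hρ, MorphismProperty.RightFraction.map_s_comp_map]
      _ = Q.map (k ≫ ρ.f) := (Q.map_comp _ _).symm
  · intro f₁ f₂ h
    obtain ⟨X', w, hw, fac⟩ := (MorphismProperty.map_eq_iff_precomp Q U.trW f₁ f₂).1 h
    obtain ⟨c, hc, k, hk⟩ := exists_smul_id_factor S U hUt w hw
    refine ⟨⟨c, hc⟩, ?_⟩
    show c • f₁ = c • f₂
    calc c • f₁ = (c • 𝟙 X) ≫ f₁ := by rw [Linear.smul_comp, Category.id_comp]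
      _ = k ≫ w ≫ f₁ := by rw [hk, Category.assoc]
      _ = k ≫ w ≫ f₂ := by rw [fac]
      _ = (c • 𝟙 X) ≫ f₂ := by rw [hk, Category.assoc]
      _ = c • f₂ := by rw [Linear.smul_comp, Category.id_comp]

end H10Tors
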