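import Mathlib

/-!
# Helper library (helper10): invariants commute with flat base change (linear form)

`exists_of_invariant`: for a flat `I`-algebra `B`, an `I`-algebra `A` with a finite family of
`I`-linear endomorphisms `act g` whose common fixed points are the image of `I`, every element of
`B ⊗[I] A` fixed by all `B ⊗ act g` is of the form `b ⊗ 1`.
-/

set_option autoImplicit false

namespace H10PT.UI

open TensorProduct

section Alg

variable {I A B : Type*} [CommRing I] [CommRing A] [CommRing B] [Algebra I A] [Algebra I B]
  [Module.Flat I B] {G : Type*} [Fintype G] [DecidableEq G] (act : G → (A →ₗ[I] A))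

include act in
theorem exists_of_invariant (hact1 : ∀ g, act g 1 = 1)
    (hact : ∀ a : A, (∀ g, act g a = a) → a ∈ Set.range (algebraMap I A))
    (t : B ⊗[I] A) (ht : ∀ g, (act g).lTensor B t = t) :
    ∃ b : B, t = b ⊗ₜ[I] (1 : A) := by
  classical
  let f : A →ₗ[I] (G → A) := LinearMap.pi (fun g => act g - LinearMap.id)
  have hex : Function.Exact (Algebra.linearMap I A) f := by
    intro a
    constructor
    · intro h
      apply hact a
      intro g
      have := congrFun h g
      simpa [f, sub_eq_zero] using this
    · rintro ⟨i, rfl⟩
      funext g
      have h1 : act g (algebraMap I A i) = algebraMap I A i := by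
        rw [Algebra.algebraMap_eq_smul_one, map_smul, hact1]
      simp [f, h1]
  have hex' := Module.Flat.lTensor_exact B hex
  have hft : f.lTensor B t = 0 := by
    apply (TensorProduct.piRight I I B (fun _ : G => A)).injective
    rw [map_zero]
    funext g
    have key : ∀ t : B ⊗[I] A,
        (TensorProduct.piRight I I B (fun _ : G => A)) (f.lTensor B t) g =
          (act g).lTensor B t - t := by
      intro t
      induction t using TensorProduct.induction_on with
      | zero => simp
      | tmul b a => simp [f, TensorProduct.tmul_sub]
      | add x y hx hy =>
        simp only [map_add, Pi.add_apply, hx, hy]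
        abel
    rw [key, ht g, sub_self]
    rfl
  obtain ⟨u, hu⟩ := (hex' t).1 hft
  refine ⟨TensorProduct.rid I B u, ?_⟩
  rw [← hu]
  have hu' : u = (TensorProduct.rid I B u) ⊗ₜ[I] (1 : I) := by
    rw [← TensorProduct.rid_symm_apply, LinearEquiv.symm_apply_apply]
  conv_lhs => rw [hu']
  simp

end Alg

end H10PT.UI
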