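import Groth.Agent.Lib.Helper10.BPQ1
import Groth.Prelude.Def_StMod2

/-!
# Helper library (helper10): functions on schemes are an fppf sheaf; sections of pushforwards

* `appTop_ext_of_sieve`, `appTop_ext_of_cover`, `appTop_ext_of_openCover`: global functions are
  determined locally; `exists_glue_appTop`: they glue along an open cover.
* `res`: restriction of `RelSect` along a morphism of the target; `res_unitSect`.
* For a functor `π` to the category of a scheme `Y` over `S`: `mm` (the map to `Y` of an object),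
  `mkα`, `ev`, `ev_map`, `ext_ev`.
-/

set_option autoImplicit false
set_option linter.style.haveILetI false
set_option backward.isDefEq.respectTransparency false
set_option backward.isDefEq.respectTransparency.types false
universe w' v' w v u
open CategoryTheory CategoryTheory.Limits AlgebraicGeometry Opposite

namespace H10PT.UI

open H10PT.BPQ AlgSp AlgSt

variable {S : Scheme.{u}}

section Fn

/-- the morphism to the affine line over `S` given by a global function -/
noncomputable def fnHom (W : Over S) (r : Γ(W.left, ⊤)) :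
    W ⟶ Over.mk (𝔸(PUnit.{u + 1}; S) ↘ S) :=
  Over.homMk (AffineSpace.homOfVector W.hom (fun _ => r)) (AffineSpace.homOfVector_over _ _)

theorem fnHom_injective {W : Over S} {r r' : Γ(W.left, ⊤)} (h : fnHom W r = fnHom W r') :
    r = r' := by
  have h1 := congrArg (fun a => a.left.appTop (AffineSpace.coord S PUnit.unit)) h
  simpa [fnHom] using h1

theorem comp_fnHom {V W : Over S} (k : V ⟶ W) (r : Γ(W.left, ⊤)) :
    k ≫ fnHom W r = fnHom V (k.left.appTop r) := by
  apply Over.OverMorphism.ext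
  simp only [fnHom, Over.comp_left, Over.homMk_left]
  rw [AffineSpace.comp_homOfVector]
  congr 1
  exact Over.w k

theorem appTop_ext_of_sieve {W : Over S} (R : Sieve W) (hR : R ∈ J S W) (r r' : Γ(W.left, ⊤))
    (h : ∀ ⦃V : Over S⦄ (k : V ⟶ W), R k → k.left.appTop r = k.left.appTop r') : r = r' := by
  apply fnHom_injective
  apply hom_ext_of_sieve R hR
  intro V k hk
  rw [comp_fnHom, comp_fnHom, h k hk]

theorem appTop_ext_of_cover {T : Over S} {κ : Type*} (V : κ → Over S) (ψ : ∀ l, V l ⟶ T)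
    (hcov : Presieve.ofArrows (fun l => (V l).left) (fun l => (ψ l).left) ∈
      Scheme.fppfPrecoverage.coverings T.left)
    (r r' : Γ(T.left, ⊤)) (h : ∀ l, (ψ l).left.appTop r = (ψ l).left.appTop r') : r = r' := by
  apply appTop_ext_of_sieve (Sieve.ofArrows V ψ)
    (Groth.Agent.Lib.Helper29.QuotUnpack.mem_J_of_cover Scheme.fppfPrecoverage V ψ hcov)
  rintro V' k ⟨Y, l, g, ⟨j⟩, rfl⟩
  rw [Over.comp_left, Scheme.Hom.comp_appTop, CommRingCat.comp_apply, CommRingCat.comp_apply, h j]

theorem appTop_ext_of_openCover {X : Scheme.{u}} (𝒰 : X.OpenCover) (r r' : Γ(X, ⊤))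
    (h : ∀ j, (𝒰.f j).appTop r = (𝒰.f j).appTop r') : r = r' := by
  have h1 : (AffineSpace.toSpecMvPolyIntEquiv PUnit.{u + 1}).symm (fun _ => r) =
      (AffineSpace.toSpecMvPolyIntEquiv PUnit.{u + 1}).symm (fun _ => r') := by
    apply 𝒰.hom_ext
    intro j
    apply (AffineSpace.toSpecMvPolyIntEquiv PUnit.{u + 1}).injective
    funext i
    rw [AffineSpace.toSpecMvPolyIntEquiv_comp, AffineSpace.toSpecMvPolyIntEquiv_comp]
    simp [h j]
  exact congrFun ((Equiv.symm _).injective h1) PUnit.unit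

theorem exists_glue_appTop {X : Scheme.{u}} (𝒰 : X.OpenCover) (r : ∀ j, Γ(𝒰.X j, ⊤))
    (h : ∀ i j, (pullback.fst (𝒰.f i) (𝒰.f j)).appTop (r i) =
      (pullback.snd (𝒰.f i) (𝒰.f j)).appTop (r j)) :
    ∃ r₀ : Γ(X, ⊤), ∀ j, (𝒰.f j).appTop r₀ = r j := by
  let g : X ⟶ Spec (CommRingCat.of (MvPolynomial PUnit.{u + 1} (ULift.{u} ℤ))) :=
    𝒰.glueMorphisms (fun j => (AffineSpace.toSpecMvPolyIntEquiv PUnit.{u + 1}).symm (fun _ => r j))
      (by
        intro i j
        apply (AffineSpace.toSpecMvPolyIntEquiv PUnit.{u + 1}).injective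
        funext x
        rw [AffineSpace.toSpecMvPolyIntEquiv_comp, AffineSpace.toSpecMvPolyIntEquiv_comp]
        simp [h i j])
  refine ⟨AffineSpace.toSpecMvPolyIntEquiv PUnit.{u + 1} g PUnit.unit, fun j => ?_⟩
  rw [← AffineSpace.toSpecMvPolyIntEquiv_comp, Scheme.Cover.ι_glueMorphisms]
  simp

end Fn

section Rel

variable {𝒳 : BasedCategory.{v, w} (Over S)} {𝒴 : BasedCategory.{v', w'} (Over S)}
  (π : 𝒳 ⥤ᵇ 𝒴) (F : StMod.Mod 𝒳)

/-- restriction of sections of the pushforward along a morphism of the target -/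
noncomputable def res {η' η : 𝒴.obj} (β : η' ⟶ η) (s : StMod.Mod.RelSect π F η) :
    StMod.Mod.RelSect π F η' :=
  ⟨fun ξ α => s.1 ξ (α ≫ β), fun ξ' ξ φ α => by
    show F.mapTop φ (s.1 ξ (α ≫ β)) = s.1 ξ' ((π.map φ ≫ α) ≫ β)
    rw [Category.assoc]
    exact s.2 φ (α ≫ β)⟩

theorem res_val {η' η : 𝒴.obj} (β : η' ⟶ η) (s : StMod.Mod.RelSect π F η) (ξ : 𝒳.obj)
    (α : π.obj ξ ⟶ η') : (res π F β s).1 ξ α = s.1 ξ (α ≫ β) := rfl

theorem res_unitSect {η' η : 𝒴.obj} (β : η' ⟶ η) (r : Γ(StMod.sch 𝒴 η, ⊤)) :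
    res π (StMod.O 𝒳) β (StMod.unitSect π η r) =
      StMod.unitSect π η' ((𝒴.p.map β).left.appTop r) := by
  apply StMod.Mod.RelSect.ext
  intro ξ α
  change (StMod.baseOver π ξ (α ≫ β)).left.appTop r =
    (StMod.baseOver π ξ α).left.appTop ((𝒴.p.map β).left.appTop r)
  rw [StMod.baseOver_comp, Over.comp_left, Scheme.Hom.comp_appTop]
  rfl

end Rel

end H10PT.UI
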