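import Groth.Agent.Lib.Helper10.UI2

/-!
# Helper library (helper10): sections of pushforwards along a functor to the category of a scheme

For `π : 𝒳 ⥤ᵇ AlgSt.ofSch Y`: `mm` (the map to `Y` of an object), `mkα`, `ev`, `ev_map`, `ext_ev`,
transport of bijectivity of the unit along an isomorphism of the target object, and the reduction to
trivial torsors for quotient stacks (`red`).
-/

set_option autoImplicit false
set_option linter.style.haveILetI false
set_option backward.isDefEq.respectTransparency false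
set_option backward.isDefEq.respectTransparency.types false
universe w v u
open CategoryTheory CategoryTheory.Limits AlgebraicGeometry Opposite MonoidalCategory
  CartesianMonoidalCategory

namespace H10PT.UI

open H10PT.BPQ AlgSp AlgSt

variable {S : Scheme.{u}}

section Tgt

variable {𝒳 : BasedCategory.{v, w} (Over S)} {Y : Over S} (π : 𝒳 ⥤ᵇ AlgSt.ofSch Y)

/-- the map to `Y` of an object of `𝒳` -/
noncomputable def mm (ξ : 𝒳.obj) : 𝒳.p.obj ξ ⟶ Y :=
  eqToHom (π.w_obj ξ).symm ≫ (π.obj ξ).sec.down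

theorem baseOver_sec (ξ : 𝒳.obj) {η : (AlgSt.ofSch Y).obj} (α : π.obj ξ ⟶ η) :
    StMod.baseOver π ξ α ≫ η.sec.down = mm π ξ := by
  have h : α.hom ≫ η.sec.down = (π.obj ξ).sec.down := congrArg ULift.down α.map_sec
  simp only [StMod.baseOver, mm, Category.assoc]
  congr 1

/-- the morphism of the target with prescribed underlying morphism of schemes -/
noncomputable def mkα (ξ : 𝒳.obj) (η : (AlgSt.ofSch Y).obj) (f : 𝒳.p.obj ξ ⟶ η.base)
    (hf : f ≫ η.sec.down = mm π ξ) : π.obj ξ ⟶ η :=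
  ⟨eqToHom (π.w_obj ξ) ≫ f, by
    apply ULift.ext
    change (eqToHom (π.w_obj ξ) ≫ f) ≫ η.sec.down = (π.obj ξ).sec.down
    rw [Category.assoc, hf, mm, eqToHom_trans_assoc, eqToHom_refl, Category.id_comp]⟩

theorem baseOver_mkα (ξ : 𝒳.obj) (η : (AlgSt.ofSch Y).obj) (f : 𝒳.p.obj ξ ⟶ η.base)
    (hf : f ≫ η.sec.down = mm π ξ) : StMod.baseOver π ξ (mkα π ξ η f hf) = f := by
  change eqToHom _ ≫ (eqToHom _ ≫ f) = f
  rw [eqToHom_trans_assoc, eqToHom_refl, Category.id_comp]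

theorem α_ext {ξ : 𝒳.obj} {η : (AlgSt.ofSch Y).obj} (α α' : π.obj ξ ⟶ η)
    (h : StMod.baseOver π ξ α = StMod.baseOver π ξ α') : α = α' := by
  apply Stk.EltObj.hom_ext
  have h1 : eqToHom (π.w_obj ξ).symm ≫ α.hom = eqToHom (π.w_obj ξ).symm ≫ α'.hom := h
  exact (cancel_epi _).1 h1

theorem mkα_baseOver {ξ : 𝒳.obj} {η : (AlgSt.ofSch Y).obj} (α : π.obj ξ ⟶ η) :
    mkα π ξ η (StMod.baseOver π ξ α) (baseOver_sec π ξ α) = α :=
  α_ext π _ _ (baseOver_mkα π ξ η _ _)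

theorem map_mm {ξ' ξ : 𝒳.obj} (φ : ξ' ⟶ ξ) : 𝒳.p.map φ ≫ mm π ξ = mm π ξ' := by
  have h1 := baseOver_sec π ξ' (π.map φ)
  have h2 := StMod.map_comp_baseOver π φ (𝟙 (π.obj ξ))
  rw [Category.comp_id] at h2
  rw [← h1, ← h2, Category.assoc, baseOver_sec π ξ (𝟙 _)]

/-- the component of a section of the pushforward of the structure sheaf -/
noncomputable def ev {η : (AlgSt.ofSch Y).obj} (s : StMod.Mod.RelSect π (StMod.O 𝒳) η) (ξ : 𝒳.obj)
    (f : 𝒳.p.obj ξ ⟶ η.base) (hf : f ≫ η.sec.down = mm π ξ) : Γ((𝒳.p.obj ξ).left, ⊤) :=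
  s.1 ξ (mkα π ξ η f hf)

theorem ev_congr {η : (AlgSt.ofSch Y).obj} (s : StMod.Mod.RelSect π (StMod.O 𝒳) η) (ξ : 𝒳.obj)
    {f f' : 𝒳.p.obj ξ ⟶ η.base} (h : f = f') (hf : f ≫ η.sec.down = mm π ξ)
    (hf' : f' ≫ η.sec.down = mm π ξ) : ev π s ξ f hf = ev π s ξ f' hf' := by
  subst h
  rfl

theorem ev_map {η : (AlgSt.ofSch Y).obj} (s : StMod.Mod.RelSect π (StMod.O 𝒳) η) {ξ' ξ : 𝒳.obj}
    (φ : ξ' ⟶ ξ) (f : 𝒳.p.obj ξ ⟶ η.base) (hf : f ≫ η.sec.down = mm π ξ) :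
    (𝒳.p.map φ).left.appTop (ev π s ξ f hf) =
      ev π s ξ' (𝒳.p.map φ ≫ f) (by rw [Category.assoc, hf, map_mm]) := by
  have h := s.2 φ (mkα π ξ η f hf)
  have h2 : π.map φ ≫ mkα π ξ η f hf =
      mkα π ξ' η (𝒳.p.map φ ≫ f) (by rw [Category.assoc, hf, map_mm]) := by
    apply α_ext
    rw [← StMod.map_comp_baseOver, baseOver_mkα, baseOver_mkα]
  rw [h2] at h
  exact h

theorem ev_unitSect {η : (AlgSt.ofSch Y).obj} (r : Γ(η.base.left, ⊤)) (ξ : 𝒳.obj)
    (f : 𝒳.p.obj ξ ⟶ η.base) (hf : f ≫ η.sec.down = mm π ξ) :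
    ev π (StMod.unitSect π η r) ξ f hf = f.left.appTop r := by
  change (StMod.baseOver π ξ (mkα π ξ η f hf)).left.appTop r = _
  rw [baseOver_mkα]
  rfl

theorem ev_res {η' η : (AlgSt.ofSch Y).obj} (β : η' ⟶ η)
    (s : StMod.Mod.RelSect π (StMod.O 𝒳) η) (ξ : 𝒳.obj)
    (f : 𝒳.p.obj ξ ⟶ η'.base) (hf : f ≫ η'.sec.down = mm π ξ) :
    ev π (res π (StMod.O 𝒳) β s) ξ f hf = ev π s ξ (f ≫ β.hom) (by
      have h : β.hom ≫ η.sec.down = η'.sec.down := congrArg ULift.down β.map_sec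
      rw [Category.assoc, h, hf]) := by
  have h2 : mkα π ξ η' f hf ≫ β = mkα π ξ η (f ≫ β.hom) (by
      have h : β.hom ≫ η.sec.down = η'.sec.down := congrArg ULift.down β.map_sec
      rw [Category.assoc, h, hf]) := by
    apply α_ext
    rw [StMod.baseOver_comp, baseOver_mkα, baseOver_mkα]
    rfl
  change s.1 ξ (mkα π ξ η' f hf ≫ β) = _
  rw [h2]
  rfl

theorem ext_ev {η : (AlgSt.ofSch Y).obj} (s s' : StMod.Mod.RelSect π (StMod.O 𝒳) η)
    (h : ∀ (ξ : 𝒳.obj) (f : 𝒳.p.obj ξ ⟶ η.base) (hf : f ≫ η.sec.down = mm π ξ),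
      ev π s ξ f hf = ev π s' ξ f hf) : s = s' := by
  apply StMod.Mod.RelSect.ext
  intro ξ α
  have := h ξ (StMod.baseOver π ξ α) (baseOver_sec π ξ α)
  unfold ev at this
  rw [mkα_baseOver] at this
  exact this

/-- bijectivity of the unit is invariant under isomorphisms of the test object -/
theorem bijective_of_iso {η₁ η₂ : (AlgSt.ofSch Y).obj} (β : η₁ ⟶ η₂) (b' : η₂.base ⟶ η₁.base)
    (h1 : b' ≫ β.hom = 𝟙 _) (h2 : β.hom ≫ b' = 𝟙 _)
    (hb : Function.Bijective (StMod.unitSect π η₁)) :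
    Function.Bijective (StMod.unitSect π η₂) := by
  have hβ : β.hom ≫ η₂.sec.down = η₁.sec.down := congrArg ULift.down β.map_sec
  constructor
  · intro r r' hrr
    have h3 := congrArg (res π (StMod.O 𝒳) β) hrr
    rw [res_unitSect, res_unitSect] at h3
    have h4 : β.hom.left.appTop r = β.hom.left.appTop r' := hb.1 h3
    have h5 := congrArg (fun x => b'.left.appTop x) h4
    simp only [← CommRingCat.comp_apply, ← Scheme.Hom.comp_appTop, ← Over.comp_left, h1] at h5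
    simpa using h5
  · intro s
    obtain ⟨rB, hrB⟩ := hb.2 (res π (StMod.O 𝒳) β s)
    refine ⟨b'.left.appTop rB, ?_⟩
    apply ext_ev
    intro ξ f hf
    rw [ev_unitSect]
    have hf' : (f ≫ b') ≫ η₁.sec.down = mm π ξ := by
      rw [← hβ, Category.assoc, ← Category.assoc b', h1, Category.id_comp, hf]
    have h6 := ev_res π β s ξ (f ≫ b') hf'
    rw [← hrB, ev_unitSect] at h6
    have hf'' : ((f ≫ b') ≫ β.hom) ≫ η₂.sec.down = mm π ξ := by
      rw [Category.assoc, hβ]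
      exact hf'
    rw [ev_congr π s ξ (show f = (f ≫ b') ≫ β.hom by
      rw [Category.assoc, h1, Category.comp_id]) hf hf'', ← h6, Over.comp_left,
      Scheme.Hom.comp_appTop]
    rfl

end Tgt

section Quot

variable {G : Over S} [GrpObj G] {X : Over S} {aX : AlgGrp.Action G X} {Y : Over S}
  (π : AlgSt.QuotSt Scheme.fppfPrecoverage G aX ⥤ᵇ AlgSt.ofSch Y)

/-- the trivial torsor with the equivariant map given by a point of `X` -/
noncomputable abbrev τ {V : Over S} (x : V ⟶ X) : (AlgSt.QuotSt Scheme.fppfPrecoverage G aX).obj :=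
  (AlgSt.quotMap Scheme.fppfPrecoverage G aX).obj (⟨V, ⟨x⟩⟩ : (AlgSt.ofSch X).obj)

/-- the morphism of trivial torsors over a morphism of schemes -/
noncomputable def τmap {V' V : Over S} (c : V' ⟶ V) (x : V ⟶ X) (x' : V' ⟶ X) (h : c ≫ x = x') :
    (τ x' : (AlgSt.QuotSt Scheme.fppfPrecoverage G aX).obj) ⟶ τ x :=
  (AlgSt.quotMap Scheme.fppfPrecoverage G aX).map
    (⟨c, ULift.ext _ _ h⟩ : (⟨V', ⟨x'⟩⟩ : (AlgSt.ofSch X).obj) ⟶ ⟨V, ⟨x⟩⟩)

theorem τmap_base {V' V : Over S} (c : V' ⟶ V) (x : V ⟶ X) (x' : V' ⟶ X) (h : c ≫ x = x') :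
    (AlgSt.QuotSt Scheme.fppfPrecoverage G aX).p.map (τmap (aX := aX) c x x' h) = c := rfl

/-- two sections of the pushforward of the structure sheaf of a quotient stack agree as soon as they
agree on trivial torsors -/
theorem red {η : (AlgSt.ofSch Y).obj}
    (s s' : StMod.Mod.RelSect π (StMod.O (AlgSt.QuotSt Scheme.fppfPrecoverage G aX)) η)
    (h : ∀ (V : Over S) (x : V ⟶ X) (g : V ⟶ η.base) (hg : g ≫ η.sec.down = mm π (τ x)),
      ev π s (τ x) g hg = ev π s' (τ x) g hg) : s = s' := by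
  apply ext_ev
  intro ξ f hf
  apply appTop_ext_of_sieve (secS ξ.π) (secS_mem_of_loc ξ.π ξ.loc)
  rintro V k ⟨σ, rfl⟩
  let ψ : (τ (σ ≫ ξ.φ) : (AlgSt.QuotSt Scheme.fppfPrecoverage G aX).obj) ⟶ ξ :=
    Groth.Agent.Lib.Helper28.QuotSt.Iso.trivHom' ξ σ (σ ≫ ξ.φ) rfl
  have hb : (AlgSt.QuotSt Scheme.fppfPrecoverage G aX).p.map ψ = σ ≫ ξ.π :=
    Groth.Agent.Lib.Helper28.QuotSt.Iso.trivHom'_base ξ σ (σ ≫ ξ.φ) rfl
  have e1 := ev_map π s ψ f hf
  have e2 := ev_map π s' ψ f hf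
  rw [h] at e1
  rw [← e2, hb] at e1
  exact e1

end Quot

end H10PT.UI
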