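import Groth.Agent.Lib.Helper10.UI3
import Groth.Agent.Lib.Helper10.UI1
import Groth.Prelude.Def_ConstAct2

/-!
# Helper library (helper10): the unit of `[Spec A/G] ⟶ Spec A^G` over a flat affine chart in standard form
-/

set_option autoImplicit false
set_option linter.style.haveILetI false
set_option backward.isDefEq.respectTransparency false
set_option backward.isDefEq.respectTransparency.types false
universe u
open CategoryTheory CategoryTheory.Limits AlgebraicGeometry Opposite MonoidalCategory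
  CartesianMonoidalCategory TensorProduct

namespace H10PT.UI

open H10PT.BPQ AlgSp AlgSt

theorem ΓSpecIso_nat_apply {R' S' : CommRingCat.{u}} (φ : R' ⟶ S') (r : Γ(Spec R', ⊤)) :
    (Scheme.ΓSpecIso S').hom ((Spec.map φ).appTop r) = φ ((Scheme.ΓSpecIso R').hom r) := by
  have h := ConcreteCategory.congr_hom (Scheme.ΓSpecIso_naturality φ) r
  rw [CommRingCat.comp_apply, CommRingCat.comp_apply] at h
  exact h

theorem ΓSpecIso_hom_injective (R' : CommRingCat.{u}) :
    Function.Injective (Scheme.ΓSpecIso R').hom := by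
  intro a b h
  have h1 := congrArg (Scheme.ΓSpecIso R').inv h
  simpa using h1

theorem sec_down_of_eq {S : Scheme.{u}} {Y : Over S} {c b : (AlgSt.ofSch Y).obj} (h : c = b)
    (h' : b.base = c.base) : eqToHom h' ≫ c.sec.down = b.sec.down := by
  subst h
  simp

section Std

variable (R : Type u) [CommRing R] (A : Type u) [CommRing A] [Algebra R A]
  (G : Type u) [Group G] [Fintype G] [DecidableEq G] [MulSemiringAction G A] [SMulCommClass G R A]
  (B : Type u) [CommRing B] [Algebra R B] [Algebra ↥(ConstAct.inv R A G) B]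
  [IsScalarTower R ↥(ConstAct.inv R A G) B]


/-- `b ↦ b ⊗ 1` -/
noncomputable def inclL : B →ₐ[R] B ⊗[↥(ConstAct.inv R A G)] A := Algebra.TensorProduct.includeLeft

/-- `a ↦ 1 ⊗ a` -/
noncomputable def inclR : A →ₐ[R] B ⊗[↥(ConstAct.inv R A G)] A :=
  (Algebra.TensorProduct.includeRight : A →ₐ[↥(ConstAct.inv R A G)] B ⊗[↥(ConstAct.inv R A G)] A).restrictScalars R

/-- the action of `g` as a map of algebras over the invariants -/
noncomputable def gI (g : G) : A →ₐ[↥(ConstAct.inv R A G)] A :=
  { MulSemiringAction.toRingHom G A g with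
    commutes' := fun i => (ConstAct.mem_inv R A G _).1 i.2 g }

/-- the action of `g` on `B ⊗ A` -/
noncomputable def κ (g : G) : B ⊗[↥(ConstAct.inv R A G)] A →ₐ[R] B ⊗[↥(ConstAct.inv R A G)] A :=
  (Algebra.TensorProduct.map (AlgHom.id ↥(ConstAct.inv R A G) B) (gI R A G g)).restrictScalars R

theorem κ_inclL (g : G) : (κ R A G B g).comp (inclL R A G B) = inclL R A G B := by
  apply AlgHom.ext
  intro b
  simp [κ, inclL]

theorem κ_inclR (g : G) : (κ R A G B g).comp (inclR R A G B) =
    (inclR R A G B).comp (MulSemiringAction.toAlgEquiv R A g : A →ₐ[R] A) := by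
  apply AlgHom.ext
  intro a
  simp [κ, inclR, gI]

theorem inclL_str : (inclL R A G B).comp (IsScalarTower.toAlgHom R ↥(ConstAct.inv R A G) B) =
    (inclR R A G B).comp (ConstAct.inv R A G).val := by
  apply AlgHom.ext
  intro i
  exact Algebra.TensorProduct.tmul_one_eq_one_tmul (A := B) (B := A) i

theorem κ_eq_lTensor (g : G) (x : B ⊗[↥(ConstAct.inv R A G)] A) :
    κ R A G B g x = ((gI R A G g).toLinearMap).lTensor B x := by
  induction x using TensorProduct.induction_on with
  | zero => simp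
  | tmul b a => simp [κ]
  | add x y hx hy => simp only [map_add, hx, hy]

/-- `Spec (B ⊗ A)` over `Spec R` -/
noncomputable abbrev WW : Over (Spec (CommRingCat.of R)) := CoactBr.sp R (B ⊗[↥(ConstAct.inv R A G)] A)

/-- the projection to `Spec A` -/
noncomputable abbrev xW : WW R A G B ⟶ ConstAct.X R A := CoactBr.pt (inclR R A G B)

/-- the projection to `Spec B` -/
noncomputable abbrev pW : WW R A G B ⟶ CoactBr.sp R B := CoactBr.pt (inclL R A G B)

/-- the structure map `Spec B ⟶ Spec A^G` -/
noncomputable abbrev yB : CoactBr.sp R B ⟶ ConstAct.specInv R A G :=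
  CoactBr.pt (IsScalarTower.toAlgHom R ↥(ConstAct.inv R A G) B)

/-- the test object `(Spec B ⟶ Spec A^G)` -/
noncomputable abbrev ηB : (AlgSt.ofSch (ConstAct.specInv R A G)).obj :=
  ⟨CoactBr.sp R B, ⟨yB R A G B⟩⟩

theorem pW_yB : pW R A G B ≫ yB R A G B = xW R A G B ≫ ConstAct.quot R A G := by
  change CoactBr.pt _ ≫ CoactBr.pt _ = CoactBr.pt _ ≫ CoactBr.pt ((ConstAct.inv R A G).val)
  rw [← CoactBr.pt_comp, ← CoactBr.pt_comp, inclL_str]

theorem exists_lift_W {V : Over (Spec (CommRingCat.of R))} (u : V ⟶ CoactBr.sp R B)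
    (v : V ⟶ ConstAct.X R A) (h : u ≫ yB R A G B = v ≫ ConstAct.quot R A G) :
    ∃ c : V ⟶ WW R A G B, c ≫ pW R A G B = u ∧ c ≫ xW R A G B = v := by
  have hpb := isPullback_SpecMap_of_isPushout _ _ _ _ (CommRingCat.isPushout_tensorProduct ↥(ConstAct.inv R A G) B A)
  have hw : u.left ≫ Spec.map (CommRingCat.ofHom (algebraMap ↥(ConstAct.inv R A G) B)) =
      v.left ≫ Spec.map (CommRingCat.ofHom (algebraMap ↥(ConstAct.inv R A G) A)) := congrArg CommaMorphism.left h
  have h1 : hpb.lift u.left v.left hw ≫ (pW R A G B).left = u.left := hpb.lift_fst _ _ _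
  have h2 : hpb.lift u.left v.left hw ≫ (xW R A G B).left = v.left := hpb.lift_snd _ _ _
  refine ⟨Over.homMk (hpb.lift u.left v.left hw) ?_, ?_, ?_⟩
  · have h3 : (WW R A G B).hom = (pW R A G B).left ≫ (CoactBr.sp R B).hom :=
      (Over.w (pW R A G B)).symm
    rw [h3, ← Category.assoc, h1]
    exact Over.w u
  · apply Over.OverMorphism.ext
    exact h1
  · apply Over.OverMorphism.ext
    exact h2

variable (π : ConstAct.quotSt R A G Scheme.fppfPrecoverage ⥤ᵇ AlgSt.ofSch (ConstAct.specInv R A G))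
  (hπ : BasedFunctor.comp
      (AlgSt.quotMap Scheme.fppfPrecoverage (ConstAct.GR R G) (ConstAct.gaction R A G)) π =
    AlgSt.ofSpMap ((AlgSp.yon (Spec (CommRingCat.of R))).map (ConstAct.quot R A G)))

include hπ in
theorem mm_τ {V : Over (Spec (CommRingCat.of R))} (x : V ⟶ ConstAct.X R A) :
    mm π (τ (aX := ConstAct.gaction R A G) x) = x ≫ ConstAct.quot R A G := by
  have h := congrArg (fun F => F.obj (⟨V, ⟨x⟩⟩ : (AlgSt.ofSch (ConstAct.X R A)).obj)) hπ
  exact sec_down_of_eq h _

end Std

end H10PT.UI
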