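import Groth.Agent.Lib.Helper10.UI4

/-!
# Helper library (helper10): bijectivity of the unit over a flat affine chart in standard form
-/

set_option autoImplicit false
set_option linter.style.haveILetI false
set_option backward.isDefEq.respectTransparency false
set_option backward.isDefEq.respectTransparency.types false
universe u
open CategoryTheory CategoryTheory.Limits AlgebraicGeometry Opposite MonoidalCategory
  CartesianMonoidalCategory TensorProduct

namespace H10PT.UI

open H10PT.BPQ AlgSp AlgSt

section Std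

variable (R : Type u) [CommRing R] (A : Type u) [CommRing A] [Algebra R A]
  (G : Type u) [Group G] [Fintype G] [DecidableEq G] [MulSemiringAction G A] [SMulCommClass G R A]
  (B : Type u) [CommRing B] [Algebra R B] [Algebra ↥(ConstAct.inv R A G) B]
  [IsScalarTower R ↥(ConstAct.inv R A G) B]

variable (π : ConstAct.quotSt R A G Scheme.fppfPrecoverage ⥤ᵇ AlgSt.ofSch (ConstAct.specInv R A G))
  (hπ : BasedFunctor.comp
      (AlgSt.quotMap Scheme.fppfPrecoverage (ConstAct.GR R G) (ConstAct.gaction R A G)) π =
    AlgSt.ofSpMap ((AlgSp.yon (Spec (CommRingCat.of R))).map (ConstAct.quot R A G)))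

include hπ in
theorem hW : pW R A G B ≫ (ηB R A G B).sec.down =
    mm π (τ (aX := ConstAct.gaction R A G) (xW R A G B)) := by
  rw [mm_τ R A G π hπ]
  exact pW_yB R A G B

include hπ in
theorem invariant_t (s : StMod.Mod.RelSect π (StMod.O _) (ηB R A G B)) (g : G) :
    (CoactBr.pt (κ R A G B g)).left.appTop
        (ev π s (τ (aX := ConstAct.gaction R A G) (xW R A G B)) (pW R A G B) (hW R A G B π hπ)) =
      ev π s (τ (aX := ConstAct.gaction R A G) (xW R A G B)) (pW R A G B) (hW R A G B π hπ) := by
  let sg : WW R A G B ⟶ (ConstAct.GR R G) ⊗ (WW R A G B) :=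
    lift (CoactBr.pt (ConstAct.constPt R G g)) (CoactBr.pt (κ R A G B g))
  have hx : sg ≫ (τ (aX := ConstAct.gaction R A G) (xW R A G B)).φ = xW R A G B := by
    change sg ≫ ((ConstAct.GR R G) ◁ (xW R A G B)) ≫ (ConstAct.gaction R A G).act = _
    rw [← Category.assoc, lift_whiskerLeft, ← CoactBr.pt_comp, κ_inclR, ConstAct.gaction_constPt,
      ConstAct.pt_comp_toAlgEquiv, Category.assoc, ← ConstAct.act_mul, mul_inv_cancel,
      ConstAct.act_one]
    exact Category.comp_id _
  let φg := Groth.Agent.Lib.Helper28.QuotSt.Iso.trivHom'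
    (τ (aX := ConstAct.gaction R A G) (xW R A G B)) sg (xW R A G B) hx
  have hb : (ConstAct.quotSt R A G Scheme.fppfPrecoverage).p.map φg = CoactBr.pt (κ R A G B g) := by
    change φg.base = _
    rw [Groth.Agent.Lib.Helper28.QuotSt.Iso.trivHom'_base]
    exact lift_snd _ _
  have e1 := ev_map π s φg (pW R A G B) (hW R A G B π hπ)
  have hc : (ConstAct.quotSt R A G Scheme.fppfPrecoverage).p.map φg ≫ pW R A G B = pW R A G B := by
    rw [hb, ← CoactBr.pt_comp, κ_inclL]
  have e2 := ev_congr π s _ hc (by rw [hc]; exact hW R A G B π hπ) (hW R A G B π hπ)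
  have e3 := e1.trans e2
  rw [hb] at e3
  exact e3

include hπ in
theorem bijective_std [Module.Flat ↥(ConstAct.inv R A G) B] :
    Function.Bijective (StMod.unitSect π (ηB R A G B)) := by
  constructor
  · intro r r' hrr
    have h1 := congrArg (fun s : StMod.Mod.RelSect π (StMod.O _) (ηB R A G B) =>
      ev π s (τ (aX := ConstAct.gaction R A G) (xW R A G B))
      (pW R A G B) (hW R A G B π hπ)) hrr
    simp only [ev_unitSect] at h1
    have h2 := congrArg (Scheme.ΓSpecIso (CommRingCat.of (B ⊗[↥(ConstAct.inv R A G)] A))).hom h1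
    have nat : ∀ r : Γ(Spec (CommRingCat.of B), ⊤),
        (Scheme.ΓSpecIso (CommRingCat.of (B ⊗[↥(ConstAct.inv R A G)] A))).hom
          ((pW R A G B).left.appTop r) =
        inclL R A G B ((Scheme.ΓSpecIso (CommRingCat.of B)).hom r) := fun r =>
      ΓSpecIso_nat_apply (CommRingCat.ofHom (inclL R A G B).toRingHom) r
    have h2' := (nat r).symm.trans (h2.trans (nat r'))
    have h3 := Algebra.TensorProduct.includeLeft_injective (R := ↥(ConstAct.inv R A G)) (S := R)
      (A := B) (B := A) Subtype.val_injective h2'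
    exact ΓSpecIso_hom_injective _ h3
  · intro s
    have hinv := invariant_t R A G B π hπ s
    set t := ev π s (τ (aX := ConstAct.gaction R A G) (xW R A G B)) (pW R A G B)
      (hW R A G B π hπ) with ht
    let t' : B ⊗[↥(ConstAct.inv R A G)] A :=
      (Scheme.ΓSpecIso (CommRingCat.of (B ⊗[↥(ConstAct.inv R A G)] A))).hom t
    have ht' : ∀ g, κ R A G B g t' = t' := by
      intro g
      have h5 := ΓSpecIso_nat_apply (CommRingCat.ofHom (κ R A G B g).toRingHom) t
      have h6 : (Spec.map (CommRingCat.ofHom (κ R A G B g).toRingHom)).appTop t = t := hinv g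
      rw [h6] at h5
      exact h5.symm
    obtain ⟨b, hb⟩ := exists_of_invariant (I := ↥(ConstAct.inv R A G)) (A := A) (B := B)
      (fun g => (gI R A G g).toLinearMap) (fun g => map_one (gI R A G g))
      (fun a ha => ⟨⟨a, (ConstAct.mem_inv R A G a).2 ha⟩, rfl⟩) t'
      (fun g => by rw [← κ_eq_lTensor]; exact ht' g)
    refine ⟨(Scheme.ΓSpecIso (CommRingCat.of B)).inv b, ?_⟩
    have hr : (pW R A G B).left.appTop ((Scheme.ΓSpecIso (CommRingCat.of B)).inv b) = t := by
      apply ΓSpecIso_hom_injective
      have h7 := ΓSpecIso_nat_apply (CommRingCat.ofHom (inclL R A G B).toRingHom)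
        ((Scheme.ΓSpecIso (CommRingCat.of B)).inv b)
      refine h7.trans ?_
      rw [Iso.inv_hom_id_apply]
      exact hb.symm
    apply red π
    intro V x g hg
    rw [ev_unitSect]
    obtain ⟨c, hc1, hc2⟩ := exists_lift_W R A G B g x (hg.trans (mm_τ R A G π hπ x))
    have e1 := ev_map π s (τmap (aX := ConstAct.gaction R A G) c (xW R A G B) x hc2) (pW R A G B)
      (hW R A G B π hπ)
    have e2 := ev_congr π s (τ (aX := ConstAct.gaction R A G) x)
      (show (ConstAct.quotSt R A G Scheme.fppfPrecoverage).p.map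
        (τmap (aX := ConstAct.gaction R A G) c (xW R A G B) x hc2) ≫ pW R A G B = g from hc1)
      (by
        change (c ≫ pW R A G B) ≫ _ = _
        rw [hc1]
        exact hg) hg
    rw [← e2, ← e1]
    change g.left.appTop _ = c.left.appTop t
    rw [← hr, ← hc1, Over.comp_left, Scheme.Hom.comp_appTop]
    rfl

end Std

end H10PT.UI
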