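import Groth.Agent.Lib.Helper10.UI5

/-!
# Helper library (helper10): the unit of `[Spec A/G] ⟶ Spec A^G` is an isomorphism over every flat test object
-/

set_option autoImplicit false
set_option linter.style.haveILetI false
set_option backward.isDefEq.respectTransparency false
set_option backward.isDefEq.respectTransparency.types false
universe u
open CategoryTheory CategoryTheory.Limits AlgebraicGeometry Opposite MonoidalCategory
  CartesianMonoidalCategory TensorProduct

namespace H10PT.UI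

open H10PT.BPQ AlgSp AlgSt

section Rel

variable {S : Scheme.{u}} {𝒳 : BasedCategory.{u, u + 1} (Over S)} {𝒴 : BasedCategory.{u, u + 1} (Over S)}
  (π : 𝒳 ⥤ᵇ 𝒴) (F : StMod.Mod 𝒳)

theorem res_comp {η'' η' η : 𝒴.obj} (γ : η'' ⟶ η') (β : η' ⟶ η) (s : StMod.Mod.RelSect π F η) :
    res π F γ (res π F β s) = res π F (γ ≫ β) s := by
  apply StMod.Mod.RelSect.ext
  intro ξ α
  change s.1 ξ ((α ≫ γ) ≫ β) = s.1 ξ (α ≫ γ ≫ β)
  rw [Category.assoc]

end Rel

section Chart

variable {S : Scheme.{u}} {Y : Over S}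

/-- the test object of a chart `b : V ⟶ Z` of the scheme under a test object `η = (Z ⟶ Y)` -/
noncomputable abbrev ηc (η : (AlgSt.ofSch Y).obj) {V : Scheme.{u}} (b : V ⟶ η.base.left) :
    (AlgSt.ofSch Y).obj :=
  ⟨Over.mk (b ≫ η.base.hom),
    ⟨(Over.homMk b rfl : Over.mk (b ≫ η.base.hom) ⟶ η.base) ≫ η.sec.down⟩⟩

/-- the morphism from the test object of a chart -/
noncomputable abbrev βc (η : (AlgSt.ofSch Y).obj) {V : Scheme.{u}} (b : V ⟶ η.base.left) :
    ηc η b ⟶ η :=
  ⟨Over.homMk b rfl, rfl⟩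

/-- the morphism between the test objects of two charts -/
noncomputable abbrev γc (η : (AlgSt.ofSch Y).obj) {V' V : Scheme.{u}} (c : V' ⟶ V)
    (b : V ⟶ η.base.left) : ηc η (c ≫ b) ⟶ ηc η b :=
  ⟨Over.homMk c (by simp), by
    apply ULift.ext
    apply Over.OverMorphism.ext
    show c ≫ (b ≫ η.sec.down.left) = (c ≫ b) ≫ η.sec.down.left
    rw [Category.assoc]⟩

theorem γc_βc (η : (AlgSt.ofSch Y).obj) {V' V : Scheme.{u}} (c : V' ⟶ V)
    (b : V ⟶ η.base.left) : γc η c b ≫ βc η b = βc η (c ≫ b) := by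
  apply Stk.EltObj.hom_ext
  apply Over.OverMorphism.ext
  rfl

end Chart

section Main

variable (R : Type u) [CommRing R] (A : Type u) [CommRing A] [Algebra R A]
  (G : Type u) [Group G] [Fintype G] [DecidableEq G] [MulSemiringAction G A] [SMulCommClass G R A]

variable (π : ConstAct.quotSt R A G Scheme.fppfPrecoverage ⥤ᵇ AlgSt.ofSch (ConstAct.specInv R A G))
  (hπ : BasedFunctor.comp
      (AlgSt.quotMap Scheme.fppfPrecoverage (ConstAct.GR R G) (ConstAct.gaction R A G)) π =
    AlgSt.ofSpMap ((AlgSp.yon (Spec (CommRingCat.of R))).map (ConstAct.quot R A G)))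

include hπ in
theorem bijective_affine (η : (AlgSt.ofSch (ConstAct.specInv R A G)).obj)
    (hA : IsAffine η.base.left) (hF : Flat η.sec.down.left) :
    Function.Bijective (StMod.unitSect π η) := by
  let Bc : CommRingCat.{u} := Γ(η.base.left, ⊤)
  let iso : η.base.left ≅ Spec Bc := η.base.left.isoSpec
  let ρc : CommRingCat.of ↥(ConstAct.inv R A G) ⟶ Bc := Spec.preimage (iso.inv ≫ η.sec.down.left)
  have hρ : Spec.map ρc = iso.inv ≫ η.sec.down.left := Spec.map_preimage _
  letI : Algebra ↥(ConstAct.inv R A G) Bc := ρc.hom.toAlgebra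
  letI : Algebra R Bc := (ρc.hom.comp (algebraMap R ↥(ConstAct.inv R A G))).toAlgebra
  haveI : IsScalarTower R ↥(ConstAct.inv R A G) Bc := IsScalarTower.of_algebraMap_eq (fun _ => rfl)
  haveI : Module.Flat ↥(ConstAct.inv R A G) Bc := by
    have h1 : Flat (Spec.map ρc) := by
      rw [hρ]
      infer_instance
    exact Flat.SpecMap_iff.1 h1
  have hstd := bijective_std R A G Bc π hπ
  have p1 : iso.inv ≫ η.base.hom = (CoactBr.sp R Bc).hom := by
    have h2 : η.base.hom = η.sec.down.left ≫ (ConstAct.specInv R A G).hom := (Over.w η.sec.down).symm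
    rw [h2, ← Category.assoc, ← hρ]
    change Spec.map ρc ≫ Spec.map (CommRingCat.ofHom (algebraMap R ↥(ConstAct.inv R A G))) = Spec.map _
    rw [← Spec.map_comp]
    rfl
  let βh : CoactBr.sp R Bc ⟶ η.base := Over.homMk iso.inv p1
  let β : ηB R A G Bc ⟶ η := ⟨βh, by
    apply ULift.ext
    apply Over.OverMorphism.ext
    change iso.inv ≫ η.sec.down.left = Spec.map _
    rw [← hρ]
    rfl⟩
  let b' : η.base ⟶ CoactBr.sp R Bc := Over.homMk iso.hom (by
    rw [← p1, Iso.hom_inv_id_assoc])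
  refine bijective_of_iso π β b' ?_ ?_ hstd
  · apply Over.OverMorphism.ext
    exact iso.hom_inv_id
  · apply Over.OverMorphism.ext
    exact iso.inv_hom_id

include hπ in
theorem exists_chart_val {η : (AlgSt.ofSch (ConstAct.specInv R A G)).obj}
    (s : StMod.Mod.RelSect π (StMod.O _) η) {V : Scheme.{u}} (b : V ⟶ η.base.left)
    (hV : IsAffine V) (hb : Flat (b ≫ η.sec.down.left)) :
    ∃ r : Γ(V, ⊤), StMod.unitSect π (ηc η b) r = res π (StMod.O _) (βc η b) s :=
  (bijective_affine R A G π hπ (ηc η b) hV hb).2 _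

/-- the value of a section over an affine flat chart -/
noncomputable def rc {η : (AlgSt.ofSch (ConstAct.specInv R A G)).obj}
    (s : StMod.Mod.RelSect π (StMod.O _) η) {V : Scheme.{u}} (b : V ⟶ η.base.left)
    (hV : IsAffine V) (hb : Flat (b ≫ η.sec.down.left)) : Γ(V, ⊤) :=
  (exists_chart_val R A G π hπ s b hV hb).choose

theorem rc_spec {η : (AlgSt.ofSch (ConstAct.specInv R A G)).obj}
    (s : StMod.Mod.RelSect π (StMod.O _) η) {V : Scheme.{u}} (b : V ⟶ η.base.left)
    (hV : IsAffine V) (hb : Flat (b ≫ η.sec.down.left)) :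
    StMod.unitSect π (ηc η b) (rc R A G π hπ s b hV hb) = res π (StMod.O _) (βc η b) s :=
  (exists_chart_val R A G π hπ s b hV hb).choose_spec

theorem rc_unique {η : (AlgSt.ofSch (ConstAct.specInv R A G)).obj}
    (s : StMod.Mod.RelSect π (StMod.O _) η) {V : Scheme.{u}} (b : V ⟶ η.base.left)
    (hV : IsAffine V) (hb : Flat (b ≫ η.sec.down.left)) (r : Γ(V, ⊤))
    (hr : StMod.unitSect π (ηc η b) r = res π (StMod.O _) (βc η b) s) :
    r = rc R A G π hπ s b hV hb :=
  (bijective_affine R A G π hπ (ηc η b) hV hb).1 (hr.trans (rc_spec R A G π hπ s b hV hb).symm)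

theorem rc_congr {η : (AlgSt.ofSch (ConstAct.specInv R A G)).obj}
    (s : StMod.Mod.RelSect π (StMod.O _) η) {V : Scheme.{u}} {b b' : V ⟶ η.base.left} (h : b = b')
    (hV : IsAffine V) (hb : Flat (b ≫ η.sec.down.left)) (hb' : Flat (b' ≫ η.sec.down.left)) :
    rc R A G π hπ s b hV hb = rc R A G π hπ s b' hV hb' := by
  subst h
  rfl

theorem rc_comp {η : (AlgSt.ofSch (ConstAct.specInv R A G)).obj}
    (s : StMod.Mod.RelSect π (StMod.O _) η) {V' V : Scheme.{u}} (c : V' ⟶ V) (b : V ⟶ η.base.left)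
    (hV : IsAffine V) (hb : Flat (b ≫ η.sec.down.left)) (hV' : IsAffine V')
    (hcb : Flat ((c ≫ b) ≫ η.sec.down.left)) :
    rc R A G π hπ s (c ≫ b) hV' hcb = c.appTop (rc R A G π hπ s b hV hb) := by
  symm
  apply rc_unique
  have h1 := res_unitSect π (γc η c b) (rc R A G π hπ s b hV hb)
  rw [rc_spec, res_comp, γc_βc] at h1
  rw [h1]
  rfl

end Main

end H10PT.UI
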