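import Groth.Agent.Lib.Helper10.UI6

/-!
# Helper library (helper10): the unit of `[Spec A/G] ⟶ Spec A^G` is bijective over every flat test object
-/

set_option autoImplicit false
set_option linter.style.haveILetI false
set_option backward.isDefEq.respectTransparency false
set_option backward.isDefEq.respectTransparency.types false
universe u
open CategoryTheory CategoryTheory.Limits AlgebraicGeometry Opposite MonoidalCategory
  CartesianMonoidalCategory TensorProduct

namespace H10PT.UI

open H10PT.BPQ AlgSp AlgSt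

section Main

variable (R : Type u) [CommRing R] (A : Type u) [CommRing A] [Algebra R A]
  (G : Type u) [Group G] [Fintype G] [DecidableEq G] [MulSemiringAction G A] [SMulCommClass G R A]

variable (π : ConstAct.quotSt R A G Scheme.fppfPrecoverage ⥤ᵇ AlgSt.ofSch (ConstAct.specInv R A G))
  (hπ : BasedFunctor.comp
      (AlgSt.quotMap Scheme.fppfPrecoverage (ConstAct.GR R G) (ConstAct.gaction R A G)) π =
    AlgSt.ofSpMap ((AlgSp.yon (Spec (CommRingCat.of R))).map (ConstAct.quot R A G)))

include hπ in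
theorem bijective_flat (η : (AlgSt.ofSch (ConstAct.specInv R A G)).obj)
    (hF : Flat η.sec.down.left) : Function.Bijective (StMod.unitSect π η) := by
  let 𝒜 := η.base.left.affineOpenCover
  let 𝒰 : η.base.left.OpenCover := 𝒜.openCover
  have hAff : ∀ j, IsAffine (𝒰.X j) := fun j => (inferInstance : IsAffine (Spec (𝒜.X j)))
  have hfl : ∀ j, Flat (𝒰.f j ≫ η.sec.down.left) := fun j => inferInstance
  constructor
  · intro r r' hrr
    apply appTop_ext_of_openCover 𝒰
    intro j
    have h3 := congrArg (res π (StMod.O _) (βc η (𝒰.f j))) hrr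
    rw [res_unitSect, res_unitSect] at h3
    exact (bijective_affine R A G π hπ (ηc η (𝒰.f j)) (hAff j) (hfl j)).1 h3
  · intro s
    obtain ⟨r, hr⟩ := exists_glue_appTop 𝒰
      (fun j => rc R A G π hπ s (𝒰.f j) (hAff j) (hfl j)) (by
        intro i j
        let 𝒱 := (pullback (𝒰.f i) (𝒰.f j)).affineOpenCover
        apply appTop_ext_of_openCover 𝒱.openCover
        intro l
        have hAl : IsAffine (𝒱.openCover.X l) := (inferInstance : IsAffine (Spec (𝒱.X l)))
        have f1 : Flat (((𝒱.openCover.f l ≫ pullback.fst (𝒰.f i) (𝒰.f j)) ≫ 𝒰.f i) ≫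
            η.sec.down.left) := inferInstance
        have f2 : Flat (((𝒱.openCover.f l ≫ pullback.snd (𝒰.f i) (𝒰.f j)) ≫ 𝒰.f j) ≫
            η.sec.down.left) := inferInstance
        have e1 := rc_comp R A G π hπ s (𝒱.openCover.f l ≫ pullback.fst (𝒰.f i) (𝒰.f j)) (𝒰.f i)
          (hAff i) (hfl i) hAl f1
        have e2 := rc_comp R A G π hπ s (𝒱.openCover.f l ≫ pullback.snd (𝒰.f i) (𝒰.f j)) (𝒰.f j)
          (hAff j) (hfl j) hAl f2
        have e3 := rc_congr R A G π hπ s
          (show (𝒱.openCover.f l ≫ pullback.fst (𝒰.f i) (𝒰.f j)) ≫ 𝒰.f i =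
            (𝒱.openCover.f l ≫ pullback.snd (𝒰.f i) (𝒰.f j)) ≫ 𝒰.f j by
            rw [Category.assoc, Category.assoc, pullback.condition]) hAl f1 f2
        rw [e1, e2, Scheme.Hom.comp_appTop, Scheme.Hom.comp_appTop, CommRingCat.comp_apply,
          CommRingCat.comp_apply] at e3
        exact e3)
    refine ⟨r, ?_⟩
    apply red π
    intro V x g hg
    rw [ev_unitSect]
    let 𝒲 := 𝒰.pullback₁ g.left
    apply appTop_ext_of_cover (fun j => Over.mk (𝒲.f j ≫ V.hom))
      (fun j => (Over.homMk (𝒲.f j) rfl : Over.mk (𝒲.f j ≫ V.hom) ⟶ V))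
      (Scheme.zariskiPrecoverage_le_fppfPrecoverage _ 𝒲.mem₀)
    intro j
    let ψ : Over.mk (𝒲.f j ≫ V.hom) ⟶ V := Over.homMk (𝒲.f j) rfl
    -- the map to the chart
    have hq : pullback.snd g.left (𝒰.f j) ≫ (ηc η (𝒰.f j)).base.hom = 𝒲.f j ≫ V.hom := by
      change pullback.snd g.left (𝒰.f j) ≫ 𝒰.f j ≫ η.base.hom = pullback.fst g.left (𝒰.f j) ≫ V.hom
      rw [← Category.assoc, ← pullback.condition, Category.assoc, Over.w g]
    let q : Over.mk (𝒲.f j ≫ V.hom) ⟶ (ηc η (𝒰.f j)).base := Over.homMk (pullback.snd g.left (𝒰.f j)) hq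
    have hqg : q ≫ (βc η (𝒰.f j)).hom = ψ ≫ g := by
      apply Over.OverMorphism.ext
      exact pullback.condition.symm
    have e1 := ev_map π s (τmap (aX := ConstAct.gaction R A G) ψ x (ψ ≫ x) rfl) g hg
    have hq2 : q ≫ (ηc η (𝒰.f j)).sec.down = mm π (τ (aX := ConstAct.gaction R A G) (ψ ≫ x)) := by
      have h5 : (βc η (𝒰.f j)).hom ≫ η.sec.down = (ηc η (𝒰.f j)).sec.down := rfl
      rw [← h5, ← Category.assoc, hqg, Category.assoc, hg]
      exact map_mm π (τmap (aX := ConstAct.gaction R A G) ψ x (ψ ≫ x) rfl)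
    have e2 := ev_res π (βc η (𝒰.f j)) s (τ (aX := ConstAct.gaction R A G) (ψ ≫ x)) q hq2
    rw [← rc_spec R A G π hπ s (𝒰.f j) (hAff j) (hfl j), ev_unitSect, ← hr j] at e2
    have e3 := ev_congr π s (τ (aX := ConstAct.gaction R A G) (ψ ≫ x)) hqg
      (by
        have h5 : (βc η (𝒰.f j)).hom ≫ η.sec.down = (ηc η (𝒰.f j)).sec.down := rfl
        rw [Category.assoc, h5]
        exact hq2)
      (by
        rw [Category.assoc, hg]
        exact map_mm π (τmap (aX := ConstAct.gaction R A G) ψ x (ψ ≫ x) rfl))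
    change ψ.left.appTop (g.left.appTop r) = ψ.left.appTop _
    refine Eq.trans ?_ (e2.trans (e3.trans e1.symm))
    change (ψ.left.appTop) ((g.left.appTop) r) = (pullback.snd g.left (𝒰.f j)).appTop ((𝒰.f j).appTop r)
    have hc : ψ.left ≫ g.left = pullback.snd g.left (𝒰.f j) ≫ 𝒰.f j :=
      pullback.condition (f := g.left) (g := 𝒰.f j)
    rw [← CommRingCat.comp_apply, ← CommRingCat.comp_apply, ← Scheme.Hom.comp_appTop,
      ← Scheme.Hom.comp_appTop, hc]
    rfl

end Main

end H10PT.UI
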