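import Mathlib
import Groth.Prelude.Def_W4stkalgstUpp
import Groth.Agent.Lib.Helper10.Fib2
import Groth.Agent.Lib.Helper10.FibGrpd

/-!
# The right multiplicative system of `u_pp 𝒮`

For `u : C ⥤ D` preserving pullbacks and equalizers and `𝒮` fibred over `C`, the class `uppR` of
morphisms of `u_pp 𝒮` with strongly cartesian top and invertible bottom has a right calculus of
fractions.
-/

set_option autoImplicit false
set_option linter.style.haveILetI false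
set_option backward.isDefEq.respectTransparency false
set_option backward.isDefEq.respectTransparency.types false

universe v₃ u₃ v₂ u₂ v u

open CategoryTheory Functor CategoryTheory.Limits

namespace Groth.Agent.Lib.Helper10.Upp

open Groth.Agent.Lib.Helper10.Fib Stk

variable {C : Type u} [Category.{v} C] {D : Type u₂} [Category.{v₂} D] (u : C ⥤ D)
  (𝒮 : BasedCategory.{v₃, u₃} C)

instance isMultiplicative_uppR : (uppR u 𝒮).IsMultiplicative where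
  id_mem X := ⟨by
      show 𝒮.p.IsStronglyCartesian (𝒮.p.map (𝟙 X.x)) (𝟙 X.x)
      infer_instance, by
      show IsIso (𝟙 X.V)
      infer_instance⟩
  comp_mem f g hf hg := ⟨by
      haveI := hf.1
      haveI := hg.1
      show 𝒮.p.IsStronglyCartesian (𝒮.p.map (f.top ≫ g.top)) (f.top ≫ g.top)
      rw [𝒮.p.map_comp]
      infer_instance, by
      haveI := hf.2
      haveI := hg.2
      show IsIso (f.bot ≫ g.bot)
      infer_instance⟩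

lemma map_eq_of_sc {a b : 𝒮.obj} {R : C} (f : R ⟶ 𝒮.p.obj b) (t : a ⟶ b)
    [𝒮.p.IsStronglyCartesian f t] (e : 𝒮.p.obj a = R) : 𝒮.p.map t = eqToHom e ≫ f := by
  rw [IsHomLift.fac' 𝒮.p f t]; simp

variable [𝒮.p.IsFibered]

theorem exists_rightFraction_aux [HasPullbacks C] [PreservesLimitsOfShape WalkingCospan u]
    {X Y Y' : UppObj u 𝒮} (f : X ⟶ Y') (s : Y ⟶ Y') (hs : uppR u 𝒮 s) :
    ∃ (X' : UppObj u 𝒮) (s' : X' ⟶ X) (_ : uppR u 𝒮 s') (f' : X' ⟶ Y), s' ≫ f = f' ≫ s := by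
  obtain ⟨hs1, hs2⟩ := hs
  haveI := hs1
  haveI := hs2
  obtain ⟨x', t, ht⟩ := exists_sc 𝒮.p (a := X.x)
    (pullback.fst (𝒮.p.map f.top) (𝒮.p.map s.top))
  haveI := ht
  have e : 𝒮.p.obj x' = pullback (𝒮.p.map f.top) (𝒮.p.map s.top) :=
    IsHomLift.domain_eq 𝒮.p (pullback.fst (𝒮.p.map f.top) (𝒮.p.map s.top)) t
  have cond : pullback.fst (𝒮.p.map f.top) (𝒮.p.map s.top) ≫ 𝒮.p.map f.top =
      pullback.snd (𝒮.p.map f.top) (𝒮.p.map s.top) ≫ 𝒮.p.map s.top := pullback.condition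
  haveI l1 : 𝒮.p.IsHomLift (𝒮.p.map f.top) f.top := IsHomLift.map 𝒮.p f.top
  haveI l2 : 𝒮.p.IsHomLift (pullback.fst (𝒮.p.map f.top) (𝒮.p.map s.top) ≫ 𝒮.p.map f.top)
      (t ≫ f.top) := IsHomLift.comp 𝒮.p _ _ t f.top
  obtain ⟨f't, ⟨hf't1, hf't2⟩, -⟩ := IsStronglyCartesian.universal_property 𝒮.p
    (𝒮.p.map s.top) s.top (pullback.snd (𝒮.p.map f.top) (𝒮.p.map s.top))
    (pullback.fst (𝒮.p.map f.top) (𝒮.p.map s.top) ≫ 𝒮.p.map f.top) cond (t ≫ f.top)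
  haveI := hf't1
  have hcomp : X.φ ≫ u.map (𝒮.p.map f.top) =
      (f.bot ≫ inv s.bot ≫ Y.φ) ≫ u.map (𝒮.p.map s.top) := by
    rw [f.w, Category.assoc, Category.assoc, s.w, IsIso.inv_hom_id_assoc]
  have hmt : 𝒮.p.map t = eqToHom e ≫ pullback.fst (𝒮.p.map f.top) (𝒮.p.map s.top) :=
    map_eq_of_sc 𝒮 _ t e
  have hmf : 𝒮.p.map f't = eqToHom e ≫ pullback.snd (𝒮.p.map f.top) (𝒮.p.map s.top) := by
    rw [IsHomLift.fac' 𝒮.p (pullback.snd (𝒮.p.map f.top) (𝒮.p.map s.top)) f't]; simp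
  obtain ⟨l, hl1, hl2⟩ := PullbackCone.IsLimit.lift'
    (isLimitOfHasPullbackOfPreservesLimit u (𝒮.p.map f.top) (𝒮.p.map s.top)) X.φ
    (f.bot ≫ inv s.bot ≫ Y.φ) hcomp
  have hl1' : l ≫ u.map (pullback.fst (𝒮.p.map f.top) (𝒮.p.map s.top)) = X.φ := by
    simpa using hl1
  have hl2' : l ≫ u.map (pullback.snd (𝒮.p.map f.top) (𝒮.p.map s.top)) =
      f.bot ≫ inv s.bot ≫ Y.φ := by
    simpa using hl2
  let φ'' : X.V ⟶ u.obj (𝒮.p.obj x') := l ≫ u.map (eqToHom e.symm)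
  have hφ1 : φ'' ≫ u.map (𝒮.p.map t) = X.φ := by
    rw [hmt]
    simp only [φ'', Category.assoc, ← u.map_comp]
    rw [← Category.assoc (eqToHom e.symm), eqToHom_trans, eqToHom_refl, Category.id_comp, hl1']
  have hφ2 : φ'' ≫ u.map (𝒮.p.map f't) = f.bot ≫ inv s.bot ≫ Y.φ := by
    rw [hmf]
    simp only [φ'', Category.assoc, ← u.map_comp]
    rw [← Category.assoc (eqToHom e.symm), eqToHom_trans, eqToHom_refl, Category.id_comp, hl2']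
  let X' : UppObj u 𝒮 := ⟨x', X.V, φ''⟩
  let s' : X' ⟶ X := ⟨t, 𝟙 X.V, hφ1.trans (Category.id_comp _).symm⟩
  let f' : X' ⟶ Y := ⟨f't, f.bot ≫ inv s.bot, hφ2.trans (Category.assoc _ _ _).symm⟩
  have hs' : uppR u 𝒮 s' := ⟨sc_map 𝒮.p (pullback.fst (𝒮.p.map f.top) (𝒮.p.map s.top)) t, by show IsIso (𝟙 X.V); infer_instance⟩
  refine ⟨X', s', hs', f', ?_⟩
  apply UppObj.hom_ext
  · exact hf't2.symm
  · show 𝟙 X.V ≫ f.bot = (f.bot ≫ inv s.bot) ≫ s.bot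
    rw [Category.id_comp, Category.assoc, IsIso.inv_hom_id, Category.comp_id]

theorem exists_rightFraction_uppR [HasPullbacks C] [PreservesLimitsOfShape WalkingCospan u]
    ⦃X Y : UppObj u 𝒮⦄ (φ : (uppR u 𝒮).LeftFraction X Y) :
    ∃ ψ : (uppR u 𝒮).RightFraction X Y, ψ.s ≫ φ.f = ψ.f ≫ φ.s := by
  obtain ⟨X', s', hs', f', h⟩ := exists_rightFraction_aux u 𝒮 φ.f φ.s φ.hs
  exact ⟨⟨s', hs', f'⟩, h⟩

theorem ext_uppR [HasEqualizers C] [PreservesLimitsOfShape WalkingParallelPair u]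
    ⦃X Y Y' : UppObj u 𝒮⦄ (f₁ f₂ : X ⟶ Y) (s : Y ⟶ Y') (hs : uppR u 𝒮 s)
    (h : f₁ ≫ s = f₂ ≫ s) : ∃ (X' : UppObj u 𝒮) (t : X' ⟶ X) (_ : uppR u 𝒮 t),
      t ≫ f₁ = t ≫ f₂ := by
  obtain ⟨hs1, hs2⟩ := hs
  haveI := hs1
  haveI := hs2
  have hb : f₁.bot = f₂.bot := by
    have h1 : f₁.bot ≫ s.bot = f₂.bot ≫ s.bot := congrArg UppObj.Hom.bot h
    exact (cancel_mono s.bot).1 h1
  have htop : f₁.top ≫ s.top = f₂.top ≫ s.top := congrArg UppObj.Hom.top h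
  obtain ⟨x', t, ht⟩ := exists_sc 𝒮.p (a := X.x)
    (equalizer.ι (𝒮.p.map f₁.top) (𝒮.p.map f₂.top))
  haveI := ht
  have e : 𝒮.p.obj x' = equalizer (𝒮.p.map f₁.top) (𝒮.p.map f₂.top) :=
    IsHomLift.domain_eq 𝒮.p (equalizer.ι (𝒮.p.map f₁.top) (𝒮.p.map f₂.top)) t
  have cond : equalizer.ι (𝒮.p.map f₁.top) (𝒮.p.map f₂.top) ≫ 𝒮.p.map f₁.top =
      equalizer.ι (𝒮.p.map f₁.top) (𝒮.p.map f₂.top) ≫ 𝒮.p.map f₂.top := equalizer.condition _ _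
  haveI l1 : 𝒮.p.IsHomLift (𝒮.p.map f₁.top) f₁.top := IsHomLift.map 𝒮.p f₁.top
  haveI l2 : 𝒮.p.IsHomLift (𝒮.p.map f₂.top) f₂.top := IsHomLift.map 𝒮.p f₂.top
  haveI l3 : 𝒮.p.IsHomLift
      (equalizer.ι (𝒮.p.map f₁.top) (𝒮.p.map f₂.top) ≫ 𝒮.p.map f₁.top) (t ≫ f₁.top) :=
    IsHomLift.comp 𝒮.p _ _ t f₁.top
  haveI l4 : 𝒮.p.IsHomLift
      (equalizer.ι (𝒮.p.map f₁.top) (𝒮.p.map f₂.top) ≫ 𝒮.p.map f₁.top) (t ≫ f₂.top) := by
    rw [cond]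
    exact IsHomLift.comp 𝒮.p _ _ t f₂.top
  have htt : t ≫ f₁.top = t ≫ f₂.top := by
    apply IsStronglyCartesian.ext 𝒮.p (𝒮.p.map s.top) s.top
      (equalizer.ι (𝒮.p.map f₁.top) (𝒮.p.map f₂.top) ≫ 𝒮.p.map f₁.top)
    rw [Category.assoc, Category.assoc, htop]
  have hcomp : X.φ ≫ u.map (𝒮.p.map f₁.top) = X.φ ≫ u.map (𝒮.p.map f₂.top) := by
    rw [f₁.w, f₂.w, hb]
  have hmt : 𝒮.p.map t = eqToHom e ≫ equalizer.ι (𝒮.p.map f₁.top) (𝒮.p.map f₂.top) :=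
    map_eq_of_sc 𝒮 _ t e
  obtain ⟨l, hl⟩ := Fork.IsLimit.lift'
    (isLimitOfHasEqualizerOfPreservesLimit u (𝒮.p.map f₁.top) (𝒮.p.map f₂.top)) X.φ hcomp
  have hl' : l ≫ u.map (equalizer.ι (𝒮.p.map f₁.top) (𝒮.p.map f₂.top)) = X.φ := by
    simpa using hl
  let φ' : X.V ⟶ u.obj (𝒮.p.obj x') := l ≫ u.map (eqToHom e.symm)
  have hφ1 : φ' ≫ u.map (𝒮.p.map t) = X.φ := by
    rw [hmt]
    simp only [φ', Category.assoc, ← u.map_comp]
    rw [← Category.assoc (eqToHom e.symm), eqToHom_trans, eqToHom_refl, Category.id_comp, hl']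
  let X' : UppObj u 𝒮 := ⟨x', X.V, φ'⟩
  let tt : X' ⟶ X := ⟨t, 𝟙 X.V, hφ1.trans (Category.id_comp _).symm⟩
  have htt' : uppR u 𝒮 tt :=
    ⟨sc_map 𝒮.p (equalizer.ι (𝒮.p.map f₁.top) (𝒮.p.map f₂.top)) t, by show IsIso (𝟙 X.V); infer_instance⟩
  refine ⟨X', tt, htt', ?_⟩
  apply UppObj.hom_ext
  · exact htt
  · show 𝟙 X.V ≫ f₁.bot = 𝟙 X.V ≫ f₂.bot
    rw [hb]

theorem hasRightCalculusOfFractions_uppR [HasPullbacks C] [HasEqualizers C]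
    [PreservesLimitsOfShape WalkingCospan u] [PreservesLimitsOfShape WalkingParallelPair u] :
    (uppR u 𝒮).HasRightCalculusOfFractions where
  exists_rightFraction := exists_rightFraction_uppR u 𝒮
  ext := ext_uppR u 𝒮

end Groth.Agent.Lib.Helper10.Upp
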