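import Mathlib
import Groth.Prelude.Def_W4stkalgstUpp
import Groth.Agent.Lib.Helper10.UppCalc

/-!
# The localisation `u_p 𝒮` is fibred over `D`

* `lam_sc`: the image in the localisation of the morphism `(𝟙 x, g) : (x, V', g ≫ φ) ⟶ (x, V, φ)`
  is strongly cartesian over `g`.
* `isFibered_up`, `isFibGrpd_up`.
-/

set_option autoImplicit false
set_option linter.style.haveILetI false
set_option backward.isDefEq.respectTransparency false
set_option backward.isDefEq.respectTransparency.types false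

universe v₃ u₃ v₂ u₂ v u

open CategoryTheory Functor CategoryTheory.Limits

namespace Groth.Agent.Lib.Helper10.Upp

open Groth.Agent.Lib.Helper10.Fib Stk

variable {C : Type u} [Category.{v} C] {D : Type u₂} [Category.{v₂} D] (u : C ⥤ D)
  (𝒮 : BasedCategory.{v₃, u₃} C)

/-- The localisation functor. -/
abbrev LL : UppObj u 𝒮 ⥤ (uppR u 𝒮).Localization := (uppR u 𝒮).Q

/-- The structure functor of the localisation. -/
noncomputable abbrev PL : (uppR u 𝒮).Localization ⥤ D :=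
  Localization.Construction.lift (UppObj.forget u 𝒮) (uppR_isInvertedBy u 𝒮)

lemma PL_map_LL {X Y : UppObj u 𝒮} (f : X ⟶ Y) : (PL u 𝒮).map ((LL u 𝒮).map f) = f.bot := by
  have := Functor.congr_hom
    (Localization.Construction.fac (UppObj.forget u 𝒮) (uppR_isInvertedBy u 𝒮)) f
  simpa using this

lemma isIso_LL {X Y : UppObj u 𝒮} (s : X ⟶ Y) (hs : uppR u 𝒮 s) : IsIso ((LL u 𝒮).map s) :=
  Localization.inverts (LL u 𝒮) (uppR u 𝒮) s hs

/-- The object `(x, V', g ≫ φ)`. -/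
def lamObj (X : UppObj u 𝒮) {V' : D} (g : V' ⟶ X.V) : UppObj u 𝒮 := ⟨X.x, V', g ≫ X.φ⟩

/-- The morphism `(𝟙 x, g) : (x, V', g ≫ φ) ⟶ (x, V, φ)`. -/
def lam (X : UppObj u 𝒮) {V' : D} (g : V' ⟶ X.V) : lamObj u 𝒮 X g ⟶ X :=
  ⟨𝟙 X.x, g, by
    show (g ≫ X.φ) ≫ u.map (𝒮.p.map (𝟙 X.x)) = g ≫ X.φ
    rw [𝒮.p.map_id, u.map_id, Category.comp_id]⟩

variable [𝒮.p.IsFibered] [HasPullbacks C] [HasEqualizers C]
  [PreservesLimitsOfShape WalkingCospan u] [PreservesLimitsOfShape WalkingParallelPair u]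

instance : (uppR u 𝒮).HasRightCalculusOfFractions := hasRightCalculusOfFractions_uppR u 𝒮

lemma exists_fraction {Z X : UppObj u 𝒮} (m : (LL u 𝒮).obj Z ⟶ (LL u 𝒮).obj X) :
    ∃ (Z' : UppObj u 𝒮) (s : Z' ⟶ Z) (_ : uppR u 𝒮 s) (f : Z' ⟶ X),
      (LL u 𝒮).map s ≫ m = (LL u 𝒮).map f := by
  obtain ⟨φ, hφ⟩ := Localization.exists_rightFraction (LL u 𝒮) (uppR u 𝒮) m
  refine ⟨φ.X', φ.s, φ.hs, φ.f, ?_⟩
  rw [hφ]
  exact MorphismProperty.RightFraction.map_s_comp_map φ (LL u 𝒮) _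

theorem lam_sc (X : UppObj u 𝒮) {V' : D} (g : V' ⟶ X.V) :
    (PL u 𝒮).IsStronglyCartesian g ((LL u 𝒮).map (lam u 𝒮 X g)) := by
  have hPl : (PL u 𝒮).map ((LL u 𝒮).map (lam u 𝒮 X g)) = g := PL_map_LL u 𝒮 (lam u 𝒮 X g)
  haveI : (PL u 𝒮).IsHomLift g ((LL u 𝒮).map (lam u 𝒮 X g)) := by
    apply IsHomLift.of_fac' (PL u 𝒮) g ((LL u 𝒮).map (lam u 𝒮 X g)) rfl rfl
    rw [hPl]
    simp
  apply sc_of_map (PL u 𝒮) g
  rw [sc_map_iff]
  intro c g' m hm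
  obtain ⟨Z, rfl⟩ := (Localization.Construction.objEquiv (uppR u 𝒮)).surjective c
  change (LL u 𝒮).obj Z ⟶ (LL u 𝒮).obj X at m
  change Z.V ⟶ V' at g'
  have hm' : (PL u 𝒮).map m = g' ≫ g := by rw [← hPl]; exact hm
  obtain ⟨Z', s, hs, f, hsf⟩ := exists_fraction u 𝒮 m
  haveI := isIso_LL u 𝒮 s hs
  haveI : IsIso s.bot := hs.2
  have hbot : f.bot = s.bot ≫ g' ≫ g := by
    have h1 := congrArg (fun t => (PL u 𝒮).map t) hsf
    simp only [Functor.map_comp] at h1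
    rw [PL_map_LL, PL_map_LL, hm'] at h1
    exact h1.symm
  let f' : Z' ⟶ lamObj u 𝒮 X g := ⟨f.top, s.bot ≫ g', by
    show Z'.φ ≫ u.map (𝒮.p.map f.top) = (s.bot ≫ g') ≫ (g ≫ X.φ)
    rw [f.w, hbot]
    simp only [Category.assoc]⟩
  have hfl : f' ≫ lam u 𝒮 X g = f := by
    apply UppObj.hom_ext
    · show f.top ≫ 𝟙 X.x = f.top
      exact Category.comp_id _
    · show (s.bot ≫ g') ≫ g = f.bot
      rw [hbot, Category.assoc]
  have hPinv : (PL u 𝒮).map (inv ((LL u 𝒮).map s)) = inv s.bot := by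
    rw [Functor.map_inv]
    congr 1
    exact PL_map_LL u 𝒮 s
  refine ⟨inv ((LL u 𝒮).map s) ≫ (LL u 𝒮).map f', ⟨?_, ?_⟩, ?_⟩
  · rw [Functor.map_comp, hPinv, PL_map_LL]
    show inv s.bot ≫ s.bot ≫ g' = g'
    rw [IsIso.inv_hom_id_assoc]
  · rw [Category.assoc, ← Functor.map_comp, hfl, ← hsf, IsIso.inv_hom_id_assoc]
  · rintro χ₂ ⟨h1, h2⟩
    have key : (LL u 𝒮).map s ≫ χ₂ = (LL u 𝒮).map f' := by
      obtain ⟨Z'', s₂, hs₂, f₂, hsf₂⟩ := exists_fraction u 𝒮 ((LL u 𝒮).map s ≫ χ₂)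
      haveI := isIso_LL u 𝒮 s₂ hs₂
      have hbot₂ : f₂.bot = s₂.bot ≫ s.bot ≫ g' := by
        have h3 := congrArg (fun t => (PL u 𝒮).map t) hsf₂
        simp only [Functor.map_comp] at h3
        rw [PL_map_LL, PL_map_LL, PL_map_LL, h1] at h3
        exact h3.symm
      have e1 : (LL u 𝒮).map (f₂ ≫ lam u 𝒮 X g) = (LL u 𝒮).map (s₂ ≫ f) := by
        rw [Functor.map_comp, ← hsf₂, Functor.map_comp, ← hsf]
        simp only [Category.assoc]
        rw [h2]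
      obtain ⟨Z₃, t, ht, e2⟩ :=
        (MorphismProperty.map_eq_iff_precomp (LL u 𝒮) (uppR u 𝒮) _ _).1 e1
      have e3 : t ≫ f₂ = t ≫ s₂ ≫ f' := by
        apply UppObj.hom_ext
        · have h4 := congrArg UppObj.Hom.top e2
          have h5 : t.top ≫ f₂.top ≫ 𝟙 X.x = t.top ≫ s₂.top ≫ f.top := h4
          have h6 : f₂.top ≫ 𝟙 X.x = f₂.top := Category.comp_id _
          exact (congrArg (fun k => t.top ≫ k) h6).symm.trans h5
        · show t.bot ≫ f₂.bot = t.bot ≫ s₂.bot ≫ s.bot ≫ g'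
          rw [hbot₂]
      have e4 : (LL u 𝒮).map f₂ = (LL u 𝒮).map (s₂ ≫ f') :=
        (MorphismProperty.map_eq_iff_precomp (LL u 𝒮) (uppR u 𝒮) _ _).2 ⟨Z₃, t, ht, e3⟩
      rw [← cancel_epi ((LL u 𝒮).map s₂), hsf₂, e4, Functor.map_comp]
    rw [← cancel_epi ((LL u 𝒮).map s), key, IsIso.hom_inv_id_assoc]

theorem isFibered_up : (PL u 𝒮).IsFibered := by
  apply Functor.IsFibered.of_exists_isStronglyCartesian
  intro a R f
  obtain ⟨X, rfl⟩ := (Localization.Construction.objEquiv (uppR u 𝒮)).surjective a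
  exact ⟨(LL u 𝒮).obj (lamObj u 𝒮 X f), (LL u 𝒮).map (lam u 𝒮 X f), lam_sc u 𝒮 X f⟩

lemma sc_map_iso_comp {𝒳 : Type*} [Category 𝒳] {ℬ : Type*} [Category ℬ] (p : 𝒳 ⥤ ℬ)
    {a b c : 𝒳} (e : a ⟶ b) [IsIso e] (l : b ⟶ c)
    (h : p.IsStronglyCartesian (p.map l) l) :
    p.IsStronglyCartesian (p.map (e ≫ l)) (e ≫ l) := by
  rw [sc_map_iff] at h ⊢
  intro d g φ' hφ'
  obtain ⟨χ, ⟨h1, h2⟩, h3⟩ := h (g ≫ p.map e) φ' (by
    rw [hφ', Functor.map_comp, Category.assoc])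
  refine ⟨χ ≫ inv e, ⟨?_, ?_⟩, ?_⟩
  · rw [Functor.map_comp, h1, Category.assoc, ← Functor.map_comp, IsIso.hom_inv_id,
      p.map_id, Category.comp_id]
  · rw [Category.assoc, IsIso.inv_hom_id_assoc, h2]
  · rintro χ' ⟨h1', h2'⟩
    have h4 := h3 (χ' ≫ e) ⟨by rw [Functor.map_comp, h1'], by rw [Category.assoc, h2']⟩
    rw [← h4, Category.assoc, IsIso.hom_inv_id, Category.comp_id]

theorem isFibGrpd_up (h𝒮 : FibCat.IsFibGrpd 𝒮.p) : FibCat.IsFibGrpd (PL u 𝒮) where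
  exists_lift := by
    intro a V f
    obtain ⟨X, rfl⟩ := (Localization.Construction.objEquiv (uppR u 𝒮)).surjective a
    haveI := lam_sc u 𝒮 X f
    exact ⟨(LL u 𝒮).obj (lamObj u 𝒮 X f), (LL u 𝒮).map (lam u 𝒮 X f), inferInstance⟩
  isStronglyCartesian := by
    intro c a m
    obtain ⟨Z, rfl⟩ := (Localization.Construction.objEquiv (uppR u 𝒮)).surjective c
    obtain ⟨X, rfl⟩ := (Localization.Construction.objEquiv (uppR u 𝒮)).surjective a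
    change (LL u 𝒮).obj Z ⟶ (LL u 𝒮).obj X at m
    obtain ⟨Z', s, hs, f, hsf⟩ := exists_fraction u 𝒮 m
    haveI := isIso_LL u 𝒮 s hs
    let f₁ : Z' ⟶ lamObj u 𝒮 X f.bot := ⟨f.top, 𝟙 _, by
      show Z'.φ ≫ u.map (𝒮.p.map f.top) = 𝟙 _ ≫ (f.bot ≫ X.φ)
      rw [Category.id_comp, f.w]⟩
    have hf₁ : uppR u 𝒮 f₁ :=
      ⟨h𝒮.isStronglyCartesian f.top, by show IsIso (𝟙 Z'.V); infer_instance⟩
    haveI := isIso_LL u 𝒮 f₁ hf₁
    have hfl : f₁ ≫ lam u 𝒮 X f.bot = f := by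
      apply UppObj.hom_ext
      · show f.top ≫ 𝟙 X.x = f.top
        exact Category.comp_id _
      · show 𝟙 _ ≫ f.bot = f.bot
        exact Category.id_comp _
    have hm : m = (inv ((LL u 𝒮).map s) ≫ (LL u 𝒮).map f₁) ≫
        (LL u 𝒮).map (lam u 𝒮 X f.bot) := by
      rw [Category.assoc, ← Functor.map_comp, hfl, ← hsf, IsIso.inv_hom_id_assoc]
    haveI := lam_sc u 𝒮 X f.bot
    have hl := sc_map (PL u 𝒮) f.bot ((LL u 𝒮).map (lam u 𝒮 X f.bot))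
    rw [hm]
    exact sc_map_iso_comp (PL u 𝒮) _ _ hl

end Groth.Agent.Lib.Helper10.Upp
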