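import Mathlib

/-!
# Lifting valuation rings along flat morphisms

* `flat_fromSpecStalk`: `Spec 𝒪_{X,x} ⟶ X` is flat.
* `exists_valuationRing_lift_of_flat`: for a flat morphism `g : T ⟶ Spec A` to the spectrum of a
  valuation ring and a point `τ` over the closed point there are an extension of valuation rings
  `A ⟶ A'` and a morphism `Spec A' ⟶ T` over `Spec A`.
-/

set_option autoImplicit false

universe u

open CategoryTheory AlgebraicGeometry IsLocalRing

namespace H10PT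

theorem flat_fromSpecStalk (X : Scheme.{u}) (x : X) : Flat (X.fromSpecStalk x) := by
  obtain ⟨_, ⟨U, hU, rfl⟩, hxU, -⟩ :=
    X.isBasis_affineOpens.exists_subset_of_mem_open (Set.mem_univ x) isOpen_univ
  rw [← hU.fromSpecStalk_eq_fromSpecStalk hxU, IsAffineOpen.fromSpecStalk]
  haveI : Flat (Spec.map (X.presheaf.germ U x hxU)) := by
    rw [Flat.SpecMap_iff]
    letI : Algebra Γ(X, U) (X.presheaf.stalk x) := (X.presheaf.germ U x hxU).hom.toAlgebra
    haveI := hU.isLocalization_stalk ⟨x, hxU⟩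
    exact IsLocalization.flat (X.presheaf.stalk x) (hU.primeIdealOf ⟨x, hxU⟩).asIdeal.primeCompl
  infer_instance

theorem exists_valuationRing_lift_of_flat {T : Scheme.{u}} (A : Type u) [CommRing A] [IsDomain A]
    [ValuationRing A] (g : T ⟶ Spec (CommRingCat.of A)) [Flat g] (τ : T)
    (hτ : g τ = closedPoint A) :
    ∃ (A' : Type u) (_ : CommRing A') (_ : IsDomain A') (_ : ValuationRing A') (φ : A →+* A'),
      Function.Injective φ ∧ IsLocalHom φ ∧
      ∃ k : Spec (CommRingCat.of A') ⟶ T, k ≫ g = Spec.map (CommRingCat.ofHom φ) := by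
  haveI := flat_fromSpecStalk T τ
  obtain ⟨ψ, hψ⟩ : ∃ ψ : CommRingCat.of A ⟶ T.presheaf.stalk τ,
      Spec.map ψ = T.fromSpecStalk τ ≫ g := ⟨Spec.preimage _, Spec.map_preimage _⟩
  have hflat : ψ.hom.Flat := by
    rw [← Flat.SpecMap_iff, hψ]
    infer_instance
  have hloc : IsLocalHom ψ.hom := by
    rw [isLocalHom_iff_comap_closedPoint]
    have h1 : Spec.map ψ (closedPoint (T.presheaf.stalk τ)) = closedPoint A := by
      rw [hψ, Scheme.Hom.comp_apply, Scheme.fromSpecStalk_closedPoint, hτ]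
    exact h1
  letI : Algebra A (T.presheaf.stalk τ) := ψ.hom.toAlgebra
  haveI : Module.Flat A (T.presheaf.stalk τ) := hflat
  haveI : IsLocalHom (algebraMap A (T.presheaf.stalk τ)) := hloc
  haveI : Module.FaithfullyFlat A (T.presheaf.stalk τ) :=
    Module.FaithfullyFlat.of_flat_of_isLocalHom
  obtain ⟨𝔮, h𝔮⟩ := PrimeSpectrum.comap_surjective_of_faithfullyFlat (A := A)
    (B := T.presheaf.stalk τ) (⟨⊥, Ideal.isPrime_bot⟩ : PrimeSpectrum A)
  have hq' : Ideal.comap (algebraMap A (T.presheaf.stalk τ)) 𝔮.asIdeal = ⊥ :=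
    congrArg PrimeSpectrum.asIdeal h𝔮
  haveI := 𝔮.isPrime
  obtain ⟨V, hV, hVloc⟩ := IsLocalRing.exists_factor_valuationRing
    ((algebraMap (T.presheaf.stalk τ ⧸ 𝔮.asIdeal)
      (FractionRing (T.presheaf.stalk τ ⧸ 𝔮.asIdeal))).comp (Ideal.Quotient.mk 𝔮.asIdeal))
  refine ⟨V, inferInstance, inferInstance, inferInstance,
    (((algebraMap (T.presheaf.stalk τ ⧸ 𝔮.asIdeal)
      (FractionRing (T.presheaf.stalk τ ⧸ 𝔮.asIdeal))).comp
        (Ideal.Quotient.mk 𝔮.asIdeal)).codRestrict V.toSubring hV).comp ψ.hom, ?_, ?_, ?_⟩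
  · rw [injective_iff_map_eq_zero]
    intro a ha
    have h1 : algebraMap (T.presheaf.stalk τ ⧸ 𝔮.asIdeal)
        (FractionRing (T.presheaf.stalk τ ⧸ 𝔮.asIdeal))
        (Ideal.Quotient.mk 𝔮.asIdeal (ψ.hom a)) = 0 := congrArg Subtype.val ha
    have h2 : Ideal.Quotient.mk 𝔮.asIdeal (ψ.hom a) = 0 :=
      (IsFractionRing.injective (T.presheaf.stalk τ ⧸ 𝔮.asIdeal)
        (FractionRing (T.presheaf.stalk τ ⧸ 𝔮.asIdeal))) (by rw [map_zero]; exact h1)
    rw [Ideal.Quotient.eq_zero_iff_mem] at h2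
    have h3 : a ∈ Ideal.comap (algebraMap A (T.presheaf.stalk τ)) 𝔮.asIdeal := h2
    rw [hq'] at h3
    exact h3
  · haveI := hVloc
    exact RingHom.isLocalHom_comp _ _
  · refine ⟨Spec.map (CommRingCat.ofHom (((algebraMap (T.presheaf.stalk τ ⧸ 𝔮.asIdeal)
      (FractionRing (T.presheaf.stalk τ ⧸ 𝔮.asIdeal))).comp
        (Ideal.Quotient.mk 𝔮.asIdeal)).codRestrict V.toSubring hV)) ≫ T.fromSpecStalk τ, ?_⟩
    rw [Category.assoc, ← hψ, ← Spec.map_comp]
    rfl

end H10PT
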