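import Mathlib
import Groth.Agent.Lib.Helper10.MD3

/-!
# Helper library (helper10): element formulas for the pseudofunctor of modules over `W(R)`, for a functor `W`
on commutative rings
-/

set_option autoImplicit false
universe u
open CategoryTheory CategoryTheory.Limits Opposite Bicategory TensorProduct ModuleCat
open ChangeOfRings

namespace H10PT.WD

open Pseudofunctor LocallyDiscreteOpToCat H10PT.MD

variable (W : CommRingCat.{u} ⥤ CommRingCat.{u})

/-- the pseudofunctor `R ↦ Mod (W R)` -/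
noncomputable def PFW : Pseudofunctor (LocallyDiscrete (CommRingCat.{u}ᵒᵖ)ᵒᵖ) Cat.{u, u + 1} :=
  ((unopUnop CommRingCat.{u}) ⋙ W).toPseudofunctor.comp
    CommRingCat.moduleCatExtendScalarsPseudofunctor.{u}

set_option backward.isDefEq.respectTransparency false in
/-- the 2-cell attached to an equality of ring maps acts as the identity on pure tensors -/
lemma map₂_eqToHom_tmul {A C : CommRingCat.{u}}
    (X Y : (⟨A⟩ : LocallyDiscrete CommRingCat.{u}) ⟶ ⟨C⟩) (e : X = Y)
    (M : ModuleCat.{u} A) (t : C) (m : M) :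
    ((CommRingCat.moduleCatExtendScalarsPseudofunctor.{u}.map₂ (eqToHom e)).toNatTrans.app M).hom
      (t ⊗ₜ[A, X.as.hom] m) = (t ⊗ₜ[A, Y.as.hom] m : (extendScalars Y.as.hom).obj M) := by
  subst e
  rw [eqToHom_refl, PrelaxFunctor.map₂_id]
  rfl

set_option backward.isDefEq.respectTransparency false in
lemma mapComp'_hom_one_tmul {A B C : CommRingCat.{u}} (a : A ⟶ B) (b : B ⟶ C) (c : A ⟶ C)
    (h : a ≫ b = c) (M : ModuleCat.{u} (W.obj A)) (m : M) :
    (((PFW W).mapComp' (mo a).op.toLoc (mo b).op.toLoc (mo c).op.toLoc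
        (toLoc_comp_eq a b c h)).hom.toNatTrans.app M).hom
      ((1 : W.obj C) ⊗ₜ[W.obj A, (W.map c).hom] m) =
      (1 : W.obj C) ⊗ₜ[W.obj B, (W.map b).hom] ((1 : W.obj B) ⊗ₜ[W.obj A, (W.map a).hom] m) := by
  subst h
  show (((PFW W).mapComp' (mo a).op.toLoc (mo b).op.toLoc
    ((mo a).op.toLoc ≫ (mo b).op.toLoc) rfl).hom.toNatTrans.app M).hom _ = _
  rw [Pseudofunctor.mapComp'_eq_mapComp]
  have h := extendScalarsComp_hom_app_one_tmul (W.map a).hom (W.map b).hom M m
  have e : (((unopUnop CommRingCat.{u}) ⋙ W).toPseudofunctor.map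
      ((mo a).op.toLoc ≫ (mo b).op.toLoc)) =
      (((unopUnop CommRingCat.{u}) ⋙ W).toPseudofunctor.map (mo a).op.toLoc) ≫
      (((unopUnop CommRingCat.{u}) ⋙ W).toPseudofunctor.map (mo b).op.toLoc) :=
    LocallyDiscrete.eq_of_hom ((((unopUnop CommRingCat.{u}) ⋙ W).toPseudofunctor.mapComp
      (mo a).op.toLoc (mo b).op.toLoc)).hom
  have h2 := map₂_eqToHom_tmul _ _ e M (1 : W.obj C) m
  refine Eq.trans ?_ h
  refine Eq.trans ?_ (congrArg _ h2)
  rfl

set_option backward.isDefEq.respectTransparency false in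
lemma mapComp'_inv_one_tmul {A B C : CommRingCat.{u}} (a : A ⟶ B) (b : B ⟶ C) (c : A ⟶ C)
    (h : a ≫ b = c) (M : ModuleCat.{u} (W.obj A)) (m : M) :
    (((PFW W).mapComp' (mo a).op.toLoc (mo b).op.toLoc (mo c).op.toLoc
        (toLoc_comp_eq a b c h)).inv.toNatTrans.app M).hom
      ((1 : W.obj C) ⊗ₜ[W.obj B, (W.map b).hom] ((1 : W.obj B) ⊗ₜ[W.obj A, (W.map a).hom] m)) =
      (1 : W.obj C) ⊗ₜ[W.obj A, (W.map c).hom] m := by
  rw [← mapComp'_hom_one_tmul W a b c h M m]
  have := Cat.Hom.hom_inv_id_toNatTrans_app ((PFW W).mapComp' (mo a).op.toLoc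
    (mo b).op.toLoc (mo c).op.toLoc (toLoc_comp_eq a b c h)) M
  exact congrArg (fun k => k.hom ((1 : W.obj C) ⊗ₜ[W.obj A, (W.map c).hom] m)) this

end H10PT.WD
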