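import Mathlib
import Groth.Agent.Lib.Helper10.WD1

/-!
# Helper library (helper10): base change of elements for the pseudofunctor `PFW W`
-/

set_option autoImplicit false
universe u
open CategoryTheory CategoryTheory.Limits Opposite Bicategory TensorProduct ModuleCat
open ChangeOfRings

namespace H10PT.WD

open Pseudofunctor LocallyDiscreteOpToCat H10PT.MD

variable (W : CommRingCat.{u} ⥤ CommRingCat.{u})

section bc

variable {S A B : CommRingCat.{u}} (N : ModuleCat.{u} (W.obj S))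
  (g : A ⟶ B) (a : S ⟶ A) (a' : S ⟶ B) (e : a ≫ g = a')

set_option backward.isDefEq.respectTransparency false in
/-- base change of elements along `g` -/
noncomputable def bcW : ((extendScalars (W.map a).hom).obj N) →+ ((extendScalars (W.map a').hom).obj N) :=
  AddMonoidHom.mk' (fun w =>
    (((PFW W).mapComp' (mo a).op.toLoc (mo g).op.toLoc (mo a').op.toLoc
        (toLoc_comp_eq a g a' e)).inv.toNatTrans.app N).hom ((1 : W.obj B) ⊗ₜ[W.obj A, (W.map g).hom] w))
    (fun w w' => by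
      have : ((1 : W.obj B) ⊗ₜ[W.obj A, (W.map g).hom] (w + w') :
          (extendScalars (W.map g).hom).obj ((extendScalars (W.map a).hom).obj N)) =
          (1 : W.obj B) ⊗ₜ[W.obj A, (W.map g).hom] w + (1 : W.obj B) ⊗ₜ[W.obj A, (W.map g).hom] w' :=
        TensorProduct.tmul_add _ _ _
      rw [this, map_add])

set_option backward.isDefEq.respectTransparency false in
lemma bcW_apply (w : (extendScalars (W.map a).hom).obj N) :
    bcW W N g a a' e w = (((PFW W).mapComp' (mo a).op.toLoc (mo g).op.toLoc (mo a').op.toLoc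
        (toLoc_comp_eq a g a' e)).inv.toNatTrans.app N).hom
          ((1 : W.obj B) ⊗ₜ[W.obj A, (W.map g).hom] w) := rfl

set_option backward.isDefEq.respectTransparency false in
lemma bcW_tmul (t : W.obj A) (n : N) :
    bcW W N g a a' e (t ⊗ₜ[W.obj S, (W.map a).hom] n) =
      (((W.map g).hom t) ⊗ₜ[W.obj S, (W.map a').hom] n : (extendScalars (W.map a').hom).obj N) := by
  have h1 : (t ⊗ₜ[W.obj S, (W.map a).hom] n : (extendScalars (W.map a).hom).obj N) =
      t • ((1 : W.obj A) ⊗ₜ[W.obj S, (W.map a).hom] n) := by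
    rw [ExtendScalars.smul_tmul, mul_one]
  have h2 := one_tmul_smul (W.map g).hom ((extendScalars (W.map a).hom).obj N) t
    ((1 : W.obj A) ⊗ₜ[W.obj S, (W.map a).hom] n)
  have h3 := mapComp'_inv_one_tmul W a g a' e N n
  let I := (((PFW W).mapComp' (mo a).op.toLoc (mo g).op.toLoc (mo a').op.toLoc
        (toLoc_comp_eq a g a' e)).inv.toNatTrans.app N).hom
  show I ((1 : W.obj B) ⊗ₜ[W.obj A, (W.map g).hom] (t ⊗ₜ[W.obj S, (W.map a).hom] n)) = _
  have e1 : I ((1 : W.obj B) ⊗ₜ[W.obj A, (W.map g).hom] (t ⊗ₜ[W.obj S, (W.map a).hom] n)) =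
      I ((W.map g).hom t • ((1 : W.obj B) ⊗ₜ[W.obj A, (W.map g).hom]
        ((1 : W.obj A) ⊗ₜ[W.obj S, (W.map a).hom] n))) := by
    rw [← h2, ← h1]
  have e2 : I ((W.map g).hom t • ((1 : W.obj B) ⊗ₜ[W.obj A, (W.map g).hom]
        ((1 : W.obj A) ⊗ₜ[W.obj S, (W.map a).hom] n))) =
      (W.map g).hom t • I ((1 : W.obj B) ⊗ₜ[W.obj A, (W.map g).hom]
        ((1 : W.obj A) ⊗ₜ[W.obj S, (W.map a).hom] n)) := map_smul I _ _
  have e3 : (W.map g).hom t • I ((1 : W.obj B) ⊗ₜ[W.obj A, (W.map g).hom]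
        ((1 : W.obj A) ⊗ₜ[W.obj S, (W.map a).hom] n)) =
      (W.map g).hom t • ((1 : W.obj B) ⊗ₜ[W.obj S, (W.map a').hom] n :
        (extendScalars (W.map a').hom).obj N) := congrArg _ h3
  rw [e1, e2, e3, ExtendScalars.smul_tmul, mul_one]

end bc

end H10PT.WD
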