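import Mathlib
import Groth.Agent.Lib.Helper10.WD2

/-!
# Helper library (helper10): morphisms of canonical descent data for the pseudofunctor `PFW W`
-/

set_option autoImplicit false
universe u
open CategoryTheory CategoryTheory.Limits Opposite Bicategory TensorProduct ModuleCat
open ChangeOfRings

namespace H10PT.WD

open Pseudofunctor LocallyDiscreteOpToCat H10PT.MD

variable (W : CommRingCat.{u} ⥤ CommRingCat.{u})

section

variable {R₀ R₁ : CommRingCat.{u}} (f : R₀ ⟶ R₁)

set_option backward.isDefEq.respectTransparency false in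
lemma comm_of_homW (M N : ModuleCat.{u} (W.obj R₀))
    (Ψ : ((PFW W).toDescentData (fun _ : PUnit.{u + 1} => f.op)).obj M ⟶
      ((PFW W).toDescentData (fun _ : PUnit.{u + 1} => f.op)).obj N)
    {T : CommRingCat.{u}} (q : R₀ ⟶ T) (a₁ a₂ : R₁ ⟶ T) (h₁ : f ≫ a₁ = q) (h₂ : f ≫ a₂ = q) :
    (extendScalars (W.map a₁).hom).map (show (extendScalars (W.map f).hom).obj M ⟶
        (extendScalars (W.map f).hom).obj N from Ψ.hom PUnit.unit) ≫
      (((PFW W).mapComp' (mo f).op.toLoc (mo a₁).op.toLoc (mo q).op.toLoc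
          (toLoc_comp_eq f a₁ q h₁)).inv.toNatTrans.app N ≫
       ((PFW W).mapComp' (mo f).op.toLoc (mo a₂).op.toLoc (mo q).op.toLoc
          (toLoc_comp_eq f a₂ q h₂)).hom.toNatTrans.app N) =
      (((PFW W).mapComp' (mo f).op.toLoc (mo a₁).op.toLoc (mo q).op.toLoc
          (toLoc_comp_eq f a₁ q h₁)).inv.toNatTrans.app M ≫
       ((PFW W).mapComp' (mo f).op.toLoc (mo a₂).op.toLoc (mo q).op.toLoc
          (toLoc_comp_eq f a₂ q h₂)).hom.toNatTrans.app M) ≫
        (extendScalars (W.map a₂).hom).map (show (extendScalars (W.map f).hom).obj M ⟶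
          (extendScalars (W.map f).hom).obj N from Ψ.hom PUnit.unit) :=
  Ψ.comm (Y := op T) (i₁ := PUnit.unit) (i₂ := PUnit.unit) q.op a₁.op a₂.op
    (by rw [← op_comp, h₁]) (by rw [← op_comp, h₂])

end

end H10PT.WD
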