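import Mathlib
import Groth.Agent.Lib.Helper10.WD3

/-!
# Helper library (helper10): full faithfulness criterion for the descent-data functor of `PFW W`
-/

set_option autoImplicit false
universe u
open CategoryTheory CategoryTheory.Limits Opposite Bicategory TensorProduct ModuleCat
open ChangeOfRings

namespace H10PT.WD

open Pseudofunctor LocallyDiscreteOpToCat H10PT.MD

variable (W : CommRingCat.{u} ⥤ CommRingCat.{u})

section

variable {R₀ R₁ : CommRingCat.{u}} (f : R₀ ⟶ R₁)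

set_option backward.isDefEq.respectTransparency false in
lemma bc_eq_of_hom (M N : ModuleCat.{u} (W.obj R₀))
    (Ψ : ((PFW W).toDescentData (fun _ : PUnit.{u + 1} => f.op)).obj M ⟶
      ((PFW W).toDescentData (fun _ : PUnit.{u + 1} => f.op)).obj N)
    {T : CommRingCat.{u}} (q : R₀ ⟶ T) (a₁ a₂ : R₁ ⟶ T) (h₁ : f ≫ a₁ = q) (h₂ : f ≫ a₂ = q) (m : M) :
    bcW W N a₁ f q h₁ ((show (extendScalars (W.map f).hom).obj M ⟶
        (extendScalars (W.map f).hom).obj N from Ψ.hom PUnit.unit).hom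
          ((1 : W.obj R₁) ⊗ₜ[W.obj R₀, (W.map f).hom] m)) =
    bcW W N a₂ f q h₂ ((show (extendScalars (W.map f).hom).obj M ⟶
        (extendScalars (W.map f).hom).obj N from Ψ.hom PUnit.unit).hom
          ((1 : W.obj R₁) ⊗ₜ[W.obj R₀, (W.map f).hom] m)) := by
  let ψ : (extendScalars (W.map f).hom).obj M ⟶ (extendScalars (W.map f).hom).obj N :=
    Ψ.hom PUnit.unit
  have hx := congrArg (fun k => k.hom ((1 : W.obj T) ⊗ₜ[W.obj R₁, (W.map a₁).hom]
    ((1 : W.obj R₁) ⊗ₜ[W.obj R₀, (W.map f).hom] m))) (comm_of_homW W f M N Ψ q a₁ a₂ h₁ h₂)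
  have hx' : (((PFW W).mapComp' (mo f).op.toLoc (mo a₂).op.toLoc (mo q).op.toLoc
          (toLoc_comp_eq f a₂ q h₂)).hom.toNatTrans.app N).hom
      ((((PFW W).mapComp' (mo f).op.toLoc (mo a₁).op.toLoc (mo q).op.toLoc
          (toLoc_comp_eq f a₁ q h₁)).inv.toNatTrans.app N).hom
        ((1 : W.obj T) ⊗ₜ[W.obj R₁, (W.map a₁).hom]
          (ψ.hom ((1 : W.obj R₁) ⊗ₜ[W.obj R₀, (W.map f).hom] m)))) =
      ((extendScalars (W.map a₂).hom).map ψ).hom
        ((((PFW W).mapComp' (mo f).op.toLoc (mo a₂).op.toLoc (mo q).op.toLoc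
          (toLoc_comp_eq f a₂ q h₂)).hom.toNatTrans.app M).hom
          ((((PFW W).mapComp' (mo f).op.toLoc (mo a₁).op.toLoc (mo q).op.toLoc
          (toLoc_comp_eq f a₁ q h₁)).inv.toNatTrans.app M).hom
            ((1 : W.obj T) ⊗ₜ[W.obj R₁, (W.map a₁).hom]
              ((1 : W.obj R₁) ⊗ₜ[W.obj R₀, (W.map f).hom] m)))) := hx
  rw [mapComp'_inv_one_tmul W f a₁ q h₁ M m, mapComp'_hom_one_tmul W f a₂ q h₂ M m,
    ExtendScalars.map_tmul] at hx'
  have h6 := Cat.Hom.hom_inv_id_toNatTrans_app ((PFW W).mapComp' (mo f).op.toLoc (mo a₂).op.toLoc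
    (mo q).op.toLoc (toLoc_comp_eq f a₂ q h₂)) N
  have h7 := congrArg (fun k => k.hom (bcW W N a₁ f q h₁
    (ψ.hom ((1 : W.obj R₁) ⊗ₜ[W.obj R₀, (W.map f).hom] m)))) h6
  have h5 := congrArg (fun z => (((PFW W).mapComp' (mo f).op.toLoc (mo a₂).op.toLoc (mo q).op.toLoc
          (toLoc_comp_eq f a₂ q h₂)).inv.toNatTrans.app N).hom z) hx'
  exact h7.symm.trans h5

end

end H10PT.WD
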