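import Mathlib
import Groth.Agent.Lib.Helper10.WD4

/-!
# Helper library (helper10): full faithfulness criterion for the descent-data functor of `PFW W`, II
-/

set_option autoImplicit false
universe u
open CategoryTheory CategoryTheory.Limits Opposite Bicategory TensorProduct ModuleCat
open ChangeOfRings

namespace H10PT.WD

open Pseudofunctor LocallyDiscreteOpToCat H10PT.MD

variable (W : CommRingCat.{u} ⥤ CommRingCat.{u})

section

variable {R₀ R₁ T : CommRingCat.{u}} (f : R₀ ⟶ R₁) (i1 i2 : R₁ ⟶ T) (hq : f ≫ i2 = f ≫ i1)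

set_option backward.isDefEq.respectTransparency false in
theorem toDD_map_bijective (M N : ModuleCat.{u} (W.obj R₀))
    (hinj : ∀ n : N, ((1 : W.obj R₁) ⊗ₜ[W.obj R₀, (W.map f).hom] n :
      (extendScalars (W.map f).hom).obj N) = 0 → n = 0)
    (hex : ∀ x : (extendScalars (W.map f).hom).obj N,
      bcW W N i1 f (f ≫ i1) rfl x = bcW W N i2 f (f ≫ i1) hq x →
        ∃ n : N, x = ((1 : W.obj R₁) ⊗ₜ[W.obj R₀, (W.map f).hom] n :
          (extendScalars (W.map f).hom).obj N)) :
    Function.Bijective (fun φ : M ⟶ N =>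
      ((PFW W).toDescentData (fun _ : PUnit.{u + 1} => f.op)).map φ) := by
  have hinj' : ∀ n n' : N, ((1 : W.obj R₁) ⊗ₜ[W.obj R₀, (W.map f).hom] n :
      (extendScalars (W.map f).hom).obj N) = (1 : W.obj R₁) ⊗ₜ[W.obj R₀, (W.map f).hom] n' →
      n = n' := by
    intro n n' h
    apply sub_eq_zero.mp
    apply hinj
    have : ((1 : W.obj R₁) ⊗ₜ[W.obj R₀, (W.map f).hom] (n - n') :
        (extendScalars (W.map f).hom).obj N) =
        (1 : W.obj R₁) ⊗ₜ[W.obj R₀, (W.map f).hom] n -
          (1 : W.obj R₁) ⊗ₜ[W.obj R₀, (W.map f).hom] n' := TensorProduct.tmul_sub _ _ _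
    rw [this, h, sub_self]
  constructor
  · intro φ φ' h
    have h1 : (extendScalars (W.map f).hom).map φ = (extendScalars (W.map f).hom).map φ' :=
      congrArg (fun k => DescentData.Hom.hom k PUnit.unit) h
    apply ModuleCat.hom_ext
    apply LinearMap.ext
    intro m
    have h2 := congrArg (fun k => k.hom ((1 : W.obj R₁) ⊗ₜ[W.obj R₀, (W.map f).hom] m)) h1
    exact hinj' _ _ h2
  · intro Ψ
    let ψ : (extendScalars (W.map f).hom).obj M ⟶ (extendScalars (W.map f).hom).obj N :=
      Ψ.hom PUnit.unit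
    have key : ∀ m : M, ∃ n : N, ψ.hom ((1 : W.obj R₁) ⊗ₜ[W.obj R₀, (W.map f).hom] m) =
        ((1 : W.obj R₁) ⊗ₜ[W.obj R₀, (W.map f).hom] n : (extendScalars (W.map f).hom).obj N) :=
      fun m => hex _ (bc_eq_of_hom W f M N Ψ (f ≫ i1) i1 i2 rfl hq m)
    choose φ₀ hφ₀ using key
    let φ : M ⟶ N := ModuleCat.ofHom
      { toFun := φ₀
        map_add' := fun m m' => by
          apply hinj'
          rw [← hφ₀]
          have e1 : ((1 : W.obj R₁) ⊗ₜ[W.obj R₀, (W.map f).hom] (m + m') :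
              (extendScalars (W.map f).hom).obj M) =
              (1 : W.obj R₁) ⊗ₜ[W.obj R₀, (W.map f).hom] m +
                (1 : W.obj R₁) ⊗ₜ[W.obj R₀, (W.map f).hom] m' := TensorProduct.tmul_add _ _ _
          have e2 : ((1 : W.obj R₁) ⊗ₜ[W.obj R₀, (W.map f).hom] (φ₀ m + φ₀ m') :
              (extendScalars (W.map f).hom).obj N) =
              (1 : W.obj R₁) ⊗ₜ[W.obj R₀, (W.map f).hom] (φ₀ m) +
                (1 : W.obj R₁) ⊗ₜ[W.obj R₀, (W.map f).hom] (φ₀ m') := TensorProduct.tmul_add _ _ _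
          rw [e1, map_add, hφ₀, hφ₀, e2]
        map_smul' := fun r m => by
          apply hinj'
          rw [← hφ₀, RingHom.id_apply, one_tmul_smul (W.map f).hom M r m, map_smul, hφ₀,
            one_tmul_smul (W.map f).hom N r (φ₀ m)] }
    refine ⟨φ, ?_⟩
    apply DescentData.hom_ext
    intro i
    apply ExtendScalars.hom_ext
    intro m
    exact (hφ₀ m).symm

end

end H10PT.WD
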