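import Mathlib
import Groth.Agent.Lib.Helper10.WD5
import Groth.Agent.Lib.Helper10.MD4

/-!
# Helper library (helper10): from an exact Amitsur-type sequence to the hypotheses of `toDD_map_bijective`
-/

set_option autoImplicit false
universe u
open CategoryTheory CategoryTheory.Limits Opposite Bicategory TensorProduct ModuleCat
open ChangeOfRings

namespace H10PT.WD

open Pseudofunctor LocallyDiscreteOpToCat H10PT.MD

variable (W : CommRingCat.{u} ⥤ CommRingCat.{u})

section

variable {R₀ R₁ T : CommRingCat.{u}} (f : R₀ ⟶ R₁) (i1 i2 : R₁ ⟶ T) (hq : f ≫ i2 = f ≫ i1)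
  (N : ModuleCat.{u} (W.obj R₀))
  [Algebra (W.obj R₀) (W.obj R₁)] (h₁ : algebraMap (W.obj R₀) (W.obj R₁) = (W.map f).hom)
  [Algebra (W.obj R₀) (W.obj T)] (h₂ : algebraMap (W.obj R₀) (W.obj T) = (W.map (f ≫ i1)).hom)

include h₁ in
set_option backward.isDefEq.respectTransparency false in
/-- `b ⊗ n ↦ n ⊗ b` -/
noncomputable def sw : ((extendScalars (W.map f).hom).obj N) →+ (N ⊗[W.obj R₀] (W.obj R₁)) :=
  liftES (W.map f).hom N
    (AddMonoidHom.mk' (fun b : W.obj R₁ => AddMonoidHom.mk'
      (fun n : N => n ⊗ₜ[W.obj R₀] b) (fun n n' => TensorProduct.add_tmul _ _ _))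
      (fun b b' => by
        ext n
        exact TensorProduct.tmul_add _ _ _))
    (fun s t n => by
      show n ⊗ₜ[W.obj R₀] ((W.map f).hom s * t) = (s • n) ⊗ₜ[W.obj R₀] t
      rw [TensorProduct.smul_tmul, Algebra.smul_def, h₁])

set_option backward.isDefEq.respectTransparency false in
lemma sw_tmul (b : W.obj R₁) (n : N) :
    sw W f N h₁ (b ⊗ₜ[W.obj R₀, (W.map f).hom] n) = n ⊗ₜ[W.obj R₀] b := rfl

include h₂ in
set_option backward.isDefEq.respectTransparency false in
/-- `c ⊗ n ↦ n ⊗ c` -/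
noncomputable def swC : ((extendScalars (W.map (f ≫ i1)).hom).obj N) →+ (N ⊗[W.obj R₀] (W.obj T)) :=
  liftES (W.map (f ≫ i1)).hom N
    (AddMonoidHom.mk' (fun b : W.obj T => AddMonoidHom.mk'
      (fun n : N => n ⊗ₜ[W.obj R₀] b) (fun n n' => TensorProduct.add_tmul _ _ _))
      (fun b b' => by
        ext n
        exact TensorProduct.tmul_add _ _ _))
    (fun s t n => by
      show n ⊗ₜ[W.obj R₀] ((W.map (f ≫ i1)).hom s * t) = (s • n) ⊗ₜ[W.obj R₀] t
      rw [TensorProduct.smul_tmul, Algebra.smul_def, h₂])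

set_option backward.isDefEq.respectTransparency false in
lemma swC_tmul (c : W.obj T) (n : N) :
    swC W f i1 N h₂ (c ⊗ₜ[W.obj R₀, (W.map (f ≫ i1)).hom] n) = n ⊗ₜ[W.obj R₀] c := rfl

include h₁ in
set_option backward.isDefEq.respectTransparency false in
/-- `n ⊗ b ↦ b ⊗ n` -/
noncomputable def sw2 : (N ⊗[W.obj R₀] (W.obj R₁)) →+ ((extendScalars (W.map f).hom).obj N) :=
  TensorProduct.liftAddHom
    (AddMonoidHom.mk' (fun n : N => AddMonoidHom.mk'
      (fun b : W.obj R₁ => (b ⊗ₜ[W.obj R₀, (W.map f).hom] n : (extendScalars (W.map f).hom).obj N))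
      (fun b b' => TensorProduct.add_tmul _ _ _))
      (fun n n' => by
        ext b
        exact TensorProduct.tmul_add _ _ _))
    (fun r n b => by
      show (b ⊗ₜ[W.obj R₀, (W.map f).hom] (r • n) : (extendScalars (W.map f).hom).obj N) =
        ((r • b) ⊗ₜ[W.obj R₀, (W.map f).hom] n : (extendScalars (W.map f).hom).obj N)
      rw [Algebra.smul_def, h₁, mul_comm]
      exact (tmul_bal (W.map f).hom N b r n).symm)

set_option backward.isDefEq.respectTransparency false in
lemma sw2_tmul (b : W.obj R₁) (n : N) :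
    sw2 W f N h₁ (n ⊗ₜ[W.obj R₀] b) =
      (b ⊗ₜ[W.obj R₀, (W.map f).hom] n : (extendScalars (W.map f).hom).obj N) := rfl

set_option backward.isDefEq.respectTransparency false in
lemma sw2_sw (x : (extendScalars (W.map f).hom).obj N) : sw2 W f N h₁ (sw W f N h₁ x) = x := by
  have key : (sw2 W f N h₁).comp (sw W f N h₁) = AddMonoidHom.id _ :=
    es_addHom_ext (W.map f).hom N (fun t n => by
      rw [AddMonoidHom.comp_apply, sw_tmul, sw2_tmul]
      rfl)
  exact DFunLike.congr_fun key x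

end

end H10PT.WD
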