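import Mathlib
import Groth.Agent.Lib.Helper10.WD6

/-!
# Helper library (helper10): from an exact Amitsur-type sequence to full faithfulness of the descent-data functor
-/

set_option autoImplicit false
universe u
open CategoryTheory CategoryTheory.Limits Opposite Bicategory TensorProduct ModuleCat
open ChangeOfRings

namespace H10PT.WD

open Pseudofunctor LocallyDiscreteOpToCat H10PT.MD

variable (W : CommRingCat.{u} ⥤ CommRingCat.{u})

section

variable {R₀ R₁ T : CommRingCat.{u}} (f : R₀ ⟶ R₁) (i1 i2 : R₁ ⟶ T) (hq : f ≫ i2 = f ≫ i1)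
  (N : ModuleCat.{u} (W.obj R₀))
  [Algebra (W.obj R₀) (W.obj R₁)] (h₁ : algebraMap (W.obj R₀) (W.obj R₁) = (W.map f).hom)
  [Algebra (W.obj R₀) (W.obj T)] (h₂ : algebraMap (W.obj R₀) (W.obj T) = (W.map (f ≫ i1)).hom)
  (ψ₁ ψ₂ : W.obj R₁ →ₐ[W.obj R₀] W.obj T)
  (hψ₁ : (ψ₁ : W.obj R₁ →+* W.obj T) = (W.map i1).hom)
  (hψ₂ : (ψ₂ : W.obj R₁ →+* W.obj T) = (W.map i2).hom)

include hψ₁ in
set_option backward.isDefEq.respectTransparency false in
lemma lTensor_sw₁ (x : (extendScalars (W.map f).hom).obj N) :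
    LinearMap.lTensor N ψ₁.toLinearMap (sw W f N h₁ x) =
      swC W f i1 N h₂ (bcW W N i1 f (f ≫ i1) rfl x) := by
  have key : (LinearMap.lTensor N ψ₁.toLinearMap).toAddMonoidHom.comp (sw W f N h₁) =
      (swC W f i1 N h₂).comp (bcW W N i1 f (f ≫ i1) rfl) :=
    es_addHom_ext (W.map f).hom N (fun t n => by
      rw [AddMonoidHom.comp_apply, AddMonoidHom.comp_apply, sw_tmul, bcW_tmul, swC_tmul]
      show n ⊗ₜ[W.obj R₀] (ψ₁ t) = _
      have := RingHom.congr_fun hψ₁ t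
      rw [show ψ₁ t = (W.map i1).hom t from this])
  exact DFunLike.congr_fun key x

include hψ₂ in
set_option backward.isDefEq.respectTransparency false in
lemma lTensor_sw₂ (x : (extendScalars (W.map f).hom).obj N) :
    LinearMap.lTensor N ψ₂.toLinearMap (sw W f N h₁ x) =
      swC W f i1 N h₂ (bcW W N i2 f (f ≫ i1) hq x) := by
  have key : (LinearMap.lTensor N ψ₂.toLinearMap).toAddMonoidHom.comp (sw W f N h₁) =
      (swC W f i1 N h₂).comp (bcW W N i2 f (f ≫ i1) hq) :=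
    es_addHom_ext (W.map f).hom N (fun t n => by
      rw [AddMonoidHom.comp_apply, AddMonoidHom.comp_apply, sw_tmul, bcW_tmul, swC_tmul]
      show n ⊗ₜ[W.obj R₀] (ψ₂ t) = _
      have := RingHom.congr_fun hψ₂ t
      rw [show ψ₂ t = (W.map i2).hom t from this])
  exact DFunLike.congr_fun key x

include hq h₁ h₂ hψ₁ hψ₂ in
set_option backward.isDefEq.respectTransparency false in
theorem bijective_of_exact (M : ModuleCat.{u} (W.obj R₀))
    (ha : Function.Injective (fun n : N => n ⊗ₜ[W.obj R₀] (1 : W.obj R₁)))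
    (hb : ∀ x : N ⊗[W.obj R₀] (W.obj R₁),
      LinearMap.lTensor N ψ₁.toLinearMap x = LinearMap.lTensor N ψ₂.toLinearMap x →
        x ∈ Set.range (fun n : N => n ⊗ₜ[W.obj R₀] (1 : W.obj R₁))) :
    Function.Bijective (fun φ : M ⟶ N =>
      ((PFW W).toDescentData (fun _ : PUnit.{u + 1} => f.op)).map φ) := by
  apply toDD_map_bijective W f i1 i2 hq M N
  · intro n hn
    have h := congrArg (sw W f N h₁) hn
    rw [sw_tmul, map_zero] at h
    apply ha
    show n ⊗ₜ[W.obj R₀] (1 : W.obj R₁) = (0 : N) ⊗ₜ[W.obj R₀] (1 : W.obj R₁)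
    rw [h, TensorProduct.zero_tmul]
  · intro x hx
    have e : LinearMap.lTensor N ψ₁.toLinearMap (sw W f N h₁ x) =
        LinearMap.lTensor N ψ₂.toLinearMap (sw W f N h₁ x) := by
      rw [lTensor_sw₁ W f i1 N h₁ h₂ ψ₁ hψ₁, lTensor_sw₂ W f i1 i2 hq N h₁ h₂ ψ₂ hψ₂, hx]
    obtain ⟨n, hn⟩ := hb _ e
    refine ⟨n, ?_⟩
    have h := congrArg (sw2 W f N h₁) hn
    rw [sw2_sw] at h
    exact h.symm

end

end H10PT.WD
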