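import Mathlib
import Groth.Agent.Lib.Helper10.WD7

/-!
# Helper library (helper10): `bijective_of_exact` with the descent-data functor as a variable
-/

set_option autoImplicit false
universe u
open CategoryTheory CategoryTheory.Limits Opposite Bicategory TensorProduct ModuleCat
open ChangeOfRings

namespace H10PT.WD

open Pseudofunctor LocallyDiscreteOpToCat H10PT.MD

variable (W : CommRingCat.{u} ⥤ CommRingCat.{u})

section

variable {R₀ R₁ T : CommRingCat.{u}} (f : R₀ ⟶ R₁) (i1 i2 : R₁ ⟶ T) (hq : f ≫ i2 = f ≫ i1)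
  (N : ModuleCat.{u} (W.obj R₀))
  [Algebra (W.obj R₀) (W.obj R₁)] (h₁ : algebraMap (W.obj R₀) (W.obj R₁) = (W.map f).hom)
  [Algebra (W.obj R₀) (W.obj T)] (h₂ : algebraMap (W.obj R₀) (W.obj T) = (W.map (f ≫ i1)).hom)
  (ψ₁ ψ₂ : W.obj R₁ →ₐ[W.obj R₀] W.obj T)
  (hψ₁ : (ψ₁ : W.obj R₁ →+* W.obj T) = (W.map i1).hom)
  (hψ₂ : (ψ₂ : W.obj R₁ →+* W.obj T) = (W.map i2).hom)

include hq h₁ h₂ hψ₁ hψ₂ in
set_option backward.isDefEq.respectTransparency false in
theorem bijective_of_exact_G (M : ModuleCat.{u} (W.obj R₀))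
    (ha : Function.Injective (fun n : N => n ⊗ₜ[W.obj R₀] (1 : W.obj R₁)))
    (hb : ∀ x : N ⊗[W.obj R₀] (W.obj R₁),
      LinearMap.lTensor N ψ₁.toLinearMap x = LinearMap.lTensor N ψ₂.toLinearMap x →
        x ∈ Set.range (fun n : N => n ⊗ₜ[W.obj R₀] (1 : W.obj R₁)))
    (G : ModuleCat.{u} (W.obj R₀) ⥤ (PFW W).DescentData (fun _ : PUnit.{u + 1} => f.op))
    (hG : G = (PFW W).toDescentData (fun _ : PUnit.{u + 1} => f.op)) :
    Function.Bijective (fun φ : M ⟶ N => G.map φ) := by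
  subst hG
  exact bijective_of_exact W f i1 i2 hq N h₁ h₂ ψ₁ ψ₂ hψ₁ hψ₂ M ha hb

end

end H10PT.WD
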