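import Mathlib
import Groth.Prelude.Def_WittGrp
import Groth.Agent.Lib.Helper10.WittDescent

/-!
# Faithfully flat descent for truncated Witt vectors
-/

set_option autoImplicit false
universe u v

namespace H10Desc

open TensorProduct

theorem trunc_exact (p : ℕ) [Fact p.Prime] (n : ℕ)
    (R R' : Type u) [CommRing R] [CommRing R'] [Algebra R R'] [Module.FaithfullyFlat R R']
    [Algebra (TruncatedWittVector p n R) (TruncatedWittVector p n R')]
    (h₁ : algebraMap (TruncatedWittVector p n R) (TruncatedWittVector p n R') =
      WittGrp.truncMap p n (algebraMap R R'))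
    [Algebra (TruncatedWittVector p n R) (TruncatedWittVector p n (TensorProduct R R' R'))]
    (ψ₁ ψ₂ : TruncatedWittVector p n R' →ₐ[TruncatedWittVector p n R]
      TruncatedWittVector p n (TensorProduct R R' R'))
    (hψ₁ : (ψ₁ : TruncatedWittVector p n R' →+* TruncatedWittVector p n (TensorProduct R R' R')) =
      WittGrp.truncMap p n (Algebra.TensorProduct.includeLeftRingHom :
        R' →+* TensorProduct R R' R'))
    (hψ₂ : (ψ₂ : TruncatedWittVector p n R' →+* TruncatedWittVector p n (TensorProduct R R' R')) =
      WittGrp.truncMap p n ((Algebra.TensorProduct.includeRight :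
        R' →ₐ[R] TensorProduct R R' R') : R' →+* TensorProduct R R' R'))
    (M : Type v) [AddCommGroup M] [Module (TruncatedWittVector p n R) M]
    [Module.Flat (TruncatedWittVector p n R) M] :
    Function.Injective (fun m : M => m ⊗ₜ[TruncatedWittVector p n R]
        (1 : TruncatedWittVector p n R')) ∧
      ∀ x : M ⊗[TruncatedWittVector p n R] TruncatedWittVector p n R',
        LinearMap.lTensor M ψ₁.toLinearMap x = LinearMap.lTensor M ψ₂.toLinearMap x →
          x ∈ Set.range (fun m : M => m ⊗ₜ[TruncatedWittVector p n R]
            (1 : TruncatedWittVector p n R')) := by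
  set A := TruncatedWittVector p n R with hA
  set B := TruncatedWittVector p n R' with hB
  have hψ₁' : ∀ b : B, ψ₁ b = WittGrp.truncMap p n (Algebra.TensorProduct.includeLeftRingHom :
      R' →+* TensorProduct R R' R') b := fun b => RingHom.congr_fun hψ₁ b
  have hψ₂' : ∀ b : B, ψ₂ b = WittGrp.truncMap p n ((Algebra.TensorProduct.includeRight :
      R' →ₐ[R] TensorProduct R R' R') : R' →+* TensorProduct R R' R') b :=
    fun b => RingHom.congr_fun hψ₂ b
  have hinj : Function.Injective (Algebra.linearMap A B) := by
    intro a a' haa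
    rw [Algebra.linearMap_apply, Algebra.linearMap_apply, h₁] at haa
    apply TruncatedWittVector.ext
    intro i
    have := congrArg (TruncatedWittVector.coeff i) haa
    rw [WittGrp.coeff_truncMap, WittGrp.coeff_truncMap] at this
    exact FaithfulSMul.algebraMap_injective R R' this
  have hexact : Function.Exact (Algebra.linearMap A B) (ψ₁.toLinearMap - ψ₂.toLinearMap) := by
    intro b
    constructor
    · intro hb
      rw [LinearMap.sub_apply, sub_eq_zero, AlgHom.toLinearMap_apply, AlgHom.toLinearMap_apply,
        hψ₁', hψ₂'] at hb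
      have h : ∀ i : Fin n, ∃ r : R, algebraMap R R' r = b.coeff i := by
        intro i
        apply mem_range_of_tmul_eq R R'
        have := congrArg (TruncatedWittVector.coeff i) hb
        rw [WittGrp.coeff_truncMap, WittGrp.coeff_truncMap] at this
        exact this
      choose r hr using h
      refine ⟨TruncatedWittVector.mk p r, ?_⟩
      rw [Algebra.linearMap_apply, h₁]
      apply TruncatedWittVector.ext
      intro i
      rw [WittGrp.coeff_truncMap, TruncatedWittVector.coeff_mk, hr]
    · rintro ⟨a, rfl⟩
      rw [LinearMap.sub_apply, sub_eq_zero, AlgHom.toLinearMap_apply, AlgHom.toLinearMap_apply,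
        Algebra.linearMap_apply, AlgHom.commutes, AlgHom.commutes]
  have hone : ∀ y : M ⊗[A] A, LinearMap.lTensor M (Algebra.linearMap A B) y =
      (TensorProduct.rid A M y) ⊗ₜ[A] (1 : B) := by
    intro y
    have hy : y = (TensorProduct.rid A M y) ⊗ₜ[A] (1 : A) := by
      rw [← TensorProduct.rid_symm_apply, LinearEquiv.symm_apply_apply]
    conv_lhs => rw [hy]
    rw [LinearMap.lTensor_tmul, Algebra.linearMap_apply, map_one]
  constructor
  · intro m m' hmm
    have h2 : Function.Injective (LinearMap.lTensor M (Algebra.linearMap A B)) :=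
      Module.Flat.lTensor_preserves_injective_linearMap (Algebra.linearMap A B) hinj
    have h3 : LinearMap.lTensor M (Algebra.linearMap A B) (m ⊗ₜ[A] (1 : A)) =
        LinearMap.lTensor M (Algebra.linearMap A B) (m' ⊗ₜ[A] (1 : A)) := by
      rw [LinearMap.lTensor_tmul, LinearMap.lTensor_tmul, Algebra.linearMap_apply, map_one]
      exact hmm
    have h4 := congrArg (TensorProduct.rid A M) (h2 h3)
    rwa [TensorProduct.rid_tmul, TensorProduct.rid_tmul, one_smul, one_smul] at h4
  · intro x hx
    have hfl := Module.Flat.lTensor_exact M hexact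
    have h5 : LinearMap.lTensor M (ψ₁.toLinearMap - ψ₂.toLinearMap) x = 0 := by
      rw [LinearMap.lTensor_sub, LinearMap.sub_apply, hx, sub_self]
    obtain ⟨y, hy⟩ := (hfl x).mp h5
    exact ⟨TensorProduct.rid A M y, by rw [← hy, hone]⟩

end H10Desc
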