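import Mathlib

/-!
# Nilpotence of Frobenius on `W(𝔞)` and lifting of Frobenius-equivariant maps
-/

set_option autoImplicit false
universe u

namespace H10Witt

open WittVector

section nil

variable {p : ℕ} [hp : Fact p.Prime]

theorem constantCoeff_frobeniusPolyAux (p : ℕ) [hp : Fact p.Prime] (n : ℕ) :
    MvPolynomial.constantCoeff (frobeniusPolyAux p n) = 0 := by
  have h := WittVector.coeff_frobenius (p := p) (0 : WittVector p ℤ) n
  have h0 : (0 : WittVector p ℤ).coeff = 0 := funext fun i => WittVector.zero_coeff p ℤ i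
  rw [map_zero, WittVector.zero_coeff, h0, MvPolynomial.aeval_zero] at h
  have h1 : MvPolynomial.constantCoeff (frobeniusPoly p n) = 0 := by
    simpa using h.symm
  rw [frobeniusPoly, map_add, map_pow, map_mul, MvPolynomial.constantCoeff_X,
    MvPolynomial.constantCoeff_C, zero_pow hp.out.ne_zero, zero_add] at h1
  rcases mul_eq_zero.mp h1 with h2 | h2
  · exact absurd h2 (by exact_mod_cast hp.out.ne_zero)
  · exact h2

theorem aeval_mem_of_constantCoeff {S : Type*} [CommRing S] (𝔟 : Ideal S) (x : ℕ → S)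
    (hx : ∀ n, x n ∈ 𝔟) (q : MvPolynomial ℕ ℤ) (hq : MvPolynomial.constantCoeff q = 0) :
    MvPolynomial.aeval x q ∈ 𝔟 := by
  rw [← Ideal.Quotient.eq_zero_iff_mem]
  have h := MvPolynomial.comp_aeval_apply (f := x) ((Ideal.Quotient.mk 𝔟).toIntAlgHom) q
  have hz : (fun i => (Ideal.Quotient.mk 𝔟).toIntAlgHom (x i)) = 0 :=
    funext fun i => (Ideal.Quotient.eq_zero_iff_mem).mpr (hx i)
  rw [hz, MvPolynomial.aeval_zero, hq, map_zero] at h
  exact h

variable {S : Type u} [CommRing S]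

/-- The ideal generated by the `p^j a^(p^(k-j))`, `a ∈ 𝔞`, `j ≤ k`. -/
def BB (p : ℕ) (𝔞 : Ideal S) (k : ℕ) : Ideal S :=
  Ideal.span {s | ∃ j ≤ k, ∃ a ∈ 𝔞, s = (p : S) ^ j * a ^ (p ^ (k - j))}

theorem BB_step (𝔞 : Ideal S) (k : ℕ) (b : S) (hb : b ∈ BB p 𝔞 k) :
    (p : S) * b ∈ BB p 𝔞 (k + 1) ∧ b ^ p ∈ BB p 𝔞 (k + 1) := by
  unfold BB at hb
  induction hb using Submodule.span_induction with
  | mem x hx =>
    obtain ⟨j, hj, a, ha, rfl⟩ := hx
    constructor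
    · apply Ideal.subset_span
      refine ⟨j + 1, by omega, a, ha, ?_⟩
      rw [Nat.add_sub_add_right]; ring
    · have e : ((p : S) ^ j * a ^ (p ^ (k - j))) ^ p =
          (p : S) ^ (j * p - j) * ((p : S) ^ j * a ^ (p ^ (k + 1 - j))) := by
        have h1 : k + 1 - j = (k - j) + 1 := by omega
        have h2 : j * p = (j * p - j) + j := by
          have : j ≤ j * p := Nat.le_mul_of_pos_right j hp.out.pos
          omega
        have h3 : p ^ (k + 1 - j) = p ^ (k - j) * p := by rw [h1, pow_succ]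
        rw [mul_pow, ← pow_mul, ← pow_mul, h3, ← mul_assoc, ← pow_add, ← h2]
      rw [e]
      exact Ideal.mul_mem_left _ _ (Ideal.subset_span ⟨j, by omega, a, ha, rfl⟩)
  | zero =>
    rw [mul_zero, zero_pow hp.out.ne_zero]; exact ⟨Ideal.zero_mem _, Ideal.zero_mem _⟩
  | add x y _ _ hx hy =>
    constructor
    · rw [mul_add]; exact Ideal.add_mem _ hx.1 hy.1
    · obtain ⟨r, hr⟩ := exists_add_pow_prime_eq hp.out x y
      rw [hr]
      refine Ideal.add_mem _ (Ideal.add_mem _ hx.2 hy.2) ?_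
      have : (p : S) * x * y * r = (y * r) * ((p : S) * x) := by ring
      rw [this]; exact Ideal.mul_mem_left _ _ hx.1
  | smul s x _ hx =>
    constructor
    · rw [smul_eq_mul, mul_left_comm]; exact Ideal.mul_mem_left _ _ hx.1
    · rw [smul_eq_mul, mul_pow]; exact Ideal.mul_mem_left _ _ hx.2

theorem coeff_frobenius_mem (𝔞 : Ideal S) (k : ℕ) (x : WittVector p S)
    (hx : ∀ n, x.coeff n ∈ BB p 𝔞 k) (n : ℕ) :
    (frobenius x).coeff n ∈ BB p 𝔞 (k + 1) := by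
  rw [WittVector.coeff_frobenius, frobeniusPoly, map_add, map_pow, map_mul, MvPolynomial.aeval_X,
    MvPolynomial.aeval_C]
  refine Ideal.add_mem _ (BB_step 𝔞 k _ (hx n)).2 ?_
  have h1 := aeval_mem_of_constantCoeff (BB p 𝔞 k) x.coeff hx _
    (constantCoeff_frobeniusPolyAux p n)
  have h2 : algebraMap ℤ S (p : ℤ) = (p : S) := by simp
  rw [h2]
  exact (BB_step 𝔞 k _ h1).1

theorem BB_eq_bot (𝔞 : Ideal S) (M N : ℕ) (hM : (p : S) ^ M = 0) (hN : ∀ a ∈ 𝔞, a ^ N = 0) :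
    BB p 𝔞 (M + N) = ⊥ := by
  rw [BB, Ideal.span_eq_bot]
  rintro s ⟨j, hj, a, ha, rfl⟩
  rcases Nat.lt_or_ge j M with h | h
  · have h1 : N ≤ p ^ (M + N - j) := by
      have : M + N - j < p ^ (M + N - j) := Nat.lt_pow_self hp.out.one_lt
      omega
    rw [pow_eq_zero_of_le h1 (hN a ha), mul_zero]
  · rw [pow_eq_zero_of_le h hM, zero_mul]

/-- Frobenius is nilpotent on `W(𝔞)` if `p` is nilpotent and the elements of `𝔞` have bounded
nilpotence degree. -/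
theorem frobenius_iterate_eq_zero {R : Type*} [CommRing R] (φ : S →+* R) (M N : ℕ)
    (hM : (p : S) ^ M = 0) (hN : ∀ a : S, φ a = 0 → a ^ N = 0)
    (x : WittVector p S) (hx : x ∈ RingHom.ker (WittVector.map (p := p) φ)) :
    (frobenius^[M + N]) x = 0 := by
  have h0 : ∀ n, x.coeff n ∈ BB p (RingHom.ker φ) 0 := by
    intro n
    apply Ideal.subset_span
    refine ⟨0, le_rfl, x.coeff n, ?_, by simp⟩
    rw [RingHom.mem_ker, ← WittVector.map_coeff, (RingHom.mem_ker).mp hx, WittVector.zero_coeff]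
  have h1 : ∀ k, ∀ n, ((frobenius^[k]) x).coeff n ∈ BB p (RingHom.ker φ) k := by
    intro k
    induction k with
    | zero => exact h0
    | succ k ih =>
      intro n
      rw [Function.iterate_succ_apply']
      exact coeff_frobenius_mem _ k _ ih n
  ext n
  have := h1 (M + N) n
  rw [BB_eq_bot (RingHom.ker φ) M N hM (fun a ha => hN a ((RingHom.mem_ker).mp ha))] at this
  rw [WittVector.zero_coeff]
  exact (Submodule.mem_bot _).mp this

end nil

section semilin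

variable {A : Type*} [CommRing A] {σ : A →+* A} {P₁ : Type*} {P₂ : Type*}
  [AddCommGroup P₁] [Module A P₁] [AddCommGroup P₂] [Module A P₂] {ι : Type*}

/-- Linearisation of a semilinear map along the basis `F₁ ∘ b`. -/
noncomputable def lin (b : Module.Basis ι A P₁) (F₁ : P₁ →ₛₗ[σ] P₁)
    (hli : LinearIndependent A (fun i => F₁ (b i)))
    (hsp : Submodule.span A (Set.range fun i => F₁ (b i)) = ⊤)
    (g : P₁ →ₛₗ[σ] P₂) : P₁ →ₗ[A] P₂ :=
  (Module.Basis.mk hli hsp.ge).constr A (fun i => g (b i))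

theorem lin_apply (b : Module.Basis ι A P₁) (F₁ : P₁ →ₛₗ[σ] P₁)
    (hli : LinearIndependent A (fun i => F₁ (b i)))
    (hsp : Submodule.span A (Set.range fun i => F₁ (b i)) = ⊤)
    (g : P₁ →ₛₗ[σ] P₂) (x : P₁) : lin b F₁ hli hsp g (F₁ x) = g x := by
  have h : (lin b F₁ hli hsp g).comp F₁ = g := by
    apply b.ext
    intro i
    rw [LinearMap.comp_apply]
    have : F₁ (b i) = Module.Basis.mk hli hsp.ge i := (Module.Basis.mk_apply hli hsp.ge i).symm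
    rw [this]
    exact Module.Basis.constr_basis _ _ _ _
  exact LinearMap.congr_fun h x

theorem lin_ext (b : Module.Basis ι A P₁) (F₁ : P₁ →ₛₗ[σ] P₁)
    (hli : LinearIndependent A (fun i => F₁ (b i)))
    (hsp : Submodule.span A (Set.range fun i => F₁ (b i)) = ⊤)
    (ω ω' : P₁ →ₗ[A] P₂) (h : ∀ x, ω (F₁ x) = ω' (F₁ x)) : ω = ω' := by
  apply (Module.Basis.mk hli hsp.ge).ext
  intro i
  rw [Module.Basis.mk_apply]
  exact h (b i)

theorem lin_mem (b : Module.Basis ι A P₁) (F₁ : P₁ →ₛₗ[σ] P₁)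
    (hli : LinearIndependent A (fun i => F₁ (b i)))
    (hsp : Submodule.span A (Set.range fun i => F₁ (b i)) = ⊤)
    (J : Ideal A) (g : P₁ →ₛₗ[σ] P₂)
    (hg : ∀ x, g x ∈ J • (⊤ : Submodule A P₂)) (x : P₁) :
    lin b F₁ hli hsp g x ∈ J • (⊤ : Submodule A P₂) := by
  have h : (⊤ : Submodule A P₁) ≤
      Submodule.comap (lin b F₁ hli hsp g) (J • (⊤ : Submodule A P₂)) := by
    rw [← hsp, Submodule.span_le]
    rintro _ ⟨i, rfl⟩
    show lin b F₁ hli hsp g (F₁ (b i)) ∈ J • (⊤ : Submodule A P₂)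
    rw [lin_apply]
    exact hg _
  exact h Submodule.mem_top

theorem semilin_mem (F₂ : P₂ →ₛₗ[σ] P₂) (I : Ideal A) (y : P₂)
    (hy : y ∈ I • (⊤ : Submodule A P₂)) :
    F₂ y ∈ (I.map σ) • (⊤ : Submodule A P₂) := by
  refine Submodule.smul_induction_on hy (fun r hr n _ => ?_) (fun x y hx hy => ?_)
  · rw [map_smulₛₗ]
    exact Submodule.smul_mem_smul (Ideal.mem_map_of_mem σ hr) Submodule.mem_top
  · rw [map_add]; exact Submodule.add_mem _ hx hy

/-- The operator `U` with `(U ω) (F₁ x) = F₂ (ω x)`. -/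
noncomputable def UU (b : Module.Basis ι A P₁) (F₁ : P₁ →ₛₗ[σ] P₁) (F₂ : P₂ →ₛₗ[σ] P₂)
    (hli : LinearIndependent A (fun i => F₁ (b i)))
    (hsp : Submodule.span A (Set.range fun i => F₁ (b i)) = ⊤)
    (ω : P₁ →ₗ[A] P₂) : P₁ →ₗ[A] P₂ :=
  lin b F₁ hli hsp (F₂.comp ω)

theorem UU_apply (b : Module.Basis ι A P₁) (F₁ : P₁ →ₛₗ[σ] P₁) (F₂ : P₂ →ₛₗ[σ] P₂)
    (hli : LinearIndependent A (fun i => F₁ (b i)))
    (hsp : Submodule.span A (Set.range fun i => F₁ (b i)) = ⊤)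
    (ω : P₁ →ₗ[A] P₂) (x : P₁) : UU b F₁ F₂ hli hsp ω (F₁ x) = F₂ (ω x) := by
  rw [UU, lin_apply, LinearMap.comp_apply]

theorem UU_mem (b : Module.Basis ι A P₁) (F₁ : P₁ →ₛₗ[σ] P₁) (F₂ : P₂ →ₛₗ[σ] P₂)
    (hli : LinearIndependent A (fun i => F₁ (b i)))
    (hsp : Submodule.span A (Set.range fun i => F₁ (b i)) = ⊤)
    (I : Ideal A) (ω : P₁ →ₗ[A] P₂) (hω : ∀ x, ω x ∈ I • (⊤ : Submodule A P₂)) (x : P₁) :
    UU b F₁ F₂ hli hsp ω x ∈ (I.map σ) • (⊤ : Submodule A P₂) :=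
  lin_mem b F₁ hli hsp _ _ (fun x => by
    rw [LinearMap.comp_apply]; exact semilin_mem F₂ I _ (hω x)) x

theorem iter_mem (b : Module.Basis ι A P₁) (F₁ : P₁ →ₛₗ[σ] P₁) (F₂ : P₂ →ₛₗ[σ] P₂)
    (hli : LinearIndependent A (fun i => F₁ (b i)))
    (hsp : Submodule.span A (Set.range fun i => F₁ (b i)) = ⊤)
    (I : Ideal A) (ω : P₁ →ₗ[A] P₂) (hω : ∀ x, ω x ∈ I • (⊤ : Submodule A P₂)) (k : ℕ) :
    ∀ x, ((UU b F₁ F₂ hli hsp)^[k] ω) x ∈ (I.map (σ ^ k)) • (⊤ : Submodule A P₂) := by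
  induction k with
  | zero =>
    intro x
    rw [pow_zero, RingHom.one_def, Ideal.map_id]
    exact hω x
  | succ k ih =>
    intro x
    rw [Function.iterate_succ_apply', pow_succ', RingHom.mul_def, ← Ideal.map_map]
    exact UU_mem b F₁ F₂ hli hsp _ _ ih x

theorem map_pow_eq_bot (I : Ideal A) (K : ℕ) (hK : ∀ x ∈ I, (σ^[K]) x = 0) :
    I.map (σ ^ K) = ⊥ := by
  rw [Ideal.map_eq_bot_iff_le_ker]
  intro y hy
  rw [RingHom.mem_ker, RingHom.coe_pow]
  exact hK y hy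

theorem exists_comm_lift (b : Module.Basis ι A P₁) (F₁ : P₁ →ₛₗ[σ] P₁) (F₂ : P₂ →ₛₗ[σ] P₂)
    (hli : LinearIndependent A (fun i => F₁ (b i)))
    (hsp : Submodule.span A (Set.range fun i => F₁ (b i)) = ⊤)
    (𝔠 : Ideal A) (h𝔠F : ∀ x ∈ 𝔠, σ x ∈ 𝔠) (K : ℕ) (hK : ∀ x ∈ 𝔠, (σ^[K]) x = 0)
    (α₀ : P₁ →ₗ[A] P₂)
    (hα₀ : ∀ x, F₂ (α₀ x) - α₀ (F₁ x) ∈ 𝔠 • (⊤ : Submodule A P₂)) :
    ∃ α : P₁ →ₗ[A] P₂, (∀ x, α x - α₀ x ∈ 𝔠 • (⊤ : Submodule A P₂)) ∧
      ∀ x, F₂ (α x) = α (F₁ x) := by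
  set η : P₁ →ₛₗ[σ] P₂ := F₂.comp α₀ - α₀.comp F₁ with hη
  have hηx : ∀ x, η x = F₂ (α₀ x) - α₀ (F₁ x) := fun x => rfl
  set t : ℕ → (P₁ →ₗ[A] P₂) := fun k => (UU b F₁ F₂ hli hsp)^[k] (lin b F₁ hli hsp η) with ht
  have h𝔠map : 𝔠.map σ ≤ 𝔠 := Ideal.map_le_iff_le_comap.mpr (fun x hx => h𝔠F x hx)
  have ht𝔠 : ∀ k x, t k x ∈ 𝔠 • (⊤ : Submodule A P₂) := by
    intro k
    induction k with
    | zero =>
      intro x
      exact lin_mem b F₁ hli hsp 𝔠 η (fun x => by rw [hηx]; exact hα₀ x) x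
    | succ k ih =>
      intro x
      show ((UU b F₁ F₂ hli hsp)^[k + 1] (lin b F₁ hli hsp η)) x ∈ 𝔠 • (⊤ : Submodule A P₂)
      rw [Function.iterate_succ_apply']
      exact Submodule.smul_mono_left h𝔠map (UU_mem b F₁ F₂ hli hsp 𝔠 _ ih x)
  have htK : t K = 0 := by
    have h1 := iter_mem b F₁ F₂ hli hsp 𝔠 (lin b F₁ hli hsp η) (ht𝔠 0) K
    ext x
    have h2 := h1 x
    rw [map_pow_eq_bot 𝔠 K hK, Submodule.bot_smul, Submodule.mem_bot] at h2
    exact h2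
  have hstep : ∀ k x, t (k + 1) (F₁ x) = F₂ (t k x) := by
    intro k x
    show ((UU b F₁ F₂ hli hsp)^[k + 1] (lin b F₁ hli hsp η)) (F₁ x) = _
    rw [Function.iterate_succ_apply']
    exact UU_apply b F₁ F₂ hli hsp _ x
  have h0 : ∀ x, t 0 (F₁ x) = η x := fun x => lin_apply b F₁ hli hsp η x
  refine ⟨α₀ + ∑ k ∈ Finset.range K, t k, ?_, ?_⟩
  · intro x
    rw [LinearMap.add_apply, add_sub_cancel_left, LinearMap.sum_apply]
    exact Submodule.sum_mem _ (fun k _ => ht𝔠 k x)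
  · intro x
    rw [LinearMap.add_apply, LinearMap.add_apply, map_add, LinearMap.sum_apply,
      LinearMap.sum_apply, map_sum]
    have tele : ∑ k ∈ Finset.range K, (t k (F₁ x) - F₂ (t k x)) =
        t 0 (F₁ x) - t K (F₁ x) := by
      rw [← Finset.sum_range_sub' (fun k => t k (F₁ x)) K]
      refine Finset.sum_congr rfl (fun k _ => ?_)
      rw [hstep]
    rw [Finset.sum_sub_distrib, h0, htK, LinearMap.zero_apply, sub_zero, hηx,
      sub_eq_sub_iff_add_eq_add] at tele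
    rw [← tele, add_comm]

theorem eq_zero_of_comm (b : Module.Basis ι A P₁) (F₁ : P₁ →ₛₗ[σ] P₁) (F₂ : P₂ →ₛₗ[σ] P₂)
    (hli : LinearIndependent A (fun i => F₁ (b i)))
    (hsp : Submodule.span A (Set.range fun i => F₁ (b i)) = ⊤)
    (J : Ideal A) (K : ℕ) (hK : ∀ x ∈ J, (σ^[K]) x = 0) (δ : P₁ →ₗ[A] P₂)
    (hδ : ∀ x, δ x ∈ J • (⊤ : Submodule A P₂)) (hc : ∀ x, F₂ (δ x) = δ (F₁ x)) : δ = 0 := by
  have hU : UU b F₁ F₂ hli hsp δ = δ :=
    lin_ext b F₁ hli hsp _ _ (fun x => by rw [UU_apply, hc])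
  have hiter : (UU b F₁ F₂ hli hsp)^[K] δ = δ := Function.iterate_fixed hU K
  have h1 := iter_mem b F₁ F₂ hli hsp J δ hδ K
  rw [hiter] at h1
  ext x
  have h2 := h1 x
  rw [map_pow_eq_bot J K hK, Submodule.bot_smul, Submodule.mem_bot] at h2
  exact h2

end semilin

end H10Witt
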