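import Mathlib
import Groth.Agent.Lib.Helper22.WittBasic

/-!
# Lifting finite projective modules along `W(S) → W(R)` with nil kernel
-/

set_option autoImplicit false
universe u

namespace H10Lift

open WittVector

section newton

variable {E : Type*} [Ring E]

/-- The Newton step `e ↦ 3e² - 2e³`. -/
def newt (e : E) : E := 3 • (e * e) - 2 • (e * e * e)

theorem newt_sub (e : E) : newt e - e = (e * e - e) * (1 - 2 • e) := by
  unfold newt; noncomm_ring

theorem newt_idem (e : E) :
    newt e * newt e - newt e = (e * e - e) * (e * e - e) * (4 • (e * e - e) - 3) := by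
  unfold newt; noncomm_ring

/-- The Newton sequence. -/
def seq (e₀ : E) : ℕ → E
  | 0 => e₀
  | n + 1 => newt (seq e₀ n)

theorem map_newt {E' : Type*} [Ring E'] (f : E →+* E') (e : E) : f (newt e) = newt (f e) := by
  unfold newt; rw [map_sub, map_nsmul, map_nsmul, map_mul, map_mul, map_mul]

theorem map_seq {E' : Type*} [Ring E'] (f : E →+* E') (e₀ : E) (k : ℕ) :
    f (seq e₀ k) = seq (f e₀) k := by
  induction k with
  | zero => rfl
  | succ k ih =>
    show f (newt (seq e₀ k)) = newt (seq (f e₀) k)
    rw [map_newt, ih]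

theorem newt_of_idem (e : E) (he : e * e = e) : newt e = e := by
  unfold newt
  rw [he, he, show (3 : ℕ) = 2 + 1 from rfl, add_nsmul, one_nsmul, add_sub_cancel_left]

theorem seq_of_idem (e : E) (he : e * e = e) (k : ℕ) : seq e k = e := by
  induction k with
  | zero => rfl
  | succ k ih =>
    show newt (seq e k) = e
    rw [ih, newt_of_idem e he]

theorem delta_pow_eq_zero (e₀ : E) (N : ℕ) (hN : (e₀ * e₀ - e₀) ^ N = 0) (k M : ℕ)
    (h : N ≤ M * 2 ^ k) : (seq e₀ k * seq e₀ k - seq e₀ k) ^ M = 0 := by
  induction k generalizing M with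
  | zero =>
    rw [pow_zero, mul_one] at h
    exact pow_eq_zero_of_le h hN
  | succ k ih =>
    show (newt (seq e₀ k) * newt (seq e₀ k) - newt (seq e₀ k)) ^ M = 0
    rw [newt_idem]
    set d := seq e₀ k * seq e₀ k - seq e₀ k with hd
    have hc : Commute (d * d) (4 • d - 3) := by
      show d * d * (4 • d - 3) = (4 • d - 3) * (d * d)
      noncomm_ring
    have h2 : N ≤ 2 * M * 2 ^ k := by
      calc N ≤ M * 2 ^ (k + 1) := h
        _ = 2 * M * 2 ^ k := by ring
    rw [hc.mul_pow, ← pow_two, ← pow_mul, ih (2 * M) h2, zero_mul]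

theorem seq_stable (e₀ : E) (N : ℕ) (hN : (e₀ * e₀ - e₀) ^ N = 0) (k : ℕ) (hk : N ≤ k) :
    seq e₀ k * seq e₀ k = seq e₀ k ∧ seq e₀ k = seq e₀ N := by
  have hid : ∀ k, N ≤ k → seq e₀ k * seq e₀ k = seq e₀ k := by
    intro k hk
    have h1 : N ≤ 1 * 2 ^ k := by
      rw [one_mul]
      exact (hk.trans (Nat.lt_pow_self (by norm_num : 1 < 2)).le)
    have := delta_pow_eq_zero e₀ N hN k 1 h1
    rw [pow_one] at this
    exact sub_eq_zero.mp this
  refine ⟨hid k hk, ?_⟩
  induction k, hk using Nat.le_induction with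
  | base => rfl
  | succ k hk ih =>
    rw [← ih]
    show newt (seq e₀ k) = seq e₀ k
    exact newt_of_idem _ (hid k hk)

end newton

section witt

variable {p : ℕ} [hp : Fact p.Prime] {S R : Type u} [CommRing S] [CommRing R]

theorem verschiebung_pow_succ (q : WittVector p S) (j : ℕ) :
    (verschiebung q) ^ (j + 1) = (p : WittVector p S) ^ j * verschiebung (q ^ (j + 1)) := by
  induction j with
  | zero => simp
  | succ j ih =>
    rw [pow_succ, ih, mul_assoc, Groth.Agent.Lib.Helper22.Witt.verschiebung_mul_verschiebung,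
      ← mul_assoc, ← pow_succ, ← pow_succ]

theorem truncate_verschiebung_eq_zero (n : ℕ) (y : WittVector p S)
    (hy : WittVector.truncate n y = 0) : WittVector.truncate (n + 1) (verschiebung y) = 0 := by
  rw [← RingHom.mem_ker, WittVector.mem_ker_truncate] at hy ⊢
  intro i hi
  rcases i with _ | i
  · exact verschiebung_coeff_zero y
  · rw [verschiebung_coeff_succ]; exact hy i (by omega)

theorem isNilpotent_truncate (φ : S →+* R) (hnil : ∀ a : S, φ a = 0 → IsNilpotent a) (n : ℕ) :
    ∀ x : WittVector p S, x ∈ RingHom.ker (WittVector.map (p := p) φ) →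
      IsNilpotent (WittVector.truncate n x) := by
  induction n with
  | zero =>
    intro x _
    exact ⟨1, TruncatedWittVector.ext fun i => i.elim0⟩
  | succ n ih =>
    intro x hx
    obtain ⟨q, hq⟩ := Groth.Agent.Lib.Helper22.Witt.exists_eq_teichmuller_add_verschiebung x
    have ha : φ (x.coeff 0) = 0 := by
      have := congrArg (fun z => WittVector.coeff z 0) ((RingHom.mem_ker).mp hx)
      simpa [WittVector.map_coeff] using this
    have hqJ : q ∈ RingHom.ker (WittVector.map (p := p) φ) := by
      rw [RingHom.mem_ker]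
      apply WittVector.verschiebung_injective
      have h1 : verschiebung q = x - teichmuller p (x.coeff 0) := by
        rw [eq_sub_iff_add_eq']; exact hq.symm
      rw [← WittVector.map_verschiebung, map_zero, h1, map_sub, (RingHom.mem_ker).mp hx,
        WittVector.map_teichmuller, ha, WittVector.teichmuller_zero, sub_zero]
    have hx' : WittVector.truncate (n + 1) x =
        WittVector.truncate (n + 1) (teichmuller p (x.coeff 0)) +
          WittVector.truncate (n + 1) (verschiebung q) := by
      rw [← map_add, ← hq]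
    rw [hx']
    apply Commute.isNilpotent_add (Commute.all _ _)
    · obtain ⟨m, hm⟩ := hnil _ ha
      exact ⟨m, by rw [← map_pow, ← map_pow, hm, WittVector.teichmuller_zero, map_zero]⟩
    · obtain ⟨N', hN'⟩ := ih q hqJ
      refine ⟨N' + 1, ?_⟩
      rw [← map_pow, verschiebung_pow_succ, map_mul,
        truncate_verschiebung_eq_zero n _ (by rw [map_pow, pow_succ, hN', zero_mul]), mul_zero]

theorem matrix_isNilpotent {T : Type*} [CommRing T] {r : ℕ} (D : Matrix (Fin r) (Fin r) T)
    (hD : ∀ i j, IsNilpotent (D i j)) : IsNilpotent D := by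
  set 𝔡 : Ideal T := Ideal.span (Set.range (fun ij : Fin r × Fin r => D ij.1 ij.2)) with h𝔡
  have hfg : 𝔡.FG := Submodule.fg_span (Set.finite_range _)
  have hle : 𝔡 ≤ nilradical T := by
    rw [h𝔡, Ideal.span_le]
    rintro _ ⟨ij, rfl⟩
    exact (mem_nilradical).mpr (hD _ _)
  obtain ⟨N, hN⟩ := (hfg.isNilpotent_iff_le_nilradical).mpr hle
  have hpow : ∀ k i j, (D ^ k) i j ∈ 𝔡 ^ k := by
    intro k
    induction k with
    | zero => intro i j; rw [pow_zero (a := 𝔡), Ideal.one_eq_top]; trivial
    | succ k ih =>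
      intro i j
      rw [pow_succ D, pow_succ 𝔡, Matrix.mul_apply]
      exact Ideal.sum_mem _ (fun l _ =>
        Ideal.mul_mem_mul (ih i l) (Ideal.subset_span ⟨(l, j), rfl⟩))
  refine ⟨N, ?_⟩
  ext i j
  have := hpow N i j
  rw [hN, Ideal.zero_eq_bot, Ideal.mem_bot] at this
  rw [this, Matrix.zero_apply]

theorem exists_vadic_limit {ι : Type*} (a : ℕ → ι → WittVector p S)
    (h : ∀ n, ∃ K, ∀ k, K ≤ k → ∀ i,
      WittVector.truncate n (a k i) = WittVector.truncate n (a K i)) :
    ∃ L : ι → WittVector p S, ∀ n, ∃ K, ∀ k, K ≤ k → ∀ i,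
      WittVector.truncate n (a k i) = WittVector.truncate n (L i) := by
  choose K hK using h
  refine ⟨fun i => WittVector.mk p (fun m => (a (K (m + 1)) i).coeff m), fun n => ?_⟩
  refine ⟨(Finset.range (n + 1)).sup K, fun k hk i => ?_⟩
  apply TruncatedWittVector.ext
  intro m
  rw [WittVector.coeff_truncate, WittVector.coeff_truncate]
  show (a k i).coeff m = (a (K ((m : ℕ) + 1)) i).coeff m
  have hm : K ((m : ℕ) + 1) ≤ k :=
    le_trans (Finset.le_sup (f := K) (Finset.mem_range.mpr (by have := m.2; omega))) hk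
  have := congrArg (TruncatedWittVector.coeff ⟨(m : ℕ), Nat.lt_succ_self _⟩)
    (hK ((m : ℕ) + 1) k hm i)
  rw [WittVector.coeff_truncate, WittVector.coeff_truncate] at this
  exact this

theorem eq_of_truncate_eq {x y : WittVector p S}
    (h : ∀ n, WittVector.truncate n x = WittVector.truncate n y) : x = y := by
  ext m
  have := congrArg (TruncatedWittVector.coeff ⟨m, Nat.lt_succ_self _⟩) (h (m + 1))
  rw [WittVector.coeff_truncate, WittVector.coeff_truncate] at this
  exact this

theorem isUnit_one_add (φ : S →+* R) (hnil : ∀ a : S, φ a = 0 → IsNilpotent a)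
    (z : WittVector p S) (hz : z ∈ RingHom.ker (WittVector.map (p := p) φ)) :
    IsUnit (1 + z) := by
  have hnz : -z ∈ RingHom.ker (WittVector.map (p := p) φ) := neg_mem hz
  have hN : ∀ n, ∃ N, (WittVector.truncate n (-z)) ^ N = 0 := fun n =>
    isNilpotent_truncate φ hnil n (-z) hnz
  choose N hN using hN
  have hpow : ∀ n k, N n ≤ k → WittVector.truncate n ((-z) ^ k) = 0 := by
    intro n k hk
    rw [map_pow]
    exact pow_eq_zero_of_le hk (hN n)
  let s : ℕ → Unit → WittVector p S := fun k _ => ∑ i ∈ Finset.range k, (-z) ^ i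
  have hs : ∀ n, ∃ K, ∀ k, K ≤ k → ∀ i,
      WittVector.truncate n (s k i) = WittVector.truncate n (s K i) := by
    intro n
    refine ⟨N n, fun k hk _ => ?_⟩
    induction k, hk using Nat.le_induction with
    | base => rfl
    | succ k hk ih =>
      show WittVector.truncate n (∑ i ∈ Finset.range (k + 1), (-z) ^ i) = _
      rw [Finset.sum_range_succ, map_add, hpow n k hk, add_zero]
      exact ih
  obtain ⟨L, hL⟩ := exists_vadic_limit s hs
  have hmul : (1 + z) * L () = 1 := by
    apply eq_of_truncate_eq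
    intro n
    obtain ⟨K, hK⟩ := hL n
    have h1 := hK (max K (N n)) (le_max_left _ _) ()
    rw [map_mul, ← h1, ← map_mul]
    show WittVector.truncate n ((1 + z) * ∑ i ∈ Finset.range (max K (N n)), (-z) ^ i) = _
    have h2 : (1 + z) = 1 - (-z) := by rw [sub_neg_eq_add]
    rw [h2, mul_neg_geom_sum, map_sub, hpow n _ (le_max_right _ _), sub_zero]
  exact IsUnit.of_mul_eq_one _ hmul

theorem ker_le_jacobson (φ : S →+* R) (hnil : ∀ a : S, φ a = 0 → IsNilpotent a) :
    RingHom.ker (WittVector.map (p := p) φ) ≤ Ideal.jacobson ⊥ := by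
  intro x hx
  rw [Ideal.mem_jacobson_bot]
  intro y
  rw [add_comm]
  exact isUnit_one_add φ hnil _ (Ideal.mul_mem_right y _ hx)

end witt

end H10Lift
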