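import Mathlib
import Groth.Agent.Lib.Helper10.WittProjLift

/-!
# Lifting finite projective modules along `W(S) → W(R)` with nil kernel: existence and uniqueness
-/

set_option autoImplicit false
universe u

namespace H10Lift

open WittVector

variable {p : ℕ} [hp : Fact p.Prime] {S R : Type u} [CommRing S] [CommRing R]

/-- Componentwise application of a ring hom on vectors, as a semilinear map. -/
def vecMap {A B : Type*} [CommRing A] [CommRing B] (Φ : A →+* B) (r : ℕ) :
    (Fin r → A) →ₛₗ[Φ] (Fin r → B) where
  toFun x := fun i => Φ (x i)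
  map_add' x y := by ext i; simp
  map_smul' a x := by ext i; simp

theorem vecMap_apply {A B : Type*} [CommRing A] [CommRing B] (Φ : A →+* B) (r : ℕ)
    (x : Fin r → A) (i : Fin r) : vecMap Φ r x i = Φ (x i) := rfl

theorem vecMap_mulVec {A B : Type*} [CommRing A] [CommRing B] (Φ : A →+* B) (r : ℕ)
    (e : Matrix (Fin r) (Fin r) A) (x : Fin r → A) :
    vecMap Φ r (Matrix.toLin' e x) = Matrix.toLin' (Φ.mapMatrix e) (vecMap Φ r x) := by
  ext i
  rw [vecMap_apply, Matrix.toLin'_apply, Matrix.toLin'_apply, RingHom.map_mulVec]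
  rfl

/-- Lifting idempotent matrices along `W(S) → W(R)`. -/
theorem exists_idempotent_matrix_lift (φ : S →+* R) (hφ : Function.Surjective φ)
    (hnil : ∀ a : S, φ a = 0 → IsNilpotent a) {r : ℕ}
    (ebar : Matrix (Fin r) (Fin r) (WittVector p R)) (hebar : ebar * ebar = ebar) :
    ∃ e : Matrix (Fin r) (Fin r) (WittVector p S), e * e = e ∧
      (WittVector.map φ).mapMatrix e = ebar := by
  have hsurj := WittVector.map_surjective (p := p) φ hφ
  have hlift : ∀ i j, ∃ a : WittVector p S, WittVector.map φ a = ebar i j :=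
    fun i j => hsurj (ebar i j)
  choose e₀f he₀f using hlift
  set e₀ : Matrix (Fin r) (Fin r) (WittVector p S) := Matrix.of e₀f with he₀
  have hΦe₀ : (WittVector.map φ).mapMatrix e₀ = ebar := by
    refine Matrix.ext (fun i j => ?_)
    rw [RingHom.mapMatrix_apply, Matrix.map_apply]
    exact he₀f i j
  have hΦseq : ∀ k, (WittVector.map φ).mapMatrix (seq e₀ k) = ebar := by
    intro k
    rw [map_seq, hΦe₀, seq_of_idem ebar hebar]
  -- entries of δ₀ lie in the kernel
  have hδJ : ∀ i j, (e₀ * e₀ - e₀) i j ∈ RingHom.ker (WittVector.map (p := p) φ) := by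
    intro i j
    rw [RingHom.mem_ker]
    have h1 : (WittVector.map φ).mapMatrix (e₀ * e₀ - e₀) = 0 := by
      rw [map_sub, map_mul, hΦe₀, hebar, sub_self]
    have h2 := congrFun (congrFun h1 i) j
    rw [RingHom.mapMatrix_apply, Matrix.map_apply] at h2
    exact h2
  -- nilpotence at each truncation level
  have hNil : ∀ n, ∃ N, (((WittVector.truncate n).mapMatrix e₀) *
      ((WittVector.truncate n).mapMatrix e₀) - ((WittVector.truncate n).mapMatrix e₀)) ^ N = 0 := by
    intro n
    have h1 : IsNilpotent ((WittVector.truncate (p := p) (R := S) n).mapMatrix (e₀ * e₀ - e₀)) := by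
      apply matrix_isNilpotent
      intro i j
      rw [RingHom.mapMatrix_apply, Matrix.map_apply]
      exact isNilpotent_truncate φ hnil n _ (hδJ i j)
    obtain ⟨N, hN⟩ := h1
    exact ⟨N, by rw [← map_mul, ← map_sub]; exact hN⟩
  choose N hN using hNil
  have hstab : ∀ n k, N n ≤ k →
      (WittVector.truncate n).mapMatrix (seq e₀ k) * (WittVector.truncate n).mapMatrix (seq e₀ k) =
        (WittVector.truncate n).mapMatrix (seq e₀ k) ∧
      (WittVector.truncate n).mapMatrix (seq e₀ k) =
        (WittVector.truncate n).mapMatrix (seq e₀ (N n)) := by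
    intro n k hk
    rw [map_seq, map_seq]
    exact seq_stable _ (N n) (hN n) k hk
  -- the limit
  obtain ⟨L, hL⟩ := exists_vadic_limit (p := p) (S := S)
    (fun k (ij : Fin r × Fin r) => seq e₀ k ij.1 ij.2) (by
      intro n
      refine ⟨N n, fun k hk ij => ?_⟩
      have h1 := congrFun (congrFun (hstab n k hk).2 ij.1) ij.2
      rw [RingHom.mapMatrix_apply, RingHom.mapMatrix_apply, Matrix.map_apply,
        Matrix.map_apply] at h1
      exact h1)
  set e : Matrix (Fin r) (Fin r) (WittVector p S) := Matrix.of (fun i j => L (i, j)) with he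
  have hP1 : ∀ n, ∃ K, ∀ k, K ≤ k →
      (WittVector.truncate n).mapMatrix (seq e₀ k) = (WittVector.truncate n).mapMatrix e := by
    intro n
    obtain ⟨K, hK⟩ := hL n
    refine ⟨K, fun k hk => ?_⟩
    refine Matrix.ext (fun i j => ?_)
    rw [RingHom.mapMatrix_apply, RingHom.mapMatrix_apply, Matrix.map_apply, Matrix.map_apply]
    exact hK k hk (i, j)
  have hinj : ∀ X Y : Matrix (Fin r) (Fin r) (WittVector p S),
      (∀ n, (WittVector.truncate n).mapMatrix X = (WittVector.truncate n).mapMatrix Y) → X = Y := by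
    intro X Y h
    refine Matrix.ext (fun i j => ?_)
    apply eq_of_truncate_eq
    intro n
    have h1 := congrFun (congrFun (h n) i) j
    rw [RingHom.mapMatrix_apply, RingHom.mapMatrix_apply, Matrix.map_apply,
      Matrix.map_apply] at h1
    exact h1
  refine ⟨e, ?_, ?_⟩
  · apply hinj
    intro n
    obtain ⟨K, hK⟩ := hP1 n
    have h1 := hK (max K (N n)) (le_max_left _ _)
    rw [map_mul, ← h1]
    exact (hstab n _ (le_max_right _ _)).1
  · refine Matrix.ext (fun i j => ?_)
    refine WittVector.ext (fun m => ?_)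
    rw [RingHom.mapMatrix_apply, Matrix.map_apply, WittVector.map_coeff]
    obtain ⟨K, hK⟩ := hP1 (m + 1)
    have h1 := congrFun (congrFun (hK K le_rfl) i) j
    rw [RingHom.mapMatrix_apply, RingHom.mapMatrix_apply, Matrix.map_apply,
      Matrix.map_apply] at h1
    have h2 := congrArg (TruncatedWittVector.coeff ⟨m, Nat.lt_succ_self _⟩) h1
    rw [WittVector.coeff_truncate, WittVector.coeff_truncate] at h2
    have h3 := congrFun (congrFun (hΦseq K) i) j
    rw [RingHom.mapMatrix_apply, Matrix.map_apply] at h3
    have h4 := congrArg (fun z => WittVector.coeff z m) h3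
    simp only [WittVector.map_coeff] at h4
    show φ ((e i j).coeff m) = (ebar i j).coeff m
    rw [← h4]
    exact congrArg φ h2.symm

theorem exists_lift (φ : S →+* R) (hφ : Function.Surjective φ)
    (hnil : ∀ a : S, φ a = 0 → IsNilpotent a)
    (P : Type u) [AddCommGroup P] [Module (WittVector p R) P]
    [Module.Finite (WittVector p R) P] [Module.Projective (WittVector p R) P] :
    ∃ (P' : Type u) (_ : AddCommGroup P') (_ : Module (WittVector p S) P'),
        Module.Finite (WittVector p S) P' ∧ Module.Projective (WittVector p S) P' ∧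
          ∃ π : P' →ₛₗ[WittVector.map (p := p) φ] P, Function.Surjective π ∧
            LinearMap.ker π = RingHom.ker (WittVector.map (p := p) φ) •
              (⊤ : Submodule (WittVector p S) P') := by
  classical
  obtain ⟨r, f, g, _, _, hfg⟩ := Module.Finite.exists_comp_eq_id_of_projective (WittVector p R) P
  have hfg' : ∀ y, f (g y) = y := fun y => by
    have := LinearMap.congr_fun hfg y
    rwa [LinearMap.comp_apply, LinearMap.id_apply] at this
  set ebar : Matrix (Fin r) (Fin r) (WittVector p R) := LinearMap.toMatrix' (g ∘ₗ f) with hebar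
  have hlin : Matrix.toLin' ebar = g ∘ₗ f := Matrix.toLin'_toMatrix' _
  have hidem : ebar * ebar = ebar := by
    rw [hebar, ← LinearMap.toMatrix'_comp]
    congr 1
    apply LinearMap.ext
    intro x
    simp only [LinearMap.comp_apply, hfg']
  obtain ⟨e, hee, hΦe⟩ := exists_idempotent_matrix_lift φ hφ hnil ebar hidem
  have hee' : ∀ x, Matrix.toLin' e (Matrix.toLin' e x) = Matrix.toLin' e x := by
    intro x
    rw [← LinearMap.comp_apply, ← Matrix.toLin'_mul, hee]
  have hvm : ∀ x : Fin r → WittVector p S,
      vecMap (WittVector.map (p := p) φ) r (Matrix.toLin' e x) =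
        g (f (vecMap (WittVector.map (p := p) φ) r x)) := by
    intro x
    rw [vecMap_mulVec, hΦe, hlin, LinearMap.comp_apply]
  let P' : Submodule (WittVector p S) (Fin r → WittVector p S) := LinearMap.range (Matrix.toLin' e)
  have hfix : ∀ x : P', Matrix.toLin' e x.1 = x.1 := by
    rintro ⟨_, y, rfl⟩
    exact hee' y
  let π : P' →ₛₗ[WittVector.map (p := p) φ] P :=
    { toFun := fun x => f (vecMap (WittVector.map (p := p) φ) r x.1)
      map_add' := fun x y => by
        show f (vecMap _ r ((x + y : P') : Fin r → WittVector p S)) = _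
        rw [Submodule.coe_add, map_add, map_add]
      map_smul' := fun a x => by
        show f (vecMap _ r ((a • x : P') : Fin r → WittVector p S)) = _
        rw [Submodule.coe_smul, map_smulₛₗ, map_smul] }
  have hπ : ∀ x : P', π x = f (vecMap (WittVector.map (p := p) φ) r x.1) := fun x => rfl
  refine ⟨P', inferInstance, inferInstance, inferInstance, ?_, π, ?_, ?_⟩
  · exact Module.Projective.of_split P'.subtype (Matrix.toLin' e).rangeRestrict (by
      ext x : 1
      apply Subtype.ext
      rw [LinearMap.comp_apply, LinearMap.id_apply]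
      exact hfix x)
  · intro y
    have hsurj := WittVector.map_surjective (p := p) φ hφ
    have hx : ∃ x : Fin r → WittVector p S, vecMap (WittVector.map (p := p) φ) r x = g y := by
      choose x hx using fun i => hsurj (g y i)
      exact ⟨x, funext hx⟩
    obtain ⟨x, hx⟩ := hx
    refine ⟨⟨Matrix.toLin' e x, x, rfl⟩, ?_⟩
    rw [hπ, hvm, hx, hfg', hfg']
  · apply le_antisymm
    · intro x hx
      rw [LinearMap.mem_ker, hπ] at hx
      have h0 : vecMap (WittVector.map (p := p) φ) r x.1 = 0 := by
        rw [← hfix x, hvm, hx, map_zero]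
      have hJ : ∀ i, x.1 i ∈ RingHom.ker (WittVector.map (p := p) φ) := by
        intro i
        rw [RingHom.mem_ker]
        exact congrFun h0 i
      have hsum : x = ∑ i, x.1 i •
          (⟨Matrix.toLin' e (fun j => if i = j then 1 else 0), _, rfl⟩ : P') := by
        apply Subtype.ext
        rw [Submodule.coe_sum]
        simp only [Submodule.coe_smul]
        conv_lhs => rw [← hfix x, pi_eq_sum_univ x.1, map_sum]
        refine Finset.sum_congr rfl (fun i _ => ?_)
        rw [map_smul]
      rw [hsum]
      exact Submodule.sum_mem _ (fun i _ => Submodule.smul_mem_smul (hJ i) Submodule.mem_top)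
    · rw [Submodule.smul_le]
      intro a ha x _
      rw [LinearMap.mem_ker, map_smulₛₗ, (RingHom.mem_ker).mp ha, zero_smul]

/-- Lifting a semilinear map through a surjective semilinear map from a projective source. -/
theorem exists_semilinear_lift {A B : Type*} [CommRing A] [CommRing B] (Φ : A →+* B)
    {P P₁ P₂ : Type*} [AddCommGroup P] [Module B P] [AddCommGroup P₁] [Module A P₁]
    [AddCommGroup P₂] [Module A P₂] [Module.Projective A P₁]
    (π₁ : P₁ →ₛₗ[Φ] P) (π₂ : P₂ →ₛₗ[Φ] P) (h2 : Function.Surjective π₂) :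
    ∃ g : P₁ →ₗ[A] P₂, ∀ x, π₂ (g x) = π₁ x := by
  choose y hy using fun x => h2 (π₁ x)
  let g₀ : P₁ →ₗ[A] P₂ ⧸ LinearMap.ker π₂ :=
    { toFun := fun x => (LinearMap.ker π₂).mkQ (y x)
      map_add' := fun x x' => by
        rw [← map_add, ← sub_eq_zero, ← map_sub, Submodule.mkQ_apply,
          Submodule.Quotient.mk_eq_zero, LinearMap.mem_ker, map_sub, map_add, hy, hy, hy,
          map_add, sub_self]
      map_smul' := fun a x => by
        rw [RingHom.id_apply, ← map_smul, ← sub_eq_zero, ← map_sub, Submodule.mkQ_apply,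
          Submodule.Quotient.mk_eq_zero, LinearMap.mem_ker, map_sub, map_smulₛₗ, hy, hy,
          map_smulₛₗ, sub_self] }
  obtain ⟨g, hg⟩ := Module.projective_lifting_property (LinearMap.ker π₂).mkQ g₀
    (Submodule.mkQ_surjective _)
  refine ⟨g, fun x => ?_⟩
  have h1 := LinearMap.congr_fun hg x
  rw [LinearMap.comp_apply] at h1
  have h3 : (LinearMap.ker π₂).mkQ (g x - y x) = 0 := by
    rw [map_sub, h1]; exact sub_self _
  rw [Submodule.mkQ_apply, Submodule.Quotient.mk_eq_zero, LinearMap.mem_ker, map_sub,
    sub_eq_zero] at h3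
  rw [h3, hy]

theorem bijective_of_comm (φ : S →+* R) (hnil : ∀ a : S, φ a = 0 → IsNilpotent a)
    {P : Type*} [AddCommGroup P] [Module (WittVector p R) P]
    (Q : Type*) [AddCommGroup Q] [Module (WittVector p S) Q]
    [Module.Finite (WittVector p S) Q] (π : Q →ₛₗ[WittVector.map (p := p) φ] P)
    (kπ : LinearMap.ker π = RingHom.ker (WittVector.map (p := p) φ) •
      (⊤ : Submodule (WittVector p S) Q))
    (h : Q →ₗ[WittVector p S] Q) (hh : ∀ x, π (h x) = π x) : Function.Bijective h := by
  have hJ := ker_le_jacobson (p := p) φ hnil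
  have hs : Function.Surjective h := by
    rw [← LinearMap.range_eq_top, eq_top_iff]
    apply Submodule.le_of_le_smul_of_le_jacobson_bot (Module.finite_def.mp inferInstance) hJ
    intro x _
    have hx : x - h x ∈ RingHom.ker (WittVector.map (p := p) φ) •
        (⊤ : Submodule (WittVector p S) Q) := by
      rw [← kπ, LinearMap.mem_ker, map_sub, hh, sub_self]
    refine Submodule.mem_sup.mpr ⟨h x, ⟨x, rfl⟩, x - h x, hx, ?_⟩
    abel
  exact ⟨OrzechProperty.injective_of_surjective_endomorphism h hs, hs⟩

theorem exists_equiv (φ : S →+* R) (hnil : ∀ a : S, φ a = 0 → IsNilpotent a)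
    {P : Type*} [AddCommGroup P] [Module (WittVector p R) P]
    (P₁ : Type*) [AddCommGroup P₁] [Module (WittVector p S) P₁]
    [Module.Finite (WittVector p S) P₁] [Module.Projective (WittVector p S) P₁]
    (P₂ : Type*) [AddCommGroup P₂] [Module (WittVector p S) P₂]
    [Module.Finite (WittVector p S) P₂] [Module.Projective (WittVector p S) P₂]
    (π₁ : P₁ →ₛₗ[WittVector.map (p := p) φ] P) (π₂ : P₂ →ₛₗ[WittVector.map (p := p) φ] P)
    (h1 : Function.Surjective π₁)
    (k1 : LinearMap.ker π₁ = RingHom.ker (WittVector.map (p := p) φ) •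
      (⊤ : Submodule (WittVector p S) P₁))
    (h2 : Function.Surjective π₂)
    (k2 : LinearMap.ker π₂ = RingHom.ker (WittVector.map (p := p) φ) •
      (⊤ : Submodule (WittVector p S) P₂)) :
    ∃ e : P₁ ≃ₗ[WittVector p S] P₂, ∀ x : P₁, π₂ (e x) = π₁ x := by
  obtain ⟨g, hg⟩ := exists_semilinear_lift (WittVector.map (p := p) φ) π₁ π₂ h2
  obtain ⟨g', hg'⟩ := exists_semilinear_lift (WittVector.map (p := p) φ) π₂ π₁ h1
  have hb1 := bijective_of_comm φ hnil P₁ π₁ k1 (g' ∘ₗ g) (fun x => by rw [LinearMap.comp_apply, hg', hg])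
  have hb2 := bijective_of_comm φ hnil P₂ π₂ k2 (g ∘ₗ g') (fun x => by rw [LinearMap.comp_apply, hg, hg'])
  have hginj : Function.Injective g := by
    intro x x' hxx
    apply hb1.1
    rw [LinearMap.comp_apply, LinearMap.comp_apply, hxx]
  have hgsurj : Function.Surjective g := by
    intro y
    obtain ⟨y', hy'⟩ := hb2.2 y
    exact ⟨g' y', hy'⟩
  refine ⟨LinearEquiv.ofBijective g ⟨hginj, hgsurj⟩, fun x => ?_⟩
  rw [LinearEquiv.ofBijective_apply]
  exact hg x

end H10Lift
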