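import Mathlib
import Groth.Agent.Lib.Helper10.WittAdic

/-!
# Solving `p^u x = a` in Witt vectors over a `p`-torsion-free `p`-adically complete ring
-/

set_option autoImplicit false
universe u

namespace H10Witt

open WittVector

variable {p : ℕ} [hp : Fact p.Prime] {R : Type u} [CommRing R]

local notation "𝕎" => WittVector p

theorem pow_cancel (hR : ∀ y : R, (p : R) * y = 0 → y = 0) (i : ℕ) (y : R)
    (hy : (p : R) ^ i * y = 0) : y = 0 := by
  induction i generalizing y with
  | zero => simpa using hy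
  | succ i ih =>
    rw [pow_succ, mul_assoc] at hy
    exact hR y (ih _ hy)

/-- If the first components of `p^u y` are divisible by `p^s`, `s > u`, then those of `y` are
divisible by `p^(s-u)`. -/
theorem coeff_mem_of_pow_mul (hR : ∀ y : R, (p : R) * y = 0 → y = 0) (y : 𝕎 R) (u s : ℕ)
    (hs : u + 1 ≤ s) (i : ℕ)
    (h : ∀ j ≤ i, ((p : 𝕎 R) ^ u * y).coeff j ∈ Ideal.span {(p : R) ^ s}) :
    y.coeff i ∈ Ideal.span {(p : R) ^ (s - u)} := by
  have h1 := (Groth.Agent.S14856.result p R hR ((p : 𝕎 R) ^ u * y) i s (by omega)).mp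
      (fun j hj => Ideal.mem_span_singleton.mp (h j hj))
  have h2 : ∀ n ≤ i, (p : R) ^ (n + (s - u)) ∣ ghostComponent n y := by
    intro n hn
    obtain ⟨c, hc⟩ := h1 n hn
    rw [map_mul, map_pow, map_natCast] at hc
    refine ⟨c, ?_⟩
    rw [← sub_eq_zero]
    apply pow_cancel hR u
    have e : u + (n + (s - u)) = n + s := by omega
    rw [mul_sub, hc, ← mul_assoc, ← pow_add, e, sub_self]
  exact Ideal.mem_span_singleton.mpr
    ((Groth.Agent.S14856.result p R hR y i (s - u) (by omega)).mpr h2 i le_rfl)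

variable [IsAdicComplete (Ideal.span {(p : R)}) R]

/-- Multiplication by `p^u` is injective on truncated Witt vectors. -/
theorem coeff_eq_zero_of_pow_mul (hR : ∀ y : R, (p : R) * y = 0 → y = 0) (y : 𝕎 R) (u r : ℕ)
    (h : ∀ j < r, ((p : 𝕎 R) ^ u * y).coeff j = 0) : ∀ i < r, y.coeff i = 0 := by
  intro i hi
  apply eq_zero_of_forall_mem p _ 0
  intro n _
  have := coeff_mem_of_pow_mul hR y u (n + u + 1) (by omega) i (fun j hj => by
    rw [h j (by omega)]; exact Ideal.zero_mem _)
  exact span_pow_mono (by omega) this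

theorem exists_solution (hR : ∀ y : R, (p : R) * y = 0 → y = 0) (a : 𝕎 R) (m u : ℕ)
    (h : ∀ s : ℕ, ∃ z : 𝕎 R, ∀ i < m,
      ((p : 𝕎 R) ^ u * z - a).coeff i ∈ Ideal.span {(p : R) ^ s}) :
    ∃ x : 𝕎 R, ∀ i < m, ((p : 𝕎 R) ^ u * x - a).coeff i = 0 := by
  choose z hz using h
  have hz' : ∀ s, rho p R m s ((p : 𝕎 R) ^ u * z s) = rho p R m s a := by
    intro s
    rw [← sub_eq_zero, ← map_sub, rho_eq_zero_iff]; exact hz s
  have hC : ∀ s s', s ≤ s' → u + 1 ≤ s →
      rho p R m (s - u) (z s) = rho p R m (s - u) (z s') := by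
    intro s s' hss hus
    rw [← sub_eq_zero, ← map_sub, rho_eq_zero_iff]
    intro i hi
    apply coeff_mem_of_pow_mul hR _ u s hus i
    intro j hj
    have h0 : rho p R m s ((p : 𝕎 R) ^ u * (z s - z s')) = 0 := by
      rw [mul_sub, map_sub, hz' s, sub_eq_zero]
      exact (rho_eq_mono hss (hz' s')).symm
    exact (rho_eq_zero_iff m s _).mp h0 j (by omega)
  have hL : ∀ i, ∃ L : R, i < m → ∀ t, (z (t + u + 1)).coeff i - L ∈ Ideal.span {(p : R) ^ t} := by
    intro i
    by_cases hi : i < m
    · obtain ⟨L, hL⟩ := exists_lim_ring (p := p) (fun t => (z (t + u + 1)).coeff i) (by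
        intro t t' htt
        have h1 := hC (t + u + 1) (t' + u + 1) (by omega) (by omega)
        rw [rho_eq_iff] at h1
        exact span_pow_mono (by omega) (h1 i hi))
      exact ⟨L, fun _ => hL⟩
    · exact ⟨0, fun h => absurd h hi⟩
  choose L hL using hL
  refine ⟨WittVector.mk p L, ?_⟩
  have hx : ∀ t, rho p R m t (WittVector.mk p L) = rho p R m t (z (t + u + 1)) := by
    intro t
    rw [rho_eq_iff]
    intro i hi
    rw [WittVector.coeff_mk]
    have := (Ideal.neg_mem_iff _).mpr (hL i hi t)
    rwa [neg_sub] at this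
  have h0 : ∀ t, rho p R m t ((p : 𝕎 R) ^ u * WittVector.mk p L - a) = 0 := by
    intro t
    rw [map_sub, map_mul, hx t, ← map_mul, sub_eq_zero]
    exact rho_eq_mono (by omega) (hz' (t + u + 1))
  intro i hi
  apply eq_zero_of_forall_mem p _ 0
  intro n _
  exact (rho_eq_zero_iff m n _).mp (h0 n) i hi

theorem truncate_eq_iff (r : ℕ) (a b : 𝕎 R) :
    WittVector.truncate r a = WittVector.truncate r b ↔ ∀ i < r, (a - b).coeff i = 0 := by
  rw [← sub_eq_zero, ← map_sub, ← RingHom.mem_ker, WittVector.mem_ker_truncate]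

theorem iInf_eq (hR : ∀ y : R, (p : R) * y = 0 → y = 0) (u : ℕ) :
    (⨅ r : ℕ, ⨅ s : ℕ,
        Ideal.span {(p : 𝕎 R) ^ u} ⊔ RingHom.ker (WittVector.truncate (p := p) (R := R) r) ⊔
          RingHom.ker (WittVector.map (p := p) (Ideal.Quotient.mk (Ideal.span {(p : R) ^ s})))) =
      Ideal.span {(p : 𝕎 R) ^ u} := by
  apply le_antisymm
  · intro a ha
    have ha' : ∀ r s, a ∈ Ideal.span {(p : 𝕎 R) ^ u} ⊔
        RingHom.ker (WittVector.truncate (p := p) (R := R) r) ⊔
          RingHom.ker (WittVector.map (p := p) (Ideal.Quotient.mk (Ideal.span {(p : R) ^ s}))) := by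
      intro r s
      have h1 := (Ideal.mem_iInf.mp ha) r
      exact (Ideal.mem_iInf.mp h1) s
    -- solutions modulo each truncation
    have h1 : ∀ r, ∃ x : 𝕎 R, ∀ i < r, ((p : 𝕎 R) ^ u * x - a).coeff i = 0 := by
      intro r
      apply exists_solution hR a r u
      intro s
      obtain ⟨ab, hab, c, hc, rfl⟩ := Submodule.mem_sup.mp (ha' r s)
      obtain ⟨a1, ha1, b, hb, rfl⟩ := Submodule.mem_sup.mp hab
      obtain ⟨z, rfl⟩ := Ideal.mem_span_singleton.mp ha1
      refine ⟨z, ?_⟩
      have hb0 : rho p R r s b = 0 := by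
        rw [rho_eq_zero_iff]
        intro i hi
        rw [(WittVector.mem_ker_truncate r b).mp hb i hi]
        exact Ideal.zero_mem _
      have hc0 : rho p R r s c = 0 := by
        show WittVector.truncate r
          (WittVector.map (Ideal.Quotient.mk (Ideal.span {(p : R) ^ s})) c) = 0
        rw [(RingHom.mem_ker).mp hc, map_zero]
      have e : (p : 𝕎 R) ^ u * z - ((p : 𝕎 R) ^ u * z + b + c) = -(b + c) := by ring
      rw [e]
      apply (rho_eq_zero_iff r s _).mp
      rw [map_neg, map_add, hb0, hc0, add_zero, neg_zero]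
    choose x hx using h1
    have hx' : ∀ r, WittVector.truncate r ((p : 𝕎 R) ^ u * x r) = WittVector.truncate r a :=
      fun r => (truncate_eq_iff r _ _).mpr (hx r)
    -- compatibility
    have hcomp : ∀ r r', r ≤ r' → WittVector.truncate r (x r) = WittVector.truncate r (x r') := by
      intro r r' hrr
      rw [truncate_eq_iff]
      apply coeff_eq_zero_of_pow_mul hR _ u r
      intro j hj
      rw [mul_sub]
      have e : (p : 𝕎 R) ^ u * x r - (p : 𝕎 R) ^ u * x r' =
          ((p : 𝕎 R) ^ u * x r - a) - ((p : 𝕎 R) ^ u * x r' - a) := by ring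
      have h2 : WittVector.truncate r ((p : 𝕎 R) ^ u * x r') = WittVector.truncate r a := by
        rw [truncate_eq_iff]
        intro i hi
        exact hx r' i (by omega)
      have h3 : WittVector.truncate r ((p : 𝕎 R) ^ u * x r) =
          WittVector.truncate r ((p : 𝕎 R) ^ u * x r') := (hx' r).trans h2.symm
      exact (truncate_eq_iff r _ _).mp h3 j hj
    set X : 𝕎 R := WittVector.mk p (fun i => (x (i + 1)).coeff i) with hX
    have hXr : ∀ r, WittVector.truncate r X = WittVector.truncate r (x r) := by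
      intro r
      apply TruncatedWittVector.ext
      intro i
      rw [WittVector.coeff_truncate, WittVector.coeff_truncate, hX, WittVector.coeff_mk]
      have h4 := hcomp (i + 1) r (by have := i.2; omega)
      have h5 := congrArg (TruncatedWittVector.coeff ⟨(i : ℕ), Nat.lt_succ_self _⟩) h4
      rw [WittVector.coeff_truncate, WittVector.coeff_truncate] at h5
      exact h5
    have hfin : (p : 𝕎 R) ^ u * X = a := by
      ext k
      have h6 : WittVector.truncate (k + 1) ((p : 𝕎 R) ^ u * X) = WittVector.truncate (k + 1) a := by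
        rw [map_mul, hXr (k + 1), ← map_mul, hx' (k + 1)]
      have h7 := congrArg (TruncatedWittVector.coeff ⟨k, Nat.lt_succ_self _⟩) h6
      rw [WittVector.coeff_truncate, WittVector.coeff_truncate] at h7
      exact h7
    exact Ideal.mem_span_singleton.mpr ⟨X, hfin.symm⟩
  · exact le_iInf fun r => le_iInf fun s => le_sup_left.trans le_sup_left

end H10Witt
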